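import Cfsg.Agent.Lib.PGroup.GradedLieRing
import Mathlib.Algebra.Lie.BaseChange
import Mathlib.LinearAlgebra.TensorProduct.Basis
import Mathlib.RingTheory.AdjoinRoot
import Mathlib.RingTheory.Polynomial.Cyclotomic.Basic

/-!
# The eigenspace grading of a Lie ring with an operator of prime order

After adjoining a primitive `p`-th root of unity, a fixed point free operator of prime order `p`
on a Lie ring annihilated by an integer prime to `p` gives a grading with trivial zero component.
-/

set_option autoImplicit false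
set_option linter.style.haveILetI false
set_option linter.unusedSectionVars false

open scoped TensorProduct

namespace CfsgLib.LieEigen

universe u

variable (p : ℕ) [hp : Fact p.Prime]

/-- The ring `ℤ[ω]`. -/
abbrev CycInt : Type := AdjoinRoot (Polynomial.cyclotomic p ℤ)

/-- The root of unity. -/
noncomputable def om : CycInt p := AdjoinRoot.root _

theorem sum_om : ∑ i ∈ Finset.range p, om p ^ i = 0 := by
  have h : Polynomial.aeval (om p) (Polynomial.cyclotomic p ℤ) = 0 := by
    unfold om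
    rw [AdjoinRoot.aeval_eq, AdjoinRoot.mk_self]
  have e := congrArg (Polynomial.aeval (om p)) (Polynomial.cyclotomic_prime ℤ p)
  rw [h, map_sum] at e
  simpa using e.symm

theorem om_pow : om p ^ p = 1 := by
  have h := geom_sum_mul (om p) p
  rw [sum_om, zero_mul] at h
  exact sub_eq_zero.1 h.symm

/-- Powers indexed by residues. -/
noncomputable def pw (a : ZMod p) : CycInt p := om p ^ a.val

theorem pw_zero : pw p 0 = 1 := by simp [pw]

theorem pw_add (a b : ZMod p) : pw p (a + b) = pw p a * pw p b := by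
  haveI : NeZero p := ⟨hp.out.ne_zero⟩
  simp only [pw, ← pow_add, ZMod.val_add]
  exact (pow_eq_pow_mod _ (om_pow p)).symm

theorem sum_pw : ∑ a : ZMod p, pw p a = 0 := by
  haveI : NeZero p := ⟨hp.out.ne_zero⟩
  rw [← sum_om p]
  exact Finset.sum_nbij' (fun a : ZMod p => a.val) (fun i : ℕ => (i : ZMod p))
    (fun a _ => Finset.mem_range.2 a.val_lt) (fun _ _ => Finset.mem_univ _)
    (fun a _ => ZMod.natCast_zmod_val a) (fun i hi => ZMod.val_cast_of_lt (Finset.mem_range.1 hi))
    (fun _ _ => rfl)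

theorem sum_pw_mul (j : ZMod p) : ∑ a : ZMod p, pw p (a * j) = if j = 0 then (p : CycInt p) else 0 := by
  haveI : NeZero p := ⟨hp.out.ne_zero⟩
  split
  · next h => subst h; simp [pw_zero, ZMod.card]
  · next h =>
    rw [← sum_pw p]
    exact Fintype.sum_equiv (Equiv.mulRight₀ j h) _ _ fun a => rfl

variable {L : Type u} [LieRing L]

/-- The extended operator. -/
noncomputable def ext (α : L →+ L) : CycInt p ⊗[ℤ] L →ₗ[CycInt p] CycInt p ⊗[ℤ] L :=
  α.toIntLinearMap.baseChange (CycInt p)

theorem ext_tmul (α : L →+ L) (a : CycInt p) (x : L) : ext p α (a ⊗ₜ[ℤ] x) = a ⊗ₜ[ℤ] α x := rfl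

theorem t_lie_zero (x : CycInt p ⊗[ℤ] L) : ⁅x, (0 : CycInt p ⊗[ℤ] L)⁆ = 0 :=
  lie_zero (L := CycInt p ⊗[ℤ] L) (M := CycInt p ⊗[ℤ] L) x

theorem t_lie_add (x y z : CycInt p ⊗[ℤ] L) : ⁅x, y + z⁆ = ⁅x, y⁆ + ⁅x, z⁆ :=
  lie_add (L := CycInt p ⊗[ℤ] L) (M := CycInt p ⊗[ℤ] L) x y z

theorem t_lie_smul_smul (a b : CycInt p) (x y : CycInt p ⊗[ℤ] L) : ⁅a • x, b • y⁆ = (a * b) • ⁅x, y⁆ :=
  (smul_lie (R := CycInt p) (L := CycInt p ⊗[ℤ] L) (M := CycInt p ⊗[ℤ] L) a x (b • y)).trans
    ((congrArg (a • ·) (lie_smul (R := CycInt p) (L := CycInt p ⊗[ℤ] L) (M := CycInt p ⊗[ℤ] L) b x y)).trans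
      (smul_smul a b _))

theorem ext_lie (α : L →+ L) (hlie : ∀ x y, α ⁅x, y⁆ = ⁅α x, α y⁆) (x y : CycInt p ⊗[ℤ] L) :
    ext p α ⁅x, y⁆ = ⁅ext p α x, ext p α y⁆ := by
  induction x using TensorProduct.induction_on with
  | zero => simp
  | tmul a u =>
    induction y using TensorProduct.induction_on with
    | zero => rw [t_lie_zero, map_zero, t_lie_zero]
    | tmul b v =>
      simp only [ext_tmul, LieAlgebra.ExtendScalars.bracket_tmul, hlie]
    | add v w hv hw => rw [t_lie_add, map_add, map_add, t_lie_add, hv, hw]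
  | add v w hv hw => erw [add_lie, map_add, map_add, add_lie, hv, hw]

theorem ext_iterate (α : L →+ L) (hord : ∀ x, (α)^[p] x = x) (x : CycInt p ⊗[ℤ] L) :
    (ext p α)^[p] x = x := by
  have htm : ∀ (m : ℕ) (a : CycInt p) (u : L), (ext p α)^[m] (a ⊗ₜ[ℤ] u) = a ⊗ₜ[ℤ] (α^[m] u) := by
    intro m
    induction m with
    | zero => intro a u; rfl
    | succ m ih => intro a u; rw [Function.iterate_succ_apply', Function.iterate_succ_apply', ih, ext_tmul]
  induction x using TensorProduct.induction_on with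
  | zero => exact Function.iterate_fixed (map_zero (ext p α)) p
  | tmul a u => rw [htm, hord]
  | add v w hv hw =>
    have : ∀ m : ℕ, (ext p α)^[m] (v + w) = (ext p α)^[m] v + (ext p α)^[m] w := by
      intro m
      induction m with
      | zero => rfl
      | succ m ih => simp only [Function.iterate_succ_apply', ih, map_add]
    rw [this, hv, hw]

/-- The basis of powers of the root. -/
noncomputable def basisCyc : Module.Basis (Fin (Polynomial.cyclotomic p ℤ).natDegree) ℤ (CycInt p) :=
  (AdjoinRoot.powerBasis' (Polynomial.cyclotomic.monic p ℤ)).basis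

theorem eq_zero_of_fixed (α : L →+ L) (hfix : ∀ x, α x = x → x = 0) {y : CycInt p ⊗[ℤ] L}
    (hy : ext p α y = y) : y = 0 := by
  set e := TensorProduct.equivFinsuppOfBasisLeft (N := L) (basisCyc p) with he
  have key : ∀ (z : CycInt p ⊗[ℤ] L) i, e (ext p α z) i = α (e z i) := by
    intro z i
    induction z using TensorProduct.induction_on with
    | zero => simp
    | tmul a u =>
      rw [ext_tmul, he, TensorProduct.equivFinsuppOfBasisLeft_apply_tmul,
        TensorProduct.equivFinsuppOfBasisLeft_apply_tmul, Finsupp.mapRange_apply, Finsupp.mapRange_apply,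
        map_zsmul]
    | add v w hv hw => simp only [map_add, Finsupp.add_apply, hv, hw]
  refine e.map_eq_zero_iff.1 (Finsupp.ext fun i => hfix _ ?_)
  rw [← key, hy]

theorem one_tmul_eq_zero {x : L} (h : (1 : CycInt p) ⊗ₜ[ℤ] x = 0) : x = 0 := by
  have hd : 0 < (Polynomial.cyclotomic p ℤ).natDegree := by
    rw [Polynomial.natDegree_cyclotomic]; exact Nat.totient_pos.2 hp.out.pos
  have hb : basisCyc p ⟨0, hd⟩ = 1 := by
    unfold basisCyc
    exact ((AdjoinRoot.powerBasis' (Polynomial.cyclotomic.monic p ℤ)).basis_eq_pow _).trans (pow_zero _)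
  rw [← hb] at h
  have h1 := congrArg (fun z => TensorProduct.equivFinsuppOfBasisLeft (basisCyc p) z ⟨0, hd⟩) h
  simpa [TensorProduct.equivFinsuppOfBasisLeft_apply_tmul] using h1

theorem nsmul_eq_zero {n : ℕ} (hn : ∀ x : L, n • x = 0) (y : CycInt p ⊗[ℤ] L) : n • y = 0 := by
  induction y using TensorProduct.induction_on with
  | zero => exact smul_zero n
  | tmul a u =>
    have : ∀ m : ℕ, m • (a ⊗ₜ[ℤ] u) = a ⊗ₜ[ℤ] (m • u) := by
      intro m
      induction m with
      | zero => rw [zero_smul, zero_smul, TensorProduct.tmul_zero]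
      | succ m ih => rw [succ_nsmul, succ_nsmul, ih, TensorProduct.tmul_add]
    rw [this, hn, TensorProduct.tmul_zero]
  | add v w hv hw => rw [smul_add, hv, hw, add_zero]

/-- The eigenspace grading. -/
theorem nonempty_grading (α : L →+ L) (hlie : ∀ x y, α ⁅x, y⁆ = ⁅α x, α y⁆)
    (hord : ∀ x, (α)^[p] x = x) (hfix : ∀ x, α x = x → x = 0) {n : ℕ} (hco : n.Coprime p)
    (hn : ∀ x : L, n • x = 0) : Nonempty (GradedLie.Grading p (CycInt p ⊗[ℤ] L)) := by
  classical
  haveI : NeZero p := ⟨hp.out.ne_zero⟩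
  set β := ext p α with hβ
  have hper : ∀ (m : ℕ) (x : CycInt p ⊗[ℤ] L), β^[m] x = β^[(m : ZMod p).val] x := by
    intro m x
    rw [ZMod.val_natCast]
    conv_lhs => rw [← Nat.mod_add_div m p, Function.iterate_add_apply]
    congr 1
    rw [Function.iterate_mul]
    exact Function.iterate_fixed (ext_iterate p α hord x) _
  let E : ZMod p → CycInt p ⊗[ℤ] L → CycInt p ⊗[ℤ] L := fun a => β^[a.val]
  have hEadd : ∀ a x y, E a (x + y) = E a x + E a y := by
    intro a x y
    show β^[a.val] (x + y) = β^[a.val] x + β^[a.val] y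
    generalize a.val = m
    induction m with
    | zero => rfl
    | succ m ih => simp only [Function.iterate_succ_apply', ih, map_add]
  have hE1 : ∀ a x, β (E a x) = E (a + 1) x := by
    intro a x
    show β (β^[a.val] x) = β^[(a + 1).val] x
    rw [← Function.iterate_succ_apply' (f := ⇑β), hper, Nat.cast_succ, ZMod.natCast_zmod_val]
  let P : ZMod p → CycInt p ⊗[ℤ] L →+ CycInt p ⊗[ℤ] L := fun i =>
    AddMonoidHom.mk' (fun x => ∑ a : ZMod p, pw p (-(a * i)) • E a x) fun x y => by
      rw [← Finset.sum_add_distrib]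
      exact Finset.sum_congr rfl fun a _ => by rw [hEadd, smul_add]
  have hPeig : ∀ i x, β (P i x) = pw p i • P i x := by
    intro i x
    show β (∑ a : ZMod p, pw p (-(a * i)) • E a x) = pw p i • ∑ a : ZMod p, pw p (-(a * i)) • E a x
    rw [map_sum, Finset.smul_sum]
    simp only [map_smul, hE1, smul_smul, ← pw_add]
    exact Fintype.sum_equiv (Equiv.addRight (1 : ZMod p)) _ _ fun a => by
      simp only [Equiv.coe_addRight]
      rw [show i + -((a + 1) * i) = -(a * i) by ring]
  have hPsum : ∀ x, ∑ i : ZMod p, P i x = p • x := by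
    intro x
    show ∑ i : ZMod p, ∑ a : ZMod p, pw p (-(a * i)) • E a x = p • x
    rw [Finset.sum_comm]
    simp only [← Finset.sum_smul]
    have hs : ∀ a : ZMod p, ∑ i : ZMod p, pw p (-(a * i)) = if a = 0 then (p : CycInt p) else 0 := by
      intro a
      rw [show (if a = 0 then (p : CycInt p) else 0) = if -a = 0 then (p : CycInt p) else 0 by simp,
        ← sum_pw_mul p (-a)]
      exact Finset.sum_congr rfl fun i _ => by rw [mul_neg, mul_comm]
    simp only [hs]
    rw [Finset.sum_eq_single (0 : ZMod p) (fun a _ ha => by rw [if_neg ha, zero_smul])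
      (fun h => absurd (Finset.mem_univ _) h), if_pos rfl]
    show (p : CycInt p) • β^[(0 : ZMod p).val] x = p • x
    rw [ZMod.val_zero]
    exact Nat.cast_smul_eq_nsmul _ p x
  obtain ⟨v, u, huv⟩ := Nat.isCoprime_iff_coprime.2 hco
  have hu : ∀ x : CycInt p ⊗[ℤ] L, u • (p • x) = x := by
    intro x
    have h0 : (n : ℤ) • x = 0 := by rw [natCast_zsmul]; exact nsmul_eq_zero p hn x
    calc u • (p • x) = (u * (p : ℤ)) • x + (v * (n : ℤ)) • x := by
          rw [mul_smul, mul_smul, h0, smul_zero, add_zero, natCast_zsmul]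
      _ = x := by rw [← add_smul, add_comm, huv, one_smul]
  let Cs : ZMod p → AddSubgroup (CycInt p ⊗[ℤ] L) := fun i =>
    AddMonoidHom.ker (β.toAddMonoidHom - (pw p i • (LinearMap.id : CycInt p ⊗[ℤ] L →ₗ[CycInt p] _)).toAddMonoidHom)
  have hmem : ∀ i x, x ∈ Cs i ↔ β x = pw p i • x := fun i x => by
    show β x - pw p i • x = 0 ↔ _
    exact sub_eq_zero
  have hpow : ∀ (j : ZMod p) x, β x = pw p j • x → ∀ a, E a x = pw p (a * j) • x := by
    intro j x hx a
    show β^[a.val] x = _
    conv_rhs => rw [← ZMod.natCast_zmod_val a]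
    generalize a.val = m
    induction m with
    | zero => simp [pw_zero]
    | succ m ih =>
      rw [Function.iterate_succ_apply', ih, map_smul, hx, smul_smul, ← pw_add, Nat.cast_succ, add_mul,
        one_mul]
  have hPj : ∀ i j x, x ∈ Cs j → P i x = if i = j then p • x else 0 := by
    intro i j x hx
    show ∑ a : ZMod p, pw p (-(a * i)) • E a x = _
    simp only [hpow j x ((hmem j x).1 hx), smul_smul, ← pw_add, ← Finset.sum_smul]
    rw [show ∑ a : ZMod p, pw p (-(a * i) + a * j) = ∑ a : ZMod p, pw p (a * (j - i)) from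
      Finset.sum_congr rfl fun a _ => by ring_nf, sum_pw_mul]
    by_cases hij : i = j
    · rw [if_pos hij, if_pos (sub_eq_zero.2 hij.symm), Nat.cast_smul_eq_nsmul]
    · rw [if_neg hij, if_neg (sub_ne_zero.2 (Ne.symm hij)), zero_smul]
  refine ⟨{ C := Cs
            proj := fun i => (u • AddMonoidHom.id _).comp (P i)
            zero := ?_, mul := ?_, top := ?_, proj_self := ?_, proj_ne := ?_ }⟩
  · refine eq_bot_iff.2 fun x hx => AddSubgroup.mem_bot.2 (eq_zero_of_fixed p α hfix ?_)
    rw [hmem, pw_zero, one_smul] at hx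
    exact hx
  · intro i j x hx y hy
    rw [hmem] at hx hy ⊢
    rw [hβ, ext_lie p α hlie, ← hβ, hx, hy]
    rw [t_lie_smul_smul, ← pw_add]
  · intro x
    rw [← hu x, ← hPsum, Finset.smul_sum]
    exact AddSubgroup.sum_mem _ fun i _ =>
      AddSubgroup.mem_iSup_of_mem i (zsmul_mem ((hmem i _).2 (hPeig i x)) u)
  · intro i x hx
    show u • P i x = x
    rw [hPj i i x hx, if_pos rfl, hu]
  · intro i j hij x hx
    show u • P i x = 0
    rw [hPj i j x hx, if_neg hij, smul_zero]

/-- The class bounds for a Lie ring with a fixed point free operator of prime order. -/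
theorem lcl_bounds (α : L →+ L) (hlie : ∀ x y, α ⁅x, y⁆ = ⁅α x, α y⁆)
    (hord : ∀ x, (α)^[p] x = x) (hfix : ∀ x, α x = x → x = 0) {n : ℕ} (hco : n.Coprime p)
    (hn : ∀ x : L, n • x = 0) :
    GradedLie.lcl L (∑ i ∈ Finset.range (2 ^ (p - 1) - 1), (p - 1) ^ i) = ⊥ ∧
      (p = 3 → GradedLie.lcl L 2 = ⊥) := by
  obtain ⟨gr⟩ := nonempty_grading p α hlie hord hfix hco hn
  have hι : ∀ (m : ℕ), ∀ x ∈ GradedLie.lcl L m,
      (1 : CycInt p) ⊗ₜ[ℤ] x ∈ GradedLie.lcl (CycInt p ⊗[ℤ] L) m := by
    intro m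
    induction m with
    | zero => exact fun _ _ => AddSubgroup.mem_top _
    | succ m ih =>
      intro x hx
      induction hx using AddSubgroup.closure_induction with
      | mem z hz =>
        obtain ⟨a, ha, b, -, rfl⟩ := hz
        have h := GradedLie.lie_mem_lb (ih a ha) (AddSubgroup.mem_top ((1 : CycInt p) ⊗ₜ[ℤ] b))
        rwa [LieAlgebra.ExtendScalars.bracket_tmul, one_mul] at h
      | zero => rw [TensorProduct.tmul_zero]; exact zero_mem _
      | add a b _ _ ia ib => rw [TensorProduct.tmul_add]; exact add_mem ia ib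
      | neg a _ ia => rw [TensorProduct.tmul_neg]; exact neg_mem ia
  have hdown : ∀ m, GradedLie.lcl (CycInt p ⊗[ℤ] L) m = ⊥ → GradedLie.lcl L m = ⊥ := by
    intro m hm
    refine eq_bot_iff.2 fun x hx => AddSubgroup.mem_bot.2 (one_tmul_eq_zero p ?_)
    have := hι m x hx
    rwa [hm, AddSubgroup.mem_bot] at this
  exact ⟨hdown _ (GradedLie.lcl_eq_bot gr), fun h3 => hdown _ (GradedLie.lcl_two_eq_bot gr h3)⟩

end CfsgLib.LieEigen
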