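import Cfsg.Prelude.Def_Solvable
import Cfsg.Prelude.Def_CaseTheorems
import Mathlib.GroupTheory.Nilpotent
import Mathlib.GroupTheory.Sylow
import Mathlib.GroupTheory.IsSubnormal
import Mathlib.GroupTheory.Index

/-!
Basic facts about cores, powers and subnormal subgroups used in the PGroup library.
-/

set_option linter.style.haveILetI false

namespace CfsgLib.PGroup

open Subgroup

variable {G : Type*} [Group G]

/-- A power lemma: if for every prime some exponent prime to it sends `x` into `S`, then `x ∈ S`. -/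
theorem mem_of_forall_prime_pow_mem [Finite G] {S : Subgroup G} {x : G}
    (h : ∀ p : ℕ, p.Prime → ∃ k : ℕ, ¬ p ∣ k ∧ x ^ k ∈ S) : x ∈ S := by
  classical
  have hex : ∃ d : ℕ, 0 < d ∧ x ^ d ∈ S := ⟨orderOf x, orderOf_pos x, by simp [pow_orderOf_eq_one]⟩
  obtain ⟨hd0, hdS⟩ := Nat.find_spec hex
  set d := Nat.find hex with hd
  by_cases hd1 : d = 1
  · simpa [hd1] using hdS
  · obtain ⟨p, hp, hpd⟩ := Nat.exists_prime_and_dvd hd1
    obtain ⟨k, hpk, hkS⟩ := h p hp
    have hg : x ^ Nat.gcd d k ∈ S := by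
      have := Nat.gcd_eq_gcd_ab d k
      rw [← zpow_natCast, this, zpow_add, zpow_mul, zpow_mul, zpow_natCast, zpow_natCast]
      exact S.mul_mem (S.zpow_mem hdS _) (S.zpow_mem hkS _)
    have hle : d ≤ Nat.gcd d k := Nat.find_min' hex ⟨Nat.gcd_pos_of_pos_left _ hd0, hg⟩
    have heq : Nat.gcd d k = d :=
      le_antisymm (Nat.le_of_dvd hd0 (Nat.gcd_dvd_left _ _)) hle
    exact absurd (hpd.trans (heq ▸ Nat.gcd_dvd_right d k)) hpk

/-- For a subnormal subgroup, every element raised to the index lies in the subgroup. -/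
theorem pow_index_mem_of_isSubnormal {H : Subgroup G} (hH : H.IsSubnormal) (x : G) :
    x ^ H.index ∈ H := by
  induction hH with
  | top => simp
  | step H K hle _ hN ih =>
    have h2 := (H.subgroupOf K).pow_index_mem ⟨x ^ K.index, ih⟩
    rw [mem_subgroupOf] at h2
    rw [← relIndex_mul_index hle, mul_comm, pow_mul]
    simpa [relIndex] using h2

/-- In a finite nilpotent group every subgroup is subnormal. -/
theorem isSubnormal_of_isNilpotent [Finite G] [Group.IsNilpotent G] (H : Subgroup G) :
    H.IsSubnormal := by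
  induction H using WellFoundedGT.induction with
  | _ H ih =>
    by_cases hT : H = ⊤
    · subst hT; exact IsSubnormal.top
    · have hlt := Group.normalizerCondition_of_isNilpotent H (lt_top_iff_ne_top.2 hT)
      exact IsSubnormal.step H _ H.le_normalizer (ih _ hlt) inferInstance

/-- In a finite `p`-group every element raised to the index of a subgroup lies in it. -/
theorem pow_index_mem_of_isPGroup [Finite G] {p : ℕ} [Fact p.Prime] (hG : IsPGroup p G)
    (H : Subgroup G) (x : G) : x ^ H.index ∈ H := by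
  haveI := hG.isNilpotent
  exact pow_index_mem_of_isSubnormal (isSubnormal_of_isNilpotent H) x

theorem card_sup_dvd_of_normal [Finite G] (H N : Subgroup G) [N.Normal] :
    Nat.card ↥(H ⊔ N) ∣ Nat.card H * Nat.card N := by
  rw [← relIndex_bot_left, ← relIndex_bot_left, ← relIndex_bot_left,
    ← relIndex_mul_relIndex ⊥ N (H ⊔ N) bot_le le_sup_right, relIndex_sup_right, mul_comm]
  refine mul_dvd_mul_right ?_ _
  rw [relIndex_bot_left]
  exact relIndex_dvd_card N H

/-- `[HN : H] = [N : H ⊓ N]` divides the index of `H`, for `N` normal. -/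
theorem relIndex_dvd_index_normal_right [Finite G] (H N : Subgroup G) [N.Normal] :
    H.relIndex N ∣ H.index := by
  refine Dvd.intro (H ⊔ N).index ?_
  have e1 := relIndex_mul_relIndex ⊥ N (H ⊔ N) bot_le le_sup_right
  have e2 := relIndex_mul_relIndex ⊥ H (H ⊔ N) bot_le le_sup_left
  have e3 := relIndex_mul_relIndex ⊥ (H ⊓ N) H bot_le inf_le_left
  have e4 := relIndex_mul_relIndex ⊥ (H ⊓ N) N bot_le inf_le_right
  simp only [relIndex_bot_left, relIndex_sup_right, inf_relIndex_left, inf_relIndex_right] at e1 e2 e3 e4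
  have : H.relIndex (H ⊔ N) = H.relIndex N := by
    apply Nat.eq_of_mul_eq_mul_left (Nat.card_pos (α := H))
    rw [e2, ← e1, ← e4, ← e3]; ring
  rw [← this]
  exact relIndex_mul_index le_sup_left

theorem isPGroup_pCore (p : ℕ) (G : Type*) [Group G] : IsPGroup p (Cfsg.pCore p G) :=
  Sylow.sSup_of_normal _ (fun _ h => h.2) (fun _ h => h.1)

theorem le_pCore {p : ℕ} {N : Subgroup G} (hN : N.Normal) (hp : IsPGroup p N) :
    N ≤ Cfsg.pCore p G :=
  le_sSup ⟨hN, hp⟩

theorem iInf_sylow_le_pCore [Finite G] (p : ℕ) [Fact p.Prime] :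
    (⨅ P : Sylow p G, (P : Subgroup G)) ≤ Cfsg.pCore p G := by
  refine le_pCore ⟨fun n hn g => ?_⟩ ?_
  · rw [mem_iInf] at hn ⊢
    intro P
    have := hn (g⁻¹ • P)
    rw [Sylow.coe_subgroup_smul, mem_pointwise_smul_iff_inv_smul_mem] at this
    simpa [MulAut.smul_def, MulAut.conj_apply, mul_assoc] using this
  · exact (Classical.arbitrary (Sylow p G)).2.to_le (iInf_le _ _)

theorem pCore_le_sylow [Finite G] {p : ℕ} [Fact p.Prime] (P : Sylow p G) :
    Cfsg.pCore p G ≤ P :=
  (isPGroup_pCore p G).le_sylow_of_normal P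

theorem card_pPrimeCore_coprime [Finite G] (p : ℕ) :
    (Nat.card (Cfsg.pPrimeCore p G)).Coprime p := by
  classical
  unfold Cfsg.pPrimeCore
  set S := {N : Subgroup G | N.Normal ∧ (Nat.card N).Coprime p} with hS
  have hfin : S.Finite := Set.toFinite _
  have key : ∀ T : Finset (Subgroup G), (∀ N ∈ T, N ∈ S) →
      (T.sup id).Normal ∧ (Nat.card ↥(T.sup id)).Coprime p := by
    intro T
    induction T using Finset.induction_on with
    | empty => intro _; exact ⟨by rw [Finset.sup_empty]; infer_instance, by simp⟩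
    | @insert N T _ ih =>
      intro hT
      obtain ⟨hn, hc⟩ := hT N (Finset.mem_insert_self _ _)
      obtain ⟨hTn, hTc⟩ := ih (fun M hM => hT M (Finset.mem_insert_of_mem hM))
      rw [Finset.sup_insert, id_eq]
      exact ⟨Subgroup.sup_normal _ _,
        Nat.Coprime.coprime_dvd_left (card_sup_dvd_of_normal _ _) (hc.mul_left hTc)⟩
  have := (key hfin.toFinset (fun N hN => hfin.mem_toFinset.1 hN)).2
  rwa [show hfin.toFinset.sup id = sSup S by rw [Finset.sup_id_eq_sSup, hfin.coe_toFinset]] at this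

/-- The part prime to `p` of the order of `G`. -/
noncomputable def pPrimePart (p : ℕ) (G : Type*) [Group G] : ℕ := ordCompl[p] (Nat.card G)

theorem not_dvd_pPrimePart [Finite G] {p : ℕ} (hp : p.Prime) : ¬ p ∣ pPrimePart p G :=
  Nat.not_dvd_ordCompl hp Nat.card_pos.ne'

theorem pPrimePart_eq_index [Finite G] {p : ℕ} [Fact p.Prime] (P : Sylow p G) :
    pPrimePart p G = (P : Subgroup G).index := by
  have h1 := (P : Subgroup G).card_mul_index
  rw [P.card_eq_multiplicity] at h1
  have h2 := Nat.ordProj_mul_ordCompl_eq_self (Nat.card G) p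
  exact Nat.eq_of_mul_eq_mul_left (Nat.ordProj_pos _ _) (h2.trans h1.symm)

/-- Every element of the Fitting subgroup has its `p`-part in the `p`-core. -/
theorem pow_pPrimePart_mem_pCore [Finite G] {p : ℕ} [hp : Fact p.Prime] {x : G}
    (hx : x ∈ Cfsg.fittingSubgroup G) : x ^ pPrimePart p G ∈ Cfsg.pCore p G := by
  set O := Cfsg.pCore p G with hO
  set M := Cfsg.pPrimeCore p G with hM
  have hle : Cfsg.fittingSubgroup G ≤ O ⊔ M := by
    refine sSup_le ?_
    rintro N ⟨hN, hnil⟩
    intro n hn
    refine mem_of_forall_prime_pow_mem fun r hr => ?_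
    haveI := Fact.mk hr
    let Q : Sylow r N := Classical.arbitrary _
    haveI : (Q : Subgroup N).Normal := inferInstance
    haveI : (Q : Subgroup N).Characteristic := Q.characteristic_of_normal inferInstance
    haveI := hN
    have hQn : ((Q : Subgroup N).map N.subtype).Normal := inferInstance
    have hQp : IsPGroup r ((Q : Subgroup N).map N.subtype) := Q.2.map _
    refine ⟨(Q : Subgroup N).index, Q.not_dvd_index, ?_⟩
    have hmem : (⟨n, hn⟩ : N) ^ (Q : Subgroup N).index ∈ (Q : Subgroup N) :=
      (Q : Subgroup N).pow_index_mem _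
    have hmem' : n ^ (Q : Subgroup N).index ∈ (Q : Subgroup N).map N.subtype :=
      ⟨_, hmem, by simp⟩
    by_cases hrp : r = p
    · subst hrp; exact le_sup_left (α := Subgroup G) (le_pCore hQn hQp hmem')
    · have : (Nat.card ((Q : Subgroup N).map N.subtype)).Coprime p := by
        obtain ⟨k, hk⟩ := IsPGroup.iff_card.1 hQp
        rw [hk]; exact Nat.Coprime.pow_left _ ((Nat.coprime_primes hr hp.1).2 hrp)
      exact le_sup_right (α := Subgroup G) ((le_sSup ⟨hQn, this⟩ : _ ≤ M) hmem')
  have hxOM := hle hx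
  rw [sup_comm, Subgroup.mem_sup_of_normal_right] at hxOM
  obtain ⟨y, hy, z, hz, hyz⟩ := hxOM
  have h1 : y ^ pPrimePart p G = 1 := by
    refine orderOf_dvd_iff_pow_eq_one.1 ?_
    have hd1 : orderOf y ∣ Nat.card G := orderOf_dvd_natCard y
    have hd2 : orderOf y ∣ Nat.card M := orderOf_dvd_natCard M hy
    have hc : (orderOf y).Coprime (ordProj[p] (Nat.card G)) :=
      ((card_pPrimeCore_coprime p).coprime_dvd_left hd2).pow_right _
    rw [← Nat.ordProj_mul_ordCompl_eq_self (Nat.card G) p] at hd1
    exact hc.dvd_of_dvd_mul_left hd1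
  have h3 : (QuotientGroup.mk' O) x = (QuotientGroup.mk' O) y := by
    rw [← hyz, map_mul, (QuotientGroup.eq_one_iff z).2 hz |> fun h => (show QuotientGroup.mk' O z = 1 from h), mul_one]
  have : (QuotientGroup.mk' O) (x ^ pPrimePart p G) = 1 := by
    rw [map_pow, h3, ← map_pow, h1, map_one]
  exact (QuotientGroup.eq_one_iff _).1 this

end CfsgLib.PGroup
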