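import Cfsg.Agent.Lib.Coprime.Core
import Cfsg.Agent.Lib.PGroup.Basic

/-!
# Short tools: class sizes and actions on cyclic groups
-/

set_option autoImplicit false

namespace CfsgLib.PGroup

open Subgroup

variable {G : Type*} [Group G]

/-- The size of a conjugacy class is the index of the centralizer. -/
theorem card_setOf_isConj (g : G) :
    Nat.card {h : G // IsConj g h} = (centralizer ({g} : Set G)).index := by
  let f : G ⧸ centralizer ({g} : Set G) → {h : G // IsConj g h} := fun q =>
    Quotient.liftOn' q (fun x => ⟨x * g * x⁻¹, isConj_iff.2 ⟨x, rfl⟩⟩) fun a b hab => by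
      rw [QuotientGroup.leftRel_apply, mem_centralizer_singleton_iff] at hab
      refine Subtype.ext ?_
      calc a * g * a⁻¹ = a * (g * (a⁻¹ * b)) * b⁻¹ := by group
        _ = b * g * b⁻¹ := by rw [← hab]; group
  have hf : Function.Bijective f := by
    refine ⟨?_, fun h => ?_⟩
    · intro q r
      induction q using QuotientGroup.induction_on with
      | H a =>
        induction r using QuotientGroup.induction_on with
        | H b =>
          intro hab
          have hab' : a * g * a⁻¹ = b * g * b⁻¹ := congrArg Subtype.val hab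
          refine QuotientGroup.eq.2 (mem_centralizer_singleton_iff.2 ?_)
          calc a⁻¹ * b * g = a⁻¹ * (b * g * b⁻¹) * b := by group
            _ = g * (a⁻¹ * b) := by rw [← hab']; group
    · obtain ⟨x, hx⟩ := isConj_iff.1 h.2
      exact ⟨(x : G ⧸ centralizer ({g} : Set G)), Subtype.ext hx⟩
  rw [index, Nat.card_congr (Equiv.ofBijective f hf)]

/-- Powers of an element raising `a` to a fixed power. -/
theorem conj_pow_of_conj_eq_zpow {g a : G} {r : ℤ} (h : g * a * g⁻¹ = a ^ r) (k : ℕ) :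
    g ^ k * a * (g ^ k)⁻¹ = a ^ r ^ k := by
  induction k with
  | zero => simp
  | succ k ih =>
    calc g ^ (k + 1) * a * (g ^ (k + 1))⁻¹ = g * (g ^ k * a * (g ^ k)⁻¹) * g⁻¹ := by
          rw [pow_succ']; group
      _ = (g * a * g⁻¹) ^ r ^ k := by rw [ih, conj_zpow]
      _ = a ^ r ^ (k + 1) := by rw [h, ← zpow_mul, pow_succ']

/-- An element inducing a power congruent to one on a cyclic `p`-group has a `p`-power in the
centralizer. -/
theorem commute_pow_of_conj_eq_zpow {p n : ℕ} {g a : G} {r : ℤ} (h : g * a * g⁻¹ = a ^ r)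
    (hr : (p : ℤ) ∣ r - 1) (ha : a ^ p ^ n = 1) : Commute (g ^ p ^ n) a := by
  have h1 := dvd_sub_pow_of_dvd_sub hr n
  rw [one_pow] at h1
  have h2 : a ^ (r ^ p ^ n - 1) = 1 := by
    obtain ⟨c, hc⟩ := h1
    rw [hc, show (p : ℤ) ^ (n + 1) = ((p ^ n : ℕ) : ℤ) * p by push_cast; ring, mul_assoc, zpow_mul,
      zpow_natCast, ha, one_zpow]
  rw [zpow_sub, zpow_one, mul_inv_eq_one] at h2
  have h3 := conj_pow_of_conj_eq_zpow h (p ^ n)
  rw [h2, mul_inv_eq_iff_eq_mul] at h3
  exact h3

/-- An element with a `p`-power and a power prime to `p` in a subgroup lies in it. -/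
theorem mem_of_pow_mem_coprime [Finite G] {S : Subgroup G} {x : G} {p m n : ℕ} (hp : p.Prime)
    (h1 : x ^ p ^ n ∈ S) (hm : ¬ p ∣ m) (h2 : x ^ m ∈ S) : x ∈ S := by
  refine mem_of_forall_prime_pow_mem fun q hq => ?_
  rcases eq_or_ne q p with rfl | hqp
  · exact ⟨m, hm, h2⟩
  · exact ⟨p ^ n, fun hd => hqp ((Nat.prime_dvd_prime_iff_eq hq hp).1 (hq.dvd_of_dvd_pow hd)), h1⟩

/-- An element of a finite group has a power prime to `p` generating a `p`-group. -/
theorem exists_pow_isPGroup [Finite G] {p : ℕ} [hp : Fact p.Prime] (g : G) :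
    ∃ m : ℕ, ¬ p ∣ m ∧ IsPGroup p (zpowers (g ^ m)) := by
  obtain ⟨k, m, hm, hkm⟩ :=
    Nat.exists_eq_pow_mul_and_not_dvd (orderOf_pos g).ne' p hp.out.ne_one
  refine ⟨m, hm, IsPGroup.of_card (n := k) ?_⟩
  rw [Nat.card_zpowers, orderOf_pow_of_dvd (fun e => hm (by simp [e]))
    (Dvd.intro_left _ hkm.symm), hkm, Nat.mul_div_cancel _ (Nat.pos_of_ne_zero fun e => hm (by simp [e]))]

end CfsgLib.PGroup
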