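import Mathlib
import Cfsg.Agent.Lib.PGroup.ShortTools
import Cfsg.Agent.Lib.Fusion.Residual

/-!
# Tools for cyclic Sylow subgroups and abelian `p'`-subgroups

Elementary facts about the action of the normalizer of a cyclic Sylow `p`-subgroup, the splitting
of elements into parts, and `p'`-subgroups that are assumed to be abelian.
-/

set_option autoImplicit false
open Subgroup

namespace CfsgLib.PGroup.CSylow

universe u
variable {G : Type u} [Group G] [Finite G] {p : ℕ} [hp : Fact p.Prime]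

/-- An element lies in a subgroup as soon as its `p`-part and its `p'`-part do. -/
theorem mem_of_parts {S : Subgroup G} {g : G}
    (h1 : ∀ j : ℕ, (orderOf (g ^ j)).Coprime p → g ^ j ∈ S)
    (h2 : ∀ j : ℕ, IsPGroup p (zpowers (g ^ j)) → g ^ j ∈ S) : g ∈ S := by
  obtain ⟨m, hm, hmp⟩ := exists_pow_isPGroup (p := p) g
  obtain ⟨k, m', hm', hkm⟩ :=
    Nat.exists_eq_pow_mul_and_not_dvd (orderOf_pos g).ne' p hp.out.ne_one
  refine mem_of_pow_mem_coprime hp.out (n := k) (h1 _ (Nat.Coprime.coprime_dvd_left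
      (orderOf_dvd_of_pow_eq_one (by rw [← pow_mul, ← hkm, pow_orderOf_eq_one]))
      ((hp.out.coprime_iff_not_dvd.2 hm').symm))) hm (h2 _ hmp)

omit [Finite G] in
theorem coprime_of_sq {g : G} (hp2 : p ≠ 2) (h : g * g = 1) : (orderOf g).Coprime p :=
  Nat.Coprime.coprime_dvd_left (orderOf_dvd_of_pow_eq_one (by rw [pow_two, h]))
    ((Nat.coprime_primes Nat.prime_two hp.out).2 (Ne.symm hp2))

omit [Finite G] in
theorem eq_one_of_coprime_of_isPGroup {g : G} (h : (orderOf g).Coprime p)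
    (h' : IsPGroup p (zpowers g)) : g = 1 := by
  obtain ⟨k, hk⟩ := h' ⟨g, mem_zpowers g⟩
  have hk' : g ^ p ^ k = 1 := by simpa [Subtype.ext_iff] using hk
  rw [← orderOf_eq_one_iff]
  exact Nat.Coprime.eq_one_of_dvd (h.pow_right k) (orderOf_dvd_of_pow_eq_one hk')

/-- A `p`-subgroup of the normalizer of a Sylow subgroup lies in it. -/
theorem le_sylow_of_le_normalizer (P : Sylow p G) {Q : Subgroup G} (hQ : IsPGroup p Q)
    (h : Q ≤ normalizer ((P : Subgroup G) : Set G)) : Q ≤ P :=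
  le_sup_right.trans (P.3 (P.2.to_sup_of_normal_left' hQ h) le_sup_left).le

theorem mem_sylow_of_mem_normalizer (P : Sylow p G) {g : G} (hg : IsPGroup p (zpowers g))
    (h : g ∈ normalizer ((P : Subgroup G) : Set G)) : g ∈ (P : Subgroup G) :=
  le_sylow_of_le_normalizer P hg (zpowers_le.2 h) (mem_zpowers g)

theorem exists_sylow_mem {g : G} (hg : IsPGroup p (zpowers g)) : ∃ P : Sylow p G, g ∈ (P : Subgroup G) :=
  let ⟨P, hP⟩ := hg.exists_le_sylow; ⟨P, hP (mem_zpowers g)⟩

theorem sylow_eq_of_le_normalizer (P P' : Sylow p G)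
    (h : (P' : Subgroup G) ≤ normalizer ((P : Subgroup G) : Set G)) : P = P' :=
  Sylow.ext (P'.3 P.2 (le_sylow_of_le_normalizer P P'.2 h))

theorem exists_conjugator (P P' : Sylow p G) :
    ∃ g : G, ∀ a, a ∈ (P' : Subgroup G) ↔ g⁻¹ * a * g ∈ (P : Subgroup G) := by
  obtain ⟨g, rfl⟩ := MulAction.exists_smul_eq G P P'
  refine ⟨g, fun a => ?_⟩
  rw [Sylow.coe_subgroup_smul]
  open scoped Pointwise in rw [Subgroup.mem_pointwise_smul_iff_inv_smul_mem]
  simp [MulAut.conj_apply]

theorem isCyclic_sylow (P P' : Sylow p G) (h : IsCyclic (P : Subgroup G)) :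
    IsCyclic (P' : Subgroup G) :=
  haveI := h; isCyclic_of_surjective (P.equiv P') (P.equiv P').surjective

theorem isCyclic_sylow_subgroup (P : Sylow p G) (h : IsCyclic (P : Subgroup G)) {L : Subgroup G}
    (S : Sylow p L) : IsCyclic (S : Subgroup L) := by
  obtain ⟨P', hP'⟩ := (S.2.map L.subtype).exists_le_sylow
  haveI := isCyclic_sylow P P' h
  haveI : IsCyclic ((S : Subgroup L).map L.subtype) :=
    isCyclic_of_injective (Subgroup.inclusion hP') (Subgroup.inclusion_injective hP')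
  let e := (S : Subgroup L).equivMapOfInjective L.subtype L.subtype_injective
  exact isCyclic_of_surjective e.symm e.symm.surjective

section Cyclic

variable (P : Sylow p G)

omit [Finite G] hp in
theorem commute_of_mem (hP : IsCyclic (P : Subgroup G)) {a b : G} (ha : a ∈ (P : Subgroup G))
    (hb : b ∈ (P : Subgroup G)) : a * b = b * a :=
  haveI := hP
  letI := IsCyclic.commGroup (α := (P : Subgroup G))
  congrArg Subtype.val (mul_comm (⟨a, ha⟩ : (P : Subgroup G)) ⟨b, hb⟩)

/-- A generator, the exponent, and the effect of an element of the normalizer. -/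
theorem exists_power (hP : IsCyclic (P : Subgroup G)) {g : G}
    (hg : g ∈ normalizer ((P : Subgroup G) : Set G)) :
    ∃ (x : G) (n : ℕ) (r : ℤ), x ∈ (P : Subgroup G) ∧ orderOf x = p ^ n ∧
      (∀ a ∈ (P : Subgroup G), ∃ j : ℤ, a = x ^ j) ∧ g * x * g⁻¹ = x ^ r := by
  obtain ⟨⟨x, hxP⟩, hx⟩ := hP.exists_generator
  have hgen : ∀ a ∈ (P : Subgroup G), ∃ j : ℤ, a = x ^ j := fun a ha => by
    obtain ⟨j, hj⟩ := hx ⟨a, ha⟩
    exact ⟨j, (congrArg Subtype.val hj).symm⟩
  obtain ⟨n, hn⟩ := IsPGroup.iff_orderOf.1 P.2 ⟨x, hxP⟩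
  obtain ⟨r, hr⟩ := hgen _ ((mem_normalizer_iff.1 hg x).1 hxP)
  exact ⟨x, n, r, hxP, by rwa [orderOf_mk] at hn, hgen, hr⟩

theorem mem_centralizer_of_residue (hP : IsCyclic (P : Subgroup G)) {g x : G} {n : ℕ} {r : ℤ}
    (hc : (orderOf g).Coprime p) (hn : orderOf x = p ^ n)
    (hgen : ∀ a ∈ (P : Subgroup G), ∃ j : ℤ, a = x ^ j) (hr : g * x * g⁻¹ = x ^ r)
    (hdvd : (p : ℤ) ∣ r - 1) : g ∈ centralizer ((P : Subgroup G) : Set G) := by
  have h1 := commute_pow_of_conj_eq_zpow hr hdvd (n := n) (by rw [← hn, pow_orderOf_eq_one])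
  obtain ⟨j, hj⟩ := exists_pow_eq_self_of_coprime (hc.symm.pow_left n)
  have h2 := h1.pow_left j
  rw [hj] at h2
  refine mem_centralizer_iff.2 fun a ha => ?_
  obtain ⟨i, rfl⟩ := hgen a ha
  exact ((h2.symm).zpow_left i).eq

/-- A `p'`-element of the normalizer fixing a non-identity element centralizes the subgroup. -/
theorem mem_centralizer_of_commute (hP : IsCyclic (P : Subgroup G)) {g a : G}
    (hg : g ∈ normalizer ((P : Subgroup G) : Set G)) (hc : (orderOf g).Coprime p)
    (ha : a ∈ (P : Subgroup G)) (ha1 : a ≠ 1) (h : Commute g a) :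
    g ∈ centralizer ((P : Subgroup G) : Set G) := by
  obtain ⟨x, n, r, -, hn, hgen, hr⟩ := exists_power P hP hg
  obtain ⟨j, rfl⟩ := hgen a ha
  refine mem_centralizer_of_residue P hP hc hn hgen hr ?_
  by_contra hd
  refine ha1 ?_
  have h1 : x ^ (r * j) = x ^ j := by
    rw [zpow_mul, ← hr, conj_zpow, h.eq, mul_inv_cancel_right]
  have h2 : ((p ^ n : ℕ) : ℤ) ∣ (r - 1) * j := by
    rw [← hn, orderOf_dvd_iff_zpow_eq_one, sub_mul, one_mul, zpow_sub, h1, mul_inv_cancel]
  have h3 : ((p ^ n : ℕ) : ℤ) ∣ j := by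
    refine IsCoprime.dvd_of_dvd_mul_left ?_ h2
    rw [Nat.cast_pow]
    exact ((Nat.prime_iff_prime_int.1 hp.out).coprime_iff_not_dvd.2 hd).pow_left
  rw [← hn, orderOf_dvd_iff_zpow_eq_one] at h3
  exact h3

theorem mem_centralizer_of_coprime_commutators (hP : IsCyclic (P : Subgroup G)) {g : G}
    (hg : g ∈ normalizer ((P : Subgroup G) : Set G)) (hc : (orderOf g).Coprime p) {K : Subgroup G}
    (hK : ¬ p ∣ Nat.card K) (hgK : ∀ a ∈ (P : Subgroup G), g * a * g⁻¹ * a⁻¹ ∈ K) :
    g ∈ centralizer ((P : Subgroup G) : Set G) := by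
  refine mem_centralizer_iff.2 fun a ha => ?_
  have hmem : g * a * g⁻¹ * a⁻¹ ∈ (P : Subgroup G) ⊓ K :=
    Subgroup.mem_inf.2 ⟨Subgroup.mul_mem _ ((mem_normalizer_iff.1 hg a).1 ha) (Subgroup.inv_mem _ ha), hgK a ha⟩
  obtain ⟨n, hn⟩ := P.2.exists_card_eq
  have : (P : Subgroup G) ⊓ K = ⊥ :=
    inf_eq_bot_of_coprime (by rw [hn]; exact (hp.out.coprime_iff_not_dvd.2 hK).pow_left n)
  rw [this, mem_bot, mul_inv_eq_one, mul_inv_eq_iff_eq_mul] at hmem
  exact hmem.symm

/-- An involution of the normalizer outside the centralizer inverts. -/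
theorem conj_eq_inv (hP : IsCyclic (P : Subgroup G)) (hp2 : p ≠ 2) {g : G}
    (hg : g ∈ normalizer ((P : Subgroup G) : Set G)) (h2 : g * g = 1)
    (hgC : g ∉ centralizer ((P : Subgroup G) : Set G)) {a : G} (ha : a ∈ (P : Subgroup G)) :
    g * a * g⁻¹ = a⁻¹ := by
  have hb : g * a * g⁻¹ ∈ (P : Subgroup G) := (mem_normalizer_iff.1 hg a).1 ha
  have hcom := commute_of_mem P hP hb ha
  have hgi : g⁻¹ = g := inv_eq_of_mul_eq_one_right h2
  have hfix : Commute g (g * a * g⁻¹ * a) := by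
    rw [commute_iff_eq]
    calc g * (g * a * g⁻¹ * a) = g * g * a * g⁻¹ * a := by group
      _ = a * g * a := by rw [h2, one_mul, hgi]
      _ = a * (g * a * g⁻¹) * g := by group
      _ = g * a * g⁻¹ * a * g := by rw [hcom]
  by_contra hne
  exact hgC (mem_centralizer_of_commute P hP hg (coprime_of_sq hp2 h2)
    (Subgroup.mul_mem _ hb ha) (fun h => hne (eq_inv_of_mul_eq_one_left h)) hfix)

theorem mem_normalizer_zpowers (hP : IsCyclic (P : Subgroup G)) {g a : G}
    (hg : g ∈ normalizer ((P : Subgroup G) : Set G)) (ha : a ∈ (P : Subgroup G)) :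
    g ∈ normalizer ((zpowers a : Subgroup G) : Set G) := by
  obtain ⟨x, n, r, hxP, hn, hgen, hr⟩ := exists_power P hP hg
  obtain ⟨j, rfl⟩ := hgen a ha
  refine mem_normalizer_fintype ?_
  rintro _ ⟨i, rfl⟩
  refine ⟨r * i, ?_⟩
  simp only [← zpow_mul, ← conj_zpow, hr]
  congr 1
  ring

theorem exists_not_mem_centralizer (hP : IsCyclic (P : Subgroup G))
    (h : ¬ normalizer ((P : Subgroup G) : Set G) ≤ centralizer ((P : Subgroup G) : Set G)) :
    ∃ g ∈ normalizer ((P : Subgroup G) : Set G),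
      (orderOf g).Coprime p ∧ g ∉ centralizer ((P : Subgroup G) : Set G) := by
  by_contra hc
  push Not at hc
  exact h fun g hg => mem_of_parts (fun j hj => hc _ (pow_mem hg j) hj) fun j hj =>
    mem_centralizer_iff.2 fun a ha =>
      commute_of_mem P hP ha (mem_sylow_of_mem_normalizer P hj (pow_mem hg j))

end Cyclic

section Abelian

variable (hab : ∀ H : Subgroup G, ¬ p ∣ Nat.card H → IsMulCommutative H)
include hab

/-- A `p'`-element normalizing a `p'`-subgroup centralizes it. -/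
theorem commute_of_normalizes {K : Subgroup G} (hK : ¬ p ∣ Nat.card K) {v : G}
    (hv : (orderOf v).Coprime p) (hvK : v ∈ normalizer (K : Set G)) {k : G} (hk : k ∈ K) :
    v * k = k * v := by
  have hle : zpowers v ≤ normalizer (K : Set G) := zpowers_le.2 hvK
  have hd : ¬ p ∣ Nat.card (K ⊔ zpowers v : Subgroup G) := by
    rw [CfsgLib.Fusion.not_dvd_card_iff_forall_coprime_orderOf]
    intro x hx
    rw [sup_comm, ← SetLike.mem_coe, coe_mul_of_left_le_normalizer_right _ _ hle] at hx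
    obtain ⟨w, hw, l, hl, rfl⟩ := hx
    rw [SetLike.mem_coe] at hw hl
    have key : ∀ i : ℕ, ∃ l' ∈ K, (w * l) ^ i = w ^ i * l' := by
      intro i
      induction i with
      | zero => exact ⟨1, one_mem K, by simp⟩
      | succ i ih =>
        obtain ⟨l', hl', he⟩ := ih
        refine ⟨w⁻¹ * l' * w * l, mul_mem ((mem_normalizer_iff''.1 (hle hw) l').1 hl') hl, ?_⟩
        rw [pow_succ, he, pow_succ]; group
    obtain ⟨l', hl', he⟩ := key (orderOf v)
    have hw1 : w ^ orderOf v = 1 := by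
      obtain ⟨i, rfl⟩ := hw
      rw [← zpow_natCast, ← zpow_mul, mul_comm, zpow_mul, zpow_natCast, pow_orderOf_eq_one, _root_.one_zpow]
    rw [hw1, one_mul] at he
    refine Nat.Coprime.coprime_dvd_left (orderOf_dvd_of_pow_eq_one ?_)
      (hv.mul_left (hp.out.coprime_iff_not_dvd.2 hK).symm)
    rw [pow_mul, he]
    exact Subtype.ext_iff.1 (pow_card_eq_one' (x := (⟨l', hl'⟩ : K)))
  haveI := hab _ hd
  exact congrArg Subtype.val (mul_comm' (⟨v, mem_sup_right (mem_zpowers v)⟩ : (K ⊔ zpowers v : Subgroup G))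
    ⟨k, mem_sup_left hk⟩)

/-- An involution cannot invert a `p'`-element of order above two. -/
theorem sq_eq_one_of_inverted (hp2 : p ≠ 2) {s x : G} (hs : s * s = 1)
    (hx : (orderOf x).Coprime p) (h : s * x * s⁻¹ = x⁻¹) : x * x = 1 := by
  have hK : ¬ p ∣ Nat.card (zpowers x) := by
    rw [Nat.card_zpowers]; exact hp.out.coprime_iff_not_dvd.1 hx.symm
  have hn : s ∈ normalizer (zpowers x : Set G) := by
    refine mem_normalizer_fintype ?_
    rintro _ ⟨i, rfl⟩
    exact ⟨-i, by simp only [← conj_zpow, h, inv_zpow, zpow_neg]⟩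
  have := commute_of_normalizes hab hK (coprime_of_sq hp2 hs) hn (mem_zpowers x)
  rw [this, mul_inv_cancel_right] at h
  exact mul_eq_one_iff_eq_inv.2 h

theorem subgroup_hyp (L : Subgroup G) (H : Subgroup L) (hH : ¬ p ∣ Nat.card H) : IsMulCommutative H := by
  haveI := hab (H.map L.subtype) (by rwa [card_map_of_injective L.subtype_injective])
  exact ⟨⟨fun a b => Subtype.ext (L.subtype_injective (congrArg Subtype.val
    (mul_comm' (⟨_, mem_map_of_mem _ a.2⟩ : H.map L.subtype) ⟨_, mem_map_of_mem _ b.2⟩)))⟩⟩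

theorem quotient_hyp {M : Subgroup G} [M.Normal] (hM : ¬ p ∣ Nat.card M) (H : Subgroup (G ⧸ M))
    (hH : ¬ p ∣ Nat.card H) : IsMulCommutative H := by
  have hc : Nat.card (H.comap (QuotientGroup.mk' M)) = Nat.card M * Nat.card H := by
    have h := Nat.card_congr (QuotientGroup.preimageMkEquivSubgroupProdSet M (H : Set (G ⧸ M)))
    rw [Nat.card_prod] at h
    exact h
  haveI := hab (H.comap (QuotientGroup.mk' M)) (by
    rw [hc]; exact fun hd => (hp.out.dvd_mul.1 hd).elim hM hH)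
  refine ⟨⟨fun a b => Subtype.ext ?_⟩⟩
  obtain ⟨x, hx⟩ := QuotientGroup.mk'_surjective M a.1
  obtain ⟨y, hy⟩ := QuotientGroup.mk'_surjective M b.1
  have h : x * y = y * x := congrArg Subtype.val (mul_comm' (⟨x, by simp only [mem_comap, hx, a.2]⟩ :
    H.comap (QuotientGroup.mk' M)) ⟨y, by simp only [mem_comap, hy, b.2]⟩)
  simp only [Subgroup.coe_mul, ← hx, ← hy, ← map_mul, h]

end Abelian

/-- The `p'`-elements of a subgroup with a normal `p`-complement, as a subgroup. -/
def coprimePart (L : Subgroup G) (h : Cfsg.HasNormalPComplement p L) : Subgroup G where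
  carrier := {x | x ∈ L ∧ (orderOf x).Coprime p}
  one_mem' := ⟨one_mem L, by rw [orderOf_one]; exact Nat.coprime_one_left p⟩
  mul_mem' {a b} ha hb := by
    refine ⟨mul_mem ha.1 hb.1, ?_⟩
    have h' := CfsgLib.Fusion.hasNormalPComplement_iff_coprime.1 h ((⟨a, ha.1⟩ : L) * ⟨b, hb.1⟩)
      (mul_mem (CfsgLib.Fusion.mem_pResidual (by rw [orderOf_mk]; exact ha.2))
        (CfsgLib.Fusion.mem_pResidual (by rw [orderOf_mk]; exact hb.2)))
    rwa [← Subgroup.orderOf_coe] at h'
  inv_mem' {a} ha := ⟨inv_mem ha.1, by rw [orderOf_inv]; exact ha.2⟩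

theorem mem_coprimePart {L : Subgroup G} {h : Cfsg.HasNormalPComplement p L} {x : G} :
    x ∈ coprimePart L h ↔ x ∈ L ∧ (orderOf x).Coprime p := Iff.rfl

theorem not_dvd_card_coprimePart (L : Subgroup G) (h : Cfsg.HasNormalPComplement p L) :
    ¬ p ∣ Nat.card (coprimePart L h) :=
  (CfsgLib.Fusion.not_dvd_card_iff_forall_coprime_orderOf _).2 fun _ hx => hx.2

theorem normalizer_le_normalizer_coprimePart (L : Subgroup G) (h : Cfsg.HasNormalPComplement p L) :
    normalizer (L : Set G) ≤ normalizer (coprimePart L h : Set G) := by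
  intro g hg
  refine mem_normalizer_fintype fun x hx => ⟨(mem_normalizer_iff.1 hg x).1 hx.1, ?_⟩
  rw [show orderOf (g * x * g⁻¹) = orderOf x from (MulAut.conj g).orderOf_eq x]
  exact hx.2

end CfsgLib.PGroup.CSylow
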