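import Cfsg.Agent.Lib.Coprime.Hall
import Cfsg.Agent.Lib.Coprime.Action
import Cfsg.Agent.Lib.Coprime.Core

/-!
# Invariant Hall subgroups under coprime action
-/

set_option autoImplicit false
set_option linter.style.haveILetI false
set_option linter.unusedSectionVars false

open Subgroup
open CfsgLib.Coprime (conjBy IsHallIn IsPiNum)

namespace CfsgLib.PGroup

universe u

variable {X : Type u} [Group X] [Finite X]

/-- A solvable group acted on coprimely has an invariant Hall subgroup. -/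
theorem exists_invariant_hall {A G : Subgroup X} (hAG : A ≤ normalizer (G : Set X))
    (hcop : (Nat.card A).Coprime (Nat.card G)) (hsolv : Group.IsSolvable G) (π : Set ℕ) :
    ∃ H, IsHallIn π H G ∧ A ≤ normalizer (H : Set X) := by
  obtain ⟨H, hH⟩ := Coprime.exists_hallIn π hsolv
  obtain ⟨x, hx, hx'⟩ := Coprime.exists_invariant_conj hAG hcop (Or.inr hsolv) (S := H)
    fun a ha => by
      have hconj : IsHallIn π (conjBy a H) G := by
        have e : conjBy a G = G := Coprime.conjBy_eq_self_iff.2 (hAG ha)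
        refine ⟨?_, by rw [Coprime.card_conjBy]; exact hH.2.1, ?_⟩
        · rw [← e]; exact map_mono hH.1
        · rw [← e]
          show IsPiNum πᶜ ((H.map (MulAut.conj a).toMonoidHom).relIndex
            (G.map (MulAut.conj a).toMonoidHom))
          rw [relIndex_map_map_of_injective _ _ (MulAut.conj a).injective]
          exact hH.2.2
      obtain ⟨k, hk, e⟩ := hH.exists_conj hconj hsolv
      exact ⟨k, hk, e.symm⟩
  refine ⟨conjBy x H, ?_, hx'⟩
  have e : conjBy x G = G := Coprime.conjBy_eq_self_of_mem hx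
  refine ⟨?_, by rw [Coprime.card_conjBy]; exact hH.2.1, ?_⟩
  · rw [← e]; exact map_mono hH.1
  · rw [← e]
    show IsPiNum πᶜ ((H.map (MulAut.conj x).toMonoidHom).relIndex
      (G.map (MulAut.conj x).toMonoidHom))
    rw [relIndex_map_map_of_injective _ _ (MulAut.conj x).injective]
    exact hH.2.2

/-- Two invariant Hall subgroups are conjugate under the fixed points. -/
theorem invariant_hall_conj {A G : Subgroup X} (hAG : A ≤ normalizer (G : Set X))
    (hcop : (Nat.card A).Coprime (Nat.card G)) (hsolv : Group.IsSolvable G) {π : Set ℕ}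
    {H K : Subgroup X} (hH : IsHallIn π H G) (hK : IsHallIn π K G)
    (hHA : A ≤ normalizer (H : Set X)) (hKA : A ≤ normalizer (K : Set X)) :
    ∃ c ∈ G ⊓ centralizer (A : Set X), conjBy c H = K := by
  obtain ⟨k, hk, h⟩ := hH.exists_conj hK hsolv
  exact Coprime.invariant_conj_unique hAG hcop (Or.inr hsolv) hHA hKA hk h

theorem card_map_mk'_of_inf_eq_bot {G : Type u} [Group G] (N : Subgroup G) [N.Normal]
    {K : Subgroup G} (h : K ⊓ N = ⊥) :
    Nat.card (K.map (QuotientGroup.mk' N)) = Nat.card K := by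
  refine (Nat.card_congr (Equiv.ofBijective
    (fun k : K => (⟨_, mem_map_of_mem _ k.2⟩ : K.map (QuotientGroup.mk' N))) ⟨fun a b hab => ?_,
      fun ⟨y, hy⟩ => ?_⟩)).symm
  · have h1 : (a : G)⁻¹ * b ∈ K ⊓ N :=
      ⟨K.mul_mem (K.inv_mem a.2) b.2, QuotientGroup.eq.1 (congrArg Subtype.val hab)⟩
    rw [h, mem_bot, inv_mul_eq_one] at h1
    exact Subtype.ext h1
  · obtain ⟨k, hk, rfl⟩ := hy
    exact ⟨⟨k, hk⟩, rfl⟩

theorem exists_invariant_hall_ge_aux (n : ℕ) : ∀ {X : Type u} [Group X] [Finite X]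
    (A G U : Subgroup X) [G.Normal], Nat.card G = n → (Nat.card A).Coprime (Nat.card G) →
    Group.IsSolvable G → ∀ π : Set ℕ, U ≤ G → A ≤ normalizer (U : Set X) →
    IsPiNum π (Nat.card U) →
    ∃ H, IsHallIn π H G ∧ A ≤ normalizer (H : Set X) ∧ U ≤ H := by
  induction n using Nat.strong_induction_on with
  | _ n ih =>
  intro X _ _ A G U _ hn hcop hsolv π hUG hUA hUπ
  have hAG : A ≤ normalizer (G : Set X) := by rw [normalizer_eq_top]; exact le_top
  rcases subsingleton_or_nontrivial G with hG | hG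
  · obtain ⟨H, hH, hHA⟩ := exists_invariant_hall hAG hcop hsolv π
    refine ⟨H, hH, hHA, fun u hu => ?_⟩
    have : (⟨u, hUG hu⟩ : G) = 1 := Subsingleton.elim _ _
    rw [show u = 1 from congrArg Subtype.val this]
    exact one_mem _
  haveI := hsolv
  obtain ⟨N, hN, p, hp, hNp, hNne⟩ : ∃ N : Subgroup G, N.Normal ∧ ∃ p : ℕ, p.Prime ∧
      IsPGroup p N ∧ N ≠ ⊥ := by
    obtain ⟨N, p, hN1, hN2, hp, hN3, -⟩ := Coprime.exists_normal_pGroup_of_isSolvable (G := G)
    exact ⟨N, hN1, p, hp, hN3, hN2⟩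
  haveI := Fact.mk hp
  have hne : Cfsg.pCore p G ≠ ⊥ := fun h => hNne (le_bot_iff.1 (h ▸ Coprime.le_pCore hNp))
  set M : Subgroup X := (Cfsg.pCore p G).map G.subtype with hM
  haveI := Coprime.pCore_characteristic (G := G) p
  haveI hMn : M.Normal := Coprime.map_subtype_normal_of_characteristic G _
  have hMG : M ≤ G := map_subtype_le _
  have hMp : IsPGroup p M := (Coprime.pCore_isPGroup (G := G) p).map _
  have hMne : M ≠ ⊥ := by
    rw [hM, Ne, Subgroup.map_eq_bot_iff, ker_subtype, le_bot_iff]; exact hne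
  set f := QuotientGroup.mk' M
  have hf : Function.Surjective f := QuotientGroup.mk'_surjective M
  haveI hGf : (G.map f).Normal := Subgroup.Normal.map inferInstance f hf
  have hcard : Nat.card G = Nat.card M * Nat.card (G.map f) :=
    Coprime.card_eq_card_mul_card_map_mk' M hMG
  have hlt : Nat.card (G.map f) < n := by
    rw [← hn, hcard]
    exact (Nat.lt_mul_iff_one_lt_left Nat.card_pos).2 ((one_lt_card_iff_ne_bot _).2 hMne)
  have hsolvf : Group.IsSolvable (G.map f) :=
    Group.isSolvable_of_surjective (f.subgroupMap_surjective G)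
  obtain ⟨Hb, hHb, hHbA, hUHb⟩ := ih _ hlt (A.map f) (G.map f) (U.map f) rfl
    ((hcop.coprime_dvd_left (card_map_dvd _ f)).coprime_dvd_right (card_map_dvd _ f)) hsolvf π
    (map_mono hUG) ((map_mono hUA).trans (le_normalizer_map f)) (hUπ.of_dvd (card_map_dvd _ f))
  set H' := Hb.comap f with hH'
  have hMH' : M ≤ H' := fun m hm => by
    rw [hH', mem_comap, show f m = 1 from (QuotientGroup.eq_one_iff m).2 hm]; exact one_mem _
  have hH'G : H' ≤ G := by
    refine (comap_mono hHb.1).trans ?_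
    rw [Subgroup.comap_map_eq, QuotientGroup.ker_mk']
    exact sup_le le_rfl hMG
  have hUH' : U ≤ H' := fun u hu => hUHb (mem_map_of_mem f hu)
  have hH'A : A ≤ normalizer (H' : Set X) :=
    (map_le_iff_le_comap.1 hHbA).trans (le_normalizer_comap f)
  have hrel : H'.relIndex G = Hb.relIndex (G.map f) := Subgroup.relIndex_comap Hb f G
  have hcardH' : Nat.card H' = Nat.card M * Nat.card Hb := by
    rw [Coprime.card_eq_card_mul_card_map_mk' M hMH', hH', Subgroup.map_comap_eq_self_of_surjective hf]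
  obtain ⟨m, hm⟩ := IsPGroup.iff_card.1 hMp
  by_cases hpπ : p ∈ π
  · refine ⟨H', ⟨hH'G, ?_, hrel ▸ hHb.2.2⟩, hH'A, hUH'⟩
    rw [hcardH', hm]
    exact ((Coprime.isPiNum_singleton_of_pow hp).mono (Set.singleton_subset_iff.2 hpπ)).mul hHb.2.1
  have hMπ : IsPiNum πᶜ (Nat.card M) := by
    rw [hm]
    exact (Coprime.isPiNum_singleton_of_pow hp).mono (Set.singleton_subset_iff.2 hpπ)
  have hH'solv : Group.IsSolvable H' := Coprime.isSolvable_of_le hH'G hsolv
  obtain ⟨K, hK, hKA⟩ := exists_invariant_hall hH'A (hcop.coprime_dvd_right (card_dvd_of_le hH'G))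
    hH'solv π
  have hdisj : ∀ V : Subgroup X, IsPiNum π (Nat.card V) → V ⊓ M = ⊥ := fun V hV =>
    Coprime.disjoint_of_coprime_card (Coprime.isPiNum_coprime hV hMπ)
  have hKf : K.map f = Hb := by
    have hle : K.map f ≤ Hb := map_le_iff_le_comap.2 hK.1
    refine eq_of_le_of_card_ge hle (Nat.le_of_dvd Nat.card_pos ?_)
    rw [card_map_mk'_of_inf_eq_bot M (hdisj K hK.2.1)]
    refine (Coprime.isPiNum_coprime hHb.2.1 hK.2.2).dvd_of_dvd_mul_right ?_
    rw [Coprime.card_mul_relIndex hK.1, hcardH']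
    exact Dvd.intro_left _ rfl
  set W := M ⊔ U
  have hWH' : W ≤ H' := sup_le hMH' hUH'
  have hWG : W ≤ G := hWH'.trans hH'G
  have hWA : A ≤ normalizer (W : Set X) :=
    Coprime.sup_le_normalizer (by rw [normalizer_eq_top]; exact le_top) hUA
  have hUW : IsHallIn π U W := by
    refine ⟨le_sup_right, hUπ, hMπ.of_dvd ?_⟩
    refine (Nat.mul_dvd_mul_iff_left (Nat.card_pos (α := U))).1 ?_
    rw [Coprime.card_mul_relIndex le_sup_right, sup_comm M U]
    exact Coprime.card_sup_dvd_of_normal U M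
  have hKWπ : IsPiNum π (Nat.card (K ⊓ W : Subgroup X)) :=
    hK.2.1.of_dvd (card_dvd_of_le inf_le_left)
  obtain ⟨x, hx, hle⟩ := hUW.exists_conj_le (Coprime.isSolvable_of_le hWG hsolv) inf_le_right hKWπ
  have heq : conjBy x (K ⊓ W) = U := by
    refine eq_of_le_of_card_ge hle ?_
    rw [Coprime.card_conjBy, ← card_map_mk'_of_inf_eq_bot M (hdisj U hUπ),
      ← card_map_mk'_of_inf_eq_bot M (hdisj _ hKWπ)]
    refine Subgroup.card_le_of_le ?_
    rintro _ ⟨u, hu, rfl⟩
    obtain ⟨k, hk, hku⟩ := hKf.ge (hUHb (mem_map_of_mem f hu))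
    refine ⟨k, ⟨hk, ?_⟩, hku⟩
    have h1 : u⁻¹ * k ∈ M := QuotientGroup.eq.1 hku.symm
    have h2 := mul_mem ((le_sup_right : U ≤ W) hu) ((le_sup_left : M ≤ W) h1)
    rwa [mul_inv_cancel_left] at h2
  obtain ⟨c, hc, hceq⟩ := Coprime.invariant_conj_unique hWA
    (hcop.coprime_dvd_right (card_dvd_of_le hWG)) (Or.inr (Coprime.isSolvable_of_le hWG hsolv))
    (Coprime.inf_le_normalizer hKA hWA) hUA hx heq
  have hcG : conjBy c G = G := Coprime.conjBy_eq_self_of_mem (hWG hc.1)
  have hcA : A ≤ normalizer (conjBy c K : Set X) := by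
    intro a ha
    rw [← Coprime.conjBy_eq_self_iff, Coprime.conjBy_conjBy,
      show a * c = c * a from mem_centralizer_iff.1 hc.2 a ha, ← Coprime.conjBy_conjBy,
      Coprime.conjBy_eq_self_iff.2 (hKA ha)]
  refine ⟨conjBy c K, ⟨?_, by rw [Coprime.card_conjBy]; exact hK.2.1, ?_⟩, hcA,
    hceq ▸ map_mono inf_le_left⟩
  · rw [← hcG]; exact map_mono (hK.1.trans hH'G)
  · rw [← hcG]
    show IsPiNum πᶜ ((K.map (MulAut.conj c).toMonoidHom).relIndex
      (G.map (MulAut.conj c).toMonoidHom))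
    rw [relIndex_map_map_of_injective _ _ (MulAut.conj c).injective,
      ← Subgroup.relIndex_mul_relIndex K H' G hK.1 hH'G]
    exact hK.2.2.mul (hrel ▸ hHb.2.2)

/-- An invariant π-subgroup lies in an invariant Hall π-subgroup. -/
theorem exists_invariant_hall_ge {A G U : Subgroup X} (hAG : A ≤ normalizer (G : Set X))
    (hcop : (Nat.card A).Coprime (Nat.card G)) (hsolv : Group.IsSolvable G) (π : Set ℕ)
    (hUG : U ≤ G) (hUA : A ≤ normalizer (U : Set X)) (hUπ : IsPiNum π (Nat.card U)) :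
    ∃ H, IsHallIn π H G ∧ A ≤ normalizer (H : Set X) ∧ U ≤ H := by
  set Y := normalizer (G : Set X) with hY
  have hGY : G ≤ Y := le_normalizer
  have hUY : U ≤ Y := hUG.trans hGY
  haveI : (G.subgroupOf Y).Normal := normal_in_normalizer
  have hcardof : ∀ {S : Subgroup X}, S ≤ Y → Nat.card (S.subgroupOf Y) = Nat.card S := fun h =>
    Nat.card_congr (subgroupOfEquivOfLe h).toEquiv
  obtain ⟨H, hH, hHA, hUH⟩ := exists_invariant_hall_ge_aux (Nat.card (G.subgroupOf Y))
    (A.subgroupOf Y) (G.subgroupOf Y) (U.subgroupOf Y) rfl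
    (by rw [hcardof hAG, hcardof hGY]; exact hcop)
    (Coprime.isSolvable_congr (subgroupOfEquivOfLe hGY).symm hsolv) π
    (Subgroup.comap_mono hUG)
    ((Subgroup.comap_mono hUA).trans (le_normalizer_comap Y.subtype))
    (by rw [hcardof hUY]; exact hUπ)
  have e1 : (G.subgroupOf Y).map Y.subtype = G := map_subgroupOf_eq_of_le hGY
  refine ⟨H.map Y.subtype, ⟨?_, ?_, ?_⟩, ?_, ?_⟩
  · rw [← e1]; exact map_mono hH.1
  · rw [card_map_of_injective Y.subtype_injective]; exact hH.2.1
  · rw [← e1, relIndex_map_map_of_injective _ _ Y.subtype_injective]; exact hH.2.2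
  · calc A = (A.subgroupOf Y).map Y.subtype := (map_subgroupOf_eq_of_le hAG).symm
      _ ≤ (normalizer (H : Set Y)).map Y.subtype := map_mono hHA
      _ ≤ _ := le_normalizer_map Y.subtype
  · rw [← map_subgroupOf_eq_of_le hUY]; exact map_mono hUH

end CfsgLib.PGroup
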