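import Cfsg.Agent.Lib.Fusion.ThompsonComplement
import Cfsg.Agent.Lib.Fusion.Residual
import Cfsg.Agent.Lib.Coprime.Core
import Mathlib.GroupTheory.FixedPointFree

/-!
Thompson: a finite group with a fixed point free automorphism of prime order is nilpotent.
-/

set_option linter.style.haveILetI false

namespace CfsgLib.PGroup

open Subgroup
open scoped IsMulCommutative Pointwise commutatorElement

universe u

section
variable {G : Type u} [Group G] [Finite G] {φ : G ≃* G}

theorem fpf_commutator_surjective (hφ : MonoidHom.FixedPointFree φ) (g : G) :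
    ∃ x : G, (φ x)⁻¹ * x = g := by
  have hinj : Function.Injective fun x : G => (φ x)⁻¹ * x := by
    intro x y h
    have h1 : φ (x * y⁻¹) = x * y⁻¹ := by
      simp only at h
      rw [map_mul, map_inv]
      calc φ x * (φ y)⁻¹ = φ x * ((φ y)⁻¹ * y) * y⁻¹ := by group
        _ = φ x * ((φ x)⁻¹ * x) * y⁻¹ := by rw [h]
        _ = x * y⁻¹ := by group
    exact mul_inv_eq_one.1 (hφ _ h1)
  exact Finite.injective_iff_surjective.1 hinj g

theorem fpf_mem_of_commutator_mem (hφ : MonoidHom.FixedPointFree φ) (N : Subgroup G)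
    (hN : ∀ n ∈ N, φ n ∈ N) {x : G} (hx : (φ x)⁻¹ * x ∈ N) : x ∈ N := by
  let f : N → N := fun m => ⟨(φ m)⁻¹ * m, mul_mem (inv_mem (hN m m.2)) m.2⟩
  have hinj : Function.Injective f := by
    intro a b h
    have h' : (φ (a : G))⁻¹ * a = (φ (b : G))⁻¹ * b := congrArg Subtype.val h
    have h1 : φ ((a : G) * (b : G)⁻¹) = a * (b : G)⁻¹ := by
      rw [map_mul, map_inv]
      calc φ (a : G) * (φ (b : G))⁻¹ = φ (a : G) * ((φ (b : G))⁻¹ * b) * (b : G)⁻¹ := by group
        _ = φ (a : G) * ((φ (a : G))⁻¹ * a) * (b : G)⁻¹ := by rw [h']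
        _ = a * (b : G)⁻¹ := by group
    exact Subtype.ext (mul_inv_eq_one.1 (hφ _ h1))
  obtain ⟨m, hm⟩ := Finite.injective_iff_surjective.1 hinj ⟨_, hx⟩
  have hm' : (φ (m : G))⁻¹ * m = (φ x)⁻¹ * x := congrArg Subtype.val hm
  have h1 : φ (x * (m : G)⁻¹) = x * (m : G)⁻¹ := by
    rw [map_mul, map_inv]
    calc φ x * (φ (m : G))⁻¹ = φ x * ((φ (m : G))⁻¹ * m) * (m : G)⁻¹ := by group
      _ = φ x * ((φ x)⁻¹ * x) * (m : G)⁻¹ := by rw [hm']
      _ = x * (m : G)⁻¹ := by group
  rw [mul_inv_eq_one.1 (hφ _ h1)]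
  exact m.2

theorem fpf_exists_invariant_sylow (hφ : MonoidHom.FixedPointFree φ) (p : ℕ) [Fact p.Prime] :
    ∃ P : Sylow p G, (P : Subgroup G).map (φ : G →* G) = P := by
  let P : Sylow p G := Classical.arbitrary _
  obtain ⟨g, hg⟩ := MulAction.exists_smul_eq G P
    (P.comapOfInjective (φ.symm : G →* G) φ.symm.injective (by
      rw [MonoidHom.range_eq_top.2 φ.symm.surjective]; exact le_top))
  have hg' : MulAut.conj g • (P : Subgroup G) = (P : Subgroup G).map (φ : G →* G) := by
    rw [← Sylow.coe_subgroup_smul]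
    show ((g • P : Sylow p G) : Subgroup G) = _
    rw [hg]
    exact (Subgroup.map_equiv_eq_comap_symm φ (P : Subgroup G)).symm
  obtain ⟨x, hx⟩ := fpf_commutator_surjective hφ g
  refine ⟨x • P, ?_⟩
  rw [Sylow.coe_subgroup_smul]
  ext w
  rw [mem_map, mem_pointwise_smul_iff_inv_smul_mem]
  simp only [mem_pointwise_smul_iff_inv_smul_mem, MulAut.smul_def, MulAut.conj_inv_apply]
  have hiff : ∀ y : G, y ∈ (P : Subgroup G).map (φ : G →* G) ↔ g⁻¹ * y * g ∈ (P : Subgroup G) := by
    intro y
    rw [← hg', mem_pointwise_smul_iff_inv_smul_mem, MulAut.smul_def, MulAut.conj_inv_apply]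
  constructor
  · rintro ⟨y, hy, rfl⟩
    have h1 := (hiff (φ (x⁻¹ * y * x))).1 (mem_map_of_mem _ hy)
    rw [← hx] at h1
    simpa [mul_assoc] using h1
  · intro hw
    refine ⟨φ.symm w, ?_, φ.apply_symm_apply w⟩
    have h1 := (hiff (φ (x⁻¹ * φ.symm w * x))).2 (by
      rw [← hx, map_mul, map_mul, map_inv, φ.apply_symm_apply]
      simpa [mul_assoc] using hw)
    obtain ⟨y, hy, hyw⟩ := h1
    exact φ.injective hyw ▸ hy

omit [Finite G] in
theorem iterate_mul (j : ℕ) (a b : G) : φ^[j] (a * b) = φ^[j] a * φ^[j] b := by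
  induction j generalizing a b with
  | zero => rfl
  | succ j ih => rw [Function.iterate_succ_apply, Function.iterate_succ_apply, Function.iterate_succ_apply,
      map_mul, ih]

theorem eq_one_of_iterate_fixed (hφ : MonoidHom.FixedPointFree φ) {r a : ℕ} (hr : ∀ g, φ^[r] g = g)
    (hco : a.Coprime r) {g : G} (hg : φ^[a] g = g) : g = 1 := by
  refine hφ g ?_
  have h := (show Function.IsPeriodicPt φ a g from hg).gcd (show Function.IsPeriodicPt φ r g from hr g)
  rw [Nat.coprime_iff_gcd_eq_one.1 hco] at h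
  exact h

/-- An invariant `p'`-group normalizing an invariant abelian `p`-group centralizes it. -/
theorem fpf_centralizes (hφ : MonoidHom.FixedPointFree φ) {r : ℕ} (hr : r.Prime)
    (hrφ : ∀ g, φ^[r] g = g) {M Q : Subgroup G} [IsMulCommutative M] (hQM : Q ≤ normalizer (M : Set G))
    (hMφ : ∀ m ∈ M, φ m ∈ M) (hQφ : ∀ x ∈ Q, φ x ∈ Q) (hco : (Nat.card Q).Coprime (Nat.card M)) :
    Q ≤ centralizer (M : Set G) := by
  classical
  haveI := Fintype.ofFinite G
  haveI : Fintype Q := Fintype.ofFinite _
  let cc : Q → M →* M := fun y =>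
    { toFun := fun m => ⟨(y : G) * m * (y : G)⁻¹, (mem_normalizer_iff.1 (hQM y.2) m).1 m.2⟩
      map_one' := Subtype.ext (by simp)
      map_mul' := fun a b => Subtype.ext (by simp [mul_assoc]) }
  let f : M →* M := (φ.toMonoidHom.comp M.subtype).codRestrict M fun m => hMφ m m.2
  have hfv : ∀ (j : ℕ) (m : M), ((f^[j] m : M) : G) = φ^[j] (m : G) := by
    intro j
    induction j with
    | zero => intro m; rfl
    | succ j ih => intro m; rw [Function.iterate_succ_apply', Function.iterate_succ_apply', ← ih]; rfl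
  have hfr : ∀ m : M, f^[r] m = m := fun m => Subtype.ext (by rw [hfv, hrφ])
  have hE : ∀ m : M, ∏ a ∈ Finset.range r, f^[a] m = 1 := by
    intro m
    have hfix : f (∏ a ∈ Finset.range r, f^[a] m) = ∏ a ∈ Finset.range r, f^[a] m := by
      obtain ⟨k, hk⟩ := Nat.exists_eq_succ_of_ne_zero hr.ne_zero
      have h1 : ∀ a, f (f^[a] m) = f^[a + 1] m := fun a => (Function.iterate_succ_apply' f a m).symm
      rw [map_prod, Finset.prod_congr rfl fun a _ => h1 a, hk, Finset.prod_range_succ,
        Finset.prod_range_succ' (fun a => f^[a] m), Function.iterate_zero_apply,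
        show k + 1 = r from hk.symm, hfr]
    exact Subtype.ext (hφ _ (congrArg Subtype.val hfix))
  let S : M →* M := ∏ y : Q, cc y
  have hS : ∀ m, S m = ∏ y : Q, cc y m := fun m => MonoidHom.finsetProd_apply _ _ _
  -- re-indexing along `x ↦ x φ^a(x)⁻¹`
  have hre : ∀ a ∈ Finset.Ico 1 r, ∀ m : M, ∏ x : Q, cc x (f^[a] (cc x⁻¹ m)) = S (f^[a] m) := by
    intro a ha m
    rw [Finset.mem_Ico] at ha
    have hmem : ∀ (j : ℕ) (x : Q), φ^[j] (x : G) ∈ Q := by
      intro j x
      induction j with
      | zero => exact x.2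
      | succ j ih => rw [Function.iterate_succ_apply']; exact hQφ _ ih
    have hinv : ∀ (j : ℕ) (g : G), φ^[j] g⁻¹ = (φ^[j] g)⁻¹ := by
      intro j g
      refine eq_inv_of_mul_eq_one_left ?_
      rw [← iterate_mul, inv_mul_cancel]
      exact Function.iterate_fixed (map_one φ) j
    let u : Q → Q := fun x => ⟨(x : G) * (φ^[a] (x : G))⁻¹, mul_mem x.2 (inv_mem (hmem a x))⟩
    have hu : Function.Bijective u := by
      refine (Finite.injective_iff_bijective (f := u)).1 fun x y h => ?_
      have h' : (x : G) * (φ^[a] (x : G))⁻¹ = y * (φ^[a] (y : G))⁻¹ := congrArg Subtype.val h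
      have h1 : φ^[a] ((y : G)⁻¹ * x) = (y : G)⁻¹ * x := by
        rw [iterate_mul, hinv]
        calc (φ^[a] (y : G))⁻¹ * φ^[a] (x : G)
            = (y : G)⁻¹ * ((y : G) * (φ^[a] (y : G))⁻¹) * φ^[a] (x : G) := by group
          _ = (y : G)⁻¹ * x := by rw [← h']; group
      have := eq_one_of_iterate_fixed hφ hrφ
        ((hr.coprime_iff_not_dvd.2 (Nat.not_dvd_of_pos_of_lt ha.1 ha.2)).symm) h1
      exact Subtype.ext (inv_mul_eq_one.1 this).symm
    rw [hS, ← hu.prod_comp fun y => cc y (f^[a] m)]
    refine Finset.prod_congr rfl fun x _ => Subtype.ext ?_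
    show (x : G) * ((f^[a] (cc x⁻¹ m) : M) : G) * (x : G)⁻¹ = (u x : G) * ((f^[a] m : M) : G) * (u x : G)⁻¹
    rw [hfv, hfv, show ((cc x⁻¹ m : M) : G) = (x : G)⁻¹ * m * (x : G)⁻¹⁻¹ from rfl,
      iterate_mul, iterate_mul, hinv, hinv, hinv]
    simp only [u]
    group
  have hcard : ∀ m : M, S m = m ^ Nat.card Q := by
    intro m
    have h1 : ∏ x : Q, cc x (∏ a ∈ Finset.range r, f^[a] (cc x⁻¹ m)) = 1 := by
      simp only [hE, map_one, Finset.prod_const_one]
    simp only [map_prod] at h1
    rw [Finset.prod_comm] at h1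
    have h2 : ∏ a ∈ Finset.range r, S (f^[a] m) = 1 := by rw [← map_prod, hE, map_one]
    rw [Finset.range_eq_Ico, Finset.prod_eq_prod_Ico_succ_bot hr.pos] at h1 h2
    rw [Finset.prod_congr rfl (fun a ha => hre a (by simpa using ha) m)] at h1
    have h0 : ∏ x : Q, cc x (f^[0] (cc x⁻¹ m)) = m ^ Nat.card Q := by
      rw [Nat.card_eq_fintype_card, ← Finset.card_univ]
      refine Finset.prod_eq_pow_card fun x _ => Subtype.ext ?_
      show (x : G) * ((x : G)⁻¹ * m * (x : G)⁻¹⁻¹) * (x : G)⁻¹ = m
      group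
    rw [h0] at h1
    rw [Function.iterate_zero_apply] at h2
    exact mul_right_cancel (h2.trans h1.symm)
  intro z hz
  refine mem_centralizer_iff.2 fun w hw => ?_
  have hfixS : ∀ m : M, cc ⟨z, hz⟩ (S m) = S m := by
    intro m
    rw [hS, map_prod]
    conv_rhs => rw [← Equiv.prod_comp (Equiv.mulLeft (⟨z, hz⟩ : Q)) fun y => cc y m]
    refine Finset.prod_congr rfl fun x _ => Subtype.ext ?_
    show z * ((x : G) * m * (x : G)⁻¹) * z⁻¹ = (z * (x : G)) * m * (z * (x : G))⁻¹
    group
  obtain ⟨k, hk⟩ := exists_pow_eq_self_of_coprime (x := (⟨w, hw⟩ : M))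
    (hco.coprime_dvd_right (orderOf_dvd_natCard _))
  have h := hfixS ((⟨w, hw⟩ : M) ^ k)
  rw [hcard, ← pow_mul, mul_comm, pow_mul, hk] at h
  have h' : z * w * z⁻¹ = w := congrArg Subtype.val h
  exact (mul_inv_eq_iff_eq_mul.1 h').symm

/-- A nilpotent group has a normal `p`-complement. -/
theorem hasNormalPComplement_of_isNilpotent {G : Type u} [Group G] [Finite G] [Group.IsNilpotent G]
    (p : ℕ) [hp : Fact p.Prime] : Cfsg.HasNormalPComplement p G := by
  have hN : ¬ p ∣ Nat.card (Cfsg.pPrimeCore p G) := CfsgLib.Coprime.pPrimeCore_not_dvd hp.1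
  haveI : (Cfsg.pPrimeCore p G).Characteristic := CfsgLib.Coprime.pPrimeCore_characteristic p
  have hidx : (Cfsg.pPrimeCore p G).index = p ^ _ :=
    Nat.eq_prime_pow_of_unique_prime_dvd (index_ne_zero_of_finite) fun {q} hq hd => by
      by_contra hqp
      haveI := Fact.mk hq
      let Q : Sylow q G := Classical.arbitrary _
      have hle : (Q : Subgroup G) ≤ Cfsg.pPrimeCore p G := by
        obtain ⟨m, hm⟩ := Q.2.exists_card_eq
        refine CfsgLib.Coprime.le_pPrimeCore ?_
        rw [hm]
        exact Nat.Coprime.pow_left m ((Nat.coprime_primes hq hp.1).2 hqp)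
      exact Q.not_dvd_index (hd.trans (index_dvd_of_le hle))
  exact ⟨default, _, inferInstance, CfsgLib.Fusion.isComplement'_sylow_of_card _ hN hidx default⟩

end

/-- Thompson's theorem. -/
theorem isNilpotent_of_fixedPointFree {r : ℕ} (hr : r.Prime) :
    ∀ (G : Type u) [Group G] [Finite G] (φ : G ≃* G), MonoidHom.FixedPointFree φ →
      (∀ g, φ^[r] g = g) → Group.IsNilpotent G := by
  intro G
  induction hn : Nat.card G using Nat.strong_induction_on generalizing G with
  | _ n ih =>
    intro _ _ φ hφ hrφ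
    subst hn
    classical
    -- restriction and quotient
    have hrest : ∀ H : Subgroup G, (∀ h ∈ H, φ h ∈ H) → H ≠ ⊤ → Group.IsNilpotent H := by
      intro H hH hne
      let f : H →* H := (φ.toMonoidHom.comp H.subtype).codRestrict H fun h => hH h h.2
      have hf : Function.Injective f := fun a b h =>
        Subtype.ext (φ.injective (congrArg Subtype.val h))
      refine ih (Nat.card H) ?_ H rfl (MulEquiv.ofBijective f ((Finite.injective_iff_bijective (f := f)).1 hf))
        (fun h hh => Subtype.ext (hφ _ (congrArg Subtype.val hh))) fun h => Subtype.ext ?_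
      · exact lt_of_le_of_ne (card_le_card_group H) fun e => hne (eq_top_of_card_eq H e)
      · show ((f^[r] h : H) : G) = h
        have : ∀ j, ((f^[j] h : H) : G) = φ^[j] (h : G) := by
          intro j
          induction j with
          | zero => rfl
          | succ j ihj => rw [Function.iterate_succ_apply', Function.iterate_succ_apply', ← ihj]; rfl
        rw [this, hrφ]
    have hquot : ∀ (N : Subgroup G) [N.Normal], (∀ h ∈ N, φ h ∈ N) → N ≠ ⊥ → Group.IsNilpotent (G ⧸ N) := by
      intro N _ hN hne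
      have hmap : N.map (φ : G →* G) = N := eq_of_le_of_card_ge
        (map_le_iff_le_comap.2 fun h hh => hN h hh) (card_map_of_injective φ.injective).ge
      refine ih (Nat.card (G ⧸ N)) ?_ (G ⧸ N) rfl (QuotientGroup.congr N N φ hmap) ?_ ?_
      · rw [← index_eq_card, ← N.card_mul_index]
        exact lt_mul_left (Nat.pos_of_ne_zero index_ne_zero_of_finite) ((one_lt_card_iff_ne_bot N).2 hne)
      · intro g hg
        obtain ⟨x, rfl⟩ := QuotientGroup.mk_surjective g
        exact (QuotientGroup.eq_one_iff x).2 (fpf_mem_of_commutator_mem hφ N hN (QuotientGroup.eq.1 hg))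
      · intro g
        obtain ⟨x, rfl⟩ := QuotientGroup.mk_surjective g
        have : ∀ j, (QuotientGroup.congr N N φ hmap)^[j] (x : G ⧸ N) = ((φ^[j] x : G) : G ⧸ N) := by
          intro j
          induction j with
          | zero => rfl
          | succ j ihj => rw [Function.iterate_succ_apply', Function.iterate_succ_apply', ihj]; rfl
        rw [this, hrφ]
    have hchar : ∀ H : Subgroup G, H.Characteristic → ∀ h ∈ H, φ h ∈ H := fun H hH h hh =>
      (characteristic_iff_map_eq.1 hH φ).le (mem_map_of_mem _ hh)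
    by_cases hcase : ∃ N : Subgroup G, N.Normal ∧ (∀ h ∈ N, φ h ∈ N) ∧ N ≠ ⊥ ∧ N ≠ ⊤
    · obtain ⟨N, hNn, hNφ, hN1, hN2⟩ := hcase
      haveI := hrest N hNφ hN2
      haveI := hquot N hNφ hN1
      haveI : Group.IsSolvable G := Group.isSolvable_of_ker_le_range N.subtype (QuotientGroup.mk' N)
        (by rw [QuotientGroup.ker_mk', range_subtype])
      -- a characteristic elementary abelian subgroup
      have hG1 : (⊤ : Subgroup G) ≠ ⊥ := fun h0 => hN1 (le_bot_iff.1 (le_top.trans h0.le))
      obtain ⟨D, hDc, hD1, hDab⟩ : ∃ D : Subgroup G, D.Characteristic ∧ D ≠ ⊥ ∧ IsMulCommutative D := by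
        have hex := (Group.isSolvable_def G).1 inferInstance
        obtain ⟨k, hk0, hk1⟩ : ∃ k, derivedSeries G (k + 1) = ⊥ ∧ derivedSeries G k ≠ ⊥ := by
          obtain ⟨m, hm⟩ := hex
          by_contra hc
          push Not at hc
          have : ∀ j, j ≤ m → derivedSeries G (m - j) = ⊥ := by
            intro j
            induction j with
            | zero => intro; simpa using hm
            | succ j ihj =>
              intro hj
              exact hc (m - (j + 1)) (by rw [show m - (j + 1) + 1 = m - j by omega]; exact ihj (by omega))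
          have h0 := this m le_rfl
          rw [Nat.sub_self, derivedSeries_zero] at h0
          exact hG1 h0
        refine ⟨derivedSeries G k, inferInstance, hk1, ⟨⟨fun a b => Subtype.ext ?_⟩⟩⟩
        have h3 : ⁅(a : G), (b : G)⁆ ∈ derivedSeries G (k + 1) := commutator_mem_commutator a.2 b.2
        rw [hk0] at h3
        exact commutatorElement_eq_one_iff_mul_comm.1 (mem_bot.1 h3)
      obtain ⟨p, hp, hpD⟩ := Nat.exists_prime_and_dvd ((one_lt_card_iff_ne_bot D).2 hD1).ne'
      haveI := Fact.mk hp
      haveI := hDc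
      let M : Subgroup G :=
        { carrier := {x | x ∈ D ∧ x ^ p = 1}
          one_mem' := ⟨one_mem D, one_pow p⟩
          mul_mem' := fun {a b} ha hb => ⟨mul_mem ha.1 hb.1, by
            rw [(show Commute a b from congrArg Subtype.val (mul_comm' (⟨a, ha.1⟩ : D) ⟨b, hb.1⟩)).mul_pow,
              ha.2, hb.2, one_mul]⟩
          inv_mem' := fun {a} ha => ⟨inv_mem ha.1, by rw [inv_pow, ha.2, inv_one]⟩ }
      haveI hMn : M.Normal := ⟨fun a ha g => ⟨(inferInstance : D.Normal).conj_mem a ha.1 g, by
        rw [conj_pow, ha.2, mul_one, mul_inv_cancel]⟩⟩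
      haveI : IsMulCommutative M := ⟨⟨fun a b => by
        have h := congrArg Subtype.val (mul_comm' (⟨a, a.2.1⟩ : D) ⟨b, b.2.1⟩)
        exact Subtype.ext h⟩⟩
      have hMφ : ∀ m ∈ M, φ m ∈ M := fun m hm =>
        ⟨hchar D hDc m hm.1, by rw [← map_pow, hm.2, map_one]⟩
      have hMp : IsPGroup p M := fun m => ⟨1, Subtype.ext (by rw [pow_one, coe_pow]; exact m.2.2)⟩
      have hM1 : M ≠ ⊥ := by
        obtain ⟨x, hx⟩ := exists_prime_orderOf_dvd_card' (G := D) p hpD
        intro h0
        have hxM : (x : G) ∈ M := ⟨x.2, by rw [← hx, ← orderOf_coe, pow_orderOf_eq_one]⟩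
        rw [h0, mem_bot] at hxM
        rw [← orderOf_coe, hxM, orderOf_one] at hx
        exact hp.ne_one hx.symm
      haveI := hquot M hMφ hM1
      refine ((Group.isNilpotent_of_finite_tfae (G := G)).out 0 3 rfl rfl).2 fun q hq Q => ?_
      obtain ⟨Q₀, hQ₀⟩ := @fpf_exists_invariant_sylow G _ _ φ hφ q hq
      suffices h : (Q₀ : Subgroup G).Normal by
        obtain ⟨g, rfl⟩ := MulAction.exists_smul_eq G Q₀ Q
        rw [Sylow.smul_eq_of_normal]
        exact h
      have hnorm : ((Q₀ : Subgroup G).map (QuotientGroup.mk' M)).Normal := by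
        have := ((Group.isNilpotent_of_finite_tfae (G := G ⧸ M)).out 0 3 rfl rfl).1 inferInstance q hq
          (Q₀.mapSurjective (QuotientGroup.mk'_surjective M))
        simpa using this
      have hL : ((Q₀ : Subgroup G) ⊔ M).Normal := by
        have := hnorm.comap (QuotientGroup.mk' M)
        rwa [comap_map_eq, QuotientGroup.ker_mk'] at this
      by_cases hqp : q = p
      · subst hqp
        rwa [sup_eq_left.2 (hMp.le_sylow_of_normal Q₀)] at hL
      have hQc : (Q₀ : Subgroup G) ≤ centralizer (M : Set G) := by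
        refine fpf_centralizes hφ hr hrφ ?_ hMφ (fun x hx => hQ₀.le (mem_map_of_mem _ hx)) ?_
        · rw [normalizer_eq_top]; exact le_top
        · obtain ⟨a, ha⟩ := Q₀.2.exists_card_eq
          obtain ⟨b, hb⟩ := hMp.exists_card_eq
          rw [ha, hb]
          exact Nat.Coprime.pow _ _ ((Nat.coprime_primes hq.1 hp).2 hqp)
      haveI := hL
      have hfr := Sylow.normalizer_sup_eq_top (Q₀.subtype (le_sup_left : (Q₀ : Subgroup G) ≤ (Q₀ : Subgroup G) ⊔ M))
      rw [Sylow.coe_subtype, subgroupOf_map_subtype, inf_eq_left.2 le_sup_left] at hfr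
      refine normalizer_eq_top_iff.1 (eq_top_iff.2 (hfr.ge.trans (sup_le le_rfl (sup_le le_normalizer ?_))))
      exact (le_centralizer_iff.1 hQc).trans (centralizer_le_normalizer _)
    · push Not at hcase
      by_cases hodd : ∃ p : ℕ, p.Prime ∧ p ≠ 2 ∧ p ∣ Nat.card G
      · obtain ⟨p, hp, hp2, hpG⟩ := hodd
        haveI := Fact.mk hp
        obtain ⟨P, hP⟩ := fpf_exists_invariant_sylow hφ p
        by_cases hPtop : (P : Subgroup G) = ⊤
        · have : IsPGroup p G := by
            intro g
            obtain ⟨k, hk⟩ := P.2 ⟨g, hPtop ▸ mem_top g⟩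
            exact ⟨k, congrArg Subtype.val hk⟩
          exact this.isNilpotent
        exfalso
        have hP1 : (P : Subgroup G) ≠ ⊥ := P.ne_bot_of_dvd_card hpG
        -- invariant subgroups of `P`
        have hfin : ∀ X : Subgroup G, X.map (φ : G →* G) = X → X ≠ ⊥ → X ≤ (P : Subgroup G) →
            ∀ H : Subgroup G, (∀ h ∈ H, φ h ∈ H) → H ≤ normalizer (X : Set G) →
              Cfsg.HasNormalPComplement p H := by
          intro X hX hX1 hXP H hH hHX
          by_cases hHtop : H = ⊤
          · exfalso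
            haveI : X.Normal := normalizer_eq_top_iff.1 (eq_top_iff.2 (hHtop ▸ hHX))
            exact hPtop (eq_top_iff.2 ((hcase X inferInstance (fun h hh => hX.le (mem_map_of_mem _ hh)) hX1).ge.trans hXP))
          haveI := hrest H hH hHtop
          exact hasNormalPComplement_of_isNilpotent p
        have hmapJ : (Cfsg.thompsonSubgroupOf p (P : Subgroup G)).map (φ : G →* G)
            = Cfsg.thompsonSubgroupOf p (P : Subgroup G) := by
          rw [CfsgLib.Fusion.map_thompsonSubgroupOf (φ : G →* G) fun x _ h => by simpa using h, hP]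
        have hmapN : ∀ X : Subgroup G, X.map (φ : G →* G) = X →
            ∀ h ∈ normalizer (X : Set G), φ h ∈ normalizer (X : Set G) := by
          intro X hX h hh
          refine mem_normalizer_iff.2 fun w => ?_
          obtain ⟨v, rfl⟩ := φ.surjective w
          rw [← map_inv, ← map_mul, ← map_mul]
          have e : ∀ v, φ v ∈ X ↔ v ∈ X := fun v => by
            conv_lhs => rw [← hX]
            exact mem_map_iff_mem φ.injective
          rw [e, e]
          exact mem_normalizer_iff.1 hh v
        have hJ := hfin _ hmapJ (CfsgLib.Fusion.thompsonSubgroupOf_ne_bot P.2 hP1)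
          (CfsgLib.Fusion.thompsonSubgroupOf_le _) _ (hmapN _ hmapJ) le_rfl
        have hmapZ : (CfsgLib.Fusion.centerOf (P : Subgroup G)).map (φ : G →* G)
            = CfsgLib.Fusion.centerOf (P : Subgroup G) := by
          refine eq_of_le_of_card_ge ?_ (card_map_of_injective φ.injective).ge
          rintro _ ⟨z, ⟨hzP, hzc⟩, rfl⟩
          refine ⟨hP.le (mem_map_of_mem _ hzP), mem_centralizer_iff.2 fun w hw => ?_⟩
          obtain ⟨v, hv, rfl⟩ := hP.ge hw
          rw [← map_mul, ← map_mul, mem_centralizer_iff.1 hzc v hv]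
        have hZ := hfin _ hmapZ (CfsgLib.Fusion.centerOf_ne_bot P.2 hP1) inf_le_left
          (centralizer (CfsgLib.Fusion.centerOf (P : Subgroup G) : Set G)) (fun c hc => by
            refine mem_centralizer_iff.2 fun w hw => ?_
            obtain ⟨v, hv, rfl⟩ := hmapZ.ge hw
            show φ v * φ c = φ c * φ v
            rw [← map_mul, ← map_mul, mem_centralizer_iff.1 hc v hv]) (centralizer_le_normalizer _)
        have hG := CfsgLib.Fusion.hasNormalPComplement_of_thompson hp2 G P hJ hZ
        obtain ⟨P', N, hNn, hc⟩ := hG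
        have hNp : ¬ p ∣ Nat.card N := by
          rw [← hc.index_eq_card]; exact P'.not_dvd_index
        have hres := CfsgLib.Fusion.eq_pResidual_of_isComplement' P' N hc
        have hNφ : ∀ h ∈ N, φ h ∈ N := by
          intro h hh
          rw [hres]
          refine CfsgLib.Fusion.mem_pResidual ?_
          rw [MulEquiv.orderOf_eq]
          exact (hp.coprime_iff_not_dvd.2 fun hd => hNp (hd.trans (Subgroup.orderOf_dvd_natCard N hh))).symm
        by_cases hN1 : N = ⊥
        · refine hPtop ?_
          have h1 : Nat.card (P' : Subgroup G) = Nat.card G := by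
            rw [← hc.symm.index_eq_card, hN1, index_bot]
          refine eq_top_of_card_eq _ ?_
          rw [P.card_eq_multiplicity, ← P'.card_eq_multiplicity, h1]
        · have := hcase N hNn hNφ hN1
          rw [this, Nat.card_congr topEquiv.toEquiv] at hNp
          exact hNp hpG
      · push Not at hodd
        haveI := Fact.mk Nat.prime_two
        have h2 : IsPGroup 2 G := IsPGroup.of_card (Nat.eq_prime_pow_of_unique_prime_dvd Nat.card_pos.ne'
          fun {q} hq hd => by
            by_contra h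
            exact hodd q hq h hd)
        exact h2.isNilpotent

end CfsgLib.PGroup
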