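import Cfsg.Agent.Lib.PGroup.FrobeniusModTwo
import Cfsg.Agent.Lib.Coprime.Core
import Mathlib.GroupTheory.Solvable
import Mathlib.GroupTheory.Sylow
import Mathlib.GroupTheory.Abelianization.Defs
import Mathlib.LinearAlgebra.Determinant
import Mathlib.Algebra.Module.ZMod

/-!
Sylow two fixed points in an irreducible module of a `{2,p,q}`-group with `p`-part of order at most
`p ^ 2` and `q`-part of order `q`.
-/

set_option autoImplicit false
set_option linter.style.haveILetI false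
set_option linter.unusedSectionVars false

open Subgroup
open scoped commutatorElement

namespace CfsgLib.TwoPQ

universe u v

variable {S : Type u} [Group S] [Finite S]

theorem exists_abelian_normal {G : Type u} [Group G] [Group.IsSolvable G] [Nontrivial G] :
    ∃ A : Subgroup G, A.Normal ∧ A ≠ ⊥ ∧ ∀ a ∈ A, ∀ c ∈ A, a * c = c * a := by
  classical
  have hex : ∃ n, derivedSeries G n = ⊥ := (Group.isSolvable_def G).1 inferInstance
  have hn0 : Nat.find hex ≠ 0 := fun h => by
    have := Nat.find_spec hex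
    rw [h, derivedSeries_zero] at this
    exact top_ne_bot this
  refine ⟨derivedSeries G (Nat.find hex - 1), derivedSeries_normal _ _,
    Nat.find_min hex (by omega), fun a ha c hc => ?_⟩
  have h := Nat.find_spec hex
  rw [show Nat.find hex = (Nat.find hex - 1) + 1 by omega, derivedSeries_succ] at h
  exact commutatorElement_eq_one_iff_mul_comm.1
    (mem_bot.1 (h.le (commutator_mem_commutator ha hc)))

variable {E : Type v} [AddCommGroup E] [Module (ZMod 2) E]

/-- The fixed vectors of a subgroup. -/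
def fixS (ρ : Representation (ZMod 2) S E) (J : Subgroup S) : Submodule (ZMod 2) E where
  carrier := {v | ∀ g ∈ J, ρ g v = v}
  add_mem' := fun {a c} ha hc g hg => by rw [map_add, ha g hg, hc g hg]
  zero_mem' := fun g _ => map_zero _
  smul_mem' := fun c x hx g hg => by rw [map_smul, hx g hg]

theorem rep_mul (ρ : Representation (ZMod 2) S E) (g h : S) (v : E) :
    ρ (g * h) v = ρ g (ρ h v) := by rw [map_mul]; rfl

/-- A commutator fixing a nonzero vector of a two-dimensional space has order dividing `p`. -/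
theorem unip {H : Type u} [Group H] {p : ℕ} [Fact p.Prime] {V : Type u} [AddCommGroup V]
    [Module (ZMod p) V] [Finite V] (hd : Nat.card V ≤ p ^ 2) (c : H → (V →+ V))
    (c1 : ∀ v, c 1 v = v) (cm : ∀ g h v, c (g * h) v = c g (c h v)) {r : H}
    (hr : r ∈ commutator H) {v : V} (hv : v ≠ 0) (hrv : c r v = v) (z : V) :
    c (r ^ p) z = z := by
  let φ : H →* Module.End (ZMod p) V :=
    { toFun := fun h => (c h).toZModLinearMap p
      map_one' := LinearMap.ext fun v => c1 v
      map_mul' := fun g h => LinearMap.ext fun v => cm g h v }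
  have hdet : LinearMap.det (φ r) = 1 := by
    have h := Abelianization.commutator_subset_ker
      ((Units.map (LinearMap.det : Module.End (ZMod p) V →* ZMod p)).comp φ.toHomUnits) hr
    exact congrArg Units.val (MonoidHom.mem_ker.1 h)
  have hp := (Fact.out : p.Prime)
  have hfr : Module.finrank (ZMod p) V ≤ 2 := by
    have h := Module.natCard_eq_pow_finrank (K := ZMod p) (V := V)
    rw [Nat.card_zmod] at h
    exact (Nat.pow_le_pow_iff_right hp.one_lt).1 (h ▸ hd)
  have hsq := CfsgLib.FrobTwo.sub_one_sq hfr (φ r) hv hrv hdet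
  have hpow : φ (r ^ p) = 1 := by
    rw [map_pow, CfsgLib.FrobTwo.pow_eq_one_add hsq, ← Nat.cast_smul_eq_nsmul (ZMod p),
      ZMod.natCast_self, zero_smul, add_zero]
  exact LinearMap.congr_fun hpow z

theorem main [Finite E] [Group.IsSolvable S] (p q : ℕ) (hp : p.Prime) (hq : q.Prime) (hp2 : p ≠ 2)
    (hq2 : q ≠ 2) (hpq : p ≠ q) (hπ : ∀ r : ℕ, r.Prime → r ∣ Nat.card S → r = 2 ∨ r = p ∨ r = q)
    (S₂ : Sylow 2 S) (Sp : Sylow p S) (Sq : Sylow q S)
    (h2q : Nat.card ↥((S₂ : Subgroup S) ⊔ (Sq : Subgroup S)) = Nat.card ↥S₂ * Nat.card ↥Sq)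
    (hSpN : (Sp : Subgroup S).Normal)
    (hSpmin : ∀ N : Subgroup S, N.Normal → N ≤ (Sp : Subgroup S) → N = ⊥ ∨ N = (Sp : Subgroup S))
    (hSpcard : Nat.card ↥Sp = p ∨ Nat.card ↥Sp = p ^ 2) (hSq : Nat.card ↥Sq = q)
    (hcomm : ⁅(Sp : Subgroup S), (Sq : Subgroup S)⁆ = (Sp : Subgroup S))
    (hO2 : Cfsg.pCore 2 S = ⊥) (ρ : Representation (ZMod 2) S E) (hE : Nontrivial E)
    (hirr : ∀ N : Submodule (ZMod 2) E, (∀ s : S, ∀ m ∈ N, ρ s m ∈ N) → N = ⊥ ∨ N = ⊤)
    (hfaith : ∀ x ∈ (Sp : Subgroup S), ρ x = 1 → x = 1) :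
    8 ≤ Nat.card (fixS ρ (S₂ : Subgroup S)) ∨
      (Nat.card (fixS ρ (S₂ : Subgroup S)) = 4 ∧
        ∃ x ∈ (Sq : Subgroup S), ∃ v : E, (∀ s ∈ (S₂ : Subgroup S), ρ s v = v) ∧
          ¬ ∀ s ∈ (S₂ : Subgroup S), ρ s (ρ x v) = ρ x v) := by
  classical
  haveI := Fact.mk hp
  haveI := Fact.mk hq
  set P := (Sp : Subgroup S) with hPdef
  set T := (S₂ : Subgroup S) with hTdef
  set Q := (Sq : Subgroup S) with hQdef
  haveI : P.Normal := hSpN
  replace hSpcard : Nat.card P = p ∨ Nat.card P = p ^ 2 := hSpcard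
  replace hSq : Nat.card Q = q := hSq
  have hPne : P ≠ ⊥ := fun h => by
    have h1 : Nat.card P = 1 := by rw [h, card_bot]
    rcases hSpcard with e | e <;> rw [e] at h1
    · exact hp.one_lt.ne' h1
    · exact (Nat.one_lt_pow two_ne_zero hp.one_lt).ne' h1
  haveI : Nontrivial P := (Subgroup.nontrivial_iff_ne_bot P).2 hPne
  have hPp : IsPGroup p P := Sp.isPGroup'
  have hPc : ∀ x ∈ P, ∀ y ∈ P, x * y = y * x := by
    haveI : Nontrivial (center P) := hPp.center_nontrivial
    rcases hSpmin ((center P).map P.subtype) inferInstance (map_subtype_le _) with h | h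
    · exact absurd ((map_eq_bot_iff_of_injective _ P.subtype_injective).1 h)
        ((Subgroup.nontrivial_iff_ne_bot _).1 inferInstance)
    · intro x hx y hy
      obtain ⟨z, hz, rfl⟩ := h.ge hx
      exact congrArg Subtype.val (mem_center_iff.1 hz ⟨y, hy⟩).symm
  have hexp : ∀ x ∈ P, x ^ p = 1 := by
    let N : Subgroup S :=
      { carrier := {z | ∃ x ∈ P, x ^ p = z}
        one_mem' := ⟨1, P.one_mem, one_pow p⟩
        mul_mem' := by
          rintro _ _ ⟨x, hx, rfl⟩ ⟨y, hy, rfl⟩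
          exact ⟨x * y, mul_mem hx hy, (show Commute x y from hPc x hx y hy).mul_pow p⟩
        inv_mem' := by
          rintro _ ⟨x, hx, rfl⟩
          exact ⟨x⁻¹, inv_mem hx, inv_pow x p⟩ }
    have hN : N.Normal := ⟨by
      rintro _ ⟨x, hx, rfl⟩ g
      exact ⟨g * x * g⁻¹, Subgroup.Normal.conj_mem inferInstance x hx g, conj_pow⟩⟩
    rcases hSpmin N hN (by rintro _ ⟨x, hx, rfl⟩; exact pow_mem hx p) with h | h
    · exact fun x hx => mem_bot.1 (h.le ⟨x, hx, rfl⟩)
    · exfalso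
      let f : P → P := fun x => x ^ p
      have hf : Function.Surjective f := fun z => by
        obtain ⟨x, hx, hxz⟩ := h.ge z.2
        exact ⟨⟨x, hx⟩, Subtype.ext (by rw [← hxz]; rfl)⟩
      obtain ⟨x, hx⟩ := exists_prime_orderOf_dvd_card' (G := P) p (by
        rcases hSpcard with e | e <;> rw [show Nat.card P = _ from e]
        exact dvd_pow_self p two_ne_zero)
      have h1 : x = 1 := Finite.injective_iff_surjective.2 hf
        (show x ^ p = 1 ^ p by rw [one_pow, ← hx, pow_orderOf_eq_one])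
      rw [h1, orderOf_one] at hx
      exact hp.one_lt.ne hx
  -- the complement
  set H := T ⊔ Q with hH
  have hTH : T ≤ H := le_sup_left
  have hQH : Q ≤ H := le_sup_right
  replace h2q : Nat.card H = Nat.card T * Nat.card Q := h2q
  obtain ⟨a2, ha2⟩ := S₂.isPGroup'.exists_card_eq
  replace ha2 : Nat.card T = 2 ^ a2 := ha2
  have hTcard : Nat.card H = 2 ^ a2 * q := by rw [h2q, ha2, hSq]
  have hcop : (2 ^ a2).Coprime q :=
    ((Nat.coprime_primes Nat.prime_two hq).2 (Ne.symm hq2)).pow_left a2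
  have hPH : P ⊔ H = ⊤ := by
    rw [← index_eq_one]
    by_contra hne
    obtain ⟨r, hr, hrd⟩ := Nat.exists_prime_and_dvd hne
    rcases hπ r hr (hrd.trans (index_dvd_card _)) with rfl | rfl | rfl
    · exact S₂.not_dvd_index (hrd.trans (index_dvd_of_le (hTH.trans le_sup_right)))
    · exact Sp.not_dvd_index (hrd.trans (index_dvd_of_le le_sup_left))
    · exact Sq.not_dvd_index (hrd.trans (index_dvd_of_le (hQH.trans le_sup_right)))
  have hconjQ : ∀ u : S, orderOf u = q → ∃ g : S, g * u * g⁻¹ ∈ Q := by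
    intro u hu
    obtain ⟨T', hT'⟩ := IsPGroup.exists_le_sylow (p := q) (P := zpowers u)
      (IsPGroup.of_card (n := 1) (by rw [Nat.card_zpowers, hu, pow_one]))
    obtain ⟨g, hg⟩ := MulAction.exists_smul_eq S T' Sq
    refine ⟨g, ?_⟩
    rw [hQdef, ← hg]
    exact ⟨u, hT' (mem_zpowers u), rfl⟩
  have hQgen : ∀ y ∈ Q, y ≠ 1 → Q = zpowers y := fun y hy hy1 => by
    have ho : orderOf y = q := by
      have h1 : orderOf (⟨y, hy⟩ : Q) ∣ q := hSq ▸ orderOf_dvd_natCard _
      rw [Subgroup.orderOf_mk] at h1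
      exact ((Nat.dvd_prime hq).1 h1).resolve_left fun h => hy1 (orderOf_eq_one_iff.1 h)
    exact (eq_of_le_of_card_ge (zpowers_le.2 hy) (by rw [Nat.card_zpowers, ho, hSq])).symm
  have hQord : ∀ y ∈ Q, y ^ q = 1 := fun y hy => by
    have h1 : orderOf (⟨y, hy⟩ : Q) ∣ q := hSq ▸ orderOf_dvd_natCard _
    rw [Subgroup.orderOf_mk] at h1
    exact orderOf_dvd_iff_pow_eq_one.1 h1
  obtain ⟨y₀, hy₀, hy₀1⟩ : ∃ y ∈ Q, y ≠ 1 := by
    have hQb : Q ≠ ⊥ := fun h => by
      have h1 : Nat.card Q = 1 := by rw [h, card_bot]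
      rw [hSq] at h1
      exact hq.one_lt.ne' h1
    obtain ⟨y, hy⟩ := Subgroup.ne_bot_iff_exists_ne_one.1 hQb
    exact ⟨y, y.2, fun e => hy (Subtype.ext e)⟩
  -- no element of order `q` fixes a nontrivial point of `P`
  have hfq : ∀ u : S, orderOf u = q → ∀ x ∈ P, u * x = x * u → x = 1 := by
    intro u hu x hx hux
    obtain ⟨g, hg⟩ := hconjQ u hu
    set y := g * u * g⁻¹ with hy
    have hy1 : y ≠ 1 := fun e => by
      rw [hy, conj_eq_one_iff] at e
      rw [e, orderOf_one] at hu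
      exact hq.one_lt.ne hu
    let f : P →* P :=
      { toFun := fun z => ⟨y * z * y⁻¹ * (z : S)⁻¹,
          mul_mem (Subgroup.Normal.conj_mem inferInstance _ z.2 y) (inv_mem z.2)⟩
        map_one' := Subtype.ext (by simp)
        map_mul' := fun z z' => Subtype.ext (by
          show y * ((z : S) * z') * y⁻¹ * ((z : S) * z')⁻¹ =
            y * z * y⁻¹ * (z : S)⁻¹ * (y * z' * y⁻¹ * (z' : S)⁻¹)
          have h1 := hPc _ (inv_mem z.2) _
            (mul_mem (Subgroup.Normal.conj_mem (inferInstance : P.Normal) _ z'.2 y) (inv_mem z'.2))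
          rw [mul_assoc (y * (z : S) * y⁻¹), h1]
          group) }
    have hnat : ∀ (n : ℕ) (z : S) (hz : z ∈ P), y ^ n * z * (y ^ n)⁻¹ * z⁻¹ ∈ f.range.map P.subtype := by
      intro n
      induction n with
      | zero =>
        intro z hz
        rw [pow_zero, one_mul, inv_one, mul_one, mul_inv_cancel]
        exact one_mem _
      | succ n ih =>
        intro z hz
        rw [show y ^ (n + 1) * z * (y ^ (n + 1))⁻¹ * z⁻¹ =
          (y * (y ^ n * z * (y ^ n)⁻¹) * y⁻¹ * (y ^ n * z * (y ^ n)⁻¹)⁻¹) *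
            (y ^ n * z * (y ^ n)⁻¹ * z⁻¹) by rw [pow_succ']; group]
        exact mul_mem ⟨f ⟨_, Subgroup.Normal.conj_mem inferInstance z hz _⟩, ⟨_, rfl⟩, rfl⟩ (ih z hz)
    have htop : P ≤ f.range.map P.subtype := by
      conv_lhs => rw [← hcomm]
      refine commutator_le.2 fun a ha c hc => ?_
      obtain ⟨n, rfl⟩ : ∃ n : ℕ, y ^ n = c := by
        have h := (hQgen y hg hy1).le hc
        exact ((isOfFinOrder_of_finite y).mem_powers_iff_mem_zpowers).2 h
      rw [← commutatorElement_inv]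
      exact inv_mem (hnat n a ha)
    have hsurj : Function.Surjective f := fun z => by
      obtain ⟨z', ⟨w, rfl⟩, hz'⟩ := htop z.2
      exact ⟨w, Subtype.ext hz'⟩
    have hx' : g * x * g⁻¹ ∈ P := Subgroup.Normal.conj_mem inferInstance x hx g
    have h1 : (⟨g * x * g⁻¹, hx'⟩ : P) = 1 := (Finite.injective_iff_surjective.2 hsurj) (by
      rw [map_one]
      refine Subtype.ext ?_
      show y * (g * x * g⁻¹) * y⁻¹ * (g * x * g⁻¹)⁻¹ = 1
      rw [show y * (g * x * g⁻¹) * y⁻¹ = g * (u * x * u⁻¹) * g⁻¹ by rw [hy]; group, hux,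
        mul_inv_cancel_right, mul_inv_cancel])
    exact conj_eq_one_iff.1 (congrArg Subtype.val h1)
  have hC : ∀ h ∈ H, (∀ x ∈ P, h * x = x * h) → h = 1 := by
    set C := H ⊓ centralizer (P : Set S)
    have hCn : C.Normal := ⟨fun c hc g => by
      obtain ⟨x, hx, h, hh, rfl⟩ := mem_sup_of_normal_left.1 (hPH.ge (mem_top g))
      have h1 : h * c * h⁻¹ ∈ C := by
        refine ⟨H.mul_mem (H.mul_mem hh hc.1) (H.inv_mem hh), mem_centralizer_iff.2 fun z hz => ?_⟩
        have h2 := mem_centralizer_iff.1 hc.2 (h⁻¹ * z * h)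
          (by simpa using Subgroup.Normal.conj_mem (inferInstance : P.Normal) z hz h⁻¹)
        calc z * (h * c * h⁻¹) = h * ((h⁻¹ * z * h) * c) * h⁻¹ := by group
          _ = h * (c * (h⁻¹ * z * h)) * h⁻¹ := by rw [h2]
          _ = h * c * h⁻¹ * z := by group
      rw [show x * h * c * (x * h)⁻¹ = x * (h * c * h⁻¹) * x⁻¹ by group,
        mem_centralizer_iff.1 h1.2 x hx, mul_inv_cancel_right]
      exact h1⟩
    have hq' : ¬ q ∣ Nat.card C := fun hd => by
      obtain ⟨u, hu⟩ := exists_prime_orderOf_dvd_card' (G := C) q hd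
      obtain ⟨g, hg⟩ := hconjQ (u : S) (by rw [Subgroup.orderOf_coe, hu])
      have hgC := hCn.conj_mem _ u.2 g
      have hle : Q ≤ centralizer (P : Set S) := by
        rw [hQgen _ hg fun e => by
          rw [conj_eq_one_iff, OneMemClass.coe_eq_one] at e
          rw [e, orderOf_one] at hu
          exact hq.one_lt.ne hu]
        exact zpowers_le.2 hgC.2
      refine hPne ?_
      rw [← hcomm, commutator_comm]
      exact commutator_eq_bot_iff_le_centralizer.2 hle
    have hd : Nat.card C ∣ 2 ^ a2 := by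
      refine Nat.Coprime.dvd_of_dvd_mul_right ((hq.coprime_iff_not_dvd.2 hq').symm) ?_
      rw [← hTcard]
      exact card_dvd_of_le inf_le_left
    obtain ⟨i, -, hi⟩ := (Nat.dvd_prime_pow Nat.prime_two).1 hd
    have hbot : C = ⊥ := by
      haveI := hCn
      exact le_bot_iff.1 (hO2 ▸ CfsgLib.Coprime.le_pCore (IsPGroup.of_card hi))
    exact fun h hh hc => mem_bot.1 (hbot.le ⟨hh, mem_centralizer_iff.2 fun x hx => (hc x hx).symm⟩)
  -- structure of the complement
  haveI : Group.IsSolvable H := inferInstance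
  set O₀ := Cfsg.pCore 2 H with hO₀
  haveI : O₀.Normal := CfsgLib.Coprime.pCore_normal' 2
  set O := O₀.map H.subtype with hO
  have hOH : O ≤ H := map_subtype_le _
  have hOconj : ∀ h ∈ H, ∀ o ∈ O, h * o * h⁻¹ ∈ O := by
    rintro h hh _ ⟨o, ho, rfl⟩
    exact ⟨⟨h, hh⟩ * o * ⟨h, hh⟩⁻¹, Subgroup.Normal.conj_mem inferInstance o ho _, rfl⟩
  have hO2g : IsPGroup 2 O := (CfsgLib.Coprime.pCore_isPGroup 2).map _
  have hOT : O ≤ T := by
    have h1 : T ≤ normalizer (O : Set S) := fun t ht =>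
      mem_normalizer_iff.2 fun o => ⟨fun ho => hOconj t (hTH ht) o ho, fun ho => by
        have := hOconj t⁻¹ (inv_mem (hTH ht)) _ ho
        simpa [mul_assoc] using this⟩
    have h2 := IsPGroup.to_sup_of_normal_left' hO2g S₂.isPGroup' h1
    exact le_sup_left.trans (S₂.is_maximal' h2 le_sup_right).le
  have hOQ : ∀ y ∈ Q, y ∈ O → y = 1 := fun y hy hyO => by
    obtain ⟨k, hk⟩ := hO2g ⟨y, hyO⟩
    exact orderOf_eq_one_iff.1 (Nat.eq_one_of_dvd_coprimes
      (((Nat.coprime_primes Nat.prime_two hq).2 (Ne.symm hq2)).pow_left k)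
      (orderOf_dvd_of_pow_eq_one (congrArg Subtype.val hk)) (orderOf_dvd_of_pow_eq_one (hQord y hy)))
  have hdec : ∀ h ∈ H, ∀ y ∈ Q, ∃ y' ∈ Q, ∃ o ∈ O, h * y * h⁻¹ = y' * o := by
    let π := QuotientGroup.mk' O₀
    have hne : π ⟨y₀, hQH hy₀⟩ ≠ 1 := fun e =>
      hy₀1 (hOQ y₀ hy₀ ⟨_, (QuotientGroup.eq_one_iff _).1 e, rfl⟩)
    haveI : Nontrivial (H ⧸ O₀) := nontrivial_of_ne _ _ hne
    obtain ⟨A, hAn, hA, hAc⟩ := exists_abelian_normal (G := H ⧸ O₀)
    let T2 : Subgroup (H ⧸ O₀) :=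
      { carrier := {a | a ∈ A ∧ ∃ k : ℕ, a ^ 2 ^ k = 1}
        one_mem' := ⟨one_mem _, 0, one_pow _⟩
        mul_mem' := by
          rintro a c ⟨ha, k, hk⟩ ⟨hc, l, hl⟩
          refine ⟨mul_mem ha hc, k + l, ?_⟩
          rw [(show Commute a c from hAc a ha c hc).mul_pow, pow_add, pow_mul, hk, one_pow, one_mul,
            mul_comm, pow_mul, hl, one_pow]
        inv_mem' := by
          rintro a ⟨ha, k, hk⟩
          exact ⟨inv_mem ha, k, by rw [inv_pow, hk, inv_one]⟩ }
    haveI : T2.Normal := ⟨by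
      rintro a ⟨ha, k, hk⟩ g
      exact ⟨hAn.conj_mem a ha g, k, by rw [conj_pow, hk, mul_one, mul_inv_cancel]⟩⟩
    have hT2 : T2 = ⊥ := le_bot_iff.1 ((CfsgLib.Coprime.le_pCore (p := 2) fun a => by
      obtain ⟨k, hk⟩ := a.2.2
      exact ⟨k, Subtype.ext hk⟩).trans (CfsgLib.Coprime.pCore_quotient_eq_bot 2).le)
    have hdd : Nat.card (H ⧸ O₀) ∣ 2 ^ a2 * q := hTcard ▸ Subgroup.card_quotient_dvd_card O₀
    have hA2 : ¬ 2 ∣ Nat.card A := fun hd => by
      obtain ⟨a, ha⟩ := exists_prime_orderOf_dvd_card' (G := A) 2 hd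
      have h1 : (a : H ⧸ O₀) ∈ T2 :=
        ⟨a.2, 1, by rw [pow_one, ← ha, ← Subgroup.orderOf_coe, pow_orderOf_eq_one]⟩
      rw [hT2, mem_bot, OneMemClass.coe_eq_one] at h1
      rw [h1, orderOf_one] at ha
      norm_num at ha
    have hAq : Nat.card A = q := by
      have h1 : Nat.card A ∣ q := by
        refine Nat.Coprime.dvd_of_dvd_mul_left
          (((Nat.prime_two.coprime_iff_not_dvd).2 hA2).symm.pow_right a2) ?_
        exact (card_subgroup_dvd_card A).trans hdd
      exact ((Nat.dvd_prime hq).1 h1).resolve_left fun h => hA (card_eq_one.1 h)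
    have hind : A.index.Coprime q := by
      have h1 : A.index * q ∣ 2 ^ a2 * q := by
        rw [← hAq, index_mul_card, hAq]
        exact hdd
      exact hcop.coprime_dvd_left (Nat.dvd_of_mul_dvd_mul_right hq.pos h1)
    have hin : ∀ u : H, u ^ q = 1 → π u ∈ A := fun u hu => by
      obtain ⟨m, hm⟩ := exists_pow_eq_self_of_coprime (x := π u) (n := A.index)
        (hind.coprime_dvd_right (orderOf_dvd_of_pow_eq_one (by rw [← map_pow, hu, map_one])))
      rw [← hm]
      exact pow_mem (pow_index_mem A (π u)) m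
    have hAz : A = zpowers (π ⟨y₀, hQH hy₀⟩) := by
      refine (eq_of_le_of_card_ge (zpowers_le.2 (hin _ (Subtype.ext (hQord y₀ hy₀)))) ?_).symm
      rw [hAq, Nat.card_zpowers]
      refine Nat.le_of_eq (orderOf_eq_prime ?_ hne).symm
      rw [← map_pow, show (⟨y₀, hQH hy₀⟩ : H) ^ q = 1 from Subtype.ext (hQord y₀ hy₀), map_one]
    intro h hh y hy
    set u : H := ⟨h * y * h⁻¹, mul_mem (mul_mem hh (hQH hy)) (inv_mem hh)⟩
    obtain ⟨n, hn⟩ := mem_zpowers_iff.1 (hAz.le (hin u (Subtype.ext (by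
      show (h * y * h⁻¹) ^ q = 1
      rw [conj_pow, hQord y hy, mul_one, mul_inv_cancel]))))
    refine ⟨y₀ ^ n, zpow_mem hy₀ n, (y₀ ^ n)⁻¹ * (h * y * h⁻¹),
      ⟨((⟨y₀, hQH hy₀⟩ : H) ^ n)⁻¹ * u, ?_, rfl⟩, by rw [mul_inv_cancel_left]⟩
    rw [← map_zpow] at hn
    exact QuotientGroup.eq.1 hn
  set R := ⁅O, O ⊔ Q⁆ with hR
  have hOQH : O ⊔ Q ≤ H := sup_le hOH hQH
  have hRO : R ≤ O := commutator_le.2 fun o ho n hn => by
    rw [commutatorElement_def, mul_assoc, mul_assoc, ← mul_assoc n]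
    exact mul_mem ho (hOconj n (hOQH hn) _ (inv_mem ho))
  have hRH : R ≤ H := hRO.trans hOH
  have hRconj : ∀ h ∈ H, ∀ r ∈ R, h * r * h⁻¹ ∈ R := by
    intro h hh r hr
    have h1 : R ≤ R.comap (MulAut.conj h).toMonoidHom := by
      refine commutator_le.2 fun o ho n hn => ?_
      show (MulAut.conj h).toMonoidHom ⁅o, n⁆ ∈ R
      rw [map_commutatorElement]
      refine commutator_mem_commutator (hOconj h hh o ho) ?_
      refine (sup_le (fun o' ho' => ?_) (fun y hy => ?_) :
        O ⊔ Q ≤ (O ⊔ Q).comap (MulAut.conj h).toMonoidHom) hn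
      · exact mem_sup_left (hOconj h hh o' ho')
      · obtain ⟨y', hy', o', ho', e⟩ := hdec h hh y hy
        show h * y * h⁻¹ ∈ O ⊔ Q
        rw [e]
        exact mul_mem (mem_sup_right hy') (mem_sup_left ho')
    exact h1 hr
  have hpow : ∀ y ∈ Q, ∀ o ∈ O, ∀ n : ℕ, ∃ r ∈ R, (y * o) ^ n = y ^ n * o ^ n * r := by
    intro y hy o ho n
    induction n with
    | zero => exact ⟨1, one_mem _, by rw [pow_zero, pow_zero, pow_zero, mul_one, mul_one]⟩
    | succ n ih =>
      obtain ⟨r, hr, e⟩ := ih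
      have h1 : ⁅(o ^ n)⁻¹, y⁻¹⁆ * (y⁻¹ * r * y) ∈ R := mul_mem
        (commutator_mem_commutator (inv_mem (pow_mem ho n)) (mem_sup_right (inv_mem hy)))
        (by simpa using hRconj y⁻¹ (inv_mem (hQH hy)) r hr)
      refine ⟨o⁻¹ * (⁅(o ^ n)⁻¹, y⁻¹⁆ * (y⁻¹ * r * y)) * o, ?_, ?_⟩
      · simpa using hRconj o⁻¹ (inv_mem (hOH ho)) _ h1
      · rw [pow_succ, e, pow_succ, pow_succ, commutatorElement_def]
        group
  have hconjR : ∀ h ∈ H, ∀ y ∈ Q, ∃ y' ∈ Q, ∃ r ∈ R, h * y * h⁻¹ = y' * r := by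
    intro h hh y hy
    obtain ⟨y', hy', o, ho, e⟩ := hdec h hh y hy
    refine ⟨y', hy', o, ?_, e⟩
    obtain ⟨r, hr, e'⟩ := hpow y' hy' o ho q
    rw [← e, conj_pow, hQord y hy, mul_one, mul_inv_cancel, hQord y' hy', one_mul] at e'
    have h1 : o ^ q ∈ R := by
      rw [eq_inv_of_mul_eq_one_left e'.symm]
      exact inv_mem hr
    obtain ⟨k, hk⟩ := hO2g ⟨o, ho⟩
    obtain ⟨m, hm⟩ := exists_pow_eq_self_of_coprime (x := o) (n := q)
      ((((Nat.coprime_primes Nat.prime_two hq).2 (Ne.symm hq2)).pow_left k).symm.coprime_dvd_right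
        (orderOf_dvd_of_pow_eq_one (congrArg Subtype.val hk)))
    rw [← hm]
    exact pow_mem h1 m
  let K : Subgroup S :=
    { carrier := {g | ∃ y ∈ Q, ∃ r ∈ R, g = y * r}
      one_mem' := ⟨1, one_mem _, 1, one_mem _, (one_mul 1).symm⟩
      mul_mem' := by
        rintro _ _ ⟨y, hy, r, hr, rfl⟩ ⟨y', hy', r', hr', rfl⟩
        refine ⟨y * y', mul_mem hy hy', y'⁻¹ * r * y' * r', mul_mem ?_ hr', by group⟩
        simpa using hRconj y'⁻¹ (inv_mem (hQH hy')) r hr
      inv_mem' := by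
        rintro _ ⟨y, hy, r, hr, rfl⟩
        exact ⟨y⁻¹, inv_mem hy, y * r⁻¹ * y⁻¹, hRconj y (hQH hy) _ (inv_mem hr), by group⟩ }
  have hRK : R ≤ K := fun r hr => ⟨1, one_mem _, r, hr, (one_mul r).symm⟩
  have hQK : Q ≤ K := fun y hy => ⟨y, hy, 1, one_mem _, (mul_one y).symm⟩
  have hKH : K ≤ H := by
    rintro _ ⟨y, hy, r, hr, rfl⟩
    exact mul_mem (hQH hy) (hRH hr)
  have hKconj : ∀ h ∈ H, ∀ g ∈ K, h * g * h⁻¹ ∈ K := by
    rintro h hh _ ⟨y, hy, r, hr, rfl⟩
    obtain ⟨y', hy', r', hr', e⟩ := hconjR h hh y hy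
    exact ⟨y', hy', r' * (h * r * h⁻¹), mul_mem hr' (hRconj h hh r hr), by
      rw [← mul_assoc y' r', ← e]; group⟩
  -- `R` is free on `P`
  have hfR : ∀ r ∈ R, r ≠ 1 → ∀ x ∈ P, r * x = x * r → x = 1 := by
    intro r hr hr1 x hx hrx
    by_contra hx1
    letI : CommGroup P :=
      { (inferInstance : Group P) with mul_comm := fun a c => Subtype.ext (hPc _ a.2 _ c.2) }
    letI : Module (ZMod p) (Additive P) := AddCommGroup.zmodModule (n := p) fun a => by
      show Additive.ofMul (a.toMul ^ p) = 0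
      rw [show a.toMul ^ p = 1 from Subtype.ext (hexp _ a.toMul.2)]
      rfl
    haveI : Finite (Additive P) := Finite.of_equiv P Additive.ofMul
    let c : H → (Additive P →+ Additive P) := fun h =>
      MonoidHom.toAdditive (MulAut.conjNormal (H := P) (h : S)).toMonoidHom
    have hc : ∀ (h : H) (z : Additive P),
        ((Additive.toMul (c h z) : P) : S) = h * (Additive.toMul z : P) * (h : S)⁻¹ := fun h z => rfl
    have hext : ∀ {z z' : Additive P},
        ((Additive.toMul z : P) : S) = (Additive.toMul z' : P) → z = z' :=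
      fun h => Additive.toMul.injective (Subtype.ext h)
    have hr' : (⟨r, hRH hr⟩ : H) ∈ commutator H := by
      have h1 : r ∈ (commutator H).map H.subtype := by
        rw [map_subtype_commutator]
        exact commutator_mono hOH hOQH hr
      obtain ⟨z, hz, hzr⟩ := h1
      exact (show z = ⟨r, hRH hr⟩ from Subtype.ext hzr) ▸ hz
    have hd : Nat.card (Additive P) ≤ p ^ 2 := by
      rw [Nat.card_congr Additive.toMul]
      rcases hSpcard with e | e <;> rw [e]
      exact Nat.le_self_pow two_ne_zero p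
    have hu := unip hd c (fun z => hext (by rw [hc]; simp))
      (fun g h z => hext (by rw [hc, hc, hc, Subgroup.coe_mul]; group)) hr'
      (v := Additive.ofMul ⟨x, hx⟩) (fun e => hx1 (congrArg (fun a => ((Additive.toMul a : P) : S)) e))
      (hext (by rw [hc]; show r * x * r⁻¹ = x; rw [hrx, mul_inv_cancel_right]))
    have hrp : r ^ p = 1 := hC _ (pow_mem (hRH hr) p) fun z hz => by
      have h := congrArg (fun a => ((Additive.toMul a : P) : S)) (hu (Additive.ofMul ⟨z, hz⟩))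
      have h' : r ^ p * z * (r ^ p)⁻¹ = z := h
      calc r ^ p * z = r ^ p * z * (r ^ p)⁻¹ * r ^ p := by group
        _ = z * r ^ p := by rw [h']
    obtain ⟨k, hk⟩ := hO2g ⟨r, hRO hr⟩
    exact hr1 (orderOf_eq_one_iff.1 (Nat.eq_one_of_dvd_coprimes
      (((Nat.coprime_primes Nat.prime_two hp).2 (Ne.symm hp2)).pow_left k)
      (orderOf_dvd_of_pow_eq_one (congrArg Subtype.val hk)) (orderOf_dvd_of_pow_eq_one hrp)))
  have hfK : ∀ g ∈ K, g ≠ 1 → ∀ x ∈ P, g * x = x * g → x = 1 := by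
    rintro _ ⟨y, hy, r, hr, rfl⟩ hg x hx hgx
    rcases eq_or_ne y 1 with rfl | hy1
    · rw [one_mul] at hg hgx
      exact hfR r hr hg x hx hgx
    obtain ⟨r', hr', e⟩ := hpow y hy r (hRO hr) (orderOf (y * r))
    rw [pow_orderOf_eq_one] at e
    have hym : y ^ orderOf (y * r) = 1 := hOQ _ (pow_mem hy _) (by
      rw [mul_assoc] at e
      rw [eq_inv_of_mul_eq_one_left e.symm]
      exact inv_mem (mul_mem (pow_mem (hRO hr) _) (hRO hr')))
    have hqm : q ∣ orderOf (y * r) :=
      (orderOf_eq_prime (hQord y hy) hy1) ▸ orderOf_dvd_of_pow_eq_one hym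
    have hm0 : 0 < orderOf (y * r) := orderOf_pos _
    refine hfq ((y * r) ^ (orderOf (y * r) / q)) (orderOf_eq_prime ?_ ?_) x hx
      ((show Commute (y * r) x from hgx).pow_left _)
    · rw [← pow_mul, Nat.div_mul_cancel hqm, pow_orderOf_eq_one]
    · exact pow_ne_one_of_lt_orderOf (Nat.div_pos (Nat.le_of_dvd hm0 hqm) hq.pos).ne'
        (Nat.div_lt_self hm0 hq.one_lt)
  have hfix : ∀ v : E, (∀ x ∈ P, ρ x v = v) → v = 0 := by
    intro v hv
    rcases hirr (fixS ρ P) (fun s m hm x hx => by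
      have := hm (s⁻¹ * x * s) (by
        simpa using Subgroup.Normal.conj_mem (inferInstance : P.Normal) x hx s⁻¹)
      rw [← rep_mul, show x * s = s * (s⁻¹ * x * s) by group, rep_mul, this]) with h | h
    · exact (Submodule.mem_bot _).1 (h.le hv)
    · exfalso
      refine hPne ((eq_bot_iff_forall P).2 fun x hx => hfaith x hx (LinearMap.ext fun w => ?_))
      exact (h.ge Submodule.mem_top : w ∈ fixS ρ P) x hx
  have hPodd : Odd (Nat.card P) := by
    have hpo := hp.odd_of_ne_two hp2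
    rcases hSpcard with e | e <;> rw [show Nat.card P = _ from e]
    exacts [hpo, hpo.pow]
  obtain ⟨⟨a₀, ha₀, haK⟩, hmove⟩ := CfsgLib.FrobTwo.exists_fixed ρ P K hPc hPodd
    (fun g _ => (normalizer_eq_top (H := P)).ge (mem_top g)) hfix hfK
  obtain ⟨u, huR, huy⟩ := hmove R hRK y₀ (hQK hy₀) fun h => hy₀1 (hOQ y₀ hy₀ (hRO h))
  -- fixed points of `T`
  have hTfix : ∀ (J : Subgroup S), (∀ h ∈ H, ∀ g ∈ J, h * g * h⁻¹ ∈ J) →
      ∀ t ∈ T, ∀ v ∈ fixS ρ J, ρ t v ∈ fixS ρ J := by
    intro J hJ t ht v hv g hg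
    rw [← rep_mul, show g * t = t * (t⁻¹ * g * t) by group, rep_mul,
      hv _ (by simpa using hJ t⁻¹ (inv_mem (hTH ht)) g hg)]
  obtain ⟨a, haU, ha0, haT⟩ := CfsgLib.FrobTwo.exists_fixed_two S₂.isPGroup' (fixS ρ K)
    (hTfix K hKconj) (u := a₀) haK ha₀
  let W : Submodule (ZMod 2) E :=
    Submodule.span _ {z | ∃ g ∈ K, ∃ v ∈ fixS ρ R, ρ g v - v = z}
  have hWT : ∀ t ∈ T, ∀ w ∈ W, ρ t w ∈ W := by
    intro t ht w hw
    refine Submodule.span_induction (p := fun z _ => ρ t z ∈ W) ?_ ?_ ?_ ?_ hw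
    · rintro _ ⟨g, hg, v, hv, rfl⟩
      refine Submodule.subset_span ⟨t * g * t⁻¹, hKconj t (hTH ht) g hg, ρ t v,
        hTfix R hRconj t ht v hv, ?_⟩
      rw [map_sub, ← rep_mul, inv_mul_cancel_right, rep_mul]
    · rw [map_zero]; exact zero_mem _
    · intro x z _ _ hx hz; rw [map_add]; exact add_mem hx hz
    · intro c x _ hx; rw [map_smul]; exact Submodule.smul_mem _ c hx
  set Qs := (Q : Set S).toFinite.toFinset
  have hWQ : ∀ w ∈ W, ∑ y ∈ Qs, ρ y w = 0 := by
    intro w hw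
    refine Submodule.span_induction (p := fun z _ => ∑ y ∈ Qs, ρ y z = 0) ?_ ?_ ?_ ?_ hw
    · rintro _ ⟨_, ⟨y', hy', r, hr, rfl⟩, v, hv, rfl⟩
      simp only [map_sub, Finset.sum_sub_distrib, sub_eq_zero]
      refine Finset.sum_equiv (Equiv.mulRight y') (fun g => ?_) fun g _ => ?_
      · simp only [Qs, Set.Finite.mem_toFinset, SetLike.mem_coe, Equiv.coe_mulRight]
        exact (Q.mul_mem_cancel_right hy').symm
      · rw [Equiv.coe_mulRight, rep_mul ρ g y', rep_mul ρ y' r, hv r hr]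
    · simp only [map_zero, Finset.sum_const_zero]
    · intro x z _ _ hx hz; simp only [map_add, Finset.sum_add_distrib, hx, hz, add_zero]
    · intro c x _ hx; simp only [map_smul, ← Finset.smul_sum, hx, smul_zero]
  obtain ⟨w, hwW, hw0, hwT⟩ := CfsgLib.FrobTwo.exists_fixed_two S₂.isPGroup' W hWT
    (u := ρ y₀ u - u) (Submodule.subset_span ⟨y₀, hQK hy₀, u, huR, rfl⟩) (sub_ne_zero.2 huy)
  have hwQ : ¬ ∀ y ∈ Q, ρ y w = w := by
    intro h
    refine hw0 ?_
    have h1 := hWQ w hwW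
    rw [Finset.sum_congr rfl fun y hy => h y ((Set.Finite.mem_toFinset _).1 hy), Finset.sum_const,
      ← Set.ncard_eq_toFinset_card (Q : Set S) (Q : Set S).toFinite, ← Nat.card_coe_set_eq,
      SetLike.coe_sort_coe, hSq, ← Nat.cast_smul_eq_nsmul (ZMod 2),
      ZMod.natCast_eq_one_iff_odd.2 (hq.odd_of_ne_two hq2), one_smul] at h1
    exact h1
  have haw : w ≠ a := fun e => hwQ fun y hy => e ▸ haU y (hQK hy)
  set F := fixS ρ T with hF
  let f : Bool × Bool → F := fun s =>
    ⟨(if s.1 then a else 0) + (if s.2 then w else 0),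
      add_mem (by split_ifs; exacts [haT, zero_mem _]) (by split_ifs; exacts [hwT, zero_mem _])⟩
  have hawn : a + w ≠ 0 := fun e => haw (by
    rw [← sub_eq_zero, ZModModule.sub_eq_add, add_comm]; exact e)
  have hf : Function.Injective f := by
    rintro ⟨i, j⟩ ⟨i', j'⟩ h
    have h' : (if i then a else 0) + (if j then w else 0) =
        (if i' then a else 0) + (if j' then w else 0) := congrArg Subtype.val h
    cases i <;> cases j <;> cases i' <;> cases j' <;>
      simp [ha0, hw0, haw, haw.symm, hawn, hawn.symm, eq_comm] at h' ⊢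
  have h4 : 4 ≤ Nat.card F := by
    have := Nat.card_le_card_of_injective f hf
    simpa [Nat.card_prod] using this
  rcases Nat.lt_or_ge (Nat.card F) 8 with h8 | h8
  swap
  · exact Or.inl h8
  have hcardF : Nat.card F = 4 := by
    have h := Module.natCard_eq_pow_finrank (K := ZMod 2) (V := F)
    rw [Nat.card_zmod] at h
    rw [h] at h4 h8 ⊢
    have h1 : Module.finrank (ZMod 2) F < 3 := (Nat.pow_lt_pow_iff_right (a := 2) one_lt_two).1 h8
    have h2 : 2 ≤ Module.finrank (ZMod 2) F := (Nat.pow_le_pow_iff_right (a := 2) one_lt_two).1 h4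
    rw [show Module.finrank (ZMod 2) F = 2 by omega]
    norm_num
  refine Or.inr ⟨hcardF, ?_⟩
  by_contra hall
  push Not at hall
  refine hwQ fun y hy => ?_
  have hyw : ρ y w ∈ F := hall y hy w hwT
  have hsur : Function.Surjective f :=
    ((Nat.bijective_iff_injective_and_card f).2 ⟨hf, by simp [Nat.card_prod, hcardF]⟩).2
  obtain ⟨⟨i, j⟩, hij⟩ := hsur ⟨_, hyw⟩
  have hij' : (if i then a else 0) + (if j then w else 0) = ρ y w := congrArg Subtype.val hij
  have hinj : ∀ z, ρ y z = ρ y w → z = w := fun z hz => CfsgLib.PGroup.rep_injective ρ y hz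
  have hyK := haU y (hQK hy)
  cases i <;> cases j <;>
    simp only [if_true, if_false, Bool.false_eq_true, zero_add, add_zero] at hij'
  · exact absurd (hinj 0 (by rw [map_zero]; exact hij')) hw0.symm
  · exact hij'.symm
  · exact absurd (hinj a (hyK.trans hij')) haw.symm
  · exfalso
    have hn : ∀ n : ℕ, ρ (y ^ n) w = (n : ZMod 2) • a + w := by
      intro n
      induction n with
      | zero => rw [pow_zero, map_one, Nat.cast_zero, zero_smul, zero_add]; rfl
      | succ n ih =>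
        rw [pow_succ', rep_mul, ih, map_add, map_smul, hyK, ← hij', Nat.cast_succ, add_smul,
          one_smul, add_assoc]
    have h := hn q
    rw [hQord y hy, map_one, ZMod.natCast_eq_one_iff_odd.2 (hq.odd_of_ne_two hq2), one_smul] at h
    exact ha0 (add_eq_right.1 h.symm)

end CfsgLib.TwoPQ
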