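import Cfsg.Agent.Lib.Coprime.Action
import Cfsg.Agent.Lib.Coprime.Fitting
import Cfsg.Agent.Lib.Coprime.Solvable
import Cfsg.Agent.Lib.Coprime.PGroupFrattini
import Mathlib.GroupTheory.SemidirectProduct

/-!
Fixed point free coprime operator groups: reduction of "`G/F(G)` is nilpotent" to a statement
about an irreducible faithful configuration `(R, T, V)`.
-/

set_option autoImplicit false
set_option linter.style.haveILetI false
set_option linter.unusedSectionVars false

namespace CfsgLib.PGroup

open Subgroup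
open scoped IsMulCommutative

universe u w

/-- A group `A₀` acting coprimely and without fixed points on the subgroup `G` of `Γ`. -/
structure FpfCtx (A₀ : Type w) [Group A₀] (Γ : Type u) [Group Γ] where
  G : Subgroup Γ
  ι : A₀ →* Γ
  inj : Function.Injective ι
  norm : ι.range ≤ normalizer (G : Set Γ)
  cop : (Nat.card A₀).Coprime (Nat.card G)
  fpf : ∀ g ∈ G, (∀ a : A₀, Commute (ι a) g) → g = 1

variable {A₀ : Type w} [Group A₀]

/-- An invariant configuration `(R, T, V)`. -/
structure FpfCfg {Γ : Type u} [Group Γ] (C : FpfCtx A₀ Γ) (r t l : ℕ) (R T V : Subgroup Γ) :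
    Prop where
  R_le : R ≤ C.G
  T_le : T ≤ C.G
  V_le : V ≤ C.G
  pR : IsPGroup r R
  pT : IsPGroup t T
  pV : IsPGroup l V
  aR : C.ι.range ≤ normalizer (R : Set Γ)
  aT : C.ι.range ≤ normalizer (T : Set Γ)
  aV : C.ι.range ≤ normalizer (V : Set Γ)
  tR : T ≤ normalizer (R : Set Γ)
  rV : R ≤ normalizer (V : Set Γ)
  tV : T ≤ normalizer (V : Set Γ)

/-- `[R, T]` centralizes `V`. -/
def RTCentralizes {Γ : Type u} [Group Γ] (R T V : Subgroup Γ) : Prop :=
  ∀ x ∈ R, ∀ y ∈ T, ∀ v ∈ V, Commute (x * y * x⁻¹ * y⁻¹) v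

/-- The irreducible faithful case. -/
def FpfBase (A₀ : Type w) [Group A₀] : Prop :=
  ∀ (Γ : Type u) [Group Γ] [Finite Γ] (C : FpfCtx A₀ Γ) (r t l : ℕ) [Fact r.Prime] [Fact t.Prime]
    [Fact l.Prime] (R T V : Subgroup Γ), r ≠ t → r ≠ l → FpfCfg C r t l R T V →
    IsMulCommutative V → (∀ v ∈ V, v ^ l = 1) →
    (∀ x ∈ R, (∀ v ∈ V, Commute x v) → x = 1) →
    (∀ W : Subgroup Γ, W ≤ V → C.ι.range ≤ normalizer (W : Set Γ) → R ≤ normalizer (W : Set Γ) →
      T ≤ normalizer (W : Set Γ) → W = ⊥ ∨ W = V) →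
    (∀ R₁ T₁ : Subgroup Γ, R₁ ≤ R → T₁ ≤ T → FpfCfg C r t l R₁ T₁ V →
      Nat.card R₁ + Nat.card T₁ < Nat.card R + Nat.card T → RTCentralizes R₁ T₁ V) →
    RTCentralizes R T V

section Section

variable {Γ : Type u} [Group Γ] [Finite Γ]

/-- Sections `N(K)/K`. -/
abbrev SectionGroup (K : Subgroup Γ) : Type u :=
  normalizer (K : Set Γ) ⧸ K.subgroupOf (normalizer (K : Set Γ))

/-- The image of a subgroup in the section. -/
def sectionImg (K H : Subgroup Γ) : Subgroup (SectionGroup K) :=
  (H.subgroupOf (normalizer (K : Set Γ))).map (QuotientGroup.mk' _)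

theorem mem_sectionImg {K H : Subgroup Γ} {x : SectionGroup K} :
    x ∈ sectionImg K H ↔ ∃ h : normalizer (K : Set Γ), (h : Γ) ∈ H ∧ QuotientGroup.mk' _ h = x := by
  simp [sectionImg, Subgroup.mem_map, Subgroup.mem_subgroupOf]

theorem sectionImg_mono {K H L : Subgroup Γ} (h : H ≤ L) : sectionImg K H ≤ sectionImg K L :=
  map_mono fun _ hx => h hx

theorem sectionImg_le_normalizer {K H S : Subgroup Γ} (h : S ≤ normalizer (H : Set Γ)) :
    sectionImg K S ≤ normalizer (sectionImg K H : Set (SectionGroup K)) := by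
  have h1 : S.subgroupOf (normalizer (K : Set Γ)) ≤
      normalizer ((H.subgroupOf (normalizer (K : Set Γ))) : Set (normalizer (K : Set Γ))) := by
    intro s hs
    rw [mem_normalizer_iff]
    intro x
    simpa [mem_subgroupOf] using mem_normalizer_iff.1 (h hs) (x : Γ)
  exact (map_mono h1).trans (le_normalizer_map _)

theorem isPGroup_sectionImg {p : ℕ} {K H : Subgroup Γ} (h : IsPGroup p H) :
    IsPGroup p (sectionImg K H) :=
  (h.comap_subtype).map _

theorem card_sectionImg_le {K H : Subgroup Γ} (hH : H ≤ normalizer (K : Set Γ)) :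
    Nat.card (sectionImg K H) ≤ Nat.card H := by
  refine le_trans (Nat.le_of_dvd Nat.card_pos (card_map_dvd _ _)) ?_
  exact le_of_eq (Nat.card_congr (subgroupOfEquivOfLe hH).toEquiv)

theorem card_sectionImg_lt {K H : Subgroup Γ} (hH : H ≤ normalizer (K : Set Γ)) (hKH : K ≤ H)
    (hK : K ≠ ⊥) : Nat.card (sectionImg K H) < Nat.card H := by
  refine lt_of_le_of_ne (card_sectionImg_le hH) fun e => ?_
  let f : H → sectionImg K H := fun h =>
    ⟨QuotientGroup.mk' _ ⟨(h : Γ), hH h.2⟩, mem_sectionImg.2 ⟨⟨(h : Γ), hH h.2⟩, h.2, rfl⟩⟩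
  have hs : Function.Surjective f := by
    rintro ⟨x, hx⟩
    obtain ⟨h, hh, rfl⟩ := mem_sectionImg.1 hx
    exact ⟨⟨(h : Γ), hh⟩, rfl⟩
  have hb : Function.Bijective f :=
    (Nat.bijective_iff_surjective_and_card f).2 ⟨hs, e.symm⟩
  apply hK
  rw [eq_bot_iff]
  intro k hk
  have : f ⟨k, hKH hk⟩ = f 1 := by
    apply Subtype.ext
    refine (QuotientGroup.eq (s := K.subgroupOf (normalizer (K : Set Γ)))).2 ?_
    rw [mem_subgroupOf]
    simpa using inv_mem hk
  exact mem_bot.2 (congrArg Subtype.val (hb.1 this))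

/-- The context in the section. -/
def FpfCtx.sectionCtx (C : FpfCtx A₀ Γ) (K : Subgroup Γ) (hK : K ≤ C.G)
    (hs : Group.IsSolvable K) (hAK : C.ι.range ≤ normalizer (K : Set Γ)) :
    FpfCtx A₀ (SectionGroup K) where
  G := sectionImg K C.G
  ι := (QuotientGroup.mk' _).comp
    (C.ι.codRestrict (normalizer (K : Set Γ)) fun a => hAK ⟨a, rfl⟩)
  inj := by
    rw [injective_iff_map_eq_one]
    intro a ha
    have hmem : C.ι a ∈ K :=
      (mem_subgroupOf).1 ((QuotientGroup.eq_one_iff (N := K.subgroupOf (normalizer (K : Set Γ))) _).1 ha)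
    apply C.inj
    rw [map_one, ← orderOf_eq_one_iff]
    exact Nat.eq_one_of_dvd_coprimes C.cop (dvd_trans (orderOf_map_dvd _ a) (orderOf_dvd_natCard a))
      (Subgroup.orderOf_dvd_natCard C.G (hK hmem))
  norm := by
    rintro _ ⟨a, rfl⟩
    have h1 : sectionImg K C.ι.range ≤ normalizer (sectionImg K C.G : Set (SectionGroup K)) :=
      sectionImg_le_normalizer C.norm
    exact h1 (mem_sectionImg.2 ⟨_, ⟨a, rfl⟩, rfl⟩)
  cop := by
    refine C.cop.coprime_dvd_right (dvd_trans (card_map_dvd _ _) ?_)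
    rw [← card_map_of_injective (normalizer (K : Set Γ)).subtype_injective
      (K := C.G.subgroupOf (normalizer (K : Set Γ))), subgroupOf_map_subtype]
    exact card_dvd_of_le inf_le_left
  fpf := by
    intro x hx hfix
    obtain ⟨g, hg, rfl⟩ := mem_sectionImg.1 hx
    have hcopK : (Nat.card C.ι.range).Coprime (Nat.card K) :=
      (C.cop.coprime_dvd_left (card_range_dvd C.ι)).coprime_dvd_right (card_dvd_of_le hK)
    obtain ⟨n, hn, hc⟩ := Coprime.exists_fixed_in_coset hAK hcopK (Or.inr hs) g.2 (fun a ha => by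
      obtain ⟨a, rfl⟩ := ha
      have e := (hfix a).eq
      rw [MonoidHom.comp_apply, ← map_mul, ← map_mul] at e
      have e1 := mem_subgroupOf.1 ((QuotientGroup.eq (s := K.subgroupOf (normalizer (K : Set Γ)))).1 e.symm)
      have e2 := (mem_normalizer_iff.1 (mul_mem g.2 (hAK ⟨a, rfl⟩) : (g : Γ) * C.ι a ∈ _) _).1 e1
      simpa [mul_assoc] using e2)
    have h1 : (g : Γ) * n = 1 := by
      refine C.fpf _ (mul_mem hg (hK hn)) fun a => ?_
      exact mem_centralizer_iff.1 hc (C.ι a) ⟨a, rfl⟩
    refine (QuotientGroup.eq_one_iff _).2 (mem_subgroupOf.2 ?_)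
    rw [eq_inv_of_mul_eq_one_left h1]
    exact inv_mem hn

theorem FpfCfg.section {C : FpfCtx A₀ Γ} {r t l : ℕ} {R T V : Subgroup Γ}
    (h : FpfCfg C r t l R T V) (K : Subgroup Γ) (hK : K ≤ C.G) (hs : Group.IsSolvable K)
    (hAK : C.ι.range ≤ normalizer (K : Set Γ)) :
    FpfCfg (C.sectionCtx K hK hs hAK) r t l (sectionImg K R) (sectionImg K T) (sectionImg K V) := by
  have hA : ∀ H : Subgroup Γ, C.ι.range ≤ normalizer (H : Set Γ) →
      (C.sectionCtx K hK hs hAK).ι.range ≤ normalizer (sectionImg K H : Set (SectionGroup K)) := by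
    intro H hH
    rintro _ ⟨a, rfl⟩
    exact sectionImg_le_normalizer hH (mem_sectionImg.2 ⟨_, ⟨a, rfl⟩, rfl⟩)
  exact ⟨sectionImg_mono h.R_le, sectionImg_mono h.T_le, sectionImg_mono h.V_le,
    isPGroup_sectionImg h.pR, isPGroup_sectionImg h.pT, isPGroup_sectionImg h.pV,
    hA R h.aR, hA T h.aT, hA V h.aV, sectionImg_le_normalizer h.tR,
    sectionImg_le_normalizer h.rV, sectionImg_le_normalizer h.tV⟩

end Section

theorem commutator_mem_of_mem_normalizer {Γ : Type u} [Group Γ] {R T : Subgroup Γ}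
    (h : T ≤ normalizer (R : Set Γ)) {x y : Γ} (hx : x ∈ R) (hy : y ∈ T) :
    x * y * x⁻¹ * y⁻¹ ∈ R := by
  rw [show x * y * x⁻¹ * y⁻¹ = x * (y * x⁻¹ * y⁻¹) by group]
  exact mul_mem hx (Coprime.conj_mem_of_le_normalizer h hy (inv_mem hx))

theorem normalizer_le_normalizer_frattini {Γ : Type u} [Group Γ] (V : Subgroup Γ) :
    normalizer (V : Set Γ) ≤ normalizer (((frattini V).map V.subtype : Subgroup Γ) : Set Γ) := by
  have key : ∀ g ∈ normalizer (V : Set Γ), ∀ x ∈ (frattini V).map V.subtype,
      g * x * g⁻¹ ∈ (frattini V).map V.subtype := by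
    rintro g hg _ ⟨v, hv, rfl⟩
    let σ : V ≃* V :=
      { toFun := fun v => ⟨g * v * g⁻¹, (mem_normalizer_iff.1 hg _).1 v.2⟩
        invFun := fun v => ⟨g⁻¹ * v * g, (mem_normalizer_iff''.1 hg _).1 v.2⟩
        left_inv := fun v => Subtype.ext (by simp [mul_assoc])
        right_inv := fun v => Subtype.ext (by simp [mul_assoc])
        map_mul' := fun a b => Subtype.ext (by simp [mul_assoc]) }
    exact ⟨σ v, (Characteristic.fixed (H := frattini V) inferInstance σ).ge hv, rfl⟩
  intro g hg
  rw [mem_normalizer_iff]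
  refine fun x => ⟨key g hg x, fun hx => ?_⟩
  have := key g⁻¹ (inv_mem hg) _ hx
  simpa [mul_assoc] using this

/-- Induction to the irreducible faithful case. -/
theorem rtCentralizes_of_base (hbase : FpfBase.{u} A₀) :
    ∀ (n : ℕ) (Γ : Type u) [Group Γ] [Finite Γ] (C : FpfCtx A₀ Γ) (r t l : ℕ) [Fact r.Prime]
      [Fact t.Prime] [Fact l.Prime] (R T V : Subgroup Γ), Nat.card R + Nat.card T + Nat.card V ≤ n → r ≠ t → r ≠ l →
      FpfCfg C r t l R T V → RTCentralizes R T V := by
  intro n
  induction n using Nat.strong_induction_on with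
  | _ n ih =>
    intro Γ _ _ C r t l _ _ _ R T V hn hrt hrl h
    haveI : Group.IsNilpotent V := h.pV.isNilpotent
    haveI : Group.IsNilpotent R := h.pR.isNilpotent
    have hcopRV : ∀ x ∈ R, ∀ v ∈ V, (orderOf x).Coprime (orderOf v) := by
      intro x hx v hv
      obtain ⟨a, ha⟩ := IsPGroup.iff_card.1 h.pR
      obtain ⟨b, hb⟩ := IsPGroup.iff_card.1 h.pV
      have := (Nat.coprime_primes (Fact.out : r.Prime) (Fact.out : l.Prime)).2 hrl
      exact ((this.pow a b).coprime_dvd_left (ha ▸ Subgroup.orderOf_dvd_natCard R hx)).coprime_dvd_right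
        (hb ▸ Subgroup.orderOf_dvd_natCard V hv)
    -- reduction along an invariant subgroup
    have hstep : ∀ W : Subgroup Γ, W ≤ V → W ≠ ⊥ → W ≠ V → C.ι.range ≤ normalizer (W : Set Γ) →
        R ≤ normalizer (W : Set Γ) → T ≤ normalizer (W : Set Γ) → V ≤ normalizer (W : Set Γ) →
        RTCentralizes R T V := by
      intro W hWV hW0 hWne haW hrW htW hvW
      have hlt : Nat.card W < Nat.card V :=
        lt_of_le_of_ne (Nat.le_of_dvd Nat.card_pos (card_dvd_of_le hWV))
          fun e => hWne (eq_of_le_of_card_ge hWV e.ge)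
      have hsolv : Group.IsSolvable W := Coprime.isSolvable_of_isNilpotent (h.pV.to_le hWV).isNilpotent
      have h1 := ih _ (lt_of_lt_of_le (Nat.add_lt_add_left hlt _) hn) Γ C r t l R T W le_rfl hrt hrl
        ⟨h.R_le, h.T_le, hWV.trans h.V_le, h.pR, h.pT, h.pV.to_le hWV, h.aR, h.aT, haW, h.tR, hrW, htW⟩
      have hlt2 := card_sectionImg_lt hvW hWV hW0
      have h2 := ih _ (lt_of_lt_of_le (Nat.add_lt_add_of_le_of_lt
        (Nat.add_le_add (card_sectionImg_le hrW) (card_sectionImg_le htW)) hlt2) hn)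
        (SectionGroup W) _ r t l _ _ _ le_rfl hrt hrl (h.section W (hWV.trans h.V_le) hsolv haW)
      intro x hx y hy v hv
      set d := x * y * x⁻¹ * y⁻¹ with hd
      have hdR : d ∈ R := commutator_mem_of_mem_normalizer h.tR hx hy
      have e := h2 _ (mem_sectionImg.2 ⟨⟨x, hrW hx⟩, hx, rfl⟩) _ (mem_sectionImg.2 ⟨⟨y, htW hy⟩, hy, rfl⟩)
        _ (mem_sectionImg.2 ⟨⟨v, hvW hv⟩, hv, rfl⟩)
      simp only [← map_inv, ← map_mul] at e
      have e' := e.eq
      rw [← map_mul, ← map_mul] at e'
      have hm := mem_subgroupOf.1 ((QuotientGroup.eq (s := W.subgroupOf (normalizer (W : Set Γ)))).1 e'.symm)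
      simp only [Subgroup.coe_mul, Subgroup.coe_inv] at hm
      rw [← hd] at hm
      -- `d * v * d⁻¹ * v⁻¹ ∈ W`
      have hu : d * v * d⁻¹ * v⁻¹ ∈ W := by
        have := (mem_normalizer_iff.1 (mul_mem (hvW hv) (hrW hdR) : v * d ∈ normalizer (W : Set Γ)) _).1 hm
        simpa [mul_assoc] using this
      have hfix : d * (d * v * d⁻¹ * v⁻¹) * d⁻¹ = d * v * d⁻¹ * v⁻¹ := by
        rw [(h1 x hx y hy _ hu).eq, mul_inv_cancel_right]
      have := Coprime.eq_one_of_conj_eq_mul (a := d) (x := v) (u := d * v * d⁻¹ * v⁻¹) (by group) hfix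
        (hcopRV d hdR _ (hWV hu))
      rw [mul_inv_eq_one] at this
      exact mul_inv_eq_iff_eq_mul.1 this
    by_cases helem : IsMulCommutative V ∧ ∀ v ∈ V, v ^ l = 1
    swap
    · -- the Frattini subgroup
      refine hstep ((frattini V).map V.subtype) (map_subtype_le _) ?_ ?_
        (h.aV.trans (normalizer_le_normalizer_frattini V))
        (h.rV.trans (normalizer_le_normalizer_frattini V))
        (h.tV.trans (normalizer_le_normalizer_frattini V))
        (le_normalizer.trans (normalizer_le_normalizer_frattini V))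
      · intro e
        rw [map_eq_bot_iff_of_injective _ V.subtype_injective] at e
        apply helem
        refine ⟨⟨⟨fun a b => ?_⟩⟩, fun v hv => ?_⟩
        · have := Coprime.commutator_le_frattini h.pV (commutator_mem_commutator (mem_top a) (mem_top b))
          rw [e, mem_bot, commutatorElement_eq_one_iff_commute] at this
          exact this
        · have := Coprime.pow_mem_frattini h.pV ⟨v, hv⟩
          rw [e, mem_bot] at this
          exact congrArg Subtype.val this
      · intro e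
        have hV0 : Nontrivial V := by
          by_contra hnt
          rw [not_nontrivial_iff_subsingleton] at hnt
          exact helem ⟨⟨⟨fun a b => Subsingleton.elim _ _⟩⟩, fun v hv => by
            have := congrArg Subtype.val (Subsingleton.elim (⟨v, hv⟩ : V) 1)
            simp only [OneMemClass.coe_one] at this
            rw [this, one_pow]⟩
        have : (frattini V).map V.subtype = (⊤ : Subgroup V).map V.subtype := by
          rw [e, ← MonoidHom.range_eq_map, V.range_subtype]
        obtain ⟨M, hM, -⟩ := (eq_top_or_exists_le_coatom (⊥ : Subgroup V)).resolve_left bot_ne_top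
        exact hM.1 (eq_top_iff.2 ((map_injective V.subtype_injective this).ge.trans (frattini_le_coatom hM)))
    obtain ⟨hcomm, hexp⟩ := helem
    by_cases hfaith : ∀ x ∈ R, (∀ v ∈ V, Commute x v) → x = 1
    · by_cases hirr : ∀ W : Subgroup Γ, W ≤ V → C.ι.range ≤ normalizer (W : Set Γ) →
          R ≤ normalizer (W : Set Γ) → T ≤ normalizer (W : Set Γ) → W = ⊥ ∨ W = V
      · exact hbase Γ C r t l R T V hrt hrl h hcomm hexp hfaith hirr fun R₁ T₁ _ _ h' hlt =>
          ih _ (lt_of_lt_of_le (Nat.add_lt_add_right hlt _) hn) Γ C r t l R₁ T₁ V le_rfl hrt hrl h' 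
      · push Not at hirr
        obtain ⟨W, hWV, haW, hrW, htW, hW0, hWne⟩ := hirr
        refine hstep W hWV hW0 hWne haW hrW htW fun v hv => ?_
        rw [mem_normalizer_iff]
        intro w
        haveI := hcomm
        constructor
        · intro hw
          have e : v * w = w * v := congrArg Subtype.val (mul_comm' (⟨v, hv⟩ : V) ⟨w, hWV hw⟩)
          rwa [e, mul_inv_cancel_right]
        · intro hw
          have hw' : w ∈ V := by
            have := mul_mem (mul_mem (inv_mem hv) (hWV hw)) hv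
            simpa [mul_assoc] using this
          have e : v * w = w * v := congrArg Subtype.val (mul_comm' (⟨v, hv⟩ : V) ⟨w, hw'⟩)
          rwa [e, mul_inv_cancel_right] at hw
    · -- the kernel on `V`
      set K := R ⊓ centralizer (V : Set Γ) with hK
      have hK0 : K ≠ ⊥ := by
        intro e
        apply hfaith
        intro x hx hc
        have : x ∈ K := mem_inf.2 ⟨hx, mem_centralizer_iff.2 fun v hv => (hc v hv).eq.symm⟩
        rwa [e, mem_bot] at this
      have hcN : ∀ S : Subgroup Γ, S ≤ normalizer (R : Set Γ) → S ≤ normalizer (V : Set Γ) →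
          S ≤ normalizer (K : Set Γ) := fun S h1 h2 =>
        Coprime.inf_le_normalizer h1 (h2.trans (Coprime.normalizer_le_normalizer_centralizer V))
      have hrK : R ≤ normalizer (K : Set Γ) := hcN R le_normalizer h.rV
      have haK : C.ι.range ≤ normalizer (K : Set Γ) := hcN _ h.aR h.aV
      have htK : T ≤ normalizer (K : Set Γ) := hcN T h.tR h.tV
      have hvK : V ≤ normalizer (K : Set Γ) := by
        intro v hv
        rw [mem_normalizer_iff]
        intro w
        constructor
        · intro hw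
          rw [show v * w = w * v from mem_centralizer_iff.1 (mem_inf.1 hw).2 v hv, mul_inv_cancel_right]
          exact hw
        · intro hw
          have e : v * (v * w * v⁻¹) = (v * w * v⁻¹) * v := mem_centralizer_iff.1 (mem_inf.1 hw).2 v hv
          have : v * w * v⁻¹ = w := by
            calc v * w * v⁻¹ = v⁻¹ * (v * (v * w * v⁻¹)) := by group
              _ = w := by rw [e]; group
          rwa [this] at hw
      have hsolv : Group.IsSolvable K :=
        Coprime.isSolvable_of_isNilpotent (h.pR.to_le inf_le_left).isNilpotent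
      have hlt := card_sectionImg_lt hrK inf_le_left hK0
      have h2 := ih _ (lt_of_lt_of_le (Nat.add_lt_add_of_lt_of_le
        (Nat.add_lt_add_of_lt_of_le hlt (card_sectionImg_le htK)) (card_sectionImg_le hvK)) hn)
        (SectionGroup K) _ r t l _ _ _ le_rfl hrt hrl
        (h.section K (inf_le_left.trans h.R_le) hsolv haK)
      intro x hx y hy v hv
      set d := x * y * x⁻¹ * y⁻¹ with hd
      have hdR : d ∈ R := commutator_mem_of_mem_normalizer h.tR hx hy
      have e := h2 _ (mem_sectionImg.2 ⟨⟨x, hrK hx⟩, hx, rfl⟩) _ (mem_sectionImg.2 ⟨⟨y, htK hy⟩, hy, rfl⟩)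
        _ (mem_sectionImg.2 ⟨⟨v, hvK hv⟩, hv, rfl⟩)
      simp only [← map_inv, ← map_mul] at e
      have e' := e.eq
      rw [← map_mul, ← map_mul] at e'
      have hm := mem_subgroupOf.1 ((QuotientGroup.eq (s := K.subgroupOf (normalizer (K : Set Γ)))).1 e')
      simp only [Subgroup.coe_mul, Subgroup.coe_inv] at hm
      rw [← hd] at hm
      have hmV : (d * v)⁻¹ * (v * d) ∈ V := by
        rw [show (d * v)⁻¹ * (v * d) = v⁻¹ * (d⁻¹ * v * d) by group]
        exact mul_mem (inv_mem hv) ((mem_normalizer_iff''.1 (h.rV hdR) v).1 hv)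
      have h1 : (d * v)⁻¹ * (v * d) = 1 := by
        rw [← orderOf_eq_one_iff]
        exact Nat.eq_one_of_dvd_coprimes (hcopRV _ (mem_inf.1 hm).1 _ hmV) dvd_rfl dvd_rfl
      exact (inv_mul_eq_one.1 h1)

theorem normalizer_le_normalizer_map_char {Γ : Type u} [Group Γ] (G : Subgroup Γ) (X : Subgroup G)
    [hX : X.Characteristic] :
    normalizer (G : Set Γ) ≤ normalizer ((X.map G.subtype : Subgroup Γ) : Set Γ) := by
  have key : ∀ g ∈ normalizer (G : Set Γ), ∀ x ∈ X.map G.subtype, g * x * g⁻¹ ∈ X.map G.subtype := by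
    rintro g hg _ ⟨v, hv, rfl⟩
    let σ : G ≃* G :=
      { toFun := fun v => ⟨g * v * g⁻¹, (mem_normalizer_iff.1 hg _).1 v.2⟩
        invFun := fun v => ⟨g⁻¹ * v * g, (mem_normalizer_iff''.1 hg _).1 v.2⟩
        left_inv := fun v => Subtype.ext (by simp [mul_assoc])
        right_inv := fun v => Subtype.ext (by simp [mul_assoc])
        map_mul' := fun a b => Subtype.ext (by simp [mul_assoc]) }
    exact ⟨σ v, (hX.fixed σ).ge hv, rfl⟩
  intro g hg
  rw [mem_normalizer_iff]
  refine fun x => ⟨key g hg x, fun hx => ?_⟩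
  have := key g⁻¹ (inv_mem hg) _ hx
  simpa [mul_assoc] using this

theorem characteristic_comap_mk {G : Type u} [Group G] {K : Subgroup G} [K.Normal]
    [hK : K.Characteristic] {X : Subgroup (G ⧸ K)} (hX : X.Characteristic) :
    (X.comap (QuotientGroup.mk' K)).Characteristic := by
  refine characteristic_iff_le_comap.2 fun σ g hg => ?_
  have hKσ : K.map (σ : G →* G) = K := characteristic_iff_map_eq.1 hK σ
  have h2 := characteristic_iff_le_comap.1 hX (QuotientGroup.congr K K σ hKσ)
  exact h2 hg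

/-- A `t`-element in the image of `L` is the image of a `t`-element of `L`. -/
theorem exists_lift_pElement {G H : Type u} [Group G] [Finite G] [Group H] (f : G →* H) {t : ℕ}
    [Fact t.Prime] {L : Subgroup G} {g : G} (hg : g ∈ L) {a : ℕ} (ha : f g ^ t ^ a = 1) :
    ∃ h ∈ L, f h = f g ∧ IsPGroup t (zpowers h) := by
  have ht : t.Prime := Fact.out
  set b := (orderOf g).factorization t
  set m := orderOf g / t ^ b with hm
  have hmul : t ^ b * m = orderOf g := Nat.ordProj_mul_ordCompl_eq_self _ _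
  have hcop : Nat.Coprime m (t ^ (a + b)) := by
    refine Nat.Coprime.pow_right _ ?_
    exact (ht.coprime_iff_not_dvd.2 (Nat.not_dvd_ordCompl ht (orderOf_pos g).ne')).symm
  obtain ⟨e, he⟩ : ∃ e, m * e ≡ 1 [MOD t ^ (a + b)] := by
    rcases Nat.eq_zero_or_pos (a + b) with h0 | h0
    · exact ⟨0, by rw [h0, pow_zero]; exact Nat.modEq_one⟩
    · obtain ⟨e, he⟩ := Nat.exists_mul_mod_eq_one_of_coprime hcop (Nat.one_lt_pow h0.ne' ht.one_lt)
      exact ⟨e, by rw [Nat.ModEq, he.2, Nat.mod_eq_of_lt (Nat.one_lt_pow h0.ne' ht.one_lt)]⟩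
  refine ⟨g ^ (m * e), pow_mem hg _, ?_, ?_⟩
  · rw [map_pow]
    conv_rhs => rw [← pow_one (f g)]
    refine pow_eq_pow_iff_modEq.2 (he.of_dvd ?_)
    exact (orderOf_dvd_of_pow_eq_one ha).trans (pow_dvd_pow t (Nat.le_add_right a b))
  · have : orderOf (g ^ (m * e)) ∣ t ^ b := by
      refine orderOf_dvd_of_pow_eq_one ?_
      rw [← pow_mul, show m * e * t ^ b = orderOf g * e by rw [← hmul]; ring, pow_mul,
        pow_orderOf_eq_one, one_pow]
    obtain ⟨k, -, hk⟩ := (Nat.dvd_prime_pow ht).1 this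
    exact IsPGroup.of_card (n := k) (by rw [Nat.card_zpowers, hk])

theorem isSylowIn_mem_conj {Γ : Type u} [Group Γ] [Finite Γ] {t : ℕ} [Fact t.Prime] {T L : Subgroup Γ}
    (hT : Coprime.IsSylowIn t T L) {g : Γ} (hg : g ∈ L) (hp : IsPGroup t (zpowers g)) :
    ∃ l ∈ L, l * g * l⁻¹ ∈ T := by
  have hgp : IsPGroup t ((zpowers g).subgroupOf L) := hp.comap_subtype
  obtain ⟨S, hS⟩ := hgp.exists_le_sylow
  obtain ⟨l, hl⟩ := MulAction.exists_smul_eq L S hT.toSylow
  refine ⟨l, l.2, ?_⟩
  have hmem : (⟨g, hg⟩ : L) ∈ (zpowers g).subgroupOf L := mem_subgroupOf.2 (mem_zpowers g)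
  have : l * ⟨g, hg⟩ * l⁻¹ ∈ (hT.toSylow : Subgroup L) := by
    rw [← hl, Sylow.coe_subgroup_smul]
    exact ⟨⟨g, hg⟩, hS hmem, rfl⟩
  have h2 := mem_map_of_mem L.subtype this
  rw [hT.map_toSylow] at h2
  exact h2

/-- The Fitting quotient is nilpotent. -/
theorem isNilpotent_quotient_fitting (hbase : FpfBase.{u} A₀) (hA : Group.IsSolvable A₀)
    {Γ : Type u} [Group Γ] [Finite Γ] (C : FpfCtx A₀ Γ) (hsolv : Group.IsSolvable C.G)
    [hFn : (Cfsg.fittingSubgroup C.G).Normal] :
    Group.IsNilpotent (C.G ⧸ Cfsg.fittingSubgroup C.G) := by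
  classical
  set G := C.G with hGdef
  set F := Cfsg.fittingSubgroup G with hF
  haveI hFc : F.Characteristic := Coprime.fitting_characteristic
  haveI : Group.IsSolvable (G ⧸ F) := Group.isSolvable_of_surjective (QuotientGroup.mk'_surjective F)
  set q := QuotientGroup.mk' F with hq
  haveI hFHn : (Cfsg.fittingSubgroup (G ⧸ F)).Normal := Coprime.fitting_normal
  set FH := Cfsg.fittingSubgroup (G ⧸ F) with hFH
  by_cases htop : FH = ⊤
  · have := Coprime.fitting_isNilpotent (G := G ⧸ F)
    rw [← hFH, htop] at this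
    exact Group.nilpotent_of_surjective (topEquiv (G := G ⧸ F)).toMonoidHom topEquiv.surjective
  exfalso
  -- a nontrivial `t`-core of the quotient by the Fitting subgroup
  haveI : Group.IsSolvable ((G ⧸ F) ⧸ FH) :=
    Group.isSolvable_of_surjective (QuotientGroup.mk'_surjective FH)
  obtain ⟨t, ht, hne⟩ : ∃ t : ℕ, t.Prime ∧ Cfsg.pCore t ((G ⧸ F) ⧸ FH) ≠ ⊥ := by
    by_contra h
    push Not at h
    have hbot : Cfsg.fittingSubgroup ((G ⧸ F) ⧸ FH) = ⊥ := by
      rw [Coprime.fitting_eq_iSup_pCore]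
      simp only [iSup_eq_bot]
      intro p
      exact h p.1 p.2
    haveI : Nontrivial ((G ⧸ F) ⧸ FH) := by
      rw [← not_subsingleton_iff_nontrivial]
      intro hss
      exact htop (QuotientGroup.subgroup_eq_top_of_subsingleton FH hss)
    obtain ⟨N, hNn, hNne, -, hNmin⟩ :=
      Coprime.exists_minimal_normal_le (N := (⊤ : Subgroup ((G ⧸ F) ⧸ FH))) top_ne_bot
    haveI := hNn
    have hab := (Coprime.minimal_normal_solvable hNne hNmin).1
    have hle : N ≤ Cfsg.fittingSubgroup ((G ⧸ F) ⧸ FH) := Coprime.le_fitting (by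
      haveI : IsMulCommutative N := ⟨⟨fun a b => Subtype.ext (hab a a.2 b b.2)⟩⟩
      infer_instance)
    rw [hbot, le_bot_iff] at hle
    exact hNne hle
  haveI : Fact t.Prime := ⟨ht⟩
  set Nb := (Cfsg.pCore t ((G ⧸ F) ⧸ FH)).comap (QuotientGroup.mk' FH) with hNb
  haveI : Nb.Normal := by
    haveI := Coprime.pCore_characteristic (G := (G ⧸ F) ⧸ FH) t
    exact Subgroup.Normal.comap inferInstance _
  haveI hNbc : Nb.Characteristic := by
    haveI : FH.Characteristic := Coprime.fitting_characteristic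
    exact characteristic_comap_mk (Coprime.pCore_characteristic _)
  set N := Nb.comap q with hN
  haveI hNc : N.Characteristic := characteristic_comap_mk hNbc
  -- every `t`-element of `Nb` centralizes the other cores
  have hcentral : ∀ r : ℕ, r.Prime → r ≠ t → ∀ x ∈ Nb, IsPGroup t (zpowers x) →
      ∀ y ∈ Cfsg.pCore r (G ⧸ F), Commute x y := by
    intro r hr hrt
    haveI : Fact r.Prime := ⟨hr⟩
    set Qr := Cfsg.pCore r (G ⧸ F) with hOr
    haveI : Qr.Characteristic := (Coprime.pCore_characteristic _)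
    set R1 := Qr.comap q with hR1
    haveI hR1c : R1.Characteristic := characteristic_comap_mk inferInstance
    have hAn : ∀ X : Subgroup G, X.Characteristic →
        C.ι.range ≤ normalizer ((X.map G.subtype : Subgroup Γ) : Set Γ) := fun X hX =>
      C.norm.trans (normalizer_le_normalizer_map_char (hX := hX) G X)
    have hcopA : ∀ X : Subgroup Γ, X ≤ G → (Nat.card C.ι.range).Coprime (Nat.card X) := fun X hX =>
      (C.cop.coprime_dvd_left (card_range_dvd C.ι)).coprime_dvd_right (card_dvd_of_le hX)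
    haveI hAs : Group.IsSolvable C.ι.range := Group.isSolvable_of_surjective C.ι.rangeRestrict_surjective
    obtain ⟨R, hR, hRA⟩ := Coprime.exists_invariant_sylow (hAn R1 hR1c) (hcopA _ (map_subtype_le _))
      (Or.inl hAs) r
    have hRG : R ≤ G := hR.1.trans (map_subtype_le _)
    set Rg := R.subgroupOf G with hRg
    have hRgp : IsPGroup r Rg := hR.isPGroup.comap_subtype
    have hRgle : Rg ≤ R1 := by
      intro x hx
      obtain ⟨z, hz, hzx⟩ := hR.1 hx
      exact (Subtype.ext hzx : z = x) ▸ hz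
    -- `q` maps `R` onto the core
    have hqR : Rg.map q = Qr := by
      refine le_antisymm ((map_mono hRgle).trans (map_comap_le _ _)) ?_
      let S := hR.toSylow
      let g : ↥(R1.map G.subtype) →* ↥Qr :=
        (q.comp (Subgroup.inclusion (map_subtype_le R1))).codRestrict Qr (by
          rintro ⟨x, z, hz, rfl⟩
          exact hz)
      have hg : Function.Surjective g := by
        rintro ⟨y, hy⟩
        obtain ⟨z, rfl⟩ := QuotientGroup.mk'_surjective F y
        exact ⟨⟨(z : Γ), mem_map_of_mem _ (show z ∈ R1 from hy)⟩, rfl⟩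
      let S' := S.mapSurjective hg
      have hS' : (S' : Subgroup ↥Qr) = ⊤ :=
        (S'.3 (IsPGroup.of_equiv (Coprime.pCore_isPGroup (G := G ⧸ F) r) topEquiv.symm) le_top).symm
      intro y hy
      have : (⟨y, hy⟩ : ↥Qr) ∈ (S : Subgroup ↥(R1.map G.subtype)).map g := by
        rw [← Sylow.coe_mapSurjective hg, hS']; exact mem_top _
      obtain ⟨z, hz, hzy⟩ := this
      exact ⟨⟨(z : Γ), hRG hz⟩, hz, congrArg Subtype.val hzy⟩
    have hOrR : Cfsg.pCore r G ≤ Rg := by
      intro x hx
      have hle : (Cfsg.pCore r G).map G.subtype ≤ R1.map G.subtype := by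
        refine map_mono fun z hz => ?_
        show q z ∈ Qr
        rw [show q z = 1 from (QuotientGroup.eq_one_iff z).2 (Coprime.pCore_le_fitting r hz)]
        exact one_mem _
      have hnrm : ((Cfsg.pCore r G).map G.subtype).subgroupOf (R1.map G.subtype) ≤
          (hR.toSylow : Subgroup ↥(R1.map G.subtype)) := by
        haveI : (((Cfsg.pCore r G).map G.subtype).subgroupOf (R1.map G.subtype)).Normal :=
          (normal_subgroupOf_iff_le_normalizer hle).2
            (((map_subtype_le R1).trans le_normalizer).trans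
              (normalizer_le_normalizer_map_char (hX := (Coprime.pCore_characteristic _)) G _))
        exact IsPGroup.le_sylow_of_normal
          (N := ((Cfsg.pCore r G).map G.subtype).subgroupOf (R1.map G.subtype))
          (IsPGroup.comap_subtype (IsPGroup.map (Coprime.pCore_isPGroup (G := G) r) _)) _
      exact hnrm (show (⟨(x : Γ), hle (mem_map_of_mem _ hx)⟩ : ↥(R1.map G.subtype)) ∈ _ from
        mem_map_of_mem _ hx)
    -- the part of `N` normalizing `R`
    set L := N.map G.subtype ⊓ normalizer (R : Set Γ) with hL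
    have hLG : L ≤ G := inf_le_left.trans (map_subtype_le _)
    obtain ⟨T, hT, hTA⟩ := Coprime.exists_invariant_sylow
      (Coprime.inf_le_normalizer (hAn N hNc) (hRA.trans le_normalizer)) (hcopA L hLG) (Or.inl hAs) t
    have hTG : T ≤ G := hT.1.trans hLG
    have hsurj : ∀ x ∈ Nb, ∃ g : G, q g = x ∧ (g : Γ) ∈ L := by
      intro x hx
      obtain ⟨n, rfl⟩ := QuotientGroup.mk'_surjective F x
      have hnR1 : (n : Γ) ∈ normalizer ((R1.map G.subtype : Subgroup Γ) : Set Γ) :=
        normalizer_le_normalizer_map_char (hX := hR1c) G R1 (le_normalizer n.2)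
      obtain ⟨k, hk, hkR⟩ := hR.exists_conj (hR.conjBy hnR1)
      obtain ⟨k', hk', rfl⟩ := hk
      have hmem : q k' ∈ Rg.map q := hqR ▸ hk'
      obtain ⟨u, hu, huk⟩ := hmem
      -- `k' = f * u` with `f ∈ F`
      set f := k' * u⁻¹ with hf
      have hfF : f ∈ F := by
        rw [← QuotientGroup.eq_one_iff (N := F)]
        show q f = 1
        rw [hf, map_mul, map_inv, huk, mul_inv_cancel]
      have hconj : Coprime.conjBy (k' : Γ) R = Coprime.conjBy (f : Γ) R := by
        have : (k' : Γ) = (f : Γ) * (u : Γ) := by rw [hf]; simp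
        rw [this, ← Coprime.conjBy_conjBy, Coprime.conjBy_eq_self_iff.2 (le_normalizer (show (u : Γ) ∈ R from hu))]
      refine ⟨f⁻¹ * n, ?_, mem_inf.2 ⟨⟨f⁻¹ * n, ?_, rfl⟩, ?_⟩⟩
      · rw [map_mul, map_inv, show q f = 1 from (QuotientGroup.eq_one_iff f).2 hfF, inv_one, one_mul]
      · refine mul_mem (inv_mem ?_) hx
        show q f ∈ Nb
        rw [show q f = 1 from (QuotientGroup.eq_one_iff f).2 hfF]
        exact one_mem _
      · show ((f⁻¹ * n : G) : Γ) ∈ normalizer (R : Set Γ)
        rw [← Coprime.conjBy_eq_self_iff, Subgroup.coe_mul, Subgroup.coe_inv, ← Coprime.conjBy_conjBy,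
          ← hkR]
        show Coprime.conjBy (f : Γ)⁻¹ (Coprime.conjBy (k' : Γ) R) = R
        rw [hconj, Coprime.conjBy_conjBy, inv_mul_cancel, Coprime.conjBy_one]
    -- `[R, T] ≤ F`
    set E : Subgroup G := ⨆ l : {l : ℕ // l.Prime ∧ l ≠ r}, Cfsg.pCore l.1 G with hE
    haveI : ∀ l : {l : ℕ // l.Prime ∧ l ≠ r}, (Cfsg.pCore l.1 G).Normal := fun l =>
      haveI : (Cfsg.pCore l.1 G).Characteristic := (Coprime.pCore_characteristic _)
      inferInstance
    haveI hEn : E.Normal := Subgroup.iSup_normal _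
    have hEF : E ≤ F := iSup_le fun l => by
      haveI : Fact l.1.Prime := ⟨l.2.1⟩
      exact Coprime.pCore_le_fitting l.1
    set Cc := R1 ⊓ centralizer (E : Set G) with hCc
    haveI : (centralizer (E : Set G)).Normal := inferInstance
    haveI : Cc.Normal := inferInstance
    have hCcF : Cc ≤ F := by
      apply Coprime.le_fitting
      let g : Cc →* G ⧸ E := (QuotientGroup.mk' E).comp Cc.subtype
      have hR1RE : R1 ≤ Rg ⊔ E := by
        intro z hz
        have hm : q z ∈ Rg.map q := hqR ▸ hz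
        obtain ⟨u, hu, huz⟩ := hm
        have hf : u⁻¹ * z ∈ F := (QuotientGroup.eq (s := F)).1 huz
        have hF' : F ≤ Rg ⊔ E := by
          rw [hF, Coprime.fitting_eq_iSup_pCore]
          refine iSup_le fun l => ?_
          by_cases hl : l.1 = r
          · exact le_sup_of_le_left (hl ▸ hOrR)
          · exact le_sup_of_le_right (le_iSup (fun l : {l : ℕ // l.Prime ∧ l ≠ r} => Cfsg.pCore l.1 G)
              ⟨l.1, l.2, hl⟩)
        rw [show z = u * (u⁻¹ * z) by group]
        exact mul_mem ((le_sup_left : Rg ≤ Rg ⊔ E) hu) (hF' hf)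
      have himg : IsPGroup r g.range := by
        refine (hRgp.map (QuotientGroup.mk' E)).to_le ?_
        rintro _ ⟨c, rfl⟩
        have hc := mem_map_of_mem (QuotientGroup.mk' E) (hR1RE (mem_inf.1 c.2).1)
        rw [Subgroup.map_sup, (map_eq_bot_iff E).2 (by rw [QuotientGroup.ker_mk']), sup_bot_eq] at hc
        exact hc
      haveI : Group.IsNilpotent g.range := himg.isNilpotent
      refine Subgroup.isNilpotent_of_ker_le_center g.rangeRestrict ?_
      rw [MonoidHom.ker_rangeRestrict]
      intro c hc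
      have hcE : (c : G) ∈ E := (QuotientGroup.eq_one_iff (N := E) (c : G)).1 hc
      rw [mem_center_iff]
      intro d
      exact Subtype.ext (mem_centralizer_iff.1 (mem_inf.1 d.2).2 _ hcE).symm
    have hD : ∀ x : G, (x : Γ) ∈ R → ∀ y : G, (y : Γ) ∈ T → q (x * y * x⁻¹ * y⁻¹) = 1 := by
      intro x hx y hy
      refine (QuotientGroup.eq_one_iff _).2 (hCcF (mem_inf.2 ⟨hRgle ?_, ?_⟩))
      · show ((x * y * x⁻¹ * y⁻¹ : G) : Γ) ∈ R
        simp only [Subgroup.coe_mul, Subgroup.coe_inv]
        exact commutator_mem_of_mem_normalizer (hT.1.trans inf_le_right) hx hy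
      · rw [hE]
        have hl : ∀ l : {l : ℕ // l.Prime ∧ l ≠ r}, Cfsg.pCore l.1 G ≤
            centralizer ({x * y * x⁻¹ * y⁻¹} : Set G) := by
          intro l
          haveI : Fact l.1.Prime := ⟨l.2.1⟩
          set V := (Cfsg.pCore l.1 G).map G.subtype
          have hVn : normalizer (G : Set Γ) ≤ normalizer (V : Set Γ) :=
            normalizer_le_normalizer_map_char (hX := (Coprime.pCore_characteristic _)) G _
          have hc := rtCentralizes_of_base hbase _ Γ C r t l.1 R T V le_rfl hrt l.2.2.symm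
            ⟨hRG, hTG, map_subtype_le _, hR.isPGroup, hT.isPGroup, (Coprime.pCore_isPGroup _).map _,
              hRA, hTA, C.norm.trans hVn, hT.1.trans inf_le_right,
              (hRG.trans le_normalizer).trans hVn, (hTG.trans le_normalizer).trans hVn⟩
          intro v hv
          rw [mem_centralizer_singleton_iff]
          have := hc _ hx _ hy _ (mem_map_of_mem G.subtype hv)
          exact Subtype.ext (by simpa using this.eq.symm)
        rw [mem_centralizer_iff]
        intro v hv
        exact mem_centralizer_singleton_iff.1 (iSup_le hl hv)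
    -- conclusion for `r`
    intro x hx hxp y hy
    obtain ⟨g, rfl, hgL⟩ := hsurj x hx
    obtain ⟨a, ha⟩ := hxp ⟨q g, mem_zpowers _⟩
    obtain ⟨h, hhL, hh, hhp⟩ := exists_lift_pElement q (L := L.subgroupOf G)
      (mem_subgroupOf.2 hgL) (congrArg Subtype.val ha)
    have hhp' : IsPGroup t (zpowers (h : Γ)) := by
      have := hhp.map G.subtype
      rwa [MonoidHom.map_zpowers] at this
    obtain ⟨l, hl, hlT⟩ := isSylowIn_mem_conj hT (mem_subgroupOf.1 hhL) hhp'
    set l' : G := ⟨l, hLG hl⟩
    have hy' : q l' * y * (q l')⁻¹ ∈ Qr :=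
      (inferInstance : Qr.Normal).conj_mem y hy (q l')
    rw [← hqR] at hy'
    obtain ⟨u, hu, huy⟩ := hy'
    have e := hD u hu (l' * h * l'⁻¹) (by simpa [l'] using hlT)
    rw [map_mul, map_mul, map_mul, map_inv, map_inv, huy, map_mul, map_mul, map_inv, hh] at e
    rw [mul_inv_eq_one, mul_inv_eq_iff_eq_mul] at e
    have e' : q l' * (y * q g) * (q l')⁻¹ = q l' * (q g * y) * (q l')⁻¹ := by
      calc q l' * (y * q g) * (q l')⁻¹ = q l' * y * (q l')⁻¹ * (q l' * q g * (q l')⁻¹) := by group
        _ = q l' * q g * (q l')⁻¹ * (q l' * y * (q l')⁻¹) := e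
        _ = _ := by group
    exact (mul_left_cancel (mul_right_cancel e')).symm
  -- `Nb` is nilpotent
  have hnil : Group.IsNilpotent Nb := by
    set E : Subgroup (G ⧸ F) := ⨆ l : {l : ℕ // l.Prime ∧ l ≠ t}, Cfsg.pCore l.1 (G ⧸ F) with hE
    haveI : ∀ l : {l : ℕ // l.Prime ∧ l ≠ t}, (Cfsg.pCore l.1 (G ⧸ F)).Normal := fun l =>
      haveI : (Cfsg.pCore l.1 (G ⧸ F)).Characteristic := (Coprime.pCore_characteristic _)
      inferInstance
    haveI : E.Normal := Subgroup.iSup_normal _
    have hFHNb : FH ≤ Nb := fun z hz => by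
      rw [hNb, mem_comap]
      rw [show QuotientGroup.mk' FH z = 1 from (QuotientGroup.eq_one_iff z).2 hz]
      exact one_mem _
    have hEFH : E ≤ FH := iSup_le fun l => by
      haveI : Fact l.1.Prime := ⟨l.2.1⟩
      exact Coprime.pCore_le_fitting l.1
    obtain ⟨S⟩ : Nonempty (Sylow t Nb) := inferInstance
    set T0 := (S : Subgroup Nb).map Nb.subtype with hT0
    haveI hT0n : Group.IsNilpotent T0 := (S.2.map _).isNilpotent
    haveI : Group.IsNilpotent E :=
      Coprime.isNilpotent_of_le hEFH (Coprime.fitting_isNilpotent (G := G ⧸ F))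
    have hTE : ∀ (a : T0) (b : E), Commute (a : G ⧸ F) b := by
      intro a b
      have hb : (b : G ⧸ F) ∈ centralizer ({(a : G ⧸ F)} : Set (G ⧸ F)) := by
        refine (iSup_le (fun l => fun y hy => mem_centralizer_singleton_iff.2 ?_) :
          E ≤ centralizer ({(a : G ⧸ F)} : Set (G ⧸ F))) b.2
        refine (hcentral l.1 l.2.1 l.2.2 a ((map_subtype_le _) a.2) ?_ y hy).eq.symm
        exact (S.2.map Nb.subtype).to_le (zpowers_le.2 a.2)
      exact (mem_centralizer_singleton_iff.1 hb).symm
    let f : T0 × E →* (G ⧸ F) := MonoidHom.noncommCoprod T0.subtype E.subtype hTE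
    have hfr : f.range = Nb := by
      refine le_antisymm ?_ ?_
      · rintro _ ⟨⟨a, b⟩, rfl⟩
        exact mul_mem (map_subtype_le _ a.2) (hFHNb (hEFH b.2))
      · have hFH' : FH ≤ f.range := by
          rw [hFH, Coprime.fitting_eq_iSup_pCore]
          refine iSup_le fun l => ?_
          intro z hz
          by_cases hl : l.1 = t
          · haveI : Fact l.1.Prime := ⟨l.2⟩
            have hzN : z ∈ Nb := hFHNb (Coprime.pCore_le_fitting l.1 hz)
            haveI : Fact (Nat.Prime t) := ⟨ht⟩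
            haveI := Coprime.pCore_characteristic (G := G ⧸ F) t
            haveI : ((Cfsg.pCore t (G ⧸ F)).subgroupOf Nb).Normal := Subgroup.Normal.subgroupOf inferInstance _
            have hz' : (⟨z, hzN⟩ : Nb) ∈ (S : Subgroup Nb) :=
              IsPGroup.le_sylow_of_normal ((Coprime.pCore_isPGroup _).comap_subtype) S
                (mem_subgroupOf.2 (hl ▸ hz))
            exact ⟨(⟨z, mem_map_of_mem _ hz'⟩, 1), by
              show (_ : G ⧸ F) * _ = _
              simp⟩
          · exact ⟨(1, ⟨z, le_iSup (fun l : {l : ℕ // l.Prime ∧ l ≠ t} => Cfsg.pCore l.1 (G ⧸ F))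
              ⟨l.1, l.2, hl⟩ hz⟩), by
              show (_ : G ⧸ F) * _ = _
              simp⟩
        let g : Nb →* ↥(Cfsg.pCore t ((G ⧸ F) ⧸ FH)) :=
          ((QuotientGroup.mk' FH).comp Nb.subtype).codRestrict _ fun x => x.2
        have hg : Function.Surjective g := by
          rintro ⟨y, hy⟩
          obtain ⟨z, rfl⟩ := QuotientGroup.mk'_surjective FH y
          exact ⟨⟨z, hy⟩, rfl⟩
        let S' := S.mapSurjective hg
        have hS' : (S' : Subgroup ↥(Cfsg.pCore t ((G ⧸ F) ⧸ FH))) = ⊤ :=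
          (S'.3 (IsPGroup.of_equiv (Coprime.pCore_isPGroup (G := (G ⧸ F) ⧸ FH) t) topEquiv.symm) le_top).symm
        intro z hz
        have : g ⟨z, hz⟩ ∈ (S : Subgroup Nb).map g := by
          rw [← Sylow.coe_mapSurjective hg, hS']; exact mem_top _
        obtain ⟨w, hw, hwz⟩ := this
        have hd : (w : G ⧸ F)⁻¹ * z ∈ FH :=
          (QuotientGroup.eq (s := FH)).1 (congrArg Subtype.val hwz)
        rw [show z = (w : G ⧸ F) * ((w : G ⧸ F)⁻¹ * z) by group]
        exact mul_mem ⟨(⟨w, mem_map_of_mem _ hw⟩, 1), by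
              show (_ : G ⧸ F) * _ = _
              simp⟩ (hFH' hd)
    rw [← hfr]
    exact Group.nilpotent_of_surjective f.rangeRestrict f.rangeRestrict_surjective
  apply hne
  have hle : Nb ≤ FH := Coprime.le_fitting hnil
  rw [← map_comap_eq_self_of_surjective (QuotientGroup.mk'_surjective FH)
    (Cfsg.pCore t ((G ⧸ F) ⧸ FH)), ← hNb, eq_bot_iff]
  refine (map_mono hle).trans (le_of_eq ?_)
  rw [Subgroup.map_eq_bot_iff, QuotientGroup.ker_mk']

/-- Elements of coprime prime power order in a nilpotent group commute. -/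
theorem commute_of_nilpotent_of_ne {G : Type u} [Group G] [Finite G] [Group.IsNilpotent G] {p q : ℕ}
    [Fact p.Prime] [Fact q.Prime] (hpq : p ≠ q) {x y : G} (hx : IsPGroup p (zpowers x))
    (hy : IsPGroup q (zpowers y)) : Commute x y := by
  obtain ⟨P, hP⟩ := hx.exists_le_sylow
  obtain ⟨Q, hQ⟩ := hy.exists_le_sylow
  haveI := P.normal_of_normalizerCondition Group.normalizerCondition_of_isNilpotent
  haveI := Q.normal_of_normalizerCondition Group.normalizerCondition_of_isNilpotent
  have hd : Disjoint (P : Subgroup G) (Q : Subgroup G) := IsPGroup.disjoint_of_ne p q hpq _ _ P.2 Q.2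
  exact Subgroup.commute_of_normal_of_disjoint _ _ inferInstance inferInstance hd x y
    (hP (mem_zpowers x)) (hQ (mem_zpowers y))

/-- A fixed point free coprime operator group satisfying the base case forces `G/F(G)` nilpotent. -/
theorem isNilpotent_quotient_fitting_of_action {A₀ : Type u} [Group A₀] [Finite A₀]
    (hA : Group.IsSolvable A₀) (hbase : FpfBase.{u} A₀) {G : Type u} [Group G] [Finite G]
    (hG : Group.IsSolvable G) (φ : A₀ →* MulAut G) (hcop : (Nat.card A₀).Coprime (Nat.card G))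
    (hfpf : ∀ g : G, (∀ a, φ a g = g) → g = 1) :
    ∃ F : Subgroup G, ∃ _ : F.Normal, Group.IsNilpotent F ∧ Group.IsNilpotent (G ⧸ F) := by
  let Γ := G ⋊[φ] A₀
  haveI : Finite Γ := Finite.of_equiv _ SemidirectProduct.equivProd.symm
  let e : G ≃* (SemidirectProduct.inl : G →* Γ).range :=
    MonoidHom.ofInjective SemidirectProduct.inl_injective
  let C : FpfCtx A₀ Γ :=
    { G := (SemidirectProduct.inl : G →* Γ).range
      ι := SemidirectProduct.inr
      inj := SemidirectProduct.inr_injective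
      norm := by
        rw [SemidirectProduct.range_inl_eq_ker_rightHom,
          normalizer_eq_top_iff.2 (MonoidHom.normal_ker _)]
        exact le_top
      cop := by rwa [← Nat.card_congr e.toEquiv]
      fpf := by
        rintro _ ⟨g, rfl⟩ h
        rw [hfpf g fun a => ?_, map_one]
        have h1 := (h a).eq
        rw [← mul_inv_eq_iff_eq_mul, ← map_inv, ← SemidirectProduct.inl_aut] at h1
        exact SemidirectProduct.inl_injective h1 }
  haveI : Group.IsSolvable C.G := Group.isSolvable_of_surjective (f := e.toMonoidHom) e.surjective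
  haveI hFn : (Cfsg.fittingSubgroup C.G).Normal := Coprime.fitting_normal
  have hnil := isNilpotent_quotient_fitting hbase hA C inferInstance
  haveI hFn' : (Cfsg.fittingSubgroup G).Normal := Coprime.fitting_normal
  refine ⟨Cfsg.fittingSubgroup G, hFn', Coprime.fitting_isNilpotent, ?_⟩
  have hmap : (Cfsg.fittingSubgroup G).map (e : G →* C.G) = Cfsg.fittingSubgroup C.G :=
    Coprime.map_fitting_equiv e
  haveI := hnil
  exact Group.nilpotent_of_mulEquiv
    (QuotientGroup.congr (Cfsg.fittingSubgroup G) (Cfsg.fittingSubgroup C.G) e hmap).symm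

/-- A nontrivial subgroup of coprime order excludes the prime of the operator group. -/
theorem ne_of_isPGroup_coprime {Γ : Type u} [Group Γ] [Finite Γ] {r p n m : ℕ} [hr : Fact r.Prime]
    {R G : Subgroup Γ} (hp : IsPGroup r R) (hle : R ≤ G) (hR : R ≠ ⊥)
    (hcop : (p ^ n).Coprime m) (hn : n ≠ 0) (hm : Nat.card G ∣ m) : r ≠ p := by
  rintro rfl
  haveI := R.nontrivial_iff_ne_bot.2 hR
  obtain ⟨i, hi, hc⟩ := hp.nontrivial_iff_card.1 inferInstance
  have h1 : r ∣ m := ((hc ▸ dvd_pow_self r hi.ne').trans (card_dvd_of_le hle)).trans hm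
  exact hr.out.ne_one (Nat.eq_one_of_dvd_coprimes hcop (dvd_pow_self r hn) h1)

end CfsgLib.PGroup
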