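import Cfsg.Agent.Lib.PGroup.HallWielandt
import Cfsg.Agent.Lib.Fusion.Residual
import Cfsg.Agent.Lib.Coprime.PGroupFrattini
import Cfsg.Agent.Lib.Fusion.System.HyperfocalGroup
import Cfsg.Agent.Lib.Fusion.System.TateHyperfocal
import Cfsg.Agent.Lib.Fusion.System.TransferApps
import Cfsg.Agent.Lib.Fusion.System.GroupNormalSub
import Cfsg.Prelude.Def_BaumannBlocks

/-!
# The theorem of Hall and Wielandt on control of the `p`-residual
-/
set_option autoImplicit false
set_option maxHeartbeats 1000000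

open scoped IsMulCommutative commutatorElement
open Subgroup

namespace CfsgLib.HallWielandt

variable {G : Type*} [Group G] [Finite G] {p : ℕ} [Fact p.Prime]

/-- An element killed by the transfer to `G` is killed already in `N`. -/
theorem apply_eq_one_of_transfer {A : Type*} [CommGroup A] (hA : ∀ a : A, a ^ p = 1) {N : Subgroup G}
    (lam : N →* A) (P : Sylow p G) {Q : Subgroup G} (hPN : (P : Subgroup G) ≤ N)
    (hQP : Q ≤ (P : Subgroup G))
    (hfix : ∀ g : G, (∀ z ∈ Q, g⁻¹ * z * g ∈ N) → g ∈ N)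
    (heng : EngCond p A (Q.subgroupOf (P : Subgroup G)))
    (n : ℕ) : ∀ y : N, orderOf y = n → (∃ k, (y : G) ^ p ^ k = 1) →
      MonoidHom.transfer lam (y : G) = 1 → lam y = 1 := by
  classical
  induction n using Nat.strong_induction_on with
  | _ n ih =>
  intro y₀ hord hpel htr
  by_cases hy1 : y₀ = 1
  · rw [hy1, map_one]
  -- move `y₀` into the Sylow subgroup
  obtain ⟨c, hc⟩ : ∃ c : N, ((c * y₀ * c⁻¹ : N) : G) ∈ (P : Subgroup G) := by
    obtain ⟨k, hk⟩ := hpel
    have hpg : IsPGroup p (zpowers y₀) := by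
      obtain ⟨j, -, hj⟩ := (Nat.dvd_prime_pow Fact.out).1
        (orderOf_dvd_of_pow_eq_one (show y₀ ^ p ^ k = 1 from Subtype.ext (by simpa using hk)))
      exact IsPGroup.of_card ((Nat.card_zpowers y₀).trans hj)
    obtain ⟨T, hT⟩ := hpg.exists_le_sylow
    obtain ⟨c, hc⟩ := MulAction.exists_smul_eq N T (P.subtype hPN)
    refine ⟨c, ?_⟩
    have : c * y₀ * c⁻¹ ∈ ((c • T : Sylow p N) : Subgroup N) :=
      ⟨y₀, hT (mem_zpowers y₀), rfl⟩
    rw [hc] at this
    exact this
  set y : N := c * y₀ * c⁻¹ with hy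
  have hlam : lam y = lam y₀ := by
    rw [hy, map_mul, map_mul, map_inv, mul_inv_cancel_comm]
  have htry : MonoidHom.transfer lam (y : G) = 1 := by
    rw [hy]
    push_cast
    rw [map_mul, map_mul, map_inv, mul_inv_cancel_comm, htr]
  have hordy : orderOf y = n := by
    rw [← hord]
    exact (MulAut.conj c).orderOf_eq y₀
  have hyP : (y : G) ∈ (P : Subgroup G) := hc
  rw [← hlam]
  have hy1' : y ≠ 1 := by rwa [Ne, hy, conj_eq_one_iff]
  set S := (P : Subgroup G)
  set yS : S := ⟨y, hyP⟩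
  -- the smaller powers
  have hsmall : ∀ (j : ℕ) (g : G) (h : g⁻¹ * (y : G) ^ (p * j) * g ∈ N),
      lam ⟨_, h⟩ = 1 := by
    intro j g h
    obtain ⟨k, hk⟩ := P.2 yS
    have hk' : (y : G) ^ p ^ k = 1 := congrArg Subtype.val hk
    have hord' : orderOf (⟨_, h⟩ : N) = orderOf (y ^ (p * j)) := by
      rw [← Subgroup.orderOf_coe, ← Subgroup.orderOf_coe]
      push_cast
      simpa using (MulAut.conj g⁻¹).orderOf_eq ((y : G) ^ (p * j))
    refine ih _ ?_ _ rfl ⟨k, ?_⟩ ?_
    · rw [hord']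
      have hdvd : p ∣ orderOf y := by
        obtain ⟨i, -, hi⟩ := (Nat.dvd_prime_pow Fact.out).1
          (orderOf_dvd_of_pow_eq_one (show y ^ p ^ k = 1 from Subtype.ext (by simpa using hk')))
        rcases i with _ | i
        · exact absurd (orderOf_eq_one_iff.1 (by simpa using hi)) hy1'
        · exact hi ▸ dvd_pow_self p (Nat.succ_ne_zero i)
      have h1 : orderOf (y ^ (p * j)) ≤ orderOf y / p := by
        refine Nat.le_of_dvd (Nat.div_pos (Nat.le_of_dvd (orderOf_pos y) hdvd) (Nat.Prime.pos Fact.out)) ?_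
        refine orderOf_dvd_of_pow_eq_one ?_
        rw [← pow_mul, show p * j * (orderOf y / p) = orderOf y * j by
          rw [mul_right_comm, Nat.mul_div_cancel' hdvd], pow_mul, pow_orderOf_eq_one, one_pow]
      rw [← hordy]
      exact lt_of_le_of_lt h1 (Nat.div_lt_self (orderOf_pos y) (Nat.Prime.one_lt Fact.out))
    · show (g⁻¹ * (y : G) ^ (p * j) * g) ^ p ^ k = 1
      have h3 : (g⁻¹ * (y : G) ^ (p * j) * g) ^ p ^ k = g⁻¹ * ((y : G) ^ (p * j)) ^ p ^ k * g := by
        simpa using (conj_pow (a := g⁻¹) (b := (y : G) ^ (p * j)) (i := p ^ k))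
      rw [h3, ← pow_mul, mul_comm, pow_mul, hk', one_pow, mul_one, inv_mul_cancel]
    · show MonoidHom.transfer lam (g⁻¹ * (y : G) ^ (p * j) * g) = 1
      rw [map_mul, map_mul, map_inv, map_pow, htry, one_pow, mul_one, inv_mul_cancel]
  -- orbits of the Sylow subgroup on the cosets
  haveI := Fintype.ofFinite (G ⧸ N)
  let cl : G ⧸ N → Quotient (MulAction.orbitRel S (G ⧸ N)) := fun q => Quotient.mk _ q
  haveI := Fintype.ofFinite (Quotient (MulAction.orbitRel S (G ⧸ N)))
  let r : G ⧸ N → G ⧸ N := fun q => (cl q).out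
  have hr : ∀ q, ∃ u : S, u • r q = q := fun q => by
    have h1 : MulAction.orbitRel S (G ⧸ N) q (r q) :=
      Quotient.exact (Quotient.out_eq (cl q)).symm
    exact MulAction.mem_orbit_iff.1 (MulAction.orbitRel_apply.1 h1)
  choose u hu using hr
  let s : G ⧸ N → G := fun q => (u q : G) * (r q).out
  have hs : ∀ q, (s q : G ⧸ N) = q := fun q => by
    conv_rhs => rw [← hu q, ← QuotientGroup.out_eq' (r q)]
    rfl
  have hrsmul : ∀ (v : S) q, r (v • q) = r q := fun v q =>
    congrArg Quotient.out (Quotient.sound (MulAction.orbitRel_apply.2 (MulAction.mem_orbit q v)) :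
      cl (v • q) = cl q)
  rw [transfer_eq_prod lam (y : G) s hs] at htry
  rw [← Finset.prod_fiberwise_of_maps_to (g := cl) (fun _ _ => Finset.mem_univ _)] at htry
  -- the product over one orbit is a transfer inside the Sylow subgroup
  have key : ∀ ω, ∃ (μ : MulAction.stabilizer S ω.out →* A),
      (∏ q ∈ Finset.univ.filter (fun q => cl q = ω),
        lam ⟨(s ((y : G) • q))⁻¹ * y * s q, smul_coset_mem s hs y q⟩) = MonoidHom.transfer μ yS ∧
      ∀ m : MulAction.stabilizer S ω.out, ∃ h : (ω.out.out : G)⁻¹ * ((m : S) : G) * ω.out.out ∈ N, μ m = lam ⟨_, h⟩ := by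
    intro ω
    set g0 : G := ω.out.out with hg0
    set M := MulAction.stabilizer S ω.out with hM
    have hg0' : (g0 : G ⧸ N) = ω.out := QuotientGroup.out_eq' _
    have hmem : ∀ m : M, g0⁻¹ * ((m : S) : G) * g0 ∈ N := fun m => by
      have h1 : (m : S) • ω.out = ω.out := m.2
      rw [← hg0'] at h1
      have h2 := QuotientGroup.eq.1
        (show ((g0 : G) : G ⧸ N) = (((m : S) : G) * g0 : G) from h1.symm)
      simpa [mul_assoc] using h2
    let ι : M →* N :=
      { toFun := fun m => ⟨g0⁻¹ * ((m : S) : G) * g0, hmem m⟩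
        map_one' := Subtype.ext (by simp)
        map_mul' := fun a b => Subtype.ext (by push_cast; group) }
    refine ⟨lam.comp ι, ?_, fun m => ⟨hmem m, rfl⟩⟩
    haveI := Fintype.ofFinite (S ⧸ M)
    have hmk : ∀ a b : S, (a : S ⧸ M) = b ↔ a • ω.out = b • ω.out := fun a b => by
      rw [QuotientGroup.eq, hM, MulAction.mem_stabilizer_iff, mul_smul, inv_smul_eq_iff, eq_comm]
    let φ : S ⧸ M → G ⧸ N := fun v => v.out • ω.out
    have hφ : ∀ a : S, φ (a : S ⧸ M) = a • ω.out := fun a =>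
      (hmk _ a).1 (QuotientGroup.out_eq' _)
    have hclφ : ∀ v, cl (φ v) = ω := fun v => by
      refine Eq.trans (Quotient.sound (MulAction.orbitRel_apply.2 (MulAction.mem_orbit _ _))) ?_
      exact Quotient.out_eq ω
    let t : S ⧸ M → S := fun v => u (φ v)
    have hr' : ∀ v, r (φ v) = ω.out := fun v => congrArg Quotient.out (hclφ v)
    have ht : ∀ v, (t v : S ⧸ M) = v := fun v => by
      conv_rhs => rw [← QuotientGroup.out_eq' v]
      rw [hmk]
      have h1 := hu (φ v)
      rw [hr'] at h1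
      exact h1
    rw [transfer_eq_prod (lam.comp ι) yS t ht]
    refine (Finset.prod_bij (fun v _ => φ v) ?_ ?_ ?_ ?_).symm
    · intro v _
      simp [hclφ v]
    · intro a _ b _ hab
      rw [← QuotientGroup.out_eq' a, ← QuotientGroup.out_eq' b, hmk]
      exact hab
    · intro q hq
      rw [Finset.mem_filter] at hq
      refine ⟨(u q : S ⧸ M), Finset.mem_univ _, ?_⟩
      rw [hφ]
      have h1 := hu q
      rwa [show r q = ω.out from congrArg Quotient.out hq.2] at h1
    · intro v _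
      show lam _ = lam _
      refine congrArg lam (Subtype.ext ?_)
      have h1 : (y : G) • φ v = φ (yS • v) := by
        have h2 : yS • φ v = (yS * v.out) • ω.out := (mul_smul _ _ _).symm
        rw [show (y : G) • φ v = yS • φ v from rfl, h2, ← hφ (yS * v.out)]
        congr 1
        conv_rhs => rw [← QuotientGroup.out_eq' v]
        rfl
      show g0⁻¹ * (((t (yS • v))⁻¹ * yS * t v : S) : G) * g0 =
        (s ((y : G) • φ v))⁻¹ * y * s (φ v)
      rw [h1]
      simp only [s, t, hr']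
      push_cast
      group
      rfl
  -- only the orbit of the trivial coset contributes
  set ω₀ := cl ((1 : G) : G ⧸ N) with hω₀
  have hone : ∀ v : S, v • ((1 : G) : G ⧸ N) = ((1 : G) : G ⧸ N) := fun v =>
    QuotientGroup.eq.2 (by simpa using inv_mem (hPN v.2))
  rw [Finset.prod_eq_single ω₀] at htry
  · obtain ⟨μ, hμ, hμ'⟩ := key ω₀
    rw [hμ] at htry
    have hout : ω₀.out = ((1 : G) : G ⧸ N) := by
      obtain ⟨v, hv⟩ := MulAction.mem_orbit_iff.1
        (MulAction.orbitRel_apply.1 (Quotient.exact (Quotient.out_eq ω₀)))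
      rw [← hv, hone]
    have htop : ∀ v : S, v ∈ MulAction.stabilizer S ω₀.out := fun v => by
      rw [MulAction.mem_stabilizer_iff, hout, hone]
    haveI := Fintype.ofFinite (S ⧸ MulAction.stabilizer S ω₀.out)
    haveI : Subsingleton (S ⧸ MulAction.stabilizer S ω₀.out) :=
      ⟨fun a b => by
        rw [← QuotientGroup.out_eq' a, ← QuotientGroup.out_eq' b, QuotientGroup.eq]
        exact htop _⟩
    rw [transfer_eq_prod μ yS Quotient.out (fun v => Quotient.out_eq v),
      Fintype.prod_subsingleton _ ((1 : S) : S ⧸ MulAction.stabilizer S ω₀.out)] at htry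
    obtain ⟨h, he⟩ := hμ' ⟨_, smul_coset_mem (Quotient.out) (fun v => Quotient.out_eq v) yS _⟩
    rw [he] at htry
    have hg0 : ω₀.out.out ∈ N := by
      have h1 := QuotientGroup.out_eq' ω₀.out
      rw [hout, QuotientGroup.eq] at h1
      simpa [hout] using h1
    refine Eq.trans ?_ htry
    set w : S := Quotient.out ((1 : S) : S ⧸ MulAction.stabilizer S ω₀.out)
    let w' : N := ⟨(w : G) * ω₀.out.out, mul_mem (hPN w.2) hg0⟩
    have h2 : lam (w'⁻¹ * y * w') = lam y := by
      rw [map_mul, map_mul, map_inv, mul_comm, ← mul_assoc, mul_inv_cancel, one_mul]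
    rw [← h2]
    refine congrArg lam (Subtype.ext ?_)
    show ((w : G) * ω₀.out.out)⁻¹ * y * ((w : G) * ω₀.out.out) = (ω₀.out.out)⁻¹ *
      (((Quotient.out (yS • ((1 : S) : S ⧸ MulAction.stabilizer S ω₀.out)))⁻¹ * yS * w : S) : G) *
        ω₀.out.out
    rw [show Quotient.out (yS • ((1 : S) : S ⧸ MulAction.stabilizer S ω₀.out)) = w from
      congrArg Quotient.out (Subsingleton.elim _ _)]
    push_cast
    group
    rfl
  · intro ω _ hne
    obtain ⟨μ, hμ, hμ'⟩ := key ω
    rw [hμ]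
    refine transfer_eq_one (Nat.card S) rfl P.2 _ (Q.subgroupOf S) (fun hle => hne ?_) heng μ hA yS ?_
    · have hmem : (ω.out.out : G) ∈ N := hfix _ fun z hz =>
        (hμ' ⟨⟨z, hQP hz⟩, hle (mem_subgroupOf.2 hz)⟩).fst
      rw [← Quotient.out_eq ω]
      show cl ω.out = cl _
      congr 1
      rw [← QuotientGroup.out_eq' ω.out, QuotientGroup.eq]
      simpa using inv_mem hmem
    · intro j v h
      obtain ⟨h', he⟩ := hμ' ⟨_, h⟩
      rw [he]
      refine Eq.trans (congrArg lam (Subtype.ext ?_))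
        (hsmall j ((v : G)⁻¹ * ω.out.out) (by
          simpa [mul_assoc, yS] using h'))
      simp [mul_assoc, yS]
  · intro h; exact absurd (Finset.mem_univ _) h

theorem le_normalizer_of_weaklyClosed {S Q : Subgroup G} (hQ : Cfsg.IsWeaklyClosed Q S) :
    S ≤ normalizer (Q : Set G) := fun x hx => by
  rw [mem_normalizer_iff_map_conj_eq]
  refine hQ.2 x ?_
  rintro _ ⟨q, hq, rfl⟩
  exact mul_mem (mul_mem hx (hQ.1 hq)) (inv_mem hx)

universe w in
/-- Transfer is controlled by the normalizer of a weakly closed subgroup satisfying the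
weakened Engel condition. -/
theorem focal_eq_normalizer {G : Type w} [Group G] [Finite G] (P : Sylow p G) (Q : Subgroup G)
    (hQ : Cfsg.IsWeaklyClosed Q (P : Subgroup G))
    (h : ∀ (A : Type w) [CommGroup A], (∀ a : A, a ^ p = 1) →
      EngCond p A (Q.subgroupOf (P : Subgroup G))) :
    (Cfsg.groupFusionSystem (P : Subgroup G)).focalSubgroup =
      (Cfsg.fusionSystemOfSubgroup (normalizer (Q : Set G)) (P : Subgroup G)
        (le_normalizer_of_weaklyClosed hQ)).focalSubgroup := by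
  set N := normalizer (Q : Set G) with hN
  set S := (P : Subgroup G) with hS
  have hPN : S ≤ N := fun x hx => by
    rw [mem_normalizer_iff_map_conj_eq]
    refine hQ.2 x ?_
    rintro _ ⟨q, hq, rfl⟩
    exact mul_mem (mul_mem hx (hQ.1 hq)) (inv_mem hx)
  set P' : Sylow p N := P.subtype hPN with hP'
  have hfix : ∀ g : G, (∀ z ∈ Q, g⁻¹ * z * g ∈ N) → g ∈ N := by
    intro g hg
    have hle : Q.map (MulAut.conj g⁻¹).toMonoidHom ≤ N := by
      rintro _ ⟨z, hz, rfl⟩
      simpa using hg z hz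
    have hp : IsPGroup p ((Q.map (MulAut.conj g⁻¹).toMonoidHom).subgroupOf N) :=
      (((P.2.to_le hQ.1).map _).of_equiv (subgroupOfEquivOfLe hle).symm)
    obtain ⟨T, hT⟩ := hp.exists_le_sylow
    obtain ⟨c, hc⟩ := MulAction.exists_smul_eq N T P'
    have h1 : Q.map (MulAut.conj ((c : G) * g⁻¹)).toMonoidHom ≤ S := by
      rintro _ ⟨z, hz, rfl⟩
      have h2 : c * ⟨g⁻¹ * z * g, hg z hz⟩ * c⁻¹ ∈ ((c • T : Sylow p N) : Subgroup N) :=
        ⟨⟨g⁻¹ * z * g, hg z hz⟩, hT (mem_subgroupOf.2 ⟨z, hz, by simp⟩), rfl⟩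
      rw [hc] at h2
      have h3 : ((c * ⟨g⁻¹ * z * g, hg z hz⟩ * c⁻¹ : N) : G) ∈ S := h2
      simpa [mul_assoc] using h3
    have h2 : (c : G) * g⁻¹ ∈ N := mem_normalizer_iff_map_conj_eq.2 (hQ.2 _ h1)
    simpa using inv_mem ((Subgroup.mul_mem_cancel_left N c.2).1 h2)
  -- the subgroups of the fusion systems
  set F := Cfsg.groupFusionSystem S with hF
  set H := Cfsg.fusionSystemOfSubgroup N S hPN with hH
  have hHF : H.IsSubsystemOf F := fun R φ ⟨hR, hS', g, _, hg⟩ => ⟨hR, hS', g, hg⟩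
  have hFs : F.IsSaturated p := CfsgLib.Fusion.isSaturated_group P
  have hHs : H.IsSaturated p := CfsgLib.Fusion.isSaturated_subgroup hPN P.2
    (fun hd => P.not_dvd_index (hd.trans (relIndex_dvd_index_of_le hPN)))
  have hfoc : (frattini S).map S.subtype ⊔ F.focalSubgroup =
      (frattini S).map S.subtype ⊔ H.focalSubgroup := by
    refine le_antisymm (sup_le le_sup_left ?_) (sup_le_sup_left (CfsgLib.Fusion.focal_mono hHF) _)
    refine (closure_le _).2 ?_
    rintro w ⟨R, φ, x, hφ, rfl⟩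
    obtain ⟨hR, hφS, g, hg⟩ := hφ
    set w := (x : G)⁻¹ * φ x with hw
    have hwS : w ∈ S := mul_mem (inv_mem (hR x.2)) (hφS x)
    -- the obstruction to being a `p`-th power modulo the focal subgroup of `N`
    let A₀ := (P' : Subgroup N) ⧸ (P' : Subgroup N).focalSubgroupOf
    let π : A₀ →* A₀ ⧸ (powMonoidHom p : A₀ →* A₀).range := QuotientGroup.mk' _
    let lam : N →* A₀ ⧸ (powMonoidHom p : A₀ →* A₀).range :=
      π.comp (P' : Subgroup N).transferFocal
    have hA : ∀ a : A₀ ⧸ (powMonoidHom p : A₀ →* A₀).range, a ^ p = 1 := fun a => by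
      obtain ⟨b, rfl⟩ := QuotientGroup.mk'_surjective _ a
      rw [← map_pow]
      exact (QuotientGroup.eq_one_iff _).2 ⟨b, rfl⟩
    have hw1 : lam ⟨w, hPN hwS⟩ = 1 := by
      refine apply_eq_one_of_transfer hA lam P hPN hQ.1 hfix (h _ hA) _ ⟨w, hPN hwS⟩ rfl ?_ ?_
      · obtain ⟨k, hk⟩ := P.2 ⟨w, hwS⟩
        exact ⟨k, congrArg Subtype.val hk⟩
      · show MonoidHom.transfer lam w = 1
        rw [hw, hg, map_mul, map_mul, map_mul, map_inv, map_inv, mul_inv_cancel_comm,
          inv_mul_cancel]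
    let w' : (P' : Subgroup N) := ⟨⟨w, hPN hwS⟩, hwS⟩
    have hw2 : π ((w' : A₀) ^ (P' : Subgroup N).index) = 1 := by
      rw [← Subgroup.transferFocal_eq_pow (P' : Subgroup N) w']
      exact hw1
    rw [map_pow] at hw2
    have hw3 : π (w' : A₀) = 1 := by
      have hcp : Nat.Coprime (orderOf (π (w' : A₀))) (P' : Subgroup N).index :=
        Nat.Coprime.coprime_dvd_left (orderOf_dvd_of_pow_eq_one (hA _))
          (((Fact.out : p.Prime).coprime_iff_not_dvd).2 P'.not_dvd_index)
      exact orderOf_eq_one_iff.1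
        (Nat.Coprime.eq_one_of_dvd hcp (orderOf_dvd_of_pow_eq_one hw2))
    obtain ⟨b, hb⟩ := (QuotientGroup.eq_one_iff _).1 hw3
    obtain ⟨z, rfl⟩ := QuotientGroup.mk_surjective b
    have hd : (z ^ p)⁻¹ * w' ∈ (P' : Subgroup N).focalSubgroupOf := QuotientGroup.eq.1 hb
    have hfle : ∀ d : N, d ∈ (P' : Subgroup N).focalSubgroup → (d : G) ∈ H.focalSubgroup := by
      intro d hd
      rw [Subgroup.focalSubgroup_def] at hd
      induction hd using Subgroup.closure_induction with
      | mem d hd =>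
          obtain ⟨hdP, a, ha, v, rfl⟩ := hd
          have hva : (v : G) * (a : G)⁻¹ * (v : G)⁻¹ ∈ S := by
            have h4 : ((a⁻¹ * ⁅a, v⁆ : N) : G) ∈ S :=
              mul_mem (inv_mem ha) hdP
            simpa [commutatorElement_def, mul_assoc] using h4
          have hz : zpowers (a : G)⁻¹ ≤ S := zpowers_le.2 (inv_mem ha)
          have hm : CfsgLib.Fusion.IsMap H (zpowers (a : G)⁻¹) (fun t => (v : G) * t * (v : G)⁻¹) := by
            refine CfsgLib.Fusion.isMap_subgroup_iff.2 ⟨hz, v, v.2, fun t ht => ⟨?_, rfl⟩⟩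
            obtain ⟨n, rfl⟩ := mem_zpowers_iff.1 ht
            rw [← conj_zpow]
            exact zpow_mem hva n
          obtain ⟨ψ, hψ, he⟩ := hm
          refine subset_closure ⟨_, ψ, ⟨(a : G)⁻¹, mem_zpowers _⟩, hψ, ?_⟩
          rw [he, inv_inv]
          simp [commutatorElement_def, mul_assoc]
      | one => exact one_mem _
      | mul a b _ _ ha hb => exact mul_mem ha hb
      | inv a _ ha => exact inv_mem ha
    have h5 : w = (((z ^ p : (P' : Subgroup N)) : N) : G) * (((z ^ p)⁻¹ * w' : (P' : Subgroup N)) : N) := by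
      push_cast
      simp [w']
    rw [SetLike.mem_coe, h5]
    refine mul_mem (mem_sup_left ?_) (mem_sup_right (hfle _ (mem_subgroupOf.1 hd)))
    refine ⟨⟨((z : N) : G), z.2⟩ ^ p, CfsgLib.Coprime.pow_mem_frattini P.2 _, ?_⟩
    simp
  exact CfsgLib.Fusion.focal_eq_of_frattini_sup_eq P.2 hFs hHF hfoc

/-- Hall–Wielandt: the normalizer of a weakly closed Engel subgroup controls the `p`-residual. -/
theorem pResidualOf_normalizer_eq (P : Sylow p G) (Q : Subgroup G)
    (hQ : Cfsg.IsWeaklyClosed Q (P : Subgroup G))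
    (h : ∀ u ∈ (P : Subgroup G), ∀ z ∈ Q, (eng z)^[p - 1] u = 1) :
    Cfsg.pResidualOf p (normalizer (Q : Set G)) = Cfsg.pResidual p G ⊓ normalizer (Q : Set G) := by
  set N := normalizer (Q : Set G) with hN
  set S := (P : Subgroup G) with hS
  have hPN : S ≤ N := fun x hx => by
    rw [mem_normalizer_iff_map_conj_eq]
    refine hQ.2 x ?_
    rintro _ ⟨q, hq, rfl⟩
    exact mul_mem (mul_mem hx (hQ.1 hq)) (inv_mem hx)
  set P' : Sylow p N := P.subtype hPN with hP'
  have hfix : ∀ g : G, (∀ z ∈ Q, g⁻¹ * z * g ∈ N) → g ∈ N := by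
    intro g hg
    have hle : Q.map (MulAut.conj g⁻¹).toMonoidHom ≤ N := by
      rintro _ ⟨z, hz, rfl⟩
      simpa using hg z hz
    have hp : IsPGroup p ((Q.map (MulAut.conj g⁻¹).toMonoidHom).subgroupOf N) :=
      (((P.2.to_le hQ.1).map _).of_equiv (subgroupOfEquivOfLe hle).symm)
    obtain ⟨T, hT⟩ := hp.exists_le_sylow
    obtain ⟨c, hc⟩ := MulAction.exists_smul_eq N T P'
    have h1 : Q.map (MulAut.conj ((c : G) * g⁻¹)).toMonoidHom ≤ S := by
      rintro _ ⟨z, hz, rfl⟩
      have h2 : c * ⟨g⁻¹ * z * g, hg z hz⟩ * c⁻¹ ∈ ((c • T : Sylow p N) : Subgroup N) :=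
        ⟨⟨g⁻¹ * z * g, hg z hz⟩, hT (mem_subgroupOf.2 ⟨z, hz, by simp⟩), rfl⟩
      rw [hc] at h2
      have h3 : ((c * ⟨g⁻¹ * z * g, hg z hz⟩ * c⁻¹ : N) : G) ∈ S := h2
      simpa [mul_assoc] using h3
    have h2 : (c : G) * g⁻¹ ∈ N := mem_normalizer_iff_map_conj_eq.2 (hQ.2 _ h1)
    simpa using inv_mem ((Subgroup.mul_mem_cancel_left N c.2).1 h2)
  refine le_antisymm ?_ ?_
  · refine le_inf ?_ (map_subtype_le _)
    unfold Cfsg.pResidualOf Cfsg.pResidual
    rw [MonoidHom.map_closure]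
    refine (closure_le _).2 ?_
    rintro _ ⟨g, hg, rfl⟩
    exact subset_closure (show Nat.Coprime (orderOf ((g : G))) p by rwa [Subgroup.orderOf_coe])
  -- the subgroups of the fusion systems
  set F := Cfsg.groupFusionSystem S with hF
  set H := Cfsg.fusionSystemOfSubgroup N S hPN with hH
  have hHF : H.IsSubsystemOf F := fun R φ ⟨hR, hS', g, _, hg⟩ => ⟨hR, hS', g, hg⟩
  have hFs : F.IsSaturated p := CfsgLib.Fusion.isSaturated_group P
  have hHs : H.IsSaturated p := CfsgLib.Fusion.isSaturated_subgroup hPN P.2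
    (fun hd => P.not_dvd_index (hd.trans (relIndex_dvd_index_of_le hPN)))
  have hfeq : F.focalSubgroup = H.focalSubgroup := focal_eq_normalizer P Q hQ fun A _ _ =>
    engCond_of_eq_one fun u z hz => by
      apply Subtype.ext
      have hc : Function.Semiconj (fun x : S => (x : G)) (eng z) (eng (z : G)) := fun x => by
        simp [eng]
      rw [show (((eng z)^[p - 1] u : S) : G) = _ from hc.iterate_right (p - 1) u,
        h u u.2 z (mem_subgroupOf.1 hz)]
      rfl
  have hyp : F.hyperfocalSubgroup p ≤ H.hyperfocalSubgroup p := by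
    refine CfsgLib.Fusion.hyperfocal_le_of_le_sup_derived P.2 hFs hHF ?_
    rw [← CfsgLib.Fusion.focal_eq P.2 hHs, ← hfeq]
    exact CfsgLib.Fusion.hyperfocal_le_focal
  -- the hyperfocal subgroup of `N` lies in its residual
  set M := Cfsg.pResidual p N with hM
  haveI hMn : M.Normal := CfsgLib.Fusion.pResidual_normal
  have hHM : H.hyperfocalSubgroup p ≤ M.map N.subtype := by
    refine (closure_le _).2 ?_
    rintro w ⟨R, α, x, hR, hα, rfl⟩
    have key : ∀ z ∈ R, z⁻¹ * CfsgLib.Fusion.autFun (α : MulAut R) z ∈ M.map N.subtype :=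
      fun z hz => by
      refine CfsgLib.Fusion.mem_of_mem_pResidual_aut (fun a hac z hz => ?_) hα hz
      have hm := (CfsgLib.Fusion.mem_autGroup_iff hR).1 a.2
      obtain ⟨-, g, hgN, hg⟩ := CfsgLib.Fusion.isMap_subgroup_iff.1 hm
      obtain ⟨k, hk⟩ := CfsgLib.Fusion.exists_pow_p_mem_pResidual (p := p) (⟨g, hgN⟩ : N)
      have ha' : ∀ n : ℕ, ∀ t ∈ R,
          CfsgLib.Fusion.autFun ((a : MulAut R) ^ n) t = g ^ n * t * (g ^ n)⁻¹ := by
        intro n
        induction n with
        | zero => intro t ht; simp [CfsgLib.Fusion.autFun_one ht]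
        | succ n ih =>
            intro t ht
            rw [pow_succ', CfsgLib.Fusion.autFun_mul _ _ ht,
              (hg _ (CfsgLib.Fusion.autFun_mem _ ht)).2, ih t ht, pow_succ' g]
            simp only [mul_inv_rev, mul_assoc]
      obtain ⟨n, hn⟩ := exists_pow_eq_self_of_coprime (x := a) (n := p ^ k)
        (Nat.Coprime.pow_left k hac.symm)
      have h2 := ha' (p ^ k * n) z hz
      rw [pow_mul, show (((a : MulAut R) ^ p ^ k) ^ n) = (a : MulAut R) from by
        rw [← SubmonoidClass.coe_pow, ← SubmonoidClass.coe_pow, hn]] at h2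
      rw [h2, pow_mul]
      refine ⟨⟨z, hPN (hR hz)⟩⁻¹ * (⟨g, hgN⟩ ^ p ^ k) ^ n * ⟨z, hPN (hR hz)⟩ *
        ((⟨g, hgN⟩ ^ p ^ k) ^ n)⁻¹, mul_mem ?_ (inv_mem (pow_mem hk n)), ?_⟩
      · simpa using hMn.conj_mem _ (pow_mem hk n) (⟨z, hPN (hR hz)⟩ : N)⁻¹
      · push_cast
        simp [mul_assoc]
    have := key x x.2
    rwa [CfsgLib.Fusion.autFun_coe] at this
  -- conclusion
  intro x hx
  obtain ⟨hxO, hxN⟩ := hx
  haveI := CfsgLib.Fusion.pResidual_normal (G := G) (p := p)
  have hsup := CfsgLib.Fusion.pResidual_sup_sylow (G := N) P'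
  have hxmem : (⟨x, hxN⟩ : N) ∈ M ⊔ (P' : Subgroup N) := by rw [hM, hsup]; exact mem_top _
  obtain ⟨m, hm, v, hv, hmv⟩ := mem_sup_of_normal_left.1 hxmem
  have hmO : (m : G) ∈ Cfsg.pResidual p G := by
    have hm' : m ∈ closure {g : N | Nat.Coprime (orderOf g) p} := hm
    have := mem_map_of_mem N.subtype hm'
    unfold Cfsg.pResidual
    rw [MonoidHom.map_closure] at this
    refine closure_mono ?_ this
    rintro _ ⟨g, hg, rfl⟩
    show Nat.Coprime (orderOf (g : G)) p
    rwa [Subgroup.orderOf_coe]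
  have hvx : (v : G) = (m : G)⁻¹ * x := by
    rw [eq_inv_mul_iff_mul_eq, ← Subgroup.coe_mul, hmv]
  have hvK : (v : G) ∈ F.hyperfocalSubgroup p := by
    rw [hF, CfsgLib.Fusion.hyperfocal_group P]
    refine ⟨hv, ?_⟩
    show (v : G) ∈ Cfsg.pResidual p G
    rw [hvx]
    exact mul_mem (inv_mem hmO) hxO
  have hres : x = (m : G) * v := by rw [hvx, mul_inv_cancel_left]
  rw [hres]
  exact mul_mem (mem_map_of_mem N.subtype hm) (hHM (hyp hvK))

end CfsgLib.HallWielandt
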