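import Mathlib.GroupTheory.PGroup
import Mathlib.GroupTheory.SpecificGroups.Cyclic
import Mathlib.Data.Nat.Choose.Dvd

/-!
# Elements of order `p` in metacyclic `p`-groups, `p` odd
-/

set_option autoImplicit false
set_option linter.style.haveILetI false
set_option linter.unusedSectionVars false

open Subgroup
open scoped commutatorElement Classical

namespace CfsgLib.MetacyclicOmega

variable {R : Type*} [Group R] [Finite R] {p : ℕ} [Fact p.Prime]

/-- A normal subgroup of order at most `p` is central. -/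
theorem le_center_of_card_le (hR : IsPGroup p R) (T : Subgroup R) [T.Normal]
    (hT : Nat.card T ≤ p) : T ≤ Subgroup.center R := by
  have hp := (Fact.out : p.Prime)
  obtain ⟨k, hk⟩ := (hR.to_subgroup T).exists_card_eq
  have hk1 : k ≤ 1 := (Nat.pow_le_pow_iff_right hp.one_lt).1 (by rw [pow_one, ← hk]; exact hT)
  rcases Nat.le_one_iff_eq_zero_or_eq_one.1 hk1 with rfl | rfl
  · rw [Subgroup.eq_bot_of_card_eq T (by rw [hk, pow_zero])]
    exact bot_le
  · rw [pow_one] at hk
    haveI : IsCyclic T := isCyclic_of_prime_card hk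
    intro t ht
    rw [Subgroup.mem_center_iff]
    intro g
    set φ : R →* MulAut T := MulAut.conjNormal
    haveI : Finite (MulAut T) := Finite.of_injective (fun a : MulAut T => (a : T → T))
      fun a b h => MulEquiv.ext fun x => congrFun h x
    obtain ⟨e, he⟩ := hR g
    have h1 : orderOf (φ g) ∣ p ^ e := orderOf_dvd_of_pow_eq_one (by rw [← map_pow, he, map_one])
    have h2 : orderOf (φ g) ∣ p - 1 := by
      have := orderOf_dvd_natCard (φ g)
      rwa [IsCyclic.card_mulAut, hk, Nat.totient_prime hp] at this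
    have hco : Nat.Coprime (p ^ e) (p - 1) :=
      Nat.Coprime.pow_left e (hp.coprime_iff_not_dvd.2 fun h =>
        absurd (Nat.le_of_dvd (Nat.sub_pos_of_lt hp.one_lt) h) (by have := hp.one_lt; omega))
    have h3 : φ g = 1 := orderOf_eq_one_iff.1 (Nat.eq_one_of_dvd_coprimes hco h1 h2)
    have h4 : g * t * g⁻¹ = t := by
      rw [← MulAut.conjNormal_apply (H := T) g ⟨t, ht⟩]
      show ((φ g ⟨t, ht⟩ : T) : R) = t
      rw [h3]
      rfl
    exact mul_inv_eq_iff_eq_mul.1 h4

theorem card_pow_eq_one_le {A : Subgroup R} [IsCyclic A] (T : Subgroup R) (hTA : T ≤ A)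
    (hT : ∀ x ∈ T, x ^ p = 1) : Nat.card T ≤ p := by
  haveI : Fintype A := Fintype.ofFinite _
  have h := IsCyclic.card_pow_eq_one_le (α := A) (Fact.out : p.Prime).pos
  refine le_trans ?_ h
  haveI : Fintype T := Fintype.ofFinite _
  rw [Nat.card_eq_fintype_card, ← Finset.card_univ]
  refine Finset.card_le_card_of_injOn (fun x => ⟨x, hTA x.2⟩) (fun x _ => ?_) fun x _ y _ h => ?_
  · simp only [Finset.coe_filter, Finset.mem_univ, true_and, Set.mem_setOf_eq]
    exact Subtype.ext (hT x x.2)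
  · exact Subtype.ext (by simpa using h)

/-- Powers of `x` conjugating an element `c`. -/
theorem conj_pow_formula {x c z w : R} (hz : x * c * x⁻¹ = z * c) (hw : x * z * x⁻¹ = w * z)
    (hww : x * w * x⁻¹ = w) (hzw : Commute z w) (i : ℕ) :
    x ^ i * c * (x ^ i)⁻¹ = w ^ i.choose 2 * z ^ i * c := by
  induction i with
  | zero => simp
  | succ i ih =>
    calc x ^ (i + 1) * c * (x ^ (i + 1))⁻¹ = x * (x ^ i * c * (x ^ i)⁻¹) * x⁻¹ := by
          rw [pow_succ']; group
      _ = (x * w * x⁻¹) ^ i.choose 2 * (x * z * x⁻¹) ^ i * (x * c * x⁻¹) := by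
          rw [ih, conj_pow, conj_pow]; group
      _ = w ^ i.choose 2 * (w ^ i * z ^ i) * (z * c) := by
          rw [hww, hw, hz, (hzw.symm).mul_pow]
      _ = (w ^ i.choose 2 * w ^ i) * (z ^ i * z) * c := by group
      _ = w ^ (i + 1).choose 2 * z ^ (i + 1) * c := by
          rw [← pow_add, ← pow_succ, show (i + 1).choose 2 = i.choose 2 + i by
            rw [Nat.choose_succ_succ, Nat.choose_one_right, Nat.add_comm]]

variable (hR : IsPGroup p R) (hp : p ≠ 2) {N : Subgroup R} [N.Normal] [IsCyclic N]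
include hR hp

/-- An element of order `p` moves elements of a cyclic normal subgroup by elements of order `p`. -/
theorem commutator_pow_eq_one {x : R} (hx : x ^ p = 1) :
    ∀ (k : ℕ) (c : R), c ∈ N → c ^ p ^ k = 1 → ⁅x, c⁆ ^ p = 1 := by
  have hp' := (Fact.out : p.Prime)
  have hab : ∀ a ∈ N, ∀ b ∈ N, Commute a b := fun a ha b hb =>
    congrArg Subtype.val ((IsCyclic.isMulCommutative (α := N)).is_comm.comm ⟨a, ha⟩ ⟨b, hb⟩)
  have hcN : ∀ c ∈ N, x * c * x⁻¹ ∈ N := fun c hc => Subgroup.Normal.conj_mem inferInstance c hc x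
  have hzN : ∀ c ∈ N, ⁅x, c⁆ ∈ N := fun c hc => by
    rw [commutatorElement_def]; exact mul_mem (hcN c hc) (inv_mem hc)
  -- elements of order `p` of `N` are central
  set N₁ : Subgroup R :=
    { carrier := {c | c ∈ N ∧ c ^ p = 1}
      one_mem' := ⟨one_mem _, one_pow p⟩
      mul_mem' := fun {a b} ha hb => ⟨mul_mem ha.1 hb.1, by
        rw [(hab a ha.1 b hb.1).mul_pow, ha.2, hb.2, mul_one]⟩
      inv_mem' := fun {a} ha => ⟨inv_mem ha.1, by rw [inv_pow, ha.2, inv_one]⟩ } with hN₁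
  haveI : N₁.Normal := ⟨fun c hc g => ⟨Subgroup.Normal.conj_mem inferInstance c hc.1 g, by
    rw [conj_pow, hc.2, mul_one, mul_inv_cancel]⟩⟩
  have hN₁c := le_center_of_card_le hR N₁ (card_pow_eq_one_le (A := N) N₁ (fun c hc => hc.1)
    fun c hc => hc.2)
  intro k
  induction k with
  | zero =>
    intro c _ hc
    rw [pow_zero, pow_one] at hc
    rw [hc, commutatorElement_one_right, one_pow]
  | succ k ih =>
    intro c hc hck
    have hpow : ∀ (d : R), d ∈ N → ∀ i : ℕ, ⁅x, d ^ i⁆ = ⁅x, d⁆ ^ i := fun d hd i => by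
      rw [commutatorElement_def, commutatorElement_def,
        (hab _ (hcN d hd) _ (inv_mem hd)).mul_pow, conj_pow, inv_pow]
    set z := ⁅x, c⁆ with hz
    have h1 : (z ^ p) ^ p = 1 := by
      rw [hz, ← hpow c hc]
      exact ih _ (pow_mem hc p) (by rw [← pow_mul, ← pow_succ']; exact hck)
    have hzp : z ^ p ∈ Subgroup.center R := hN₁c ⟨pow_mem (hzN c hc) p, h1⟩
    set w := ⁅x, z⁆ with hw
    have hw1 : w ^ p = 1 := by
      rw [hw, ← hpow z (hzN c hc), commutatorElement_eq_one_iff_mul_comm]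
      exact Subgroup.mem_center_iff.1 hzp x
    have hwc : w ∈ Subgroup.center R := hN₁c ⟨hzN z (hzN c hc), hw1⟩
    have hf := conj_pow_formula (x := x) (c := c) (z := z) (w := w)
      (by rw [hz, commutatorElement_def]; group) (by rw [hw, commutatorElement_def]; group)
      (by rw [Subgroup.mem_center_iff.1 hwc x, mul_inv_cancel_right])
      (Subgroup.mem_center_iff.1 hwc z) p
    rw [hx, one_mul, inv_one, mul_one] at hf
    obtain ⟨m, hm⟩ := hp'.dvd_choose_self two_ne_zero (lt_of_le_of_ne hp'.two_le (Ne.symm hp))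
    rw [hm, pow_mul, hw1, one_pow, one_mul] at hf
    exact mul_eq_right.1 hf.symm

/-- The elements of order at most `p` form an abelian subgroup of order at most `p²`. -/
theorem exists_omega (hq : IsCyclic (R ⧸ N)) :
    ∃ W : Subgroup R, (∀ x, x ∈ W ↔ x ^ p = 1) ∧ (∀ a ∈ W, ∀ b ∈ W, a * b = b * a) ∧
      Nat.card W ≤ p ^ 2 := by
  have hp' := (Fact.out : p.Prime)
  have hab : ∀ a ∈ N, ∀ b ∈ N, Commute a b := fun a ha b hb =>
    congrArg Subtype.val ((IsCyclic.isMulCommutative (α := N)).is_comm.comm ⟨a, ha⟩ ⟨b, hb⟩)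
  set N₁ : Subgroup R :=
    { carrier := {c | c ∈ N ∧ c ^ p = 1}
      one_mem' := ⟨one_mem _, one_pow p⟩
      mul_mem' := fun {a b} ha hb => ⟨mul_mem ha.1 hb.1, by
        rw [(hab a ha.1 b hb.1).mul_pow, ha.2, hb.2, mul_one]⟩
      inv_mem' := fun {a} ha => ⟨inv_mem ha.1, by rw [inv_pow, ha.2, inv_one]⟩ } with hN₁
  haveI : N₁.Normal := ⟨fun c hc g => ⟨Subgroup.Normal.conj_mem inferInstance c hc.1 g, by
    rw [conj_pow, hc.2, mul_one, mul_inv_cancel]⟩⟩
  have hcard₁ : Nat.card N₁ ≤ p := card_pow_eq_one_le (A := N) N₁ (fun c hc => hc.1) fun c hc => hc.2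
  have hN₁c := le_center_of_card_le hR N₁ hcard₁
  by_cases hall : ∀ x : R, x ^ p = 1 → x ∈ N
  · refine ⟨N₁, fun x => ⟨fun hx => hx.2, fun hx => ⟨hall x hx, hx⟩⟩,
      fun a ha b hb => (hab a ha.1 b hb.1).eq, hcard₁.trans (Nat.le_self_pow two_ne_zero p)⟩
  push Not at hall
  obtain ⟨x, hx, hxN⟩ := hall
  have hZ : Subgroup.zpowers x ≤ Subgroup.normalizer (N₁ : Set R) := by
    rw [Subgroup.normalizer_eq_top]; exact le_top
  have hmem : ∀ y, y ∈ N₁ ⊔ Subgroup.zpowers x ↔ ∃ c ∈ N₁, ∃ k : ℤ, c * x ^ k = y := by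
    intro y
    rw [← SetLike.mem_coe, Subgroup.coe_mul_of_right_le_normalizer_left _ _ hZ, Set.mem_mul]
    constructor
    · rintro ⟨c, hc, t, ht, e⟩
      obtain ⟨k, rfl⟩ := Subgroup.mem_zpowers_iff.1 ht
      exact ⟨c, hc, k, e⟩
    · rintro ⟨c, hc, k, e⟩
      exact ⟨c, hc, x ^ k, Subgroup.mem_zpowers_iff.2 ⟨k, rfl⟩, e⟩
  have hcomm : ∀ c ∈ N₁, ∀ y : R, Commute c y := fun c hc y =>
    (Subgroup.mem_center_iff.1 (hN₁c hc) y).symm
  have hxk : ∀ k : ℤ, (x ^ k) ^ p = 1 := fun k => by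
    rw [← zpow_natCast (x ^ k) p, ← zpow_mul, mul_comm, zpow_mul, zpow_natCast, hx, one_zpow]
  refine ⟨N₁ ⊔ Subgroup.zpowers x, fun y => ⟨fun hy => ?_, fun hy => ?_⟩, ?_, ?_⟩
  · obtain ⟨c, hc, k, rfl⟩ := (hmem y).1 hy
    rw [(hcomm c hc _).mul_pow, hc.2, hxk, mul_one]
  · set π := QuotientGroup.mk' N
    have hπx : π x ≠ 1 := fun e => hxN ((QuotientGroup.eq_one_iff x).1 e)
    haveI := hq
    haveI : Fintype (R ⧸ N) := Fintype.ofFinite _
    set Q := (Finset.univ.filter fun q : R ⧸ N => q ^ p = 1) with hQ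
    have hord : orderOf (π x) = p := orderOf_eq_prime (by rw [← map_pow, hx, map_one]) hπx
    have hπy : π y ∈ Subgroup.zpowers (π x) := by
      by_contra hny
      have hsub : insert (π y) (Finset.univ.filter fun q => q ∈ Subgroup.zpowers (π x)) ⊆ Q := by
        intro q hq
        rw [Finset.mem_filter]
        refine ⟨Finset.mem_univ _, ?_⟩
        rcases Finset.mem_insert.1 hq with rfl | hq
        · rw [← map_pow, hy, map_one]
        · obtain ⟨k, rfl⟩ := Subgroup.mem_zpowers_iff.1 (Finset.mem_filter.1 hq).2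
          rw [← map_zpow, ← map_pow, hxk, map_one]
      have h1 := Finset.card_le_card hsub
      rw [Finset.card_insert_of_notMem (by simp [hny]), ← Fintype.card_subtype,
        ← Nat.card_eq_fintype_card] at h1
      have h2 : Nat.card {q // q ∈ Subgroup.zpowers (π x)} = p := (Nat.card_zpowers _).trans hord
      rw [h2] at h1
      have h3 : Q.card ≤ p := IsCyclic.card_pow_eq_one_le hp'.pos
      omega
    obtain ⟨k, hk⟩ := Subgroup.mem_zpowers_iff.1 hπy
    have hcN : (x ^ k)⁻¹ * y ∈ N := by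
      rw [← QuotientGroup.eq_one_iff, ← QuotientGroup.mk'_apply, map_mul, map_inv, map_zpow]
      show (π x ^ k)⁻¹ * π y = 1
      rw [hk, inv_mul_cancel]
    set c := (x ^ k)⁻¹ * y with hc
    obtain ⟨e, he⟩ := hR c
    have hz := commutator_pow_eq_one hR hp (hxk k) e c hcN he
    have hzN₁ : ⁅x ^ k, c⁆ ∈ N₁ := ⟨by
      rw [commutatorElement_def]
      exact mul_mem (Subgroup.Normal.conj_mem inferInstance c hcN _) (inv_mem hcN), hz⟩
    have hkey : ∀ n : ℕ, (x ^ k * c) ^ n * ⁅x ^ k, c⁆ ^ n.choose 2 = (x ^ k) ^ n * c ^ n := by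
      intro n
      induction n with
      | zero => simp
      | succ n ih =>
        have hzc := hcomm _ hzN₁
        have hswap : c ^ n * x ^ k * ⁅x ^ k, c⁆ ^ n = x ^ k * c ^ n := by
          have h1 : x ^ k * c ^ n * (x ^ k)⁻¹ = ⁅x ^ k, c⁆ ^ n * c ^ n := by
            rw [← conj_pow, ← (hzc c).mul_pow, commutatorElement_def]
            group
          calc c ^ n * x ^ k * ⁅x ^ k, c⁆ ^ n = ⁅x ^ k, c⁆ ^ n * c ^ n * x ^ k := by
                rw [← ((hzc (c ^ n * x ^ k)).pow_left n).eq, mul_assoc]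
            _ = x ^ k * c ^ n := by rw [← h1]; group
        calc (x ^ k * c) ^ (n + 1) * ⁅x ^ k, c⁆ ^ (n + 1).choose 2
            = (x ^ k * c) ^ n * ((x ^ k * c) * ⁅x ^ k, c⁆ ^ n.choose 2) * ⁅x ^ k, c⁆ ^ n := by
              rw [pow_succ, Nat.choose_succ_succ, Nat.choose_one_right, Nat.add_comm n, pow_add]
              group
          _ = (x ^ k * c) ^ n * ⁅x ^ k, c⁆ ^ n.choose 2 * (x ^ k * c) * ⁅x ^ k, c⁆ ^ n := by
              rw [← ((hzc (x ^ k * c)).pow_left (n.choose 2)).eq]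
              group
          _ = (x ^ k) ^ n * (c ^ n * x ^ k * ⁅x ^ k, c⁆ ^ n) * c := by
              rw [ih]
              simp only [mul_assoc]
              rw [((hzc c).pow_left n).eq]
          _ = (x ^ k) ^ (n + 1) * c ^ (n + 1) := by rw [hswap, pow_succ, pow_succ c]; group
    have h := hkey p
    obtain ⟨m, hm⟩ := hp'.dvd_choose_self two_ne_zero (lt_of_le_of_ne hp'.two_le (Ne.symm hp))
    have hyc : x ^ k * c = y := mul_inv_cancel_left _ _
    rw [hm, pow_mul, hz, one_pow, mul_one, hyc, hy, hxk, one_mul] at h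
    refine (hmem y).2 ⟨c, ⟨hcN, h.symm⟩, k, ?_⟩
    rw [(hcomm c ⟨hcN, h.symm⟩ (x ^ k)).eq, hyc]
  · intro a ha b hb
    obtain ⟨c, hc, k, rfl⟩ := (hmem a).1 ha
    obtain ⟨d, hd, l, rfl⟩ := (hmem b).1 hb
    exact (((hcomm c hc _).mul_left ((hcomm d hd (x ^ k)).symm.mul_right
      ((Commute.refl x).zpow_zpow k l)))).eq
  · calc Nat.card (N₁ ⊔ Subgroup.zpowers x : Subgroup R)
        ≤ Nat.card (N₁ × Subgroup.zpowers x) := by
          refine Nat.card_le_card_of_surjective (fun z => ⟨(z.1 : R) * z.2,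
            mul_mem (Subgroup.mem_sup_left z.1.2) (Subgroup.mem_sup_right z.2.2)⟩) fun y => ?_
          obtain ⟨c, hc, k, he⟩ := (hmem y).1 y.2
          exact ⟨(⟨c, hc⟩, ⟨x ^ k, Subgroup.mem_zpowers_iff.2 ⟨k, rfl⟩⟩), Subtype.ext he⟩
      _ ≤ p * p := by
          rw [Nat.card_prod, Nat.card_zpowers]
          exact Nat.mul_le_mul hcard₁ (Nat.le_of_dvd hp'.pos (orderOf_dvd_of_pow_eq_one hx))
      _ = p ^ 2 := (sq p).symm

omit hp in
/-- A normal subgroup containing all `p`-th powers has index at most `p²`. -/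
theorem index_le_of_pow_mem (hq : IsCyclic (R ⧸ N)) {V : Subgroup R} [V.Normal]
    (hV : ∀ x : R, x ^ p ∈ V) : V.index ≤ p ^ 2 := by
  have hp' := (Fact.out : p.Prime)
  obtain ⟨b, hb⟩ := IsCyclic.exists_generator (α := N)
  obtain ⟨q, hg⟩ := hq.exists_generator
  obtain ⟨g, rfl⟩ := QuotientGroup.mk_surjective q
  let π := QuotientGroup.mk' V
  have hpow : ∀ (y : R) (n : ℤ), ∃ i : Fin p, π y ^ n = π y ^ (i : ℕ) := fun y n => by
    refine ⟨⟨(n % (p : ℤ)).toNat, ?_⟩, ?_⟩
    · have h1 := Int.emod_lt_of_pos n (by exact_mod_cast hp'.pos : (0 : ℤ) < p)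
      have h2 := Int.emod_nonneg n (by exact_mod_cast hp'.ne_zero : (p : ℤ) ≠ 0)
      omega
    · have hy : π y ^ p = 1 := by
        rw [← map_pow]; exact (QuotientGroup.eq_one_iff _).2 (hV y)
      rw [← zpow_natCast, Int.toNat_of_nonneg (Int.emod_nonneg n (by exact_mod_cast hp'.ne_zero))]
      conv_lhs => rw [← Int.emod_add_mul_ediv n p]
      rw [zpow_add, zpow_mul, zpow_natCast, hy, one_zpow, mul_one]
  have hsurj : Function.Surjective (fun ij : Fin p × Fin p => π (b : R) ^ (ij.1 : ℕ) * π g ^ (ij.2 : ℕ)) := by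
    intro y
    obtain ⟨r, rfl⟩ := QuotientGroup.mk'_surjective V y
    obtain ⟨l, hl⟩ := Subgroup.mem_zpowers_iff.1 (hg (r : R ⧸ N))
    have hcN : r * (g ^ l)⁻¹ ∈ N := by
      rw [← QuotientGroup.eq_one_iff, ← QuotientGroup.mk'_apply, map_mul, map_inv, map_zpow,
        QuotientGroup.mk'_apply, QuotientGroup.mk'_apply, hl, mul_inv_cancel]
    obtain ⟨i', hi'⟩ := Subgroup.mem_zpowers_iff.1 (hb ⟨_, hcN⟩)
    have hr : r = (b : R) ^ i' * g ^ l := by
      rw [← Subgroup.coe_zpow, hi']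
      exact (inv_mul_cancel_right r (g ^ l)).symm
    obtain ⟨i, hi⟩ := hpow b i'
    obtain ⟨j, hj⟩ := hpow g l
    refine ⟨(i, j), ?_⟩
    show π (b : R) ^ (i : ℕ) * π g ^ (j : ℕ) = π r
    rw [hr, map_mul, map_zpow, map_zpow, hi, hj]
  have h := Nat.card_le_card_of_surjective _ hsurj
  rw [Nat.card_prod, Nat.card_fin] at h
  rw [sq]
  exact h

omit hp N in
/-- A group of order `p³` has class at most two. -/
theorem commutator_le_center_of_card (hcard : Nat.card R = p ^ 3) :
    commutator R ≤ Subgroup.center R := by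
  have hp' := (Fact.out : p.Prime)
  haveI : Nontrivial R := (Finite.one_lt_card_iff_nontrivial).1
    (by rw [hcard]; exact Nat.one_lt_pow (by norm_num) hp'.one_lt)
  haveI := hR.center_nontrivial
  obtain ⟨k, hk⟩ := (hR.to_subgroup (Subgroup.center R)).exists_card_eq
  have h1 := Subgroup.card_eq_card_quotient_mul_card_subgroup (Subgroup.center R)
  obtain ⟨j, hj⟩ := (hR.to_quotient (Subgroup.center R)).exists_card_eq
  rw [hcard, hk, hj, ← pow_add] at h1
  have h2 := Nat.pow_right_injective hp'.two_le h1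
  have hk0 : k ≠ 0 := by
    rintro rfl
    rw [pow_zero] at hk
    have h3 : 1 < Nat.card (Subgroup.center R) := Finite.one_lt_card
    omega
  have hj2 : j ≤ 2 := by omega
  have hab : ∀ a b : R ⧸ Subgroup.center R, a * b = b * a := by
    interval_cases j
    · haveI : Subsingleton (R ⧸ Subgroup.center R) :=
        (Nat.card_eq_one_iff_unique.1 (by rw [hj, pow_zero])).1
      exact fun a b => Subsingleton.elim _ _
    · haveI : IsCyclic (R ⧸ Subgroup.center R) := isCyclic_of_prime_card (p := p) (by rw [hj, pow_one])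
      exact fun a b => (IsCyclic.isMulCommutative (α := R ⧸ Subgroup.center R)).is_comm.comm a b
    · exact IsPGroup.commutative_of_card_eq_prime_sq hj
  rw [commutator_def, Subgroup.commutator_le]
  intro a _ b _
  rw [← QuotientGroup.eq_one_iff, ← QuotientGroup.mk'_apply, map_commutatorElement,
    commutatorElement_eq_one_iff_mul_comm]
  exact hab _ _

end CfsgLib.MetacyclicOmega
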