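import Cfsg.Agent.Lib.PGroup.MaxClassSeries
import Cfsg.Agent.Lib.PGroup.MetacyclicOmega
import Cfsg.Agent.Lib.Invol.Taussky
import Mathlib.GroupTheory.SpecificGroups.KleinFour

/-!
# Recognizing `p`-groups of maximal class
-/

set_option autoImplicit false
set_option linter.style.haveILetI false
set_option linter.unusedSectionVars false

open Subgroup
open scoped commutatorElement

namespace CfsgLib.PGroup

universe u

variable {p : ℕ} [hpf : Fact p.Prime]

theorem maximalClass_of_selfCentralizing : ∀ (n : ℕ) (X : Type u) [Group X] [Finite X],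
    Nat.card X = p ^ n → ∀ A : Subgroup X, Nat.card A = p ^ 2 → centralizer (A : Set X) = A →
    Group.nilpotencyClass X = n - 1 := by
  intro n
  induction n with
  | zero =>
    intro X _ _ hX A hA _
    have h := A.card_subgroup_dvd_card
    rw [hX, hA] at h
    exact absurd ((Nat.pow_dvd_pow_iff_le_right hpf.out.one_lt).1 h) (by omega)
  | succ n ih =>
    intro X _ _ hX A hA hC
    have hp := hpf.out
    have hP : IsPGroup p X := IsPGroup.of_card hX
    haveI := hP.isNilpotent
    have h2 : 2 ≤ n + 1 := by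
      have h := A.card_subgroup_dvd_card
      rw [hX, hA] at h
      exact (Nat.pow_dvd_pow_iff_le_right hp.one_lt).1 h
    haveI : Nontrivial X := Finite.one_lt_card_iff_nontrivial.1
      (hX ▸ Nat.one_lt_pow (Nat.succ_ne_zero n) hp.one_lt)
    have hcA : ∀ a ∈ A, ∀ b ∈ A, Commute a b := fun a ha b hb =>
      mem_centralizer_iff.1 (hC.ge hb) a ha
    by_cases hn : n = 1
    · subst hn
      have hAtop : A = ⊤ := eq_top_of_card_eq _ (hA.trans hX.symm)
      have hZ : center X = ⊤ := eq_top_iff.2 fun x _ => mem_center_iff.2 fun y =>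
        (hcA y (hAtop ▸ mem_top y) x (hAtop ▸ mem_top x)).eq
      rw [Group.nilpotencyClass_eq_quotient_center_plus_one]
      haveI : Subsingleton (X ⧸ center X) := (Nat.card_eq_one_iff_unique.1 (by
        rw [← index_eq_card, hZ, index_top])).1
      rw [Group.nilpotencyClass_zero_iff_subsingleton.2 inferInstance]
    have hn2 : 2 ≤ n := by omega
    set Z := center X with hZdef
    have hZA : Z ≤ A := fun z hz => hC.le (mem_centralizer_iff.2 fun a _ => mem_center_iff.1 hz a)
    have hZne : Z ≠ A := by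
      intro e
      have htop : A = ⊤ := by
        rw [← hC]
        refine eq_top_iff.2 fun x _ => mem_centralizer_iff.2 fun a ha => ?_
        exact ((mem_center_iff.1 (e.ge ha : a ∈ Z)) x).symm
      have h1 : Nat.card A = Nat.card X := by rw [htop, card_top]
      rw [hA, hX] at h1
      have := Nat.pow_right_injective hp.two_le h1
      omega
    have hZc : Nat.card Z = p := by
      haveI := hP.center_nontrivial
      obtain ⟨k, hk, hk'⟩ := (Nat.dvd_prime_pow hp).1 (hA ▸ card_dvd_of_le hZA)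
      interval_cases k
      · exact absurd hk' (by rw [pow_zero]; exact (Finite.one_lt_card (α := Z)).ne')
      · simpa using hk'
      · exact absurd (eq_of_le_of_card_ge hZA (hA.trans hk'.symm).le) hZne
    set π := QuotientGroup.mk' Z with hπ
    have hπs : Function.Surjective π := QuotientGroup.mk'_surjective Z
    set Ab := A.map π with hAb
    have hAbc : Nat.card Ab = p := by
      have h1 := relIndex_map_map π (⊥ : Subgroup X) A
      rw [Subgroup.map_bot, relIndex_bot_left, bot_sup_eq, QuotientGroup.ker_mk', sup_eq_left.2 hZA] at h1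
      have h2 := relIndex_mul_relIndex ⊥ Z A bot_le hZA
      rw [relIndex_bot_left, relIndex_bot_left, hZc, hA, sq] at h2
      rw [hAb, h1]
      exact Nat.eq_of_mul_eq_mul_left hp.pos h2
    have hXq : Nat.card (X ⧸ Z) = p ^ n := by
      have h1 := Z.card_mul_index
      rw [hZc, hX, pow_succ'] at h1
      rw [← index_eq_card]
      exact Nat.eq_of_mul_eq_mul_left hp.pos h1
    set D := centralizer (Ab : Set (X ⧸ Z)) with hD
    have hAD : Ab ≤ D := by
      rintro _ ⟨a, ha, rfl⟩
      refine mem_centralizer_iff.2 ?_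
      rintro _ ⟨b, hb, rfl⟩
      rw [← map_mul, ← map_mul, (hcA b hb a ha).eq]
    obtain ⟨a₀, ha₀, ha₀Z⟩ := SetLike.exists_of_lt (lt_of_le_of_ne hZA hZne)
    have hAgen : ∀ a ∈ A, ∃ i : ℤ, ∃ z ∈ Z, a = a₀ ^ i * z := fun a ha => by
      obtain ⟨i, hi⟩ := mem_zpowers_iff.1 (mem_zpowers_of_prime_card hAbc
        (g := (⟨π a₀, mem_map_of_mem π ha₀⟩ : Ab))
        (fun h => ha₀Z ((QuotientGroup.eq_one_iff _).1 (congrArg Subtype.val h)))
        (g' := (⟨π a, mem_map_of_mem π ha⟩ : Ab)))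
      refine ⟨i, (a₀ ^ i)⁻¹ * a, ?_, (mul_inv_cancel_left _ _).symm⟩
      rw [← QuotientGroup.eq_one_iff]
      show π ((a₀ ^ i)⁻¹ * a) = 1
      rw [map_mul, map_inv, map_zpow, show π a₀ ^ i = π a from congrArg Subtype.val hi, inv_mul_cancel]
    set M := D.comap π with hM
    have hrelA : A.relIndex M ≤ p := by
      rw [← hZc, relIndex, index_eq_card]
      have hmem : ∀ m : M, ⁅(m : X), a₀⁆ ∈ Z := fun m => by
        rw [← QuotientGroup.eq_one_iff]
        show π ⁅(m : X), a₀⁆ = 1
        rw [map_commutatorElement, commutatorElement_eq_one_iff_mul_comm]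
        exact (mem_centralizer_iff.1 m.2 _ (mem_map_of_mem π ha₀)).symm
      refine Nat.card_le_card_of_injective (fun q => (⟨⁅((q.out : M) : X), a₀⁆, hmem _⟩ : Z))
        fun q r hqr => ?_
      rw [← QuotientGroup.out_eq' q, ← QuotientGroup.out_eq' r, QuotientGroup.eq, mem_subgroupOf]
      set g : X := ((q.out : M) : X)
      set h : X := ((r.out : M) : X)
      have h1 : g * a₀ * g⁻¹ = h * a₀ * h⁻¹ := by
        have h' : g * a₀ * g⁻¹ * a₀⁻¹ = h * a₀ * h⁻¹ * a₀⁻¹ := congrArg Subtype.val hqr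
        exact mul_right_cancel h'
      have h3 : Commute (g⁻¹ * h) a₀ := by
        show g⁻¹ * h * a₀ = a₀ * (g⁻¹ * h)
        calc g⁻¹ * h * a₀ = g⁻¹ * (h * a₀ * h⁻¹) * h := by group
          _ = a₀ * (g⁻¹ * h) := by rw [← h1]; group
      show g⁻¹ * h ∈ A
      refine hC.le (mem_centralizer_iff.2 fun a ha => ?_)
      obtain ⟨i, z, hz, rfl⟩ := hAgen a ha
      exact ((h3.zpow_right i).mul_right (mem_center_iff.1 hz (g⁻¹ * h))).eq.symm
    have hDc : Nat.card D ≤ p ^ 2 := by
      have hAM : A ≤ M := fun a ha => hAD (mem_map_of_mem π ha)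
      have h1 := relIndex_mul_relIndex ⊥ A M bot_le hAM
      have h2 := relIndex_mul_relIndex ⊥ Z M bot_le (hZA.trans hAM)
      rw [relIndex_bot_left, relIndex_bot_left] at h1 h2
      have h3 : Z.relIndex M = Nat.card D := by
        have h4 := relIndex_comap (⊥ : Subgroup (X ⧸ Z)) π M
        rw [MonoidHom.comap_bot, QuotientGroup.ker_mk', relIndex_bot_left, hM,
          map_comap_eq_self_of_surjective hπs] at h4
        exact h4
      rw [hZc, h3] at h2
      refine Nat.le_of_mul_le_mul_left ?_ hp.pos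
      rw [h2, ← h1, hA]
      calc p ^ 2 * A.relIndex M ≤ p ^ 2 * p := Nat.mul_le_mul_left _ hrelA
        _ = p * p ^ 2 := by ring
    have hDc2 : Nat.card D = p ^ 2 := by
      refine le_antisymm hDc ?_
      obtain ⟨k, hk⟩ := ((hP.to_quotient Z).to_subgroup D).exists_card_eq
      have hk2 : 2 ≤ k := by
        by_contra hlt
        have hDA : D = Ab := (eq_of_le_of_card_ge hAD (by
          rw [hk, hAbc]
          exact (Nat.pow_le_pow_right hp.pos (show k ≤ 1 by omega)).trans (pow_one p).le)).symm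
        haveI := (hP.to_quotient Z).isNilpotent
        have hlt' : Ab < ⊤ := lt_top_iff_ne_top.2 fun e => by
          have : Nat.card Ab = Nat.card (X ⧸ Z) := by rw [e, card_top]
          rw [hAbc, hXq] at this
          have h5 : p ^ 1 = p ^ n := by rwa [pow_one]
          have := Nat.pow_right_injective hp.two_le h5
          omega
        have hN := Group.normalizerCondition_of_isNilpotent (G := X ⧸ Z) Ab hlt'
        obtain ⟨g, hg, hgA⟩ := SetLike.exists_of_lt hN
        set N := normalizer (Ab : Set (X ⧸ Z))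
        haveI : (Ab.subgroupOf N).Normal := normal_subgroupOf_of_le_normalizer le_rfl
        have hc := CfsgLib.MetacyclicOmega.le_center_of_card_le ((hP.to_quotient Z).to_subgroup N)
          (Ab.subgroupOf N) (by rw [Nat.card_congr (subgroupOfEquivOfLe le_normalizer).toEquiv, hAbc])
        refine hgA (hDA ▸ mem_centralizer_iff.2 fun b hb => ?_)
        exact (congrArg Subtype.val (mem_center_iff.1 (hc (x := ⟨b, le_normalizer hb⟩) hb) ⟨g, hg⟩)).symm
      rw [hk]
      exact Nat.pow_le_pow_right hp.pos hk2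
    haveI : IsMulCommutative D := IsPGroup.isMulCommutative_of_card_eq_prime_sq hDc2
    have hDD : centralizer (D : Set (X ⧸ Z)) = D := le_antisymm (centralizer_le hAD)
      fun x hx => mem_centralizer_iff.2 fun y hy =>
        congrArg Subtype.val (isMulCommutative_iff.1 ‹IsMulCommutative D› ⟨y, hy⟩ ⟨x, hx⟩)
    have h := ih (X ⧸ Z) hXq D hDc2 hDD
    rw [Group.nilpotencyClass_eq_quotient_center_plus_one, h]
    omega

section Two

variable {X : Type u} [Group X] [Finite X] {n : ℕ}

theorem index_commutator_of_maximal_two (hn : 3 ≤ n) (hX : Nat.card X = 2 ^ n)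
    (hc : Group.nilpotencyClass X = n - 1) : (commutator X).index = 4 := by
  haveI : Fact (Nat.Prime 2) := ⟨Nat.prime_two⟩
  have h := index_lowerCentralSeries_of_maximal (IsPGroup.of_card hX) hX hn hc 1 le_rfl (by omega)
  rwa [Subgroup.top_lowerCentralSeries_one] at h

theorem not_comm_of_index_four (hn : 3 ≤ n) (hX : Nat.card X = 2 ^ n) (h4 : (commutator X).index = 4) :
    ¬ IsMulCommutative X ∧ Nat.card X ≤ 4 * Nat.card (commutator X) := by
  refine ⟨fun h => ?_, by rw [← (commutator X).card_mul_index, h4, mul_comm]⟩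
  have hbot : commutator X = ⊥ := by
    rw [_root_.commutator_def, commutator_eq_bot_iff_le_centralizer]
    exact fun g _ => mem_centralizer_iff.2 fun y _ => isMulCommutative_iff.1 h y g
  rw [hbot, index_bot, hX] at h4
  have : 2 ^ 3 ≤ 2 ^ n := Nat.pow_le_pow_right two_pos hn
  omega

theorem exists_frame_two (hn : 3 ≤ n) (hX : Nat.card X = 2 ^ n) (h4 : (commutator X).index = 4) :
    ∃ (r e : ℤ) (a b : X), CfsgLib.Invol.IsStdType (n - 1) r e ∧
      CfsgLib.Invol.CyclicFrame (2 ^ (n - 1)) r e a b := by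
  obtain ⟨hna, hab⟩ := not_comm_of_index_four hn hX h4
  obtain ⟨k, r, e, a, b, ht, F⟩ := CfsgLib.Invol.exists_std_frame (IsPGroup.of_card hX) hna hab
  have h := F.card
  rw [hX, ← pow_succ'] at h
  obtain rfl : k = n - 1 := by
    have := Nat.pow_right_injective (le_refl 2) h
    omega
  exact ⟨r, e, a, b, ht, F⟩

theorem odd_half_sub {k : ℕ} {r e : ℤ} (ht : CfsgLib.Invol.IsStdType k r e) :
    ∃ q : ℤ, r - 1 = 2 * q ∧ IsCoprime q 2 := by
  obtain ⟨hk, ⟨rfl, -⟩ | ⟨hk3, rfl, -⟩⟩ := ht
  · exact ⟨-1, by norm_num, ⟨-1, 0, by norm_num⟩⟩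
  · obtain ⟨j, rfl⟩ : ∃ j, k = j + 3 := ⟨k - 3, by omega⟩
    refine ⟨2 ^ (j + 1) - 1, by rw [show j + 3 - 1 = (j + 1) + 1 by omega]; ring, ⟨-1, 2 ^ j, by ring⟩⟩

theorem maximal_class_of_index_four (hn : 3 ≤ n) (hX : Nat.card X = 2 ^ n)
    (h4 : (commutator X).index = 4) : Group.nilpotencyClass X = n - 1 := by
  haveI : Fact (Nat.Prime 2) := ⟨Nat.prime_two⟩
  have hP : IsPGroup 2 X := IsPGroup.of_card hX
  haveI := hP.isNilpotent
  have hle : Group.nilpotencyClass X ≤ n - 1 := by
    refine Subgroup.lowerCentralSeries_eq_bot_iff_nilpotencyClass_le.1 ?_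
    have h := pow_le_index_lowerCentralSeries hP hX (by omega) (n - 1) (by omega)
    rw [show min (n - 1 + 1) n = n by omega, ← hX,
      ← ((⊤ : Subgroup X).lowerCentralSeries (n - 1)).card_mul_index] at h
    rw [← card_eq_one]
    refine le_antisymm (Nat.le_of_mul_le_mul_right ?_
      (Nat.pos_of_ne_zero (index_ne_zero_of_finite (H := (⊤ : Subgroup X).lowerCentralSeries (n - 1))))) Nat.card_pos
    rw [one_mul]
    exact h
  obtain ⟨r, e, a, b, ht, F⟩ := exists_frame_two hn hX h4
  obtain ⟨q, hq, hq2⟩ := odd_half_sub ht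
  have hstep : ∀ i : ℕ, a ^ ((2 : ℤ) ^ i) ∈ (⊤ : Subgroup X).lowerCentralSeries i := by
    intro i
    induction i with
    | zero => rw [Subgroup.lowerCentralSeries_zero]; exact mem_top _
    | succ i ih =>
      have h2 : ⁅a ^ ((2 : ℤ) ^ i), b⁆ ∈ (⊤ : Subgroup X).lowerCentralSeries (i + 1) := by
        rw [Subgroup.lowerCentralSeries_succ]; exact commutator_mem_commutator ih (mem_top b)
      have e2 : ⁅a ^ ((2 : ℤ) ^ i), b⁆ = a ^ ((2 : ℤ) ^ (i + 1) * -q) := by
        rw [commutatorElement_def, mul_assoc (a ^ ((2 : ℤ) ^ i)) b, mul_assoc, ← zpow_neg,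
          F.b_mul_zpow, mul_inv_cancel_right, ← zpow_add]
        congr 1
        linear_combination -(2 : ℤ) ^ i * hq
      obtain ⟨c, d, hcd⟩ : IsCoprime (-q) ((2 : ℤ) ^ (n - 1)) := hq2.neg_left.pow_right
      have h3 : a ^ ((2 : ℤ) ^ (i + 1)) = ⁅a ^ ((2 : ℤ) ^ i), b⁆ ^ c := by
        rw [e2, ← zpow_mul, F.zpow_eq_iff, ← sub_eq_zero, ← Int.cast_sub, ZMod.intCast_zmod_eq_zero_iff_dvd]
        push_cast
        exact ⟨(2 : ℤ) ^ (i + 1) * d, by linear_combination -(2 : ℤ) ^ (i + 1) * hcd⟩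
      rw [h3]
      exact zpow_mem h2 c
  by_contra hne
  have hlt : Group.nilpotencyClass X ≤ n - 2 := by omega
  have h := hstep (n - 2)
  rw [Subgroup.lowerCentralSeries_eq_bot_iff_nilpotencyClass_le.2 hlt, mem_bot, F.zpow_eq_one_iff] at h
  push_cast at h
  have h5 := Int.le_of_dvd (by positivity) h
  have h6 : (2 : ℤ) ^ (n - 2) < 2 ^ (n - 1) := pow_lt_pow_right₀ one_lt_two (by omega)
  omega

theorem central_quotient_dihedral (hn : 3 ≤ n) (hX : Nat.card X = 2 ^ n)
    (h4 : (commutator X).index = 4) :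
    Nonempty (X ⧸ center X ≃* DihedralGroup (2 ^ (n - 2))) := by
  obtain ⟨r, e, a, b, ht, F⟩ := exists_frame_two hn hX h4
  obtain ⟨q, hq, hq2⟩ := odd_half_sub ht
  obtain ⟨m, rfl⟩ := Nat.exists_eq_add_of_le hn
  rw [show 3 + m - 1 = m + 2 by omega] at F ht
  rw [show 3 + m - 2 = m + 1 by omega]
  have hh : (2 : ℤ) * 2 ^ (m + 1) = 2 ^ (m + 2) := (pow_succ' 2 _).symm
  have hz : ∀ i : ℤ, a ^ i ∈ center X ↔ (2 : ℤ) ^ (m + 1) ∣ i := by
    intro i
    have hb : Commute b (a ^ i) ↔ (2 : ℤ) ^ (m + 2) ∣ (r - 1) * i := by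
      show b * a ^ i = a ^ i * b ↔ _
      rw [F.b_mul_zpow, F.mul_b_eq_iff, ← sub_eq_zero, ← Int.cast_sub, ZMod.intCast_zmod_eq_zero_iff_dvd]
      push_cast
      rw [sub_mul, one_mul]
    have hdiv : (2 : ℤ) ^ (m + 2) ∣ (r - 1) * i ↔ (2 : ℤ) ^ (m + 1) ∣ i := by
      rw [hq, ← hh, mul_assoc, mul_dvd_mul_iff_left two_ne_zero]
      exact ⟨fun h => (hq2.pow_right (n := m + 1)).symm.dvd_of_dvd_mul_left h, fun h => h.mul_left q⟩
    refine ⟨fun h => hdiv.1 (hb.1 (mem_center_iff.1 h b)), fun h => mem_center_iff.2 fun x => ?_⟩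
    have hb' := hb.2 (hdiv.2 h)
    obtain ⟨j, rfl | rfl⟩ := F.exists_eq x
    · exact (Commute.zpow_zpow_self a j i).eq
    · exact ((Commute.zpow_zpow_self a j i).mul_left hb').eq
  set π := QuotientGroup.mk' (center X) with hπ
  have hone : ∀ i : ℤ, π a ^ i = 1 ↔ (2 : ℤ) ^ (m + 1) ∣ i := fun i => by
    rw [← map_zpow, ← hz i]
    exact QuotientGroup.eq_one_iff _
  have hord : orderOf (π a) = 2 ^ (m + 1) := by
    refine Nat.dvd_antisymm (orderOf_dvd_of_pow_eq_one ?_) ?_
    · rw [← zpow_natCast, hone]; push_cast; exact dvd_rfl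
    · have h := (hone (orderOf (π a) : ℤ)).1 (by rw [zpow_natCast, pow_orderOf_eq_one])
      exact_mod_cast h
  have hnotmem : π b ∉ zpowers (π a) := by
    intro h
    obtain ⟨i, hi⟩ := mem_zpowers_iff.1 h
    rw [← map_zpow] at hi
    have hw : (a ^ i)⁻¹ * b ∈ center X := (QuotientGroup.eq).1 hi
    have h2 := mem_center_iff.1 hw a
    rw [← zpow_neg, ← mul_assoc, ← zpow_one_add, mul_assoc, show b * a = b * a ^ (1 : ℤ) by rw [zpow_one],
      F.b_mul_zpow, ← mul_assoc, ← zpow_add, mul_one, F.mul_b_eq_iff, ← sub_eq_zero, ← Int.cast_sub,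
      ZMod.intCast_zmod_eq_zero_iff_dvd] at h2
    push_cast at h2
    rw [show 1 + -i - (-i + r) = -(r - 1) by ring, dvd_neg, hq, ← hh,
      mul_dvd_mul_iff_left two_ne_zero] at h2
    obtain ⟨c, d, hcd⟩ := hq2
    have h7 : (2 : ℤ) ∣ q := (dvd_pow_self 2 (by omega)).trans h2
    obtain ⟨w, hw⟩ := h7
    have : (2 : ℤ) * (c * w + d) = 1 := by rw [hw] at hcd; linear_combination hcd
    omega
  have F' : CfsgLib.Invol.CyclicFrame (2 ^ (m + 1)) (-1) 0 (π a) (π b) := by
    refine ⟨hord, ?_, hnotmem, ?_, ?_, by positivity⟩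
    · have hc : center X = zpowers (a ^ ((2 : ℤ) ^ (m + 1))) := by
        refine le_antisymm (fun x hx => ?_) (zpowers_le.2 ((hz _).2 dvd_rfl))
        obtain ⟨i, rfl | rfl⟩ := F.exists_eq x
        · obtain ⟨j, rfl⟩ := (hz i).1 hx
          exact ⟨j, (zpow_mul a _ _).symm⟩
        · refine absurd ?_ hnotmem
          have h1 : π (a ^ i * b) = 1 := (QuotientGroup.eq_one_iff _).2 hx
          rw [map_mul, map_zpow] at h1
          rw [eq_inv_of_mul_eq_one_right h1]
          exact inv_mem (zpow_mem (mem_zpowers _) i)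
      have h1 : Nat.card (center X) = 2 := by
        rw [hc, Nat.card_zpowers, orderOf_eq_prime_iff]
        refine ⟨?_, fun h => ?_⟩
        · rw [← zpow_natCast, ← zpow_mul, F.zpow_eq_one_iff]; push_cast; rw [mul_comm, hh]
        · rw [F.zpow_eq_one_iff] at h; push_cast at h
          have := Int.le_of_dvd (by positivity) h
          have h6 : (2 : ℤ) ^ (m + 1) < 2 ^ (m + 2) := pow_lt_pow_right₀ one_lt_two (by omega)
          omega
      have h2 := (center X).card_mul_index
      rw [h1, index_eq_card, F.card] at h2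
      rw [Nat.eq_of_mul_eq_mul_left two_pos h2, ← pow_succ']
    · show π b * π a * (π b)⁻¹ = π a ^ (-1 : ℤ)
      rw [← map_inv, ← map_mul, ← map_mul, F.conj, map_zpow]
      rw [← mul_inv_eq_one, ← zpow_neg, ← zpow_add, hone]
      obtain ⟨hk, ⟨rfl, -⟩ | ⟨-, rfl, -⟩⟩ := ht
      · norm_num
      · exact ⟨1, by rw [show m + 2 - 1 = m + 1 by omega]; ring⟩
    · rw [← map_mul, F.sq, map_zpow, zpow_zero, hone]
      obtain ⟨hk, ⟨-, rfl | rfl⟩ | ⟨-, -, rfl⟩⟩ := ht
      · exact dvd_zero _
      · rw [show m + 2 - 1 = m + 1 by omega]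
      · exact dvd_zero _
  exact F'.dihedralEquiv

end Two

end CfsgLib.PGroup
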