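import Cfsg.Agent.Lib.Coprime.Core
import Cfsg.Prelude.Def_Local
import Mathlib.GroupTheory.SchurZassenhaus

/-!
`p`-solvable groups and the first terms of the upper `p`-series.
-/

set_option linter.style.haveILetI false

namespace CfsgLib.PGroup

open Subgroup

variable {G : Type*} [Group G]

theorem isPSolvable_quotient {p : ℕ} (hp : p.Prime) (h : Cfsg.IsPSolvable p G) (N : Subgroup G) [N.Normal] :
    Cfsg.IsPSolvable p (G ⧸ N) := by
  obtain ⟨n, H, h0, hl, hm, hn, hf⟩ := h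
  refine ⟨n, fun i => (H i).map (QuotientGroup.mk' N), by simp [h0],
    ?_, fun i j hij => map_mono (hm hij), fun i => (hn i).map _ (QuotientGroup.mk'_surjective N), fun i => ?_⟩
  · show (H (Fin.last n)).map _ = ⊤
    rw [hl, map_top_of_surjective _ (QuotientGroup.mk'_surjective N)]
  haveI := hn i.castSucc
  haveI := hn i.succ
  have hle : H i.castSucc ≤ H i.succ := hm (Fin.castSucc_le_succ i)
  have hd : ((H i.castSucc).map (QuotientGroup.mk' N)).relIndex ((H i.succ).map (QuotientGroup.mk' N)) ∣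
      (H i.castSucc).relIndex (H i.succ) := by
    have hsup : H i.succ ⊔ N = H i.succ ⊔ (H i.castSucc ⊔ N) := by rw [← sup_assoc, sup_eq_left.2 hle]
    rw [relIndex_map_map, QuotientGroup.ker_mk', hsup, relIndex_sup_right]
    exact relIndex_dvd_of_le_left _ le_sup_left
  rcases hf i with ⟨m, hm'⟩ | hco
  · rw [hm'] at hd
    obtain ⟨k, -, hk⟩ := (Nat.dvd_prime_pow hp).1 hd
    exact Or.inl ⟨k, hk⟩
  · exact Or.inr (hco.coprime_dvd_left hd)

/-- A nontrivial `p`-solvable group has a nontrivial `O_p` or `O_{p'}`. -/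
theorem pCore_ne_bot_or_pPrimeCore_ne_bot [Finite G] [Nontrivial G] {p : ℕ}
    (h : Cfsg.IsPSolvable p G) : Cfsg.pCore p G ≠ ⊥ ∨ Cfsg.pPrimeCore p G ≠ ⊥ := by
  classical
  obtain ⟨n, H, h0, hl, hm, hn, hf⟩ := h
  obtain ⟨i, hi, hi'⟩ : ∃ i : Fin n, H i.castSucc = ⊥ ∧ H i.succ ≠ ⊥ := by
    by_contra hcon
    push Not at hcon
    have : ∀ i : Fin (n + 1), H i = ⊥ := fun i => Fin.induction h0 (fun i hi => hcon i hi) i
    exact top_ne_bot (hl.symm.trans (this _))
  haveI := hn i.succ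
  rcases hf i with ⟨m, hm'⟩ | hco
  · rw [hi, relIndex_bot_left] at hm'
    exact Or.inl fun hb => hi' (le_bot_iff.1 (hb ▸ CfsgLib.Coprime.le_pCore (IsPGroup.of_card hm')))
  · rw [hi, relIndex_bot_left] at hco
    exact Or.inr fun hb => hi' (le_bot_iff.1 (hb ▸ CfsgLib.Coprime.le_pPrimeCore hco))

theorem pPrimeCore_comap_quotientBot (p : ℕ) :
    (Cfsg.pPrimeCore p (G ⧸ (⊥ : Subgroup G))).comap (QuotientGroup.mk' ⊥) = Cfsg.pPrimeCore p G := by
  conv_rhs => rw [← CfsgLib.Coprime.map_pPrimeCore_equiv (QuotientGroup.quotientBot (G := G)) p]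
  rw [map_equiv_eq_comap_symm']
  rfl

/-- The unfolded description of `p`-length at most one. -/
theorem pLengthLE_one_of_not_dvd [Finite G] {p : ℕ} [hp : Fact p.Prime]
    (h : ¬ p ∣ (Cfsg.pCore p (G ⧸ Cfsg.pPrimeCore p G)).index) : Cfsg.PLengthLE p 1 G := by
  have key1 : (Cfsg.upperPSeries p G 1).1 = Cfsg.pPrimeCore p G := by
    rw [Cfsg.upperPSeries, if_pos Even.zero]
    exact pPrimeCore_comap_quotientBot p
  haveI : ∀ U : {H : Subgroup G // H.Normal}, U.1.Normal := fun U => U.2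
  have key2 : ∀ U : {H : Subgroup G // H.Normal}, U.1 = Cfsg.pPrimeCore p G →
      ¬ p ∣ ((Cfsg.pCore p (G ⧸ U.1)).comap (QuotientGroup.mk' U.1)).index := by
    rintro ⟨U, hU⟩ (rfl : U = _)
    rw [index_comap_of_surjective _ (QuotientGroup.mk'_surjective _)]
    exact h
  have key3 : ¬ p ∣ (Cfsg.upperPSeries p G 2).1.index := by
    rw [Cfsg.upperPSeries, if_neg (by decide)]
    exact key2 _ key1
  show (Cfsg.upperPSeries p G 3).1 = ⊤
  rw [Cfsg.upperPSeries, if_pos (by decide)]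
  set U := (Cfsg.upperPSeries p G 2).1 with hU
  show (Cfsg.pPrimeCore p (G ⧸ U)).comap (QuotientGroup.mk' U) = ⊤
  have : (⊤ : Subgroup (G ⧸ U)) ≤ Cfsg.pPrimeCore p (G ⧸ U) :=
    CfsgLib.Coprime.le_pPrimeCore_of_not_dvd hp.1 (by rw [Nat.card_congr topEquiv.toEquiv, ← index_eq_card]; exact key3)
  rw [eq_top_iff.2 this, comap_top]

end CfsgLib.PGroup
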