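import Mathlib.GroupTheory.Frattini
import Mathlib.GroupTheory.Abelianization.Defs
import Mathlib.GroupTheory.OrderOfElement
import Mathlib.RingTheory.Coprime.Basic
import Mathlib.RingTheory.Int.Basic

/-!
# A criterion for containing the Frattini subgroup
-/

set_option autoImplicit false

namespace CfsgLib.FrattiniLe

open Subgroup
open scoped commutatorElement

/-- A subgroup with all `p`-th powers and commutators contains the Frattini subgroup. -/
theorem frattini_le_of_pow_of_commutator {P : Type*} [Group P] [Finite P] {p : ℕ} [Fact p.Prime]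
    {F : Subgroup P} (hpow : ∀ x : P, x ^ p ∈ F) (hcomm : commutator P ≤ F) : frattini P ≤ F := by
  intro x hx
  by_contra hxF
  obtain ⟨M, ⟨hFM, hxM⟩, hmax⟩ :=
    (Set.toFinite {M : Subgroup P | F ≤ M ∧ x ∉ M}).exists_maximal ⟨F, le_rfl, hxF⟩
  have hn : M.Normal := ⟨fun m hm g => by
    rw [show g * m * g⁻¹ = ⁅g, m⁆ * m by simp [commutatorElement_def]]
    exact mul_mem (hFM (hcomm (commutator_mem_commutator (mem_top g) (mem_top m)))) hm⟩
  have hM : IsCoatom M := by
    refine ⟨fun e => hxM (e ▸ mem_top x), fun M' hlt => eq_top_iff.2 fun y _ => ?_⟩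
    have hxM' : x ∈ M' := by
      by_contra h
      exact hlt.not_ge (hmax ⟨hFM.trans hlt.le, h⟩ hlt.le)
    by_cases hy : y ∈ M
    · exact hlt.le hy
    have hxy : x ∈ M ⊔ zpowers y := by
      by_contra h
      exact hy (hmax ⟨hFM.trans le_sup_left, h⟩ le_sup_left (mem_sup_right (mem_zpowers y)))
    obtain ⟨m, hm, _, ⟨i, rfl⟩, hmx⟩ := mem_sup_of_normal_left.1 hxy
    have hyi : y ^ i ∈ M' := by
      have := mul_mem (inv_mem (hlt.le hm)) hxM'
      rwa [← hmx, inv_mul_cancel_left] at this
    have hyp : y ^ (p : ℤ) ∈ M' := by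
      rw [zpow_natCast]; exact hlt.le (hFM (hpow y))
    have hcop : IsCoprime (p : ℤ) i := by
      refine (Nat.prime_iff_prime_int.1 (Fact.out : p.Prime)).coprime_iff_not_dvd.2 fun hd => hxM ?_
      obtain ⟨k, rfl⟩ := hd
      rw [← hmx]
      refine mul_mem hm ?_
      show y ^ ((p : ℤ) * k) ∈ M
      rw [zpow_mul, zpow_natCast]
      exact zpow_mem (hFM (hpow y)) k
    obtain ⟨a, b, hab⟩ := hcop
    rw [← zpow_one y, ← hab, zpow_add, mul_comm a, mul_comm b, zpow_mul, zpow_mul]
    exact mul_mem (zpow_mem hyp a) (zpow_mem hyi b)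
  exact hxM (frattini_le_coatom hM hx)

end CfsgLib.FrattiniLe
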