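import Cfsg.Agent.Lib.PGroup.Basic
import Cfsg.Agent.Lib.Coprime.Action
import Mathlib.Data.Nat.Choose.Dvd

/-!
Finite `p`-groups, `p` odd, all of whose elements of order `p` are central.
-/

set_option linter.style.haveILetI false

namespace CfsgLib.PGroup

open Subgroup

variable {G : Type*} [Group G]

/-- Power of a product when the commutator commutes with both factors. -/
theorem mul_pow_of_commute_commutator {a b c : G} (hc : b * a = c * (a * b)) (hca : Commute c a)
    (hcb : Commute c b) (n : ℕ) : (a * b) ^ n = a ^ n * b ^ n * c ^ (n.choose 2) := by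
  have hbn : ∀ n : ℕ, b ^ n * a = c ^ n * (a * b ^ n) := by
    intro n
    induction n with
    | zero => simp
    | succ n ih =>
      calc b ^ (n + 1) * a = b * (b ^ n * a) := by rw [pow_succ', mul_assoc]
        _ = c ^ n * (b * a) * b ^ n := by
            rw [ih, ← mul_assoc, ← (hcb.pow_left n).eq]; group
        _ = c ^ (n + 1) * (a * b ^ (n + 1)) := by
            rw [hc, pow_succ c, pow_succ' b]; group
  induction n with
  | zero => simp
  | succ n ih =>
    have e1 : Commute (c ^ (n.choose 2)) (a * b) := (hca.mul_right hcb).pow_left _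
    have e2 : Commute (c ^ n) a := hca.pow_left _
    calc (a * b) ^ (n + 1) = a ^ n * b ^ n * (a * b) * c ^ (n.choose 2) := by
          rw [pow_succ, ih, mul_assoc, e1.eq, ← mul_assoc]
      _ = a ^ n * (b ^ n * a) * b * c ^ (n.choose 2) := by group
      _ = a ^ n * (c ^ n * (a * b ^ n)) * b * c ^ (n.choose 2) := by rw [hbn]
      _ = (a ^ n * a) * (b ^ n * b) * (c ^ n * c ^ (n.choose 2)) := by
          rw [(((hca.pow_left n).mul_right ((hcb.pow_left n).pow_right n))).eq]
          simp only [mul_assoc]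
          rw [← mul_assoc (c ^ n) b, (hcb.pow_left n).eq, mul_assoc]
      _ = a ^ (n + 1) * b ^ (n + 1) * c ^ ((n + 1).choose 2) := by
          rw [Nat.choose_succ_succ' n 1, Nat.choose_one_right, pow_add c, pow_succ a, pow_succ b]

/-- In a `p`-group (`p` odd) with all elements of order `p` central, `x ^ p = y ^ p` forces
`(x⁻¹ y) ^ p = 1`. -/
theorem mul_pow_eq_one_of_pow_eq [Finite G] {p : ℕ} [hp : Fact p.Prime] (hp2 : p ≠ 2) {Q : Subgroup G}
    (hQ : IsPGroup p Q) (hΩ : ∀ x ∈ Q, x ^ p = 1 → ∀ y ∈ Q, Commute x y) :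
    ∀ x ∈ Q, ∀ y ∈ Q, x ^ p = y ^ p → (x⁻¹ * y) ^ p = 1 := by
  induction Q using WellFoundedLT.induction with
  | _ Q ih =>
    intro x hx y hy hxy
    by_cases hcx : Commute x y
    · rw [hcx.inv_left.mul_pow, inv_pow, hxy, inv_mul_cancel]
    haveI := hQ.isNilpotent
    have hne : zpowers x < Q := by
      refine lt_of_le_of_ne (zpowers_le.2 hx) fun h => hcx ?_
      obtain ⟨k, rfl⟩ := mem_zpowers_iff.1 (h ▸ hy : y ∈ zpowers x)
      exact Commute.zpow_right (Commute.refl x) k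
    -- a maximal, hence normal, proper subgroup containing `x`
    obtain ⟨M, hMQ, hMmax⟩ : ∃ M, (zpowers x ≤ M ∧ M < Q) ∧ ∀ M', zpowers x ≤ M' ∧ M' < Q → M ≤ M' → M' ≤ M := by
      obtain ⟨M, h1, h2⟩ := (Set.toFinite {M : Subgroup G | zpowers x ≤ M ∧ M < Q}).exists_maximal
        ⟨_, le_rfl, hne⟩
      exact ⟨M, h1, fun M' h3 h4 => h2 h3 h4⟩
    have hMn : Q ≤ normalizer (M : Set G) := by
      have hlt : M.subgroupOf Q < ⊤ := lt_top_iff_ne_top.2 fun h => hMQ.2.not_ge (subgroupOf_eq_top.1 h)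
      obtain ⟨z, hzN, hzM⟩ := SetLike.exists_of_lt (Group.normalizerCondition_of_isNilpotent _ hlt)
      have hzn : (z : G) ∈ normalizer (M : Set G) := by
        refine mem_normalizer_iff.2 fun w => ⟨fun hw => ?_, fun hw => ?_⟩
        · exact ((mem_normalizer_iff.1 hzN ⟨w, hMQ.2.le hw⟩).1 hw : (z * ⟨w, hMQ.2.le hw⟩ * z⁻¹ : Q) ∈ M.subgroupOf Q)
        · have hwQ : w ∈ Q := by
            have := mul_mem (mul_mem (inv_mem z.2) (hMQ.2.le hw)) z.2
            simpa [mul_assoc] using this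
          exact ((mem_normalizer_iff.1 hzN ⟨w, hwQ⟩).2 hw : (⟨w, hwQ⟩ : Q) ∈ M.subgroupOf Q)
      have hN : ¬ Q ⊓ normalizer (M : Set G) < Q := fun h => hzM
        (hMmax _ ⟨hMQ.1.trans (le_inf hMQ.2.le le_normalizer), h⟩ (le_inf hMQ.2.le le_normalizer)
          ⟨z.2, hzn⟩)
      exact (inf_le_left.lt_or_eq.resolve_left hN).ge.trans inf_le_right
    have hxM : x ∈ M := hMQ.1 (mem_zpowers x)
    have hx'M : y * x * y⁻¹ ∈ M := (mem_normalizer_iff.1 (hMn hy) x).1 hxM
    have hpow : x ^ p = (y * x * y⁻¹) ^ p := by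
      rw [conj_pow, hxy, ((Commute.refl y).pow_right p).eq, mul_inv_cancel_right]
    have hd := ih M hMQ.2 (hQ.to_le hMQ.2.le)
      (fun a ha h1 b hb => hΩ a (hMQ.2.le ha) h1 b (hMQ.2.le hb)) x hxM _ hx'M hpow
    set c := x⁻¹ * (y * x * y⁻¹) with hc
    have hcQ : c ∈ Q := hMQ.2.le (mul_mem (inv_mem hxM) hx'M)
    have hcc := hΩ c hcQ hd
    have hyxy : y * x * y⁻¹ = c * x := by rw [(hcc x hx).eq, hc, mul_inv_cancel_left]
    have hyx : y * x⁻¹ = c⁻¹ * (x⁻¹ * y) := by
      calc y * x⁻¹ = (y * x * y⁻¹)⁻¹ * y := by group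
        _ = x⁻¹ * c⁻¹ * y := by rw [hyxy]; group
        _ = c⁻¹ * (x⁻¹ * y) := by rw [← ((hcc x hx).inv_right.inv_left).eq]; group
    have hpdvd : p ∣ p.choose 2 :=
      Nat.Prime.dvd_choose_self hp.1 two_ne_zero (lt_of_le_of_ne hp.1.two_le (Ne.symm hp2))
    obtain ⟨d, hd'⟩ := hpdvd
    rw [mul_pow_of_commute_commutator hyx (hcc x hx).inv_right.inv_left (hcc y hy).inv_left, hd',
      pow_mul, inv_pow c, hd, inv_one, one_pow, mul_one, inv_pow, hxy, inv_mul_cancel]

/-- An element of order prime to `p` normalizing a `p`-group `Q` (`p` odd, elements of order `p` central)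
and fixing all its elements of order `p` centralizes `Q`. -/
theorem commute_of_fix_omega [Finite G] {p : ℕ} [hp : Fact p.Prime] (hp2 : p ≠ 2) {Q : Subgroup G}
    (hQ : IsPGroup p Q) (hΩ : ∀ x ∈ Q, x ^ p = 1 → ∀ y ∈ Q, Commute x y) {a : G}
    (ha : a ∈ normalizer (Q : Set G)) (hap : ¬ p ∣ orderOf a)
    (hfix : ∀ x ∈ Q, x ^ p = 1 → Commute a x) : ∀ x ∈ Q, Commute a x := by
  intro x hx
  induction hn : orderOf x using Nat.strong_induction_on generalizing x with
  | _ n ih =>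
    by_cases hx1 : x = 1
    · rw [hx1]; exact Commute.one_right a
    have hpd : p ∣ orderOf x := by
      obtain ⟨k, hk⟩ := IsPGroup.iff_orderOf.1 hQ ⟨x, hx⟩
      rw [Subgroup.orderOf_mk] at hk
      rcases k with _ | k
      · exact absurd (orderOf_eq_one_iff.1 (by simpa using hk)) hx1
      · exact hk ▸ dvd_pow_self p (Nat.succ_ne_zero k)
    have hlt : orderOf (x ^ p) < n := by
      rw [← hn, orderOf_pow_of_dvd hp.1.ne_zero hpd]
      exact Nat.div_lt_self (orderOf_pos x) hp.1.one_lt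
    have hfx := ih _ hlt _ (pow_mem hx p) rfl
    have hyQ : a * x * a⁻¹ ∈ Q := (mem_normalizer_iff.1 ha x).1 hx
    have hpow : (a * x * a⁻¹) ^ p = x ^ p := by rw [conj_pow, hfx.eq, mul_inv_cancel_right]
    set u := x⁻¹ * (a * x * a⁻¹) with hu
    have huQ : u ∈ Q := mul_mem (inv_mem hx) hyQ
    have hup : u ^ p = 1 := mul_pow_eq_one_of_pow_eq hp2 hQ hΩ x hx _ hyQ hpow.symm
    have hu1 : u = 1 := by
      refine CfsgLib.Coprime.eq_one_of_conj_eq_mul (a := a) (x := x) ?_ ?_ ?_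
      · rw [(hΩ u huQ hup x hx).eq, hu, mul_inv_cancel_left]
      · rw [(hfix u huQ hup).eq, mul_inv_cancel_right]
      · exact Nat.Coprime.coprime_dvd_right (orderOf_dvd_of_pow_eq_one hup)
          ((hp.1.coprime_iff_not_dvd.2 hap).symm)
    rw [hu, inv_mul_eq_one] at hu1
    exact (mul_inv_eq_iff_eq_mul.1 hu1.symm)

end CfsgLib.PGroup
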