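import Cfsg.Agent.Lib.Fusion.Thompson
import Mathlib.GroupTheory.Index
import Mathlib.GroupTheory.Commutator.Basic

/-!
# Elementary lemmas on elementary abelian subgroups and commutators
-/

set_option autoImplicit false
set_option linter.style.haveILetI false

namespace CfsgLib.EABasic

open Subgroup
open scoped commutatorElement

variable {G : Type*} [Group G] {p : ℕ}

theorem card_sup_mul_card_inf_of_le_normalizer [Finite G] {H N : Subgroup G}
    (h : H ≤ normalizer (N : Set G)) :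
    Nat.card (H ⊔ N : Subgroup G) * Nat.card (H ⊓ N : Subgroup G) = Nat.card H * Nat.card N := by
  set L := H ⊔ N with hL
  haveI : (N.subgroupOf L).Normal := (normal_subgroupOf_iff_le_normalizer le_sup_right).2
    (sup_le h le_normalizer)
  have e1 := relIndex_mul_relIndex ⊥ N L bot_le le_sup_right
  have e2 := relIndex_mul_relIndex ⊥ (H ⊓ N) H bot_le inf_le_left
  simp only [relIndex_bot_left] at e1 e2
  have e3 : N.relIndex L = N.relIndex H := by
    have := relIndex_sup_right (H.subgroupOf L) (N.subgroupOf L)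
    rw [← subgroupOf_sup le_sup_left le_sup_right, relIndex_subgroupOf (le_refl L),
      relIndex_subgroupOf (le_sup_left : H ≤ L)] at this
    exact this
  rw [← e1, ← e2, e3, inf_comm H N, inf_relIndex_right]
  ring

theorem comm_of_isElementaryAbelian {A : Subgroup G} (h : Cfsg.IsElementaryAbelian p A) {x y : G}
    (hx : x ∈ A) (hy : y ∈ A) : x * y = y * x :=
  congrArg Subtype.val (h.1.is_comm.comm (⟨x, hx⟩ : A) ⟨y, hy⟩)

/-- The join of two commuting elementary abelian subgroups is elementary abelian. -/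
theorem isElementaryAbelian_sup {A B : Subgroup G} (hA : Cfsg.IsElementaryAbelian p A)
    (hB : Cfsg.IsElementaryAbelian p B) (h : ∀ a ∈ A, ∀ b ∈ B, a * b = b * a) :
    Cfsg.IsElementaryAbelian p (A ⊔ B : Subgroup G) := by
  have hmem : ∀ z ∈ A ⊔ B, ∃ a ∈ A, ∃ b ∈ B, a * b = z := by
    intro z hz
    rw [sup_eq_closure] at hz
    refine closure_induction (fun w hw => ?_) ⟨1, one_mem _, 1, one_mem _, mul_one 1⟩ ?_ ?_ hz
    · rcases hw with hw | hw
      · exact ⟨w, hw, 1, one_mem _, mul_one w⟩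
      · exact ⟨1, one_mem _, w, hw, one_mul w⟩
    · rintro _ _ _ _ ⟨a, ha, b, hb, rfl⟩ ⟨c, hc, d, hd, rfl⟩
      exact ⟨a * c, mul_mem ha hc, b * d, mul_mem hb hd,
        Commute.mul_mul_mul_comm (h c hc b hb) a d⟩
    · rintro _ _ ⟨a, ha, b, hb, rfl⟩
      exact ⟨a⁻¹, inv_mem ha, b⁻¹, inv_mem hb, by
        rw [h _ (inv_mem ha) _ (inv_mem hb), mul_inv_rev]⟩
  refine ⟨⟨⟨fun x y => Subtype.ext ?_⟩⟩, fun z hz => ?_⟩
  · obtain ⟨a, ha, b, hb, hab⟩ := hmem x x.2
    obtain ⟨c, hc, d, hd, hcd⟩ := hmem y y.2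
    show (x : G) * y = y * x
    rw [← hab, ← hcd, Commute.mul_mul_mul_comm (h c hc b hb).symm,
      Commute.mul_mul_mul_comm (h a ha d hd).symm, comm_of_isElementaryAbelian hA ha hc,
      comm_of_isElementaryAbelian hB hb hd]
  · obtain ⟨a, ha, b, hb, rfl⟩ := hmem z hz
    rw [Commute.mul_pow (h a ha b hb), hA.2 a ha, hB.2 b hb, one_mul]

theorem isElementaryAbelian_zpowers {x : G} (hx : x ^ p = 1) :
    Cfsg.IsElementaryAbelian p (zpowers x) := by
  refine ⟨inferInstance, fun a ha => ?_⟩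
  obtain ⟨i, rfl⟩ := mem_zpowers_iff.1 ha
  rw [← zpow_natCast, ← zpow_mul, mul_comm, zpow_mul, zpow_natCast, hx, one_zpow]

theorem isElementaryAbelian_le {A B : Subgroup G} (hA : Cfsg.IsElementaryAbelian p A) (h : B ≤ A) :
    Cfsg.IsElementaryAbelian p B :=
  ⟨⟨⟨fun a b => Subtype.ext (comm_of_isElementaryAbelian hA (h a.2) (h b.2))⟩⟩,
    fun a ha => hA.2 a (h ha)⟩

theorem isPGroup_of_isElementaryAbelian {A : Subgroup G} (hA : Cfsg.IsElementaryAbelian p A) :
    IsPGroup p A := fun a => ⟨1, Subtype.ext (by simpa using hA.2 a a.2)⟩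

end CfsgLib.EABasic
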