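import Cfsg.Agent.Lib.PGroup.FpfS3
import Cfsg.Agent.Lib.Coprime.Core
import Cfsg.Agent.Lib.Coprime.Fitting
import Cfsg.Agent.Lib.Coprime.Hall
import Cfsg.Agent.Lib.PGroup.Basic
import Mathlib.GroupTheory.PGroup

/-!
Nilpotent derived subgroups from small groups of automorphisms without fixed points.
-/

set_option linter.style.haveILetI false
set_option linter.unusedSectionVars false

namespace CfsgLib.PGroup

open Subgroup
open scoped IsMulCommutative commutatorElement

universe u

/-- The image of a fixed point free action is fixed point free. -/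
theorem free_image {G G' : Type*} [Group G] [Group G'] [Finite G] {A K : Subgroup G} [K.Normal]
    (hsolv : Group.IsSolvable K) (hcop : (Nat.card A).Coprime (Nat.card K))
    (hfree : K ⊓ centralizer (A : Set G) = ⊥) (f : G →* G') :
    K.map f ⊓ centralizer (A.map f : Set G') = ⊥ := by
  rw [eq_bot_iff]
  rintro _ ⟨⟨k, hk, rfl⟩, hc⟩
  have hA : A ≤ normalizer ((K ⊓ f.ker : Subgroup G) : Set G) := by
    rw [normalizer_eq_top]; exact le_top
  obtain ⟨n, hn, hnc⟩ := CfsgLib.Coprime.exists_fixed_in_coset hA
    (hcop.coprime_dvd_right (card_dvd_of_le inf_le_left))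
    (Or.inr (Group.isSolvable_of_isSolvable_injective (f := inclusion (inf_le_left : K ⊓ f.ker ≤ K))
      (inclusion_injective _)))
    (k := k) (by rw [normalizer_eq_top]; exact mem_top k) fun a ha => by
      refine Subgroup.mem_inf.2 ⟨?_, ?_⟩
      · exact mul_mem (Normal.conj_mem inferInstance k hk a) (inv_mem hk)
      · show a * k * a⁻¹ * k⁻¹ ∈ f.ker
        have h1 := mem_centralizer_iff.1 hc (f a) ⟨a, ha, rfl⟩
        rw [MonoidHom.mem_ker, map_mul, map_mul, map_mul, map_inv, map_inv, h1, mul_inv_cancel_right,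
          mul_inv_cancel]
  have h2 : k * n ∈ K ⊓ centralizer (A : Set G) := ⟨mul_mem hk hn.1, hnc⟩
  rw [hfree, mem_bot] at h2
  have h3 := congrArg f h2
  rw [map_mul, map_one, (MonoidHom.mem_ker).1 hn.2, mul_one] at h3
  exact mem_bot.2 h3

theorem le_normalizer_map_char {G : Type*} [Group G] {H : Subgroup G} (C : Subgroup H)
    [hC : C.Characteristic] : normalizer (H : Set G) ≤ normalizer (C.map H.subtype : Set G) := by
  intro g hg
  have hmap : ∀ g ∈ normalizer (H : Set G), ∀ y ∈ C.map H.subtype, g * y * g⁻¹ ∈ C.map H.subtype := by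
    rintro g hg _ ⟨y, hy, rfl⟩
    refine ⟨H.normalizerMonoidHom ⟨g, hg⟩ y, ?_, rfl⟩
    exact (characteristic_iff_map_le.1 hC (H.normalizerMonoidHom ⟨g, hg⟩)) ⟨y, hy, rfl⟩
  exact mem_normalizer_iff.2 fun y =>
    ⟨hmap g hg y, fun h => by simpa [mul_assoc] using hmap g⁻¹ (inv_mem hg) _ h⟩

theorem exists_inv_of_not_dvd {R : Type*} [Ring R] {p n : ℕ} (hp : p.Prime) (hpR : (p : R) = 0)
    (hn : ¬ p ∣ n) : ∃ v : R, v * (n : R) = 1 := by
  rcases Nat.eq_zero_or_pos n with rfl | hn0
  · exact absurd (dvd_zero p) hn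
  obtain ⟨a, -, ha⟩ := Nat.exists_mul_mod_eq_one_of_coprime
    ((hp.coprime_iff_not_dvd.2 hn).symm) hp.one_lt
  refine ⟨(a : R), ?_⟩
  have h2 : n * a = p * (n * a / p) + 1 := by
    have := Nat.div_add_mod (n * a) p
    omega
  rw [← Nat.cast_mul, mul_comm a n, h2, Nat.cast_add, Nat.cast_mul, hpR, zero_mul, zero_add, Nat.cast_one]

/-- The module step: the induced group is commutative. -/
theorem commute_of_cycleAct {R : Type u} [Ring R] [Finite R] {p : ℕ} [hp : Fact p.Prime]
    (hpR : (p : R) = 0) {H A : Subgroup Rˣ} {u : Rˣ} {m : ℕ} (hc : CycleAct H u m) (hu : u ∈ A)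
    (hAH : A ≤ normalizer (H : Set Rˣ)) (hcop : (Nat.card A).Coprime (Nat.card H))
    (hsolv : Group.IsSolvable H) (hnil : Group.IsNilpotent (commutator H))
    (hcore : Cfsg.pCore p H = ⊥)
    (hab : ∀ Q : Subgroup Rˣ, Q ≤ H → A ≤ normalizer (Q : Set Rˣ) → Group.IsNilpotent Q →
      ¬ p ∣ Nat.card Q → IsMulCommutative Q) :
    ∀ a ∈ H, ∀ b ∈ H, Commute a b := by
  classical
  let O : ℕ → Subgroup Rˣ := fun q => (Cfsg.pCore q H).map H.subtype
  have hOA : ∀ q, A ≤ normalizer (O q : Set Rˣ) := fun q => by
    haveI := CfsgLib.Coprime.pCore_characteristic (G := H) q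
    exact hAH.trans (le_normalizer_map_char (Cfsg.pCore q H))
  have hON : ∀ q, H ≤ normalizer (O q : Set Rˣ) := fun q => by
    haveI := CfsgLib.Coprime.pCore_characteristic (G := H) q
    exact le_normalizer.trans (le_normalizer_map_char (Cfsg.pCore q H))
  -- Sylow subgroups centralize every `O q`
  have key : ∀ r : ℕ, r.Prime → ∀ B : Subgroup Rˣ, CfsgLib.Coprime.IsSylowIn r B H →
      A ≤ normalizer (B : Set Rˣ) → ∀ q : ℕ, q.Prime → B ≤ centralizer (O q : Set Rˣ) := by
    intro r hr B hB hBA q hq
    haveI := Fact.mk hr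
    haveI := Fact.mk hq
    have hBH : B ≤ H := hB.1
    have hBp : IsPGroup r B := hB.isPGroup
    by_cases hqp : q = p
    · subst hqp
      intro b _
      rw [mem_centralizer_iff]
      rintro _ ⟨x, hx, rfl⟩
      rw [hcore] at hx
      rw [mem_bot.1 hx]
      simp
    have hOq : IsPGroup q (O q) := (CfsgLib.Coprime.pCore_isPGroup q).map _
    obtain ⟨k, hk⟩ := hOq.exists_card_eq
    have hOnd : ¬ p ∣ Nat.card (O q) := by
      rw [hk]
      exact fun h => hqp ((Nat.prime_dvd_prime_iff_eq hp.1 hq).1 (hp.1.dvd_of_dvd_pow h)).symm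
    haveI hOc : IsMulCommutative (O q) :=
      hab _ (map_subtype_le _) (hOA q) hOq.isNilpotent hOnd
    by_cases hrq : r = q
    · subst hrq
      obtain ⟨l, hl⟩ := hBp.exists_card_eq
      have hBnd : ¬ p ∣ Nat.card B := by
        rw [hl]
        exact fun h => hqp ((Nat.prime_dvd_prime_iff_eq hp.1 hq).1 (hp.1.dvd_of_dvd_pow h)).symm
      haveI hBc : IsMulCommutative B := hab B hBH hBA hBp.isNilpotent hBnd
      have hle : O r ≤ B := by
        rintro _ ⟨x, hx, rfl⟩
        have := CfsgLib.PGroup.pCore_le_sylow hB.toSylow hx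
        rw [← hB.map_toSylow]
        exact ⟨x, this, rfl⟩
      intro b hb
      rw [mem_centralizer_iff]
      intro x hx
      exact congrArg Subtype.val (mul_comm' (⟨x, hle hx⟩ : B) ⟨b, hb⟩)
    have hcopBQ : (Nat.card B).Coprime (Nat.card (O q)) := by
      obtain ⟨l, hl⟩ := hBp.exists_card_eq
      rw [hl, hk]
      exact Nat.coprime_pow_primes _ _ hr hq hrq
    refine hc.centralizes_abelian (map_subtype_le _) (hOA q hu) (exists_inv_of_not_dvd hp.1 hpR hOnd)
      hBH (hBH.trans (hON q)) (hBA hu) hcopBQ fun b hb b' hb' z hz => ?_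
    -- the commutator of `b, b'` is an `r`-element of a nilpotent normal subgroup
    let bH : H := ⟨b, hBH hb⟩
    let bH' : H := ⟨b', hBH hb'⟩
    set c := ⁅bH, bH'⁆ with hc0
    have hcN : c ∈ commutator H := commutator_mem_commutator (mem_top _) (mem_top _)
    have hcr : IsPGroup r (zpowers (⟨c, hcN⟩ : commutator H)) := by
      have h1 : (c : Rˣ) ∈ B := by
        rw [hc0]; simpa [commutatorElement_def, bH, bH'] using
          mul_mem (mul_mem (mul_mem hb hb') (inv_mem hb)) (inv_mem hb')
      obtain ⟨j, hj⟩ := IsPGroup.iff_orderOf.1 hBp ⟨_, h1⟩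
      refine IsPGroup.of_card (n := j) ?_
      rw [Nat.card_zpowers, ← hj, Subgroup.orderOf_mk, Subgroup.orderOf_mk, ← Subgroup.orderOf_coe]
    obtain ⟨S, hS⟩ := hcr.exists_le_sylow
    haveI hSn : (S : Subgroup (commutator H)).Normal :=
      ((Group.isNilpotent_of_finite_tfae (G := commutator H)).out 0 3 rfl rfl).1 hnil r inferInstance S
    have hcO : c ∈ Cfsg.pCore r H := by
      have h1 : (⟨c, hcN⟩ : commutator H) ∈ Cfsg.pCore r (commutator H) :=
        CfsgLib.Coprime.le_pCore S.2 (hS (mem_zpowers _))
      have h2 : c ∈ (Cfsg.pCore r (commutator H)).map (commutator H).subtype := ⟨_, h1, rfl⟩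
      rw [CfsgLib.Coprime.pCore_map_subtype_eq] at h2
      exact h2.1
    obtain ⟨zH, hzH, rfl⟩ := hz
    haveI := CfsgLib.Coprime.pCore_normal' (G := H) r
    haveI := CfsgLib.Coprime.pCore_normal' (G := H) q
    have hdis : Disjoint (Cfsg.pCore r H) (Cfsg.pCore q H) :=
      IsPGroup.disjoint_of_ne r q hrq _ _ (CfsgLib.Coprime.pCore_isPGroup r)
        (CfsgLib.Coprime.pCore_isPGroup q)
    haveI : (Cfsg.pCore q H).Normal := CfsgLib.Coprime.pCore_normal' q
    have hz2 : (bH' * bH) * zH * (bH' * bH)⁻¹ ∈ Cfsg.pCore q H := Normal.conj_mem inferInstance _ hzH _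
    have hcomm := Subgroup.commute_of_normal_of_disjoint _ _ inferInstance inferInstance hdis _ _ hcO hz2
    have e : bH * bH' * zH * (bH * bH')⁻¹ = bH' * bH * zH * (bH' * bH)⁻¹ := by
      calc bH * bH' * zH * (bH * bH')⁻¹ = c * ((bH' * bH) * zH * (bH' * bH)⁻¹) * c⁻¹ := by
            rw [hc0, commutatorElement_def]; group
        _ = _ := by rw [hcomm.eq, mul_inv_cancel_right]
    simpa [bH, bH'] using congrArg (fun x : H => (x : Rˣ)) e
  -- the Fitting subgroup is central
  set F := Cfsg.fittingSubgroup H
  haveI hFn : F.Normal := CfsgLib.Coprime.fitting_normal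
  have hcent : centralizer (F : Set H) = ⊤ := by
    refine index_eq_one.1 (Nat.eq_one_iff_not_exists_prime_dvd.2 fun r hr hd => ?_)
    haveI := Fact.mk hr
    obtain ⟨B, hB, hBA⟩ := CfsgLib.Coprime.exists_invariant_sylow hAH hcop (Or.inr hsolv) r
    have hle : (hB.toSylow : Subgroup H) ≤ centralizer (F : Set H) := by
      rw [le_centralizer_iff]
      show F ≤ _
      rw [show F = ⨆ q : Nat.Primes, Cfsg.pCore (q : ℕ) H from CfsgLib.Coprime.fitting_eq_iSup_pCore]
      refine iSup_le fun q => ?_
      intro x hx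
      rw [mem_centralizer_iff]
      intro b hb
      have hbB : (b : Rˣ) ∈ B := by rw [← hB.map_toSylow]; exact ⟨b, hb, rfl⟩
      exact Subtype.ext (mem_centralizer_iff.1 (key r hr B hB hBA q q.2 hbB) _ ⟨x, hx, rfl⟩).symm
    exact hB.toSylow.not_dvd_index (hd.trans (index_dvd_of_le hle))
  have hFc : F ≤ center H := fun x hx => mem_center_iff.2 fun y =>
    (mem_centralizer_iff.1 (hcent ▸ mem_top y) x hx).symm
  have hder : commutator H ≤ center H := le_trans (CfsgLib.Coprime.le_fitting hnil) hFc
  haveI : IsMulCommutative (H ⧸ center H) := by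
    refine ⟨⟨fun a b => ?_⟩⟩
    obtain ⟨a, rfl⟩ := QuotientGroup.mk_surjective a
    obtain ⟨b, rfl⟩ := QuotientGroup.mk_surjective b
    rw [← QuotientGroup.mk_mul, ← QuotientGroup.mk_mul, QuotientGroup.eq]
    refine hder ?_
    have := commutator_mem_commutator (mem_top b⁻¹) (mem_top a⁻¹)
    rw [commutatorElement_def] at this
    simpa [mul_assoc, _root_.commutator_def] using this
  have hHnil : Group.IsNilpotent H :=
    Subgroup.isNilpotent_of_ker_le_center (QuotientGroup.mk' (center H)) (by simp)
  have htop : (⊤ : Subgroup H) ≤ F :=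
    CfsgLib.Coprime.le_fitting (Group.nilpotent_of_mulEquiv topEquiv.symm)
  intro a ha b hb
  have := mem_center_iff.1 (hFc (htop (mem_top (⟨b, hb⟩ : H)))) ⟨a, ha⟩
  exact congrArg Subtype.val this

/-- Conjugation on a normal subgroup, as additive endomorphisms. -/
noncomputable def moduleHom {G : Type u} [Group G] (V : Subgroup G) [V.Normal] [IsMulCommutative V] :
    G →* (AddMonoid.End (Additive V))ˣ :=
  ({ toFun := fun φ => MonoidHom.toAdditive φ.toMonoidHom
     map_one' := rfl
     map_mul' := fun _ _ => rfl } : MulAut V →* AddMonoid.End (Additive V)).toHomUnits.comp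
    MulAut.conjNormal

theorem moduleHom_apply {G : Type u} [Group G] (V : Subgroup G) [V.Normal] [IsMulCommutative V]
    (g : G) (v : Additive V) :
    ((Additive.toMul ((moduleHom V g : AddMonoid.End (Additive V)) v) : V) : G) =
      g * (Additive.toMul v : V) * g⁻¹ := rfl

theorem moduleHom_eq_one {G : Type u} [Group G] {V : Subgroup G} [V.Normal] [IsMulCommutative V]
    {g : G} (h : moduleHom V g = 1) {v : G} (hv : v ∈ V) : g * v * g⁻¹ = v := by
  have := moduleHom_apply V g (Additive.ofMul ⟨v, hv⟩)
  rw [h] at this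
  exact this.symm

theorem finite_addMonoidEnd {M : Type u} [AddCommGroup M] [Finite M] : Finite (AddMonoid.End M) :=
  Finite.of_injective (fun f : AddMonoid.End M => (f : M → M)) DFunLike.coe_injective

/-- The induction: it is enough to treat minimal normal subgroups. -/
theorem derived_nilpotent_of_step
    (P : ∀ (G : Type u) [Group G], Subgroup G → Prop)
    (hquot : ∀ (G : Type u) [Group G] [Finite G] (K : Subgroup G), K.Normal → Group.IsSolvable K → P G K →
      ∀ (V : Subgroup G) [V.Normal], V ≤ K → P (G ⧸ V) (K.map (QuotientGroup.mk' V)))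
    (hstep : ∀ (G : Type u) [Group G] [Finite G] (K : Subgroup G), K.Normal → Group.IsSolvable K → P G K →
      ∀ (V : Subgroup G) [V.Normal] [IsMulCommutative V], V ≤ K → ∀ (p : ℕ), p.Prime → (∀ v ∈ V, v ^ p = 1) →
        Nontrivial V →
        Group.IsNilpotent (commutator (K.map (moduleHom V))) →
        Cfsg.pCore p (K.map (moduleHom V)) = ⊥ → ∀ a ∈ K.map (moduleHom V), ∀ b ∈ K.map (moduleHom V), Commute a b) :
    ∀ (G : Type u) [Group G] [Finite G] (K : Subgroup G), K.Normal → Group.IsSolvable K → P G K →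
      Group.IsNilpotent (⁅K, K⁆ : Subgroup G) := by
  intro G _ _ K hKn hsol hP
  induction hn : Nat.card G using Nat.strong_induction_on generalizing G with
  | _ n ih =>
    subst hn
    haveI := hKn
    by_cases hK : K = ⊥
    · subst hK
      exact CfsgLib.Coprime.isNilpotent_of_le (commutator_le_left _ _) inferInstance
    obtain ⟨V, hVn, hV0, hVK, hVmin⟩ := CfsgLib.Coprime.exists_minimal_normal_le hK
    haveI := hVn
    haveI := hsol
    haveI : Group.IsSolvable V :=
      Group.isSolvable_of_isSolvable_injective (f := inclusion hVK) (inclusion_injective _)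
    obtain ⟨hVc, p, hp, hVp⟩ := CfsgLib.Coprime.minimal_normal_solvable hV0 hVmin
    haveI hVab : IsMulCommutative V := ⟨⟨fun a b => Subtype.ext (hVc a a.2 b b.2)⟩⟩
    haveI : Nontrivial V := (nontrivial_iff_ne_bot V).2 hV0
    haveI := Fact.mk hp
    set π := QuotientGroup.mk' V
    haveI hKmn : (K.map π).Normal := Normal.map inferInstance _ (QuotientGroup.mk'_surjective V)
    have hsolm : Group.IsSolvable (K.map π) := by
      haveI := hsol
      exact Group.isSolvable_of_surjective (f := π.subgroupMap K) (π.subgroupMap_surjective K)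
    have hq : Group.IsNilpotent (⁅K.map π, K.map π⁆ : Subgroup (G ⧸ V)) :=
      ih _ (CfsgLib.Coprime.card_quotient_lt hV0) (G ⧸ V) (K.map π) hKmn hsolm
        (hquot G K hKn hsol hP V hVK) rfl
    set ρ := moduleHom V
    set H := K.map ρ
    haveI : Finite (AddMonoid.End (Additive V)) := finite_addMonoidEnd
    have hVker : ∀ v ∈ V, ρ v = 1 := by
      intro v hv
      refine Units.ext (DFunLike.ext _ _ fun w => ?_)
      refine Additive.toMul.injective (Subtype.ext ?_)
      rw [moduleHom_apply]
      show v * (Additive.toMul w : V) * v⁻¹ = _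
      rw [hVc v hv _ (Additive.toMul w).2, mul_inv_cancel_right]
      rfl
    let ψ : G ⧸ V →* (AddMonoid.End (Additive V))ˣ := QuotientGroup.lift V ρ fun v hv => hVker v hv
    have hH : H = (K.map π).map ψ := by
      rw [map_map]
      exact congrArg K.map (MonoidHom.ext fun g => rfl)
    have hHnil : Group.IsNilpotent (commutator H) := by
      have e : (commutator H).map H.subtype = (⁅K.map π, K.map π⁆ : Subgroup (G ⧸ V)).map ψ := by
        rw [_root_.commutator_def, map_commutator, map_commutator, ← MonoidHom.range_eq_map, range_subtype,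
          ← hH]
      have h1 : Group.IsNilpotent ((commutator H).map H.subtype) := by
        rw [e]
        haveI := hq
        exact Group.nilpotent_of_surjective (ψ.subgroupMap _) (ψ.subgroupMap_surjective _)
      exact Group.nilpotent_of_mulEquiv (equivMapOfInjective _ _ H.subtype_injective).symm
    have hcore : Cfsg.pCore p H = ⊥ := by
      set O := (Cfsg.pCore p H).map H.subtype
      set L := O.comap ρ ⊓ K
      have hOn : O ≤ H := map_subtype_le _
      let W : Subgroup G := V ⊓ centralizer (L : Set G)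
      have hWV : W ≤ V := inf_le_left
      have hGH : ∀ g : G, ρ g ∈ normalizer (H : Set (AddMonoid.End (Additive V))ˣ) := by
        intro g
        have hmap : ∀ g : G, ∀ y ∈ H, ρ g * y * (ρ g)⁻¹ ∈ H := by
          rintro g _ ⟨k, hk, rfl⟩
          exact ⟨g * k * g⁻¹, Normal.conj_mem inferInstance k hk g, by rw [map_mul, map_mul, map_inv]⟩
        refine mem_normalizer_iff.2 fun y => ⟨hmap g y, fun h => ?_⟩
        have := hmap g⁻¹ _ h
        simpa [mul_assoc] using this
      haveI := CfsgLib.Coprime.pCore_characteristic (G := H) p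
      haveI hLn : L.Normal := by
        haveI : (O.comap ρ).Normal := ⟨fun x hx g => by
          rw [mem_comap, map_mul, map_mul, map_inv]
          exact (mem_normalizer_iff.1 (le_normalizer_map_char (Cfsg.pCore p H) (hGH g)) _).1 hx⟩
        exact Subgroup.normal_inf_normal _ _
      have hW : W.Normal := Subgroup.normal_inf_normal _ _
      have hfix : W ≠ ⊥ := by
        have hOp : IsPGroup p O := (CfsgLib.Coprime.pCore_isPGroup p).map _
        let act : MulAction O (Additive V) :=
          { smul := fun f v => ((f : (AddMonoid.End (Additive V))ˣ) : AddMonoid.End (Additive V)) v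
            one_smul := fun v => rfl
            mul_smul := fun f g v => rfl }
        have hVcard : p ∣ Nat.card (Additive V) := by
          obtain ⟨v, hv⟩ := exists_ne (1 : V)
          have : orderOf v = p := orderOf_eq_prime (Subtype.ext (hVp v v.2)) hv
          rw [← this]
          exact orderOf_dvd_natCard v
        obtain ⟨b, hb, hb0⟩ := hOp.exists_fixed_point_of_prime_dvd_card_of_fixed_point
          (α := Additive V) hVcard (a := 0) (fun f => map_zero _)
        intro hWb
        have hbW : ((Additive.toMul b : V) : G) ∈ W := by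
          refine ⟨(Additive.toMul b).2, mem_centralizer_iff.2 fun l hl => ?_⟩
          have h1 : ((moduleHom V l : AddMonoid.End (Additive V)) b) = b := hb ⟨ρ l, hl.1⟩
          have h2 := moduleHom_apply V l b
          rw [h1] at h2
          exact (eq_mul_inv_iff_mul_eq.1 h2).symm
        rw [hWb, mem_bot] at hbW
        exact hb0 (Additive.toMul.injective (Subtype.ext hbW)).symm
      rcases hVmin W hW hWV with h | h
      · exact absurd h hfix
      rw [eq_bot_iff]
      intro x hx
      obtain ⟨k, hk, hkx⟩ := x.2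
      have hkL : k ∈ L := Subgroup.mem_inf.2 ⟨by rw [mem_comap, hkx]; exact ⟨x, hx, rfl⟩, hk⟩
      refine mem_bot.2 (Subtype.ext ?_)
      rw [← hkx]
      refine Units.ext (DFunLike.ext _ _ fun w => ?_)
      refine Additive.toMul.injective (Subtype.ext ?_)
      rw [moduleHom_apply]
      have h2 : ((Additive.toMul w : V) : G) ∈ W := h.symm ▸ (Additive.toMul w).2
      rw [mem_centralizer_iff.1 h2.2 k hkL, mul_inv_cancel_right]
      rfl
    have hcomm := hstep G K hKn hsol hP V hVK p hp hVp inferInstance hHnil hcore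
    -- the derived subgroup centralizes `V`
    set D := (⁅K, K⁆ : Subgroup G)
    have hDC : D ≤ ρ.ker := commutator_le.2 fun a ha b hb => by
      rw [MonoidHom.mem_ker, map_commutatorElement, commutatorElement_eq_one_iff_mul_comm]
      exact hcomm _ ⟨a, ha, rfl⟩ _ ⟨b, hb, rfl⟩
    let φ : D →* (⁅K.map π, K.map π⁆ : Subgroup (G ⧸ V)) :=
      (π.comp D.subtype).codRestrict _ fun d => by
        rw [← map_commutator]; exact ⟨d, d.2, rfl⟩
    haveI := hq
    refine Subgroup.isNilpotent_of_ker_le_center φ ?_
    intro d hd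
    have hdV : (d : G) ∈ V := (QuotientGroup.eq_one_iff _).1 (congrArg Subtype.val hd)
    refine mem_center_iff.2 fun e => Subtype.ext ?_
    have := moduleHom_eq_one (hDC e.2) hdV
    exact mul_inv_eq_iff_eq_mul.1 this

/-- A symmetric group of degree three in a group, without fixed points on `K`. -/
def S3Free (G : Type u) [Group G] (K : Subgroup G) : Prop :=
  ∃ u t : G, u ^ 3 = 1 ∧ t ^ 2 = 1 ∧ t * u * t⁻¹ = u ^ 2 ∧ (Nat.card K).Coprime 6 ∧
    K ⊓ centralizer (Subgroup.closure ({u, t} : Set G) : Set G) = ⊥

theorem card_closure_dvd_six {G : Type u} [Group G] [Finite G] {u t : G} (hu : u ^ 3 = 1) (ht : t ^ 2 = 1)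
    (hr : t * u * t⁻¹ = u ^ 2) : Nat.card (Subgroup.closure ({u, t} : Set G)) ∣ 6 := by
  have hnt : zpowers t ≤ normalizer (zpowers u : Set G) := by
    refine zpowers_le.2 ?_
    have hi : t⁻¹ = t := inv_eq_of_mul_eq_one_right (by rw [← pow_two]; exact ht)
    have hmap : ∀ y ∈ zpowers u, t * y * t⁻¹ ∈ zpowers u := by
      rintro _ ⟨l, rfl⟩
      show t * u ^ l * t⁻¹ ∈ zpowers u
      rw [← MulAut.conj_apply, map_zpow, MulAut.conj_apply, hr]
      exact zpow_mem (pow_mem (mem_zpowers u) 2) l
    refine mem_normalizer_iff.2 fun y => ⟨hmap y, fun h => ?_⟩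
    have := hmap _ h
    rw [show t * (t * y * t⁻¹) * t⁻¹ = (t * t) * y * (t * t)⁻¹ by group,
      show t * t = 1 by rw [← pow_two]; exact ht] at this
    simpa using this
  have e : Subgroup.closure ({u, t} : Set G) = zpowers t ⊔ zpowers u := by
    rw [zpowers_eq_closure, zpowers_eq_closure, ← Subgroup.closure_union, Set.union_comm]
    rfl
  rw [e]
  refine (CfsgLib.Coprime.card_sup_dvd_of_le_normalizer hnt).trans ?_
  rw [Nat.card_zpowers, Nat.card_zpowers]
  exact mul_dvd_mul (a := orderOf t) (b := 2) (c := orderOf u) (d := 3)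
    (orderOf_dvd_of_pow_eq_one ht) (orderOf_dvd_of_pow_eq_one hu)

theorem derived_nilpotent_of_S3 (G : Type u) [Group G] [Finite G] (K : Subgroup G) (hKn : K.Normal)
    (hsol : Group.IsSolvable K) (h : S3Free G K) : Group.IsNilpotent (⁅K, K⁆ : Subgroup G) := by
  refine derived_nilpotent_of_step (fun G _ K => S3Free G K) ?_ ?_ G K hKn hsol h
  · rintro G _ _ K hKn hsol ⟨u, t, hu, ht, hr, hcop, hfree⟩ V _ hVK
    haveI := hKn
    set π := QuotientGroup.mk' V
    refine ⟨π u, π t, by rw [← map_pow, hu, map_one], by rw [← map_pow, ht, map_one],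
      by rw [← map_inv, ← map_mul, ← map_mul, hr, map_pow],
      hcop.coprime_dvd_left (CfsgLib.Coprime.card_map_dvd_card _ _), ?_⟩
    rw [show ({π u, π t} : Set (G ⧸ V)) = π '' {u, t} by rw [Set.image_pair], ← MonoidHom.map_closure]
    exact free_image hsol ((hcop.coprime_dvd_right (card_closure_dvd_six hu ht hr)).symm) hfree π
  · rintro G _ _ K hKn hsol ⟨u, t, hu, ht, hr, hcop, hfree⟩ V _ _ hVK p hp hVp _ hnil hcore
    haveI := hKn
    haveI := Fact.mk hp
    haveI : Finite (AddMonoid.End (Additive V)) := finite_addMonoidEnd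
    set ρ := moduleHom V
    set A := Subgroup.closure ({u, t} : Set G)
    have hAcard := card_closure_dvd_six hu ht hr
    have hnorm : ∀ g : G, ρ g ∈ normalizer (K.map ρ : Set (AddMonoid.End (Additive V))ˣ) := fun g =>
      Subgroup.le_normalizer_map ρ ⟨g, by rw [normalizer_eq_top]; exact mem_top g, rfl⟩
    have hsum : powSum 3 (ρ u) * (ρ t : AddMonoid.End (Additive V)) = -powSum 3 (ρ u) := by
      rw [eq_neg_iff_add_eq_zero]
      refine DFunLike.ext _ _ fun v => Additive.toMul.injective (Subtype.ext ?_)
      let cu : V → V := fun w => MulAut.conjNormal u w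
      let N : V → V := fun w => w * cu w * cu (cu w)
      set a : V := Additive.toMul v
      have e : ∀ w : Additive V, Additive.toMul (powSum 3 (ρ u) w) = N (Additive.toMul w) := by
        intro w
        simp only [powSum, Finset.sum_range_succ, Finset.sum_range_zero, zero_add, pow_zero, pow_one,
          pow_two]
        rfl
      show ((Additive.toMul (powSum 3 (ρ u) ((ρ t : AddMonoid.End (Additive V)) v) + powSum 3 (ρ u) v) : V) : G) = 1
      rw [toMul_add, e, e, show Additive.toMul ((ρ t : AddMonoid.End (Additive V)) v) = MulAut.conjNormal t a from rfl]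
      set x : V := N (MulAut.conjNormal t a) * N a
      have hu3 : ∀ w : V, cu (cu (cu w)) = w := by
        intro w
        show MulAut.conjNormal u (MulAut.conjNormal u (MulAut.conjNormal u w)) = w
        rw [← MulAut.mul_apply, ← MulAut.mul_apply, ← map_mul, ← map_mul, ← pow_two, ← pow_succ, hu, map_one]
        rfl
      have hNu : ∀ w, cu (N w) = N w := by
        intro w
        simp only [N, cu, map_mul]
        rw [show MulAut.conjNormal u (MulAut.conjNormal u (MulAut.conjNormal u w)) = w from hu3 w, mul_comm,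
          mul_assoc]
      have hct : ∀ w, MulAut.conjNormal t (cu w) = cu (cu (MulAut.conjNormal t w)) := by
        intro w
        simp only [cu, ← MulAut.mul_apply, ← map_mul]
        congr 2
        rw [← mul_assoc, ← pow_two, ← hr, inv_mul_cancel_right]
      have hNt : ∀ w, MulAut.conjNormal t (N w) = N (MulAut.conjNormal t w) := by
        intro w
        simp only [N, map_mul, hct]
        rw [hu3, mul_assoc, mul_comm (cu (cu _)), ← mul_assoc]
      have htt : MulAut.conjNormal t (MulAut.conjNormal t a) = a := by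
        rw [← MulAut.mul_apply, ← map_mul, ← pow_two, ht, map_one]
        rfl
      have hxu : cu x = x := by
        simp only [x, cu, map_mul]
        exact congrArg₂ (· * ·) (hNu _) (hNu _)
      have hxt : MulAut.conjNormal t x = x := by
        simp only [x, map_mul, hNt, htt, mul_comm]
      have hmem : (x : G) ∈ K ⊓ centralizer (A : Set G) := by
        refine Subgroup.mem_inf.2 ⟨hVK x.2, ?_⟩
        rw [centralizer_closure, mem_centralizer_iff]
        rintro y (rfl | rfl)
        · exact mul_inv_eq_iff_eq_mul.1 (congrArg Subtype.val hxu)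
        · exact mul_inv_eq_iff_eq_mul.1 (congrArg Subtype.val hxt)
      rw [hfree, mem_bot] at hmem
      exact hmem
    have hfreeH := free_image hsol ((hcop.coprime_dvd_right hAcard).symm) hfree ρ
    have h3 : S3Act (K.map ρ) (ρ u) (ρ t) :=
      { u_pow := by rw [← map_pow, hu, map_one]
        t_sq := by rw [← map_pow, ht, map_one]
        rel := by rw [← map_inv, ← map_mul, ← map_mul, hr, map_pow]
        u_norm := hnorm u
        t_norm := hnorm t
        cop := hcop.coprime_dvd_left (CfsgLib.Coprime.card_map_dvd_card _ _)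
        free := fun c hc hcu hct => by
          rw [← mem_bot, ← hfreeH]
          refine Subgroup.mem_inf.2 ⟨hc, ?_⟩
          rw [MonoidHom.map_closure, centralizer_closure, mem_centralizer_iff]
          rintro _ ⟨y, (rfl | rfl), rfl⟩
          · exact hcu.eq.symm
          · exact hct.eq.symm
        sum := hsum }
    have hA : A.map ρ ≤ normalizer (K.map ρ : Set (AddMonoid.End (Additive V))ˣ) := by
      rintro _ ⟨g, _, rfl⟩; exact hnorm g
    have huA : ρ u ∈ A.map ρ := ⟨u, Subgroup.subset_closure (by simp), rfl⟩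
    have htA : ρ t ∈ A.map ρ := ⟨t, Subgroup.subset_closure (by simp), rfl⟩
    have hpR : ((p : ℕ) : AddMonoid.End (Additive V)) = 0 := by
      refine DFunLike.ext _ _ fun v => ?_
      rw [← nsmul_one p]
      show p • v = 0
      exact Additive.toMul.injective (Subtype.ext (hVp _ (Additive.toMul v).2))
    refine commute_of_cycleAct hpR h3.cycleAct huA hA ?_ ?_ hnil hcore fun Q hQH hAQ hQn hQp => ?_
    · refine ((hcop.coprime_dvd_left (CfsgLib.Coprime.card_map_dvd_card ρ K)).coprime_dvd_right ?_).symm
      exact (CfsgLib.Coprime.card_map_dvd_card ρ A).trans hAcard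
    · haveI := hsol
      exact Group.isSolvable_of_surjective (f := ρ.subgroupMap K) (ρ.subgroupMap_surjective K)
    · haveI := hQn
      exact h3.isMulCommutative_of_nilpotent
        ⟨hQH, hAQ huA, exists_inv_of_not_dvd hp hpR fun hd =>
          hQp (hd.trans (card_dvd_of_le (centreIn'_le Q)))⟩
        (hAQ htA) (exists_inv_of_not_dvd hp hpR hQp)

end CfsgLib.PGroup

namespace CfsgLib.PGroup

open Subgroup
open scoped IsMulCommutative

universe u

/-- An element whose square centralizes a group, without fixed points on it, inverts it. -/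
theorem inverted_of_free {G : Type u} [Group G] [Finite G] {C : Subgroup G} {s : G}
    (hs : s ∈ normalizer (C : Set G)) (h2 : ∀ c ∈ C, Commute c (s * s))
    (hfree : ∀ c ∈ C, Commute c s → c = 1) {c : G} (hc : c ∈ C) : s * c * s⁻¹ = c⁻¹ := by
  let φ : C → C := fun y => ⟨(y : G)⁻¹ * (s * (y : G) * s⁻¹),
    mul_mem (inv_mem y.2) ((mem_normalizer_iff.1 hs _).1 y.2)⟩
  have hinj : Function.Injective φ := by
    intro a b e
    have e' : (a : G)⁻¹ * (s * (a : G) * s⁻¹) = (b : G)⁻¹ * (s * (b : G) * s⁻¹) := congrArg Subtype.val e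
    have hfix : Commute ((b : G) * (a : G)⁻¹) s := by
      refine (mul_inv_eq_iff_eq_mul.1 ?_).symm
      calc s * ((b : G) * (a : G)⁻¹) * s⁻¹
          = (b : G) * ((b : G)⁻¹ * (s * (b : G) * s⁻¹)) * (s * (a : G) * s⁻¹)⁻¹ := by group
        _ = _ := by rw [← e']; group
    exact Subtype.ext (mul_inv_eq_one.1 (hfree _ (mul_mem b.2 (inv_mem a.2)) hfix)).symm
  obtain ⟨y, hy⟩ := (Finite.injective_iff_surjective.1 hinj) ⟨c, hc⟩
  have hy' : (y : G)⁻¹ * (s * (y : G) * s⁻¹) = c := congrArg Subtype.val hy
  rw [← hy']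
  calc s * ((y : G)⁻¹ * (s * y * s⁻¹)) * s⁻¹ = s * (y : G)⁻¹ * ((s * y) * (s * s)⁻¹) := by group
    _ = s * (y : G)⁻¹ * s⁻¹ * ((s * s) * y * (s * s)⁻¹) := by group
    _ = s * (y : G)⁻¹ * s⁻¹ * y := by rw [← (h2 y y.2).eq, mul_inv_cancel_right]
    _ = _ := by group

/-- An element inverted by `S` has the same effect as its inverse where `S` negates. -/
theorem inv_mul_eq_of_neg {R : Type u} [Ring R] {S c : Rˣ} {N : R} (hsum : (S : R) * N = -N)
    (hNc : N * (c : R) = (c : R) * N) (h1 : (S : R) * (c : R) = ((c⁻¹ : Rˣ) : R) * (S : R)) :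
    ((c⁻¹ : Rˣ) : R) * N = (c : R) * N := by
  have e1 : (S : R) * ((c : R) * N) = -(((c⁻¹ : Rˣ) : R) * N) := by
    rw [← mul_assoc, h1, mul_assoc, hsum, mul_neg]
  have e2 : (S : R) * ((c : R) * N) = -((c : R) * N) := by
    rw [← hNc, ← mul_assoc, hsum, neg_mul, hNc]
  exact neg_injective (e1.symm.trans e2)

/-- An automorphism of order dividing four without fixed points. -/
def FourFree (G : Type u) [Group G] (K : Subgroup G) : Prop :=
  ∃ s : G, s ^ 4 = 1 ∧ (Nat.card K).Coprime 2 ∧ K ⊓ centralizer (zpowers s : Set G) = ⊥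

theorem derived_nilpotent_of_four (G : Type u) [Group G] [Finite G] (K : Subgroup G) (hKn : K.Normal)
    (hsol : Group.IsSolvable K) (h : FourFree G K) : Group.IsNilpotent (⁅K, K⁆ : Subgroup G) := by
  have hcop4 : ∀ {n : ℕ} {G : Type u} [Group G] [Finite G] (s : G), s ^ 4 = 1 → n.Coprime 2 →
      (Nat.card (zpowers s)).Coprime n := by
    intro n G _ _ s hs hn
    rw [Nat.card_zpowers]
    exact ((hn.pow_right 2).coprime_dvd_right (orderOf_dvd_of_pow_eq_one hs)).symm
  refine derived_nilpotent_of_step (fun G _ K => FourFree G K) ?_ ?_ G K hKn hsol h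
  · rintro G _ _ K hKn hsol ⟨s, hs, hcop, hfree⟩ V _ hVK
    haveI := hKn
    set π := QuotientGroup.mk' V
    refine ⟨π s, by rw [← map_pow, hs, map_one],
      hcop.coprime_dvd_left (CfsgLib.Coprime.card_map_dvd_card _ _), ?_⟩
    rw [← MonoidHom.map_zpowers]
    exact free_image hsol (hcop4 s hs hcop) hfree π
  · rintro G _ _ K hKn hsol ⟨s, hs, hcop, hfree⟩ V _ _ hVK p hp hVp _ hnil hcore
    haveI := hKn
    haveI := Fact.mk hp
    haveI : Finite (AddMonoid.End (Additive V)) := finite_addMonoidEnd
    set ρ := moduleHom V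
    set H := K.map ρ with hH
    set S := ρ s with hS
    have hnorm : ∀ g : G, ρ g ∈ normalizer (H : Set (AddMonoid.End (Additive V))ˣ) := fun g =>
      Subgroup.le_normalizer_map ρ ⟨g, by rw [normalizer_eq_top]; exact mem_top g, rfl⟩
    have hS4 : S ^ 4 = 1 := by rw [hS, ← map_pow, hs, map_one]
    have hsum : (S : AddMonoid.End (Additive V)) * powSum 2 (S ^ 2) = -powSum 2 (S ^ 2) := by
      rw [eq_neg_iff_add_eq_zero]
      refine DFunLike.ext _ _ fun v => Additive.toMul.injective (Subtype.ext ?_)
      let cs : V → V := fun w => MulAut.conjNormal s w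
      set a : V := Additive.toMul v
      have e : Additive.toMul ((powSum 2 (S ^ 2) : AddMonoid.End (Additive V)) v) = a * cs (cs a) := by
        simp only [powSum, Finset.sum_range_succ, Finset.sum_range_zero, zero_add, pow_zero, pow_one]
        rw [pow_two]
        rfl
      show ((Additive.toMul ((S : AddMonoid.End (Additive V)) ((powSum 2 (S ^ 2) : AddMonoid.End (Additive V)) v) + (powSum 2 (S ^ 2) : AddMonoid.End (Additive V)) v) : V) : G) = 1
      rw [toMul_add, show Additive.toMul ((S : AddMonoid.End (Additive V)) ((powSum 2 (S ^ 2) : AddMonoid.End (Additive V)) v)) =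
        cs (Additive.toMul ((powSum 2 (S ^ 2) : AddMonoid.End (Additive V)) v)) from rfl, e]
      set x : V := cs (a * cs (cs a)) * (a * cs (cs a))
      have h4 : cs (cs (cs (cs a))) = a := by
        show MulAut.conjNormal s (MulAut.conjNormal s (MulAut.conjNormal s (MulAut.conjNormal s a))) = a
        rw [← MulAut.mul_apply, ← MulAut.mul_apply, ← MulAut.mul_apply, ← map_mul, ← map_mul, ← map_mul,
          ← pow_two, ← pow_succ, ← pow_succ, hs, map_one]
        rfl
      have hxs : cs x = x := by
        simp only [x, cs, map_mul]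
        rw [show MulAut.conjNormal s (MulAut.conjNormal s (MulAut.conjNormal s (MulAut.conjNormal s a))) = a
          from h4]
        simp only [mul_comm, mul_left_comm]
      have hmem : (x : G) ∈ K ⊓ centralizer (zpowers s : Set G) := by
        refine Subgroup.mem_inf.2 ⟨hVK x.2, ?_⟩
        rw [zpowers_eq_closure, centralizer_closure, mem_centralizer_iff]
        rintro y rfl
        exact mul_inv_eq_iff_eq_mul.1 (congrArg Subtype.val hxs)
      rw [hfree, mem_bot] at hmem
      exact hmem
    have hfreeH := free_image hsol (hcop4 s hs hcop) hfree ρ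
    have hHcop : (Nat.card H).Coprime 2 := hcop.coprime_dvd_left (CfsgLib.Coprime.card_map_dvd_card ρ K)
    let C : Subgroup (AddMonoid.End (Additive V))ˣ := H ⊓ centralizer ({S ^ 2} : Set _)
    have hsC : S ∈ normalizer (C : Set (AddMonoid.End (Additive V))ˣ) := by
      refine CfsgLib.Coprime.inf_le_normalizer (zpowers_le.2 (hnorm s)) (zpowers_le.2 ?_) (mem_zpowers S)
      refine CfsgLib.Coprime.normalizer_le_normalizer_centralizer (zpowers (S ^ 2)) ?_ |> fun h => by
        rwa [zpowers_eq_closure, centralizer_closure] at h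
      have hSc : S * S ^ 2 * S⁻¹ = S ^ 2 := by group
      have hmem : S ∈ centralizer ({S ^ 2} : Set (AddMonoid.End (Additive V))ˣ) :=
        mem_centralizer_singleton_iff.2 ((Commute.refl S).pow_right 2).eq
      rw [← centralizer_closure, ← zpowers_eq_closure] at hmem
      exact CfsgLib.Coprime.centralizer_le_normalizer_self _ hmem
    have hinv : ∀ c ∈ H, Commute c (S ^ 2) → S * c * S⁻¹ = c⁻¹ := fun c hc hcu => by
      refine inverted_of_free hsC (fun y hy => by rw [← pow_two]; exact mem_centralizer_singleton_iff.1 hy.2)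
        (fun y hy hys => ?_) (Subgroup.mem_inf.2 ⟨hc, mem_centralizer_singleton_iff.2 hcu⟩)
      rw [← mem_bot, ← hfreeH]
      refine Subgroup.mem_inf.2 ⟨hy.1, ?_⟩
      rw [MonoidHom.map_zpowers, zpowers_eq_closure, centralizer_closure, mem_centralizer_singleton_iff]
      exact hys
    have hc : CycleAct H (S ^ 2) 2 :=
      { prime := Nat.prime_two
        pow_eq := by rw [← pow_mul]; exact hS4
        norm := pow_mem (hnorm s) 2
        cop := hHcop
        comm := fun a ha b hb hau hbu => by
          have e := hinv _ (mul_mem ha hb) (hau.mul_left hbu)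
          have e2 : S * (a * b) * S⁻¹ = a⁻¹ * b⁻¹ := by
            rw [← hinv a ha hau, ← hinv b hb hbu]; group
          have e3 : (a * b)⁻¹ = (b * a)⁻¹ := by rw [← e, e2, mul_inv_rev]
          exact inv_injective e3
        fix := fun c hc hcu => by
          set N := powSum 2 (S ^ 2) with hN
          have hNc : N * (c : AddMonoid.End (Additive V)) = (c : AddMonoid.End (Additive V)) * N := by
            rw [hN, powSum, Finset.mul_sum, Finset.sum_mul]
            refine Finset.sum_congr rfl fun i _ => ?_
            rw [← Units.val_pow_eq_pow_val, ← Units.val_mul, ← Units.val_mul, (hcu.pow_right i).eq]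
          have h1 : (S : AddMonoid.End (Additive V)) * c = ((c⁻¹ : (AddMonoid.End (Additive V))ˣ) : AddMonoid.End (Additive V)) * S := by
            rw [← Units.val_mul, ← Units.val_mul]
            exact congrArg _ (mul_inv_eq_iff_eq_mul.1 (hinv c hc hcu))
          have h2 := inv_mul_eq_of_neg hsum hNc h1
          have h3 : ((c ^ 2 : (AddMonoid.End (Additive V))ˣ) : AddMonoid.End (Additive V)) * N = N := by
            rw [pow_two, Units.val_mul, mul_assoc, ← h2, ← mul_assoc, Units.mul_inv, one_mul]
          obtain ⟨j, hj⟩ : ∃ j : ℕ, (c ^ 2) ^ j = c := by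
            refine exists_pow_eq_self_of_coprime (Nat.Coprime.symm (hHcop.coprime_dvd_left ?_))
            have := orderOf_dvd_natCard (⟨c, hc⟩ : H)
            rwa [Subgroup.orderOf_mk] at this
          have hl : ∀ l : ℕ, (((c ^ 2) ^ l : (AddMonoid.End (Additive V))ˣ) : AddMonoid.End (Additive V)) * N = N := by
            intro l
            induction l with
            | zero => simp
            | succ l ih => rw [pow_succ, Units.val_mul, mul_assoc, h3, ih]
          rw [← hj]; exact hl j }
    have hpR : ((p : ℕ) : AddMonoid.End (Additive V)) = 0 := by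
      refine DFunLike.ext _ _ fun v => ?_
      rw [← nsmul_one p]
      show p • v = 0
      exact Additive.toMul.injective (Subtype.ext (hVp _ (Additive.toMul v).2))
    have hmemA : S ^ 2 ∈ zpowers S := pow_mem (mem_zpowers S) 2
    refine commute_of_cycleAct hpR hc hmemA (zpowers_le.2 (hnorm s)) (hcop4 S hS4 hHcop) ?_ hnil hcore
      fun Q hQH hAQ hQn hQp => ?_
    · haveI := hsol
      exact Group.isSolvable_of_surjective (f := ρ.subgroupMap K) (ρ.subgroupMap_surjective K)
    · haveI := hQn
      exact hc.isMulCommutative_of_two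
        ⟨hQH, hAQ hmemA, exists_inv_of_not_dvd hp hpR fun hd =>
          hQp (hd.trans (card_dvd_of_le (centreIn'_le Q)))⟩

end CfsgLib.PGroup
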