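import Mathlib
import Cfsg.Prelude.Def_KGroupFacts

/-!
# Stem extensions of cyclic, two-generated abelian, dihedral and quaternion groups
-/

set_option autoImplicit false
open Subgroup
open scoped commutatorElement

namespace CfsgLib.Schur

universe u v

/-- A subgroup normalized by `a, b` and containing their commutator contains the derived subgroup of
`⟨a, b⟩`. -/
theorem commutator_closure_pair_le {G : Type u} [Group G] {a b : G} {N : Subgroup G}
    (hN : ∀ g ∈ Subgroup.closure ({a, b} : Set G), ∀ x ∈ N, g * x * g⁻¹ ∈ N) (hab : ⁅a, b⁆ ∈ N) :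
    ⁅Subgroup.closure ({a, b} : Set G), Subgroup.closure ({a, b} : Set G)⁆ ≤ N := by
  set H := Subgroup.closure ({a, b} : Set G)
  rw [commutator_le]
  -- first fix the left entry to a generator
  have step : ∀ s : G, s ∈ H → (∀ t ∈ ({a, b} : Set G), ⁅s, t⁆ ∈ N) → ∀ h ∈ H, ⁅s, h⁆ ∈ N := by
    intro s hs hgen h hh
    induction hh using Subgroup.closure_induction with
    | mem t ht => exact hgen t ht
    | one => rw [show ⁅s, (1 : G)⁆ = 1 by simp]; exact one_mem N
    | mul x y hx _ ihx ihy =>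
      rw [show ⁅s, x * y⁆ = ⁅s, x⁆ * (x * ⁅s, y⁆ * x⁻¹) by simp only [commutatorElement_def]; group]
      exact mul_mem ihx (hN x hx _ ihy)
    | inv x hx ihx =>
      rw [show ⁅s, x⁻¹⁆ = x⁻¹ * ⁅s, x⁆⁻¹ * x⁻¹⁻¹ by simp only [commutatorElement_def]; group]
      exact hN _ (inv_mem hx) _ (inv_mem ihx)
  intro g hg h hh
  have hflip : ∀ x y : G, ⁅x, y⁆ ∈ N → ⁅y, x⁆ ∈ N := fun x y hxy => by
    rw [← commutatorElement_inv]; exact inv_mem hxy
  have hself : ∀ x : G, ⁅x, x⁆ ∈ N := fun x => by rw [commutatorElement_self]; exact one_mem N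
  have hgenmem : ∀ t ∈ ({a, b} : Set G), ∀ h ∈ H, ⁅t, h⁆ ∈ N := fun t ht =>
    step t (Subgroup.subset_closure ht) fun u hu => by
      rcases ht with rfl | rfl <;> rcases hu with rfl | rfl
      exacts [hself _, hab, hflip _ _ hab, hself _]
  exact step g hg (fun t ht => hflip _ _ (hgenmem t ht g hg)) h hh

theorem mem_pair_left {G : Type u} [Group G] (x y : G) : x ∈ Subgroup.closure ({x, y} : Set G) :=
  Subgroup.subset_closure (Or.inl rfl)

theorem mem_pair_right {G : Type u} [Group G] (x y : G) : y ∈ Subgroup.closure ({x, y} : Set G) :=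
  Subgroup.subset_closure (Or.inr rfl)

section Central

variable {Δ : Type u} [Group Δ] {Q : Type v} [Group Q]

/-- A subgroup covering a group modulo a central subgroup has the same derived subgroup. -/
theorem commutator_eq_of_sup_center {H : Subgroup Δ} (h : H ⊔ center Δ = ⊤) :
    _root_.commutator Δ = ⁅H, H⁆ := by
  refine le_antisymm ?_ (by rw [_root_.commutator_def]; exact commutator_mono le_top le_top)
  rw [_root_.commutator_def, commutator_le]
  intro x _ y _
  have hsplit : ∀ w : Δ, ∃ a ∈ H, ∃ z ∈ center Δ, a * z = w := fun w => by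
    have : w ∈ ((H ⊔ center Δ : Subgroup Δ) : Set Δ) := by rw [h]; trivial
    rw [Subgroup.mul_normal] at this
    exact this
  obtain ⟨a, ha, z, hz, rfl⟩ := hsplit x
  obtain ⟨b, hb, z', hz', rfl⟩ := hsplit y
  have hzl : ∀ w, z * w = w * z := fun w => (mem_center_iff.1 hz w).symm
  have hzl' : ∀ w, z' * w = w * z' := fun w => (mem_center_iff.1 hz' w).symm
  rw [show ⁅a * z, b * z'⁆ = ⁅a, b⁆ by
    simp only [commutatorElement_def, mul_inv_rev]
    calc a * z * (b * z') * (z⁻¹ * a⁻¹) * (z'⁻¹ * b⁻¹)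
        = a * (z * (b * z')) * z⁻¹ * a⁻¹ * (z'⁻¹ * b⁻¹) := by group
      _ = a * b * (z' * a⁻¹) * z'⁻¹ * b⁻¹ := by rw [hzl]; group
      _ = a * b * a⁻¹ * b⁻¹ := by rw [hzl']; group]
  exact commutator_mem_commutator ha hb

/-- Lifts of generators generate a stem extension. -/
theorem eq_top_of_map_eq_top {σ : Δ →* Q} (hσ : Cfsg.IsStemExtension σ) {H : Subgroup Δ}
    (h : H.map σ = ⊤) : H = ⊤ := by
  have hsup : H ⊔ σ.ker = ⊤ := by
    rw [← comap_map_eq, h, comap_top]
  have hc := commutator_eq_of_sup_center (H := H)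
    (top_le_iff.1 (hsup.ge.trans (sup_le_sup_left hσ.2.1 H)))
  rw [← hsup, eq_comm, sup_eq_left]
  refine hσ.2.2.trans ?_
  rw [hc]
  exact commutator_le.2 fun a ha b hb => by
    rw [commutatorElement_def]
    exact mul_mem (mul_mem (mul_mem ha hb) (inv_mem ha)) (inv_mem hb)

theorem closure_eq_top_of_lifts {σ : Δ →* Q} (hσ : Cfsg.IsStemExtension σ) {S : Set Δ}
    (h : Subgroup.closure (σ '' S) = ⊤) : Subgroup.closure S = ⊤ :=
  eq_top_of_map_eq_top hσ (by rw [MonoidHom.map_closure, h])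

theorem ker_eq_bot_of_isCyclic [IsCyclic Q] {σ : Δ →* Q} (hσ : Cfsg.IsStemExtension σ) : σ.ker = ⊥ := by
  obtain ⟨g, hg⟩ := IsCyclic.exists_generator (α := Q)
  obtain ⟨a, rfl⟩ := hσ.1 g
  have htop : Subgroup.closure ({a} : Set Δ) = ⊤ := by
    refine closure_eq_top_of_lifts hσ ?_
    rw [Set.image_singleton, ← zpowers_eq_closure, eq_top_iff]
    exact fun x _ => hg x
  rw [← zpowers_eq_closure] at htop
  refine eq_bot_iff.2 (hσ.2.2.trans ?_)
  rw [_root_.commutator_def, commutator_le]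
  intro x _ y _
  obtain ⟨i, rfl⟩ := mem_zpowers_iff.1 (htop.ge (mem_top x))
  obtain ⟨j, rfl⟩ := mem_zpowers_iff.1 (htop.ge (mem_top y))
  rw [mem_bot, commutatorElement_eq_one_iff_mul_comm]
  exact ((Commute.refl a).zpow_zpow i j).eq

/-- Every element of a subgroup contained in a cyclic group killed by `n` is a power. -/
theorem exists_surjection_zmod {n : ℕ} {K : Subgroup Δ} (c : Δ) (hc : c ∈ K) (hn : c ^ n = 1)
    (hK : K ≤ zpowers c) : ∃ π : Multiplicative (ZMod n) →* K, Function.Surjective π := by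
  let f : ℤ →+ Additive K := zmultiplesHom _ (Additive.ofMul ⟨c, hc⟩)
  have hf : f n = 0 := by
    simp only [f, zmultiplesHom_apply, natCast_zsmul]
    exact congrArg Additive.ofMul (Subtype.ext (by simpa using hn) : (⟨c, hc⟩ : K) ^ n = 1)
  let φ := ZMod.lift n ⟨f, hf⟩
  refine ⟨AddMonoidHom.toMultiplicative φ, fun k => ?_⟩
  obtain ⟨i, hi⟩ := mem_zpowers_iff.1 (hK k.2)
  refine ⟨Multiplicative.ofAdd (i : ZMod n), Subtype.ext ?_⟩
  change ((φ (i : ZMod n)).toMul : K).1 = k
  rw [ZMod.lift_coe]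
  exact hi

theorem hasCyclic_one_of_ker_eq_bot {G : Type u} [Group G] [Finite G]
    (h : ∀ (Γ : Type u) [Group Γ] [Finite Γ] (σ : Γ →* G), Cfsg.IsStemExtension σ → σ.ker = ⊥) :
    Cfsg.HasCyclicSchurMultiplier G 1 := by
  refine ⟨⟨G, inferInstance, inferInstance, MonoidHom.id G, ⟨Function.surjective_id, ?_, ?_⟩, ?_⟩,
    fun Γ _ _ σ hσ => exists_surjection_zmod 1 (one_mem _) (one_pow _) (by rw [h Γ σ hσ]; exact bot_le)⟩
  · rw [MonoidHom.ker_id]; exact bot_le
  · rw [MonoidHom.ker_id]; exact bot_le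
  · haveI : Subsingleton (MonoidHom.id G).ker := by rw [MonoidHom.ker_id]; infer_instance
    letI : Unique (MonoidHom.id G).ker := ⟨⟨1⟩, fun _ => Subsingleton.elim _ _⟩
    exact ⟨MulEquiv.ofUnique⟩

theorem pow_commutator_right {a b : Δ} (hc : ⁅a, b⁆ ∈ center Δ) (k : ℕ) : ⁅a, b ^ k⁆ = ⁅a, b⁆ ^ k := by
  induction k with
  | zero => simp
  | succ k ih =>
    calc ⁅a, b ^ (k + 1)⁆ = ⁅a, b ^ k⁆ * (b ^ k * ⁅a, b⁆ * (b ^ k)⁻¹) := by
          simp only [commutatorElement_def, pow_succ, mul_inv_rev]; group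
      _ = ⁅a, b⁆ ^ (k + 1) := by
          rw [ih, mem_center_iff.1 hc, mul_inv_cancel_right, pow_succ]

/-- The kernel of a stem extension of an abelian group on two generators. -/
theorem abelian_two_generated {σ : Δ →* Q} (hσ : Cfsg.IsStemExtension σ)
    (hQ : ∀ x y : Q, x * y = y * x) {a b : Δ} (hgen : Subgroup.closure ({σ a, σ b} : Set Q) = ⊤)
    {n : ℕ} (hn : σ b ^ n = 1) :
    ∃ π : Multiplicative (ZMod n) →* σ.ker, Function.Surjective π := by
  have htop : Subgroup.closure ({a, b} : Set Δ) = ⊤ :=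
    closure_eq_top_of_lifts hσ (by rw [Set.image_pair]; exact hgen)
  have hc : ⁅a, b⁆ ∈ σ.ker := by
    rw [MonoidHom.mem_ker, map_commutatorElement, commutatorElement_eq_one_iff_mul_comm]
    exact hQ _ _
  have hcz := hσ.2.1 hc
  have hpow : ⁅a, b⁆ ^ n = 1 := by
    rw [← pow_commutator_right hcz, commutatorElement_eq_one_iff_mul_comm]
    exact mem_center_iff.1 (hσ.2.1 (by rw [MonoidHom.mem_ker, map_pow, hn])) a
  refine exists_surjection_zmod _ hc hpow (hσ.2.2.trans ?_)
  rw [_root_.commutator_def, ← htop]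
  refine commutator_closure_pair_le (fun g _ x hx => ?_) (mem_zpowers _)
  have hxc : x ∈ center Δ := zpowers_le.2 hcz hx
  rwa [mem_center_iff.1 hxc, mul_inv_cancel_right]

/-- Relations of dihedral type in a stem extension. -/
theorem dihedral_type {σ : Δ →* Q} (hσ : Cfsg.IsStemExtension σ) {a x : Δ}
    (hgen : Subgroup.closure ({σ x, σ a} : Set Q) = ⊤) (hrel : σ x * σ a * (σ x)⁻¹ * σ a = 1) {n : ℕ}
    (hcomm : Commute x (a ^ n)) (hfin : Finite Δ) :
    ∃ w : Δ, σ w = ((σ a) ^ 2)⁻¹ ∧ w ^ n = 1 ∧ σ.ker ≤ zpowers w := by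
  haveI := hfin
  set z := x * a * x⁻¹ * a with hz
  have hzk : z ∈ σ.ker := by
    rw [MonoidHom.mem_ker, hz]; simpa only [map_mul, map_inv] using hrel
  have hzc : ∀ g, Commute g z := fun g => mem_center_iff.1 (hσ.2.1 hzk) g
  have hxa : x * a * x⁻¹ = a⁻¹ * z := by
    rw [← (hzc a⁻¹).eq.symm, hz, mul_inv_cancel_right]
  set w := (a ^ 2)⁻¹ * z with hw
  have hwc : ⁅x, a⁆ = w := by
    rw [commutatorElement_def, hxa, hw, mul_assoc, ← (hzc a⁻¹).eq, ← mul_assoc, pow_two, mul_inv_rev]
  have han : a ^ n = (a⁻¹) ^ n * z ^ n := by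
    rw [← ((hzc a⁻¹)).mul_pow, ← hxa, conj_pow, hcomm.eq, mul_inv_cancel_right]
  have hwn : w ^ n = 1 := by
    rw [hw, (hzc _).mul_pow, inv_pow, ← pow_mul, two_mul, pow_add, inv_mul_eq_one]
    calc a ^ n * a ^ n = a ^ n * ((a⁻¹) ^ n * z ^ n) := by rw [← han]
      _ = z ^ n := by rw [inv_pow, mul_inv_cancel_left]
  refine ⟨w, ?_, hwn, hσ.2.2.trans ?_⟩
  · rw [hw, map_mul, MonoidHom.mem_ker.1 hzk, mul_one, map_inv, map_pow]
  have htop : Subgroup.closure ({x, a} : Set Δ) = ⊤ :=
    closure_eq_top_of_lifts hσ (by rw [Set.image_pair]; exact hgen)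
  have hconj_a : a * w * a⁻¹ = w := by
    have : Commute a w := (((Commute.refl a).pow_right 2).inv_right).mul_right (hzc a)
    rw [this.eq, mul_inv_cancel_right]
  have hconj_x : x * w * x⁻¹ = w⁻¹ := by
    calc x * w * x⁻¹ = ((x * a * x⁻¹) ^ 2)⁻¹ * (x * z * x⁻¹) := by
          rw [hw, conj_pow]; group
      _ = ((a⁻¹ * z) ^ 2)⁻¹ * z := by rw [hxa, (hzc x).eq, mul_inv_cancel_right]
      _ = z⁻¹ * a ^ 2 := by
          rw [(hzc a⁻¹).mul_pow, mul_inv_rev, inv_pow, inv_inv, mul_assoc, (hzc (a ^ 2)).eq, ← mul_assoc,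
            pow_two z, mul_inv_rev, mul_assoc z⁻¹, inv_mul_cancel, mul_one]
      _ = w⁻¹ := by simp only [hw, mul_inv_rev, inv_inv]
  have hle : Subgroup.closure ({x, a} : Set Δ) ≤ normalizer (zpowers w : Set Δ) := by
    refine (Subgroup.closure_le _).2 ?_
    rintro g (rfl | rfl) <;> refine mem_normalizer_fintype ?_ <;> rintro _ ⟨i, rfl⟩
    · exact ⟨-i, by simp only [← conj_zpow, hconj_x, inv_zpow, zpow_neg]⟩
    · exact ⟨i, by simp only [← conj_zpow, hconj_a]⟩
  rw [_root_.commutator_def, ← htop]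
  exact commutator_closure_pair_le
    (fun g hg y hy => (mem_normalizer_iff.1 (hle hg) y).1 hy) (hwc ▸ mem_zpowers w)

end Central

section Heisenberg

variable (m n : ℕ) (f : ZMod m →+* ZMod n)

/-- The Heisenberg group over a ring map `ZMod m →+* ZMod n`. -/
@[ext] structure Heis where
  /-- first coordinate -/
  x : ZMod m
  /-- second coordinate -/
  y : ZMod n
  /-- central coordinate -/
  z : ZMod n

/-- The element type tagged with the ring map. -/
def HeisG (_f : ZMod m →+* ZMod n) : Type := Heis m n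

instance : Mul (HeisG m n f) :=
  ⟨fun g h => (⟨g.x + h.x, g.y + h.y, g.z + h.z + f g.x * h.y⟩ : Heis m n)⟩
instance : One (HeisG m n f) := ⟨(⟨0, 0, 0⟩ : Heis m n)⟩
instance : Inv (HeisG m n f) := ⟨fun g => (⟨-g.x, -g.y, -g.z + f g.x * g.y⟩ : Heis m n)⟩

theorem HeisG.ext {g h : HeisG m n f} (hx : g.x = h.x) (hy : g.y = h.y) (hz : g.z = h.z) : g = h :=
  Heis.ext hx hy hz

instance : Group (HeisG m n f) :=
  Group.ofLeftAxioms
    (fun g h k => HeisG.ext m n f (add_assoc _ _ _) (add_assoc _ _ _) (by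
      change g.z + h.z + f g.x * h.y + k.z + f (g.x + h.x) * k.y =
        g.z + (h.z + k.z + f h.x * k.y) + f g.x * (h.y + k.y)
      rw [map_add]; ring))
    (fun g => HeisG.ext m n f (zero_add _) (zero_add _) (by
      change 0 + g.z + f 0 * g.y = g.z
      rw [map_zero]; ring))
    (fun g => HeisG.ext m n f (neg_add_cancel _) (neg_add_cancel _) (by
      change -g.z + f g.x * g.y + g.z + f (-g.x) * g.y = 0
      rw [map_neg]; ring))

/-- The equivalence with triples. -/
def HeisG.equivTriple : HeisG m n f ≃ ZMod m × ZMod n × ZMod n where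
  toFun g := (g.x, g.y, g.z)
  invFun t := (⟨t.1, t.2.1, t.2.2⟩ : Heis m n)
  left_inv _ := rfl
  right_inv _ := rfl

instance [NeZero m] [NeZero n] : Finite (HeisG m n f) :=
  Finite.of_equiv _ (HeisG.equivTriple m n f).symm

/-- The projection to the first two coordinates. -/
def HeisG.proj : HeisG m n f →* Multiplicative (ZMod m × ZMod n) where
  toFun g := Multiplicative.ofAdd (g.x, g.y)
  map_one' := rfl
  map_mul' _ _ := rfl

theorem HeisG.isStemExtension : Cfsg.IsStemExtension (HeisG.proj m n f) := by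
  refine ⟨fun t => ⟨(⟨t.toAdd.1, t.toAdd.2, 0⟩ : Heis m n), rfl⟩, fun g hg => ?_, fun g hg => ?_⟩
  · have h := congrArg Multiplicative.toAdd (MonoidHom.mem_ker.1 hg)
    have hx : g.x = 0 := congrArg Prod.fst h
    have hy : g.y = 0 := congrArg Prod.snd h
    refine mem_center_iff.2 fun w => HeisG.ext m n f (add_comm _ _) (add_comm _ _) ?_
    change w.z + g.z + f w.x * g.y = g.z + w.z + f g.x * w.y
    rw [hx, hy, map_zero]; ring
  · have h := congrArg Multiplicative.toAdd (MonoidHom.mem_ker.1 hg)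
    have hx : g.x = 0 := congrArg Prod.fst h
    have hy : g.y = 0 := congrArg Prod.snd h
    let a : HeisG m n f := (⟨1, 0, 0⟩ : Heis m n)
    let b : HeisG m n f := (⟨0, g.z, 0⟩ : Heis m n)
    have : ⁅a, b⁆ = g := by
      refine HeisG.ext m n f ?_ ?_ ?_
      · change (1 : ZMod m) + 0 + -1 + -0 = g.x
        rw [hx]; ring
      · change (0 : ZMod n) + g.z + -0 + -g.z = g.y
        rw [hy]; ring
      · change (0 : ZMod n) + 0 + f 1 * g.z + (-0 + f 1 * 0) + f (1 + 0) * -0 + (-0 + f 0 * g.z) +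
          f ((1 : ZMod m) + 0 + -1) * -g.z = g.z
        rw [show (1 : ZMod m) + 0 + -1 = 0 by ring, map_zero, add_zero, map_one]; ring
    rw [← this]
    exact commutator_mem_commutator (mem_top a) (mem_top b)

/-- The kernel of the projection. -/
def HeisG.kerEquiv : (HeisG.proj m n f).ker ≃* Multiplicative (ZMod n) where
  toFun g := Multiplicative.ofAdd g.1.z
  invFun t := ⟨(⟨0, 0, t.toAdd⟩ : Heis m n), rfl⟩
  left_inv g := Subtype.ext (HeisG.ext m n f
    (congrArg Prod.fst (congrArg Multiplicative.toAdd (MonoidHom.mem_ker.1 g.2))).symm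
    (congrArg Prod.snd (congrArg Multiplicative.toAdd (MonoidHom.mem_ker.1 g.2))).symm rfl)
  right_inv _ := rfl
  map_mul' g h := by
    have hx : g.1.x = 0 := congrArg Prod.fst (congrArg Multiplicative.toAdd (MonoidHom.mem_ker.1 g.2))
    change Multiplicative.ofAdd (g.1.z + h.1.z + f g.1.x * h.1.y) = Multiplicative.ofAdd (g.1.z + h.1.z)
    rw [hx, map_zero, zero_mul, add_zero]

end Heisenberg

section Pullback

variable {G : Type u} [CommGroup G] {V : Type v} [CommGroup V] {H : Type} [Group H]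

/-- Pulling back a stem extension along a surjection from an abelian group. -/
theorem exists_pullback [Finite G] [Finite H] (θ : G →* V) (hθ : Function.Surjective θ)
    (σ : H →* V) (hσ : Cfsg.IsStemExtension σ) :
    ∃ (X : Type u) (_ : Group X) (_ : Finite X) (ρ : X →* G),
      Cfsg.IsStemExtension ρ ∧ Nonempty (σ.ker ≃* ρ.ker) := by
  let X : Subgroup (G × H) := (θ.comp (MonoidHom.fst G H)).eqLocus (σ.comp (MonoidHom.snd G H))
  let ρ : X →* G := (MonoidHom.fst G H).comp X.subtype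
  have hρ : Function.Surjective ρ := fun g => by
    obtain ⟨h, hh⟩ := hσ.1 (θ g)
    exact ⟨⟨(g, h), hh.symm⟩, rfl⟩
  have hker : ∀ x : X, x ∈ ρ.ker → x.1.1 = 1 ∧ σ x.1.2 = 1 := fun x hx => by
    have h1 : x.1.1 = 1 := hx
    have h2 : θ x.1.1 = σ x.1.2 := x.2
    exact ⟨h1, by rw [← h2, h1, map_one]⟩
  refine ⟨X, inferInstance, inferInstance, ρ, ⟨hρ, fun x hx => ?_, fun x hx => ?_⟩, ⟨?_⟩⟩
  · obtain ⟨h1, h2⟩ := hker x hx
    refine mem_center_iff.2 fun y => Subtype.ext (Prod.ext (mul_comm _ _) ?_)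
    exact mem_center_iff.1 (hσ.2.1 h2) y.1.2
  · obtain ⟨h1, h2⟩ := hker x hx
    have hmem : ∀ h ∈ _root_.commutator H, ∃ y ∈ _root_.commutator X, (y : G × H) = (1, h) := by
      intro h hh
      rw [commutator_eq_closure] at hh
      induction hh using Subgroup.closure_induction with
      | mem c hc =>
        obtain ⟨u, w, rfl⟩ := hc
        obtain ⟨g1, hg1⟩ := hθ (σ u)
        obtain ⟨g2, hg2⟩ := hθ (σ w)
        refine ⟨⁅(⟨(g1, u), hg1⟩ : X), ⟨(g2, w), hg2⟩⁆, commutator_mem_commutator (mem_top _) (mem_top _), ?_⟩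
        exact Prod.ext (commutatorElement_eq_one_iff_mul_comm.2 (mul_comm g1 g2)) rfl
      | one => exact ⟨1, one_mem _, rfl⟩
      | mul c d _ _ ihc ihd =>
        obtain ⟨y, hy, hye⟩ := ihc
        obtain ⟨y', hy', hye'⟩ := ihd
        exact ⟨y * y', mul_mem hy hy', by rw [Subgroup.coe_mul, hye, hye', Prod.mk_mul_mk, one_mul]⟩
      | inv c _ ihc =>
        obtain ⟨y, hy, hye⟩ := ihc
        exact ⟨y⁻¹, inv_mem hy, by rw [Subgroup.coe_inv, hye, Prod.inv_mk, inv_one]⟩
    obtain ⟨y, hy, hye⟩ := hmem x.1.2 (hσ.2.2 h2)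
    rwa [show x = y from Subtype.ext (Prod.ext (by rw [hye]; exact h1) (by rw [hye]))]
  · exact
      { toFun := fun k => ⟨⟨(1, k.1), show θ 1 = σ k.1 by rw [map_one]; exact k.2.symm⟩, rfl⟩
        invFun := fun x => ⟨x.1.1.2, (hker x.1 x.2).2⟩
        left_inv := fun _ => rfl
        right_inv := fun x => Subtype.ext (Subtype.ext (Prod.ext (hker x.1 x.2).1.symm rfl))
        map_mul' := fun _ _ => Subtype.ext (Subtype.ext (Prod.ext (one_mul _).symm rfl)) }

end Pullback

/-- A non-cyclic finite abelian group maps onto a product of two groups of prime order. -/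
theorem exists_surjection_square {G : Type u} [CommGroup G] [Finite G] (h : ¬ IsCyclic G) :
    ∃ (p : ℕ) (θ : G →* Multiplicative (ZMod p × ZMod p)), p.Prime ∧ Function.Surjective θ := by
  classical
  obtain ⟨ι, hι, k, hk1, ⟨e⟩⟩ := CommGroup.equiv_prod_multiplicative_zmod_of_finite G
  have hne : ∀ i, NeZero (k i) := fun i => ⟨by have := hk1 i; omega⟩
  by_cases hex : ∃ i j, i ≠ j ∧ ¬ Nat.Coprime (k i) (k j)
  · obtain ⟨i, j, hij, hnc⟩ := hex
    obtain ⟨p, hp, hpi, hpj⟩ := Nat.Prime.not_coprime_iff_dvd.1 hnc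
    let θ₀ : ((l : ι) → Multiplicative (ZMod (k l))) →* Multiplicative (ZMod p × ZMod p) :=
      { toFun := fun t => Multiplicative.ofAdd
          (ZMod.castHom hpi (ZMod p) (t i).toAdd, ZMod.castHom hpj (ZMod p) (t j).toAdd)
        map_one' := by simp
        map_mul' := fun s t => congrArg Multiplicative.ofAdd (Prod.ext (map_add _ _ _) (map_add _ _ _)) }
    refine ⟨p, θ₀.comp e.toMonoidHom, hp, fun t => ?_⟩
    obtain ⟨u, hu⟩ := ZMod.castHom_surjective hpi t.toAdd.1
    obtain ⟨w, hw⟩ := ZMod.castHom_surjective hpj t.toAdd.2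
    let c : (l : ι) → Multiplicative (ZMod (k l)) :=
      Function.update (Pi.mulSingle i (Multiplicative.ofAdd u)) j (Multiplicative.ofAdd w)
    refine ⟨e.symm c, ?_⟩
    change θ₀ (e (e.symm c)) = t
    rw [e.apply_symm_apply]
    refine Multiplicative.toAdd.injective (Prod.ext ?_ ?_)
    · change ZMod.castHom hpi (ZMod p) (c i).toAdd = _
      rw [show c i = Multiplicative.ofAdd u by simp [c, Function.update_of_ne hij]]
      exact hu
    · change ZMod.castHom hpj (ZMod p) (c j).toAdd = _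
      rw [show c j = Multiplicative.ofAdd w by simp [c]]
      exact hw
  · push Not at hex
    haveI := hι
    haveI : IsCyclic ((l : ι) → Multiplicative (ZMod (k l))) := by
      rw [IsCyclic.iff_exponent_eq_card, Monoid.exponent_pi, Nat.card_pi]
      rw [Finset.lcm_eq_prod]
      · refine Finset.prod_congr rfl fun l _ => ?_
        rw [Monoid.exponent_multiplicative, ZMod.exponent, Nat.card_congr Multiplicative.toAdd, Nat.card_zmod]
      · intro a _ b _ hab
        simpa [Function.onFun, Monoid.exponent_multiplicative, ZMod.exponent] using hex a b hab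
    exact absurd (isCyclic_of_surjective e.symm e.symm.surjective) h

theorem dihedral_lifts {n : ℕ} [NeZero n] {Γ : Type u} [Group Γ] {σ : Γ →* DihedralGroup n}
    (hσ : Cfsg.IsStemExtension σ) {a x : Γ} (ha : σ a = DihedralGroup.r 1) (hx : σ x = DihedralGroup.sr 0) :
    Subgroup.closure ({σ x, σ a} : Set (DihedralGroup n)) = ⊤ ∧ σ x * σ a * (σ x)⁻¹ * σ a = 1 ∧
      Commute x (a ^ n) := by
  refine ⟨?_, ?_, ?_⟩
  · rw [eq_top_iff, ha, hx]
    rintro (i | i) _
    · have h : (DihedralGroup.r 1 : DihedralGroup n) ^ i.val = DihedralGroup.r i := by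
        rw [DihedralGroup.r_one_pow, ZMod.natCast_zmod_val]
      rw [← h]
      exact pow_mem (mem_pair_right _ _) _
    · have h : (DihedralGroup.sr 0 : DihedralGroup n) * DihedralGroup.r 1 ^ i.val = DihedralGroup.sr i := by
        rw [DihedralGroup.r_one_pow, DihedralGroup.sr_mul_r, zero_add, ZMod.natCast_zmod_val]
      rw [← h]
      exact mul_mem (mem_pair_left _ _) (pow_mem (mem_pair_right _ _) _)
  · rw [ha, hx, show (DihedralGroup.sr (0 : ZMod n))⁻¹ = DihedralGroup.sr 0 from
      inv_eq_of_mul_eq_one_right (by rw [DihedralGroup.sr_mul_sr, sub_zero]; rfl)]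
    simp only [DihedralGroup.sr_mul_r, DihedralGroup.sr_mul_sr, DihedralGroup.r_mul_r]
    rw [show (0 : ZMod n) - (0 + 1) + 1 = 0 by ring]
    rfl
  · have hz : a ^ n ∈ σ.ker := by rw [MonoidHom.mem_ker, map_pow, ha, DihedralGroup.r_one_pow_n]
    exact mem_center_iff.1 (hσ.2.1 hz) x

/-- The homomorphism from the dicyclic onto the dihedral group. -/
def dicyclicFun (n : ℕ) : QuaternionGroup n → DihedralGroup n
  | .a i => .r (ZMod.castHom (dvd_mul_left n 2) (ZMod n) i)
  | .xa i => .sr (ZMod.castHom (dvd_mul_left n 2) (ZMod n) i)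

theorem exists_dicyclic_stem (n : ℕ) [NeZero n] (hn : Even n) :
    ∃ σ : QuaternionGroup n →* DihedralGroup n, Cfsg.IsStemExtension σ ∧ Nat.card σ.ker = 2 := by
  set c := ZMod.castHom (dvd_mul_left n 2) (ZMod n)
  have hcn : c (n : ZMod (2 * n)) = 0 := by rw [map_natCast, ZMod.natCast_self]
  let σ : QuaternionGroup n →* DihedralGroup n :=
    { toFun := dicyclicFun n
      map_one' := congrArg DihedralGroup.r (map_zero c)
      map_mul' := by
        rintro (i | i) (j | j)
        · exact congrArg DihedralGroup.r (map_add c i j)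
        · exact congrArg DihedralGroup.sr (map_sub c j i)
        · exact congrArg DihedralGroup.sr (map_add c i j)
        · refine congrArg DihedralGroup.r ?_
          change c ((n : ZMod (2 * n)) + j - i) = c j - c i
          rw [map_sub, map_add, hcn, zero_add] }
  have hnn : (QuaternionGroup.a (n : ZMod (2 * n))) ∈ σ.ker := congrArg DihedralGroup.r hcn
  have hker : ∀ g, g ∈ σ.ker ↔ g = 1 ∨ g = QuaternionGroup.a (n : ZMod (2 * n)) := by
    intro g
    refine ⟨fun hg => ?_, ?_⟩
    · cases g with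
      | a i =>
        have h : c i = 0 := DihedralGroup.r.inj hg
        rw [← ZMod.natCast_zmod_val i, map_natCast, ZMod.natCast_eq_zero_iff] at h
        obtain ⟨k, hk⟩ := h
        have hlt := ZMod.val_lt i
        rw [hk] at hlt
        have hk2 : k < 2 := by nlinarith
        interval_cases k
        · left
          rw [← ZMod.natCast_zmod_val i, hk, mul_zero, Nat.cast_zero]; rfl
        · right
          rw [← ZMod.natCast_zmod_val i, hk, mul_one]
      | xa i => exact absurd (show DihedralGroup.sr (c i) = DihedralGroup.r 0 from hg) (fun h => nomatch h)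
    · rintro (rfl | rfl)
      exacts [one_mem _, hnn]
  have hne : (1 : QuaternionGroup n) ≠ QuaternionGroup.a (n : ZMod (2 * n)) := by
    intro h
    have h' : ((0 : ZMod (2 * n))) = (n : ZMod (2 * n)) := QuaternionGroup.a.inj h
    rw [eq_comm, ZMod.natCast_eq_zero_iff] at h'
    have := Nat.le_of_dvd (NeZero.pos n) h'
    have := NeZero.pos n
    omega
  refine ⟨σ, ⟨fun d => ?_, fun g hg => ?_, fun g hg => ?_⟩, ?_⟩
  · cases d with
    | r i => obtain ⟨j, rfl⟩ := ZMod.castHom_surjective (dvd_mul_left n 2) i; exact ⟨.a j, rfl⟩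
    | sr i => obtain ⟨j, rfl⟩ := ZMod.castHom_surjective (dvd_mul_left n 2) i; exact ⟨.xa j, rfl⟩
  · rcases (hker g).1 hg with rfl | rfl
    · exact one_mem _
    · refine mem_center_iff.2 ?_
      have h2 : (n : ZMod (2 * n)) + n = 0 := by
        rw [← Nat.cast_add, ← two_mul, ZMod.natCast_self]
      rintro (i | i)
      · exact congrArg QuaternionGroup.a (add_comm _ _)
      · refine congrArg QuaternionGroup.xa ?_
        change i + (n : ZMod (2 * n)) = i - n
        rw [sub_eq_add_neg, eq_neg_of_add_eq_zero_left h2, neg_neg]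
        exact congrArg (i + ·) (eq_neg_of_add_eq_zero_left h2).symm
  · rcases (hker g).1 hg with rfl | rfl
    · exact one_mem _
    · obtain ⟨m, rfl⟩ := hn
      have h : ⁅(QuaternionGroup.a (m : ZMod (2 * (m + m))) : QuaternionGroup (m + m)), QuaternionGroup.xa 0⁆ =
          QuaternionGroup.a ((m + m : ℕ) : ZMod (2 * (m + m))) := by
        have e1 : (QuaternionGroup.a (m : ZMod (2 * (m + m))) : QuaternionGroup (m + m))⁻¹ =
          QuaternionGroup.a (-(m : ZMod (2 * (m + m)))) := rfl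
        rw [commutatorElement_def, e1, mul_inv_eq_iff_eq_mul]
        simp only [QuaternionGroup.a_mul_xa, QuaternionGroup.xa_mul_a]
        exact congrArg QuaternionGroup.xa (by push_cast; ring)
      rw [← h]
      exact commutator_mem_commutator (mem_top _) (mem_top _)
  · rw [show Nat.card σ.ker = Nat.card ({1, QuaternionGroup.a (n : ZMod (2 * n))} : Set (QuaternionGroup n)) from
      Nat.card_congr (Equiv.subtypeEquivRight fun g => (hker g).trans Iff.rfl), Nat.card_coe_set_eq,
      Set.ncard_pair hne]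

end CfsgLib.Schur
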