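import Cfsg.Agent.Lib.PGroup.OmegaCentral
import Cfsg.Agent.Lib.Coprime.Action

/-!
A coprime operator fixing the elements of order `p` of a `p`-group, `p` odd, is trivial.
-/

set_option autoImplicit false

namespace CfsgLib.PGroup

open Subgroup
open scoped commutatorElement

variable {G : Type*} [Group G]

theorem commute_of_fix_omega_odd [Finite G] {p : ℕ} [hp : Fact p.Prime] (hp2 : p ≠ 2)
    {Q : Subgroup G} (hQ : IsPGroup p Q) {a : G} (ha : a ∈ normalizer (Q : Set G))
    (hap : ¬ p ∣ orderOf a) (hfix : ∀ x ∈ Q, x ^ p = 1 → Commute a x) :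
    ∀ x ∈ Q, Commute a x := by
  induction Q using WellFoundedLT.induction with
  | _ Q ih =>
    set A := zpowers a with hA
    have hAQ : A ≤ normalizer (Q : Set G) := zpowers_le.2 ha
    have hQn := hQ.isNilpotent
    have hcop : (Nat.card A).Coprime (Nat.card Q) := by
      obtain ⟨k, hk⟩ := IsPGroup.iff_card.1 hQ
      rw [hk, Nat.card_zpowers]
      exact ((hp.1.coprime_iff_not_dvd.2 hap).symm).pow_right k
    have hsolv : Group.IsSolvable A ∨ Group.IsSolvable Q := Or.inr inferInstance
    -- invariant proper subgroups are centralized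
    have key : ∀ R : Subgroup G, R < Q → a ∈ normalizer (R : Set G) →
        ⁅R, A⁆ = ⊥ := by
      intro R hR hRn
      rw [commutator_eq_bot_iff_le_centralizer]
      intro r hr
      have h := ih R hR (hQ.to_le hR.le) hRn (fun x hx => hfix x (hR.le hx)) r hr
      rw [mem_centralizer_iff]
      rintro _ ⟨k, rfl⟩
      exact (h.zpow_left k).eq
    by_cases hlt : ⁅Q, A⁆ < Q
    · have hn : a ∈ normalizer ((⁅Q, A⁆ : Subgroup G) : Set G) := by
        rw [mem_normalizer_iff_map_conj_eq, map_commutator,
          mem_normalizer_iff_map_conj_eq.1 ha,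
          mem_normalizer_iff_map_conj_eq.1 (le_normalizer (H := A) (mem_zpowers a))]
      have h1 := key _ hlt hn
      rw [CfsgLib.Coprime.commutator_commutator_eq hAQ hcop hsolv,
        commutator_eq_bot_iff_le_centralizer] at h1
      intro x hx
      exact (mem_centralizer_iff.1 (h1 hx) a (mem_zpowers a))
    have hle : ⁅Q, A⁆ ≤ Q := by
      conv_rhs => rw [← CfsgLib.Coprime.commutator_sup_centralizer hAQ hcop hsolv]
      exact le_sup_left
    have heq : ⁅Q, A⁆ = Q := eq_of_le_of_not_lt hle hlt
    rcases eq_or_ne Q ⊥ with hb | hb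
    · intro x hx
      rw [hb, mem_bot] at hx
      simp [hx]
    have hQ' : ⁅Q, Q⁆ < Q := by
      refine lt_of_le_of_ne (commutator_le.2 fun x hx y hy => ?_) ?_
      · rw [commutatorElement_def]
        exact mul_mem (mul_mem (mul_mem hx hy) (inv_mem hx)) (inv_mem hy)
      intro h
      have hnt : Nontrivial Q := (nontrivial_iff_ne_bot Q).2 hb
      have hc : commutator Q = ⊤ := by
        apply map_injective Q.subtype_injective
        rw [_root_.commutator_def, map_commutator, ← MonoidHom.range_eq_map, range_subtype, h]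
      exact (Group.IsSolvable.commutator_lt_top_of_nontrivial Q).ne hc
    have hQ'A : ⁅⁅Q, Q⁆, A⁆ = ⊥ := key _ hQ' (by
      rw [mem_normalizer_iff_map_conj_eq, map_commutator, mem_normalizer_iff_map_conj_eq.1 ha])
    set C := Q ⊓ centralizer (A : Set G) with hC
    have hCc : ⁅Q, C⁆ = ⊥ := by
      conv_lhs => rw [← heq]
      refine commutator_commutator_eq_bot_of_rotate ?_ ?_
      · have h : ⁅A, C⁆ = ⊥ := by
          rw [commutator_eq_bot_iff_le_centralizer, le_centralizer_iff]; exact inf_le_right
        rw [h, commutator_bot_left]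
      · exact le_bot_iff.1 (hQ'A ▸ commutator_mono (commutator_mono inf_le_left le_rfl) le_rfl)
    refine commute_of_fix_omega hp2 hQ (fun x hx hx1 y hy => ?_) ha hap hfix
    have hxC : x ∈ C := by
      refine ⟨hx, mem_centralizer_iff.2 ?_⟩
      rintro _ ⟨k, rfl⟩
      exact ((hfix x hx hx1).zpow_left k).eq
    exact (mem_centralizer_iff.1 (commutator_eq_bot_iff_le_centralizer.1 hCc hy) x hxC)

end CfsgLib.PGroup
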