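import Mathlib
import Cfsg.Agent.Lib.Coprime.UniqueOrderP
import Cfsg.Agent.Lib.Invol.BGroup

/-!
# `p`-groups in which subgroups of equal order are isomorphic
-/

set_option autoImplicit false
set_option linter.all false

namespace CfsgLib.PGroup

open Subgroup CfsgLib.Coprime
open scoped Pointwise

variable {P : Type*} [Group P] [Finite P] {p : ℕ} [Fact p.Prime]

theorem card_sup_zpowers_le (N : Subgroup P) {y : P} (hy : y ^ p = 1)
    (hnorm : ∀ a ∈ N, y * a * y⁻¹ ∈ N) : Nat.card ↥(N ⊔ zpowers y) ≤ Nat.card N * p := by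
  have hle : zpowers y ≤ normalizer (N : Set P) := by
    refine zpowers_le.2 (mem_normalizer_iff_map_conj_eq.2 ?_)
    refine eq_of_le_of_card_ge ?_ (le_of_eq (card_map_of_injective (MulEquiv.injective _)).symm)
    rintro _ ⟨a, ha, rfl⟩
    exact hnorm a ha
  have e := coe_mul_of_right_le_normalizer_left N (zpowers y) hle
  calc Nat.card ↥(N ⊔ zpowers y) = Nat.card ↥((N : Set P) * (zpowers y : Set P)) :=
        Nat.card_congr (Equiv.setCongr e)
    _ ≤ Nat.card N * Nat.card (zpowers y) := Set.natCard_mul_le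
    _ ≤ Nat.card N * p := by
        rw [Nat.card_zpowers]
        exact Nat.mul_le_mul_left _ (Nat.le_of_dvd (Fact.out : p.Prime).pos (orderOf_dvd_of_pow_eq_one hy))

/-- outside a proper normal subgroup of a `p`-group there is an element central modulo it -/
theorem exists_central_outside (hP : IsPGroup p P) (N : Subgroup P) [N.Normal] (hN : N ≠ ⊤) :
    ∃ x, x ∉ N ∧ ∀ y, x * y * x⁻¹ * y⁻¹ ∈ N := by
  haveI : Nontrivial (P ⧸ N) := by
    obtain ⟨g, -, hg⟩ := SetLike.exists_of_lt hN.lt_top
    exact ⟨⟨QuotientGroup.mk g, 1, fun e => hg ((QuotientGroup.eq_one_iff g).1 e)⟩⟩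
  haveI := (hP.to_quotient N).center_nontrivial
  obtain ⟨⟨q, hq⟩, hq1⟩ := exists_ne (1 : center (P ⧸ N))
  obtain ⟨x, rfl⟩ := QuotientGroup.mk_surjective q
  refine ⟨x, fun h => hq1 (Subtype.ext ((QuotientGroup.eq_one_iff x).2 h)), fun y => ?_⟩
  rw [← QuotientGroup.eq_one_iff]
  show (x : P ⧸ N) * (y : P ⧸ N) * (x : P ⧸ N)⁻¹ * (y : P ⧸ N)⁻¹ = 1
  rw [← (mem_center_iff.1 hq (y : P ⧸ N))]
  group

/-- The structure of a `p`-group in which subgroups of equal order are isomorphic. -/
theorem structure_of_iso_same_order (hP : IsPGroup p P)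
    (h : ∀ H K : Subgroup P, Nat.card H = Nat.card K → Nonempty (H ≃* K)) :
    IsCyclic P ∨ (IsMulCommutative P ∧ ∀ x : P, x ^ p = 1) ∨
      (p = 2 ∧ Nonempty (P ≃* QuaternionGroup 2)) ∨
      (p ≠ 2 ∧ ¬ IsMulCommutative P ∧ Nat.card P = p ^ 3 ∧ Monoid.exponent P = p) := by
  classical
  have hp := (Fact.out : p.Prime)
  by_cases hu : UniqueOrderP p P
  · rcases cyclic_or_quaternion_of_unique hP hu with hc | ⟨h2, n, ⟨e⟩⟩
    · exact Or.inl hc
    rcases n with _ | _ | n
    · refine Or.inl ?_
      haveI : IsCyclic (QuaternionGroup (2 ^ 0)) :=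
        isCyclic_iff_exists_orderOf_eq_natCard.2 ⟨.xa 0, by
          rw [QuaternionGroup.orderOf_xa, Nat.card_eq_fintype_card, QuaternionGroup.card]; norm_num⟩
      exact isCyclic_of_surjective e.symm.toMonoidHom e.symm.surjective
    · exact Or.inr (Or.inr (Or.inl ⟨h2, ⟨by simpa using e⟩⟩))
    exfalso
    subst h2
    set m := 2 ^ (n + 2) with hm
    have hm4 : 4 ≤ m := by
      rw [hm, pow_add]
      have : 1 ≤ 2 ^ n := Nat.one_le_two_pow
      omega
    haveI : NeZero m := ⟨by omega⟩
    have hcardP : Nat.card P = 4 * m := by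
      rw [Nat.card_congr e.toEquiv, Nat.card_eq_fintype_card, QuaternionGroup.card]
    set x := e.symm (QuaternionGroup.xa 0) with hx
    set a := e.symm (QuaternionGroup.a 1) with ha
    have hox : orderOf x = 4 := by rw [hx, MulEquiv.orderOf_eq, QuaternionGroup.orderOf_xa]
    have hoa : orderOf a = 2 * m := by rw [ha, MulEquiv.orderOf_eq, QuaternionGroup.orderOf_a_one]
    obtain ⟨M, hMc, hxM⟩ : ∃ M : Subgroup P, Nat.card M = 2 * m ∧ zpowers x ≤ M := by
      obtain ⟨K, hK, hle⟩ := Sylow.exists_subgroup_card_pow_prime_le 2 (n := 2) (m := n + 3)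
        (G := P) (by rw [hcardP, hm]; exact ⟨2, by ring⟩) (zpowers x)
        (by rw [Nat.card_zpowers, hox]; rfl) (by omega)
      exact ⟨K, by rw [hK, hm]; ring, hle⟩
    obtain ⟨f⟩ := h M (zpowers a) (by rw [hMc, Nat.card_zpowers, hoa])
    obtain ⟨g, hg⟩ : ∃ g : M, orderOf g = 2 * m := ⟨f.symm ⟨a, mem_zpowers a⟩, by
      rw [MulEquiv.orderOf_eq, ← Subgroup.orderOf_coe, hoa]⟩
    have hgen : zpowers g = ⊤ := eq_top_of_card_eq _ (by rw [Nat.card_zpowers, hg, hMc])
    obtain ⟨j, hj⟩ := mem_zpowers_iff.1 (hgen.ge (mem_top (⟨x, hxM (mem_zpowers x)⟩ : M)))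
    have hj' : (e (g : P)) ^ j = QuaternionGroup.xa 0 := by
      rw [← map_zpow, ← SubgroupClass.coe_zpow, hj]
      exact e.apply_symm_apply _
    rcases hcase : e (g : P) with i | i
    · have hpow : ∀ k : ℤ, ∃ l, (QuaternionGroup.a i : QuaternionGroup m) ^ k = QuaternionGroup.a l := by
        intro k
        induction k with
        | zero => exact ⟨0, rfl⟩
        | succ k ih =>
          obtain ⟨l, hl⟩ := ih
          exact ⟨l + i, by rw [_root_.zpow_add_one, hl, QuaternionGroup.a_mul_a]⟩
        | pred k ih =>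
          obtain ⟨l, hl⟩ := ih
          exact ⟨l - i, by
            rw [_root_.zpow_sub_one, hl, mul_inv_eq_iff_eq_mul, QuaternionGroup.a_mul_a, sub_add_cancel]⟩
      obtain ⟨l, hl⟩ := hpow j
      rw [hcase, hl] at hj'
      cases hj'
    · have h4 : orderOf (e (g : P)) = 4 := by rw [hcase, QuaternionGroup.orderOf_xa]
      rw [MulEquiv.orderOf_eq, Subgroup.orderOf_coe, hg] at h4
      omega
  -- exponent `p`
  have hexp : ∀ x : P, x ^ p = 1 := by
    by_contra hne
    push Not at hne
    obtain ⟨x, hx⟩ := hne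
    have hu' : ¬ UniqueOrderP p (⊤ : Subgroup P) := fun hh => hu fun a b ha hb ha1 => by
      obtain ⟨i, hi⟩ := hh ⟨a, mem_top a⟩ ⟨b, mem_top b⟩ (Subtype.ext ha) (Subtype.ext hb)
        (fun e => ha1 (congrArg Subtype.val e))
      exact ⟨i, by simpa using congrArg Subtype.val hi⟩
    obtain ⟨E, -, hEcard, hEexp, -⟩ :=
      CfsgLib.Invol.exists_elementary_card_sq (hP.to_subgroup (⊤ : Subgroup P)) hu'
    obtain ⟨k, hk⟩ := (IsPGroup.iff_orderOf.1 hP) x
    have hk2 : 2 ≤ k := by
      by_contra hlt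
      refine hx (orderOf_dvd_iff_pow_eq_one.1 ?_)
      rw [hk]
      exact (pow_dvd_pow p (show k ≤ 1 by omega)).trans (by rw [pow_one])
    set a := x ^ p ^ (k - 2) with ha
    have hao : orderOf a = p ^ 2 := by
      rw [ha, orderOf_pow_of_dvd (pow_ne_zero _ hp.ne_zero) (hk ▸ pow_dvd_pow p (Nat.sub_le k 2)),
        hk, Nat.pow_div (Nat.sub_le k 2) hp.pos, Nat.sub_sub_self hk2]
    obtain ⟨f⟩ := h (zpowers a) E (by rw [Nat.card_zpowers, hao, hEcard])
    have h1 : (⟨a, mem_zpowers a⟩ : zpowers a) ^ p = 1 := by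
      refine f.injective ?_
      rw [map_pow, map_one]
      exact Subtype.ext (hEexp _ (f _).2)
    have h2 := orderOf_dvd_of_pow_eq_one (congrArg Subtype.val h1 : a ^ p = 1)
    rw [hao, ← pow_one p, ← pow_mul, Nat.pow_dvd_pow_iff_le_right hp.one_lt] at h2
    omega
  by_cases hcm : IsMulCommutative P
  · exact Or.inr (Or.inl ⟨hcm, hexp⟩)
  have hp2 : p ≠ 2 := fun e => hcm ⟨⟨fun a b => by
    have hinv : ∀ c : P, c⁻¹ = c := fun c => inv_eq_of_mul_eq_one_right (by rw [← sq, ← e, hexp])
    calc a * b = (a * b)⁻¹ := (hinv _).symm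
      _ = b⁻¹ * a⁻¹ := _root_.mul_inv_rev a b
      _ = b * a := by rw [hinv, hinv]⟩⟩
  -- central element of order p and an element central modulo it
  have hord : ∀ g : P, g ≠ 1 → orderOf g = p := fun g hg => orderOf_eq_prime (hexp g) hg
  obtain ⟨n, hn⟩ := IsPGroup.iff_card.1 hP
  have hZtop : center P ≠ ⊤ := fun e => hcm ⟨⟨fun a b => (mem_center_iff.1 (e.ge (mem_top b)) a)⟩⟩
  obtain ⟨x, hxZ, hxy⟩ := exists_central_outside hP (center P) hZtop
  obtain ⟨y, hy⟩ : ∃ y, x * y ≠ y * x := by
    by_contra hh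
    push Not at hh
    exact hxZ (mem_center_iff.2 fun g => (hh g).symm)
  set z := x * y * x⁻¹ * y⁻¹ with hz
  have hzZ : z ∈ center P := hxy y
  have hz1 : z ≠ 1 := fun e => hy (by
    rw [hz, mul_inv_eq_one, mul_inv_eq_iff_eq_mul] at e
    exact e)
  have hzc : ∀ g, g * z = z * g := fun g => mem_center_iff.1 hzZ g
  set A := zpowers z ⊔ zpowers x with hA
  have hAK : ∀ a ∈ A, y * a * y⁻¹ ∈ A := by
    have hle : A ≤ A.comap (MulAut.conj y).toMonoidHom := by
      refine sup_le (zpowers_le.2 ?_) (zpowers_le.2 ?_)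
      · show y * z * y⁻¹ ∈ A
        rw [hzc, mul_inv_cancel_right]
        exact mem_sup_left (mem_zpowers z)
      · show y * x * y⁻¹ ∈ A
        have e : y * x * y⁻¹ = z⁻¹ * x := by rw [hz]; group
        rw [e]
        exact mul_mem (mem_sup_left (inv_mem (mem_zpowers z))) (mem_sup_right (mem_zpowers x))
    exact fun a ha => hle ha
  set K := A ⊔ zpowers y with hK
  have hKle : Nat.card K ≤ p ^ 3 := by
    have h1 := card_sup_zpowers_le A (hexp y) hAK
    have h2 := card_sup_zpowers_le (zpowers z) (hexp x) (fun a ha => by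
      obtain ⟨i, rfl⟩ := ha
      have e : Commute x (z ^ i) := (show Commute x z from hzc x).zpow_right i
      rw [e.eq, mul_inv_cancel_right]
      exact ⟨i, rfl⟩)
    rw [Nat.card_zpowers, hord z hz1] at h2
    calc Nat.card K ≤ Nat.card A * p := h1
      _ ≤ p * p * p := Nat.mul_le_mul_right p h2
      _ = p ^ 3 := by ring
  -- the order is at least p³
  have hn3 : 3 ≤ n := by
    by_contra hlt
    refine hcm ?_
    rcases (show n = 0 ∨ n = 1 ∨ n = 2 by omega) with rfl | rfl | rfl
    · haveI := (Nat.card_eq_one_iff_unique.1 (hn.trans (pow_zero p))).1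
      exact ⟨⟨fun a b => Subsingleton.elim _ _⟩⟩
    · haveI := isCyclic_of_prime_card (hn.trans (pow_one p))
      infer_instance
    · exact ⟨⟨IsPGroup.commutative_of_card_eq_prime_sq hn⟩⟩
  refine Or.inr (Or.inr (Or.inr ⟨hp2, hcm, ?_, ?_⟩))
  · by_contra hne
    have hn4 : 4 ≤ n := by
      rcases eq_or_lt_of_le hn3 with e | e
      · exact absurd (hn.trans (by rw [← e])) hne
      · omega
    -- an abelian subgroup of order p³
    obtain ⟨B, hB, hBc⟩ : ∃ B : Subgroup P, Nat.card B = p ^ 3 ∧ IsMulCommutative B := by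
      haveI : (zpowers z).Normal := ⟨fun w hw g => by
        obtain ⟨i, rfl⟩ := hw
        rw [((show Commute g z from hzc g).zpow_right i).eq, mul_inv_cancel_right]
        exact ⟨i, rfl⟩⟩
      have hne' : zpowers z ≠ ⊤ := fun e => by
        have h1 : Nat.card (zpowers z) = Nat.card P := by rw [e, card_top]
        rw [Nat.card_zpowers, hord z hz1, hn] at h1
        have : p ^ 1 < p ^ n := Nat.pow_lt_pow_right hp.one_lt (by omega)
        rw [pow_one] at this
        omega
      obtain ⟨w, hwN, hw⟩ := exists_central_outside hP (zpowers z) hne'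
      let φ : P →* P :=
        { toFun := fun g => w * g * w⁻¹ * g⁻¹
          map_one' := by group
          map_mul' := fun a b => by
            obtain ⟨i, hi⟩ := hw b
            have hc : Commute a (w * b * w⁻¹ * b⁻¹) := by
              rw [← hi]; exact (show Commute a z from hzc a).zpow_right i
            calc w * (a * b) * w⁻¹ * (a * b)⁻¹
                = (w * a * w⁻¹) * (w * b * w⁻¹ * b⁻¹ * a⁻¹) := by group
              _ = (w * a * w⁻¹) * (a⁻¹ * (w * b * w⁻¹ * b⁻¹)) := by rw [hc.inv_left.eq]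
              _ = (w * a * w⁻¹ * a⁻¹) * (w * b * w⁻¹ * b⁻¹) := by group }
      have hker : ∀ g, g ∈ φ.ker → g * w = w * g := fun g hg => by
        have e : w * g * w⁻¹ * g⁻¹ = 1 := hg
        rw [mul_inv_eq_one, mul_inv_eq_iff_eq_mul] at e
        exact e.symm
      have hcard : p ^ 3 ≤ Nat.card φ.ker := by
        have h1 : Nat.card φ.range ≤ p := by
          have hle : φ.range ≤ zpowers z := by rintro _ ⟨g, rfl⟩; exact hw g
          have h2 := card_le_of_le hle
          rwa [Nat.card_zpowers, hord z hz1] at h2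
        have h3 := φ.ker.card_mul_index
        rw [Subgroup.index_ker, hn] at h3
        have h4 : p ^ 4 ≤ p ^ n := Nat.pow_le_pow_right hp.pos hn4
        have h5 : Nat.card φ.ker * Nat.card φ.range ≤ Nat.card φ.ker * p := Nat.mul_le_mul_left _ h1
        have e4 : p ^ 4 = p ^ 3 * p := by ring
        exact Nat.le_of_mul_le_mul_right (by rw [← e4]; omega) hp.pos
      set A' := zpowers z ⊔ zpowers w with hA'
      have hA'le : Nat.card A' ≤ p * p := by
        have h2 := card_sup_zpowers_le (zpowers z) (hexp w) (fun a ha => by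
          obtain ⟨i, rfl⟩ := ha
          rw [((show Commute w z from hzc w).zpow_right i).eq, mul_inv_cancel_right]
          exact ⟨i, rfl⟩)
        rwa [Nat.card_zpowers, hord z hz1] at h2
      obtain ⟨t, htk, htA⟩ : ∃ t ∈ φ.ker, t ∉ A' := by
        by_contra hh
        push Not at hh
        have h2 := card_le_of_le (show φ.ker ≤ A' from hh)
        have h3 : p * p < p ^ 3 := by
          rw [show p * p = p ^ 2 by ring]; exact Nat.pow_lt_pow_right hp.one_lt (by norm_num)
        omega
      have hwt : t * w = w * t := hker t htk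
      set B := A' ⊔ zpowers t with hB
      have hA'B : A' < B := lt_of_le_of_ne le_sup_left fun e => htA (e ▸ mem_sup_right (mem_zpowers t))
      have hA'ge : p ^ 2 ≤ Nat.card A' := by
        obtain ⟨j, hj⟩ := IsPGroup.iff_card.1 (hP.to_subgroup A')
        rcases Nat.lt_or_ge j 2 with hlt | hge
        · exfalso
          have h3 : Nat.card A' ≤ p := by
            rw [hj]; calc p ^ j ≤ p ^ 1 := Nat.pow_le_pow_right hp.pos (by omega)
              _ = p := pow_one p
          have e : zpowers z = A' := eq_of_le_of_card_ge le_sup_left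
            (by rw [Nat.card_zpowers, hord z hz1]; exact h3)
          exact hwN (e.ge (mem_sup_right (mem_zpowers w)))
        · rw [hj]; exact Nat.pow_le_pow_right hp.pos hge
      have hcomm : IsMulCommutative B := by
        have e : B = closure ({z, w, t} : Set P) := by
          rw [hB, hA', zpowers_eq_closure, zpowers_eq_closure, zpowers_eq_closure, ← Subgroup.closure_union,
            ← Subgroup.closure_union]
          congr 1
          ext u; simp [or_assoc, or_comm, or_left_comm]
        rw [e]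
        refine isMulCommutative_closure ?_
        simp only [Set.mem_insert_iff, Set.mem_singleton_iff]
        rintro u (rfl | rfl | rfl) v (rfl | rfl | rfl) <;>
          first | rfl | exact hzc _ | exact (hzc _).symm | exact hwt | exact hwt.symm
      refine ⟨B, ?_, hcomm⟩
      have hBle : Nat.card B ≤ p ^ 3 := by
        have h2 := card_sup_zpowers_le A' (hexp t) (fun a ha => by
          have e : t * a = a * t := by
            have := hcomm.is_comm.comm (⟨t, mem_sup_right (mem_zpowers t)⟩ : B) ⟨a, mem_sup_left ha⟩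
            exact congrArg Subtype.val this
          rw [e, mul_inv_cancel_right]
          exact ha)
        calc Nat.card B ≤ Nat.card A' * p := h2
          _ ≤ p * p * p := Nat.mul_le_mul_right p hA'le
          _ = p ^ 3 := by ring
      obtain ⟨j, hj⟩ := IsPGroup.iff_card.1 (hP.to_subgroup B)
      have hgt : Nat.card A' < Nat.card B :=
        Nat.lt_of_le_of_ne (card_le_of_le hA'B.le) fun e' => hA'B.ne (eq_of_le_of_card_ge hA'B.le e'.ge)
      rw [hj] at hgt hBle ⊢
      have hj2 : 2 < j := (Nat.pow_lt_pow_iff_right hp.one_lt).1 (lt_of_le_of_lt hA'ge hgt)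
      have hj3 : j ≤ 3 := (Nat.pow_le_pow_iff_right hp.one_lt).1 hBle
      rw [show j = 3 by omega]
    obtain ⟨j, hj⟩ := IsPGroup.iff_card.1 (hP.to_subgroup K)
    have hj3 : j ≤ 3 := (Nat.pow_le_pow_iff_right hp.one_lt).1 (hj ▸ hKle)
    obtain ⟨L, hL, hKL⟩ := Sylow.exists_subgroup_card_pow_prime_le p (n := j) (m := 3) (G := P)
      (by rw [hn]; exact pow_dvd_pow p hn3) K hj hj3
    obtain ⟨f⟩ := h L B (by rw [hL, hB])
    have hxL : x ∈ L := hKL (mem_sup_left (mem_sup_right (mem_zpowers x)))
    have hyL : y ∈ L := hKL (mem_sup_right (mem_zpowers y))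
    have e : (⟨x, hxL⟩ : L) * ⟨y, hyL⟩ = ⟨y, hyL⟩ * ⟨x, hxL⟩ := f.injective (by
      rw [map_mul, map_mul]
      exact hBc.is_comm.comm _ _)
    exact hy (congrArg Subtype.val e)
  · refine Nat.dvd_antisymm (Monoid.exponent_dvd_of_forall_pow_eq_one hexp) ?_
    rw [← hord z hz1]
    exact Monoid.order_dvd_exponent z

end CfsgLib.PGroup
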