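import Cfsg.Agent.Lib.PGroup.Basic
import Cfsg.Agent.Lib.Coprime.Core
import Cfsg.Agent.Lib.Coprime.SchurZassenhaus

/-!
# The subnormalizer of a `p`-subgroup and Casolo's counting formula
-/

set_option autoImplicit false
set_option linter.style.haveILetI false
set_option linter.unusedSectionVars false

open Subgroup

namespace CfsgLib.Subnormalizer

universe u

/-- `H` is subnormal in `⟨H, g⟩`. -/
def Sn {G : Type u} [Group G] (H : Subgroup G) (g : G) : Prop :=
  (H.subgroupOf (H ⊔ zpowers g)).IsSubnormal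

section basic

variable {G : Type u} [Group G] [Finite G] {p : ℕ} [Fact p.Prime]

theorem lt_inf_normalizer {H R : Subgroup G} (hR : IsPGroup p R) (hlt : H < R) :
    H < R ⊓ normalizer (H : Set G) := by
  haveI : Group.IsNilpotent R := hR.isNilpotent
  have hne : H.subgroupOf R ≠ ⊤ := fun e => hlt.not_ge (subgroupOf_eq_top.1 e)
  have h1 := normalizerCondition_of_isNilpotent (G := R) (H.subgroupOf R) (lt_top_iff_ne_top.2 hne)
  rw [← subgroupOf_normalizer_eq hlt.le] at h1
  refine lt_of_le_of_ne (le_inf hlt.le le_normalizer) fun e => h1.ne ?_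
  ext x
  simp only [mem_subgroupOf]
  exact ⟨fun hx => le_normalizer hx, fun hx => e.ge ⟨x.2, hx⟩⟩

/-- The criterion for `Sn`. -/
theorem sn_iff {H : Subgroup G} (hH : IsPGroup p H) (g : G) :
    Sn H g ↔ ∃ R : Subgroup G, H ≤ R ∧ IsPGroup p R ∧ g ∈ normalizer (R : Set G) := by
  set X := H ⊔ zpowers g with hX
  constructor
  · intro h
    have hle := CfsgLib.Coprime.le_pCore_of_isSubnormal h
      (hH.of_equiv (subgroupOfEquivOfLe (le_sup_left : H ≤ X)).symm)
    refine ⟨(Cfsg.pCore p X).map X.subtype, ?_,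
      (CfsgLib.PGroup.isPGroup_pCore p X).map _, ?_⟩
    · have := map_mono (f := X.subtype) hle
      rwa [map_subgroupOf_eq_of_le le_sup_left] at this
    · exact le_normalizer_map X.subtype
        (mem_map_of_mem X.subtype (show (⟨g, mem_sup_right (mem_zpowers g)⟩ : X) ∈
          normalizer (Cfsg.pCore p X : Set X) by rw [normalizer_eq_top]; exact mem_top _))
  · rintro ⟨R, hHR, hR, hg⟩
    have hXN : X ≤ normalizer (R : Set G) := sup_le (hHR.trans le_normalizer) (zpowers_le.2 hg)
    have hn : (R.subgroupOf X).Normal := normal_subgroupOf_of_le_normalizer hXN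
    haveI : Group.IsNilpotent ↥(R.subgroupOf X) :=
      IsPGroup.isNilpotent (hR.comap_of_injective X.subtype X.subtype_injective)
    refine Subgroup.IsSubnormal.trans
      (show H.subgroupOf X ≤ R.subgroupOf X from fun x hx => hHR hx)
      (CfsgLib.PGroup.isSubnormal_of_isNilpotent _) (Subgroup.Normal.isSubnormal hn)

theorem sn_of_mem_normalizer {H : Subgroup G} (hH : IsPGroup p H) {g : G}
    (hg : g ∈ normalizer (H : Set G)) : Sn H g := (sn_iff hH g).2 ⟨H, le_rfl, hH, hg⟩

theorem sn_mono {H K : Subgroup G} (hH : IsPGroup p H) (hK : IsPGroup p K) (hle : H ≤ K) {g : G}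
    (h : Sn K g) : Sn H g := by
  obtain ⟨R, hKR, hR, hg⟩ := (sn_iff hK g).1 h
  exact (sn_iff hH g).2 ⟨R, hle.trans hKR, hR, hg⟩

/-- The smallest `g`-invariant overgroup. -/
theorem exists_least_invariant (H : Subgroup G) (g : G) :
    ∃ U : Subgroup G, H ≤ U ∧ g ∈ normalizer (U : Set G) ∧
      ∀ R : Subgroup G, H ≤ R → g ∈ normalizer (R : Set G) → U ≤ R := by
  refine ⟨⨆ i : ℤ, CfsgLib.Coprime.conjBy (g ^ i) H, ?_, ?_, fun R hR hg => ?_⟩
  · refine le_iSup_of_le 0 ?_
    rw [zpow_zero, CfsgLib.Coprime.conjBy_one]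
  · rw [← CfsgLib.Coprime.conjBy_eq_self_iff]
    show (⨆ i : ℤ, CfsgLib.Coprime.conjBy (g ^ i) H).map (MulAut.conj g).toMonoidHom = _
    rw [Subgroup.map_iSup]
    refine le_antisymm (iSup_le fun i => le_iSup_of_le (i + 1) (le_of_eq ?_))
      (iSup_le fun i => le_iSup_of_le (i - 1) (le_of_eq ?_))
    · show CfsgLib.Coprime.conjBy g (CfsgLib.Coprime.conjBy (g ^ i) H) = _
      rw [CfsgLib.Coprime.conjBy_conjBy, add_comm, zpow_one_add]
    · show _ = CfsgLib.Coprime.conjBy g (CfsgLib.Coprime.conjBy (g ^ (i - 1)) H)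
      rw [CfsgLib.Coprime.conjBy_conjBy, ← zpow_one_add, add_sub_cancel]
  · refine iSup_le fun i => ?_
    exact (map_mono hR).trans_eq
      (CfsgLib.Coprime.conjBy_eq_self_iff.2 ((normalizer (R : Set G)).zpow_mem hg i))

theorem eq_or_lt_sylow {H : Subgroup G} (hH : IsPGroup p H) :
    ∃ Q : Sylow p G, H ≤ Q := hH.exists_le_sylow

end basic

/-- Weights summing to one below every element. -/
theorem exists_weights (α : Type*) [Fintype α] [PartialOrder α]
    [DecidableRel ((· ≤ ·) : α → α → Prop)] :
    ∃ w : α → ℤ, ∀ x, ∑ y ∈ Finset.univ.filter (· ≤ x), w y = 1 := by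
  classical
  have wf : WellFounded (fun a b : α => a < b) := wellFounded_lt
  let F : (x : α) → ((y : α) → y < x → ℤ) → ℤ := fun x f =>
    1 - ∑ y : {y : α // y < x}, f y.1 y.2
  refine ⟨wf.fix F, fun x => ?_⟩
  have he : wf.fix F x = F x fun y _ => wf.fix F y := wf.fix_eq F x
  have hsplit : Finset.univ.filter (· ≤ x) = insert x (Finset.univ.filter (· < x)) := by
    ext y
    simp [le_iff_eq_or_lt]
  rw [hsplit, Finset.sum_insert (by simp), he]
  simp only [F]
  rw [← Finset.sum_subtype (p := fun y => y < x) (Finset.univ.filter (· < x)) (by simp)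
    (fun y => wf.fix F y)]
  ring

/-- Such weights sum to one over a cone. -/
theorem sum_cone_eq_one {α : Type*} [Fintype α] [PartialOrder α]
    [DecidableRel ((· ≤ ·) : α → α → Prop)] {w : α → ℤ}
    (hw : ∀ x, ∑ y ∈ Finset.univ.filter (· ≤ x), w y = 1) (s : Finset α) (T : α) (hT : T ∈ s)
    (hdown : ∀ x ∈ s, ∀ y, y ≤ x → y ∈ s) (c : α → α)
    (hc : ∀ x ∈ s, c x ∈ s ∧ x ≤ c x ∧ T ≤ c x ∧ ∀ y ∈ s, x ≤ y → T ≤ y → c x ≤ y) :
    ∑ x ∈ s, w x = 1 := by
  classical
  let t := s.filter (fun U => T ≤ U)
  let v : α → ℤ := fun U => ∑ x ∈ s.filter (fun x => c x = U), w x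
  have hv : ∀ U ∈ t, v U = if U = T then 1 else 0 := by
    intro U
    induction U using WellFoundedLT.induction with
    | ind U ih =>
      intro hU
      rw [Finset.mem_filter] at hU
      obtain ⟨hUs, hTU⟩ := hU
      have h1 : ∑ x ∈ Finset.univ.filter (· ≤ U), w x = ∑ V ∈ t.filter (· ≤ U), v V := by
        rw [← Finset.sum_fiberwise_of_maps_to (s := Finset.univ.filter (· ≤ U))
          (t := t.filter (· ≤ U)) (g := c) (f := w)]
        · refine Finset.sum_congr rfl fun V hV => Finset.sum_congr ?_ fun _ _ => rfl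
          ext x
          simp only [Finset.mem_filter, Finset.mem_univ, true_and] at hV ⊢
          refine ⟨fun hx => ⟨hdown U hUs x hx.1, hx.2⟩, fun hx => ⟨?_, hx.2⟩⟩
          exact (hc x hx.1).2.1.trans (hx.2 ▸ hV.2)
        · intro x hx
          simp only [Finset.mem_filter, Finset.mem_univ, true_and, t] at hx ⊢
          have hxs := hdown U hUs x hx
          exact ⟨⟨(hc x hxs).1, (hc x hxs).2.2.1⟩, (hc x hxs).2.2.2 U hUs hx hTU⟩
      rw [hw U] at h1
      have hUt : U ∈ t.filter (· ≤ U) := by simp [t, hUs, hTU]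
      rw [← Finset.add_sum_erase _ _ hUt] at h1
      have h2 : ∑ V ∈ (t.filter (· ≤ U)).erase U, v V = if U = T then 0 else 1 := by
        rw [Finset.sum_congr rfl (fun V hV => ih V (lt_of_le_of_ne
          (Finset.mem_filter.1 (Finset.mem_of_mem_erase hV)).2 (Finset.ne_of_mem_erase hV))
          (Finset.mem_filter.1 (Finset.mem_of_mem_erase hV)).1), Finset.sum_ite_eq']
        by_cases hUT : U = T
        · simp [hUT]
        · rw [if_neg hUT, if_pos]
          simp only [Finset.mem_erase, Finset.mem_filter, t]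
          exact ⟨fun e => hUT e.symm, ⟨hT, le_rfl⟩, hTU⟩
      rw [h2] at h1
      split_ifs at h1 ⊢ <;> omega
  rw [← Finset.sum_fiberwise_of_maps_to (s := s) (t := t) (g := c) (f := w)
    (fun x hx => Finset.mem_filter.2 ⟨(hc x hx).1, (hc x hx).2.2.1⟩)]
  rw [Finset.sum_congr rfl hv, Finset.sum_ite_eq', if_pos]
  exact Finset.mem_filter.2 ⟨hT, le_rfl⟩

/-- Casolo's formula. -/
theorem card_sn_eq (p : ℕ) [Fact p.Prime] : ∀ (k : ℕ) (G : Type u) [Group G] [Finite G]
    (H : Subgroup G), H.index = k → IsPGroup p H → ∀ P : Sylow p G,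
    Nat.card {g : G // Sn H g} =
      Nat.card {Q : Sylow p G // H ≤ (Q : Subgroup G)} *
        Nat.card (normalizer ((P : Subgroup G) : Set G)) := by
  intro k
  induction k using Nat.strongRecOn with
  | ind k ih =>
    intro G _ _ H hk hH P
    classical
    by_cases hSyl : ∃ Q : Sylow p G, H = (Q : Subgroup G)
    · obtain ⟨Q, rfl⟩ := hSyl
      have h1 : ∀ g : G, Sn (Q : Subgroup G) g ↔ g ∈ normalizer ((Q : Subgroup G) : Set G) := by
        refine fun g => ⟨fun h => ?_, fun h => sn_of_mem_normalizer Q.2 h⟩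
        obtain ⟨R, hQR, hR, hg⟩ := (sn_iff Q.2 g).1 h
        rwa [Q.3 hR hQR] at hg
      have h2 : Nat.card {R : Sylow p G // (Q : Subgroup G) ≤ (R : Subgroup G)} = 1 := by
        rw [Nat.card_eq_one_iff_unique]
        refine ⟨⟨fun a b => Subtype.ext (Sylow.ext ?_)⟩, ⟨⟨Q, le_rfl⟩⟩⟩
        rw [Q.3 a.1.2 a.2, Q.3 b.1.2 b.2]
      rw [h2, one_mul, Nat.card_congr (Equiv.subtypeEquivRight h1)]
      obtain ⟨x, hx⟩ := MulAction.exists_smul_eq G P Q
      rw [← hx]
      have e : normalizer (((x • P : Sylow p G) : Subgroup G) : Set G) =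
          CfsgLib.Coprime.conjBy x (normalizer ((P : Subgroup G) : Set G)) :=
        (map_equiv_normalizer_eq _ (MulAut.conj x)).symm
      show Nat.card ↥(normalizer (((x • P : Sylow p G) : Subgroup G) : Set G)) = _
      rw [e, CfsgLib.Coprime.card_conjBy]
    push Not at hSyl
    letI := Fintype.ofFinite G
    set N := normalizer (H : Set G) with hN
    let α := {K : Subgroup G // IsPGroup p K ∧ H < K ∧ K ≤ N}
    letI : Fintype α := Fintype.ofFinite α
    obtain ⟨w, hw⟩ := exists_weights α
    -- the Sylow subgroups above `H` give one each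
    have hsylT : ∀ Q : Subgroup G, IsPGroup p Q → H < Q →
        ∑ K ∈ Finset.univ.filter (fun K : α => K.1 ≤ Q), w K = 1 := by
      intro Q hQ hlt
      let T : α := ⟨Q ⊓ N, hQ.to_le inf_le_left, lt_inf_normalizer hQ hlt, inf_le_right⟩
      rw [← hw T]
      refine Finset.sum_congr ?_ fun _ _ => rfl
      ext K
      simp only [Finset.mem_filter, Finset.mem_univ, true_and]
      exact ⟨fun h => (le_inf h K.2.2.2 : K.1 ≤ Q ⊓ N), fun h => le_trans (h : K.1 ≤ Q ⊓ N) inf_le_left⟩
    -- the count in the whole group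
    have hA : ∀ K : α, (Nat.card {g : G // Sn K.1 g} : ℤ) =
        Nat.card {Q : Sylow p G // K.1 ≤ (Q : Subgroup G)} *
          Nat.card (normalizer ((P : Subgroup G) : Set G)) := by
      intro K
      exact_mod_cast ih _ (hk ▸ index_strictAnti K.2.2.1) G K.1 rfl K.2.1 P
    have hsum : ∑ K : α, w K * (Nat.card {g : G // Sn K.1 g} : ℤ) =
        Nat.card {Q : Sylow p G // H ≤ (Q : Subgroup G)} *
          Nat.card (normalizer ((P : Subgroup G) : Set G)) := by
      letI := Fintype.ofFinite (Sylow p G)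
      simp only [hA]
      generalize (Nat.card (normalizer ((P : Subgroup G) : Set G)) : ℤ) = nP
      rw [show (Nat.card {Q : Sylow p G // H ≤ (Q : Subgroup G)} : ℤ) =
        ∑ Q ∈ Finset.univ.filter (fun Q : Sylow p G => H ≤ (Q : Subgroup G)),
          ∑ K ∈ Finset.univ.filter (fun K : α => K.1 ≤ (Q : Subgroup G)), w K by
          rw [Finset.sum_congr rfl (fun (Q : Sylow p G) hQ =>
            hsylT (Q : Subgroup G) Q.2 (lt_of_le_of_ne (Finset.mem_filter.1 hQ).2 (hSyl Q))),
            Nat.card_eq_fintype_card, Fintype.card_subtype]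
          simp, Finset.sum_mul]
      simp only [Nat.card_eq_fintype_card, Fintype.card_subtype, Finset.card_filter, Nat.cast_sum,
        Nat.cast_ite, Nat.cast_one, Nat.cast_zero, Finset.sum_mul, Finset.mul_sum, Finset.sum_filter]
      rw [Finset.sum_comm]
      refine Finset.sum_congr rfl fun Q _ => ?_
      split_ifs with hHQ
      · refine Finset.sum_congr rfl fun K _ => ?_
        split_ifs <;> ring
      · refine Finset.sum_eq_zero fun K _ => ?_
        rw [if_neg (fun h => hHQ (K.2.2.1.le.trans h))]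
        ring
    -- the count inside the normalizer
    have hN0 : ∑ g ∈ Finset.univ.filter (· ∈ N),
        ∑ K ∈ Finset.univ.filter (fun K : α => Sn K.1 g), w K = (Nat.card N : ℤ) := by
      obtain ⟨P₀⟩ : Nonempty (Sylow p N) := inferInstance
      letI := Fintype.ofFinite (Sylow p N)
      set H₀ := H.subgroupOf N with hH₀
      haveI : H₀.Normal := normal_in_normalizer
      have hH₀p : IsPGroup p H₀ := hH.comap_of_injective N.subtype N.subtype_injective
      have hidx : N.index * H₀.index = H.index := by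
        rw [mul_comm]; exact relIndex_mul_index le_normalizer
      have hA' : ∀ K : α, (Nat.card {g : N // Sn K.1 (g : G)} : ℤ) =
          Nat.card {Q : Sylow p N // K.1.subgroupOf N ≤ (Q : Subgroup N)} *
            Nat.card (normalizer ((P₀ : Subgroup N) : Set N)) := by
        intro K
        have hKp : IsPGroup p (K.1.subgroupOf N) := K.2.1.comap_of_injective N.subtype N.subtype_injective
        have hlt : (K.1.subgroupOf N).index < k := by
          have h1 : (K.1.subgroupOf N).index * N.index = K.1.index := relIndex_mul_index K.2.2.2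
          have h2 := index_strictAnti K.2.2.1
          calc (K.1.subgroupOf N).index ≤ K.1.index := by
                rw [← h1]; exact Nat.le_mul_of_pos_right _ (Nat.pos_of_ne_zero N.index_ne_zero_of_finite)
            _ < k := hk ▸ h2
        have e : ∀ g : N, Sn K.1 (g : G) ↔ Sn (K.1.subgroupOf N) g := by
          intro g
          rw [sn_iff K.2.1, sn_iff hKp]
          constructor
          · rintro ⟨R, hKR, hR, hg⟩
            refine ⟨R.subgroupOf N, fun x hx => hKR hx,
              hR.comap_of_injective N.subtype N.subtype_injective, ?_⟩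
            rw [mem_normalizer_iff]
            exact fun x => mem_normalizer_iff.1 hg x
          · rintro ⟨R, hKR, hR, hg⟩
            refine ⟨R.map N.subtype, ?_, hR.map _, le_normalizer_map N.subtype (mem_map_of_mem _ hg)⟩
            intro x hx
            exact ⟨⟨x, K.2.2.2 hx⟩, hKR (show x ∈ K.1 from hx), rfl⟩
        rw [Nat.card_congr (Equiv.subtypeEquivRight e)]
        exact_mod_cast ih _ hlt N _ rfl hKp P₀
      have hmain : ∑ K : α, w K * (Nat.card {g : N // Sn K.1 (g : G)} : ℤ) = Nat.card N := by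
        simp only [hA']
        conv_rhs => rw [← (normalizer ((P₀ : Subgroup N) : Set N)).card_mul_index, show (normalizer ((P₀ : Subgroup N) : Set N)).index = Nat.card (Sylow p N) from (Sylow.card_eq_index_normalizer P₀).symm]
        push_cast
        rw [mul_comm (Nat.card (normalizer ((P₀ : Subgroup N) : Set N)) : ℤ)]
        generalize (Nat.card (normalizer ((P₀ : Subgroup N) : Set N)) : ℤ) = n₀
        have hone : ∀ Q : Sylow p N,
            ∑ K ∈ Finset.univ.filter (fun K : α => K.1 ≤ (Q : Subgroup N).map N.subtype), w K = 1 := by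
          intro Q
          refine hsylT _ (Q.2.map _) (lt_of_le_of_ne ?_ fun e => ?_)
          · intro x hx
            exact ⟨⟨x, le_normalizer hx⟩, hH₀p.le_sylow_of_normal Q (show x ∈ H from hx), rfl⟩
          · obtain ⟨Q₁, hQ₁⟩ := hH.exists_le_sylow
            have h3 := lt_inf_normalizer Q₁.2 (lt_of_le_of_ne hQ₁ (hSyl Q₁))
            have h4 : ((Q₁ : Subgroup G) ⊓ N).subgroupOf N = (Q : Subgroup N) := Q.3
              ((Q₁.2.to_le inf_le_left).comap_of_injective N.subtype N.subtype_injective)
              (fun x hx => by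
                have hxH : (x : G) ∈ H := e ▸ mem_map_of_mem N.subtype hx
                exact ⟨hQ₁ hxH, x.2⟩)
            refine h3.ne (e.trans ?_)
            rw [← h4, map_subgroupOf_eq_of_le inf_le_right]
        rw [show (Nat.card (Sylow p N) : ℤ) = ∑ Q : Sylow p N,
          ∑ K ∈ Finset.univ.filter (fun K : α => K.1 ≤ (Q : Subgroup N).map N.subtype), w K by
            rw [Finset.sum_congr rfl (fun Q _ => hone Q)]
            simp [Nat.card_eq_fintype_card], Finset.sum_mul]
        simp only [Nat.card_eq_fintype_card, Fintype.card_subtype, Finset.card_filter, Nat.cast_sum,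
          Nat.cast_ite, Nat.cast_one, Nat.cast_zero, Finset.sum_mul, Finset.mul_sum, Finset.sum_filter]
        rw [Finset.sum_comm]
        refine Finset.sum_congr rfl fun Q _ => Finset.sum_congr rfl fun K _ => ?_
        have e2 : K.1.subgroupOf N ≤ (Q : Subgroup N) ↔ K.1 ≤ (Q : Subgroup N).map N.subtype := by
          refine ⟨fun h x hx => ⟨⟨x, K.2.2.2 hx⟩, h (show x ∈ K.1 from hx), rfl⟩, fun h x hx => ?_⟩
          obtain ⟨y, hy, hyx⟩ := h hx
          rwa [Subtype.ext hyx] at hy
        simp only [e2]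
        split_ifs <;> ring
      rw [← hmain]
      simp only [Nat.card_eq_fintype_card, Fintype.card_subtype, Finset.card_filter, Nat.cast_sum,
        Nat.cast_ite, Nat.cast_one, Nat.cast_zero, Finset.mul_sum]
      rw [Finset.sum_subtype (p := (· ∈ N)) (Finset.univ.filter (· ∈ N)) (by simp)
        (fun g => ∑ K ∈ Finset.univ.filter (fun K : α => Sn K.1 g), w K)]
      simp only [Finset.sum_filter]
      rw [Finset.sum_comm]
      refine Finset.sum_congr rfl fun K _ => Finset.sum_congr rfl fun g _ => ?_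
      split_ifs <;> ring
    -- outside the normalizer
    have hout : ∀ g : G, g ∉ N → Sn H g →
        ∑ K ∈ Finset.univ.filter (fun K : α => Sn K.1 g), w K = 1 := by
      intro g hgN hg
      obtain ⟨R, hHR, hR, hgR⟩ := (sn_iff hH g).1 hg
      obtain ⟨U, hHU, hgU, hU⟩ := exists_least_invariant H g
      have hUp : IsPGroup p U := hR.to_le (hU R hHR hgR)
      have hlt : H < U := lt_of_le_of_ne hHU fun e => hgN (by rw [hN, e]; exact hgU)
      let T : α := ⟨U ⊓ N, hUp.to_le inf_le_left, lt_inf_normalizer hUp hlt, inf_le_right⟩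
      have hmemR : ∀ K : α, Sn K.1 g → ∃ R, K.1 ≤ R ∧ T.1 ≤ R ∧ IsPGroup p R ∧
          g ∈ normalizer (R : Set G) := by
        intro K hK
        obtain ⟨R, hKR, hR, hgR⟩ := (sn_iff K.2.1 g).1 hK
        exact ⟨R, hKR, inf_le_left.trans (hU R (K.2.2.1.le.trans hKR) hgR), hR, hgR⟩
      let c : α → α := fun K =>
        if h : IsPGroup p ↥(K.1 ⊔ T.1) then
          ⟨K.1 ⊔ T.1, h, lt_of_lt_of_le K.2.2.1 le_sup_left, sup_le K.2.2.2 T.2.2.2⟩
        else K
      refine sum_cone_eq_one hw _ T ?_ ?_ c ?_
      · simp only [Finset.mem_filter, Finset.mem_univ, true_and]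
        exact (sn_iff T.2.1 g).2 ⟨U, inf_le_left, hUp, hgU⟩
      · intro K hK K' hle
        simp only [Finset.mem_filter, Finset.mem_univ, true_and] at hK ⊢
        exact sn_mono K'.2.1 K.2.1 hle hK
      · intro K hK
        simp only [Finset.mem_filter, Finset.mem_univ, true_and] at hK ⊢
        obtain ⟨R, hKR, hTR, hR, hgR⟩ := hmemR K hK
        have hp : IsPGroup p ↥(K.1 ⊔ T.1) := hR.to_le (sup_le hKR hTR)
        have hc : (c K).1 = K.1 ⊔ T.1 := by simp only [c]; rw [dif_pos hp]
        refine ⟨(sn_iff (c K).2.1 g).2 ⟨R, hc ▸ sup_le hKR hTR, hR, hgR⟩, ?_, ?_,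
          fun K' _ h1 h2 => ?_⟩
        · show K.1 ≤ (c K).1; rw [hc]; exact le_sup_left
        · show T.1 ≤ (c K).1; rw [hc]; exact le_sup_right
        · show (c K).1 ≤ K'.1; rw [hc]; exact sup_le h1 h2
    -- assemble
    have hfin : ∑ K : α, w K * (Nat.card {g : G // Sn K.1 g} : ℤ) =
        (Nat.card {g : G // Sn H g} : ℤ) := by
      have e1 : ∑ K : α, w K * (Nat.card {g : G // Sn K.1 g} : ℤ) =
          ∑ g : G, ∑ K ∈ Finset.univ.filter (fun K : α => Sn K.1 g), w K := by
        simp only [Nat.card_eq_fintype_card, Fintype.card_subtype, Finset.card_filter, Nat.cast_sum,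
          Nat.cast_ite, Nat.cast_one, Nat.cast_zero, Finset.mul_sum, Finset.sum_filter]
        rw [Finset.sum_comm]
        refine Finset.sum_congr rfl fun g _ => Finset.sum_congr rfl fun K _ => ?_
        split_ifs <;> ring
      rw [e1, ← Finset.sum_filter_add_sum_filter_not _ (· ∈ N), hN0,
        Nat.card_eq_fintype_card, Nat.card_eq_fintype_card (α := {g : G // Sn H g}),
        Fintype.card_subtype, Fintype.card_subtype, Finset.card_filter,
        Finset.card_filter]
      push_cast
      rw [← Finset.sum_filter_add_sum_filter_not (Finset.univ : Finset G) (· ∈ N)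
        (fun g => if Sn H g then (1 : ℤ) else 0)]
      congr 1
      · rw [← Finset.sum_filter]
        refine Finset.sum_congr rfl fun g hg => ?_
        rw [if_pos (sn_of_mem_normalizer hH (Finset.mem_filter.1 hg).2)]
      · refine Finset.sum_congr rfl fun g hg => ?_
        by_cases hs : Sn H g
        · rw [if_pos hs, hout g (Finset.mem_filter.1 hg).2 hs]
        · rw [if_neg hs, Finset.filter_false_of_mem fun K _ hK => hs (sn_mono hH K.2.1 K.2.2.1.le hK),
            Finset.sum_empty]
    exact_mod_cast hfin.symm.trans hsum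

end CfsgLib.Subnormalizer
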