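import Mathlib.GroupTheory.Commutator.Basic
import Mathlib.GroupTheory.OrderOfElement
import Mathlib.Data.Nat.Choose.Dvd
import Mathlib.Algebra.Group.Subgroup.Basic
import Mathlib.Tactic.Group
import Mathlib.Tactic.Ring

/-!
# The `p`-th power of a product in class at most three
-/

set_option autoImplicit false

open Subgroup
open scoped commutatorElement

namespace CfsgLib.PGroup

variable {G : Type*} [Group G]

/-- The collection data of a pair: `c = [y, x]`, and `u`, `v` are central. -/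
structure ClassThreeData (x y c u v : G) : Prop where
  yx : y * x = x * y * c
  cx : c * x = x * c * u
  cy : c * y = y * c * v
  hu : ∀ z : G, Commute u z
  hv : ∀ z : G, Commute v z

namespace ClassThreeData

variable {x y c u v : G}

theorem c_pow_x (D : ClassThreeData x y c u v) : ∀ m : ℕ, c ^ m * x = x * c ^ m * u ^ m
  | 0 => by simp
  | m + 1 => by
    rw [pow_succ, mul_assoc, D.cx, ← mul_assoc, ← mul_assoc, D.c_pow_x m, pow_succ u]
    rw [mul_assoc (x * c ^ m) (u ^ m) c, ((D.hu c).pow_left m).eq]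
    group

theorem c_pow_y (D : ClassThreeData x y c u v) : ∀ m : ℕ, c ^ m * y = y * c ^ m * v ^ m
  | 0 => by simp
  | m + 1 => by
    rw [pow_succ, mul_assoc, D.cy, ← mul_assoc, ← mul_assoc, D.c_pow_y m, pow_succ v]
    rw [mul_assoc (y * c ^ m) (v ^ m) c, ((D.hv c).pow_left m).eq]
    group

theorem c_y_pow (D : ClassThreeData x y c u v) : ∀ j : ℕ, c * y ^ j = y ^ j * c * v ^ j
  | 0 => by simp
  | j + 1 => by
    rw [pow_succ, ← mul_assoc, D.c_y_pow j, mul_assoc (y ^ j * c) (v ^ j) y,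
      ((D.hv y).pow_left j).eq, ← mul_assoc, mul_assoc (y ^ j) c y, D.cy, pow_succ' v]
    group

theorem c_x_pow (D : ClassThreeData x y c u v) : ∀ j : ℕ, c * x ^ j = x ^ j * c * u ^ j
  | 0 => by simp
  | j + 1 => by
    rw [pow_succ, ← mul_assoc, D.c_x_pow j, mul_assoc (x ^ j * c) (u ^ j) x,
      ((D.hu x).pow_left j).eq, ← mul_assoc, mul_assoc (x ^ j) c x, D.cx, pow_succ' u]
    group

theorem y_pow_x (D : ClassThreeData x y c u v) :
    ∀ j : ℕ, y ^ j * x = x * y ^ j * c ^ j * v ^ (j.choose 2)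
  | 0 => by simp
  | j + 1 => by
    have h : (j + 1).choose 2 = j + j.choose 2 := by
      rw [Nat.choose_succ_succ, Nat.choose_one_right]
    calc y ^ (j + 1) * x = y * (y ^ j * x) := by rw [pow_succ', mul_assoc]
      _ = (y * x) * y ^ j * c ^ j * v ^ (j.choose 2) := by rw [D.y_pow_x j]; group
      _ = x * y * (c * y ^ j) * c ^ j * v ^ (j.choose 2) := by rw [D.yx]; group
      _ = x * y * y ^ j * c * (v ^ j * c ^ j) * v ^ (j.choose 2) := by rw [D.c_y_pow j]; group
      _ = x * y * y ^ j * c * (c ^ j * v ^ j) * v ^ (j.choose 2) := by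
        rw [((D.hv (c ^ j)).pow_left j).eq]
      _ = x * y ^ (j + 1) * c ^ (j + 1) * v ^ ((j + 1).choose 2) := by
        rw [h, pow_add v, pow_succ' y, pow_succ' c]; group

theorem mul_pow (D : ClassThreeData x y c u v) : ∀ n : ℕ, (x * y) ^ n =
    x ^ n * y ^ n * c ^ (n.choose 2) * u ^ (n.choose 3) * v ^ (2 * n.choose 3 + n.choose 2)
  | 0 => by simp
  | n + 1 => by
    have h2 : (n + 1).choose 2 = n + n.choose 2 := by
      rw [Nat.choose_succ_succ, Nat.choose_one_right]
    have h3 : (n + 1).choose 3 = n.choose 2 + n.choose 3 := Nat.choose_succ_succ n 2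
    have hB : 2 * (n + 1).choose 3 + (n + 1).choose 2 =
        n.choose 2 + n + (n.choose 2 + (2 * n.choose 3 + n.choose 2)) := by omega
    have ih := D.mul_pow n
    have hyx := D.y_pow_x n
    set m := n.choose 2 with hm
    set A := n.choose 3
    set B := 2 * A + m
    have hz : ∀ z : G, Commute (u ^ A * v ^ B) z := fun z =>
      ((D.hu z).pow_left A).mul_left ((D.hv z).pow_left B)
    calc (x * y) ^ (n + 1) = x ^ n * y ^ n * c ^ m * ((u ^ A * v ^ B) * (x * y)) := by
          rw [pow_succ, ih]; group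
      _ = x ^ n * y ^ n * (c ^ m * x) * y * (u ^ A * v ^ B) := by rw [(hz _).eq]; group
      _ = x ^ n * y ^ n * x * c ^ m * (u ^ m * y) * (u ^ A * v ^ B) := by rw [D.c_pow_x m]; group
      _ = x ^ n * y ^ n * x * (c ^ m * y) * u ^ m * (u ^ A * v ^ B) := by
        rw [((D.hu y).pow_left m).eq]; group
      _ = x ^ n * (y ^ n * x) * y * c ^ m * v ^ m * u ^ m * (u ^ A * v ^ B) := by
        rw [D.c_pow_y m]; group
      _ = x ^ n * x * y ^ n * c ^ n * (v ^ m * y) * c ^ m * v ^ m * u ^ m * (u ^ A * v ^ B) := by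
        rw [hyx]; group
      _ = x ^ n * x * y ^ n * (c ^ n * y) * (v ^ m * c ^ m) * v ^ m * u ^ m * (u ^ A * v ^ B) := by
        rw [((D.hv y).pow_left m).eq]; group
      _ = x ^ n * x * y ^ n * y * c ^ n * v ^ n * (c ^ m * v ^ m) * v ^ m * u ^ m * (u ^ A * v ^ B) := by
        rw [D.c_pow_y n, ((D.hv (c ^ m)).pow_left m).eq]; group
      _ = x ^ n * x * y ^ n * y * c ^ n * (v ^ n * c ^ m) * v ^ m * (v ^ m * (u ^ m * u ^ A)) * v ^ B := by
        group
      _ = x ^ n * x * y ^ n * y * c ^ n * (c ^ m * v ^ n) * v ^ m * ((u ^ m * u ^ A) * v ^ m) * v ^ B := by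
        rw [((D.hv (c ^ m)).pow_left n).eq, ((D.hv (u ^ m * u ^ A)).pow_left m).eq]
      _ = x ^ n * x * y ^ n * y * c ^ n * c ^ m * (v ^ n * v ^ m * (u ^ m * u ^ A)) * v ^ m * v ^ B := by
        group
      _ = x ^ n * x * y ^ n * y * c ^ n * c ^ m * ((u ^ m * u ^ A) * (v ^ n * v ^ m)) * v ^ m * v ^ B := by
        rw [← (((D.hv (u ^ m * u ^ A)).pow_left n).mul_left ((D.hv _).pow_left m)).eq]
      _ = _ := by
        rw [hB, h2, h3, pow_succ, pow_succ]
        simp only [pow_add, mul_assoc]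
        rw [((Commute.refl v).pow_pow n m).left_comm]

/-- The `p`-th power is multiplicative as soon as the commutators have exponent `p`. -/
theorem mul_pow_prime (D : ClassThreeData x y c u v) {p : ℕ} (hp : p.Prime) (h2 : p ≠ 2)
    (hc : c ^ p = 1) (huv : (3 < p ∧ u ^ p = 1 ∧ v ^ p = 1) ∨ (u = 1 ∧ v = 1)) :
    (x * y) ^ p = x ^ p * y ^ p := by
  have hdvd : p ∣ p.choose 2 :=
    hp.dvd_choose_self two_ne_zero (lt_of_le_of_ne hp.two_le (Ne.symm h2))
  have hc2 : c ^ p.choose 2 = 1 := by obtain ⟨k, hk⟩ := hdvd; rw [hk, pow_mul, hc, one_pow]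
  rw [D.mul_pow p, hc2, mul_one]
  rcases huv with ⟨h3, hu', hv'⟩ | ⟨rfl, rfl⟩
  · obtain ⟨k, hk⟩ := hp.dvd_choose_self three_ne_zero h3
    obtain ⟨l, hl⟩ := hdvd
    rw [hk, hl, pow_mul, hu', one_pow, mul_one, show 2 * (p * k) + p * l = p * (2 * k + l) by ring,
      pow_mul, hv', one_pow, mul_one]
  · rw [one_pow, one_pow, mul_one, mul_one]

/-- Elements of order dividing `p` have such a product. -/
theorem mul_pow_eq_one (D : ClassThreeData x y c u v) {p : ℕ} (hp : p.Prime) (h2 : p ≠ 2)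
    (h : 3 < p ∨ (u = 1 ∧ v = 1)) (hx : x ^ p = 1) (hy : y ^ p = 1) : (x * y) ^ p = 1 := by
  have hv' : v ^ p = 1 := by simpa [hy] using D.c_y_pow p
  have hu' : u ^ p = 1 := by simpa [hx] using D.c_x_pow p
  have hc' : c ^ p = 1 := by
    obtain ⟨k, hk⟩ := hp.dvd_choose_self two_ne_zero (lt_of_le_of_ne hp.two_le (Ne.symm h2))
    simpa [hy, hk, pow_mul, hv'] using D.y_pow_x p
  rw [D.mul_pow_prime hp h2 hc' (h.elim (fun h3 => Or.inl ⟨h3, hu', hv'⟩) Or.inr), hx, hy, one_mul]

end ClassThreeData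

/-- A group of class at most three has collection data for every pair. -/
theorem exists_classThreeData
    (hcl : ⁅⁅commutator G, (⊤ : Subgroup G)⁆, (⊤ : Subgroup G)⁆ = ⊥) (x y : G) :
    ∃ c u v : G, c ∈ commutator G ∧ u ∈ ⁅commutator G, (⊤ : Subgroup G)⁆ ∧
      v ∈ ⁅commutator G, (⊤ : Subgroup G)⁆ ∧ ClassThreeData x y c u v := by
  have hz : ∀ w ∈ ⁅commutator G, (⊤ : Subgroup G)⁆, ∀ z : G, Commute w z := fun w hw z =>
    commutatorElement_eq_one_iff_mul_comm.1 (mem_bot.1 (hcl ▸ commutator_mem_commutator hw (mem_top z)))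
  have hc : ⁅y⁻¹, x⁻¹⁆ ∈ commutator G := commutator_mem_commutator (mem_top _) (mem_top _)
  set c := ⁅y⁻¹, x⁻¹⁆ with hcdef
  have hu : ⁅c⁻¹, x⁻¹⁆ ∈ ⁅commutator G, (⊤ : Subgroup G)⁆ :=
    commutator_mem_commutator (inv_mem hc) (mem_top _)
  have hv : ⁅c⁻¹, y⁻¹⁆ ∈ ⁅commutator G, (⊤ : Subgroup G)⁆ :=
    commutator_mem_commutator (inv_mem hc) (mem_top _)
  refine ⟨c, _, _, hc, hu, hv, ?_, ?_, ?_, hz _ hu, hz _ hv⟩
  · simp only [hcdef, commutatorElement_def]; group
  · simp only [commutatorElement_def]; group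
  · simp only [commutatorElement_def]; group

/-- A subgroup closed under products of elements of order dividing `p` has exponent `p`. -/
theorem pow_eq_one_of_mem_closure {p : ℕ} (h : ∀ x y : G, x ^ p = 1 → y ^ p = 1 → (x * y) ^ p = 1)
    {g : G} (hg : g ∈ Subgroup.closure {x : G | x ^ p = 1}) : g ^ p = 1 := by
  induction hg using Subgroup.closure_induction with
  | mem x hx => exact hx
  | one => exact one_pow p
  | mul x y _ _ hx hy => exact h x y hx hy
  | inv x _ hx => rw [inv_pow, hx, inv_one]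

end CfsgLib.PGroup
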