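import Cfsg.Agent.Lib.PGroup.NormalRankTwo
import Cfsg.Agent.Lib.PGroup.OmegaCentral

/-!
# Maximal normal abelian subgroups of `p`-groups, and the order of a group of automorphisms
-/

set_option autoImplicit false
set_option linter.style.haveILetI false
set_option linter.unusedSectionVars false

open Subgroup
open scoped commutatorElement

namespace CfsgLib.PGroup

universe u

variable {G : Type u} [Group G] [Finite G] {p : ℕ} [hpf : Fact p.Prime]

/-- A `p`-group induces at most `p ^ (a(a-1)/2)` automorphisms on a normal subgroup of order `p^a`. -/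
theorem index_centralizer_le_pow (hG : IsPGroup p G) : ∀ (a : ℕ) (A : Subgroup G) [A.Normal],
    IsMulCommutative A → Nat.card A = p ^ a →
      (centralizer (A : Set G)).index ≤ p ^ (a * (a - 1) / 2)
  | 0, A, _, _, h => by
    have hA1 : A = ⊥ := card_eq_one.1 (h.trans (pow_zero p))
    have hC1 : centralizer (A : Set G) = ⊤ := eq_top_iff.2 fun g _ => mem_centralizer_iff.2 fun x hx => by
      rw [mem_bot.1 (show x ∈ (⊥ : Subgroup G) from hA1 ▸ hx), one_mul, mul_one]
    simp [hC1]
  | a + 1, A, hAn, hA, h => by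
    have hp : 1 < p := hpf.out.one_lt
    haveI := hG.isNilpotent
    -- a normal subgroup of index `p` in `A`
    obtain ⟨B, ⟨hBn, hBA⟩, hBmax⟩ := (Set.toFinite {B : Subgroup G | B.Normal ∧ B < A}).exists_maximal
      ⟨⊥, inferInstance, bot_lt_iff_ne_bot.2 fun e => by
        rw [e, card_bot] at h
        exact (Nat.one_lt_pow (Nat.succ_ne_zero a) hp).ne h⟩
    haveI := hBn
    obtain ⟨T, hTn, hBT, hTA, hrel⟩ := exists_normal_step hG hBA
    have hT : T = A := by
      by_contra hne
      exact hBT.not_ge (hBmax ⟨hTn, lt_of_le_of_ne hTA hne⟩ hBT.le)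
    subst hT
    have hBc : Nat.card B = p ^ a := by
      have h1 := relIndex_mul_relIndex ⊥ B T bot_le hBT.le
      rw [relIndex_bot_left, relIndex_bot_left, hrel, h, pow_succ] at h1
      exact Nat.eq_of_mul_eq_mul_right hpf.out.pos h1
    have hcA : ∀ x ∈ T, ∀ y ∈ T, x * y = y * x := fun x hx y hy =>
      congrArg Subtype.val (isMulCommutative_iff.1 hA ⟨x, hx⟩ ⟨y, hy⟩)
    have hBab : IsMulCommutative B := isMulCommutative_iff.2 fun x y =>
      Subtype.ext (hcA x (hBA.le x.2) y (hBA.le y.2))
    have ih := index_centralizer_le_pow hG a B hBab hBc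
    obtain ⟨t, htT, htB⟩ := SetLike.exists_of_lt hBA
    set CB := centralizer (B : Set G)
    set CT := centralizer (T : Set G)
    have hle : CT ≤ CB := centralizer_le (fun x hx => hBA.le hx)
    have htcen : ∀ g : G, g * t * g⁻¹ * t⁻¹ ∈ B := by
      intro g
      set π := QuotientGroup.mk' B
      haveI := Subgroup.Normal.map hTn π (QuotientGroup.mk'_surjective B)
      have hcard : Nat.card (T.map π) ≤ p := by
        have h1 := relIndex_map_map π (⊥ : Subgroup G) T
        rw [Subgroup.map_bot, relIndex_bot_left, bot_sup_eq, QuotientGroup.ker_mk', sup_eq_left.2 hBA.le,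
          hrel] at h1
        exact h1.le
      have h1 := mem_center_iff.1 (CfsgLib.MetacyclicOmega.le_center_of_card_le (hG.to_quotient B)
        (T.map π) hcard (mem_map_of_mem π htT)) (π g)
      rw [← QuotientGroup.eq_one_iff]
      show π (g * t * g⁻¹ * t⁻¹) = 1
      rw [map_mul, map_mul, map_mul, map_inv, map_inv, h1]
      group
    have htop : zpowers t ⊔ B = T := by
      refine le_antisymm (sup_le (zpowers_le.2 htT) hBA.le) ?_
      have h1 := relIndex_mul_relIndex B (zpowers t ⊔ B) T le_sup_right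
        (sup_le (zpowers_le.2 htT) hBA.le)
      rw [hrel] at h1
      rcases (Nat.dvd_prime hpf.out).1 (Dvd.intro _ h1) with h2 | h2
      · exact absurd (relIndex_eq_one.1 h2 (mem_sup_left (mem_zpowers t))) htB
      · rw [h2] at h1
        exact relIndex_eq_one.1 ((mul_eq_left₀ hpf.out.ne_zero).1 h1)
    have hrelC : CT.relIndex CB ≤ p ^ a := by
      rw [← hBc, relIndex, index_eq_card]
      refine Nat.card_le_card_of_injective
        (fun q : CB ⧸ CT.subgroupOf CB =>
          (⟨(q.out : G) * t * (q.out : G)⁻¹ * t⁻¹, htcen _⟩ : B)) fun q r hqr => ?_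
      rw [← QuotientGroup.out_eq' q, ← QuotientGroup.out_eq' r, QuotientGroup.eq, mem_subgroupOf]
      have h1 : (q.out : G) * t * (q.out : G)⁻¹ = (r.out : G) * t * (r.out : G)⁻¹ :=
        mul_right_cancel (congrArg Subtype.val hqr)
      set s : G := ((q.out⁻¹ * r.out : CB) : G) with hs
      have hst : s * t = t * s := by
        rw [hs]
        show ((q.out : G)⁻¹ * r.out) * t = t * ((q.out : G)⁻¹ * r.out)
        calc ((q.out : G)⁻¹ * r.out) * t = (q.out : G)⁻¹ * ((r.out : G) * t * (r.out : G)⁻¹) * r.out := by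
              group
          _ = t * ((q.out : G)⁻¹ * r.out) := by rw [← h1]; group
      refine mem_centralizer_iff.2 fun x hx => ?_
      rw [SetLike.mem_coe, ← htop] at hx
      have hle2 : zpowers t ⊔ B ≤ centralizer ({s} : Set G) :=
        sup_le (zpowers_le.2 (mem_centralizer_singleton_iff.2 hst.symm)) fun b hb =>
          mem_centralizer_singleton_iff.2 (mem_centralizer_iff.1 (q.out⁻¹ * r.out).2 b hb)
      exact mem_centralizer_singleton_iff.1 (hle2 hx)
    calc CT.index = CT.relIndex CB * CB.index := (relIndex_mul_index hle).symm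
      _ ≤ p ^ a * p ^ (a * (a - 1) / 2) := Nat.mul_le_mul hrelC ih
      _ = p ^ ((a + 1) * (a + 1 - 1) / 2) := by
        rw [← pow_add, Nat.add_sub_cancel]
        congr 1
        rcases a with - | b
        · rfl
        · rw [Nat.add_sub_cancel, show (b + 1 + 1) * (b + 1) = (b + 1) * b + 2 * (b + 1) by ring,
            Nat.add_mul_div_left _ _ two_pos, add_comm]

/-- Alperin's lemma on a maximal normal abelian subgroup of given exponent. -/
theorem mem_of_maximal_abelian_exponent (hG : IsPGroup p G) {n : ℕ} (hn : p ^ n ≠ 2) {A : Subgroup G}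
    [hAn : A.Normal] (hA : IsMulCommutative A) (hAe : ∀ a ∈ A, a ^ p ^ n = 1)
    (hmax : ∀ B : Subgroup G, B.Normal → IsMulCommutative B → (∀ b ∈ B, b ^ p ^ n = 1) → A ≤ B → B = A)
    {x₀ : G} (hx₀ : x₀ ∈ centralizer (A : Set G)) (hx₀n : x₀ ^ p ^ n = 1) : x₀ ∈ A := by
  by_contra hx₀A
  rcases Nat.eq_zero_or_pos n with rfl | hn0
  · rw [pow_zero, pow_one] at hx₀n
    exact hx₀A (hx₀n ▸ one_mem A)
  have hpp := hpf.out
  obtain ⟨x, ⟨hxC, hxn, hxA⟩, hxmin⟩ := Set.exists_min_image
    {x : G | x ∈ centralizer (A : Set G) ∧ x ^ p ^ n = 1 ∧ x ∉ A}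
    (fun x => Nat.card ↥(A ⊔ normalClosure {x})) (Set.toFinite _) ⟨x₀, hx₀, hx₀n, hx₀A⟩
  set C := centralizer (A : Set G) with hC
  set M := A ⊔ normalClosure ({x} : Set G) with hM
  have hAC : A ≤ C := fun a ha => mem_centralizer_iff.2 fun b hb =>
    congrArg Subtype.val (isMulCommutative_iff.1 hA ⟨b, hb⟩ ⟨a, ha⟩)
  have hMC : M ≤ C := sup_le hAC (normalClosure_le_normal (Set.singleton_subset_iff.2 hxC))
  have hxM : x ∈ M := mem_sup_right (subset_normalClosure rfl)
  set M₁ := A ⊔ ⁅M, (⊤ : Subgroup G)⁆ with hM₁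
  have hM₁M : M₁ ≤ M := sup_le le_sup_left (commutator_le_left M ⊤)
  haveI := hG.isNilpotent
  have hne : ¬ M ≤ M₁ := by
    intro h
    have hk : ∀ k, M ≤ A ⊔ (⊤ : Subgroup G).lowerCentralSeries k := by
      intro k
      induction k with
      | zero => exact le_top.trans (by rw [Subgroup.lowerCentralSeries_zero]; exact le_sup_right)
      | succ k ih =>
        refine h.trans (sup_le le_sup_left ?_)
        refine (commutator_mono ih le_rfl).trans (commutator_le.2 fun y hy g _ => ?_)
        obtain ⟨a, ha, l, hl, rfl⟩ := mem_sup_of_normal_left.1 hy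
        have e : ⁅a * l, g⁆ = a * ⁅l, g⁆ * a⁻¹ * ⁅a, g⁆ := by simp only [commutatorElement_def]; group
        rw [e]
        refine mul_mem (mem_sup_right ?_) (mem_sup_left ?_)
        · haveI : ((⊤ : Subgroup G).lowerCentralSeries (k + 1)).Normal := inferInstance
          refine Normal.conj_mem inferInstance _ ?_ a
          rw [Subgroup.lowerCentralSeries_succ]
          exact commutator_mem_commutator hl (mem_top g)
        · rw [commutatorElement_def, mul_assoc (a * g), mul_assoc a, show g * (a⁻¹ * g⁻¹) = g * a⁻¹ * g⁻¹ by group]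
          exact mul_mem ha (hAn.conj_mem _ (inv_mem ha) g)
    obtain ⟨k, hk0⟩ := Subgroup.nilpotent_iff_lowerCentralSeries.1 (inferInstance : Group.IsNilpotent G)
    exact hxA (by simpa [hk0] using hk k hxM)
  -- small elements of exponent dividing `p ^ n` lie in `A`
  have hsmall : ∀ z ∈ M₁, z ^ p ^ n = 1 → z ∈ A := by
    intro z hz hzn
    by_contra hzA
    have h1 := hxmin z ⟨hMC (hM₁M hz), hzn, hzA⟩
    have h2 : A ⊔ normalClosure {z} ≤ M₁ :=
      sup_le le_sup_left (normalClosure_le_normal (Set.singleton_subset_iff.2 hz))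
    exact hne ((eq_of_le_of_card_ge (h2.trans hM₁M) h1).ge.trans h2)
  have hpn : p ∣ (p ^ n).choose 2 :=
    hpp.dvd_choose_pow two_ne_zero fun h => hn h.symm
  have hxp : x ^ p ∈ A := by
    by_contra h
    have h1 := hxmin (x ^ p) ⟨pow_mem hxC p, by rw [← pow_mul, mul_comm, pow_mul, hxn, one_pow], h⟩
    have h2 : A ⊔ normalClosure {x ^ p} ≤ M :=
      sup_le le_sup_left (normalClosure_le_normal (Set.singleton_subset_iff.2 (pow_mem hxM p)))
    have heq := eq_of_le_of_card_ge h2 h1
    haveI hn1 : (M₁ ⊔ zpowers (x ^ p)).Normal := ⟨fun y hy g => by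
      obtain ⟨m, hm, t, ht, rfl⟩ := mem_sup_of_normal_left.1 hy
      have ht' : t ∈ M := zpowers_le.2 (pow_mem hxM p) ht
      have e : g * (m * t) * g⁻¹ = (g * m * g⁻¹ * ⁅t, g⁆⁻¹) * t := by
        simp only [commutatorElement_def]; group
      rw [e]
      exact mul_mem (mem_sup_left (mul_mem (Normal.conj_mem inferInstance m hm g)
        (inv_mem (mem_sup_right (commutator_mem_commutator ht' (mem_top g)))))) (mem_sup_right ht)⟩
    have hx1 : x ∈ M₁ ⊔ zpowers (x ^ p) := by
      refine (heq.ge.trans (sup_le (le_sup_left.trans le_sup_left)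
        (normalClosure_le_normal (Set.singleton_subset_iff.2 (mem_sup_right (mem_zpowers _)))))) hxM
    obtain ⟨m, hm, t, ⟨i, rfl⟩, hmt⟩ := mem_sup_of_normal_left.1 hx1
    have hd : x ^ (1 - (p : ℤ) * i) ∈ M₁ := by
      rw [zpow_sub, zpow_one, zpow_mul, zpow_natCast]
      nth_rw 1 [← hmt]
      show m * (x ^ p) ^ i * ((x ^ p) ^ i)⁻¹ ∈ M₁
      rw [mul_inv_cancel_right]
      exact hm
    have hco : IsCoprime ((p ^ n : ℕ) : ℤ) (1 - (p : ℤ) * i) := by
      rw [Nat.cast_pow]
      exact IsCoprime.pow_left ⟨i, 1, by ring⟩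
    obtain ⟨a, b, hab⟩ := hco
    refine hne (sup_le le_sup_left (normalClosure_le_normal (Set.singleton_subset_iff.2 ?_)))
    rw [SetLike.mem_coe, ← zpow_one x, ← hab, zpow_add, mul_comm a, zpow_mul, zpow_natCast, hxn,
      one_zpow, one_mul, mul_comm b, zpow_mul]
    exact zpow_mem hd b
  have hcx : ∀ a ∈ A, ∀ y ∈ C, Commute a y := fun a ha y hy => mem_centralizer_iff.1 hy a ha
  have hmC : ∀ {m}, m ∈ M₁ → m ∈ C := fun hm => hMC (hM₁M hm)
  -- `x` centralizes `M₁` modulo `A`
  have hMx : ∀ u ∈ M₁, ⁅u, x⁆ ∈ A := by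
    let it : G → ℕ → G := fun u k => (fun y => ⁅y, x⁆)^[k] u
    have hitS : ∀ u k, it u (k + 1) = ⁅it u k, x⁆ := fun u k =>
      Function.iterate_succ_apply' _ _ _
    intro u hu
    have hitM : ∀ k, it u k ∈ M₁ := by
      intro k
      induction k with
      | zero => exact hu
      | succ k ih =>
        rw [hitS]
        exact commutator_le_left M₁ ⊤ (commutator_mem_commutator ih (mem_top x))
    have hitL : ∀ k, it u k ∈ (⊤ : Subgroup G).lowerCentralSeries k := by
      intro k
      induction k with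
      | zero => rw [Subgroup.lowerCentralSeries_zero]; exact mem_top _
      | succ k ih =>
        rw [hitS, Subgroup.lowerCentralSeries_succ]
        exact commutator_mem_commutator ih (mem_top x)
    obtain ⟨k, hk0⟩ := Subgroup.nilpotent_iff_lowerCentralSeries.1 (inferInstance : Group.IsNilpotent G)
    have hex : ∃ j, it u (j + 1) ∈ A := ⟨k, by
      rw [hitS, mem_bot.1 (show it u k ∈ (⊥ : Subgroup G) from hk0 ▸ hitL k), commutatorElement_one_left]; exact one_mem A⟩
    classical
    rcases hj : Nat.find hex with - | j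
    · have := Nat.find_spec hex
      rw [hj, hitS] at this
      exact this
    · have he := Nat.find_spec hex
      have hv := Nat.find_min hex (show j < Nat.find hex by omega)
      rw [hj, hitS] at he
      refine absurd (hsmall _ (hitM (j + 1)) ?_) hv
      set v := it u (j + 1) with hvdef
      set w := it u j with hwdef
      have hvw : v = ⁅w, x⁆ := hitS u j
      set e := ⁅v, x⁆ with hedef
      have hev : Commute e v := hcx e he v (hmC (hitM _))
      have hex' : Commute e x := hcx e he x hxC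
      have h1 : x * v = e⁻¹ * (v * x) := by rw [hedef, commutatorElement_def]; group
      have h2 := mul_pow_of_commute_commutator (a := v) (b := x) h1 hev.inv_left hex'.inv_left p
      have h3 : (v * x) ^ p = x ^ p := by
        have h4 : w * x * w⁻¹ = v * x := by rw [hvw, commutatorElement_def]; group
        rw [← h4, conj_pow, ← (hcx _ hxp w (hmC (hitM _))).eq, mul_inv_cancel_right]
      have h5 : e ^ p = 1 := by
        have h6 : v * x * v⁻¹ = e * x := by rw [hedef, commutatorElement_def]; group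
        have h7 := congrArg (· ^ p) h6
        simp only [conj_pow, hex'.mul_pow, ← (hcx _ hxp v (hmC (hitM _))).eq, mul_inv_cancel_right,
          right_eq_mul] at h7
        exact h7
      have h8 : v ^ p = e ^ p.choose 2 := by
        rw [h3, inv_pow, mul_assoc,
          ← (((hcx _ hxp e (hAC he)).symm.pow_left (p.choose 2)).inv_left).eq] at h2
        calc v ^ p = v ^ p * ((e ^ p.choose 2)⁻¹ * x ^ p) * (x ^ p)⁻¹ * e ^ p.choose 2 := by group
          _ = e ^ p.choose 2 := by rw [← h2]; group
      obtain ⟨c, hc⟩ : p ^ n ∣ p * p ^ (n - 1) := by rw [← pow_succ', Nat.sub_add_cancel hn0]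
      have hdvd : p ∣ p.choose 2 * p ^ (n - 1) := by
        rcases Nat.lt_or_ge n 2 with h9 | h9
        · have hn1 : n = 1 := by omega
          subst hn1
          rw [pow_one] at hn
          exact dvd_mul_of_dvd_left (hpp.dvd_choose_self two_ne_zero
            (lt_of_le_of_ne hpp.two_le (Ne.symm hn))) _
        · exact dvd_mul_of_dvd_right (dvd_pow_self p (by omega)) _
      obtain ⟨q, hq⟩ := hdvd
      rw [show p ^ n = p * p ^ (n - 1) by rw [← pow_succ', Nat.sub_add_cancel hn0], pow_mul, h8,
        ← pow_mul, hq, pow_mul, h5, one_pow]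
  -- `x` is central modulo `A`
  have hxg : ∀ g : G, g * x * g⁻¹ * x⁻¹ ∈ A := by
    intro g
    set c := g * x * g⁻¹ * x⁻¹ with hc
    have hcM : c ∈ M₁ := mem_sup_right (by
      rw [hc, ← commutatorElement_def, commutator_comm]
      exact commutator_mem_commutator (mem_top g) hxM)
    refine hsmall c hcM ?_
    set e := ⁅c, x⁆ with he'
    have he := hMx c hcM
    rw [← he'] at he
    have hec : Commute e c := hcx e he c (hmC hcM)
    have hex' : Commute e x := hcx e he x hxC
    have h1 : x * c = e⁻¹ * (c * x) := by rw [he', commutatorElement_def]; group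
    have h2 := mul_pow_of_commute_commutator (a := c) (b := x) h1 hec.inv_left hex'.inv_left (p ^ n)
    have h5 : e ^ p = 1 := by
      have h6 : c * x * c⁻¹ = e * x := by rw [he', commutatorElement_def]; group
      have h7 := congrArg (· ^ p) h6
      simp only [conj_pow, hex'.mul_pow, ← (hcx _ hxp c (hmC hcM)).eq, mul_inv_cancel_right,
        right_eq_mul] at h7
      exact h7
    obtain ⟨q, hq⟩ := hpn
    rw [show c * x = g * x * g⁻¹ by rw [hc]; group, conj_pow, hxn, mul_one, mul_inv_cancel, mul_one,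
      hq, pow_mul, inv_pow e p, h5, inv_one, one_pow, mul_one] at h2
    exact h2.symm
  set B := A ⊔ zpowers x with hB
  have hmem : ∀ b ∈ B, ∃ a ∈ A, ∃ i : ℤ, b = a * x ^ i := fun b hb => by
    obtain ⟨a, ha, t, ⟨i, rfl⟩, rfl⟩ := mem_sup_of_normal_left.1 hb
    exact ⟨a, ha, i, rfl⟩
  refine hxA (hmax B ⟨fun b hb g => ?_⟩ ?_ ?_ le_sup_left ▸ mem_sup_right (mem_zpowers x))
  · obtain ⟨a, ha, i, rfl⟩ := hmem b hb
    have e : g * (a * x ^ i) * g⁻¹ = g * a * g⁻¹ * (g * x * g⁻¹) ^ i := by rw [conj_zpow]; group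
    rw [e]
    refine mul_mem (mem_sup_left (hAn.conj_mem a ha g)) (zpow_mem ?_ i)
    rw [show g * x * g⁻¹ = g * x * g⁻¹ * x⁻¹ * x by group]
    exact mul_mem (mem_sup_left (hxg g)) (mem_sup_right (mem_zpowers x))
  · refine isMulCommutative_iff.2 fun y z => Subtype.ext ?_
    obtain ⟨a, ha, i, hy⟩ := hmem y y.2
    obtain ⟨b, hb, j, hz⟩ := hmem z z.2
    show (y : G) * z = z * y
    rw [hy, hz]
    exact ((((hcx a ha b (hAC hb)).mul_right ((hcx a ha x hxC).zpow_right j)).mul_left
      (((hcx b hb x hxC).symm.zpow_left i).mul_right (Commute.zpow_zpow_self x i j)))).eq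
  · intro b hb
    obtain ⟨a, ha, i, rfl⟩ := hmem b hb
    rw [((hcx a ha x hxC).zpow_right i).mul_pow, hAe a ha, one_mul, ← zpow_natCast, ← zpow_mul,
      mul_comm, zpow_mul, zpow_natCast, hxn, one_zpow]

end CfsgLib.PGroup
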