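import Cfsg.Prelude.Def_OddOrderLocal
import Cfsg.Prelude.Def_CaseTheorems
import Cfsg.Agent.Lib.PGroup.ClassThreePower
import Cfsg.Agent.Lib.PGroup.MaxNormalAbelian
import Cfsg.Agent.Lib.PGroup.ElementaryBasic
import Cfsg.Agent.Lib.Coprime.PGroupFrattini
import Cfsg.Agent.Lib.Fusion.StableClosureBasic

/-!
# `Ω₁` and quotients of `p`-groups of rank two, `p > 3`
-/

set_option autoImplicit false
set_option linter.style.haveILetI false
set_option linter.unusedSectionVars false

open Subgroup
open scoped commutatorElement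

namespace CfsgLib.RankTwoOmega

open CfsgLib.PGroup

universe u

variable {p : ℕ} [Fact p.Prime]

/-- A `p`-group with cyclic Frattini quotient is abelian. -/
theorem commutator_eq_bot_of_index_frattini {G : Type u} [Group G] [Finite G] (hG : IsPGroup p G)
    (h : (frattini G).index ≤ p) : commutator G = ⊥ := by
  have hc : IsCyclic (G ⧸ frattini G) := by
    obtain ⟨k, hk⟩ := hG.index (frattini G)
    rcases Nat.lt_or_ge k 1 with hk0 | hk1
    · haveI : Subsingleton (G ⧸ frattini G) := (Nat.card_eq_one_iff_unique.1 (by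
        rw [← index_eq_card, hk, show k = 0 by omega, pow_zero])).1
      exact isCyclic_of_subsingleton
    · refine isCyclic_of_prime_card (p := p) ?_
      rw [← index_eq_card]
      refine le_antisymm h ?_
      rw [hk]; exact Nat.le_self_pow (by omega) p
  obtain ⟨x', hx⟩ := hc.exists_generator
  obtain ⟨x, rfl⟩ := QuotientGroup.mk_surjective x'
  have htop : zpowers x ⊔ frattini G = ⊤ := eq_top_iff.2 fun g _ => by
    obtain ⟨i, hi⟩ := hx (g : G ⧸ frattini G)
    have hi' : ((x ^ i : G) : G ⧸ frattini G) = g := (QuotientGroup.mk_zpow _ _ _).trans hi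
    rw [show g = x ^ i * ((x ^ i)⁻¹ * g) by group]
    exact mul_mem (mem_sup_left (zpow_mem (mem_zpowers x) i)) (mem_sup_right (QuotientGroup.eq.1 hi'))
  have htop' := frattini_nongenerating htop
  rw [_root_.commutator_def, ← htop', commutator_eq_bot_iff_le_centralizer]
  rintro _ ⟨i, rfl⟩
  refine mem_centralizer_iff.2 ?_
  rintro _ ⟨j, rfl⟩
  exact (Commute.zpow_zpow (Commute.refl x) j i).eq

/-- Groups of order at most `p^4` have class at most three. -/
theorem classThree_of_card_le {G : Type u} [Group G] [Finite G] (hG : IsPGroup p G)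
    (h : Nat.card G ≤ p ^ 4) :
    ⁅⁅commutator G, (⊤ : Subgroup G)⁆, (⊤ : Subgroup G)⁆ = ⊥ := by
  haveI := hG.isNilpotent
  have hp := (Fact.out : p.Prime)
  set L := fun n => (⊤ : Subgroup G).lowerCentralSeries n with hL
  have hL1 : L 1 = commutator G := Subgroup.top_lowerCentralSeries_one
  have hstep : ∀ n, L n = ⊥ ∨ p * Nat.card (L (n + 1)) ≤ Nat.card (L n) := by
    intro n
    by_cases hb : L n = ⊥
    · exact Or.inl hb
    right
    have hle : L (n + 1) ≤ L n := Subgroup.lowerCentralSeries_antitone _ (Nat.le_succ n)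
    have hne : L (n + 1) ≠ L n := by
      intro e
      have hall : ∀ m, L n ≤ L m := by
        intro m
        induction m with
        | zero => exact le_top
        | succ m ih => exact e.ge.trans (Subgroup.commutator_mono ih le_rfl)
      obtain ⟨k, hk⟩ := Subgroup.nilpotent_iff_lowerCentralSeries.1 (inferInstance : Group.IsNilpotent G)
      exact hb (le_bot_iff.1 ((hall k).trans hk.le))
    obtain ⟨a, ha⟩ := (hG.to_subgroup (L n)).exists_card_eq
    obtain ⟨b, hb'⟩ := (hG.to_subgroup (L (n + 1))).exists_card_eq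
    have hlt : Nat.card (L (n + 1)) < Nat.card (L n) :=
      lt_of_le_of_ne (card_le_of_le hle) fun e => hne (eq_of_le_of_card_ge hle e.ge)
    rw [ha, hb'] at hlt ⊢
    rw [← pow_succ']
    exact Nat.pow_le_pow_right hp.pos (Nat.succ_le_of_lt ((Nat.pow_lt_pow_iff_right hp.one_lt).1 hlt))
  suffices h3 : L 3 = ⊥ by
    rw [← hL1]
    exact h3
  by_cases hc : commutator G = ⊥
  · have h2 : L 3 ≤ L 1 := Subgroup.lowerCentralSeries_antitone _ (by omega)
    exact le_bot_iff.1 (h2.trans (hL1.trans hc).le)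
  have hi : p * p ≤ (commutator G).index := by
    obtain ⟨k, hk⟩ := hG.index (frattini G)
    have hk2 : 2 ≤ k := by
      by_contra hk2
      refine hc (commutator_eq_bot_of_index_frattini hG ?_)
      rw [hk]
      calc p ^ k ≤ p ^ 1 := Nat.pow_le_pow_right hp.pos (by omega)
        _ = p := pow_one p
    calc p * p = p ^ 2 := (pow_two p).symm
      _ ≤ (frattini G).index := hk ▸ Nat.pow_le_pow_right hp.pos hk2
      _ ≤ (commutator G).index := Nat.le_of_dvd (Nat.pos_of_ne_zero index_ne_zero_of_finite)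
          (index_dvd_of_le (CfsgLib.Coprime.commutator_le_frattini hG))
  have h1 : Nat.card (L 1) ≤ p ^ 2 := by
    refine Nat.le_of_mul_le_mul_right ?_ (Nat.mul_pos hp.pos hp.pos)
    rw [hL1]
    calc Nat.card (commutator G) * (p * p) ≤ Nat.card (commutator G) * (commutator G).index :=
          Nat.mul_le_mul_left _ hi
      _ = Nat.card G := card_mul_index _
      _ ≤ p ^ 4 := h
      _ = p ^ 2 * (p * p) := by ring
  have h2 : L 2 = ⊥ ∨ Nat.card (L 2) ≤ p := by
    rcases hstep 1 with e | e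
    · exact absurd (hL1 ▸ e) hc
    · exact Or.inr (Nat.le_of_mul_le_mul_left (e.trans (h1.trans (pow_two p).le)) hp.pos)
  rcases hstep 2 with e | e
  · exact le_bot_iff.1 ((Subgroup.lowerCentralSeries_antitone _ (Nat.le_succ 2)).trans e.le)
  rcases h2 with e2 | e2
  · exact le_bot_iff.1 ((Subgroup.lowerCentralSeries_antitone _ (Nat.le_succ 2)).trans e2.le)
  refine card_eq_one.1 (le_antisymm ?_ Nat.card_pos)
  exact Nat.le_of_mul_le_mul_left ((e.trans e2).trans (mul_one p).ge) hp.pos

/-- In class three, with central `p`-th powers, the `p`-th power is multiplicative. -/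
theorem mul_pow_of_central {G : Type u} [Group G] (hp : 3 < p)
    (hcl : ⁅⁅commutator G, (⊤ : Subgroup G)⁆, (⊤ : Subgroup G)⁆ = ⊥) {x y : G}
    (hx : x ^ p ∈ center G) (hy : y ^ p ∈ center G) : (x * y) ^ p = x ^ p * y ^ p := by
  obtain ⟨c, u, v, -, -, -, D⟩ := exists_classThreeData hcl x y
  have hv' : v ^ p = 1 := by
    have h := D.c_y_pow p
    rw [mem_center_iff.1 hy c] at h
    exact mul_eq_left.1 h.symm
  have hu' : u ^ p = 1 := by
    have h := D.c_x_pow p
    rw [mem_center_iff.1 hx c] at h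
    exact mul_eq_left.1 h.symm
  have hc' : c ^ p = 1 := by
    obtain ⟨k, hk⟩ := (Fact.out : p.Prime).dvd_choose_self two_ne_zero (by omega : 2 < p)
    have h := D.y_pow_x p
    rw [hk, pow_mul, hv', one_pow, mul_one, ← mem_center_iff.1 hy x] at h
    exact mul_eq_left.1 h.symm
  exact D.mul_pow_prime Fact.out (by omega) hc' (Or.inl ⟨hp, hu', hv'⟩)

/-- The bound carried through the induction. -/
def SmallPow (p : ℕ) {R : Type u} [Group R] (T : Subgroup R) : Prop :=
  ∀ W : Subgroup R, Nat.card W ≤ p ^ 4 → T ≤ W → (∀ x ∈ W, x ^ p ∈ T) → Nat.card W ≤ p ^ 3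

/-- The elements with `p`-th power in `T` form a subgroup of order at most `p^3`. -/
theorem closure_pow_mem (hp : 3 < p) (n : ℕ) : ∀ (R : Type u) [Group R] [Finite R], Nat.card R = n →
    IsPGroup p R → ∀ T : Subgroup R, T ≤ center R → Nat.card T ≤ p → SmallPow p T →
    (∀ g ∈ Subgroup.closure {x : R | x ^ p ∈ T}, g ^ p ∈ T) ∧
      Nat.card (Subgroup.closure {x : R | x ^ p ∈ T}) ≤ p ^ 3 := by
  induction n using Nat.strong_induction_on with
  | _ n ih =>
  intro R _ _ hn hR T hTc hTp hsmall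
  classical
  have hpr := (Fact.out : p.Prime)
  haveI hTn : T.Normal := ⟨fun t ht g => by
    rw [mem_center_iff.1 (hTc ht) g, mul_inv_cancel_right]; exact ht⟩
  have hTpow : ∀ t ∈ T, t ^ p ∈ T := fun t ht => pow_mem ht p
  obtain ⟨U, ⟨hUn, hTU, hUp⟩, hUmax⟩ := Set.Finite.exists_maximalFor (fun U : Subgroup R => Nat.card U)
    {U : Subgroup R | U.Normal ∧ T ≤ U ∧ ∀ x ∈ U, x ^ p ∈ T} (Set.toFinite _) ⟨T, hTn, le_rfl, hTpow⟩
  haveI := hUn
  have hU3 : Nat.card U ≤ p ^ 3 := by
    by_contra h
    have key : ∀ k ≤ 4, ∃ X : Subgroup R, X.Normal ∧ T ≤ X ∧ X ≤ U ∧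
        ∃ j, Nat.card X = p ^ j ∧ k ≤ j ∧ j ≤ max k 1 := by
      intro k hk
      induction k with
      | zero =>
          obtain ⟨j, hj⟩ := (hR.to_subgroup T).exists_card_eq
          exact ⟨T, hTn, le_rfl, hTU, j, hj, Nat.zero_le j,
            le_trans ((Nat.pow_le_pow_iff_right hpr.one_lt).1 (hj ▸ hTp.trans (pow_one p).ge))
              (le_max_right _ _)⟩
      | succ k ihk =>
          obtain ⟨X, hXn, hTX, hXU, j, hj, hkj, hjk⟩ := ihk (by omega)
          haveI := hXn
          by_cases hbig : k + 1 ≤ j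
          · exact ⟨X, hXn, hTX, hXU, j, hj, hbig, by omega⟩
          obtain rfl : j = k := by omega
          have hlt : X < U := lt_of_le_of_ne hXU fun e => h (by
            rw [← e, hj]; exact Nat.pow_le_pow_right hpr.pos (by omega))
          obtain ⟨X₁, hX₁n, hXX₁, hX₁U, hrel⟩ := exists_normal_step hR hlt
          refine ⟨X₁, hX₁n, hTX.trans hXX₁.le, hX₁U, j + 1, ?_, le_rfl, le_max_left _ _⟩
          have h1 := relIndex_mul_relIndex ⊥ X X₁ bot_le hXX₁.le
          rw [relIndex_bot_left, relIndex_bot_left, hrel, hj] at h1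
          rw [← h1, ← pow_succ]
    obtain ⟨X, -, hTX, hXU, j, hj, h4j, hj4⟩ := key 4 le_rfl
    have hX4 : Nat.card X = p ^ 4 := by rw [hj]; congr 1; omega
    have := hsmall X hX4.le hTX fun x hx => hUp x (hXU hx)
    rw [hX4] at this
    exact absurd ((Nat.pow_le_pow_iff_right hpr.one_lt).1 this) (by omega)
  by_cases hall : ∀ y : R, y ^ p ∈ T → y ∈ U
  · have hle : Subgroup.closure {x : R | x ^ p ∈ T} ≤ U := (closure_le U).2 hall
    exact ⟨fun g hg => hUp g (hle hg), (card_le_of_le hle).trans hU3⟩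
  push Not at hall
  obtain ⟨y, hyT, hyU⟩ := hall
  set W := zpowers y ⊔ U with hW
  have hWc : Nat.card W ≤ p * Nat.card U := by
    have h1 := CfsgLib.EABasic.card_sup_mul_card_inf_of_le_normalizer (H := zpowers y) (N := U)
      (fun g _ => by rw [normalizer_eq_top]; exact mem_top g)
    have hd : p ∣ orderOf y := by
      obtain ⟨m, hm⟩ := IsPGroup.iff_orderOf.1 hR y
      rcases Nat.eq_zero_or_pos m with rfl | hm0
      · exact absurd (orderOf_eq_one_iff.1 (by simpa using hm) ▸ one_mem U) hyU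
      · exact hm ▸ dvd_pow_self p hm0.ne'
    have h2 : Nat.card (zpowers y) ≤ p * Nat.card (zpowers y ⊓ U : Subgroup R) := by
      rw [Nat.card_zpowers]
      refine le_trans ?_ (Nat.mul_le_mul_left p (card_le_of_le
        (zpowers_le.2 (mem_inf.2 ⟨pow_mem (mem_zpowers y) p, hTU hyT⟩) : zpowers (y ^ p) ≤ zpowers y ⊓ U)))
      rw [Nat.card_zpowers, orderOf_pow' _ hpr.ne_zero, Nat.gcd_eq_right hd, Nat.mul_div_cancel' hd]
    refine Nat.le_of_mul_le_mul_right ?_ (Nat.card_pos (α := ↥(zpowers y ⊓ U)))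
    rw [h1]
    calc Nat.card (zpowers y) * Nat.card U ≤ p * Nat.card (zpowers y ⊓ U : Subgroup R) * Nat.card U :=
          Nat.mul_le_mul_right _ h2
      _ = _ := by ring
  have hW4 : Nat.card W ≤ p ^ 4 := hWc.trans ((Nat.mul_le_mul_left p hU3).trans_eq (pow_succ' p 3).symm)
  have hcl := classThree_of_card_le (hR.to_subgroup W) hW4
  have hWp : ∀ x ∈ W, x ^ p ∈ T := by
    intro x hx
    have hgen : W ≤ Subgroup.closure ((U : Set R) ∪ {y}) := sup_le
      (zpowers_le.2 (subset_closure (Or.inr rfl))) fun u hu => subset_closure (Or.inl hu)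
    have hmemW : Subgroup.closure ((U : Set R) ∪ {y}) ≤ W := (closure_le W).2 (by
      rintro z (hz | rfl)
      · exact mem_sup_right hz
      · exact mem_sup_left (mem_zpowers z))
    have hx' := hgen hx
    clear hx
    induction hx' using Subgroup.closure_induction with
    | mem z hz =>
        rcases hz with hz | rfl
        · exact hUp z hz
        · exact hyT
    | one => rw [one_pow]; exact one_mem T
    | mul a b ha hb iha ihb =>
        have hcent : ∀ (w : W), (w : R) ^ p ∈ T → w ^ p ∈ center W := fun w hw =>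
          mem_center_iff.2 fun g => Subtype.ext (mem_center_iff.1 (hTc hw) g)
        have h1 := mul_pow_of_central hp hcl (x := ⟨a, hmemW ha⟩) (y := ⟨b, hmemW hb⟩)
          (hcent _ iha) (hcent _ ihb)
        have h2 := congrArg Subtype.val h1
        push_cast at h2
        rw [h2]; exact mul_mem iha ihb
    | inv a _ iha => rw [inv_pow]; exact inv_mem iha
  have hW3 := hsmall W hW4 (hTU.trans le_sup_right) hWp
  have hlt : Nat.card U < Nat.card W := lt_of_le_of_ne (card_le_of_le le_sup_right) fun e =>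
    hyU ((eq_of_le_of_card_ge (le_sup_right : U ≤ W) e.ge).ge (mem_sup_left (mem_zpowers y)))
  by_cases hWtop : W = ⊤
  · exact ⟨fun g _ => hWp g (hWtop ▸ mem_top g),
      (card_le_of_le (le_top.trans hWtop.ge)).trans hW3⟩
  exfalso
  obtain ⟨M, hM, hWM⟩ := (eq_top_or_exists_le_coatom W).resolve_left hWtop
  obtain ⟨hMn, hMi⟩ := CfsgLib.Coprime.coatom_data_of_pGroup hR hM
  haveI := hMn
  have hTM : T ≤ M := (hTU.trans le_sup_right).trans hWM
  have hMlt : Nat.card M < n := hn ▸ lt_of_le_of_ne (card_le_card_group M) fun e =>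
    hM.1 (eq_top_of_card_eq M e)
  obtain ⟨hM1, -⟩ := ih _ hMlt M rfl (hR.to_subgroup M) (T.subgroupOf M)
    (fun t ht => mem_center_iff.2 fun g => Subtype.ext (mem_center_iff.1 (hTc ht) g))
    ((Nat.card_congr (subgroupOfEquivOfLe hTM).toEquiv).trans_le hTp) fun X hX hTX hXp => by
      have := hsmall (X.map M.subtype) (by rwa [card_map_of_injective M.subtype_injective])
        (fun t ht => ⟨⟨t, hTM ht⟩, hTX ht, rfl⟩) (by rintro _ ⟨x, hx, rfl⟩; exact hXp x hx)
      rwa [card_map_of_injective M.subtype_injective] at this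
  set U' := (Subgroup.closure {x : M | x ^ p ∈ T.subgroupOf M}).map M.subtype with hU'
  haveI hU'n : U'.Normal := by
    refine ⟨fun x hx g => ?_⟩
    have hg : U'.map (MulAut.conj g).toMonoidHom ≤ U' := by
      rw [hU', MonoidHom.map_closure, MonoidHom.map_closure]
      refine closure_mono ?_
      rintro _ ⟨_, ⟨z, hz, rfl⟩, rfl⟩
      refine ⟨⟨g * z * g⁻¹, hMn.conj_mem z z.2 g⟩, ?_, by simp⟩
      show (g * (z : R) * g⁻¹) ^ p ∈ T
      rw [conj_pow]
      exact hTn.conj_mem _ hz g
    exact hg ⟨x, hx, by simp⟩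
  have hU'p : ∀ x ∈ U', x ^ p ∈ T := by
    rintro _ ⟨x, hx, rfl⟩
    exact hM1 x hx
  have hWU' : W ≤ U' := fun w hw => ⟨⟨w, hWM hw⟩, subset_closure (hWp w hw), rfl⟩
  have hge := hUmax ⟨hU'n, (hTU.trans le_sup_right).trans hWU', hU'p⟩
    (card_le_of_le (le_sup_right.trans hWU'))
  exact absurd (hlt.trans_le (card_le_of_le hWU')) (not_lt.2 hge)

/-- Exponent `p` and rank two give order at most `p^3`. -/
theorem card_le_of_exponent {R : Type u} [Group R] [Finite R] (hR : IsPGroup p R) (hp : p ≠ 2)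
    (he : ∀ x : R, x ^ p = 1) (hrk : ∀ E : Subgroup R, Cfsg.IsElementaryAbelian p E → Nat.card E ≤ p ^ 2) :
    Nat.card R ≤ p ^ 3 := by
  obtain ⟨A, ⟨hAn, hAc⟩, hAmax⟩ := (Set.toFinite
    {A : Subgroup R | A.Normal ∧ IsMulCommutative A}).exists_maximal
      ⟨⊥, inferInstance, ⟨⟨fun a b => Subsingleton.elim _ _⟩⟩⟩
  haveI := hAn
  have hC : centralizer (A : Set R) ≤ A := fun x hx =>
    mem_of_maximal_abelian_exponent hR (n := 1) (by rwa [pow_one]) hAc
      (fun a _ => by rw [pow_one]; exact he a)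
      (fun B hB hBc _ hAB => le_antisymm (hAmax ⟨hB, hBc⟩ hAB) hAB) hx (by rw [pow_one]; exact he x)
  obtain ⟨a, ha⟩ := (hR.to_subgroup A).exists_card_eq
  have ha2 : a ≤ 2 := (Nat.pow_le_pow_iff_right (Fact.out : p.Prime).one_lt).1
    (ha ▸ hrk A ⟨hAc, fun x _ => he x⟩)
  have hidx := index_centralizer_le_pow hR a A hAc ha
  calc Nat.card R = Nat.card (centralizer (A : Set R)) * (centralizer (A : Set R)).index :=
        (card_mul_index _).symm
    _ ≤ p ^ a * p ^ (a * (a - 1) / 2) := Nat.mul_le_mul ((card_le_of_le hC).trans ha.le) hidx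
    _ ≤ p ^ 3 := by
      rw [← pow_add]
      exact Nat.pow_le_pow_right (Fact.out : p.Prime).pos (by interval_cases a <;> omega)

/-- For `p > 3` and rank two, the elements of order `p` generate a group of exponent `p`. -/
theorem closure_omega_exponent (hp : 3 < p) {R : Type u} [Group R] [Finite R] (hR : IsPGroup p R)
    (hrk : ∀ E : Subgroup R, Cfsg.IsElementaryAbelian p E → Nat.card E ≤ p ^ 2) :
    ∀ g ∈ Subgroup.closure {x : R | x ^ p = 1}, g ^ p = 1 := by
  have h := (closure_pow_mem hp _ R rfl hR ⊥ bot_le (by simp [(Fact.out : p.Prime).one_lt.le])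
    fun W hW _ hWp => card_le_of_exponent (hR.to_subgroup W) (by omega)
      (fun x => Subtype.ext (mem_bot.1 (hWp x x.2))) fun E hE => by
        have := hrk (E.map W.subtype) (CfsgLib.Fusion.elementary_map _ hE)
        rwa [card_map_of_injective W.subtype_injective] at this).1
  have e : {x : R | x ^ p = 1} = {x : R | x ^ p ∈ (⊥ : Subgroup R)} := by simp
  rw [e]
  exact fun g hg => mem_bot.1 (h g hg)

/-- The number of elements of order dividing `p` in a quotient. -/
theorem omega_quotient_le (hp : 3 < p) (n : ℕ) : ∀ (R : Type u) [Group R] [Finite R], IsPGroup p R →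
    Nat.card ↥(Cfsg.omegaOne p (⊤ : Subgroup R)) ≤ p ^ 2 → ∀ (T : Subgroup R) [T.Normal],
      Nat.card T = n → Nat.card ↥(Cfsg.omegaOne p (⊤ : Subgroup (R ⧸ T))) ≤ p ^ 2 := by
  induction n using Nat.strong_induction_on with
  | _ n ih =>
  intro R _ _ hR hO T _ hn
  have hpr := (Fact.out : p.Prime)
  by_cases hT : T = ⊥
  · subst hT
    let e : R ≃* R ⧸ (⊥ : Subgroup R) := QuotientGroup.quotientBot.symm
    rw [← Subgroup.map_top_of_surjective (e.toMonoidHom) e.surjective,
      ← CfsgLib.Fusion.omega_map_eq e.toMonoidHom e.injective,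
      card_map_of_injective (f := e.toMonoidHom) e.injective]
    exact hO
  -- a central subgroup of order `p` inside `T`
  haveI := hR.isNilpotent
  have hne := CfsgLib.Coprime.nilpotent_inf_center_ne_bot T hT
  obtain ⟨k, hk⟩ := (hR.to_subgroup (T ⊓ center R)).exists_card_eq
  have hk0 : k ≠ 0 := fun e => hne (card_eq_one.1 (by rw [hk, e, pow_zero]))
  obtain ⟨z, hz⟩ := exists_prime_orderOf_dvd_card' (G := ↥(T ⊓ center R)) p (hk ▸ dvd_pow_self p hk0)
  have hzo : orderOf (z : R) = p := (orderOf_coe z).trans hz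
  set T₀ := zpowers (z : R) with hT₀
  have hT₀c : Nat.card T₀ = p := by rw [hT₀, Nat.card_zpowers, hzo]
  have hT₀Z : T₀ ≤ center R := zpowers_le.2 z.2.2
  have hT₀T : T₀ ≤ T := zpowers_le.2 z.2.1
  haveI hT₀n : T₀.Normal := ⟨fun t ht g => by
    rw [mem_center_iff.1 (hT₀Z ht) g, mul_inv_cancel_right]; exact ht⟩
  have hsmall : SmallPow p T₀ := by
    intro W hW4 _ hWp
    have hcl := classThree_of_card_le (hR.to_subgroup W) hW4
    let f : W →* T₀ := MonoidHom.mk' (fun w => ⟨(w : R) ^ p, hWp w w.2⟩) fun a b => Subtype.ext (by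
      have hcent : ∀ (w : W), w ^ p ∈ center W := fun w =>
        mem_center_iff.2 fun g => Subtype.ext (mem_center_iff.1 (hT₀Z (hWp w w.2)) g)
      have h := congrArg Subtype.val (mul_pow_of_central hp hcl (hcent a) (hcent b))
      exact h)
    have hker : Nat.card f.ker ≤ p ^ 2 := by
      refine le_trans ?_ hO
      rw [← card_map_of_injective (K := f.ker) W.subtype_injective]
      refine card_le_of_le ?_
      rintro _ ⟨w, hw, rfl⟩
      exact subset_closure ⟨mem_top _, congrArg Subtype.val hw⟩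
    calc Nat.card W = Nat.card f.ker * f.ker.index := (card_mul_index _).symm
      _ ≤ p ^ 2 * p := Nat.mul_le_mul hker (by
          rw [index_ker]; exact (card_le_card_group _).trans hT₀c.le)
      _ = p ^ 3 := (pow_succ p 2).symm
  obtain ⟨-, hc3⟩ := closure_pow_mem hp _ R rfl hR T₀ hT₀Z hT₀c.le hsmall
  set π := QuotientGroup.mk' T₀
  have hπ : Function.Surjective π := QuotientGroup.mk'_surjective T₀
  have hO' : Nat.card ↥(Cfsg.omegaOne p (⊤ : Subgroup (R ⧸ T₀))) ≤ p ^ 2 := by
    have hle : Cfsg.omegaOne p (⊤ : Subgroup (R ⧸ T₀)) ≤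
        (Subgroup.closure {x : R | x ^ p ∈ T₀}).map π := by
      refine (closure_le _).2 ?_
      rintro q ⟨-, hq⟩
      obtain ⟨x, rfl⟩ := hπ q
      exact mem_map_of_mem π (subset_closure (show x ^ p ∈ T₀ from
        (QuotientGroup.eq_one_iff _).1 (by rw [QuotientGroup.mk_pow]; exact hq)))
    refine (card_le_of_le hle).trans (Nat.le_of_mul_le_mul_left ?_ hpr.pos)
    set S := Subgroup.closure {x : R | x ^ p ∈ T₀} with hS
    have hTS : T₀ ≤ S := fun t ht => subset_closure (pow_mem ht p)
    have h1 := relIndex_mul_relIndex ⊥ T₀ S bot_le hTS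
    rw [relIndex_bot_left, relIndex_bot_left, hT₀c] at h1
    have h2 : Nat.card (S.map π) = T₀.relIndex S := by
      rw [← relIndex_ker, QuotientGroup.ker_mk']
    rw [h2, h1]
    exact hc3.trans_eq (pow_succ' p 2)
  haveI : (T.map π).Normal := (inferInstance : T.Normal).map π hπ
  have hlt : Nat.card (T.map π) < n := by
    have h1 := relIndex_mul_relIndex ⊥ T₀ T bot_le hT₀T
    rw [relIndex_bot_left, relIndex_bot_left, hT₀c] at h1
    have h2 : Nat.card (T.map π) = T₀.relIndex T := by
      rw [← relIndex_ker, QuotientGroup.ker_mk']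
    rw [h2, ← hn, ← h1]
    exact lt_mul_of_one_lt_left (Nat.pos_of_ne_zero fun e => by
      rw [e, mul_zero] at h1; exact Nat.card_pos.ne h1) hpr.one_lt
  have h := ih _ hlt (R ⧸ T₀) (hR.to_quotient T₀) hO' (T.map π) rfl
  let e : (R ⧸ T₀) ⧸ T.map π ≃* R ⧸ T := QuotientGroup.quotientQuotientEquivQuotient T₀ T hT₀T
  rw [← Subgroup.map_top_of_surjective (e.toMonoidHom) e.surjective,
    ← CfsgLib.Fusion.omega_map_eq e.toMonoidHom e.injective,
    card_map_of_injective (f := e.toMonoidHom) e.injective]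
  exact h

end CfsgLib.RankTwoOmega
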