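import Cfsg.Agent.Lib.PGroup.Kazarin
import Cfsg.Agent.Lib.CFun.Critical
import Cfsg.Agent.Lib.Fusion.PComplement

/-!
# Minimal `p`-elements of `p`-power class size

If all elements of order `p` (and of order 4 for `p = 2`) have `p`-power class size, then the
group has a normal `p`-complement.
-/

set_option autoImplicit false
set_option linter.style.haveILetI false

open Subgroup
open scoped commutatorElement

namespace CfsgLib.PGroup

universe u v

/-- The exponent singling out the minimal `p`-elements: `p`, or 4 for `p = 2`. -/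
def smallExp (p : ℕ) : ℕ := if p = 2 then 4 else p

theorem smallExp_dvd (p : ℕ) : p ∣ smallExp p := by
  unfold smallExp; split_ifs with h
  · subst h; norm_num
  · exact dvd_rfl

theorem eq_one_of_fixed_iterate {V : Type*} [Group V] {φ : MulAut V} {v w : V} {p n : ℕ}
    (hp : p.Prime) (hV : IsPGroup p V) (hn : φ ^ n = 1) (hpn : ¬ p ∣ n) (hvw : φ v = v * w)
    (hw : φ w = w) : w = 1 := by
  have hit : ∀ i : ℕ, (φ ^ i) v = v * w ^ i := by
    intro i
    induction i with
    | zero => simp
    | succ i ih =>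
      rw [pow_succ', MulAut.mul_apply, ih, map_mul, map_pow, hvw, hw, mul_assoc, ← pow_succ']
  have h0 := hit n
  rw [hn, MulAut.one_apply, left_eq_mul] at h0
  obtain ⟨k, hk⟩ := hV w
  exact orderOf_eq_one_iff.1 (Nat.eq_one_of_dvd_coprimes
    ((hp.coprime_iff_not_dvd.2 hpn).pow_left k) (orderOf_dvd_of_pow_eq_one hk)
    (orderOf_dvd_of_pow_eq_one h0))

/-- If a finite group acts on a `p`-group and every orbit has `p`-power length then its elements
of order prime to `p` act trivially. -/
theorem trivial_of_pPower_orbits {G : Type u} [Group G] [Finite G] {p : ℕ} [Fact p.Prime] :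
    ∀ {V : Type v} [Group V] [Finite V], IsPGroup p V → ∀ φ : G →* MulAut V,
      (∀ x : V, ∃ (H : Subgroup G) (a : ℕ), (∀ g ∈ H, φ g x = x) ∧ H.index = p ^ a) →
      ∀ g : G, ¬ p ∣ orderOf g → ∀ x : V, φ g x = x := by
  intro V _ _ hV
  induction hn : Nat.card V using Nat.strong_induction_on generalizing V with
  | _ n ih =>
  subst hn
  intro φ hφ g hg x
  rcases subsingleton_or_nontrivial V with hs | hnt
  · exact Subsingleton.elim _ _
  haveI := hV.center_nontrivial
  -- a non-trivial fixed point in the centre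
  obtain ⟨P⟩ : Nonempty (Sylow p G) := inferInstance
  letI act : MulAction P (Subgroup.center V) :=
    { smul := fun a z => ⟨φ (a : G) (z : V), Subgroup.mem_center_iff.2 fun w => by
          obtain ⟨w', rfl⟩ := (φ (a : G)).surjective w
          rw [← map_mul, ← map_mul, Subgroup.mem_center_iff.1 z.2 w']⟩
      one_smul := fun z => Subtype.ext (show φ ((1 : P) : G) (z : V) = z by
        rw [OneMemClass.coe_one, map_one, MulAut.one_apply])
      mul_smul := fun a b z => Subtype.ext (show φ ((a * b : P) : G) (z : V) = _ by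
        rw [Subgroup.coe_mul, map_mul, MulAut.mul_apply]; rfl) }
  obtain ⟨u, hu, hu1⟩ : ∃ u : Subgroup.center V, u ∈ MulAction.fixedPoints P (Subgroup.center V) ∧
      (1 : Subgroup.center V) ≠ u := by
    refine P.isPGroup'.exists_fixed_point_of_prime_dvd_card_of_fixed_point _ ?_ fun a =>
      Subtype.ext (map_one (φ (a : G)))
    obtain ⟨k, hk⟩ := IsPGroup.iff_card.1 (hV.to_subgroup (Subgroup.center V))
    have h1 : 1 < Nat.card (Subgroup.center V) := Finite.one_lt_card
    rw [hk] at h1 ⊢
    exact dvd_pow_self p fun h => by rw [h, pow_zero] at h1; exact lt_irrefl _ h1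
  set c : V := (u : V) with hc
  have hc1 : c ≠ 1 := fun h => hu1 (Subtype.ext h.symm)
  have hcfix : ∀ b : G, φ b c = c := by
    intro b
    obtain ⟨H, a, hH, hidx⟩ := hφ c
    let S : Subgroup G :=
      { carrier := {b | φ b c = c}
        one_mem' := by show φ 1 c = c; rw [map_one, MulAut.one_apply]
        mul_mem' := fun {a b} (ha : φ a c = c) (hb : φ b c = c) => by
          show φ (a * b) c = c; rw [map_mul, MulAut.mul_apply, hb, ha]
        inv_mem' := fun {a} (ha : φ a c = c) => by
          show φ a⁻¹ c = c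
          conv_lhs => rw [← ha]
          rw [← MulAut.mul_apply, ← map_mul, inv_mul_cancel, map_one, MulAut.one_apply] }
    have h1 : S.index ∣ p ^ a := hidx ▸ Subgroup.index_dvd_of_le (fun b hb => hH b hb)
    have h2 : S.index ∣ (P : Subgroup G).index :=
      Subgroup.index_dvd_of_le fun b hb => congrArg Subtype.val (hu ⟨b, hb⟩)
    have h3 : S.index = 1 := Nat.eq_one_of_dvd_coprimes
      (((Fact.out : p.Prime).coprime_iff_not_dvd.2 P.not_dvd_index).pow_left a) h1 h2
    have : b ∈ S := (Subgroup.index_eq_one.1 h3) ▸ Subgroup.mem_top b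
    exact this
  set N := Subgroup.zpowers c with hN
  haveI : N.Normal := ⟨fun z hz w => by
    obtain ⟨i, rfl⟩ := hz
    have hci : c ^ i ∈ Subgroup.center V := Subgroup.zpow_mem _ u.2 i
    rw [Subgroup.mem_center_iff.1 hci w, mul_inv_cancel_right]
    exact zpow_mem (Subgroup.mem_zpowers c) i⟩
  have hNfix : ∀ b : G, ∀ z ∈ N, φ b z = z := by
    rintro b _ ⟨i, rfl⟩
    rw [map_zpow, hcfix b]
  have hNmap : ∀ b : G, N.map ((φ b) : V →* V) = N := fun b => by
    refine le_antisymm ?_ fun z hz => ⟨z, hz, hNfix b z hz⟩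
    rintro _ ⟨z, hz, rfl⟩
    exact (hNfix b z hz).symm ▸ hz
  let ψ : G →* MulAut (V ⧸ N) :=
    { toFun := fun b => QuotientGroup.congr N N (φ b) (hNmap b)
      map_one' := by
        refine MulEquiv.ext fun z => ?_
        obtain ⟨z, rfl⟩ := QuotientGroup.mk'_surjective N z
        show QuotientGroup.mk' N (φ 1 z) = QuotientGroup.mk' N z
        rw [map_one, MulAut.one_apply]
      map_mul' := fun a b => by
        refine MulEquiv.ext fun z => ?_
        obtain ⟨z, rfl⟩ := QuotientGroup.mk'_surjective N z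
        show QuotientGroup.mk' N (φ (a * b) z) = QuotientGroup.mk' N (φ a (φ b z))
        rw [map_mul, MulAut.mul_apply] }
  have hlt : Nat.card (V ⧸ N) < Nat.card V := by
    rw [Subgroup.card_eq_card_quotient_mul_card_subgroup N]
    refine lt_mul_of_one_lt_right Nat.card_pos (N.one_lt_card_iff_ne_bot.2 fun h => hc1 ?_)
    rwa [hN, Subgroup.zpowers_eq_bot] at h
  have hq := ih _ hlt (hV.to_quotient N) rfl ψ (fun z => by
    obtain ⟨z, rfl⟩ := QuotientGroup.mk'_surjective N z
    obtain ⟨H, a, hH, hidx⟩ := hφ z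
    refine ⟨H, a, fun b hb => ?_, hidx⟩
    show QuotientGroup.mk' N (φ b z) = QuotientGroup.mk' N z
    rw [hH b hb]) g hg (QuotientGroup.mk' N x)
  change QuotientGroup.mk' N (φ g x) = QuotientGroup.mk' N x at hq
  have hw : x⁻¹ * φ g x ∈ N := QuotientGroup.eq.1 hq.symm
  have h1 := eq_one_of_fixed_iterate (φ := φ g) (v := x) (w := x⁻¹ * φ g x) Fact.out hV
    (n := orderOf g) (by rw [← map_pow, pow_orderOf_eq_one, map_one]) hg (by group)
    (hNfix g _ hw)
  exact (inv_mul_eq_one.1 h1).symm

theorem mul_pow_of_central_commutator {G : Type*} [Group G] {a b z : G} (hba : b * a = z * (a * b))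
    (hza : Commute z a) (hzb : Commute z b) :
    ∀ n : ℕ, (a * b) ^ n = z ^ (n.choose 2) * (a ^ n * b ^ n) := by
  have hbn : ∀ n : ℕ, b ^ n * a = z ^ n * (a * b ^ n) := by
    intro n
    induction n with
    | zero => simp
    | succ n ih =>
      calc b ^ (n + 1) * a = b ^ n * (b * a) := by rw [pow_succ, mul_assoc]
        _ = b ^ n * (z * (a * b)) := by rw [hba]
        _ = (b ^ n * z) * (a * b) := by group
        _ = (z * b ^ n) * (a * b) := by rw [(hzb.pow_right n).eq]
        _ = z * (b ^ n * a) * b := by group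
        _ = z * (z ^ n * (a * b ^ n)) * b := by rw [ih]
        _ = z ^ (n + 1) * (a * b ^ (n + 1)) := by rw [pow_succ' z, pow_succ b]; group
  intro n
  induction n with
  | zero => simp
  | succ n ih =>
    have hch : (n + 1).choose 2 = n + n.choose 2 := by
      rw [Nat.choose_succ_succ, Nat.choose_one_right]
    calc (a * b) ^ (n + 1) = z ^ (n.choose 2) * (a ^ n * (b ^ n * a) * b) := by
          rw [pow_succ, ih]; group
      _ = z ^ (n.choose 2) * (a ^ n * (z ^ n * (a * b ^ n)) * b) := by rw [hbn]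
      _ = z ^ (n.choose 2) * ((a ^ n * z ^ n) * (a * b ^ n * b)) := by group
      _ = z ^ (n.choose 2) * ((z ^ n * a ^ n) * (a * b ^ n * b)) := by
          rw [((hza.pow_left n).pow_right n).eq]
      _ = z ^ ((n + 1).choose 2) * (a ^ (n + 1) * b ^ (n + 1)) := by
          rw [hch, add_comm n, pow_add, pow_succ a, pow_succ b]; group

section Critical

variable {G : Type u} [Group G] {p : ℕ} [hp : Fact p.Prime] {A : Subgroup G}
  (hpow : ∀ a ∈ A, a ^ p ∈ CfsgLib.CFun.cen A) (hcc : ⁅A, A⁆ ≤ centralizer (A : Set G))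

include hpow hcc

theorem commutator_data {a b : G} (ha : a ∈ A) (hb : b ∈ A) :
    Commute ⁅b, a⁆ a ∧ Commute ⁅b, a⁆ b ∧ ⁅b, a⁆ ^ p = 1 := by
  have hz := hcc (Subgroup.commutator_mem_commutator hb ha)
  have hza : Commute ⁅b, a⁆ a := (Subgroup.mem_centralizer_iff.1 hz a ha).symm
  have hzb : Commute ⁅b, a⁆ b := (Subgroup.mem_centralizer_iff.1 hz b hb).symm
  refine ⟨hza, hzb, ?_⟩
  set z := ⁅b, a⁆ with hzdef
  have hit : ∀ n : ℕ, b ^ n * a * (b ^ n)⁻¹ = z ^ n * a := by
    intro n
    induction n with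
    | zero => simp
    | succ n ih =>
      calc b ^ (n + 1) * a * (b ^ (n + 1))⁻¹ = b ^ n * (b * a * b⁻¹) * (b ^ n)⁻¹ := by
            rw [pow_succ]; group
        _ = b ^ n * (z * a) * (b ^ n)⁻¹ := by rw [hzdef, commutatorElement_def]; group
        _ = (b ^ n * z) * a * (b ^ n)⁻¹ := by group
        _ = (z * b ^ n) * a * (b ^ n)⁻¹ := by rw [(hzb.pow_right n).eq]
        _ = z * (b ^ n * a * (b ^ n)⁻¹) := by group
        _ = z ^ (n + 1) * a := by rw [ih, pow_succ']; group
  have h := hit p
  rw [show b ^ p * a * (b ^ p)⁻¹ = a by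
    rw [← Subgroup.mem_centralizer_iff.1 (hpow b hb).2 a ha, mul_inv_cancel_right]] at h
  exact mul_eq_right.1 h.symm

theorem mul_pow_of_mem {a b : G} (ha : a ∈ A) (hb : b ∈ A) {n : ℕ} (hn : p ∣ n.choose 2) :
    (a * b) ^ n = a ^ n * b ^ n := by
  obtain ⟨hza, hzb, hzp⟩ := commutator_data hpow hcc ha hb
  obtain ⟨c, hc⟩ := hn
  rw [mul_pow_of_central_commutator (z := ⁅b, a⁆) (by rw [commutatorElement_def]; group) hza hzb n,
    hc, pow_mul, hzp, one_pow, one_mul]

end Critical

theorem dvd_choose_smallExp {p : ℕ} (hp : p.Prime) : p ∣ (smallExp p).choose 2 := by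
  unfold smallExp
  split_ifs with h
  · subst h; decide
  · exact hp.dvd_choose_self two_ne_zero (lt_of_le_of_ne hp.two_le (Ne.symm h))

/-- The minimal `p`-elements of a critical subgroup form a subgroup. -/
def smallSubgroup {G : Type u} [Group G] {p : ℕ} [hp : Fact p.Prime] (A : Subgroup G)
    (hpow : ∀ a ∈ A, a ^ p ∈ CfsgLib.CFun.cen A) (hcc : ⁅A, A⁆ ≤ centralizer (A : Set G)) :
    Subgroup G where
  carrier := {x | x ∈ A ∧ x ^ smallExp p = 1}
  one_mem' := ⟨one_mem A, one_pow _⟩
  mul_mem' := fun {a b} ha hb => ⟨mul_mem ha.1 hb.1, by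
    rw [mul_pow_of_mem hpow hcc ha.1 hb.1 (dvd_choose_smallExp hp.out), ha.2, hb.2, one_mul]⟩
  inv_mem' := fun {a} ha => ⟨inv_mem ha.1, by rw [inv_pow, ha.2, inv_one]⟩

/-- A coprime element normalizing a `p`-subgroup and fixing its elements of order `p`, and of
order 4 when `p = 2`, centralizes it. -/
theorem commute_of_fix_smallExp {G : Type u} [Group G] [Finite G] {p : ℕ} [hp : Fact p.Prime]
    {H : Subgroup G} (hH : IsPGroup p H) {g : G} (hg : g ∈ normalizer (H : Set G))
    (hgp : ¬ p ∣ orderOf g) (hfix : ∀ x ∈ H, x ^ smallExp p = 1 → Commute g x) :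
    g ∈ centralizer (H : Set G) := by
  obtain ⟨C, ⟨hchar, hpow, hcc, hPC⟩, hcen⟩ := CfsgLib.CFun.exists_critical hH
  haveI := hchar
  set θ : MulAut H := Subgroup.normalizerMonoidHom H ⟨g, hg⟩ with hθdef
  have hθ : ∀ y : H, ((θ y : H) : G) = g * y * g⁻¹ := fun y => rfl
  have hn : θ ^ orderOf g = 1 := by
    rw [hθdef, ← map_pow]
    have : (⟨g, hg⟩ : Subgroup.normalizer (H : Set G)) ^ orderOf g = 1 :=
      Subtype.ext (by rw [SubmonoidClass.coe_pow, pow_orderOf_eq_one]; rfl)
    rw [this, map_one]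
  have hsmall : ∀ y : H, y ^ smallExp p = 1 → θ y = y := fun y hy => Subtype.ext (by
    rw [hθ, (hfix y y.2 (by rw [← SubmonoidClass.coe_pow, hy, OneMemClass.coe_one])).eq,
      mul_inv_cancel_right])
  -- the centre of the critical subgroup is fixed
  have hZfix : ∀ z ∈ CfsgLib.CFun.cen C, θ z = z := by
    suffices key : ∀ (k : ℕ), ∀ z ∈ CfsgLib.CFun.cen C, z ^ p ^ k = 1 → θ z = z by
      intro z hz
      obtain ⟨k, hk⟩ := hH z
      exact key k z hz hk
    intro k
    induction k with
    | zero => intro z _ hz; rw [pow_zero, pow_one] at hz; rw [hz, map_one]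
    | succ k ih =>
      intro z hz hzk
      have h1 := ih (z ^ p) (pow_mem hz p) (by rw [← pow_mul, ← pow_succ']; exact hzk)
      have hθz : θ z ∈ C := CfsgLib.CFun.mem_of_map_conj θ hz.1
      have hcm : Commute z⁻¹ (θ z) :=
        (show Commute (θ z) z from Subgroup.mem_centralizer_iff.1 hz.2 (θ z) hθz).symm.inv_left
      have hwp : (z⁻¹ * θ z) ^ p = 1 := by
        rw [hcm.mul_pow, ← map_pow, h1, inv_pow, inv_mul_cancel]
      have hwfix : θ (z⁻¹ * θ z) = z⁻¹ * θ z := by
        refine hsmall _ ?_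
        obtain ⟨c, hc⟩ := smallExp_dvd p
        rw [hc, pow_mul, hwp, one_pow]
      have := eq_one_of_fixed_iterate (φ := θ) (v := z) hp.out hH hn hgp (w := z⁻¹ * θ z) (by group)
        hwfix
      exact (inv_mul_eq_one.1 this).symm
  -- hence the critical subgroup is fixed
  have hCfix : ∀ c ∈ C, θ c = c := by
    intro c hc
    have hθc : θ c ∈ C := CfsgLib.CFun.mem_of_map_conj θ hc
    have hce : c ^ smallExp p ∈ CfsgLib.CFun.cen C := by
      obtain ⟨d, hd⟩ := smallExp_dvd p
      rw [hd, pow_mul]; exact pow_mem (hpow c hc) d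
    have h1 := hZfix _ hce
    have hw : (c⁻¹ * θ c) ^ smallExp p = 1 := by
      rw [mul_pow_of_mem hpow hcc (inv_mem hc) hθc (dvd_choose_smallExp hp.out), ← map_pow, h1,
        inv_pow, inv_mul_cancel]
    have := eq_one_of_fixed_iterate (φ := θ) (v := c) hp.out hH hn hgp (w := c⁻¹ * θ c) (by group)
      (hsmall _ hw)
    exact (inv_mul_eq_one.1 this).symm
  have hθ1 : θ = 1 := by
    refine CfsgLib.CFun.eq_one_of_fixes_critical hH (hPC.trans inf_le_left) hcen θ ?_ hCfix
    exact Nat.Coprime.coprime_dvd_left (orderOf_dvd_of_pow_eq_one hn)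
      ((hp.out.coprime_iff_not_dvd.2 hgp).symm)
  refine Subgroup.mem_centralizer_iff.2 fun y hy => ?_
  have h := congrArg (fun σ : MulAut H => ((σ ⟨y, hy⟩ : H) : G)) hθ1
  simp only [hθ, MulAut.one_apply] at h
  exact (mul_inv_eq_iff_eq_mul.1 h).symm

theorem not_dvd_card_fitting {G : Type u} [Group G] [Finite G] {p : ℕ} [Fact p.Prime]
    (hcore : Cfsg.pCore p G = ⊥) : ¬ p ∣ Nat.card (Cfsg.fittingSubgroup G) := by
  haveI := Coprime.fitting_normal (G := G)
  haveI : Group.IsNilpotent (Cfsg.fittingSubgroup G) := Coprime.fitting_isNilpotent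
  intro hd
  obtain ⟨P⟩ : Nonempty (Sylow p (Cfsg.fittingSubgroup G)) := inferInstance
  haveI : (P : Subgroup (Cfsg.fittingSubgroup G)).Normal := inferInstance
  haveI : (P : Subgroup (Cfsg.fittingSubgroup G)).Characteristic :=
    Sylow.characteristic_of_normal P inferInstance
  haveI := Coprime.map_subtype_normal_of_characteristic (Cfsg.fittingSubgroup G)
    (P : Subgroup (Cfsg.fittingSubgroup G))
  have h1 := Coprime.le_pCore (N := (P : Subgroup (Cfsg.fittingSubgroup G)).map
    (Cfsg.fittingSubgroup G).subtype) (P.isPGroup'.map _)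
  rw [hcore, le_bot_iff, Subgroup.map_eq_bot_iff, Subgroup.ker_subtype, le_bot_iff] at h1
  have h2 := P.dvd_card_of_dvd_card hd
  rw [show Nat.card P = 1 from Subgroup.card_eq_one.2 h1] at h2
  exact (Fact.out : p.Prime).not_dvd_one h2

theorem mem_pCore_of_class_pPower {G : Type u} [Group G] [Finite G] {p : ℕ} [Fact p.Prime]
    {y : G} {k a : ℕ} (hy : y ^ p ^ k = 1)
    (hidx : (Subgroup.centralizer ({y} : Set G)).index = p ^ a) : y ∈ Cfsg.pCore p G := by
  haveI := Coprime.pCore_normal' (G := G) p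
  set f := QuotientGroup.mk' (Cfsg.pCore p G) with hf
  have hd : (Subgroup.centralizer ({f y} : Set (G ⧸ Cfsg.pCore p G))).index ∣ p ^ a := by
    rw [← hidx]
    refine (Subgroup.index_dvd_of_le ?_).trans
      (Subgroup.index_map_dvd _ (QuotientGroup.mk'_surjective _))
    rintro _ ⟨c, hc, rfl⟩
    refine Subgroup.mem_centralizer_singleton_iff.2 ?_
    rw [← map_mul, Subgroup.mem_centralizer_singleton_iff.1 hc, map_mul]
  obtain ⟨b, -, hb⟩ := (Nat.dvd_prime_pow (Fact.out : p.Prime)).1 hd
  have hcore := Coprime.pCore_quotient_eq_bot (G := G) p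
  have hle := conjugates_commute_of_pCore_eq_bot (G := G ⧸ Cfsg.pCore p G) hcore hb
  have hmem : f y ∈ Cfsg.fittingSubgroup (G ⧸ Cfsg.pCore p G) :=
    (hle (Subgroup.subset_normalClosure (Set.mem_singleton _))).1
  refine (QuotientGroup.eq_one_iff y).1 (orderOf_eq_one_iff.1 ?_ : f y = 1)
  exact Nat.eq_one_of_dvd_coprimes
    (((Fact.out : p.Prime).coprime_iff_not_dvd.2 (not_dvd_card_fitting hcore)).pow_left k)
    (orderOf_dvd_of_pow_eq_one (by rw [← map_pow, hy, map_one]))
    (Subgroup.orderOf_dvd_natCard _ hmem)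

theorem hasNormalPComplement_of_small_index {G : Type u} [Group G] [Finite G] (p : ℕ)
    [Fact p.Prime]
    (h : ∀ x : G, (orderOf x = p ∨ (p = 2 ∧ orderOf x = 4)) →
      ∃ a : ℕ, (Subgroup.centralizer ({x} : Set G)).index = p ^ a) :
    Cfsg.HasNormalPComplement p G := by
  classical
  set e := smallExp p with he
  have hpr : p.Prime := Fact.out
  have hidx : ∀ x : G, x ^ e = 1 → ∃ a : ℕ, (Subgroup.centralizer ({x} : Set G)).index = p ^ a := by
    intro x hx
    rcases eq_or_ne x 1 with rfl | hx1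
    · refine ⟨0, ?_⟩
      rw [pow_zero, Subgroup.index_eq_one, eq_top_iff]
      exact fun g _ => Subgroup.mem_centralizer_singleton_iff.2 (by simp)
    refine h x ?_
    have hd := orderOf_dvd_of_pow_eq_one hx
    have ho1 : orderOf x ≠ 1 := fun h => hx1 (orderOf_eq_one_iff.1 h)
    rw [he] at hd
    unfold smallExp at hd
    split_ifs at hd with h2
    · subst h2
      obtain ⟨j, hj, hjo⟩ := (Nat.dvd_prime_pow Nat.prime_two).1
        (show orderOf x ∣ 2 ^ 2 by simpa using hd)
      interval_cases j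
      · exact absurd hjo ho1
      · exact Or.inl (by rw [hjo]; rfl)
      · exact Or.inr ⟨rfl, by rw [hjo]; rfl⟩
    · exact Or.inl ((hpr.eq_one_or_self_of_dvd _ hd).resolve_left ho1)
  set O := Cfsg.pCore p G with hO
  haveI hOn : O.Normal := Coprime.pCore_normal' p
  have hOp : IsPGroup p O := Coprime.pCore_isPGroup p
  have hmemO : ∀ x : G, x ^ e = 1 → x ∈ O := fun x hx => by
    obtain ⟨a, ha⟩ := hidx x hx
    refine mem_pCore_of_class_pPower (k := 2) ?_ ha
    rw [he] at hx
    unfold smallExp at hx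
    split_ifs at hx with h2
    · subst h2; simpa using hx
    · rw [pow_two, pow_mul, hx, one_pow]
  -- elements of order prime to `p` centralize `O`
  have hOc : ∀ g : G, ¬ p ∣ orderOf g → g ∈ centralizer (O : Set G) := by
    intro g hg
    obtain ⟨A, hAO, hAn, -, hpow, hcc, -, -, hcrit⟩ := CfsgLib.CFun.exists_critical_in hOp
    haveI := hAn
    set E := smallSubgroup A hpow hcc
    haveI hEn : E.Normal := ⟨fun x hx w => ⟨hAn.conj_mem x hx.1 w, by
      rw [conj_pow, hx.2, mul_one, mul_inv_cancel]⟩⟩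
    have hEp : IsPGroup p E := hOp.to_le fun x hx => hAO hx.1
    have hEfix := trivial_of_pPower_orbits hEp (MulAut.conjNormal (H := E)) (fun x => by
      obtain ⟨a, ha⟩ := hidx x x.2.2
      refine ⟨_, a, fun b hb => Subtype.ext ?_, ha⟩
      rw [MulAut.conjNormal_apply, Subgroup.mem_centralizer_singleton_iff.1 hb,
        mul_inv_cancel_right]) g hg
    have hgA : g ∈ centralizer (A : Set G) := by
      refine commute_of_fix_smallExp (hOp.to_le hAO) ?_ hg fun x hx hxe => ?_
      · rw [Subgroup.normalizer_eq_top]; exact Subgroup.mem_top g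
      · have := congrArg Subtype.val (hEfix ⟨x, hx, hxe⟩)
        rw [MulAut.conjNormal_apply] at this
        exact mul_inv_eq_iff_eq_mul.1 this
    have hn : MulAut.conjNormal (H := O) g ^ orderOf g = 1 := by
      rw [← map_pow, pow_orderOf_eq_one, map_one]
    have h1 := hcrit (MulAut.conjNormal g)
      (Nat.Coprime.coprime_dvd_left (orderOf_dvd_of_pow_eq_one hn)
        ((hpr.coprime_iff_not_dvd.2 hg).symm))
      fun a ha => Subtype.ext (by
        rw [MulAut.conjNormal_apply, ← Subgroup.mem_centralizer_iff.1 hgA (a : G) ha,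
          mul_inv_cancel_right])
    refine Subgroup.mem_centralizer_iff.2 fun y hy => ?_
    have := congrArg (fun σ : MulAut O => ((σ ⟨y, hy⟩ : O) : G)) h1
    simp only [MulAut.conjNormal_apply, MulAut.one_apply] at this
    exact (mul_inv_eq_iff_eq_mul.1 this).symm
  obtain ⟨P⟩ : Nonempty (Sylow p G) := inferInstance
  refine Fusion.hasNormalPComplement_of_locallyPNilpotentAction P fun Q hQ g hg hcop => ?_
  have hgp : ¬ p ∣ orderOf g := (hpr.coprime_iff_not_dvd).1 (Nat.coprime_comm.1 hcop)
  refine commute_of_fix_smallExp (P.2.to_le hQ) hg hgp fun x hx hxe => ?_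
  exact ((Subgroup.mem_centralizer_iff.1 (hOc g hgp) x (hmemO x hxe))).symm

end CfsgLib.PGroup
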