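import Mathlib
import Cfsg.Agent.Lib.PGroup.Basic

/-!
# Grün's first theorem
-/

set_option autoImplicit false
open Subgroup MulAction
open scoped commutatorElement

namespace CfsgLib.Gruen

universe u

variable {G : Type u} [Group G] [Finite G] {p : ℕ} [hp : Fact p.Prime]

/-- The right-hand side of Grün's first theorem. -/
def gruenR (P : Sylow p G) : Subgroup G :=
  ((P : Subgroup G) ⊓ ⁅normalizer ((P : Subgroup G) : Set G), normalizer ((P : Subgroup G) : Set G)⁆) ⊔
    ⨆ z : G, (P : Subgroup G) ⊓ (⁅(P : Subgroup G), (P : Subgroup G)⁆).map (MulAut.conj z).toMonoidHom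

theorem gruen_first (P : Sylow p G) : (P : Subgroup G) ⊓ _root_.commutator G = gruenR P := by
  classical
  set N := normalizer ((P : Subgroup G) : Set G)
  set R := gruenR P
  have hRle : R ≤ (P : Subgroup G) := sup_le inf_le_left (iSup_le fun z => inf_le_left)
  have hPG : ⁅(P : Subgroup G), (P : Subgroup G)⁆ ≤ _root_.commutator G := by
    rw [_root_.commutator_def]; exact commutator_mono le_top le_top
  refine le_antisymm ?_ (le_inf hRle (sup_le ?_ (iSup_le fun z => ?_)))
  swap
  · refine inf_le_right.trans ?_
    rw [_root_.commutator_def]; exact commutator_mono le_top le_top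
  swap
  · refine inf_le_right.trans ?_
    rintro _ ⟨w, hw, rfl⟩
    exact (inferInstance : (_root_.commutator G).Normal).conj_mem w (hPG hw) z
  -- the quotient map to `P ⧸ R`
  have hP'R : ∀ a b : (P : Subgroup G), ⁅(a : G), (b : G)⁆ ∈ R := fun a b =>
    mem_sup_left (Subgroup.mem_inf.2 ⟨by
      rw [commutatorElement_def]; exact mul_mem (mul_mem (mul_mem a.2 b.2) (inv_mem a.2)) (inv_mem b.2),
      commutator_mem_commutator (le_normalizer a.2) (le_normalizer b.2)⟩)
  set RP := R.subgroupOf (P : Subgroup G)
  haveI hRn : RP.Normal := ⟨fun n hn g => by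
    change ((g * n * g⁻¹ : (P : Subgroup G)) : G) ∈ R
    have e : ((g * n * g⁻¹ : (P : Subgroup G)) : G) = ⁅(g : G), (n : G)⁆ * n := by
      simp [commutatorElement_def]
    rw [e]; exact mul_mem (hP'R g n) hn⟩
  letI : CommGroup ((P : Subgroup G) ⧸ RP) :=
    { (inferInstance : Group ((P : Subgroup G) ⧸ RP)) with
      mul_comm := fun x y => by
        obtain ⟨a, rfl⟩ := QuotientGroup.mk_surjective x
        obtain ⟨b, rfl⟩ := QuotientGroup.mk_surjective y
        rw [← QuotientGroup.mk_mul, ← QuotientGroup.mk_mul, QuotientGroup.eq]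
        change (((a * b)⁻¹ * (b * a) : (P : Subgroup G)) : G) ∈ R
        have := hP'R b⁻¹ a⁻¹
        simp only [commutatorElement_def, Subgroup.coe_inv, inv_inv] at this
        simpa [mul_assoc] using this }
  let φ : (P : Subgroup G) →* (P : Subgroup G) ⧸ RP := QuotientGroup.mk' RP
  have hφ1 : ∀ a : (P : Subgroup G), φ a = 1 ↔ (a : G) ∈ R := fun a => QuotientGroup.eq_one_iff a
  intro u hu
  induction h : orderOf u using Nat.strong_induction_on generalizing u with
  | _ m ih =>
    obtain ⟨huP, huG⟩ := Subgroup.mem_inf.1 hu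
    rcases eq_or_ne u 1 with rfl | hu1
    · exact one_mem _
    haveI : Fintype (G ⧸ (P : Subgroup G)) := Fintype.ofFinite _
    set uP : (P : Subgroup G) := ⟨u, huP⟩
    let V := MonoidHom.transfer φ
    have hV : V u = 1 := Abelianization.commutator_subset_ker V huG
    -- orbits of `P`
    let Orb := Quotient (orbitRel (P : Subgroup G) (G ⧸ (P : Subgroup G)))
    haveI : Fintype Orb := Fintype.ofFinite _
    let π : G ⧸ (P : Subgroup G) → Orb := Quotient.mk''
    have hy : ∀ q, ∃ y : (P : Subgroup G), y • (π q).out = q := fun q => by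
      have : q ∈ orbit (P : Subgroup G) (π q).out :=
        orbitRel_apply.1 (Quotient.exact (Quotient.out_eq (π q)).symm)
      exact this
    choose y hyq using hy
    let T : (P : Subgroup G).LeftTransversal :=
      ⟨Set.range Quotient.out, Subgroup.isComplement_range_left Quotient.out_eq'⟩
    have hterm : ∀ q : G ⧸ (P : Subgroup G), q.out⁻¹ * (u * (u⁻¹ • q).out) ∈ (P : Subgroup G) := fun q => by
      refine QuotientGroup.eq.1 ?_
      rw [QuotientGroup.out_eq']
      change q = ((u • (u⁻¹ • q).out : G) : G ⧸ (P : Subgroup G))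
      rw [← MulAction.Quotient.smul_coe, QuotientGroup.out_eq', smul_inv_smul]
    have hVprod : V u = ∏ q : G ⧸ (P : Subgroup G), φ ⟨_, hterm q⟩ := by
      rw [MonoidHom.transfer_def φ T u]
      unfold Subgroup.leftTransversals.diff
      refine Finset.prod_congr (Finset.ext fun q => by simp) fun q _ => ?_
      refine congrArg φ (Subtype.ext ?_)
      change (T.2.leftQuotientEquiv q : G)⁻¹ * ((u • T).2.leftQuotientEquiv q : G) = _
      rw [Subgroup.smul_apply_eq_smul_apply_inv_smul,
        Subgroup.IsComplement.leftQuotientEquiv_apply Quotient.out_eq',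
        Subgroup.IsComplement.leftQuotientEquiv_apply Quotient.out_eq', smul_eq_mul]
    have hfib : ∀ o : Orb, ∏ q ∈ Finset.univ.filter (fun q => π q = o), φ ⟨_, hterm q⟩ =
        if (Finset.univ.filter fun q => π q = o).card = 1 then φ uP else 1 := by
      intro o
      set F := Finset.univ.filter fun q => π q = o with hF
      set g : G := o.out.out
      have hg : (g : G ⧸ (P : Subgroup G)) = o.out := QuotientGroup.out_eq' _
      have hπu : ∀ q, π q = o → π (u⁻¹ • q) = o := fun q hq => by
        refine (Quotient.sound' ?_).trans hq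
        exact orbitRel_apply.2 ⟨uP⁻¹, rfl⟩
      -- the correcting factors
      have hyo : ∀ q, π q = o → ((y q : G) * g : G ⧸ (P : Subgroup G)) = q := fun q hq => by
        have := hyq q
        rw [hq, ← hg] at this
        exact this
      have hπ' : ∀ q, π q = o → ((y q : G) * g)⁻¹ * q.out ∈ (P : Subgroup G) := fun q hq =>
        QuotientGroup.eq.1 ((hyo q hq).trans (QuotientGroup.out_eq' q).symm)
      let w : G ⧸ (P : Subgroup G) → (P : Subgroup G) := fun q =>
        if hq : π q = o then ⟨_, hπ' q hq⟩ else 1
      have hw : ∀ q, π q = o → q.out = (y q : G) * g * (w q : G) := fun q hq => by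
        simp only [w, dif_pos hq]; group
      let mid : G ⧸ (P : Subgroup G) → (P : Subgroup G) := fun q => (y q)⁻¹ * (uP * y (u⁻¹ • q))
      have hmidg : ∀ q, π q = o → g⁻¹ * (mid q : G) * g ∈ (P : Subgroup G) := by
        intro q hq
        have h1 := hterm q
        rw [hw q hq, hw _ (hπu q hq)] at h1
        have h2 := mul_mem (mul_mem (w q).2 h1) (inv_mem (w (u⁻¹ • q)).2)
        convert h2 using 1
        simp only [mid, uP, Subgroup.coe_mul, Subgroup.coe_inv]
        group
      let Q : Subgroup (P : Subgroup G) := (P : Subgroup G).comap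
        ((MulAut.conj g⁻¹).toMonoidHom.comp (P : Subgroup G).subtype)
      have hQ : ∀ a : (P : Subgroup G), a ∈ Q ↔ g⁻¹ * (a : G) * g ∈ (P : Subgroup G) := fun a => by
        simp [Q, Subgroup.mem_comap, MulAut.conj_apply]
      let ψ : Q →* (P : Subgroup G) ⧸ RP := φ.comp
        (((MulAut.conj g⁻¹).toMonoidHom.comp ((P : Subgroup G).subtype.comp Q.subtype)).codRestrict _
          fun a => a.2)
      have hψ : ∀ a : Q, ψ a = φ ⟨g⁻¹ * ((a : (P : Subgroup G)) : G) * g, (hQ _).1 a.2⟩ := fun a =>
        congrArg φ (Subtype.ext (by simp [MulAut.conj_apply]))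
      let mQ : G ⧸ (P : Subgroup G) → Q := fun q =>
        if hq : π q = o then ⟨mid q, (hQ _).2 (hmidg q hq)⟩ else 1
      have hsplit : ∀ q ∈ F, φ ⟨_, hterm q⟩ = (φ (w q))⁻¹ * ψ (mQ q) * φ (w (u⁻¹ • q)) := by
        intro q hq
        have hq' : π q = o := (Finset.mem_filter.1 hq).2
        rw [hψ, ← map_inv, ← map_mul, ← map_mul]
        refine congrArg φ (Subtype.ext ?_)
        simp only [mQ, dif_pos hq', mid, Subgroup.coe_mul, Subgroup.coe_inv]
        rw [hw q hq', hw _ (hπu q hq')]
        simp only [uP]
        group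
      have hperm : ∀ {A : Type u} [CommMonoid A] (f : G ⧸ (P : Subgroup G) → A),
          ∏ q ∈ F, f (u⁻¹ • q) = ∏ q ∈ F, f q := by
        intro A _ f
        refine Finset.prod_bij (fun q _ => u⁻¹ • q)
          (fun q hq => Finset.mem_filter.2 ⟨Finset.mem_univ _, hπu q (Finset.mem_filter.1 hq).2⟩)
          (fun q _ q' _ he => MulAction.injective _ he) (fun q hq => ⟨u • q, ?_, inv_smul_smul u q⟩)
          (fun q _ => rfl)
        refine Finset.mem_filter.2 ⟨Finset.mem_univ _, ?_⟩
        refine (Quotient.sound' ?_).trans (Finset.mem_filter.1 hq).2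
        exact orbitRel_apply.2 ⟨uP, rfl⟩
      rw [Finset.prod_congr rfl hsplit, Finset.prod_mul_distrib, Finset.prod_mul_distrib,
        hperm fun q => φ (w q), Finset.prod_inv_distrib, mul_comm _ (∏ q ∈ F, ψ (mQ q)),
        inv_mul_cancel_right]
      set Mr : Q := (F.toList.map mQ).prod with hMr
      have hψM : ∏ q ∈ F, ψ (mQ q) = ψ Mr := by
        rw [hMr, map_list_prod, List.map_map, ← Finset.prod_map_toList]; rfl
      rw [hψM]
      -- modulo commutators the middle product is `u ^ |F|`
      let ab : (P : Subgroup G) →* Abelianization (P : Subgroup G) := Abelianization.of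
      have habM : ab (Mr : (P : Subgroup G)) = ab uP ^ F.card := by
        change (ab.comp Q.subtype) Mr = _
        rw [hMr, map_list_prod, List.map_map, Finset.prod_map_toList]
        have hmq : ∀ q ∈ F, (ab.comp Q.subtype) (mQ q) = (ab (y q))⁻¹ * ab uP * ab (y (u⁻¹ • q)) := by
          intro q hq
          simp only [mQ, dif_pos (Finset.mem_filter.1 hq).2, MonoidHom.comp_apply, Subgroup.coe_subtype, mid,
            map_mul, map_inv, mul_assoc]
        rw [Function.comp_def, Finset.prod_congr rfl hmq, Finset.prod_mul_distrib, Finset.prod_mul_distrib,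
          hperm fun q => ab (y q), Finset.prod_inv_distrib, Finset.prod_const, mul_comm _ (ab uP ^ F.card),
          inv_mul_cancel_right]
      set c : (P : Subgroup G) := (uP ^ F.card)⁻¹ * (Mr : (P : Subgroup G))
      have hc : c ∈ _root_.commutator (P : Subgroup G) := by
        rw [← Abelianization.ker_of, MonoidHom.mem_ker]
        change ab c = 1
        rw [map_mul, map_inv, map_pow, habM, inv_mul_cancel]
      -- the orbit and the stabilizer
      have hFcard : F.card = Q.index := by
        have hst : MulAction.stabilizer (P : Subgroup G) o.out = Q := by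
          ext a
          rw [MulAction.mem_stabilizer_iff, ← hg, hQ]
          change ((a * g : G) : G ⧸ (P : Subgroup G)) = g ↔ _
          rw [eq_comm, QuotientGroup.eq, mul_assoc]
        rw [← hst, MulAction.index_stabilizer, ← Set.ncard_coe_finset]
        congr 1
        ext q
        rw [Finset.mem_coe, hF, Finset.mem_filter]
        refine ⟨fun hq => ⟨y q, by have := hyq q; rwa [hq.2] at this⟩, ?_⟩
        rintro ⟨a, rfl⟩
        exact ⟨Finset.mem_univ _, (Quotient.sound' (orbitRel_apply.2 ⟨a, rfl⟩)).trans (Quotient.out_eq o)⟩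
      haveI := P.isPGroup'.isNilpotent
      have hsn := CfsgLib.PGroup.isSubnormal_of_isNilpotent Q
      have huQ : uP ^ F.card ∈ Q := hFcard ▸ CfsgLib.PGroup.pow_index_mem_of_isSubnormal hsn uP
      have hgu : g⁻¹ * ((uP ^ F.card : (P : Subgroup G)) : G) * g ∈ (P : Subgroup G) := (hQ _).1 huQ
      have hcg : g⁻¹ * (c : G) * g ∈ R := by
        refine mem_sup_right (mem_iSup_of_mem g⁻¹ (Subgroup.mem_inf.2 ⟨?_, ?_⟩))
        · exact (hQ c).1 (mul_mem (inv_mem huQ) Mr.2)
        · refine ⟨c, ?_, by simp [MulAut.conj_apply]⟩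
          rw [SetLike.mem_coe, ← Subgroup.map_subtype_commutator]
          exact mem_map_of_mem _ hc
      have hMφ : ψ Mr = φ ⟨_, hgu⟩ := by
        rw [hψ, ← mul_inv_eq_one, ← map_inv, ← map_mul, hφ1]
        have e : (Mr : G) = ((uP ^ F.card : (P : Subgroup G)) : G) * (c : G) := by
          rw [← Subgroup.coe_mul]; simp [c]
        simp only [Subgroup.coe_mul, Subgroup.coe_inv]
        rw [e]
        have e2 : g⁻¹ * (((uP ^ F.card : (P : Subgroup G)) : G) * (c : G)) * g *
            (g⁻¹ * ((uP ^ F.card : (P : Subgroup G)) : G) * g)⁻¹ =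
            ⁅g⁻¹ * ((uP ^ F.card : (P : Subgroup G)) : G) * g, g⁻¹ * (c : G) * g⁆ * (g⁻¹ * (c : G) * g) := by
          simp only [commutatorElement_def]; group
        rw [e2]
        exact mul_mem (hP'R ⟨_, hgu⟩ ⟨_, hRle hcg⟩) hcg
      rw [hMφ]
      split_ifs with h1
      · -- a fixed coset
        rw [← mul_inv_eq_one, ← map_inv, ← map_mul, hφ1]
        simp only [Subgroup.coe_mul, Subgroup.coe_inv, h1, pow_one, uP]
        refine mem_sup_left (Subgroup.mem_inf.2 ⟨mul_mem ?_ (inv_mem huP), ?_⟩)
        · simpa [h1] using hgu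
        · have hgN : g⁻¹ ∈ N := by
            refine mem_normalizer_fintype fun n hn => ?_
            have hQt : Q = ⊤ := Subgroup.index_eq_one.1 (hFcard.symm.trans h1)
            have : (⟨n, hn⟩ : (P : Subgroup G)) ∈ Q := by
              rw [hQt]; trivial
            change g⁻¹ * n * g⁻¹⁻¹ ∈ (P : Subgroup G)
            rw [inv_inv]
            exact (hQ _).1 this
          have := commutator_mem_commutator hgN (le_normalizer huP : u ∈ N)
          simpa [commutatorElement_def, N] using this
      · rw [hφ1]
        refine ih _ ?_ (Subgroup.mem_inf.2 ⟨hgu, ?_⟩) rfl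
        · obtain ⟨j, hj⟩ := P.isPGroup'.index Q
          have hj1 : j ≠ 0 := fun hj0 => h1 (by rw [hFcard, hj, hj0, pow_zero])
          obtain ⟨i, hi⟩ := IsPGroup.iff_orderOf.1 P.isPGroup' uP
          have hordu : orderOf u = p ^ i := by
            rw [← hi]; exact (Subgroup.orderOf_mk u huP).symm
          have hconj : orderOf (g⁻¹ * ((uP ^ F.card : (P : Subgroup G)) : G) * g) = orderOf (u ^ F.card) := by
            have := MulEquiv.orderOf_eq (MulAut.conj g⁻¹) (u ^ F.card)
            simpa [MulAut.conj_apply, uP] using this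
          rw [hconj, ← h, hordu, hFcard, hj, orderOf_pow' u (pow_ne_zero _ hp.out.ne_zero), hordu]
          refine Nat.div_lt_self (pow_pos hp.out.pos _) ?_
          have hi0 : i ≠ 0 := fun hi0 => hu1 (orderOf_eq_one_iff.1 (by rw [hordu, hi0, pow_zero]))
          exact lt_of_lt_of_le hp.out.one_lt (Nat.le_of_dvd (Nat.gcd_pos_of_pos_right _ (pow_pos hp.out.pos _))
            (Nat.dvd_gcd (dvd_pow_self p hi0) (dvd_pow_self p hj1)))
        · have hup : u ^ F.card ∈ _root_.commutator G := pow_mem huG _
          have := (inferInstance : (_root_.commutator G).Normal).conj_mem _ hup g⁻¹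
          simpa [uP] using this
    rw [hVprod, ← Finset.prod_fiberwise Finset.univ π fun q => φ ⟨_, hterm q⟩,
      Finset.prod_congr rfl fun o _ => hfib o, ← Finset.prod_filter, Finset.prod_const, ← map_pow, hφ1,
      SubgroupClass.coe_pow] at hV
    set kk := (Finset.univ.filter fun o : Orb => (Finset.univ.filter fun q => π q = o).card = 1).card
    have hkk : ¬ p ∣ kk := by
      intro hd
      refine P.not_dvd_index ?_
      have hindex : (P : Subgroup G).index = ∑ o : Orb, (Finset.univ.filter fun q => π q = o).card := by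
        rw [← Finset.card_eq_sum_card_fiberwise fun q _ => Finset.mem_univ (π q), Finset.card_univ,
          ← Nat.card_eq_fintype_card]
        rfl
      rw [hindex, ← Finset.sum_filter_add_sum_filter_not Finset.univ
        (fun o : Orb => (Finset.univ.filter fun q => π q = o).card = 1)]
      refine dvd_add ?_ (Finset.dvd_sum fun o ho => ?_)
      · rw [Finset.sum_congr rfl fun o ho => (Finset.mem_filter.1 ho).2, Finset.sum_const, smul_eq_mul, mul_one]
        exact hd
      · have hne := (Finset.mem_filter.1 ho).2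
        obtain ⟨j, hj⟩ := P.isPGroup'.index (MulAction.stabilizer (P : Subgroup G) o.out)
        have hcard : (Finset.univ.filter fun q => π q = o).card = p ^ j := by
          rw [← hj, MulAction.index_stabilizer, ← Set.ncard_coe_finset]
          congr 1
          ext q
          rw [Finset.mem_coe, Finset.mem_filter]
          refine ⟨fun hq => ⟨y q, by have := hyq q; rwa [hq.2] at this⟩, ?_⟩
          rintro ⟨a, rfl⟩
          exact ⟨Finset.mem_univ _, (Quotient.sound' (orbitRel_apply.2 ⟨a, rfl⟩)).trans (Quotient.out_eq o)⟩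
        rw [hcard] at hne ⊢
        exact dvd_pow_self p fun hj0 => hne (by rw [hj0, pow_zero])
    obtain ⟨i, hi⟩ := IsPGroup.iff_orderOf.1 P.isPGroup' uP
    have hcop : Nat.Coprime kk (orderOf u) := by
      rw [show orderOf u = p ^ i from (Subgroup.orderOf_mk u huP).symm.trans hi]
      exact Nat.Coprime.pow_right _ (hp.out.coprime_iff_not_dvd.2 hkk).symm
    obtain ⟨j, hj⟩ := exists_pow_eq_self_of_coprime hcop
    rw [← hj]
    exact pow_mem hV j

end CfsgLib.Gruen
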