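import Cfsg.Agent.Lib.PGroup.ZJFailureConf

/-!
# When `Z(J(S))` does not control strong fusion

For an odd prime the failure of control of strong fusion by `Z(J(S))` puts a section `F(p)` into its
normalizer and gives a subgroup of order `p` of `Z(J(S))` with all automorphisms induced there.
-/

set_option autoImplicit false
set_option linter.style.haveILetI false

namespace CfsgLib.PGroup.ZJFailure

open CfsgLib.Fusion (conjBy mem_conjBy conjBy_le_iff conjBy_eq_iff conjBy_eq_of_le isPGroup_conjBy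
  card_conjBy conj_mem_conjBy conjBy_mono conjBy_conjBy conjBy_inv_conjBy maxAb
  exists_conj_le_of_not_dvd_relIndex exists_conj_fully_normalized card_lt_card_of_lt)

universe u

/-- `Z(J)` commutes with embeddings. -/
theorem map_centerThompsonAOf_injective {K G : Type*} [Group K] [Group G] [Finite K] [Finite G]
    (f : K →* G) (hf : Function.Injective f) (T : Subgroup K) :
    (Cfsg.centerThompsonAOf T).map f = Cfsg.centerThompsonAOf (T.map f) := by
  have hcard : ∀ A : Subgroup K, Nat.card (A.map f) = Nat.card A := fun A =>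
    Subgroup.card_map_of_injective hf
  have hback : ∀ B : Subgroup G, B ≤ T.map f → IsMulCommutative B →
      B.comap f ≤ T ∧ IsMulCommutative (B.comap f) ∧ (B.comap f).map f = B := fun B hB hBc => by
    refine ⟨fun x hx => ?_, ⟨⟨fun a b => Subtype.ext (hf ?_)⟩⟩, ?_⟩
    · obtain ⟨y, hy, hyx⟩ := hB hx
      rwa [← hf hyx]
    · show f ((a : K) * b) = f ((b : K) * a)
      rw [map_mul, map_mul]
      exact congrArg Subtype.val (hBc.is_comm.comm (⟨f a, a.2⟩ : B) ⟨f b, b.2⟩)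
    · rw [Subgroup.map_comap_eq, inf_eq_right]
      exact hB.trans fun y hy => by obtain ⟨x, -, rfl⟩ := hy; exact ⟨x, rfl⟩
  rw [← CfsgLib.Fusion.iInf_maxAb, ← CfsgLib.Fusion.iInf_maxAb]
  ext z
  simp only [Subgroup.mem_map, Subgroup.mem_iInf]
  constructor
  · rintro ⟨x, hx, rfl⟩ B hB
    obtain ⟨h1, h2, h3⟩ := hback B hB.1 hB.2.1
    exact hx (B.comap f) ⟨h1, h2, fun A hA hAc => by
      rw [← hcard A, ← hcard (B.comap f), h3]
      exact hB.2.2 _ (Subgroup.map_mono hA) (CfsgLib.Fusion.isMulCommutative_map f hAc)⟩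
  · intro h
    have hmem : ∀ A ∈ maxAb T, A.map f ∈ maxAb (T.map f) := fun A hA =>
      ⟨Subgroup.map_mono hA.1, CfsgLib.Fusion.isMulCommutative_map f hA.2.1, fun B hB hBc => by
        obtain ⟨h1, h2, h3⟩ := hback B hB hBc
        rw [← h3, hcard, hcard]
        exact hA.2.2 _ h1 h2⟩
    obtain ⟨A₀, hA₀⟩ := CfsgLib.Fusion.maxAb_nonempty T
    obtain ⟨x, -, rfl⟩ := h _ (hmem A₀ hA₀)
    refine ⟨x, fun A hA => ?_, rfl⟩
    obtain ⟨x', hx', he⟩ := h _ (hmem A hA)
    rwa [← hf he]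

variable {G : Type u} [Group G] [Finite G] {p : ℕ} [Fact p.Prime]

/-- A `p`-subgroup containing `J(S)` has the same `Z(J)`. -/
theorem centerThompsonAOf_eq (S : Sylow p G) {P : Subgroup G} (hP : IsPGroup p P)
    (hJ : Cfsg.thompsonSubgroupAOf (S : Subgroup G) ≤ P) :
    Cfsg.centerThompsonAOf P = zj S := by
  rw [CfsgLib.Fusion.thompsonSubgroupAOf_eq] at hJ
  obtain ⟨R, hPR⟩ := hP.exists_le_sylow
  obtain ⟨g, hg⟩ := MulAction.exists_smul_eq G S R
  have hgR : conjBy g (S : Subgroup G) = R := by rw [← hg]; rfl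
  obtain ⟨U, hU⟩ := CfsgLib.Fusion.maxAb_nonempty (S : Subgroup G)
  have hback : ∀ V : Subgroup G, V ≤ R → IsMulCommutative V →
      conjBy g⁻¹ V ≤ (S : Subgroup G) ∧ IsMulCommutative (conjBy g⁻¹ V) ∧
        Nat.card V ≤ Nat.card U := fun V hV hVc => by
    have h1 : conjBy g⁻¹ V ≤ (S : Subgroup G) := by
      rw [← conjBy_inv_conjBy g (S : Subgroup G), hgR]; exact conjBy_mono hV
    have h2 : IsMulCommutative (conjBy g⁻¹ V) := CfsgLib.Fusion.isMulCommutative_map _ hVc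
    exact ⟨h1, h2, (card_conjBy g⁻¹ V).ge.trans (hU.2.2 _ h1 h2)⟩
  have hsub : ∀ A ∈ maxAb (S : Subgroup G), A ∈ maxAb P ∧ A ∈ maxAb (R : Subgroup G) := fun A hA => by
    have h1 : A ≤ P := (le_sSup hA).trans hJ
    have h2 : ∀ V : Subgroup G, V ≤ R → IsMulCommutative V → Nat.card V ≤ Nat.card A :=
      fun V hV hVc => (hback V hV hVc).2.2.trans (hA.2.2 U hU.1 hU.2.1)
    exact ⟨⟨h1, hA.2.1, fun V hV => h2 V (hV.trans hPR)⟩, ⟨h1.trans hPR, hA.2.1, h2⟩⟩
  have hJR : sSup (maxAb (R : Subgroup G)) = sSup (maxAb (S : Subgroup G)) := by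
    refine (Subgroup.eq_of_le_of_card_ge (sSup_le fun A hA => le_sSup (hsub A hA).2) ?_).symm
    refine (Subgroup.card_le_of_le (sSup_le fun V hV => ?_)).trans
      (card_conjBy g (sSup (maxAb (S : Subgroup G)))).le
    have h1 := hback V hV.1 hV.2.1
    have h2 : conjBy g⁻¹ V ∈ maxAb (S : Subgroup G) := ⟨h1.1, h1.2.1, fun A hA hAc =>
      ((hU.2.2 A hA hAc).trans (hV.2.2 U (hsub U hU).2.1 hU.2.1)).trans (card_conjBy g⁻¹ V).ge⟩
    rw [← CfsgLib.Fusion.conjBy_conjBy_inv g V]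
    exact conjBy_mono (le_sSup h2)
  have heq : maxAb P = maxAb (S : Subgroup G) := Set.ext fun V => ⟨fun hV => by
    have hV' : V ∈ maxAb (R : Subgroup G) := ⟨hV.1.trans hPR, hV.2.1, fun A hA hAc =>
      (hback A hA hAc).2.2.trans (hV.2.2 U (hsub U hU).1.1 hU.2.1)⟩
    exact ⟨(le_sSup hV').trans (hJR.le.trans (sSup_le fun A hA => hA.1)), hV.2.1, fun A hA hAc =>
      (hU.2.2 A hA hAc).trans (hV.2.2 U (hsub U hU).1.1 hU.2.1)⟩, fun hV => (hsub V hV).1⟩
  rw [zj, ← CfsgLib.Fusion.iInf_maxAb, ← CfsgLib.Fusion.iInf_maxAb, heq]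

/-- The automizer of a group of order `p` has order at most `p - 1`. -/
theorem relIndex_le_pred {C : Subgroup G} (hC : Nat.card C = p) (Y : Subgroup G)
    (hY : Y ≤ Subgroup.normalizer (C : Set G)) :
    (Subgroup.centralizer (C : Set G)).relIndex Y ≤ p - 1 := by
  haveI : IsCyclic C := isCyclic_of_prime_card hC
  refine (Subgroup.relIndex_le_of_le_right hY Subgroup.index_ne_zero_of_finite).trans ?_
  rw [Subgroup.relIndex, ← Subgroup.normalizerMonoidHom_ker, Subgroup.index_ker]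
  refine (Subgroup.card_le_card_group _).trans (le_of_eq ?_)
  rw [IsCyclic.card_mulAut, hC, Nat.totient_prime Fact.out]

/-- The minimal case: `Z(J(S))` fails, but everywhere locally controls. -/
theorem concl_of_local (hp : p ≠ 2) (S : Sylow p G)
    (hfail : ¬ Cfsg.ControlsStrongFusion p (zj S)) (hLoc : Local S) : Concl S := by
  classical
  set N := Nat.card G + 1
  -- an unrealised conjugation of largest domain
  obtain ⟨A₀, hA₀, g₀, hg₀, hno₀⟩ : ∃ A : Subgroup G, A ≤ (S : Subgroup G) ∧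
      ∃ g : G, conjBy g A ≤ (S : Subgroup G) ∧ ¬ Realised S A g := by
    by_contra hno
    push Not at hno
    refine hfail ⟨S, zj_le S, fun A hA => ⟨hA, fun g hg => ?_⟩⟩
    have hcl : conjBy g (Subgroup.closure A) ≤ (S : Subgroup G) := by
      rw [conjBy, MonoidHom.map_closure, Subgroup.closure_le]
      rintro _ ⟨a, ha, rfl⟩
      exact hg ⟨a, ha, rfl⟩
    obtain ⟨h, hh, hha⟩ := hno _ ((Subgroup.closure_le _).2 hA) g hcl
    exact ⟨h, hh, fun a ha => hha a (Subgroup.subset_closure ha)⟩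
  haveI : Nonempty {a : Subgroup G × G // a.1 ≤ (S : Subgroup G) ∧ conjBy a.2 a.1 ≤ (S : Subgroup G) ∧
      ¬ Realised S a.1 a.2} := ⟨⟨(A₀, g₀), hA₀, hg₀, hno₀⟩⟩
  obtain ⟨⟨⟨A, g⟩, hAS, hgA, hnot⟩, hmax'⟩ := Finite.exists_max
    fun a : {a : Subgroup G × G // a.1 ≤ (S : Subgroup G) ∧ conjBy a.2 a.1 ≤ (S : Subgroup G) ∧
      ¬ Realised S a.1 a.2} => Nat.card a.1.1
  have hmax : ∀ R ≤ (S : Subgroup G), Nat.card A < Nat.card R → ∀ x : G,
      conjBy x R ≤ (S : Subgroup G) → Realised S R x := fun R hR hlt x hx => by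
    by_contra h
    exact absurd (hmax' ⟨(R, x), hR, hx, h⟩) (not_le.2 hlt)
  have hAne : A ≠ (S : Subgroup G) := fun h => hnot ⟨g, mem_nz_of_mem_normalizer S
    (conjBy_eq_iff.1 (conjBy_eq_of_le (h ▸ hgA))), fun a _ => rfl⟩
  have hgrow : ∀ D : Subgroup G, D ≤ (S : Subgroup G) → D ≠ (S : Subgroup G) →
      D < (S : Subgroup G) ⊓ Subgroup.normalizer (D : Set G) := fun D h1 h2 =>
    CfsgLib.Subnormalizer.lt_inf_normalizer S.2 (lt_of_le_of_ne h1 h2)
  -- a conjugate with Sylow normalizer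
  obtain ⟨x, hxA, hxN, hxi⟩ := exists_conj_fully_normalized S hAS
  set C := conjBy x A with hC
  obtain ⟨h₁, hh₁, hh₁a⟩ := hmax _ inf_le_left (card_lt_card_of_lt (hgrow A hAS hAne)) x
    (hxN.trans inf_le_left)
  set B := conjBy g A with hB
  have hBne : B ≠ (S : Subgroup G) := fun h => hAne (Subgroup.eq_of_le_of_card_ge hAS
    (by rw [← h, hB, card_conjBy]))
  have hxg : conjBy (x * g⁻¹) B = C := by rw [hB, conjBy_conjBy, inv_mul_cancel_right]
  obtain ⟨c, hc, hcle⟩ := exists_conj_le_of_not_dvd_relIndex (S.2.to_le inf_le_left) inf_le_right hxi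
    (isPGroup_conjBy (x * g⁻¹) (S.2.to_le inf_le_left :
      IsPGroup p ((S : Subgroup G) ⊓ Subgroup.normalizer (B : Set G) : Subgroup G)))
    ((conjBy_mono inf_le_right).trans (by rw [CfsgLib.Fusion.conjBy_normalizer, hxg]))
  rw [conjBy_conjBy] at hcle
  obtain ⟨h₂, hh₂, hh₂a⟩ := hmax _ inf_le_left (by
    rw [← card_conjBy g A]; exact card_lt_card_of_lt (hgrow B hgA hBne)) _ (hcle.trans inf_le_left)
  have hCnot : ¬ Realised S C c := by
    rintro ⟨h₃, hh₃, hh₃a⟩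
    refine hnot ⟨h₂⁻¹ * h₃ * h₁, mul_mem (mul_mem (inv_mem hh₂) hh₃) hh₁, fun a ha => ?_⟩
    have e1 := hh₁a a ⟨hAS ha, Subgroup.le_normalizer ha⟩
    have e3 := hh₃a _ (conj_mem_conjBy ha : x * a * x⁻¹ ∈ C)
    have e2 := hh₂a _ ⟨hgA (conj_mem_conjBy ha), Subgroup.le_normalizer (conj_mem_conjBy ha)⟩
    rw [show c * (x * g⁻¹) * (g * a * g⁻¹) * (c * (x * g⁻¹))⁻¹ = c * (x * a * x⁻¹) * c⁻¹ by group,
      e3, e1] at e2
    calc g * a * g⁻¹ = h₂⁻¹ * (h₂ * (g * a * g⁻¹) * h₂⁻¹) * h₂ := by group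
      _ = h₂⁻¹ * (h₃ * (h₁ * a * h₁⁻¹) * h₃⁻¹) * h₂ := by rw [← e2]
      _ = _ := by group
  have hCmax : ∀ R ≤ (S : Subgroup G), Nat.card C < Nat.card R → ∀ y : G,
      conjBy y R ≤ (S : Subgroup G) → Realised S R y := fun R hR hlt =>
    hmax R hR (card_conjBy x A ▸ hlt)
  by_cases hZC : zj S ≤ C
  · refine concl_of_conf hp S hLoc (S.2.to_le hxA) hZC (hxA.trans (sylow_le_nz S)) fun hle => ?_
    exact hCnot ⟨c, hle hc, fun a _ => rfl⟩
  · exact concl_of_not_le hp S hxA hxi hc hCnot hCmax hZC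

/-- If `Z(J(S))` does not control strong fusion, its normalizer involves `F(p)` and induces all
automorphisms on a subgroup of order `p` of it. -/
theorem concl_of_fail (hp : p ≠ 2) : ∀ (n : ℕ) (G : Type u) [Group G] [Finite G] (S : Sylow p G),
    Nat.card G = n → ¬ Cfsg.ControlsStrongFusion p (zj S) → Concl S := by
  intro n
  induction n using Nat.strong_induction_on with
  | _ n ih =>
  intro G _ _ S hn hfail
  classical
  set J := Cfsg.thompsonSubgroupAOf (S : Subgroup G) with hJ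
  by_cases hall : ∀ G₁ : Subgroup G, G₁ ≠ ⊤ → J ≤ G₁ → ∀ S₁ : Sylow p G₁,
      J ≤ (S₁ : Subgroup G₁).map G₁.subtype → Cfsg.ControlsStrongFusion p (zj S₁)
  · refine concl_of_local hp S hfail fun G₁ hG₁ hJG g hg P hPG hP hZP hgZP => ?_
    obtain ⟨S₁, hS₁⟩ := (((S.2.to_le (thompson_le S) : IsPGroup p J)).of_equiv
      (Subgroup.subgroupOfEquivOfLe hJG).symm).exists_le_sylow
    have hJS₁ : J ≤ (S₁ : Subgroup G₁).map G₁.subtype := fun y hy =>
      ⟨⟨y, hJG hy⟩, hS₁ hy, rfl⟩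
    have hmap : (zj S₁).map G₁.subtype = zj S := by
      rw [zj, map_centerThompsonAOf_injective G₁.subtype G₁.subtype_injective]
      exact centerThompsonAOf_eq S (S₁.2.map _) hJS₁
    obtain ⟨T, hZT, hctrl⟩ := hall G₁ hG₁ hJG S₁ hJS₁
    obtain ⟨R, hPR⟩ := (hP.of_equiv (Subgroup.subgroupOfEquivOfLe hPG).symm).exists_le_sylow
    obtain ⟨y, hy⟩ := MulAction.exists_smul_eq G₁ R T
    have hconj : ∀ d : G₁, (∀ z ∈ zj S₁, d * z * d⁻¹ ∈ (T : Subgroup G₁)) →
        (d : G) ∈ hzj S := by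
      intro d hd
      obtain ⟨k, hk, hka⟩ := (hctrl (zj S₁ : Set G₁) hZT).2 d (by
        rintro _ ⟨z, hz, rfl⟩; exact hd z hz)
      refine conjBy_eq_iff.1 (conjBy_eq_of_le (conjBy_le_iff.2 fun z hz => ?_))
      rw [← hmap] at hz ⊢
      obtain ⟨z', hz', rfl⟩ := hz
      refine ⟨d * z' * d⁻¹, ?_, rfl⟩
      rw [hka z' hz']
      exact (Subgroup.mem_normalizer_iff.1 hk z').1 hz'
    have hyT : ∀ z : G₁, (z : G) ∈ P → y * z * y⁻¹ ∈ (T : Subgroup G₁) := fun z hz => by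
      rw [← hy, Sylow.coe_subgroup_smul]
      exact ⟨z, hPR hz, rfl⟩
    have h1 : (y : G) ∈ hzj S := hconj y fun z hz => hyT z (hZP (hmap ▸ ⟨z, hz, rfl⟩))
    have h2 : ((y * ⟨g, hg⟩ : G₁) : G) ∈ hzj S := hconj _ fun z hz => by
      have h3 : g * (z : G) * g⁻¹ ∈ P := hgZP (conj_mem_conjBy (hmap ▸ ⟨z, hz, rfl⟩))
      have h4 := hyT (⟨g, hg⟩ * z * ⟨g, hg⟩⁻¹) h3
      rw [show y * ⟨g, hg⟩ * z * (y * ⟨g, hg⟩)⁻¹ = y * (⟨g, hg⟩ * z * ⟨g, hg⟩⁻¹) * y⁻¹ by group]
      exact h4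
    have h5 := mul_mem (inv_mem h1) h2
    rwa [Subgroup.coe_mul, inv_mul_cancel_left] at h5
  · push Not at hall
    obtain ⟨G₁, hG₁, hJG, S₁, hJS₁, hfail₁⟩ := hall
    have hlt : Nat.card G₁ < n := by
      rw [← hn]
      exact lt_of_le_of_ne G₁.card_le_card_group fun h => hG₁ (Subgroup.eq_top_of_card_eq G₁ h)
    obtain ⟨hinv, C₁, hC₁Z, hC₁c, hC₁i⟩ := ih _ hlt G₁ S₁ rfl hfail₁
    have hmap : (zj S₁).map G₁.subtype = zj S := by
      rw [zj, map_centerThompsonAOf_injective G₁.subtype G₁.subtype_injective]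
      exact centerThompsonAOf_eq S (S₁.2.map _) hJS₁
    have hH₁ : ∀ d : G₁, d ∈ hzj S₁ → (d : G) ∈ hzj S := fun d hd => by
      refine conjBy_eq_iff.1 (conjBy_eq_of_le (conjBy_le_iff.2 fun z hz => ?_))
      rw [← hmap] at hz ⊢
      obtain ⟨z', hz', rfl⟩ := hz
      exact ⟨d * z' * d⁻¹, (Subgroup.mem_normalizer_iff.1 hd z').1 hz', rfl⟩
    refine ⟨CfsgLib.Fusion.involves_of_injective
      ((G₁.subtype.comp (hzj S₁).subtype).codRestrict (hzj S) fun d => hH₁ d d.2)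
      (fun a b h => Subtype.ext (Subtype.ext (congrArg (fun e : hzj S => (e : G)) h))) hinv,
      C₁.map G₁.subtype, hmap ▸ Subgroup.map_mono hC₁Z,
      by rw [Subgroup.card_map_of_injective G₁.subtype_injective]; exact hC₁c, ?_⟩
    set C := C₁.map G₁.subtype with hC
    have hCc : Nat.card C = p := by
      rw [hC, Subgroup.card_map_of_injective G₁.subtype_injective]; exact hC₁c
    set Y₁ := (hzj S₁ ⊓ Subgroup.normalizer (C₁ : Set G₁)).map G₁.subtype with hY₁
    have hY₁le : Y₁ ≤ hzj S ⊓ Subgroup.normalizer (C : Set G) := by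
      rintro _ ⟨d, hd, rfl⟩
      exact ⟨hH₁ d hd.1, Subgroup.le_normalizer_map G₁.subtype ⟨d, hd.2, rfl⟩⟩
    have hge : (Subgroup.centralizer (C : Set G)).relIndex Y₁ = p - 1 := by
      rw [← hC₁i, ← Subgroup.inf_relIndex_right]
      have he : Subgroup.centralizer (C : Set G) ⊓ Y₁ =
          (hzj S₁ ⊓ Subgroup.centralizer (C₁ : Set G₁)).map G₁.subtype := by
        ext z
        constructor
        · rintro ⟨hz, d, hd, rfl⟩
          refine ⟨d, ⟨hd.1, Subgroup.mem_centralizer_iff.2 fun v hv => ?_⟩, rfl⟩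
          exact Subtype.ext (Subgroup.mem_centralizer_iff.1 hz (v : G) ⟨v, hv, rfl⟩)
        · rintro ⟨d, hd, rfl⟩
          refine ⟨Subgroup.mem_centralizer_iff.2 ?_, d,
            ⟨hd.1, Subgroup.centralizer_le_normalizer _ hd.2⟩, rfl⟩
          rintro _ ⟨v, hv, rfl⟩
          exact congrArg Subtype.val (Subgroup.mem_centralizer_iff.1 hd.2 v hv)
      rw [he, hY₁, Subgroup.relIndex_map_map_of_injective _ _ G₁.subtype_injective]
    have e : hzj S ⊓ Subgroup.centralizer (C : Set G) =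
        Subgroup.centralizer (C : Set G) ⊓ (hzj S ⊓ Subgroup.normalizer (C : Set G)) :=
      le_antisymm (le_inf inf_le_right (le_inf inf_le_left
        (inf_le_right.trans (Subgroup.centralizer_le_normalizer _))))
        (le_inf (inf_le_right.trans inf_le_left) inf_le_left)
    rw [e, Subgroup.inf_relIndex_right]
    refine le_antisymm (relIndex_le_pred hCc _ inf_le_right) ?_
    rw [← hge]
    exact Subgroup.relIndex_le_of_le_right hY₁le Subgroup.index_ne_zero_of_finite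

end CfsgLib.PGroup.ZJFailure
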