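import Cfsg.Prelude.Def_BaumannBlocks
import Cfsg.Prelude.Def_PLocal
import Mathlib

/-!
# The Chermak-Delgado measure and centrally large subgroups
-/

set_option autoImplicit false

open Subgroup
open scoped Pointwise

namespace CfsgLib.CDLat

variable {G : Type*} [Group G]

/-- `|Q R| |Q ∩ R| = |Q| |R|`. -/
theorem card_prod_mul_card_inf [Finite G] (Q R : Subgroup G) :
    Nat.card ↥((Q : Set G) * (R : Set G)) * Nat.card ↥(Q ⊓ R) = Nat.card Q * Nat.card R := by
  have h : ∀ z : ↥((Q : Set G) * (R : Set G)), ∃ s : Q, ∃ t : R, (s : G) * t = z := by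
    rintro ⟨z, a, ha, b, hb, rfl⟩
    exact ⟨⟨a, ha⟩, ⟨b, hb⟩, rfl⟩
  choose s t hst using h
  rw [← Nat.card_prod, ← Nat.card_prod]
  let toP : ↥((Q : Set G) * (R : Set G)) × ↥(Q ⊓ R) → Q × R := fun x =>
    (⟨(s x.1 : G) * x.2, Q.mul_mem (s x.1).2 x.2.2.1⟩,
      ⟨(x.2 : G)⁻¹ * t x.1, R.mul_mem (R.inv_mem x.2.2.2) (t x.1).2⟩)
  refine Nat.card_congr (Equiv.ofBijective toP ⟨?_, ?_⟩)
  · rintro ⟨z, d⟩ ⟨z', d'⟩ e
    have e1 : (s z : G) * d = s z' * d' := congrArg (fun y : Q × R => (y.1 : G)) e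
    have e2 : (d : G)⁻¹ * t z = (d' : G)⁻¹ * t z' := congrArg (fun y : Q × R => (y.2 : G)) e
    have hz : z = z' := Subtype.ext <| by
      rw [← hst z, ← hst z']
      calc (s z : G) * t z = (s z * d) * ((d : G)⁻¹ * t z) := by group
        _ = (s z' * d') * ((d' : G)⁻¹ * t z') := by rw [e1, e2]
        _ = s z' * t z' := by group
    subst hz
    exact Prod.ext rfl (Subtype.ext (mul_left_cancel e1))
  · rintro ⟨q, r⟩
    let z : ↥((Q : Set G) * (R : Set G)) := ⟨q * r, q, q.2, r, r.2, rfl⟩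
    have hd : (s z : G)⁻¹ * q = t z * (r : G)⁻¹ := by
      rw [inv_mul_eq_iff_eq_mul, ← mul_assoc, hst z]
      show (q : G) = q * r * (r : G)⁻¹
      group
    refine ⟨(z, ⟨(s z : G)⁻¹ * q, Q.mul_mem (Q.inv_mem (s z).2) q.2,
      hd ▸ R.mul_mem (t z).2 (R.inv_mem r.2)⟩), Prod.ext (Subtype.ext ?_) (Subtype.ext ?_)⟩
    · show (s z : G) * ((s z : G)⁻¹ * q) = q
      group
    · show ((s z : G)⁻¹ * q)⁻¹ * t z = r
      rw [hd]
      group

theorem prod_subset_sup (Q R : Subgroup G) :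
    (Q : Set G) * (R : Set G) ⊆ ((Q ⊔ R : Subgroup G) : Set G) := by
  rintro _ ⟨a, ha, b, hb, rfl⟩
  exact mul_mem_sup ha hb

theorem centralizer_sup (Q R : Subgroup G) :
    centralizer ((Q ⊔ R : Subgroup G) : Set G) =
      centralizer (Q : Set G) ⊓ centralizer (R : Set G) := by
  refine le_antisymm (le_inf (centralizer_le (le_sup_left : Q ≤ Q ⊔ R))
    (centralizer_le (le_sup_right : R ≤ Q ⊔ R))) ?_
  rw [le_centralizer_iff]
  exact sup_le (le_centralizer_iff.1 inf_le_left) (le_centralizer_iff.1 inf_le_right)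

theorem prod_centralizer_subset (Q R : Subgroup G) :
    (centralizer (Q : Set G) : Set G) * (centralizer (R : Set G) : Set G) ⊆
      (centralizer ((Q ⊓ R : Subgroup G) : Set G) : Set G) := by
  rintro _ ⟨a, ha, b, hb, rfl⟩
  exact mul_mem (centralizer_le (inf_le_left : Q ⊓ R ≤ Q) ha)
    (centralizer_le (inf_le_right : Q ⊓ R ≤ R) hb)

/-- `|R| |C(R)|`. -/
noncomputable def measure (R : Subgroup G) : ℕ :=
  Nat.card R * Nat.card ↥(centralizer (R : Set G))

theorem centralizer_map_conj (g : G) (M : Subgroup G) :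
    centralizer ((M.map (MulAut.conj g).toMonoidHom : Subgroup G) : Set G) =
      (centralizer (M : Set G)).map (MulAut.conj g).toMonoidHom := by
  ext x
  rw [mem_map_equiv, MulAut.conj_symm_apply, mem_centralizer_iff, mem_centralizer_iff]
  constructor
  · intro h m hm
    have h1 := h (g * m * g⁻¹) ⟨m, hm, rfl⟩
    calc m * (g⁻¹ * x * g) = g⁻¹ * (g * m * g⁻¹ * x) * g := by group
      _ = g⁻¹ * (x * (g * m * g⁻¹)) * g := by rw [h1]
      _ = g⁻¹ * x * g * m := by group
  · rintro h _ ⟨m, hm, rfl⟩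
    have h1 := h m hm
    show g * m * g⁻¹ * x = x * (g * m * g⁻¹)
    calc g * m * g⁻¹ * x = g * (m * (g⁻¹ * x * g)) * g⁻¹ := by group
      _ = g * (g⁻¹ * x * g * m) * g⁻¹ := by rw [h1]
      _ = x * (g * m * g⁻¹) := by group

variable [Finite G]

theorem measure_pos (R : Subgroup G) : 0 < measure R := Nat.mul_pos Nat.card_pos Nat.card_pos

theorem measure_mul_le (Q R : Subgroup G) :
    measure Q * measure R ≤ measure (Q ⊔ R) * measure (Q ⊓ R) ∧
      (measure (Q ⊔ R) * measure (Q ⊓ R) ≤ measure Q * measure R →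
        ((Q ⊔ R : Subgroup G) : Set G) = (Q : Set G) * (R : Set G) ∧
          (centralizer ((Q ⊓ R : Subgroup G) : Set G) : Set G) =
            (centralizer (Q : Set G) : Set G) * (centralizer (R : Set G) : Set G)) := by
  have a1 := card_prod_mul_card_inf Q R
  have a2 := card_prod_mul_card_inf (centralizer (Q : Set G)) (centralizer (R : Set G))
  rw [← centralizer_sup] at a2
  have b1 := Nat.card_mono (Set.toFinite _) (prod_subset_sup Q R)
  have b2 := Nat.card_mono (Set.toFinite _) (prod_centralizer_subset Q R)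
  set u := Nat.card ↥((Q : Set G) * (R : Set G))
  set v := Nat.card ↥((centralizer (Q : Set G) : Set G) * (centralizer (R : Set G) : Set G))
  set U := Nat.card ↥(Q ⊔ R)
  set V := Nat.card ↥(centralizer ((Q ⊓ R : Subgroup G) : Set G))
  set i := Nat.card ↥(Q ⊓ R) with hi
  set j := Nat.card ↥(centralizer ((Q ⊔ R : Subgroup G) : Set G)) with hj
  have hU : Nat.card ↥((Q ⊔ R : Subgroup G) : Set G) = U := rfl
  have hV : Nat.card ↥(centralizer ((Q ⊓ R : Subgroup G) : Set G) : Set G) = V := rfl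
  rw [hU] at b1
  rw [hV] at b2
  have e : measure Q * measure R = u * v * (i * j) := by
    unfold measure
    calc _ = (Nat.card Q * Nat.card R) *
          (Nat.card ↥(centralizer (Q : Set G)) * Nat.card ↥(centralizer (R : Set G))) := by ring
      _ = _ := by rw [← a1, ← a2]; ring
  have e' : measure (Q ⊔ R) * measure (Q ⊓ R) = U * V * (i * j) := by
    unfold measure
    ring
  refine ⟨by rw [e, e']; exact Nat.mul_le_mul_right _ (Nat.mul_le_mul b1 b2), fun h => ?_⟩
  rw [e, e'] at h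
  have hij : 0 < i * j := Nat.mul_pos Nat.card_pos Nat.card_pos
  have huv : U * V ≤ u * v := Nat.le_of_mul_le_mul_right h hij
  have hu : 0 < U := Nat.card_pos
  have hV0 : 0 < V := Nat.card_pos
  have hUu : U ≤ u := by
    refine Nat.le_of_mul_le_mul_right (huv.trans ?_) hV0
    exact Nat.mul_le_mul_left _ b2
  have hVv : V ≤ v := by
    refine Nat.le_of_mul_le_mul_left (huv.trans ?_) hu
    exact Nat.mul_le_mul_right _ b1
  refine ⟨(Set.eq_of_subset_of_ncard_le (prod_subset_sup Q R) ?_ (Set.toFinite _)).symm,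
    (Set.eq_of_subset_of_ncard_le (prod_centralizer_subset Q R) ?_ (Set.toFinite _)).symm⟩
  · rw [← Nat.card_coe_set_eq, ← Nat.card_coe_set_eq]; exact hUu
  · rw [← Nat.card_coe_set_eq, ← Nat.card_coe_set_eq]; exact hVv

theorem measure_le (R : Subgroup G) : measure R ≤ Cfsg.maxCentralizerProduct G :=
  le_csSup (Set.finite_range (fun R : Subgroup G => measure R)).bddAbove ⟨R, rfl⟩

theorem exists_large : ∃ R : Subgroup G, Cfsg.IsCentralizerLarge R :=
  Nat.sSup_mem (s := {k | ∃ R : Subgroup G, measure R = k}) ⟨_, ⊥, rfl⟩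
    (Set.finite_range (fun R : Subgroup G => measure R)).bddAbove

theorem large_iff {R : Subgroup G} :
    Cfsg.IsCentralizerLarge R ↔ Cfsg.maxCentralizerProduct G ≤ measure R :=
  ⟨fun h => h.ge, fun h => le_antisymm (measure_le R) h⟩

/-- The largest measure subgroups form a lattice. -/
theorem large_pair {Q R : Subgroup G} (hQ : Cfsg.IsCentralizerLarge Q)
    (hR : Cfsg.IsCentralizerLarge R) :
    ((Q ⊔ R : Subgroup G) : Set G) = (Q : Set G) * (R : Set G) ∧
      Cfsg.IsCentralizerLarge (Q ⊔ R) ∧ Cfsg.IsCentralizerLarge (Q ⊓ R) ∧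
      (centralizer ((Q ⊓ R : Subgroup G) : Set G) : Set G) =
        (centralizer (Q : Set G) : Set G) * (centralizer (R : Set G) : Set G) := by
  obtain ⟨h1, h2⟩ := measure_mul_le Q R
  have hq : measure Q = Cfsg.maxCentralizerProduct G := hQ
  have hr : measure R = Cfsg.maxCentralizerProduct G := hR
  have hm : 0 < Cfsg.maxCentralizerProduct G := hq ▸ measure_pos Q
  rw [hq, hr] at h1 h2
  obtain ⟨a, b⟩ := h2 (Nat.mul_le_mul (measure_le _) (measure_le _))
  refine ⟨a, large_iff.2 (Nat.le_of_mul_le_mul_right (h1.trans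
    (Nat.mul_le_mul_left _ (measure_le _))) hm), large_iff.2 (Nat.le_of_mul_le_mul_left (h1.trans
    (Nat.mul_le_mul_right _ (measure_le _))) hm), b⟩

theorem le_centralizer_centralizer (Q : Subgroup G) :
    Q ≤ centralizer ((centralizer (Q : Set G) : Subgroup G) : Set G) :=
  le_centralizer_iff.1 le_rfl

theorem centralizer_large {Q : Subgroup G} (hQ : Cfsg.IsCentralizerLarge Q) :
    Cfsg.IsCentralizerLarge (centralizer (Q : Set G)) ∧
      Q = centralizer ((centralizer (Q : Set G) : Subgroup G) : Set G) := by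
  have hq : measure Q = Cfsg.maxCentralizerProduct G := hQ
  have h1 : measure Q ≤ measure (centralizer (Q : Set G)) := by
    unfold measure
    rw [mul_comm (Nat.card Q)]
    exact Nat.mul_le_mul_left _ (card_le_of_le (le_centralizer_centralizer Q))
  refine ⟨large_iff.2 (hq ▸ h1), eq_of_le_of_card_ge (le_centralizer_centralizer Q) ?_⟩
  have h2 := measure_le (centralizer (Q : Set G))
  rw [← hq] at h2
  unfold measure at h2
  rw [mul_comm (Nat.card Q)] at h2
  exact Nat.le_of_mul_le_mul_left h2 Nat.card_pos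

theorem sup_eq_of_coe_eq_prod {Q R X : Subgroup G}
    (h : (X : Set G) = (Q : Set G) * (R : Set G)) : X = Q ⊔ R :=
  le_antisymm (fun x hx => prod_subset_sup Q R (h ▸ hx))
    (sup_le (fun q hq => h.ge ⟨q, hq, 1, one_mem R, mul_one q⟩)
      fun r hr => h.ge ⟨1, one_mem Q, r, hr, one_mul r⟩)

omit [Finite G] in
theorem card_center_eq (R : Subgroup G) :
    Nat.card (center R) = Nat.card ↥(R ⊓ centralizer (R : Set G)) := by
  rw [← card_map_of_injective R.subtype_injective]
  congr 2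
  ext x
  constructor
  · rintro ⟨y, hy, rfl⟩
    exact ⟨y.2, mem_centralizer_iff.2 fun r hr =>
      congrArg Subtype.val (mem_center_iff.1 hy ⟨r, hr⟩)⟩
  · rintro ⟨hx, hc⟩
    exact ⟨⟨x, hx⟩, mem_center_iff.2 fun r => Subtype.ext (mem_centralizer_iff.1 hc r r.2), rfl⟩

theorem central_measure_le (R : Subgroup G) :
    Nat.card R * Nat.card (center R) ≤ measure R := by
  rw [card_center_eq]
  exact Nat.mul_le_mul_left _ (card_le_of_le inf_le_right)

theorem central_measure_le_max (R : Subgroup G) :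
    Nat.card R * Nat.card (center R) ≤ Cfsg.maxCentralProduct G :=
  le_csSup (Set.finite_range
    (fun R : Subgroup G => Nat.card R * Nat.card (center R))).bddAbove ⟨R, rfl⟩

theorem maxCentralProduct_eq : Cfsg.maxCentralProduct G = Cfsg.maxCentralizerProduct G := by
  refine le_antisymm ?_ ?_
  · obtain ⟨R, hR⟩ : Cfsg.maxCentralProduct G ∈
        {k : ℕ | ∃ R : Subgroup G, Nat.card R * Nat.card (center R) = k} :=
      Nat.sSup_mem ⟨_, ⊥, rfl⟩ (Set.finite_range
        (fun R : Subgroup G => Nat.card R * Nat.card (center R))).bddAbove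
    exact hR ▸ (central_measure_le R).trans (measure_le R)
  · obtain ⟨Q, hQ⟩ := exists_large (G := G)
    obtain ⟨hC, hQQ⟩ := centralizer_large hQ
    set M := Q ⊔ centralizer (Q : Set G)
    have hM : measure M = Cfsg.maxCentralizerProduct G := (large_pair hQ hC).2.1
    have hCM : centralizer (M : Set G) ≤ M := by
      rw [centralizer_sup, ← hQQ]; exact inf_le_right.trans le_sup_left
    have := central_measure_le_max M
    rwa [card_center_eq, inf_eq_right.2 hCM, show Nat.card M * _ = _ from hM] at this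

theorem cl_iff {Q : Subgroup G} :
    Cfsg.IsCentrallyLarge Q ↔ Cfsg.IsCentralizerLarge Q ∧ centralizer (Q : Set G) ≤ Q := by
  unfold Cfsg.IsCentrallyLarge
  rw [maxCentralProduct_eq, card_center_eq]
  constructor
  · intro h
    have h1 : Cfsg.IsCentralizerLarge Q := large_iff.2 (h ▸ Nat.mul_le_mul_left _
      (card_le_of_le inf_le_right))
    refine ⟨h1, ?_⟩
    have h2 : Nat.card ↥(Q ⊓ centralizer (Q : Set G)) = Nat.card ↥(centralizer (Q : Set G)) :=
      Nat.eq_of_mul_eq_mul_left Nat.card_pos (h.trans (Eq.symm h1))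
    exact inf_eq_right.1 (eq_of_le_of_card_ge inf_le_right h2.ge)
  · rintro ⟨h1, h2⟩
    rw [inf_eq_right.2 h2]
    exact h1

theorem cl_sup {Q R : Subgroup G} (hQ : Cfsg.IsCentrallyLarge Q) (hR : Cfsg.IsCentrallyLarge R) :
    Cfsg.IsCentrallyLarge (Q ⊔ R) := by
  rw [cl_iff] at *
  exact ⟨(large_pair hQ.1 hR.1).2.1,
    (centralizer_le (le_sup_left : Q ≤ Q ⊔ R)).trans (hQ.2.trans le_sup_left)⟩

/-- A join of centrally large subgroups is centrally large. -/
theorem cl_sup_sSup {𝒮 : Set (Subgroup G)} {Q : Subgroup G} (hQ : Cfsg.IsCentrallyLarge Q)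
    (h : ∀ R ∈ 𝒮, ∀ M : Subgroup G, Cfsg.IsCentrallyLarge M → Cfsg.IsCentrallyLarge (M ⊔ R)) :
    Cfsg.IsCentrallyLarge (Q ⊔ sSup 𝒮) := by
  obtain ⟨M, ⟨hQM, hMle, hM⟩, hmax⟩ := Set.Finite.exists_maximal
    (s := {M : Subgroup G | Q ≤ M ∧ M ≤ Q ⊔ sSup 𝒮 ∧ Cfsg.IsCentrallyLarge M})
    (Set.toFinite _) ⟨Q, le_rfl, le_sup_left, hQ⟩
  suffices e : M = Q ⊔ sSup 𝒮 from e ▸ hM
  refine le_antisymm hMle (sup_le hQM (sSup_le fun R hR => ?_))
  exact le_sup_right.trans (hmax ⟨hQM.trans le_sup_left,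
    sup_le hMle ((le_sSup hR).trans le_sup_right), h R hR M hM⟩ le_sup_left)

theorem exists_mcl_le {Q : Subgroup G} (hQ : Cfsg.IsCentrallyLarge Q) :
    ∃ R ≤ Q, Cfsg.IsMinimalCentrallyLarge R := by
  obtain ⟨R, ⟨hRQ, hR⟩, hmin⟩ := Set.Finite.exists_minimal
    (s := {M : Subgroup G | M ≤ Q ∧ Cfsg.IsCentrallyLarge M}) (Set.toFinite _) ⟨Q, le_rfl, hQ⟩
  exact ⟨R, hRQ, hR, fun R' h h' => le_antisymm h (hmin ⟨h.trans hRQ, h'⟩ h)⟩

theorem exists_cl : ∃ Q : Subgroup G, Cfsg.IsCentrallyLarge Q := by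
  obtain ⟨R, hR⟩ : Cfsg.maxCentralProduct G ∈
      {k : ℕ | ∃ R : Subgroup G, Nat.card R * Nat.card (center R) = k} :=
    Nat.sSup_mem ⟨_, ⊥, rfl⟩ (Set.finite_range
      (fun R : Subgroup G => Nat.card R * Nat.card (center R))).bddAbove
  exact ⟨R, hR⟩

theorem cl_sSup {𝒮 : Set (Subgroup G)} (hne : 𝒮.Nonempty)
    (h : ∀ R ∈ 𝒮, Cfsg.IsCentrallyLarge R) : Cfsg.IsCentrallyLarge (sSup 𝒮) := by
  obtain ⟨Q, hQ⟩ := hne
  have := cl_sup_sSup (h Q hQ) (fun R hR M hM => cl_sup hM (h R hR))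
  rwa [sup_eq_right.2 (le_sSup hQ)] at this

/-- A largest abelian subgroup is its own centralizer. -/
theorem centralizer_eq_of_maxAbelian {A : Subgroup G} (hA : A ∈ Cfsg.maxAbelianSubgroups G) :
    centralizer (A : Set G) = A := by
  haveI := hA.1
  refine le_antisymm (fun c hc => ?_) (le_centralizer A)
  have hc' : ∀ a ∈ A, a * c = c * a := mem_centralizer_iff.1 hc
  have hab : IsMulCommutative ↥(A ⊔ zpowers c) := by
    refine le_centralizer_iff_isMulCommutative.1 ?_
    rw [centralizer_sup]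
    refine le_inf (sup_le (le_centralizer A) ?_) (sup_le ?_ (le_centralizer (zpowers c)))
    · rw [zpowers_le]; exact hc
    · rw [le_centralizer_iff, zpowers_le]; exact hc
  have := eq_of_le_of_card_ge (le_sup_left : A ≤ A ⊔ zpowers c) (hA.2 _ hab)
  rw [this]
  exact mem_sup_right (mem_zpowers c)

theorem isMulCommutative_sup {X Y : Subgroup G} (hX : IsMulCommutative X) (hY : IsMulCommutative Y)
    (h : X ≤ centralizer (Y : Set G)) : IsMulCommutative ↥(X ⊔ Y) := by
  haveI := hX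
  haveI := hY
  refine le_centralizer_iff_isMulCommutative.1 ?_
  rw [centralizer_sup]
  exact le_inf (sup_le (le_centralizer X) (le_centralizer_iff.1 h)) (sup_le h (le_centralizer Y))

/-- A centrally large subgroup absorbs an abelian subgroup of largest order. -/
theorem cl_sup_maxAbelian {Q A : Subgroup G} (hQ : Cfsg.IsCentrallyLarge Q)
    (hA : A ∈ Cfsg.maxAbelianSubgroups G) :
    ((Q ⊔ A : Subgroup G) : Set G) = (Q : Set G) * (A : Set G) ∧
      Cfsg.IsCentrallyLarge (Q ⊔ A) ∧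
      Q ⊓ centralizer (Q : Set G) ⊔ Q ⊓ A ∈ Cfsg.maxAbelianSubgroups G := by
  haveI := hA.1
  obtain ⟨hQl, hQc⟩ := cl_iff.1 hQ
  have hCA := centralizer_eq_of_maxAbelian hA
  set Z := Q ⊓ centralizer (Q : Set G) with hZ
  have hZQ : Z = centralizer (Q : Set G) := inf_eq_right.2 hQc
  set C := Q ⊓ A
  have hZC : Z ≤ centralizer (C : Set G) :=
    inf_le_right.trans (centralizer_le (inf_le_left : C ≤ Q))
  haveI hZab : IsMulCommutative Z := le_centralizer_iff_isMulCommutative.1
    (inf_le_right.trans (centralizer_le (inf_le_left : Z ≤ Q)))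
  haveI hCab : IsMulCommutative C := le_centralizer_iff_isMulCommutative.1
    ((inf_le_right.trans hCA.ge).trans (centralizer_le (inf_le_right : C ≤ A)))
  have hBab := isMulCommutative_sup hZab hCab hZC
  have hB := hA.2 _ hBab
  have e1 := card_prod_mul_card_inf Q A
  have e2 := card_prod_mul_card_inf Z C
  have hprod : ((Z ⊔ C : Subgroup G) : Set G) = (Z : Set G) * (C : Set G) :=
    coe_mul_of_left_le_normalizer_right Z C (hZC.trans (centralizer_le_normalizer _))
  have hBc : Nat.card ↥((Z : Set G) * (C : Set G)) = Nat.card ↥(Z ⊔ C) := by rw [← hprod]; rfl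
  rw [hBc] at e2
  have hj : centralizer ((Q ⊔ A : Subgroup G) : Set G) = Z ⊓ C := by
    rw [centralizer_sup, hCA, hZQ]
    exact le_antisymm (le_inf inf_le_left (le_inf (inf_le_left.trans hQc) inf_le_right))
      (inf_le_inf_left _ inf_le_right)
  have hQm : Nat.card Q * Nat.card Z = Cfsg.maxCentralizerProduct G := by rw [hZQ]; exact hQl
  have hu := Nat.card_mono (Set.toFinite _) (prod_subset_sup Q A)
  have hU : Nat.card ↥((Q ⊔ A : Subgroup G) : Set G) = Nat.card ↥(Q ⊔ A) := rfl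
  rw [hU] at hu
  have hle := measure_le (Q ⊔ A)
  rw [measure, hj, ← hQm] at hle
  set u := Nat.card ↥((Q : Set G) * (A : Set G))
  set U := Nat.card ↥(Q ⊔ A)
  set c := Nat.card C
  set z := Nat.card Z
  set q := Nat.card Q
  set a := Nat.card A
  set b := Nat.card ↥(Z ⊔ C)
  set i := Nat.card ↥(Z ⊓ C)
  have h1 : q * z * a = u * i * b := by
    have hc : 0 < c := Nat.card_pos
    refine Nat.eq_of_mul_eq_mul_right hc ?_
    calc q * z * a * c = (q * a) * (z * c) := by ring
      _ = (u * c) * (b * i) := by rw [← e1, ← e2]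
      _ = u * i * b * c := by ring
  have hi : 0 < i := Nat.card_pos
  have ha : 0 < a := Nat.card_pos
  have h2 : U * i * a ≤ u * i * b := (Nat.mul_le_mul_right a hle).trans h1.le
  have hUu : U ≤ u := by
    refine Nat.le_of_mul_le_mul_right (?_ : U * (i * a) ≤ u * (i * a)) (Nat.mul_pos hi ha)
    rw [← mul_assoc, ← mul_assoc]
    exact h2.trans (Nat.mul_le_mul_left _ hB)
  have hab : a ≤ b := by
    refine Nat.le_of_mul_le_mul_left (?_ : U * i * a ≤ U * i * b) (Nat.mul_pos Nat.card_pos hi)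
    exact h2.trans (Nat.mul_le_mul_right _ (Nat.mul_le_mul_right _ hu))
  refine ⟨(Set.eq_of_subset_of_ncard_le (prod_subset_sup Q A) ?_ (Set.toFinite _)).symm,
    cl_iff.2 ⟨large_iff.2 ?_, (centralizer_le (le_sup_left : Q ≤ Q ⊔ A)).trans
      (hQc.trans le_sup_left)⟩, hBab, fun B' hB' => (hA.2 B' hB').trans hab⟩
  · rw [← Nat.card_coe_set_eq, ← Nat.card_coe_set_eq]; exact hUu
  · rw [measure, hj, ← hQm]
    refine Nat.le_of_mul_le_mul_right (?_ : q * z * a ≤ U * i * a) ha
    rw [h1]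
    exact (Nat.mul_le_mul_right _ (Nat.mul_le_mul_right _ hu)).trans (Nat.mul_le_mul_left _ hB)

theorem maxAbelian_nonempty : ∃ A : Subgroup G, A ∈ Cfsg.maxAbelianSubgroups G := by
  obtain ⟨A, hA, hmax⟩ := Set.Finite.exists_maximalFor (fun A : Subgroup G => Nat.card A)
    {A : Subgroup G | IsMulCommutative A} (Set.toFinite _) ⟨⊥, show IsMulCommutative (⊥ : Subgroup G) from inferInstance⟩
  exact ⟨A, hA, fun B hB => (le_total (Nat.card B) (Nat.card A)).elim id fun h => hmax hB h⟩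

end CfsgLib.CDLat
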