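import Cfsg.Agent.Lib.PGroup.MetacyclicOmega
import Cfsg.Agent.Lib.Coprime.UniqueOrderP
import Cfsg.Agent.Lib.Coprime.Solvable
import Cfsg.Prelude.Def_Transfer

/-!
# Normal elementary abelian subgroups of order `p²`
-/

set_option autoImplicit false
set_option linter.style.haveILetI false
set_option linter.unusedSectionVars false

open Subgroup

namespace CfsgLib.PGroup

universe u

variable {R : Type u} [Group R] [Finite R] {p : ℕ} [hpf : Fact p.Prime]

/-- A normal subgroup properly inside another one grows by a step of index `p`. -/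
theorem exists_normal_step (hR : IsPGroup p R) {T S : Subgroup R} [T.Normal] [S.Normal] (h : T < S) :
    ∃ T₁ : Subgroup R, T₁.Normal ∧ T < T₁ ∧ T₁ ≤ S ∧ T.relIndex T₁ = p := by
  set π := QuotientGroup.mk' T with hπ
  have hπs : Function.Surjective π := QuotientGroup.mk'_surjective T
  haveI := Subgroup.Normal.map (inferInstance : S.Normal) π hπs
  haveI := (hR.to_quotient T).isNilpotent
  have hne : S.map π ≠ ⊥ := fun e => h.not_ge fun s hs =>
    (QuotientGroup.eq_one_iff s).1 (mem_bot.1 (e ▸ mem_map_of_mem π hs))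
  have hne' := CfsgLib.Coprime.nilpotent_inf_center_ne_bot (S.map π) hne
  haveI := (Subgroup.nontrivial_iff_ne_bot _).2 hne'
  obtain ⟨k, hk⟩ := ((hR.to_quotient T).to_subgroup (S.map π ⊓ center (R ⧸ T))).exists_card_eq
  have hk0 : k ≠ 0 := by
    rintro rfl
    have h1 : 1 < Nat.card ↥(S.map π ⊓ center (R ⧸ T)) := Finite.one_lt_card
    rw [hk, pow_zero] at h1
    omega
  obtain ⟨z, hz⟩ := exists_prime_orderOf_dvd_card' (G := ↥(S.map π ⊓ center (R ⧸ T))) p
    (hk ▸ dvd_pow_self p hk0)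
  have hzord : orderOf (z : R ⧸ T) = p := (orderOf_coe z).trans hz
  haveI hzn : (zpowers (z : R ⧸ T)).Normal := ⟨fun x hx g => by
    have hx' : x ∈ center (R ⧸ T) := (zpowers_le.2 z.2.2) hx
    rw [mem_center_iff.1 hx' g, mul_inv_cancel_right]
    exact hx⟩
  have hle : T ≤ (zpowers (z : R ⧸ T)).comap π := fun t ht => by
    rw [mem_comap, show π t = 1 from (QuotientGroup.eq_one_iff t).2 ht]
    exact one_mem _
  have hrel : T.relIndex ((zpowers (z : R ⧸ T)).comap π) = p := by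
    have h1 := relIndex_comap (⊥ : Subgroup (R ⧸ T)) π ((zpowers (z : R ⧸ T)).comap π)
    rw [MonoidHom.comap_bot, QuotientGroup.ker_mk', map_comap_eq_self_of_surjective hπs,
      relIndex_bot_left, Nat.card_zpowers, hzord] at h1
    exact h1
  refine ⟨_, hzn.comap π, lt_of_le_of_ne hle fun e => ?_, fun x hx => ?_, hrel⟩
  · rw [← e, relIndex_self] at hrel
    exact hpf.out.ne_one hrel.symm
  · obtain ⟨s, hs, hse⟩ := (zpowers_le.2 z.2.1) hx
    have h1 : s⁻¹ * x ∈ S := h.le ((QuotientGroup.eq).1 hse)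
    simpa using mul_mem hs h1

/-- The `Ω₁` of an odd non-cyclic `p`-group with a cyclic normal subgroup of cyclic quotient. -/
theorem omega_of_cyclic_extension (hR : IsPGroup p R) (hp : p ≠ 2) {N : Subgroup R} [N.Normal]
    [IsCyclic N] (hq : IsCyclic (R ⧸ N)) (hnc : ¬ IsCyclic R) :
    Cfsg.IsElementaryAbelian p (Subgroup.closure {x : R | x ^ p = 1}) ∧
      Nat.card (Subgroup.closure {x : R | x ^ p = 1}) = p ^ 2 := by
  obtain ⟨W, hW, hWc, hWle⟩ := CfsgLib.MetacyclicOmega.exists_omega hR hp hq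
  have hcl : Subgroup.closure {x : R | x ^ p = 1} = W :=
    le_antisymm ((closure_le W).2 fun x hx => (hW x).2 hx) fun x hx => subset_closure ((hW x).1 hx)
  rw [hcl]
  refine ⟨⟨isMulCommutative_iff.2 fun a b => Subtype.ext (hWc a a.2 b b.2), fun a ha => (hW a).1 ha⟩,
    le_antisymm hWle ?_⟩
  by_contra hlt
  obtain ⟨k, hk⟩ := (hR.to_subgroup W).exists_card_eq
  have hk1 : k ≤ 1 := by
    by_contra h
    exact hlt (hk ▸ Nat.pow_le_pow_right hpf.out.pos (by omega))
  refine hnc (CfsgLib.Coprime.isCyclic_of_unique_odd hp hR fun x y hx hy hx1 => ?_)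
  have hxW : zpowers x ≤ W := zpowers_le.2 ((hW x).2 hx)
  have h2 : zpowers x = W := eq_of_le_of_card_ge hxW (by
    rw [hk, Nat.card_zpowers, orderOf_eq_prime hx hx1]
    exact (Nat.pow_le_pow_right hpf.out.pos hk1).trans (pow_one p).le)
  exact h2 ▸ (hW y).2 hy

/-- An odd non-cyclic normal subgroup contains a normal elementary abelian subgroup of order `p²`. -/
theorem exists_normal_rank_two (hR : IsPGroup p R) (hp : p ≠ 2) (S : Subgroup R) [hSn : S.Normal]
    (hS : ¬ IsCyclic S) :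
    ∃ A : Subgroup R, A ≤ S ∧ A.Normal ∧ Cfsg.IsElementaryAbelian p A ∧ Nat.card A = p ^ 2 := by
  obtain ⟨T, ⟨hTn, hTc, hTS⟩, hmax⟩ := (Set.toFinite {T : Subgroup R |
    T.Normal ∧ IsCyclic T ∧ T ≤ S}).exists_maximal
      ⟨⊥, inferInstance, isCyclic_of_subsingleton, bot_le⟩
  have hlt : T < S := lt_of_le_of_ne hTS fun e => hS (e ▸ hTc)
  obtain ⟨T₁, hT₁n, hTT₁, hT₁S, hrel⟩ := exists_normal_step hR hlt
  have hT₁c : ¬ IsCyclic T₁ := fun h => hTT₁.not_ge (hmax ⟨hT₁n, h, hT₁S⟩ hTT₁.le)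
  haveI : (T.subgroupOf T₁).Normal := Subgroup.normal_subgroupOf
  haveI : IsCyclic (T.subgroupOf T₁) := (subgroupOfEquivOfLe hTT₁.le).isCyclic.2 hTc
  have hq : IsCyclic (T₁ ⧸ T.subgroupOf T₁) := isCyclic_of_prime_card (p := p) hrel
  obtain ⟨hel, hcard⟩ := omega_of_cyclic_extension (hR.to_subgroup T₁) hp hq hT₁c
  haveI : (Subgroup.closure {x : T₁ | x ^ p = 1}).Characteristic := by
    refine characteristic_iff_map_le.2 fun φ => ?_
    rw [MonoidHom.map_closure]
    refine closure_mono ?_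
    rintro _ ⟨x, hx, rfl⟩
    show (φ x) ^ p = 1
    rw [← map_pow, show x ^ p = 1 from hx, map_one]
  refine ⟨(Subgroup.closure {x : T₁ | x ^ p = 1}).map T₁.subtype,
    (map_subtype_le _).trans hT₁S, ConjAct.normal_of_characteristic_of_normal, ⟨?_, ?_⟩, ?_⟩
  · refine isMulCommutative_iff.2 ?_
    rintro ⟨_, a, ha, rfl⟩ ⟨_, b, hb, rfl⟩
    exact Subtype.ext (congrArg (fun z : Subgroup.closure {x : T₁ | x ^ p = 1} => ((z : T₁) : R))
      (isMulCommutative_iff.1 hel.1 ⟨a, ha⟩ ⟨b, hb⟩))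
  · rintro _ ⟨a, ha, rfl⟩
    rw [← map_pow, hel.2 a ha, map_one]
  · rw [card_map_of_injective T₁.subtype_injective, hcard]

end CfsgLib.PGroup
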