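import Cfsg.Agent.Lib.PGroup.Basic
import Cfsg.Agent.Lib.Fusion.PComplement
import Cfsg.Agent.Lib.Fusion.Transfer
import Mathlib.GroupTheory.ClassEquation
import Mathlib.GroupTheory.CommutingProbability
import Mathlib.Data.Nat.ModEq
import Cfsg.Prelude.Def_OddOrderLocal

/-!
Counting classes of π-elements.
-/

set_option linter.style.haveILetI false

namespace CfsgLib.PGroup

open Subgroup
open scoped Classical

universe u

/-- All prime divisors of the order of `g` lie in `π`. -/
def IsPiElem {G : Type*} [Group G] (π : Finset ℕ) (g : G) : Prop :=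
  ∀ r : ℕ, r.Prime → r ∣ orderOf g → r ∈ π

/-- The number of classes of π-elements. -/
noncomputable def piClassCount (π : Finset ℕ) (G : Type u) [Group G] : ℕ :=
  Nat.card {c : ConjClasses G // ∀ x ∈ c.carrier, ∀ r : ℕ, r.Prime → r ∣ orderOf x → r ∈ π}

/-- The π-part of the order. -/
noncomputable def piPart (π : Finset ℕ) (G : Type u) [Group G] : ℕ :=
  π.prod fun r => r ^ (Nat.card G).factorization r

section
variable {G : Type u} [Group G]

theorem orderOf_eq_of_isConj {x y : G} (h : IsConj x y) : orderOf x = orderOf y := by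
  obtain ⟨c, hc⟩ := isConj_iff.1 h
  rw [← hc]
  exact (MulEquiv.orderOf_eq (MulAut.conj c) x).symm

theorem carrier_isPiElem_iff (π : Finset ℕ) (g : G) :
    (∀ x ∈ (ConjClasses.mk g).carrier, ∀ r : ℕ, r.Prime → r ∣ orderOf x → r ∈ π) ↔ IsPiElem π g := by
  constructor
  · intro h; exact h g ConjClasses.mem_carrier_mk
  · intro h x hx r hr hd
    rw [ConjClasses.mem_carrier_iff_mk_eq, ConjClasses.mk_eq_mk_iff_isConj] at hx
    exact h r hr (orderOf_eq_of_isConj hx ▸ hd)

/-- Split off the `r`-part of an element. -/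
theorem exists_split [Finite G] (g : G) {r : ℕ} (hr : r.Prime) :
    ∃ x y : G, Commute x y ∧ x * y = g ∧ (∃ e : ℕ, orderOf x ∣ r ^ e) ∧
      orderOf y ∣ orderOf g ∧ ¬ r ∣ orderOf y ∧ orderOf x ∣ orderOf g := by
  set n := orderOf g with hn
  have hn0 : n ≠ 0 := (orderOf_pos g).ne'
  set e := n.factorization r with he
  set m := ordCompl[r] n with hm
  have hsplit : r ^ e * m = n := Nat.ordProj_mul_ordCompl_eq_self n r
  have hco : (r ^ e).Coprime m := (Nat.coprime_ordCompl hr hn0).pow_left _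
  obtain ⟨a, ha1, ha2⟩ := Nat.chineseRemainder hco 1 0
  obtain ⟨b, hb1, hb2⟩ := Nat.chineseRemainder hco 0 1
  have hab : a + b ≡ 1 [MOD n] := by
    rw [← hsplit]
    refine (Nat.modEq_and_modEq_iff_modEq_mul hco).1 ⟨?_, ?_⟩
    · simpa using ha1.add hb1
    · simpa using ha2.add hb2
  have hx : orderOf (g ^ a) ∣ r ^ e := by
    obtain ⟨c, hc⟩ := Nat.modEq_zero_iff_dvd.1 ha2
    refine orderOf_dvd_iff_pow_eq_one.2 ?_
    rw [← pow_mul, hc, show m * c * r ^ e = r ^ e * m * c by ring, hsplit, pow_mul,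
      pow_orderOf_eq_one, one_pow]
  have hy : orderOf (g ^ b) ∣ m := by
    obtain ⟨c, hc⟩ := Nat.modEq_zero_iff_dvd.1 hb1
    refine orderOf_dvd_iff_pow_eq_one.2 ?_
    rw [← pow_mul, hc, show r ^ e * c * m = r ^ e * m * c by ring, hsplit, pow_mul,
      pow_orderOf_eq_one, one_pow]
  refine ⟨g ^ a, g ^ b, Commute.pow_pow_self g a b, ?_, ⟨e, hx⟩, ?_, ?_, ?_⟩
  · rw [← pow_add]
    conv_rhs => rw [← pow_one g]
    exact pow_eq_pow_iff_modEq.2 hab
  · exact hy.trans (hsplit ▸ dvd_mul_left m (r ^ e))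
  · exact fun h => Nat.not_dvd_ordCompl hr hn0 (h.trans hy)
  · exact hx.trans (hsplit ▸ dvd_mul_right (r ^ e) m)

theorem piPart_subgroup_le [Finite G] {π : Finset ℕ} (hπ : ∀ r ∈ π, r.Prime) (H : Subgroup G) :
    piPart π H ≤ piPart π G :=
  Finset.prod_le_prod' fun r hr => Nat.pow_le_pow_right (hπ r hr).pos
    ((Nat.factorization_le_iff_dvd Nat.card_pos.ne' Nat.card_pos.ne').2 (card_subgroup_dvd_card H) r)

theorem piClassCount_empty [Finite G] : piClassCount ∅ G = 1 := by
  refine Nat.card_eq_one_iff_unique.2 ⟨⟨?_⟩, ⟨⟨ConjClasses.mk 1, ?_⟩⟩⟩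
  · rintro ⟨c, hc⟩ ⟨d, hd⟩
    have key : ∀ c : ConjClasses G, (∀ x ∈ c.carrier, ∀ r : ℕ, r.Prime → r ∣ orderOf x → r ∈ (∅ : Finset ℕ)) →
        c = ConjClasses.mk 1 := by
      intro c hc
      obtain ⟨g, rfl⟩ := ConjClasses.mk_surjective c
      have hg := (carrier_isPiElem_iff ∅ g).1 hc
      by_cases h : orderOf g = 1
      · rw [orderOf_eq_one_iff.1 h]
      · obtain ⟨q, hq, hqd⟩ := Nat.exists_prime_and_dvd h
        exact absurd (hg q hq hqd) (Finset.notMem_empty q)
    exact Subtype.ext ((key c hc).trans (key d hd).symm)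
  · rw [carrier_isPiElem_iff]
    intro q hq h
    rw [orderOf_one] at h
    exact absurd (Nat.dvd_one.1 h) hq.ne_one

/-- Splitting off one prime: `k_π(G) ≤ Σ_x k_{π-r}(C(x))` over classes of `r`-elements `x`. -/
theorem piClassCount_le_mul [Finite G] {π : Finset ℕ} (hπ : ∀ r ∈ π, r.Prime) {r : ℕ} (hr : r ∈ π)
    (B : ℕ) (hB : ∀ H : Subgroup G, piClassCount (π.erase r) H ≤ B) :
    piClassCount π G ≤ piClassCount {r} G * B := by
  haveI := Fintype.ofFinite G
  let T := {c : ConjClasses G // ∀ x ∈ c.carrier, ∀ q : ℕ, q.Prime → q ∣ orderOf x → q ∈ ({r} : Finset ℕ)}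
  let rep : T → G := fun c => Quotient.out c.1
  have hrep : ∀ c : T, ConjClasses.mk (rep c) = c.1 := fun c => Quotient.out_eq c.1
  let C : T → Subgroup G := fun c => centralizer ({rep c} : Set G)
  let D : T → Type u := fun c =>
    {d : ConjClasses (C c) // ∀ x ∈ d.carrier, ∀ q : ℕ, q.Prime → q ∣ orderOf x → q ∈ π.erase r}
  haveI : ∀ c, Finite (D c) := fun c => inferInstanceAs (Finite {d : ConjClasses (C c) // _})
  let outD : ∀ c, D c → C c := fun c d => Quotient.out d.1
  let F : (Σ c : T, D c) → ConjClasses G := fun cd => ConjClasses.mk (rep cd.1 * ((outD cd.1 cd.2 : C cd.1) : G))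
  have hsurj : ∀ s : {c : ConjClasses G // ∀ x ∈ c.carrier, ∀ q : ℕ, q.Prime → q ∣ orderOf x → q ∈ π},
      ∃ cd, F cd = s.1 := by
    rintro ⟨s, hs⟩
    obtain ⟨g, rfl⟩ := ConjClasses.mk_surjective s
    have hg := (carrier_isPiElem_iff π g).1 hs
    obtain ⟨x, y, hcomm, hxy, ⟨e, hxe⟩, hyg, hyr, -⟩ := exists_split g (hπ r hr)
    have hxpi : IsPiElem {r} x := fun q hq h =>
      Finset.mem_singleton.2 ((Nat.prime_dvd_prime_iff_eq hq (hπ r hr)).1 (hq.dvd_of_dvd_pow (h.trans hxe)))
    let c : T := ⟨ConjClasses.mk x, (carrier_isPiElem_iff _ x).2 hxpi⟩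
    obtain ⟨u, hu⟩ := isConj_iff.1 (ConjClasses.mk_eq_mk_iff_isConj.1 (hrep c).symm)
    have hmem : u * y * u⁻¹ ∈ C c := by
      rw [mem_centralizer_singleton_iff, ← hu]
      calc u * y * u⁻¹ * (u * x * u⁻¹) = u * (y * x) * u⁻¹ := by group
        _ = u * (x * y) * u⁻¹ := by rw [hcomm.eq]
        _ = u * x * u⁻¹ * (u * y * u⁻¹) := by group
    have hy'pi : IsPiElem (π.erase r) (⟨_, hmem⟩ : C c) := by
      intro q hq h
      rw [← orderOf_coe, Subgroup.coe_mk, ← MulAut.conj_apply, MulEquiv.orderOf_eq] at h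
      refine Finset.mem_erase.2 ⟨?_, hg q hq (h.trans hyg)⟩
      rintro rfl; exact hyr h
    let d : D c := ⟨ConjClasses.mk ⟨_, hmem⟩, (carrier_isPiElem_iff _ _).2 hy'pi⟩
    refine ⟨⟨c, d⟩, ?_⟩
    obtain ⟨v, hv⟩ := isConj_iff.1 (ConjClasses.mk_eq_mk_iff_isConj.1
      (show ConjClasses.mk (outD c d) = ConjClasses.mk (⟨_, hmem⟩ : C c) from Quotient.out_eq d.1)).symm
    have hv' : (v : G) * (u * y * u⁻¹) * (v : G)⁻¹ = ((outD c d : C c) : G) := by
      rw [← hv]; rfl
    have hvc : (v : G) * rep c * (v : G)⁻¹ = rep c := by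
      have := mem_centralizer_singleton_iff.1 v.2
      rw [mul_inv_eq_iff_eq_mul]; exact this
    refine ConjClasses.mk_eq_mk_iff_isConj.2 (IsConj.symm (isConj_iff.2 ⟨(v : G) * u, ?_⟩))
    show (v : G) * u * g * ((v : G) * u)⁻¹ = rep c * ((outD c d : C c) : G)
    rw [← hv', ← hxy]
    conv_rhs => arg 1; rw [← hvc, ← hu]
    group
  calc piClassCount π G ≤ Nat.card (Σ c : T, D c) := by
        refine Nat.card_le_card_of_injective (fun s => (hsurj s).choose) fun s t h => Subtype.ext ?_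
        rw [← (hsurj s).choose_spec, ← (hsurj t).choose_spec]
        exact congrArg F h
    _ = ∑ c : T, Nat.card (D c) := Nat.card_sigma
    _ ≤ ∑ _c : T, B := Finset.sum_le_sum fun c _ => hB (C c)
    _ = piClassCount {r} G * B := by
        rw [Finset.sum_const, smul_eq_mul, Finset.card_univ, ← Nat.card_eq_fintype_card]
        rfl

/-- Every class of `r`-elements meets a given Sylow subgroup. -/
theorem exists_mem_sylow_class [Finite G] {r : ℕ} [hr : Fact r.Prime] (P : Sylow r G)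
    (c : {c : ConjClasses G // ∀ x ∈ c.carrier, ∀ q : ℕ, q.Prime → q ∣ orderOf x → q ∈ ({r} : Finset ℕ)}) :
    ∃ x : (P : Subgroup G), ConjClasses.mk (x : G) = c.1 := by
  obtain ⟨c, hc⟩ := c
  obtain ⟨g, rfl⟩ := ConjClasses.mk_surjective c
  have hg := (carrier_isPiElem_iff _ g).1 hc
  obtain ⟨k, hk⟩ : ∃ k, orderOf g = r ^ k := ⟨_, Nat.eq_prime_pow_of_unique_prime_dvd (orderOf_pos g).ne'
    fun {q} hq h => Finset.mem_singleton.1 (hg q hq h)⟩
  have hz : IsPGroup r (zpowers g) := IsPGroup.of_card (by rw [Nat.card_zpowers, hk])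
  obtain ⟨Q, hQ⟩ := hz.exists_le_sylow
  obtain ⟨u, rfl⟩ := MulAction.exists_smul_eq G P Q
  have hgQ := hQ (mem_zpowers g)
  rw [Sylow.coe_subgroup_smul, mem_pointwise_smul_iff_inv_smul_mem] at hgQ
  refine ⟨⟨_, hgQ⟩, ConjClasses.mk_eq_mk_iff_isConj.2 (isConj_iff.2 ⟨u, ?_⟩)⟩
  simp [MulAut.smul_def, mul_assoc]

theorem piClassCount_singleton_le_sylow [Finite G] {r : ℕ} [Fact r.Prime] (P : Sylow r G) :
    piClassCount {r} G ≤ Nat.card (ConjClasses (P : Subgroup G)) := by
  refine Nat.card_le_card_of_injective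
    (fun c => ConjClasses.mk (exists_mem_sylow_class P c).choose) fun c d h => Subtype.ext ?_
  rw [← (exists_mem_sylow_class P c).choose_spec, ← (exists_mem_sylow_class P d).choose_spec]
  obtain ⟨v, hv⟩ := isConj_iff.1 (ConjClasses.mk_eq_mk_iff_isConj.1 h)
  refine ConjClasses.mk_eq_mk_iff_isConj.2 (isConj_iff.2 ⟨(v : G), ?_⟩)
  simpa using congrArg Subtype.val hv

theorem piPart_singleton [Finite G] {r : ℕ} [Fact r.Prime] (P : Sylow r G) :
    Nat.card (P : Subgroup G) = piPart {r} G := by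
  rw [piPart, Finset.prod_singleton]; exact P.card_eq_multiplicity

theorem piClassCount_singleton_le [Finite G] {r : ℕ} (hr : r.Prime) :
    piClassCount {r} G ≤ piPart {r} G := by
  haveI := Fact.mk hr
  let P : Sylow r G := Classical.arbitrary _
  rw [← piPart_singleton P]
  exact (piClassCount_singleton_le_sylow P).trans
    (Nat.card_le_card_of_surjective _ ConjClasses.mk_surjective)

end

theorem piPart_eq_mul {G : Type u} [Group G] {π : Finset ℕ} {r : ℕ} (hr : r ∈ π) :
    piPart π G = piPart {r} G * piPart (π.erase r) G := by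
  rw [piPart, piPart, piPart, Finset.prod_singleton]
  exact (Finset.mul_prod_erase π (fun r => r ^ (Nat.card G).factorization r) hr).symm

/-- There are at most `|G|_π` classes of π-elements. -/
theorem piClassCount_le_piPart : ∀ (π : Finset ℕ), (∀ r ∈ π, r.Prime) → ∀ (G : Type u) [Group G] [Finite G],
    piClassCount π G ≤ piPart π G := by
  intro π
  induction π using Finset.strongInduction with
  | _ π ih =>
    intro hπ G _ _
    rcases π.eq_empty_or_nonempty with rfl | ⟨r, hr⟩
    · rw [piClassCount_empty]; simp [piPart]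
    · have hπ' : ∀ q ∈ π.erase r, q.Prime := fun q hq => hπ q (Finset.mem_of_mem_erase hq)
      refine (piClassCount_le_mul hπ hr (piPart (π.erase r) G) fun H => ?_).trans ?_
      · exact (ih _ (Finset.erase_ssubset hr) hπ' H).trans (piPart_subgroup_le hπ' H)
      · rw [piPart_eq_mul hr]
        exact Nat.mul_le_mul_right _ (piClassCount_singleton_le (hπ r hr))

theorem piClassCount_le_prime_mul {G : Type u} [Group G] [Finite G] {π : Finset ℕ} (hπ : ∀ r ∈ π, r.Prime)
    {r : ℕ} (hr : r ∈ π) : piClassCount π G ≤ piClassCount {r} G * piPart (π.erase r) G :=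
  piClassCount_le_mul hπ hr _ fun H =>
    (piClassCount_le_piPart _ (fun q hq => hπ q (Finset.mem_of_mem_erase hq)) H).trans
      (piPart_subgroup_le (fun q hq => hπ q (Finset.mem_of_mem_erase hq)) H)

section
variable {G : Type u} [Group G]

/-- A class bound through the centre: all noncentral classes have at least `p` elements. -/
theorem classCount_mul_le_of_isPGroup [Finite G] {p : ℕ} [hp : Fact p.Prime] (hG : IsPGroup p G) :
    p * Nat.card (ConjClasses G) + Nat.card (center G) ≤ p * Nat.card (center G) + Nat.card G := by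
  haveI := Fintype.ofFinite G
  have hcen := Group.card_center_add_sum_card_noncenter_eq_card G
  simp only [← Nat.card_eq_fintype_card] at hcen
  set S := (ConjClasses.noncenter G).toFinset with hS
  have hbij : Nat.card (ConjClasses G) = Nat.card (center G) + S.card := by
    have e : Nat.card (center G) = Nat.card ((ConjClasses.noncenter G)ᶜ : Set (ConjClasses G)) :=
      Nat.card_congr (ConjClasses.mk_bijOn G).equiv
    rw [e, hS, ← Set.ncard_eq_toFinset_card', Nat.card_coe_set_eq, add_comm,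
      Set.ncard_add_ncard_compl]
  have hsum : S.card * p ≤ ∑ c ∈ S, c.carrier.toFinset.card := by
    rw [← smul_eq_mul, ← Finset.sum_const]
    refine Finset.sum_le_sum fun c hc => ?_
    rw [hS, Set.mem_toFinset, ConjClasses.noncenter, Set.mem_setOf_eq] at hc
    obtain ⟨g, rfl⟩ := ConjClasses.mk_surjective c
    rw [← Set.ncard_eq_toFinset_card']
    have h1 : (ConjClasses.mk g).carrier = MulAction.orbit (ConjAct G) g := (ConjAct.orbit_eq_carrier_conjClasses g).symm
    have hG' : IsPGroup p (ConjAct G) := hG.of_equiv ConjAct.toConjAct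
    obtain ⟨k, hk⟩ := hG'.card_orbit g
    rw [← h1, Nat.card_coe_set_eq] at hk
    rw [hk]
    rcases k with _ | k
    · exfalso
      rw [pow_zero, Set.ncard_eq_one] at hk
      obtain ⟨a, ha⟩ := hk
      rw [ha] at hc
      exact Set.not_nontrivial_singleton hc
    · exact Nat.le_self_pow (Nat.succ_ne_zero k) p
  rw [hbij]
  have h3 : ∑ c ∈ S, c.carrier.toFinset.card + Nat.card (center G) = Nat.card G := by
    rw [← hcen, add_comm]
  nlinarith [hsum, h3]

theorem classCount_bound_of_nonabelian [Finite G] {p : ℕ} [hp : Fact p.Prime] (hG : IsPGroup p G)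
    (hna : ¬ IsMulCommutative G) : 2 * p * Nat.card (ConjClasses G) ≤ (p + 1) * Nat.card G := by
  have h := classCount_mul_le_of_isPGroup hG
  have h2 : 2 * Nat.card (center G) ≤ Nat.card G := by
    rw [← (center G).card_mul_index, mul_comm 2]
    refine Nat.mul_le_mul_left _ ?_
    have : (center G).index ≠ 1 := fun h1 => hna ((by
      have h := index_eq_one.1 h1
      exact ⟨⟨fun a b => (mem_center_iff.1 (h ▸ mem_top b)) a⟩⟩))
    have := (center G).index_ne_zero_of_finite
    omega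
  have hp2 := hp.1.two_le
  nlinarith [h, h2]

/-- Many classes of `p`-elements: normal `p`-complement and abelian Sylow subgroup. -/
theorem pComplement_of_many_classes [Finite G] {p : ℕ} [hp : Fact p.Prime]
    (h : (p + 1) * piPart {p} G < 2 * p * piClassCount {p} G) :
    Cfsg.HasNormalPComplement p G ∧ ∀ P : Sylow p G, IsMulCommutative (P : Subgroup G) := by
  have hab : ∀ P : Sylow p G, IsMulCommutative (P : Subgroup G) := by
    intro P
    by_contra hna
    have h1 := classCount_bound_of_nonabelian P.2 hna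
    have h2 := piClassCount_singleton_le_sylow P
    rw [piPart_singleton P] at h1
    nlinarith [h, h1, h2]
  refine ⟨?_, hab⟩
  let P : Sylow p G := Classical.arbitrary _
  refine CfsgLib.Fusion.hasNormalPComplement_of_normalizer_le_centralizer P ?_
  intro n hn
  by_contra hnc
  rw [CfsgLib.Fusion.mem_centralizer_iff'] at hnc
  push Not at hnc
  obtain ⟨a, haP, ha⟩ := hnc
  haveI := Fintype.ofFinite G
  haveI := hab P
  let f : ↥(P : Subgroup G) → ConjClasses G := fun x => ConjClasses.mk (x : G)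
  let F : Subgroup (P : Subgroup G) := (centralizer ({n} : Set G)).subgroupOf P
  set I := (Finset.univ : Finset (P : Subgroup G)).image f with hI
  have hk : piClassCount {p} G ≤ I.card := by
    rw [← Nat.card_eq_finsetCard]
    refine Nat.card_le_card_of_injective (fun c => ⟨c.1, ?_⟩) fun c d h => Subtype.ext (Subtype.mk.inj h)
    obtain ⟨x, hx⟩ := exists_mem_sylow_class P c
    exact Finset.mem_image.2 ⟨x, Finset.mem_univ _, hx⟩
  let J := I.filter fun c => ((Finset.univ : Finset (P : Subgroup G)).filter fun x => f x = c).card = 1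
  have hJ : J.card ≤ Nat.card F := by
    rw [← Nat.card_eq_finsetCard]
    have hex : ∀ c : J, ∃ x : F, f (x : (P : Subgroup G)) = c.1 := by
      rintro ⟨c, hc⟩
      obtain ⟨hcI, hc1⟩ := Finset.mem_filter.1 hc
      obtain ⟨x, -, rfl⟩ := Finset.mem_image.1 hcI
      obtain ⟨z, hz⟩ := Finset.card_eq_one.1 hc1
      refine ⟨⟨x, ?_⟩, rfl⟩
      have hy : n * (x : G) * n⁻¹ ∈ (P : Subgroup G) := (mem_normalizer_iff.1 hn _).1 x.2
      have e1 : (⟨_, hy⟩ : (P : Subgroup G)) = z := Finset.mem_singleton.1 (hz ▸ Finset.mem_filter.2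
        ⟨Finset.mem_univ _, ConjClasses.mk_eq_mk_iff_isConj.2 (IsConj.symm (isConj_iff.2 ⟨n, rfl⟩))⟩)
      have e2 : x = z := Finset.mem_singleton.1 (hz ▸ Finset.mem_filter.2 ⟨Finset.mem_univ _, rfl⟩)
      have e3 : n * (x : G) * n⁻¹ = (x : G) := congrArg Subtype.val (e1.trans e2.symm)
      show (x : G) ∈ centralizer ({n} : Set G)
      rw [mem_centralizer_singleton_iff]
      exact (mul_inv_eq_iff_eq_mul.1 e3).symm
    refine Nat.card_le_card_of_injective (fun c => (hex c).choose) fun c d h => Subtype.ext ?_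
    rw [← (hex c).choose_spec, ← (hex d).choose_spec, show (hex c).choose = (hex d).choose from h]
  have h2 : 2 * I.card ≤ Nat.card (P : Subgroup G) + J.card := by
    rw [Nat.card_eq_fintype_card, ← Finset.card_univ,
      Finset.card_eq_sum_card_fiberwise (f := f) (t := I)
        (fun x _ => Finset.mem_image_of_mem f (Finset.mem_univ x)),
      Finset.card_filter, ← Finset.sum_add_distrib, mul_comm, ← smul_eq_mul, ← Finset.sum_const]
    refine Finset.sum_le_sum fun c hc => ?_
    obtain ⟨x, -, rfl⟩ := Finset.mem_image.1 hc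
    have hpos : 0 < ((Finset.univ : Finset (P : Subgroup G)).filter fun y => f y = f x).card :=
      Finset.card_pos.2 ⟨x, Finset.mem_filter.2 ⟨Finset.mem_univ _, rfl⟩⟩
    split_ifs <;> omega
  have hFtop : F ≠ ⊤ := fun h0 => ha (by
    have : (⟨a, haP⟩ : (P : Subgroup G)) ∈ F := h0 ▸ mem_top _
    have := mem_centralizer_singleton_iff.1 (show a ∈ centralizer ({n} : Set G) from this)
    exact mul_inv_eq_iff_eq_mul.2 this.symm)
  have h3 : p * Nat.card F ≤ Nat.card (P : Subgroup G) := by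
    rw [← F.card_mul_index, mul_comm]
    refine Nat.mul_le_mul_left _ ?_
    obtain ⟨k, hk'⟩ := P.2.index F
    rcases k with _ | k
    · exact absurd (index_eq_one.1 (by simpa using hk')) hFtop
    · rw [hk']; exact Nat.le_self_pow (Nat.succ_ne_zero k) p
  rw [← piPart_singleton P] at h
  nlinarith [hk, hJ, h2, h3, h]

/-- With a normal `p`-complement and abelian Sylow subgroup, `p`-classes correspond to Sylow elements. -/
theorem piPart_le_piClassCount [Finite G] {p : ℕ} [hp : Fact p.Prime] (h : Cfsg.HasNormalPComplement p G)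
    (hab : ∀ P : Sylow p G, IsMulCommutative (P : Subgroup G)) :
    piPart {p} G ≤ piClassCount {p} G := by
  obtain ⟨P, N, hN, hc⟩ := h
  rw [← piPart_singleton P]
  haveI := hN
  haveI := hab P
  have hpi : ∀ x : (P : Subgroup G), IsPiElem {p} (x : G) := by
    intro x q hq h
    obtain ⟨k, hk⟩ := IsPGroup.iff_orderOf.1 P.2 x
    rw [orderOf_coe, hk] at h
    exact Finset.mem_singleton.2 ((Nat.prime_dvd_prime_iff_eq hq hp.1).1 (hq.dvd_of_dvd_pow h))
  refine Nat.card_le_card_of_injective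
    (fun x : (P : Subgroup G) => ⟨ConjClasses.mk (x : G), (carrier_isPiElem_iff _ _).2 (hpi x)⟩)
    fun x y h => ?_
  obtain ⟨g, hg⟩ := isConj_iff.1 (ConjClasses.mk_eq_mk_iff_isConj.1 (congrArg Subtype.val h))
  have hsup : (g : G) ∈ N ⊔ (P : Subgroup G) := hc.sup_eq_top ▸ mem_top g
  rw [mem_sup_of_normal_left] at hsup
  obtain ⟨a, ha, b, hb, rfl⟩ := hsup
  have hbx : b * (x : G) * b⁻¹ = x := mul_inv_eq_iff_eq_mul.2
    (congrArg Subtype.val (mul_comm' (⟨b, hb⟩ : (P : Subgroup G)) x))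
  have : (y : G) * (x : G)⁻¹ ∈ N := by
    rw [← hg, show a * b * (x : G) * (a * b)⁻¹ * (x : G)⁻¹ = a * (b * x * b⁻¹) * a⁻¹ * (x : G)⁻¹ by group, hbx,
      show a * (x : G) * a⁻¹ * (x : G)⁻¹ = a * ((x : G) * a⁻¹ * (x : G)⁻¹) by group]
    exact N.mul_mem ha (hN.conj_mem _ (N.inv_mem ha) _)
  have h1 : (y : G) * (x : G)⁻¹ = 1 :=
    Subgroup.disjoint_def.1 hc.disjoint this ((P : Subgroup G).mul_mem y.2 ((P : Subgroup G).inv_mem x.2))
  exact Subtype.ext (mul_inv_eq_one.1 h1).symm

/-- Normal `r`-complements for all `r ∈ π` with abelian Sylow subgroups give a normal π-complement and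
an abelian Hall π-subgroup. -/
theorem exists_piComplement_abelian_hall [Finite G] (π : Finset ℕ) (hπ : ∀ r ∈ π, r.Prime)
    (h : ∀ r ∈ π, Cfsg.HasNormalPComplement r G ∧ ∀ P : Sylow r G, IsMulCommutative (P : Subgroup G)) :
    (∃ N : Subgroup G, N.Normal ∧ (∀ r : ℕ, r.Prime → r ∣ Nat.card N → r ∉ π) ∧
      ∀ r : ℕ, r.Prime → r ∣ N.index → r ∈ π) ∧
    ∃ H : Subgroup G, Cfsg.IsPiHall (↑π : Set ℕ) H ∧ IsMulCommutative H := by
  choose P N hN hc using fun r : π => (h r.1 r.2).1
  let K : Subgroup G := ⨅ r : π, N r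
  haveI hKn : K.Normal := normal_iInf_normal hN
  have hK1 : ∀ r : ℕ, r.Prime → r ∣ Nat.card K → r ∉ π := by
    intro r hr hd hrπ
    haveI := Fact.mk hr
    refine (P ⟨r, hrπ⟩).not_dvd_index ?_
    rw [(hc ⟨r, hrπ⟩).index_eq_card]
    exact hd.trans (card_dvd_of_le (iInf_le N ⟨r, hrπ⟩))
  have hK2 : ∀ q : ℕ, q.Prime → q ∣ K.index → q ∈ π := by
    intro q hq hd
    by_contra hqπ
    haveI := Fact.mk hq
    rw [Subgroup.index] at hd
    obtain ⟨g, hg⟩ := exists_prime_orderOf_dvd_card' q hd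
    obtain ⟨g, rfl⟩ := QuotientGroup.mk_surjective g
    have hgq : g ^ q ∈ K := by
      rw [← QuotientGroup.eq_one_iff, QuotientGroup.mk_pow, ← hg]
      exact pow_orderOf_eq_one _
    have hgK : g ∈ K := by
      refine mem_iInf.2 fun r => ?_
      haveI := hN r
      haveI := Fact.mk (hπ r.1 r.2)
      have h1 : orderOf (g : G ⧸ N r) ∣ q := orderOf_dvd_iff_pow_eq_one.2 (by
        rw [← QuotientGroup.mk_pow, QuotientGroup.eq_one_iff]; exact iInf_le N r hgq)
      obtain ⟨k, hk⟩ := IsPGroup.iff_card.1 (P r).2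
      have h2 : orderOf (g : G ⧸ N r) ∣ r.1 ^ k := by
        rw [← hk, ← (hc r).symm.index_eq_card]
        exact orderOf_dvd_natCard _
      rw [← QuotientGroup.eq_one_iff, ← orderOf_eq_one_iff]
      refine (Nat.dvd_prime hq).1 h1 |>.resolve_right fun h3 => hqπ ?_
      rw [h3] at h2
      exact ((Nat.prime_dvd_prime_iff_eq hq (hπ r.1 r.2)).1 (hq.dvd_of_dvd_pow h2)) ▸ r.2
    rw [(QuotientGroup.eq_one_iff g).2 hgK, orderOf_one] at hg
    exact hq.ne_one hg.symm
  have hcomm : ∀ a b : G, a * b * a⁻¹ * b⁻¹ ∈ K := by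
    intro a b
    refine mem_iInf.2 fun r => ?_
    haveI := hN r
    haveI := (h r.1 r.2).2 (P r)
    have key : ∀ g : G, ∃ x : (P r : Subgroup G), ((x : G) : G ⧸ N r) = (g : G ⧸ N r) := by
      intro g
      have hg : g ∈ N r ⊔ (P r : Subgroup G) := (hc r).sup_eq_top ▸ mem_top g
      rw [mem_sup_of_normal_left] at hg
      obtain ⟨n, hn, x, hx, rfl⟩ := hg
      exact ⟨⟨x, hx⟩, by rw [QuotientGroup.mk_mul, (QuotientGroup.eq_one_iff n).2 hn, one_mul]⟩
    obtain ⟨x, hx⟩ := key a
    obtain ⟨y, hy⟩ := key b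
    rw [← QuotientGroup.eq_one_iff]
    simp only [QuotientGroup.mk_mul, QuotientGroup.mk_inv, ← hx, ← hy]
    rw [← QuotientGroup.mk_mul, show (x : G) * (y : G) = (y : G) * (x : G) from
      congrArg Subtype.val (mul_comm' x y), QuotientGroup.mk_mul]
    group
  refine ⟨⟨K, hKn, hK1, hK2⟩, ?_⟩
  have hco : (Nat.card K).Coprime K.index :=
    Nat.coprime_of_dvd fun q hq h1 h2 => hK1 q hq h1 (hK2 q hq h2)
  obtain ⟨H, hH⟩ := Subgroup.exists_right_complement'_of_coprime hco
  refine ⟨H, ⟨?_, ?_⟩, ⟨⟨fun a b => ?_⟩⟩⟩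
  · intro q hq hd
    rw [← hH.symm.index_eq_card] at hd
    exact Finset.mem_coe.2 (hK2 q hq hd)
  · intro q hq hqπ hd
    rw [hH.index_eq_card] at hd
    exact hK1 q hq hd (Finset.mem_coe.1 hqπ)
  · have h1 : ((a * b * a⁻¹ * b⁻¹ : H) : G) = 1 :=
      Subgroup.disjoint_def.1 hH.disjoint (hcomm a b) (a * b * a⁻¹ * b⁻¹ : H).2
    have h2 : a * b * a⁻¹ * b⁻¹ = 1 := Subtype.ext h1
    calc a * b = a * b * a⁻¹ * b⁻¹ * (b * a) := by group
      _ = b * a := by rw [h2, one_mul]

end

end CfsgLib.PGroup
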