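import Cfsg.Agent.Lib.PGroup.AbelianMaximal
import Cfsg.Agent.Lib.PGroup.PiClasses
import Mathlib.Algebra.Order.BigOperators.Ring.Finset
import Mathlib.Algebra.BigOperators.Intervals
import Mathlib.Algebra.Field.GeomSum
import Mathlib.Tactic.Positivity
import Mathlib.Tactic.FieldSimp

/-!
Covering the complement of a subgroup by conjugates of Sylow centres.
-/

set_option linter.style.haveILetI false

namespace CfsgLib.PGroup

open Subgroup
open scoped Classical

universe u

theorem sum_inv_sq_lt_half (s : Finset ℕ) (hs : ∀ p ∈ s, p.Prime) :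
    ∑ p ∈ s, (1 : ℚ) / (p : ℚ) ^ 2 < 1 / 2 := by
  let f : ℕ → ℚ := fun n => 1 / (n : ℚ) ^ 2
  have hpart : ∀ m : ℕ, ∑ k ∈ Finset.range m, f (2 * k + 5) ≤ 1 / 8 - 1 / (4 * (m : ℚ) + 8) := by
    intro m
    induction m with
    | zero => norm_num
    | succ m ih =>
      rw [Finset.sum_range_succ]
      refine le_trans (add_le_add_left ih _ |>.trans_eq rfl) ?_
      have h : f (2 * m + 5) ≤ 1 / (4 * (m : ℚ) + 8) - 1 / (4 * ((m + 1 : ℕ) : ℚ) + 8) := by
        simp only [f]
        push_cast
        rw [div_sub_div _ _ (by positivity) (by positivity), div_le_div_iff₀ (by positivity) (by positivity)]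
        nlinarith [(m.cast_nonneg : (0 : ℚ) ≤ m)]
      linarith
  let N := s.sup id
  have hsub : s ⊆ insert 2 (insert 3 ((Finset.range N).image fun k => 2 * k + 5)) := by
    intro p hp
    have hle : p ≤ N := Finset.le_sup (f := id) hp
    have h2 := (hs p hp).two_le
    simp only [Finset.mem_insert, Finset.mem_image, Finset.mem_range]
    by_cases hp2 : p = 2
    · exact Or.inl hp2
    by_cases hp3 : p = 3
    · exact Or.inr (Or.inl hp3)
    obtain ⟨k, hk⟩ := (hs p hp).odd_of_ne_two hp2
    exact Or.inr (Or.inr ⟨k - 2, by omega, by omega⟩)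
  calc ∑ p ∈ s, (1 : ℚ) / (p : ℚ) ^ 2 = ∑ p ∈ s, f p := rfl
    _ ≤ ∑ p ∈ insert 2 (insert 3 ((Finset.range N).image fun k => 2 * k + 5)), f p :=
        Finset.sum_le_sum_of_subset_of_nonneg hsub fun p _ _ => by positivity
    _ ≤ f 2 + (f 3 + ∑ k ∈ Finset.range N, f (2 * k + 5)) := by
        rw [Finset.sum_insert (by simp), Finset.sum_insert (by simp),
          Finset.sum_image (fun a _ b _ h => Nat.eq_of_mul_eq_mul_left two_pos (Nat.add_right_cancel h))]
    _ < 1 / 2 := by
        have h := hpart N
        have h0 : (0 : ℚ) < 1 / (4 * (N : ℚ) + 8) := by positivity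
        have h2 : f 2 = 1 / 4 := by norm_num [f]
        have h3 : f 3 = 1 / 9 := by norm_num [f]
        linarith

variable {G : Type u} [Group G]

theorem card_sup_mul_card_inf (A Z : Subgroup G) [Z.Normal] :
    Nat.card (A ⊔ Z : Subgroup G) * Nat.card (A ⊓ Z : Subgroup G) = Nat.card A * Nat.card Z := by
  have h1 := relIndex_mul_relIndex ⊥ Z (A ⊔ Z) bot_le le_sup_right
  have h2 := relIndex_mul_relIndex ⊥ (A ⊓ Z) A bot_le inf_le_left
  simp only [relIndex_bot_left] at h1 h2
  rw [relIndex_sup_right] at h1
  rw [inf_comm, inf_relIndex_right] at h2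
  rw [← h1, inf_comm, ← h2]
  ring

/-- The centre of a subgroup, inside the ambient group. -/
noncomputable def centerIn (P : Subgroup G) : Subgroup G := (center P).map P.subtype

theorem centerIn_le (P : Subgroup G) : centerIn P ≤ P := map_subtype_le _

theorem mem_centerIn {P : Subgroup G} {x : G} :
    x ∈ centerIn P ↔ x ∈ P ∧ ∀ y ∈ P, y * x = x * y := by
  constructor
  · rintro ⟨w, hw, rfl⟩
    exact ⟨w.2, fun y hy => congrArg Subtype.val (mem_center_iff.1 hw ⟨y, hy⟩)⟩
  · rintro ⟨hx, h⟩
    exact ⟨⟨x, hx⟩, mem_center_iff.2 fun y => Subtype.ext (h y y.2), rfl⟩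

theorem sq_mul_card_centerIn_le [Finite G] {p : ℕ} [hp : Fact p.Prime] {P : Subgroup G} (hP : IsPGroup p P)
    (hna : ¬ IsMulCommutative P) : p ^ 2 * Nat.card (centerIn P) ≤ Nat.card P := by
  rw [centerIn, card_map_of_injective P.subtype_injective, ← (center P).card_mul_index, mul_comm]
  refine Nat.mul_le_mul_left _ ?_
  obtain ⟨k, hk⟩ := hP.index (center P)
  rcases k with _ | _ | k
  · exact absurd (center_eq_top_iff.1 (index_eq_one.1 (by simpa using hk))) hna
  · exfalso
    apply hna
    have hcard : Nat.card (P ⧸ center P) = p := by rw [← index_eq_card, hk]; simp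
    haveI : IsCyclic (P ⧸ center P) := isCyclic_of_prime_card hcard
    exact (MonoidHom.isMulCommutative_of_isCyclic_of_ker_le_center (QuotientGroup.mk' (center P))
      (by rw [QuotientGroup.ker_mk']))
  · rw [hk]
    exact Nat.pow_le_pow_right hp.1.pos (by omega)

/-- If the elements outside a proper subgroup `N` are covered by the subgroups `Z(P) ⊔ Z` with `P` running
over nonabelian Sylow subgroups, `Z` a central subgroup, then `|G| < 2|N|`. -/
theorem card_lt_two_mul_of_cover [Finite G] (N Z : Subgroup G) (hZ : Z ≤ center G)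
    (hcov : ∀ g ∉ N, ∃ p : ℕ, p.Prime ∧ p ∣ Nat.card G ∧ ∃ P : Sylow p G,
      ¬ IsMulCommutative (P : Subgroup G) ∧ g ∈ centerIn (P : Subgroup G) ⊔ Z) :
    Nat.card G < 2 * Nat.card N := by
  haveI := Fintype.ofFinite G
  haveI : Z.Normal := ⟨fun n hn g => by rw [mem_center_iff.1 (hZ hn) g, mul_inv_cancel_right]; exact hn⟩
  let S : (p : ℕ) → Sylow p G → Finset G := fun p P =>
    if IsMulCommutative (P : Subgroup G) then ∅ else
      (centerIn (P : Subgroup G) ⊔ Z : Subgroup G).carrier.toFinset
  have hsub : (Finset.univ.filter fun g => g ∉ N) ⊆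
      (Nat.card G).primeFactors.biUnion fun p =>
        (Finset.univ : Finset (Sylow p G)).biUnion (S p) := by
    intro g hg
    obtain ⟨p, hp, hpd, P, hna, hgP⟩ := hcov g (Finset.mem_filter.1 hg).2
    refine Finset.mem_biUnion.2 ⟨p, Nat.mem_primeFactors.2 ⟨hp, hpd, Nat.card_pos.ne'⟩, ?_⟩
    refine Finset.mem_biUnion.2 ⟨P, Finset.mem_univ _, ?_⟩
    simp only [S, if_neg hna, Set.mem_toFinset]
    exact hgP
  have hS : ∀ p ∈ (Nat.card G).primeFactors,
      (((Finset.univ : Finset (Sylow p G)).biUnion (S p)).card : ℚ) ≤ (Nat.card G : ℚ) * (1 / (p : ℚ) ^ 2) := by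
    intro p hp
    haveI := Fact.mk (Nat.prime_of_mem_primeFactors hp)
    have hp0 : (0 : ℚ) < p := Nat.cast_pos.2 (Fact.out : p.Prime).pos
    rw [mul_one_div, le_div_iff₀ (by positivity)]
    suffices h : ((Finset.univ : Finset (Sylow p G)).biUnion (S p)).card * p ^ 2 ≤ Nat.card G by
      exact_mod_cast h
    refine (Nat.mul_le_mul_right _ Finset.card_biUnion_le).trans ?_
    rw [Finset.sum_mul]
    have hb : ∀ P : Sylow p G, (S p P).card * p ^ 2 * Fintype.card (Sylow p G) ≤ Nat.card G := by
      intro P
      by_cases hP : IsMulCommutative (P : Subgroup G)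
      · simp [S, hP]
      simp only [S, if_neg hP]
      rw [← Set.ncard_eq_toFinset_card', ← Nat.card_coe_set_eq]
      have hle : (P : Subgroup G) ⊔ Z ≤ normalizer ((P : Subgroup G) : Set G) :=
        sup_le le_normalizer (hZ.trans ((center_le_centralizer _).trans (centralizer_le_normalizer _)))
      have h1 : Nat.card ((P : Subgroup G) ⊔ Z : Subgroup G) * Fintype.card (Sylow p G) ≤ Nat.card G := by
        rw [← Nat.card_eq_fintype_card, P.card_eq_index_normalizer]
        refine (Nat.mul_le_mul_left _ (le_refl _)).trans (le_trans ?_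
          (normalizer ((P : Subgroup G) : Set G)).card_mul_index.le)
        exact Nat.mul_le_mul_right _ (card_le_of_le hle)
      refine le_trans (Nat.mul_le_mul_right _ ?_) h1
      have hinf : centerIn (P : Subgroup G) ⊓ Z = (P : Subgroup G) ⊓ Z :=
        le_antisymm (inf_le_inf_right _ (centerIn_le _)) fun x hx =>
          ⟨mem_centerIn.2 ⟨hx.1, fun y _ => mem_center_iff.1 (hZ hx.2) y⟩, hx.2⟩
      have e1 := card_sup_mul_card_inf (centerIn (P : Subgroup G)) Z
      have e2 := card_sup_mul_card_inf (P : Subgroup G) Z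
      rw [hinf] at e1
      have e3 := sq_mul_card_centerIn_le P.2 hP
      refine Nat.le_of_mul_le_mul_right ?_ (Nat.card_pos (α := ((P : Subgroup G) ⊓ Z : Subgroup G)))
      show Nat.card (centerIn (P : Subgroup G) ⊔ Z : Subgroup G) * p ^ 2 * _ ≤ _
      rw [e2, mul_right_comm, e1, mul_right_comm, mul_comm (Nat.card _) (p ^ 2)]
      exact Nat.mul_le_mul_right _ e3
    have hn : 0 < Fintype.card (Sylow p G) := Fintype.card_pos
    refine Nat.le_of_mul_le_mul_right ?_ hn
    rw [Finset.sum_mul]
    refine (Finset.sum_le_sum fun P _ => hb P).trans ?_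
    rw [Finset.sum_const, smul_eq_mul, Finset.card_univ, mul_comm]
  have hcount : (Nat.card G : ℚ) ≤ (Nat.card N : ℚ) +
      ∑ p ∈ (Nat.card G).primeFactors,
        (((Finset.univ : Finset (Sylow p G)).biUnion (S p)).card : ℚ) := by
    have h1 := Finset.card_le_card hsub |>.trans Finset.card_biUnion_le
    have h2 := Finset.card_filter_add_card_filter_not (s := (Finset.univ : Finset G)) (fun g => g ∈ N)
    have h3 : (Finset.univ.filter fun g => g ∈ N).card = Nat.card N := by
      rw [← Fintype.card_subtype, ← Nat.card_eq_fintype_card]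
    rw [h3, Finset.card_univ, ← Nat.card_eq_fintype_card] at h2
    exact_mod_cast (show Nat.card G ≤ _ by omega)
  have hlt := sum_inv_sq_lt_half (Nat.card G).primeFactors fun p hp => Nat.prime_of_mem_primeFactors hp
  have hG : (0 : ℚ) < Nat.card G := Nat.cast_pos.2 Nat.card_pos
  have := hcount.trans (add_le_add (le_refl _) (Finset.sum_le_sum hS))
  rw [← Finset.mul_sum] at this
  have h4 : (Nat.card G : ℚ) < 2 * Nat.card N := by nlinarith
  exact_mod_cast h4

end CfsgLib.PGroup

namespace CfsgLib.PGroup

open Subgroup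

variable {G : Type*} [Group G] [Finite G]

/-- If all noncentral centralizers are maximal and none is abelian, then an element of prime power order
outside the centre commutes only with central elements of order prime to it. -/
theorem mem_center_of_coprime_commute
    (h : ∀ g : G, g ∉ center G → IsCoatom (centralizer ({g} : Set G)))
    (hna : ∀ g : G, g ∉ center G → ¬ IsMulCommutative (centralizer ({g} : Set G)))
    {p : ℕ} (hp : p.Prime) {x : G} {e : ℕ} (hx : orderOf x ∣ p ^ e) (hxZ : x ∉ center G) {a : G}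
    (ha : a ∈ centralizer ({x} : Set G)) (hap : ¬ p ∣ orderOf a) : a ∈ center G := by
  -- commuting noncentral elements of coprime order have equal centralizers
  have heq : ∀ u v : G, Commute u v → (orderOf u).Coprime (orderOf v) → u ∉ center G → v ∉ center G →
      centralizer ({u} : Set G) = centralizer ({v} : Set G) := by
    have key : ∀ u v : G, Commute u v → (orderOf u).Coprime (orderOf v) → u ∉ center G →
        centralizer ({u * v} : Set G) = centralizer ({u} : Set G) := by
      intro u v hc hco hu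
      obtain ⟨m, hm⟩ := exists_pow_eq_self_of_coprime (x := u) hco.symm
      have hle : centralizer ({u * v} : Set G) ≤ centralizer ({u} : Set G) := by
        intro g hg
        rw [mem_centralizer_singleton_iff] at hg ⊢
        have h1 : Commute g ((u * v) ^ orderOf v) := (show Commute g (u * v) from hg).pow_right _
        rw [hc.mul_pow, pow_orderOf_eq_one, mul_one] at h1
        have h2 := h1.pow_right m
        rwa [hm] at h2
      have huv : u * v ∉ center G := fun hz => hu (by
        have : centralizer ({u} : Set G) = ⊤ := eq_top_iff.2 ((centralizer_eq_top_iff_subset.2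
          (Set.singleton_subset_iff.2 hz)).ge.trans hle)
        exact Set.singleton_subset_iff.1 (centralizer_eq_top_iff_subset.1 this))
      exact hle.lt_or_eq.resolve_left fun hlt => (h u hu).1 ((h _ huv).2 _ hlt)
    intro u v hc hco hu hv
    rw [← key u v hc hco hu, hc.eq, key v u hc.symm hco.symm hv]
  refine mem_of_forall_prime_pow_mem fun q hq => ?_
  by_cases hqa : q ∣ orderOf a
  swap
  · exact ⟨orderOf a, hqa, by rw [pow_orderOf_eq_one]; exact one_mem _⟩
  refine ⟨ordCompl[q] (orderOf a), Nat.not_dvd_ordCompl hq (orderOf_pos a).ne', ?_⟩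
  set y := a ^ ordCompl[q] (orderOf a) with hy
  by_contra hyZ
  have hyq : orderOf y ∣ q ^ (orderOf a).factorization q := by
    rw [orderOf_dvd_iff_pow_eq_one, hy, ← pow_mul, mul_comm, Nat.ordProj_mul_ordCompl_eq_self,
      pow_orderOf_eq_one]
  have hxy : Commute x y := Commute.pow_right (Commute.symm (show Commute a x from mem_centralizer_singleton_iff.1 ha)) _
  have hco : (orderOf x).Coprime (orderOf y) :=
    Nat.Coprime.coprime_dvd_left hx (Nat.Coprime.coprime_dvd_right hyq
      (Nat.Coprime.pow _ _ ((Nat.coprime_primes hp hq).2 fun hpq => hap (hpq ▸ hqa))))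
  have hCxy := heq x y hxy hco hxZ hyZ
  refine hna x hxZ ⟨⟨fun c d => ?_⟩⟩
  suffices hd : (d : G) ∈ centralizer (centralizer ({x} : Set G) : Set G) from
    Subtype.ext (mem_centralizer_iff.1 hd c c.2)
  refine mem_of_forall_prime_pow_mem fun r hr => ?_
  refine ⟨ordCompl[r] (orderOf (d : G)), Nat.not_dvd_ordCompl hr (orderOf_pos _).ne', ?_⟩
  set z := (d : G) ^ ordCompl[r] (orderOf (d : G)) with hz
  have hzr : orderOf z ∣ r ^ (orderOf (d : G)).factorization r := by
    rw [orderOf_dvd_iff_pow_eq_one, hz, ← pow_mul, mul_comm, Nat.ordProj_mul_ordCompl_eq_self,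
      pow_orderOf_eq_one]
  have hzC : z ∈ centralizer ({x} : Set G) := pow_mem d.2 _
  by_cases hzZ : z ∈ center G
  · exact mem_centralizer_iff.2 fun w _ => mem_center_iff.1 hzZ w
  have hle : centralizer ({x} : Set G) ≤ centralizer ({z} : Set G) := by
    by_cases hrp : r = p
    · have hzy : z ∈ centralizer ({y} : Set G) := hCxy ▸ hzC
      rw [hCxy]
      refine (heq y z (mem_centralizer_singleton_iff.1 hzy).symm ?_ hyZ hzZ).le
      refine Nat.Coprime.coprime_dvd_left hyq (Nat.Coprime.coprime_dvd_right hzr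
        (Nat.Coprime.pow _ _ ((Nat.coprime_primes hq hr).2 fun hpq => hap ?_)))
      exact hrp ▸ hpq ▸ hqa
    · refine (heq x z (mem_centralizer_singleton_iff.1 hzC).symm ?_ hxZ hzZ).le
      exact Nat.Coprime.coprime_dvd_left hx (Nat.Coprime.coprime_dvd_right hzr
        (Nat.Coprime.pow _ _ ((Nat.coprime_primes hp hr).2 fun hpq => hrp hpq.symm)))
  exact mem_centralizer_iff.2 fun w hw => mem_centralizer_singleton_iff.1 (hle hw)

/-- All noncentral centralizers maximal implies solvable. -/
theorem isSolvable_of_centralizers_coatom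
    (h : ∀ g : G, g ∉ center G → IsCoatom (centralizer ({g} : Set G))) : Group.IsSolvable G := by
  by_contra hns
  have hna : ∀ g : G, g ∉ center G → ¬ IsMulCommutative (centralizer ({g} : Set G)) := fun g hg hab => by
    haveI := hab
    exact hns (isSolvable_of_abelian_coatom _ (h g hg))
  have hZ : center G ≠ ⊤ := fun hZ =>
    hns (Group.isSolvable_of_comm fun a b => (mem_center_iff.1 (hZ ▸ mem_top b) a))
  have hlt := card_lt_two_mul_of_cover (center G) (center G) le_rfl fun g hg => by
    obtain ⟨p, hp, hgp⟩ : ∃ p : ℕ, p.Prime ∧ ∀ k, ¬ p ∣ k → g ^ k ∉ center G := by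
      by_contra hcon
      push Not at hcon
      exact hg (mem_of_forall_prime_pow_mem hcon)
    haveI := Fact.mk hp
    obtain ⟨x, y, hc, hxy, ⟨e, hxe⟩, -, hyp, hxg⟩ := exists_split g hp
    have hxZ : x ∉ center G := fun hxZ => hgp (orderOf y) hyp (by
      rw [← hxy, hc.mul_pow, pow_orderOf_eq_one, mul_one]; exact pow_mem hxZ _)
    have hyZ : y ∈ center G := mem_center_of_coprime_commute h hna hp hxe hxZ
      (mem_centralizer_singleton_iff.2 hc.eq.symm) hyp
    have hpG : p ∣ Nat.card G := by
      refine dvd_trans ?_ (orderOf_dvd_natCard x)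
      obtain ⟨k, -, hk⟩ := (Nat.dvd_prime_pow hp).1 hxe
      rcases k with _ | k
      · have h1 : x = 1 := orderOf_eq_one_iff.1 (by simpa using hk)
        exact absurd (h1 ▸ one_mem _ : x ∈ center G) hxZ
      · exact hk ▸ dvd_pow_self p (Nat.succ_ne_zero k)
    set C := centralizer ({x} : Set G) with hC
    have hZC : center G ≤ C := center_le_centralizer _
    -- `C` modulo the centre is a `p`-group
    have hCp : IsPGroup p (C ⧸ (center G).subgroupOf C) := by
      intro w
      obtain ⟨a, rfl⟩ := QuotientGroup.mk_surjective w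
      obtain ⟨u, v, huv, huva, ⟨f, huf⟩, -, hvp, -⟩ := exists_split a hp
      refine ⟨f, ?_⟩
      have hvZ : (v : G) ∈ center G :=
        mem_center_of_coprime_commute h hna hp hxe hxZ v.2 (by rwa [orderOf_coe])
      rw [← QuotientGroup.mk_pow, QuotientGroup.eq_one_iff, mem_subgroupOf, ← huva, huv.mul_pow,
        orderOf_dvd_iff_pow_eq_one.1 huf, one_mul, coe_pow]
      exact pow_mem hvZ _
    let L : Sylow p C := Classical.arbitrary _
    obtain ⟨P, hP⟩ := (L.2.map C.subtype).exists_le_sylow
    have hCle : C ≤ (P : Subgroup G) ⊔ center G := by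
      have hW : ((L : Subgroup C) ⊔ (center G).subgroupOf C).index = 1 := by
        refine Nat.eq_one_of_dvd_coprimes (b := (L : Subgroup C).index) ?_
          (index_dvd_of_le le_sup_right) (index_dvd_of_le le_sup_left)
        obtain ⟨n, hn⟩ := hCp.exists_card_eq
        rw [← index_eq_card] at hn
        rw [hn]
        exact Nat.Coprime.pow_left _ ((hp.coprime_iff_not_dvd).2 L.not_dvd_index)
      have h1 := congrArg (Subgroup.map C.subtype) (index_eq_one.1 hW)
      rw [Subgroup.map_sup, subgroupOf_map_subtype, ← MonoidHom.range_eq_map, range_subtype,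
        inf_eq_left.2 hZC] at h1
      exact h1.ge.trans (sup_le_sup_right hP _)
    rcases hCle.lt_or_eq with hlt | heq
    · exfalso
      refine hns ?_
      have htop := (h x hxZ).2 _ hlt
      haveI : Group.IsNilpotent (G ⧸ center G) := by
        refine IsPGroup.isNilpotent (p := p) ?_
        intro w
        obtain ⟨a, rfl⟩ := QuotientGroup.mk_surjective w
        have ha : a ∈ (P : Subgroup G) ⊔ center G := htop ▸ mem_top a
        rw [mem_sup_of_normal_right] at ha
        obtain ⟨b, hb, c, hc', rfl⟩ := ha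
        obtain ⟨k, hk⟩ := P.2 ⟨b, hb⟩
        refine ⟨k, ?_⟩
        rw [QuotientGroup.mk_mul, (QuotientGroup.eq_one_iff c).2 hc', mul_one, ← QuotientGroup.mk_pow,
          show b ^ p ^ k = 1 from congrArg Subtype.val hk, QuotientGroup.mk_one]
      haveI : Group.IsNilpotent G := Group.of_quotient_center_nilpotent inferInstance
      infer_instance
    have hPC : (P : Subgroup G) ≤ C := le_sup_left.trans heq.ge
    have hxP : x ∈ (P : Subgroup G) := by
      have hz : IsPGroup p (zpowers x) := by
        obtain ⟨k, -, hk⟩ := (Nat.dvd_prime_pow hp).1 hxe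
        exact IsPGroup.of_card (by rw [Nat.card_zpowers, hk])
      have hn : x ∈ normalizer ((P : Subgroup G) : Set G) := centralizer_le_normalizer _
        (mem_centralizer_iff.2 fun w hw => mem_centralizer_singleton_iff.1 (hPC hw))
      have := hz.inf_normalizer_sylow P
      exact (this ▸ (⟨mem_zpowers x, hn⟩ : x ∈ zpowers x ⊓ normalizer ((P : Subgroup G) : Set G)) :
        x ∈ zpowers x ⊓ (P : Subgroup G)).2
    refine ⟨p, hp, hpG, P, fun hab => hna x hxZ ?_, ?_⟩
    · refine ⟨⟨fun a b => Subtype.ext ?_⟩⟩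
      have ha : (a : G) ∈ (P : Subgroup G) ⊔ center G := heq ▸ a.2
      have hb : (b : G) ∈ (P : Subgroup G) ⊔ center G := heq ▸ b.2
      rw [mem_sup_of_normal_right] at ha hb
      obtain ⟨a1, ha1, a2, ha2, ha'⟩ := ha
      obtain ⟨b1, hb1, b2, hb2, hb'⟩ := hb
      show (a : G) * b = b * a
      haveI := hab
      have h1 : Commute a1 b1 := congrArg Subtype.val (mul_comm' (⟨a1, ha1⟩ : (P : Subgroup G)) ⟨b1, hb1⟩)
      have h2 : ∀ w : G, Commute w a2 := fun w => mem_center_iff.1 ha2 w
      have h3 : ∀ w : G, Commute w b2 := fun w => mem_center_iff.1 hb2 w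
      rw [← ha', ← hb']
      exact ((h1.mul_right (h3 _)).mul_left ((h2 _).symm)).eq
    · rw [← hxy]
      refine mul_mem (mem_sup_left (mem_centerIn.2 ⟨hxP, fun w hw => ?_⟩)) (mem_sup_right hyZ)
      exact mem_centralizer_singleton_iff.1 (hPC hw)
  have hle : 2 * Nat.card (center G) ≤ Nat.card G := by
    rw [← (center G).card_mul_index, mul_comm 2]
    refine Nat.mul_le_mul_left _ ?_
    have h1 : (center G).index ≠ 1 := fun h1 => hZ (index_eq_one.1 h1)
    have h2 := (center G).index_ne_zero_of_finite
    omega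
  omega

end CfsgLib.PGroup
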