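import Mathlib
import Cfsg.Agent.Lib.PGroup.PSolvable
import Cfsg.Agent.Lib.PGroup.Basic

/-!
# Coprime orbits in linear representations
-/

set_option autoImplicit false

namespace CfsgLib.CoprimeOrbit

universe u v w

variable {k : Type u} [Field k] {V : Type v} [AddCommGroup V] [Module k V] {H : Type w} [Group H]
  (ρ : Representation k H V)

/-- The stabilizer of a vector. -/
def vstab (a : V) : Subgroup H where
  carrier := {h | ρ h a = a}
  one_mem' := by simp
  mul_mem' {g h} hg hh := by
    change ρ (g * h) a = a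
    rw [map_mul, Module.End.mul_apply, show ρ h a = a from hh, show ρ g a = a from hg]
  inv_mem' {g} hg := by
    change ρ g⁻¹ a = a
    conv_lhs => rw [← (show ρ g a = a from hg), ← Module.End.mul_apply, ← map_mul, inv_mul_cancel, map_one]
    rfl

theorem mem_vstab {a : V} {h : H} : h ∈ vstab ρ a ↔ ρ h a = a := Iff.rfl

theorem index_vstab (a : V) :
    (vstab ρ a).index = Nat.card {u : V | ∃ h : H, ρ h a = u} := by
  refine Nat.card_congr (Equiv.ofBijective
    (Quotient.lift (fun h => (⟨ρ h a, h, rfl⟩ : {u : V | ∃ h : H, ρ h a = u})) ?_) ⟨?_, ?_⟩)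
  · intro x y hxy
    have h : ρ (x⁻¹ * y) a = a := QuotientGroup.leftRel_apply.1 hxy
    refine Subtype.ext ?_
    change ρ x a = ρ y a
    conv_lhs => rw [← h, ← Module.End.mul_apply, ← map_mul, mul_inv_cancel_left]
  · intro q q'
    induction q using Quotient.inductionOn with
    | _ x =>
      induction q' using Quotient.inductionOn with
      | _ y =>
        intro h
        have h' : ρ x a = ρ y a := congrArg Subtype.val h
        refine QuotientGroup.eq.2 ?_
        change ρ (x⁻¹ * y) a = a
        rw [map_mul, Module.End.mul_apply, ← h', ← Module.End.mul_apply, ← map_mul, inv_mul_cancel, map_one]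
        rfl
  · rintro ⟨u, h, rfl⟩
    exact ⟨QuotientGroup.mk h, rfl⟩

/-- The sum of a finite orbit. -/
noncomputable def osum [Finite H] (a : V) : V :=
  ∑ u ∈ (Set.finite_range fun h : H => ρ h a).toFinset, u

theorem osum_eq_sum_quotient [Finite H] (a : V) [Fintype (H ⧸ vstab ρ a)] :
    osum ρ a = ∑ q : H ⧸ vstab ρ a, ρ q.out a := by
  classical
  symm
  refine Finset.sum_bij (fun q _ => ρ q.out a) (fun q _ => ?_) (fun q _ q' _ h => ?_) (fun u hu => ?_)
    (fun q _ => rfl)
  · rw [Set.Finite.mem_toFinset]; exact ⟨q.out, rfl⟩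
  · rw [← QuotientGroup.out_eq' q, ← QuotientGroup.out_eq' q', QuotientGroup.eq, mem_vstab, map_mul,
      Module.End.mul_apply, ← h, ← Module.End.mul_apply, ← map_mul, inv_mul_cancel, map_one]
    rfl
  · rw [Set.Finite.mem_toFinset] at hu
    obtain ⟨g, rfl⟩ := hu
    obtain ⟨n, hn⟩ := QuotientGroup.mk_out_eq_mul (vstab ρ a) g
    refine ⟨(g : H ⧸ vstab ρ a), Finset.mem_univ _, ?_⟩
    rw [hn, map_mul, Module.End.mul_apply, show ρ (n : H) a = a from n.2]

theorem osum_fixed [Finite H] (a : V) (g : H) : ρ g (osum ρ a) = osum ρ a := by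
  rw [osum, map_sum]
  refine Finset.sum_bij (fun u _ => ρ g u) (fun u hu => ?_) (fun u _ u' _ h => ?_) (fun u hu => ?_)
    (fun u _ => rfl)
  · rw [Set.Finite.mem_toFinset] at hu ⊢
    obtain ⟨x, rfl⟩ := hu
    exact ⟨g * x, by simp⟩
  · have := congrArg (ρ g⁻¹) h
    simpa [← Module.End.mul_apply, ← map_mul] using this
  · rw [Set.Finite.mem_toFinset] at hu
    obtain ⟨x, rfl⟩ := hu
    refine ⟨ρ (g⁻¹ * x) a, ?_, by simp [← Module.End.mul_apply, ← map_mul]⟩
    rw [Set.Finite.mem_toFinset]
    exact ⟨_, rfl⟩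

/-- Averaging over a section with invertible order. -/
theorem exists_average [Finite H] (N M : Subgroup H) (hN : N.Normal) (hM : M.Normal)
    (hm : (N.relIndex M : k) ≠ 0) :
    ∃ T : V →ₗ[k] V,
      (∀ x, (∀ n ∈ N, ρ n x = x) → ∀ g ∈ M, ρ g (T x) = T x) ∧
      (∀ x, (∀ n ∈ N, ρ n x = x) → ∀ g : H, T (ρ g x) = ρ g (T x)) ∧
      (∀ x, (∀ g ∈ M, ρ g x = x) → T x = x) := by
  classical
  haveI : Fintype (M ⧸ N.subgroupOf M) := Fintype.ofFinite _
  let S : V →ₗ[k] V := ∑ q : M ⧸ N.subgroupOf M, ρ ((q.out : M) : H)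
  -- the sum does not depend on the representatives
  have hrep : ∀ x, (∀ n ∈ N, ρ n x = x) → ∀ (y z : M), (y : M ⧸ N.subgroupOf M) = z →
      ρ (y : H) x = ρ (z : H) x := by
    intro x hx y z h
    have h1 : (y : H)⁻¹ * z ∈ N := Subgroup.mem_subgroupOf.1 (QuotientGroup.eq.1 h)
    conv_rhs => rw [show (z : H) = y * ((y : H)⁻¹ * z) by group, map_mul, Module.End.mul_apply, hx _ h1]
  have hcard : (Fintype.card (M ⧸ N.subgroupOf M) : k) ≠ 0 := by
    rwa [← Nat.card_eq_fintype_card]
  let T : V →ₗ[k] V := (Fintype.card (M ⧸ N.subgroupOf M) : k)⁻¹ • S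
  refine ⟨T, fun x hx g hg => ?_, fun x hx g => ?_, fun x hx => ?_⟩
  · simp only [T, S, LinearMap.smul_apply, LinearMap.sum_apply, map_smul, map_sum]
    congr 1
    haveI : (N.subgroupOf M).Normal := Subgroup.Normal.subgroupOf hN M
    refine Fintype.sum_equiv (Equiv.mulLeft (QuotientGroup.mk (⟨g, hg⟩ : M))) _ _ fun q => ?_
    rw [← Module.End.mul_apply, ← map_mul]
    refine hrep x hx (⟨g, hg⟩ * q.out) _ ?_
    rw [QuotientGroup.out_eq', Equiv.coe_mulLeft, QuotientGroup.mk_mul, QuotientGroup.out_eq']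
  · simp only [T, S, LinearMap.smul_apply, LinearMap.sum_apply, map_smul, map_sum]
    congr 1
    let c : M ⧸ N.subgroupOf M ≃ M ⧸ N.subgroupOf M := Quotient.congr
      ({ toFun := fun y => ⟨g⁻¹ * y * g, by simpa using hM.conj_mem y y.2 g⁻¹⟩
         invFun := fun y => ⟨g * y * g⁻¹, hM.conj_mem y y.2 g⟩
         left_inv := fun y => Subtype.ext (by group)
         right_inv := fun y => Subtype.ext (by group) } : M ≃ M)
      (fun y z => by
        rw [QuotientGroup.leftRel_apply, QuotientGroup.leftRel_apply, Subgroup.mem_subgroupOf,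
          Subgroup.mem_subgroupOf]
        change _ ↔ (g⁻¹ * y * g)⁻¹ * (g⁻¹ * z * g) ∈ N
        rw [show (g⁻¹ * (y : H) * g)⁻¹ * (g⁻¹ * z * g) = g⁻¹ * ((y : H)⁻¹ * z) * g by group]
        refine ⟨fun h => by simpa using hN.conj_mem _ h g⁻¹, fun h => ?_⟩
        have h' := hN.conj_mem _ h g
        rw [show g * (g⁻¹ * ((y : H)⁻¹ * z) * g) * g⁻¹ = (y : H)⁻¹ * z by group] at h'
        exact h')
    refine Fintype.sum_equiv c _ _ fun q => ?_
    induction q using QuotientGroup.induction_on with
    | _ y =>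
      rw [← Module.End.mul_apply, ← Module.End.mul_apply, ← map_mul, ← map_mul]
      have e1 : ρ (((y : M ⧸ N.subgroupOf M).out : H) * g) x = ρ ((y : H) * g) x := by
        rw [map_mul, map_mul, Module.End.mul_apply, Module.End.mul_apply]
        refine hrep _ (fun n hn => ?_) _ _ (QuotientGroup.out_eq' _)
        conv_lhs => rw [← Module.End.mul_apply, ← map_mul, show n * g = g * (g⁻¹ * n * g) by group,
          map_mul, Module.End.mul_apply, hx _ (by simpa using hN.conj_mem n hn g⁻¹)]
      rw [e1, map_mul, map_mul]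
      have e2 : ρ (((c (y : M ⧸ N.subgroupOf M)).out : M) : H) x = ρ (g⁻¹ * y * g) x :=
        hrep x hx _ ⟨g⁻¹ * y * g, by simpa using hM.conj_mem y y.2 g⁻¹⟩ (QuotientGroup.out_eq' _)
      rw [Module.End.mul_apply, Module.End.mul_apply, e2, map_mul, map_mul, Module.End.mul_apply,
        Module.End.mul_apply, ← Module.End.mul_apply (ρ g) (ρ g⁻¹), ← map_mul, mul_inv_cancel, map_one]
      rfl
  · simp only [T, S, LinearMap.smul_apply, LinearMap.sum_apply]
    rw [Finset.sum_congr rfl fun q _ => hx _ q.out.2, Finset.sum_const, Finset.card_univ,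
      ← Nat.cast_smul_eq_nsmul k, smul_smul, inv_mul_cancel₀ hcard, one_smul]

/-- In a `p`-solvable group, a fixed vector in the span of an orbit of length prime to `p` is a
multiple of the orbit sum. -/
theorem mem_span_osum [Finite H] (p : ℕ) [hp : Fact p.Prime] [CharP k p]
    (hsol : Cfsg.IsPSolvable p H) (a : V)
    (hidx : ¬ p ∣ (vstab ρ a).index) :
    (∀ v ∈ Submodule.span k (Set.range fun h : H => ρ h a), (∀ h : H, ρ h v = v) →
      v ∈ Submodule.span k {osum ρ a}) := by
  classical
  obtain ⟨n, M, h0, hl, hmono, hn, hf⟩ := hsol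
  haveI : Fintype (H ⧸ vstab ρ a) := Fintype.ofFinite _
  intro v hv hfix
  have key : ∀ i : Fin (n + 1), ∃ b : V, (∀ g ∈ M i, ρ g b = b) ∧ vstab ρ a ≤ vstab ρ b ∧
      v ∈ Submodule.span k (Set.range fun h : H => ρ h b) ∧
      ∑ q : H ⧸ vstab ρ a, ρ q.out b = osum ρ a := by
    intro i
    induction i using Fin.induction with
    | zero =>
      refine ⟨a, fun g hg => ?_, le_rfl, hv, (osum_eq_sum_quotient ρ a).symm⟩
      rw [h0, Subgroup.mem_bot] at hg
      simp [hg]
    | succ i ih =>
      obtain ⟨b, hb, hab, hvb, hsum⟩ := ih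
      haveI hnC := hn i.castSucc
      rcases hf i with ⟨m, hm⟩ | hco
      · -- a `p`-section fixes `b`
        have hle : M i.succ ≤ vstab ρ b := by
          rw [← Subgroup.relIndex_eq_one]
          have h1 : (vstab ρ b).relIndex (M i.succ) ∣ (M i.castSucc).relIndex (M i.succ) :=
            Subgroup.relIndex_dvd_of_le_left _ (fun g hg => hb g hg)
          haveI := hn i.succ
          have h2 : ¬ p ∣ (vstab ρ b).relIndex (M i.succ) := fun hd => hidx <| by
            refine hd.trans (dvd_trans ?_ (Subgroup.index_dvd_of_le hab))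
            rw [← Subgroup.relIndex_mul_index (le_sup_left : vstab ρ b ≤ vstab ρ b ⊔ M i.succ)]
            refine dvd_mul_of_dvd_left (dvd_of_eq ?_) _
            -- `[BM : B] = [M : B ⊓ M]`
            have e1 := Subgroup.relIndex_mul_relIndex (vstab ρ b ⊓ M i.succ) (vstab ρ b)
              (vstab ρ b ⊔ M i.succ) inf_le_left le_sup_left
            have e2 := Subgroup.relIndex_mul_relIndex (vstab ρ b ⊓ M i.succ) (M i.succ)
              (vstab ρ b ⊔ M i.succ) inf_le_right le_sup_right
            rw [Subgroup.inf_relIndex_left] at e1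
            rw [Subgroup.inf_relIndex_right, Subgroup.relIndex_sup_right, ← e1, mul_comm] at e2
            exact Nat.eq_of_mul_eq_mul_left (Nat.pos_of_ne_zero Subgroup.index_ne_zero_of_finite) e2
          rw [hm] at h1
          obtain ⟨j, -, hj⟩ := (Nat.dvd_prime_pow hp.out).1 h1
          rcases j with - | j
          · simpa using hj
          · exact absurd (hj ▸ dvd_pow_self p (Nat.succ_ne_zero j)) h2
        exact ⟨b, fun g hg => hle hg, hab, hvb, hsum⟩
      · have hne : ((M i.castSucc).relIndex (M i.succ) : k) ≠ 0 := by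
          rw [Ne, CharP.cast_eq_zero_iff k p]
          exact hp.out.coprime_iff_not_dvd.1 hco.symm
        obtain ⟨T, hT1, hT2, hT3⟩ := exists_average ρ (M i.castSucc) (M i.succ) hnC (hn i.succ) hne
        refine ⟨T b, fun g hg => hT1 b hb g hg, fun g hg => ?_, ?_, ?_⟩
        · change ρ g (T b) = T b
          rw [← hT2 b hb g, show ρ g b = b from hab hg]
        · have hsub : (Submodule.span k (Set.range fun h : H => ρ h b)).map T ≤
              Submodule.span k (Set.range fun h : H => ρ h (T b)) := by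
            rw [Submodule.map_span, Submodule.span_le]
            rintro _ ⟨_, ⟨g, rfl⟩, rfl⟩
            exact Submodule.subset_span ⟨g, (hT2 b hb g).symm⟩
          have := hsub (Submodule.mem_map_of_mem hvb)
          rwa [hT3 v fun g _ => hfix g] at this
        · calc ∑ q : H ⧸ vstab ρ a, ρ q.out (T b) = T (∑ q : H ⧸ vstab ρ a, ρ q.out b) := by
                rw [map_sum]; exact Finset.sum_congr rfl fun q _ => (hT2 b hb _).symm
            _ = osum ρ a := by rw [hsum, hT3 _ fun g _ => osum_fixed ρ a g]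
  obtain ⟨b, hb, -, hvb, hsum⟩ := key (Fin.last n)
  have hbfix : ∀ g, ρ g b = b := fun g => hb g (hl ▸ Subgroup.mem_top g)
  rw [Finset.sum_congr rfl fun q _ => hbfix _, Finset.sum_const, Finset.card_univ,
    ← Nat.cast_smul_eq_nsmul k, ← Nat.card_eq_fintype_card] at hsum
  have hne : ((Nat.card (H ⧸ vstab ρ a) : ℕ) : k) ≠ 0 := by
    rw [Ne, CharP.cast_eq_zero_iff k p]; exact hidx
  have hrange : (Set.range fun h : H => ρ h b) = {b} :=
    Set.eq_singleton_iff_unique_mem.2 ⟨⟨1, hbfix 1⟩, by rintro _ ⟨g, rfl⟩; exact hbfix g⟩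
  rw [hrange, Submodule.mem_span_singleton] at hvb
  obtain ⟨c, rfl⟩ := hvb
  rw [Submodule.mem_span_singleton, ← hsum]
  exact ⟨c * (Nat.card (H ⧸ vstab ρ a) : k)⁻¹, by rw [smul_smul, mul_assoc, inv_mul_cancel₀ hne, mul_one]⟩

theorem isPSolvable_subgroup [Finite H] {p : ℕ} (hp : p.Prime) (h : Cfsg.IsPSolvable p H) (B : Subgroup H) :
    Cfsg.IsPSolvable p B := by
  obtain ⟨n, M, h0, hl, hmono, hn, hf⟩ := h
  refine ⟨n, fun i => (M i).subgroupOf B, by simp [h0], by simp [hl],
    fun i j hij => fun x hx => hmono hij hx, fun i => Subgroup.Normal.subgroupOf (hn i) B, fun i => ?_⟩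
  haveI := hn i.castSucc
  have hle : M i.castSucc ≤ M i.succ := hmono (Fin.castSucc_le_succ i)
  have e : ((M i.castSucc).subgroupOf B).relIndex ((M i.succ).subgroupOf B) =
      (M i.castSucc).relIndex (M i.succ ⊓ B) := by
    rw [← Subgroup.relIndex_map_map_of_injective _ _ B.subtype_injective,
      Subgroup.subgroupOf_map_subtype, Subgroup.subgroupOf_map_subtype]
    rw [← Subgroup.inf_relIndex_right (M i.castSucc) (M i.succ ⊓ B), ← inf_assoc (M i.castSucc),
      inf_eq_left.2 hle]
  have hd : (M i.castSucc).relIndex (M i.succ ⊓ B) ∣ (M i.castSucc).relIndex (M i.succ) := by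
    haveI : ((M i.castSucc).subgroupOf (M i.succ)).Normal := Subgroup.Normal.subgroupOf (hn i.castSucc) _
    have h3 := Subgroup.relIndex_dvd_index_of_normal ((M i.castSucc).subgroupOf (M i.succ))
      ((M i.succ ⊓ B).subgroupOf (M i.succ))
    rwa [Subgroup.relIndex_subgroupOf inf_le_left] at h3
  change (∃ m : ℕ, ((M i.castSucc).subgroupOf B).relIndex ((M i.succ).subgroupOf B) = p ^ m) ∨ _
  rw [e]
  rcases hf i with ⟨m, hm⟩ | hco
  · rw [hm] at hd
    obtain ⟨j, -, hj⟩ := (Nat.dvd_prime_pow hp).1 hd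
    exact Or.inl ⟨j, hj⟩
  · exact Or.inr (hco.coprime_dvd_left hd)

end CfsgLib.CoprimeOrbit

namespace CfsgLib.CoprimeOrbit

universe u' v' w'

variable {k : Type u'} [Field k] {V : Type v'} [AddCommGroup V] [Module k V] {H : Type w'} [Group H]
  (ρ : Representation k H V)

/-- A spanning orbit with stabilizer containing a Sylow subgroup. -/
theorem spanning_orbit [Finite H] (p : ℕ) [hp : Fact p.Prime] [CharP k p]
    (hsol : Cfsg.IsPSolvable p H) (a : V) (hfix : ∃ P : Sylow p H, ∀ x ∈ (P : Subgroup H), ρ x a = a)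
    (hspan : Submodule.span k (Set.range fun h : H => ρ h a) = ⊤) :
    Module.finrank k ρ.invariants ≤ 1 ∧
      ∀ b : V, ((vstab ρ a).index).Coprime (vstab ρ b).index → ∀ h : H, ρ h b = b := by
  obtain ⟨P, hP⟩ := hfix
  have hidx : ¬ p ∣ (vstab ρ a).index := fun h =>
    P.not_dvd_index (h.trans (Subgroup.index_dvd_of_le hP))
  refine ⟨?_, fun b hcop => ?_⟩
  · have hle : ρ.invariants ≤ Submodule.span k {osum ρ a} := fun v hv =>
      mem_span_osum ρ p hsol a hidx v (by rw [hspan]; exact Submodule.mem_top) hv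
    refine (Submodule.finrank_mono hle).trans ?_
    simpa using finrank_span_le_card ({osum ρ a} : Set V)
  · let B := vstab ρ b
    let A := vstab ρ a
    let ρB : Representation k B V := ρ.comp B.subtype
    have hrel : A.relIndex B = A.index := by
      refine Nat.dvd_antisymm ?_ ?_
      · have hle : A.relIndex B ≤ A.index := by
          rw [← Subgroup.relIndex_top_right A]
          exact Subgroup.relIndex_le_of_le_right le_top
            (by rw [Subgroup.relIndex_top_right]; exact Subgroup.index_ne_zero_of_finite)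
        have h1 : A.index ∣ A.relIndex B * B.index := by
          rw [← Subgroup.inf_relIndex_right, Subgroup.relIndex_mul_index inf_le_right]
          exact Subgroup.index_dvd_of_le inf_le_left
        have h2 : A.index ∣ A.relIndex B := hcop.dvd_of_dvd_mul_right h1
        exact dvd_of_eq (le_antisymm hle (Nat.le_of_dvd (Nat.pos_of_ne_zero Subgroup.index_ne_zero_of_finite) h2))
      · have h1 : A.index ∣ A.relIndex B * B.index := by
          rw [← Subgroup.inf_relIndex_right, Subgroup.relIndex_mul_index inf_le_right]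
          exact Subgroup.index_dvd_of_le inf_le_left
        exact hcop.dvd_of_dvd_mul_right h1
    have hstab : vstab ρB a = A.subgroupOf B := rfl
    have hidxB : (vstab ρB a).index = A.index := by rw [hstab]; exact hrel
    have horb : (Set.range fun x : B => ρB x a) = Set.range fun h : H => ρ h a := by
      refine Set.eq_of_subset_of_ncard_le ?_ ?_ (Set.finite_range _)
      · rintro _ ⟨x, rfl⟩; exact ⟨x, rfl⟩
      · rw [← Nat.card_coe_set_eq, ← Nat.card_coe_set_eq]
        exact (index_vstab ρ a).symm.le.trans (hidxB.symm.le.trans (index_vstab ρB a).le)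
    have hb : b ∈ Submodule.span k {osum ρB a} :=
      mem_span_osum ρB p (isPSolvable_subgroup hp.out hsol B) a (hidxB ▸ hidx) b
        (by rw [horb, hspan]; exact Submodule.mem_top) (fun x => x.2)
    have hs : osum ρB a = osum ρ a := by
      rw [osum, osum]
      refine Finset.sum_congr ?_ fun u _ => rfl
      ext u
      rw [Set.Finite.mem_toFinset, Set.Finite.mem_toFinset]
      exact Set.ext_iff.1 horb u
    intro h
    rw [hs, Submodule.mem_span_singleton] at hb
    obtain ⟨c, rfl⟩ := hb
    rw [map_smul, osum_fixed]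

end CfsgLib.CoprimeOrbit
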