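import Mathlib.GroupTheory.GroupAction.Quotient
import Mathlib.GroupTheory.Index
import Mathlib.Data.Set.Card
import Mathlib.Algebra.Order.BigOperators.Group.Finset
import Mathlib.Tactic.Group

/-!
A finite group is not the union of the conjugates of a proper subgroup.
-/

set_option linter.style.haveILetI false

namespace CfsgLib.PGroup

open Subgroup
open scoped Classical

/-- Jordan: if every element is conjugate into `M` then `M = ⊤`. -/
theorem eq_top_of_forall_conj_mem {G : Type*} [Group G] [Finite G] (M : Subgroup G)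
    (h : ∀ g : G, ∃ c : G, c⁻¹ * g * c ∈ M) : M = ⊤ := by
  haveI := Fintype.ofFinite G
  haveI : Fintype (G ⧸ M) := Fintype.ofFinite _
  by_contra hM
  have hb := MulAction.sum_card_fixedBy_eq_card_orbits_mul_card_group (G := G) (X := G ⧸ M)
  have horb : Fintype.card (Quotient (MulAction.orbitRel G (G ⧸ M))) = 1 := by
    refine Fintype.card_eq_one_iff.2 ⟨Quotient.mk'' ((1 : G) : G ⧸ M), fun q => ?_⟩
    induction q using Quotient.inductionOn' with
    | h x =>
      refine Quotient.eq''.2 ?_
      exact MulAction.exists_smul_eq G ((1 : G) : G ⧸ M) x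
  rw [horb, one_mul] at hb
  have h1 : ∀ g : G, 1 ≤ Fintype.card (MulAction.fixedBy (G ⧸ M) g) := by
    intro g
    obtain ⟨c, hc⟩ := h g
    refine Fintype.card_pos_iff.2 ⟨⟨(c : G ⧸ M), ?_⟩⟩
    rw [MulAction.mem_fixedBy, MulAction.Quotient.smul_coe, QuotientGroup.eq, smul_eq_mul]
    rw [show (g * c)⁻¹ * c = (c⁻¹ * g * c)⁻¹ by group]
    exact inv_mem hc
  have h2 : ∑ _g : G, 1 < ∑ g : G, Fintype.card (MulAction.fixedBy (G ⧸ M) g) := by
    refine Finset.sum_lt_sum (fun g _ => h1 g) ⟨1, Finset.mem_univ _, ?_⟩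
    have e : Fintype.card (MulAction.fixedBy (G ⧸ M) (1 : G)) = Fintype.card (G ⧸ M) :=
      Fintype.card_congr (Equiv.subtypeUnivEquiv fun x => by simp)
    rw [e, ← Nat.card_eq_fintype_card, ← index_eq_card]
    exact lt_of_le_of_ne (Nat.one_le_iff_ne_zero.2 M.index_ne_zero_of_finite) (fun h1 => hM (index_eq_one.1 h1.symm))
  rw [hb, Finset.sum_const, Finset.card_univ, smul_eq_mul, mul_one] at h2
  exact lt_irrefl _ h2

end CfsgLib.PGroup
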