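import Cfsg.Agent.Lib.Coprime.PGroupFrattini
import Mathlib.GroupTheory.Nilpotent

/-!
# The lower central series of a `p`-group of maximal class
-/

set_option autoImplicit false
set_option linter.style.haveILetI false
set_option linter.unusedSectionVars false

open Subgroup

namespace CfsgLib.PGroup

universe u

variable {G : Type u} [Group G] [Finite G] {p : ℕ} [hpf : Fact p.Prime]

theorem lowerCentralSeries_succ_lt (hG : IsPGroup p G) {i : ℕ}
    (hi : (⊤ : Subgroup G).lowerCentralSeries i ≠ ⊥) :
    (⊤ : Subgroup G).lowerCentralSeries (i + 1) < (⊤ : Subgroup G).lowerCentralSeries i := by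
  haveI := hG.isNilpotent
  refine lt_of_le_of_ne (Subgroup.lowerCentralSeries_antitone _ (Nat.le_succ i)) fun h => hi ?_
  obtain ⟨k, hk⟩ := Subgroup.nilpotent_iff_lowerCentralSeries.1 (inferInstance : Group.IsNilpotent G)
  have hst : ∀ j, (⊤ : Subgroup G).lowerCentralSeries (i + j) = (⊤ : Subgroup G).lowerCentralSeries i := by
    intro j
    induction j with
    | zero => rfl
    | succ j ih =>
      rw [show i + (j + 1) = (i + j) + 1 by omega, Subgroup.lowerCentralSeries_succ, ih,
        ← Subgroup.lowerCentralSeries_succ, h]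
  rw [← hst k]
  exact le_bot_iff.1 (hk ▸ Subgroup.lowerCentralSeries_antitone _ (Nat.le_add_left k i))

theorem mul_index_le_of_lt (hG : IsPGroup p G) {H K : Subgroup G} (h : H < K) :
    p * K.index ≤ H.index := by
  rw [← relIndex_mul_index h.le]
  refine Nat.mul_le_mul_right _ ?_
  obtain ⟨k, hk⟩ := (hG.to_subgroup K).index (H.subgroupOf K)
  have hk' : H.relIndex K = p ^ k := hk
  rcases Nat.eq_zero_or_pos k with rfl | hk0
  · exact absurd (relIndex_eq_one.1 (hk'.trans (pow_zero p))) h.not_ge
  · rw [hk']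
    exact Nat.le_self_pow hk0.ne' p

theorem isCyclic_of_cyclic_abelianization (hG : IsPGroup p G) (h : IsCyclic (G ⧸ commutator G)) :
    IsCyclic G := by
  obtain ⟨q, hq⟩ := h.exists_generator
  obtain ⟨g, rfl⟩ := QuotientGroup.mk'_surjective (commutator G) q
  refine ⟨⟨g, fun x => ?_⟩⟩
  have htop : zpowers g = ⊤ := by
    refine frattini_nongenerating (eq_top_iff.2 fun y _ => ?_)
    obtain ⟨i, hi⟩ := mem_zpowers_iff.1 (hq (QuotientGroup.mk' _ y))
    have h1 : (g ^ i)⁻¹ * y ∈ frattini G :=
      CfsgLib.Coprime.commutator_le_frattini hG ((QuotientGroup.eq).1 (by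
        rw [← map_zpow] at hi; exact hi))
    simpa using mul_mem_sup (zpow_mem (mem_zpowers g) i) h1
  exact mem_zpowers_iff.1 (htop.symm ▸ mem_top x)

theorem two_le_index_commutator (hG : IsPGroup p G) {r : ℕ} (hr : Nat.card G = p ^ r) (h2 : 2 ≤ r) :
    p ^ 2 ≤ (commutator G).index := by
  obtain ⟨k, hk⟩ := hG.index (commutator G)
  rw [hk]
  refine Nat.pow_le_pow_right hpf.out.pos (not_lt.1 fun hk2 => ?_)
  haveI : IsCyclic (G ⧸ commutator G) := by
    rcases (show k = 0 ∨ k = 1 by omega) with rfl | rfl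
    · haveI : Subsingleton (G ⧸ commutator G) :=
        (Nat.card_eq_one_iff_unique.1 (by rw [← index_eq_card, hk, pow_zero])).1
      exact isCyclic_of_subsingleton
    · exact isCyclic_of_prime_card (p := p) (by rw [← index_eq_card, hk, pow_one])
  haveI := isCyclic_of_cyclic_abelianization hG inferInstance
  have hbot : commutator G = ⊥ := by
    rw [_root_.commutator_def, commutator_eq_bot_iff_le_centralizer]
    exact fun g _ => mem_centralizer_iff.2 fun y _ => IsCyclic.commGroup.mul_comm y g
  rw [hbot, index_bot, hr] at hk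
  have := Nat.pow_right_injective hpf.out.two_le hk
  omega

theorem pow_le_index_lowerCentralSeries (hG : IsPGroup p G) {r : ℕ} (hr : Nat.card G = p ^ r)
    (h2 : 2 ≤ r) : ∀ i, 1 ≤ i → p ^ min (i + 1) r ≤ ((⊤ : Subgroup G).lowerCentralSeries i).index := by
  intro i hi
  induction i, hi using Nat.le_induction with
  | base =>
    rw [Subgroup.top_lowerCentralSeries_one, min_eq_left (by omega)]
    exact two_le_index_commutator hG hr h2
  | succ i _ ih =>
    by_cases hb : (⊤ : Subgroup G).lowerCentralSeries i = ⊥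
    · rw [show (⊤ : Subgroup G).lowerCentralSeries (i + 1) = ⊥ from le_bot_iff.1
        (hb ▸ Subgroup.lowerCentralSeries_antitone _ (Nat.le_succ i)), index_bot, hr]
      exact Nat.pow_le_pow_right hpf.out.pos (min_le_right _ _)
    · calc p ^ min (i + 1 + 1) r ≤ p ^ (min (i + 1) r + 1) :=
            Nat.pow_le_pow_right hpf.out.pos (by omega)
        _ = p * p ^ min (i + 1) r := pow_succ' _ _
        _ ≤ p * ((⊤ : Subgroup G).lowerCentralSeries i).index := Nat.mul_le_mul_left p ih
        _ ≤ _ := mul_index_le_of_lt hG (lowerCentralSeries_succ_lt hG hb)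

/-- In maximal class the terms of the lower central series have the least possible indices. -/
theorem index_lowerCentralSeries_of_maximal (hG : IsPGroup p G) {n : ℕ} (hn : Nat.card G = p ^ n)
    (h3 : 3 ≤ n) (hcl : Group.nilpotencyClass G = n - 1) :
    ∀ i, 1 ≤ i → i ≤ n - 1 → ((⊤ : Subgroup G).lowerCentralSeries i).index = p ^ (i + 1) := by
  haveI := hG.isNilpotent
  have hne : ∀ i, i < n - 1 → (⊤ : Subgroup G).lowerCentralSeries i ≠ ⊥ := fun i hi h => by
    have := Subgroup.lowerCentralSeries_eq_bot_iff_nilpotencyClass_le.1 h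
    omega
  have hup : ∀ d i, i + d = n - 1 → ((⊤ : Subgroup G).lowerCentralSeries i).index ≤ p ^ (i + 1) := by
    intro d
    induction d with
    | zero =>
      intro i hi
      exact (Nat.le_of_dvd Nat.card_pos (index_dvd_card _)).trans
        (le_of_eq (by rw [hn]; congr 1; omega))
    | succ d ih =>
      intro i hi
      have h1 := (mul_index_le_of_lt hG (lowerCentralSeries_succ_lt hG (hne i (by omega)))).trans
        (ih (i + 1) (by omega))
      rw [pow_succ'] at h1
      exact Nat.le_of_mul_le_mul_left h1 hpf.out.pos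
  intro i hi hle
  refine le_antisymm (hup (n - 1 - i) i (by omega)) ?_
  simpa [min_eq_left (show i + 1 ≤ n by omega)] using
    pow_le_index_lowerCentralSeries hG hn (by omega) i hi

/-- A normal subgroup of index `p ^ r` contains the corresponding term of the lower central series. -/
theorem lowerCentralSeries_le_of_index (hG : IsPGroup p G) {N : Subgroup G} [N.Normal] {r : ℕ}
    (h2 : 2 ≤ r) (hN : N.index = p ^ r) : (⊤ : Subgroup G).lowerCentralSeries (r - 1) ≤ N := by
  have h := pow_le_index_lowerCentralSeries (hG.to_quotient N) (r := r)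
    ((index_eq_card N).symm.trans hN) h2 (r - 1) (by omega)
  rw [show min (r - 1 + 1) r = r by omega] at h
  have hb : (⊤ : Subgroup (G ⧸ N)).lowerCentralSeries (r - 1) = ⊥ := by
    rw [← card_eq_one]
    have h1 := card_mul_index ((⊤ : Subgroup (G ⧸ N)).lowerCentralSeries (r - 1))
    rw [← index_eq_card, hN] at h1
    refine le_antisymm (Nat.le_of_mul_le_mul_right ?_ (pow_pos hpf.out.pos r)) Nat.card_pos
    rw [one_mul]
    calc _ ≤ _ := Nat.mul_le_mul_left _ h
      _ = _ := h1
  intro x hx
  rw [← QuotientGroup.eq_one_iff]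
  have h1 := mem_map_of_mem (QuotientGroup.mk' N) hx
  rw [Subgroup.map_lowerCentralSeries, ← MonoidHom.range_eq_map,
    MonoidHom.range_eq_top.2 (QuotientGroup.mk'_surjective N), hb, mem_bot] at h1
  exact h1

/-- A non-cyclic group of order `p²` has `p + 1` subgroups of order `p`. -/
theorem card_subgroups_prime_of_sq {Q : Type u} [Group Q] [Finite Q] (hQ : Nat.card Q = p ^ 2)
    (hnc : ¬ IsCyclic Q) : Nat.card {H : Subgroup Q // Nat.card H = p} = p + 1 := by
  have hpp := hpf.out
  have hord : ∀ x : Q, x ≠ 1 → orderOf x = p := fun x hx => by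
    obtain ⟨k, hk, hk'⟩ := (Nat.dvd_prime_pow hpp).1 (hQ ▸ orderOf_dvd_natCard x)
    interval_cases k
    · exact absurd (orderOf_eq_one_iff.1 (hk'.trans (pow_zero p))) hx
    · exact hk'.trans (pow_one p)
    · exact absurd (isCyclic_of_orderOf_eq_card x (hk'.trans hQ.symm)) hnc
  haveI := Fintype.ofFinite {H : Subgroup Q // Nat.card H = p}
  let e : (Σ H : {H : Subgroup Q // Nat.card H = p}, {h : H.1 // h ≠ 1}) ≃ {x : Q // x ≠ 1} :=
    Equiv.ofBijective (fun a => ⟨(a.2.1 : Q), fun h => a.2.2 (Subtype.ext h)⟩) ⟨fun a b hab => by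
      obtain ⟨⟨H, hH⟩, ⟨⟨a, haH⟩, ha⟩⟩ := a
      obtain ⟨⟨K, hK⟩, ⟨⟨b, hbK⟩, hb⟩⟩ := b
      obtain rfl : a = b := congrArg Subtype.val hab
      have ha1 : a ≠ 1 := fun h => ha (Subtype.ext h)
      obtain rfl : H = K := by
        have hc : ∀ L : Subgroup Q, Nat.card L = p → a ∈ L → zpowers a = L := fun L hL haL =>
          eq_of_le_of_card_ge (zpowers_le.2 haL) (by rw [hL, Nat.card_zpowers, hord a ha1])
        rw [← hc H hH haH, ← hc K hK hbK]
      rfl, fun x => ⟨⟨⟨zpowers x.1, by rw [Nat.card_zpowers, hord _ x.2]⟩,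
        ⟨⟨x.1, mem_zpowers _⟩, fun h => x.2 (congrArg Subtype.val h)⟩⟩, rfl⟩⟩
  have h := Nat.card_congr e
  have hne : ∀ (α : Type u) [Finite α] (a : α), Nat.card {x : α // x ≠ a} = Nat.card α - 1 :=
    fun α _ a => by
      classical
      haveI := Fintype.ofFinite α
      rw [Nat.card_eq_fintype_card, Nat.card_eq_fintype_card]
      simp
  rw [Nat.card_sigma, hne Q 1, hQ,
    Finset.sum_congr rfl (fun (H : {H : Subgroup Q // Nat.card H = p}) _ => by
      rw [hne H.1 1, H.2]), Finset.sum_const, smul_eq_mul, Finset.card_univ,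
    ← Nat.card_eq_fintype_card] at h
  refine Nat.eq_of_mul_eq_mul_right (Nat.sub_pos_of_lt hpp.one_lt) ?_
  rw [h, sq, Nat.add_mul, one_mul, Nat.mul_sub, mul_one]
  have := Nat.le_mul_self p
  have := hpp.one_le
  omega

end CfsgLib.PGroup
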