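import Mathlib
import Cfsg.Agent.Lib.PGroup.PSolvable
import Cfsg.Agent.Lib.Block.PSolvableOne
import Cfsg.Agent.Lib.Coprime.PGroupFrattini
import Cfsg.Agent.Lib.Coprime.SchurZassenhaus
import Cfsg.Agent.Lib.Coprime.Action
import Cfsg.Agent.Lib.Coprime.Fitting

/-!
# Maximal subgroups `p`-nilpotent or of prime index

A `p`-solvable group all of whose maximal subgroups are `p`-nilpotent or of prime index has a
series `A ≤ B ≤ C` of normal subgroups whose factors are a `p'`-group, a `p`-group, a `p'`-group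
and a `p`-group.
-/

set_option autoImplicit false
set_option linter.style.haveILetI false

open Subgroup
open scoped commutatorElement

namespace CfsgLib.PGroup.MaxPNilpotent

universe u

/-- The series. -/
def Series (p : ℕ) (G : Type u) [Group G] : Prop :=
  ∃ A B C : Subgroup G, A.Normal ∧ B.Normal ∧ C.Normal ∧ A ≤ B ∧ B ≤ C ∧ ¬ p ∣ Nat.card A ∧
    (∃ k : ℕ, A.relIndex B = p ^ k) ∧ ¬ p ∣ B.relIndex C ∧ ∃ k : ℕ, C.index = p ^ k

/-- The hypothesis on maximal subgroups. -/
def MaxHyp (p : ℕ) (G : Type u) [Group G] : Prop :=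
  ∀ M : Subgroup G, IsCoatom M →
    (∃ K : Subgroup ↥M, K.Normal ∧ ¬ p ∣ Nat.card K ∧ ∃ k : ℕ, K.index = p ^ k) ∨ (M.index).Prime

variable {G : Type u} [Group G] [Finite G] {p : ℕ} [hp : Fact p.Prime]

theorem maxHyp_quotient (h : MaxHyp p G) (N : Subgroup G) [N.Normal] : MaxHyp p (G ⧸ N) := by
  intro M hM
  set π := QuotientGroup.mk' N
  have hπ : Function.Surjective π := QuotientGroup.mk'_surjective N
  rcases h (M.comap π) (isCoatom_comap_of_surjective hπ hM) with ⟨K, hK, hKd, k, hk⟩ | hpr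
  · let f := π.subgroupComap M
    have hf : Function.Surjective f := π.subgroupComap_surjective_of_surjective M hπ
    refine Or.inl ⟨K.map f, hK.map f hf, fun hd => hKd (hd.trans (card_map_dvd K f)), ?_⟩
    obtain ⟨i, -, hi⟩ := (Nat.dvd_prime_pow hp.out).1 (hk ▸ index_map_dvd K hf)
    exact ⟨i, hi⟩
  · exact Or.inr (index_comap_of_surjective M hπ ▸ hpr)

theorem card_sup_of_disjoint (V H : Subgroup G) [V.Normal] (h : V ⊓ H = ⊥) :
    Nat.card (V ⊔ H : Subgroup G) = Nat.card V * Nat.card H := by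
  have h1 := card_mul_index (V.subgroupOf (H ⊔ V))
  rw [Nat.card_congr (subgroupOfEquivOfLe le_sup_right).toEquiv, ← relIndex, relIndex_sup_right,
    ← inf_relIndex_right, h, relIndex_bot_left, sup_comm] at h1
  exact h1.symm

/-- The step in which a minimal normal subgroup has a `p`-nilpotent complement. -/
theorem series_of_complement {V M : Subgroup G} [V.Normal] {j : ℕ} (hVc : Nat.card V = p ^ j)
    (hab : ∀ x ∈ V, ∀ y ∈ V, x * y = y * x) (hVM : V ⊓ M = ⊥) (htop : V ⊔ M = ⊤)
    (K : Subgroup M) [K.Normal] (hKd : ¬ p ∣ Nat.card K) {k : ℕ} (hk : K.index = p ^ k) :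
    Series p G := by
  set K' := K.map M.subtype
  have hKn : M ≤ normalizer (K' : Set G) := by
    refine le_trans ?_ (le_normalizer_map M.subtype (H := K))
    rw [normalizer_eq_top K, ← MonoidHom.range_eq_map, range_subtype]
  have hnorm : (V ⊔ K').Normal := by
    rw [← normalizer_eq_top_iff, eq_top_iff, ← htop]
    exact sup_le (le_sup_left.trans le_normalizer)
      (CfsgLib.Coprime.sup_le_normalizer (by rw [normalizer_eq_top V]; exact le_top) hKn)
  have hdis : Disjoint V K' := by
    rw [disjoint_iff, eq_bot_iff, ← hVM]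
    exact inf_le_inf_left _ (map_subtype_le _)
  have hCc : Nat.card (V ⊔ K' : Subgroup G) = Nat.card V * Nat.card K := by
    rw [card_sup_of_disjoint V K' hdis.eq_bot, card_map_of_injective M.subtype_injective]
  have hGc : Nat.card G = Nat.card V * Nat.card M := by
    rw [← card_sup_of_disjoint V M hVM, htop, card_top]
  refine ⟨⊥, V, V ⊔ K', inferInstance, inferInstance, hnorm, bot_le, le_sup_left,
    by simpa using hp.out.ne_one, ⟨j, by rw [relIndex_bot_left, hVc]⟩, ?_, k, ?_⟩
  · have h := card_mul_index (V.subgroupOf (V ⊔ K'))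
    rw [Nat.card_congr (subgroupOfEquivOfLe le_sup_left).toEquiv, hCc] at h
    rw [relIndex, Nat.eq_of_mul_eq_mul_left Nat.card_pos h]
    exact hKd
  · have h := card_mul_index (V ⊔ K')
    rw [hCc, hGc, ← K.card_mul_index, hk, mul_assoc] at h
    exact Nat.eq_of_mul_eq_mul_left Nat.card_pos (Nat.eq_of_mul_eq_mul_left Nat.card_pos h)

/-- A group of prime order normalised by a `p`-element is centralised by it. -/
theorem centralize_prime {V : Subgroup G} [V.Normal] (hV : Nat.card V = p) {x : G}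
    (hx : ∃ k, x ^ p ^ k = 1) : x ∈ centralizer (V : Set G) := by
  obtain ⟨k, hk⟩ := hx
  haveI := isCyclic_of_prime_card hV
  set f := MulAut.conjNormal (H := V) x with hf
  have h1 : orderOf f ∣ p ^ k :=
    orderOf_dvd_of_pow_eq_one (by rw [hf, ← map_pow, hk, map_one])
  have h2 : orderOf f ∣ p - 1 := by
    rw [← Nat.totient_prime hp.out, ← hV, ← IsCyclic.card_mulAut]
    exact orderOf_dvd_natCard f
  have h3 : f = 1 := orderOf_eq_one_iff.1 (Nat.eq_one_of_dvd_coprimes (Nat.Coprime.pow_left k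
    ((hp.out.coprime_iff_not_dvd).2 fun hd => by
      have h2le := hp.out.two_le
      have h4 := Nat.le_of_dvd (show 0 < p - 1 by omega) hd
      omega)) h1 h2)
  refine mem_centralizer_iff.2 fun v hv => ?_
  have h4 := congrArg Subtype.val (DFunLike.congr_fun h3 (⟨v, hv⟩ : V))
  rw [hf, MulAut.conjNormal_apply] at h4
  exact (mul_inv_eq_iff_eq_mul.1 h4).symm

/-- The case of trivial `p'`-core and trivial Frattini subgroup. -/
theorem series_of_reduced [Nontrivial G] (hsolv : Cfsg.IsPSolvable p G) (hmax : MaxHyp p G)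
    (hcore : Cfsg.pPrimeCore p G = ⊥) (hΦ : frattini G = ⊥) : Series p G := by
  set R := Cfsg.pCore p G
  haveI hRn : R.Normal := CfsgLib.Coprime.pCore_normal' p
  have hRp : IsPGroup p R := CfsgLib.Coprime.pCore_isPGroup p
  have hC := CfsgLib.Block.centralizer_pCore_le_of_isPSolvable hsolv hcore
  -- every minimal normal subgroup below `R` is complemented by a maximal subgroup
  have hmin : ∀ V : Subgroup G, V.Normal → V ≠ ⊥ → V ≤ R →
      (∀ K : Subgroup G, K.Normal → K ≤ V → K = ⊥ ∨ K = V) →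
      (∀ x ∈ V, ∀ y ∈ V, x * y = y * x) ∧
        ∃ M : Subgroup G, IsCoatom M ∧ V ⊓ M = ⊥ ∧ V ⊔ M = ⊤ := by
    intro V hVn hV1 hVR hVmin
    haveI := hVn
    haveI : Group.IsSolvable V := by
      haveI : Group.IsNilpotent V := (hRp.to_le hVR).isNilpotent
      infer_instance
    have hab := (CfsgLib.Coprime.minimal_normal_solvable hV1 hVmin).1
    refine ⟨hab, ?_⟩
    obtain ⟨M, hM, hVM⟩ : ∃ M : Subgroup G, IsCoatom M ∧ ¬ V ≤ M := by
      by_contra hno
      push Not at hno
      refine hV1 (le_bot_iff.1 (le_trans ?_ hΦ.le))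
      simp only [frattini, Order.radical, le_iInf_iff]
      exact hno
    have htop : V ⊔ M = ⊤ := hM.2 _ (lt_of_le_of_ne le_sup_right fun e => hVM (e ▸ le_sup_left))
    refine ⟨M, hM, (hVmin (V ⊓ M) ?_ inf_le_left).resolve_right (fun e => hVM (inf_eq_left.1 e)),
      htop⟩
    rw [← normalizer_eq_top_iff, eq_top_iff, ← htop]
    refine sup_le (fun v hv => centralizer_le_normalizer _ (mem_centralizer_iff.2 fun w hw =>
      hab w hw.1 v hv)) (CfsgLib.Coprime.inf_le_normalizer ?_ le_normalizer)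
    rw [normalizer_eq_top V]; exact le_top
  by_cases hall : ∀ V : Subgroup G, V.Normal → V ≠ ⊥ → V ≤ R →
      (∀ K : Subgroup G, K.Normal → K ≤ V → K = ⊥ ∨ K = V) → Nat.card V = p
  swap
  · push Not at hall
    obtain ⟨V, hVn, hV1, hVR, hVmin, hVc⟩ := hall
    haveI := hVn
    obtain ⟨hab, M, hM, hVM, htop⟩ := hmin V hVn hV1 hVR hVmin
    obtain ⟨j, hj⟩ := (hRp.to_le hVR).exists_card_eq
    have hidx : M.index = Nat.card V := by
      have h := card_sup_of_disjoint V M hVM
      rw [htop, card_top, ← M.card_mul_index, mul_comm (Nat.card V)] at h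
      exact Nat.eq_of_mul_eq_mul_left Nat.card_pos h
    rcases hmax M hM with ⟨K, hK, hKd, k, hk⟩ | hpr
    · haveI := hK
      exact series_of_complement hj hab hVM htop K hKd hk
    · exfalso
      rw [hidx, hj] at hpr
      have hj1 : j = 1 := Nat.Prime.eq_one_of_pow hpr
      exact hVc (by rw [hj, hj1, pow_one])
  -- all minimal normal subgroups below `R` have order `p`
  have hRab : ∀ x ∈ R, ∀ y ∈ R, x * y = y * x := by
    intro x hx y hy
    have h1 : (frattini R).map R.subtype = ⊥ := by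
      rw [eq_bot_iff, ← hΦ]
      simp only [frattini, Order.radical, le_iInf_iff]
      intro M hM
      by_contra hle
      haveI : ((Order.radical (Subgroup R)).map R.subtype).Normal :=
        inferInstanceAs ((frattini R).map R.subtype).Normal
      have htop : (frattini R).map R.subtype ⊔ M = ⊤ :=
        hM.2 _ (lt_of_le_of_ne le_sup_right fun e => hle (e ▸ le_sup_left))
      have h2 : M.subgroupOf R ⊔ frattini R = ⊤ := by
        rw [eq_top_iff]
        rintro ⟨r, hr⟩ -
        obtain ⟨_, ⟨f, hf, rfl⟩, m, hm, e⟩ :=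
          Subgroup.mem_sup_of_normal_left.1 (htop.symm ▸ mem_top r)
        have hmR : m ∈ R := by
          rw [show m = (f : G)⁻¹ * r by rw [← e, coe_subtype, inv_mul_cancel_left]]
          exact R.mul_mem (R.inv_mem f.2) hr
        rw [show (⟨r, hr⟩ : R) = f * ⟨m, hmR⟩ from Subtype.ext e.symm]
        exact mul_mem (mem_sup_right hf) (mem_sup_left (show (⟨m, hmR⟩ : R) ∈ M.subgroupOf R from hm))
      exact hle ((map_subtype_le _).trans (subgroupOf_eq_top.1 (frattini_nongenerating h2)))
    have h3 : (⁅(⟨x, hx⟩ : R), ⟨y, hy⟩⁆ : R) ∈ frattini R :=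
      CfsgLib.Coprime.commutator_le_frattini hRp
        (commutator_mem_commutator (mem_top _) (mem_top _))
    have h4 : R.subtype ⁅(⟨x, hx⟩ : R), ⟨y, hy⟩⁆ ∈ (⊥ : Subgroup G) := h1 ▸ mem_map_of_mem _ h3
    rw [map_commutatorElement, mem_bot, commutatorElement_eq_one_iff_mul_comm] at h4
    exact h4
  set S : Subgroup G := ⨆ V : {V : Subgroup G // V.Normal ∧ V ≠ ⊥ ∧ V ≤ R ∧
    ∀ K : Subgroup G, K.Normal → K ≤ V → K = ⊥ ∨ K = V}, V.1 with hS
  have hSR : S ≤ R := iSup_le fun V => V.2.2.2.1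
  have hleS : ∀ V : Subgroup G, V.Normal → V ≠ ⊥ → V ≤ R →
      (∀ K : Subgroup G, K.Normal → K ≤ V → K = ⊥ ∨ K = V) → V ≤ S :=
    fun V h1 h2 h3 h4 => hS ▸ le_iSup (fun V : {V : Subgroup G // V.Normal ∧ V ≠ ⊥ ∧ V ≤ R ∧
      ∀ K : Subgroup G, K.Normal → K ≤ V → K = ⊥ ∨ K = V} => V.1) ⟨V, h1, h2, h3, h4⟩
  haveI hSn : S.Normal := by
    rw [hS]
    refine ⟨fun y hy g => ?_⟩
    refine iSup_induction (C := fun y => g * y * g⁻¹ ∈ _) _ hy (fun V z hz => ?_) ?_ ?_
    · exact mem_iSup_of_mem V (V.2.1.conj_mem z hz g)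
    · simp
    · intro a b ha hb
      rw [show g * (a * b) * g⁻¹ = g * a * g⁻¹ * (g * b * g⁻¹) by group]
      exact mul_mem ha hb
  obtain ⟨M₀, hM₀, hM₀min⟩ := exists_minimal_of_wellFoundedLT
    (fun M₀ : Subgroup G => S ⊔ M₀ = ⊤) ⟨⊤, sup_top_eq S⟩
  have hRM : R ⊓ M₀ = ⊥ := by
    by_contra hne
    have hN : (R ⊓ M₀).Normal := by
      rw [← normalizer_eq_top_iff, eq_top_iff, ← hM₀]
      exact sup_le (fun s hs => centralizer_le_normalizer _ (mem_centralizer_iff.2 fun w hw =>
        hRab w hw.1 s (hSR hs))) (CfsgLib.Coprime.inf_le_normalizer (by rw [normalizer_eq_top R]; exact le_top)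
          le_normalizer)
    obtain ⟨V, hVn, hV1, hVle, hVmin⟩ := CfsgLib.Coprime.exists_minimal_normal_le hne
    haveI := hVn
    have hVR : V ≤ R := hVle.trans inf_le_left
    obtain ⟨-, M, hM, hVM, htop⟩ := hmin V hVn hV1 hVR hVmin
    have h1 : S ⊔ (M₀ ⊓ M) = ⊤ := by
      rw [eq_top_iff, ← hM₀]
      refine sup_le le_sup_left fun m hm => ?_
      obtain ⟨v, hv, n, hn, rfl⟩ := Subgroup.mem_sup_of_normal_left.1 (htop.symm ▸ mem_top m)
      refine mul_mem_sup (hleS V hVn hV1 hVR hVmin hv) ⟨?_, hn⟩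
      simpa using M₀.mul_mem (M₀.inv_mem (hVle hv).2) hm
    have h2 : M₀ ≤ M := (hM₀min h1 inf_le_left).trans inf_le_right
    exact hV1 (le_bot_iff.1 (hVM ▸ le_inf le_rfl ((hVle.trans inf_le_right).trans h2)))
  have hRS : R ≤ S := by
    intro r hr
    obtain ⟨s, hs, m, hm, rfl⟩ := Subgroup.mem_sup_of_normal_left.1 (hM₀.symm ▸ mem_top r)
    have : m ∈ R ⊓ M₀ := ⟨by simpa using R.mul_mem (R.inv_mem (hSR hs)) hr, hm⟩
    rw [hRM, mem_bot] at this
    rw [this, mul_one]; exact hs
  have hpel : ∀ x : G, (∃ k, x ^ p ^ k = 1) → x ∈ R := by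
    intro x hx
    refine hC (mem_centralizer_iff.2 fun r hr => ?_)
    have h1 : S ≤ centralizer ({x} : Set G) := iSup_le fun V => by
      haveI := V.2.1
      intro v hv
      exact mem_centralizer_singleton_iff.2
        (mem_centralizer_iff.1 (centralize_prime (hall V.1 V.2.1 V.2.2.1 V.2.2.2.1 V.2.2.2.2) hx) v hv)
    exact mem_centralizer_singleton_iff.1 (h1 (hRS hr))
  obtain ⟨j, hj⟩ := hRp.exists_card_eq
  refine ⟨⊥, R, ⊤, inferInstance, hRn, inferInstance, bot_le, le_top,
    by simpa using hp.out.ne_one, ⟨j, by rw [relIndex_bot_left, hj]⟩, ?_, 0, by simp⟩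
  rw [relIndex_top_right]
  obtain ⟨P⟩ : Nonempty (Sylow p G) := inferInstance
  have hPR : (P : Subgroup G) ≤ R := fun x hx => by
    obtain ⟨k, hk⟩ := P.isPGroup' ⟨x, hx⟩
    exact hpel x ⟨k, congrArg Subtype.val hk⟩
  exact fun hd => P.not_dvd_index (hd.trans (index_dvd_of_le hPR))

/-- The main theorem. -/
theorem series (n : ℕ) : ∀ (G : Type u) [Group G] [Finite G], Nat.card G = n →
    Cfsg.IsPSolvable p G → MaxHyp p G → Series p G := by
  induction n using Nat.strong_induction_on with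
  | _ n ih =>
  intro G _ _ hn hsolv hmax
  rcases subsingleton_or_nontrivial G with hs | hs
  · refine ⟨⊥, ⊥, ⊤, inferInstance, inferInstance, inferInstance, le_rfl, bot_le,
      by simpa using hp.out.ne_one, ⟨0, by simp⟩, ?_, 0, by simp⟩
    rw [relIndex_top_right, index_bot, Nat.card_unique]
    simpa using hp.out.ne_one
  have hquot : ∀ N : Subgroup G, N.Normal → N ≠ ⊥ → ∃ A B C : Subgroup G,
      A.Normal ∧ B.Normal ∧ C.Normal ∧ N ≤ A ∧ A ≤ B ∧ B ≤ C ∧ ¬ p ∣ N.relIndex A ∧
        (∃ k : ℕ, A.relIndex B = p ^ k) ∧ ¬ p ∣ B.relIndex C ∧ ∃ k : ℕ, C.index = p ^ k := by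
    intro N hN hN1
    haveI := hN
    have hπ := QuotientGroup.mk'_surjective N
    have hlt : Nat.card (G ⧸ N) < n := by
      rw [← hn, card_eq_card_quotient_mul_card_subgroup N]
      haveI : Nontrivial N := (nontrivial_iff_ne_bot N).2 hN1
      exact lt_mul_right Nat.card_pos Finite.one_lt_card
    obtain ⟨A, B, C, hA, hB, hC, hAB, hBC, h1, ⟨k, h2⟩, h3, l, h4⟩ := ih _ hlt (G ⧸ N) rfl
      (CfsgLib.PGroup.isPSolvable_quotient hp.out hsolv N) (maxHyp_quotient hmax N)
    set π := QuotientGroup.mk' N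
    have hker : N = (⊥ : Subgroup (G ⧸ N)).comap π := by
      rw [MonoidHom.comap_bot, QuotientGroup.ker_mk']
    have hrel : ∀ X Y : Subgroup (G ⧸ N), (X.comap π).relIndex (Y.comap π) = X.relIndex Y :=
      fun X Y => by rw [relIndex_comap, map_comap_eq_self_of_surjective hπ]
    refine ⟨A.comap π, B.comap π, C.comap π, hA.comap π, hB.comap π, hC.comap π,
      le_of_eq_of_le hker (comap_mono bot_le), comap_mono hAB, comap_mono hBC, ?_, ⟨k, ?_⟩, ?_, l, ?_⟩
    · rw [show N.relIndex (A.comap π) = ((⊥ : Subgroup (G ⧸ N)).comap π).relIndex (A.comap π) by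
        rw [← hker], hrel, relIndex_bot_left]
      exact h1
    · rw [hrel, h2]
    · rw [hrel]; exact h3
    · rw [index_comap_of_surjective _ hπ, h4]
  by_cases hcore : Cfsg.pPrimeCore p G = ⊥
  swap
  · obtain ⟨A, B, C, hA, hB, hC, hNA, hAB, hBC, h1, h2, h3, h4⟩ :=
      hquot _ (Subgroup.sSup_normal _ (fun _ h => h.1)) hcore
    refine ⟨A, B, C, hA, hB, hC, hAB, hBC, fun hd => ?_, h2, h3, h4⟩
    have h5 : Nat.card (Cfsg.pPrimeCore p G) * (Cfsg.pPrimeCore p G).relIndex A = Nat.card A := by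
      rw [← card_mul_index ((Cfsg.pPrimeCore p G).subgroupOf A), relIndex]
      exact congrArg (· * _) (Nat.card_congr (subgroupOfEquivOfLe hNA).toEquiv).symm
    rcases hp.out.dvd_mul.1 (h5 ▸ hd) with h | h
    · exact CfsgLib.Coprime.pPrimeCore_not_dvd hp.out h
    · exact h1 h
  by_cases hΦ : frattini G = ⊥
  · exact series_of_reduced hsolv hmax hcore hΦ
  obtain ⟨A, B, C, hA, hB, hC, hNA, hAB, hBC, h1, ⟨k, h2⟩, h3, h4⟩ := hquot _ inferInstance hΦ
  have hΦp : IsPGroup p (frattini G) := by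
    haveI := frattini_nilpotent (G := G)
    intro x
    obtain ⟨k, d, hd, hx⟩ := Nat.exists_eq_pow_mul_and_not_dvd (orderOf_pos x).ne' p hp.out.ne_one
    refine ⟨k, by_contra fun hne => ?_⟩
    obtain ⟨q, hq, hqd⟩ := Nat.exists_prime_and_dvd (n := d) (fun e => hne (by
      rw [← mul_one (p ^ k), ← e, ← hx, pow_orderOf_eq_one]))
    haveI := Fact.mk hq
    obtain ⟨Q⟩ : Nonempty (Sylow q (frattini G)) := inferInstance
    haveI : (Q : Subgroup (frattini G)).Normal :=
      Sylow.normal_of_normalizerCondition Group.normalizerCondition_of_isNilpotent Q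
    haveI := Q.characteristic_of_normal inferInstance
    have hle := CfsgLib.Coprime.le_pPrimeCore_of_not_dvd hp.out
      (N := (Q : Subgroup (frattini G)).map (frattini G).subtype) (by
        rw [card_map_of_injective (frattini G).subtype_injective]
        intro hpQ
        obtain ⟨i, hi⟩ := Q.isPGroup'.exists_card_eq
        have hpq : p = q := (Nat.prime_dvd_prime_iff_eq hp.out hq).1
          (hp.out.dvd_of_dvd_pow (hi ▸ hpQ))
        exact hd (hpq ▸ hqd))
    rw [hcore, le_bot_iff, map_eq_bot_iff_of_injective _ (frattini G).subtype_injective] at hle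
    refine Q.not_dvd_index ?_
    rw [hle, index_bot]
    exact (hqd.trans (hx ▸ dvd_mul_left d _)).trans (orderOf_dvd_natCard x)
  obtain ⟨i, hi⟩ := hΦp.exists_card_eq
  -- the first term collapses
  have hAΦ : A = frattini G := by
    set Φ := frattini G with hΦdef
    haveI := hA
    have hcop : (Nat.card (Φ.subgroupOf A)).Coprime (Φ.subgroupOf A).index := by
      rw [Nat.card_congr (subgroupOfEquivOfLe hNA).toEquiv, hi, ← relIndex]
      exact Nat.Coprime.pow_left i (hp.out.coprime_iff_not_dvd.2 h1)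
    obtain ⟨K, hK⟩ := exists_right_complement'_of_coprime hcop
    set K' := K.map A.subtype
    have hKA : K' ⊔ Φ = A := by
      have h := congrArg (Subgroup.map A.subtype) hK.sup_eq_top
      rw [Subgroup.map_sup, map_subgroupOf_eq_of_le hNA, ← MonoidHom.range_eq_map, range_subtype,
        sup_comm] at h
      exact h
    have hKcard : Nat.card K' = Φ.relIndex A := by
      rw [card_map_of_injective A.subtype_injective, relIndex, hK.symm.index_eq_card]
    have hNtop : normalizer (K' : Set G) = ⊤ := by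
      refine frattini_nongenerating ?_
      rw [eq_top_iff]
      intro g _
      obtain ⟨x, hx, hxK⟩ := CfsgLib.Coprime.sz_conj_in (A := K') (B := CfsgLib.Coprime.conjBy g K')
        (N := Φ) (by rw [normalizer_eq_top Φ]; exact le_top)
        (by rw [hi, hKcard]; exact Nat.Coprime.pow_left i (hp.out.coprime_iff_not_dvd.2 h1))
        (by
          rw [hKA]
          rintro y hy
          rw [CfsgLib.Coprime.mem_conjBy] at hy
          have := hA.conj_mem _ (map_subtype_le K hy) g
          simpa [mul_assoc] using this)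
        (CfsgLib.Coprime.card_conjBy _ _)
        (Or.inr (by haveI := hΦp.isNilpotent; infer_instance))
      rw [CfsgLib.Coprime.conjBy_conjBy, CfsgLib.Coprime.conjBy_eq_self_iff] at hxK
      rw [show g = x⁻¹ * (x * g) by group]
      exact mul_mem (mem_sup_right (inv_mem hx)) (mem_sup_left hxK)
    haveI : K'.Normal := normalizer_eq_top_iff.1 hNtop
    have hle := CfsgLib.Coprime.le_pPrimeCore_of_not_dvd hp.out (N := K') (hKcard ▸ h1)
    rw [hcore, le_bot_iff] at hle
    rw [← hKA, hle, bot_sup_eq]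
  refine ⟨⊥, B, C, inferInstance, hB, hC, bot_le, hBC, by simpa using hp.out.ne_one, ?_, h3, h4⟩
  refine ⟨i + k, ?_⟩
  have h5 := card_mul_index (A.subgroupOf B)
  rw [Nat.card_congr (subgroupOfEquivOfLe hAB).toEquiv, ← relIndex, h2, hAΦ, hi, ← pow_add] at h5
  rw [relIndex_bot_left, h5]

omit hp in
/-- Solvable groups are `p`-solvable. -/
theorem isPSolvable_of_solvable (hp : p.Prime) (n : ℕ) : ∀ (G : Type u) [Group G] [Finite G],
    Nat.card G = n → Group.IsSolvable G → Cfsg.IsPSolvable p G := by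
  induction n using Nat.strong_induction_on with
  | _ n ih =>
  intro G _ _ hn hsolv
  haveI := hsolv
  rcases subsingleton_or_nontrivial G with hs | hs
  · exact ⟨0, fun _ => ⊥, rfl, Subsingleton.elim _ _, monotone_const, fun _ => inferInstance,
      fun i => i.elim0⟩
  obtain ⟨N, hN, hN1, -, hmin⟩ := CfsgLib.Coprime.exists_minimal_normal_le
    (N := (⊤ : Subgroup G)) top_ne_bot
  haveI := hN
  obtain ⟨-, q, hq, hqN⟩ := CfsgLib.Coprime.minimal_normal_solvable hN1 hmin
  haveI := Fact.mk hq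
  obtain ⟨c, hc⟩ := (IsPGroup.iff_card (p := q) (G := N)).1 fun a =>
    ⟨1, Subtype.ext (by rw [pow_one]; exact hqN a a.2)⟩
  have hlt : Nat.card (G ⧸ N) < n := by
    rw [← hn, card_eq_card_quotient_mul_card_subgroup N]
    haveI : Nontrivial N := (nontrivial_iff_ne_bot N).2 hN1
    exact lt_mul_right Nat.card_pos Finite.one_lt_card
  obtain ⟨k, H, h0, hl, hm, hHn, hf⟩ := ih _ hlt (G ⧸ N) rfl inferInstance
  set π := QuotientGroup.mk' N
  have hπ := QuotientGroup.mk'_surjective N
  refine ⟨k + 1, Fin.cons ⊥ fun i => (H i).comap π, rfl, ?_, ?_, ?_, ?_⟩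
  · rw [← Fin.succ_last, Fin.cons_succ, hl, comap_top]
  · refine Fin.monotone_iff_le_succ.2 fun i => ?_
    induction i using Fin.cases with
    | zero => exact bot_le
    | succ i =>
      rw [← Fin.succ_castSucc, Fin.cons_succ, Fin.cons_succ]
      exact comap_mono (hm (Fin.castSucc_le_succ i))
  · intro i
    induction i using Fin.cases with
    | zero => rw [Fin.cons_zero]; infer_instance
    | succ i => rw [Fin.cons_succ]; exact (hHn i).comap π
  · intro i
    induction i using Fin.cases with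
    | zero =>
      rw [Fin.castSucc_zero, Fin.cons_zero, Fin.cons_succ, h0, MonoidHom.comap_bot,
        QuotientGroup.ker_mk', relIndex_bot_left, hc]
      rcases eq_or_ne q p with rfl | hne
      · exact Or.inl ⟨c, rfl⟩
      · exact Or.inr (Nat.Coprime.pow_left c ((Nat.coprime_primes hq hp).2 hne))
    | succ i =>
      rw [← Fin.succ_castSucc, Fin.cons_succ, Fin.cons_succ, relIndex_comap,
        map_comap_eq_self_of_surjective hπ]
      exact hf i

end CfsgLib.PGroup.MaxPNilpotent
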