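import Cfsg.Agent.Lib.Coprime.Action

/-!
# Commutator containment forces centralizing
-/

set_option autoImplicit false

open Subgroup
open scoped commutatorElement

namespace CfsgLib.CommContain

variable {G : Type*} [Group G] {p : ℕ}

theorem le_normalizer_commutator {X A B : Subgroup G} (hA : X ≤ normalizer (A : Set G))
    (hB : X ≤ normalizer (B : Set G)) : X ≤ normalizer ((⁅A, B⁆ : Subgroup G) : Set G) := by
  intro x hx
  rw [mem_normalizer_iff_map_conj_eq, map_commutator, mem_normalizer_iff_map_conj_eq.1 (hA hx),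
    mem_normalizer_iff_map_conj_eq.1 (hB hx)]

/-- If `[A, B] = 1` and `[P, B] ≤ [P, A]` then `[P, B] = 1`. -/
theorem commutator_eq_bot [Finite G] [Fact p.Prime] {P A B : Subgroup G} (hP : IsPGroup p P)
    (hA : IsPGroup p A) (hB : ¬ p ∣ Nat.card B) (hnA : A ≤ normalizer (P : Set G))
    (hnB : B ≤ normalizer (P : Set G)) (hAB : ⁅A, B⁆ = ⊥) (hcomm : ⁅P, B⁆ ≤ ⁅P, A⁆) :
    ⁅P, B⁆ = ⊥ := by
  have hcop : (Nat.card B).Coprime (Nat.card P) := by
    obtain ⟨k, hk⟩ := hP.exists_card_eq
    rw [hk]
    exact (((Fact.out : p.Prime).coprime_iff_not_dvd.2 hB).symm).pow_right k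
  haveI := hP.isNilpotent
  have hBB := CfsgLib.Coprime.commutator_commutator_eq hnB hcop (Or.inr inferInstance)
  set U := P ⊔ A with hU
  have hUp : IsPGroup p U := hP.to_sup_of_normal_left' hA hnA
  haveI := hUp.isNilpotent
  set M := ⁅P, B⁆ with hM
  have hMP : M ≤ P := by
    rw [hM, commutator_comm]; exact le_normalizer_iff_commutator_le_right.1 hnB
  have hAnB : A ≤ normalizer (B : Set G) :=
    (commutator_eq_bot_iff_le_centralizer.1 hAB).trans (centralizer_le_normalizer _)
  have hPnM : P ≤ normalizer (M : Set G) := normalizer_commutator_ge_left P B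
  have hAnM : A ≤ normalizer (M : Set G) := le_normalizer_commutator hnA hAnB
  have hBnM : B ≤ normalizer (M : Set G) := by
    rw [hM, commutator_comm]; exact normalizer_commutator_ge_left B P
  by_contra hne
  -- `[M, U]` is a proper subgroup of `M`, normalized by `P ⊔ A ⊔ B`
  have hMU : M ≤ U := hMP.trans le_sup_left
  have hUnM : U ≤ normalizer (M : Set G) := sup_le hPnM hAnM
  set X := ⁅M, U⁆ with hX
  have hXM : X ≤ M := by
    rw [hX, commutator_comm]; exact le_normalizer_iff_commutator_le_right.1 hUnM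
  have hBnU : B ≤ normalizer (U : Set G) := by
    intro b hb
    rw [mem_normalizer_iff_map_conj_eq, Subgroup.map_sup, mem_normalizer_iff_map_conj_eq.1 (hnB hb)]
    congr 1
    exact mem_normalizer_iff_map_conj_eq.1
      ((commutator_eq_bot_iff_le_centralizer.1 ((commutator_comm B A).trans hAB)).trans
        (centralizer_le_normalizer _) hb)
  have hXn : U ⊔ B ≤ normalizer (X : Set G) :=
    sup_le (le_normalizer_commutator hUnM le_normalizer) (le_normalizer_commutator hBnM hBnU)
  set W := U ⊔ B with hW
  haveI hXN : (X.subgroupOf W).Normal :=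
    (normal_subgroupOf_iff_le_normalizer (hXM.trans (hMU.trans le_sup_left))).2 hXn
  -- three subgroup lemma modulo `X`
  have key : M ≤ X := by
    let f := QuotientGroup.mk' (X.subgroupOf W)
    let t : Subgroup G → Subgroup (W ⧸ X.subgroupOf W) := fun Y => (Y.subgroupOf W).map f
    have tle : ∀ Y : Subgroup G, Y ≤ W → (t Y = ⊥ ↔ Y ≤ X) := by
      intro Y hY
      rw [Subgroup.map_eq_bot_iff, QuotientGroup.ker_mk']
      exact ⟨fun h y hy => h (show (⟨y, hY hy⟩ : W) ∈ Y.subgroupOf W from hy),
        fun h => comap_mono h⟩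
    have tcomm : ∀ Y Z : Subgroup G, Y ≤ W → Z ≤ W → t ⁅Y, Z⁆ = ⁅t Y, t Z⁆ := by
      intro Y Z hY hZ
      simp only [t]
      rw [← map_commutator]
      congr 1
      apply map_injective W.subtype_injective
      rw [map_subgroupOf_eq_of_le
        ((commutator_mono hY hZ).trans (commutator_le_self W)), map_commutator,
        map_subgroupOf_eq_of_le hY, map_subgroupOf_eq_of_le hZ]
    have hPW : P ≤ W := le_sup_left.trans le_sup_left
    have hAW : A ≤ W := le_sup_right.trans le_sup_left
    have hBW : B ≤ W := le_sup_right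
    have hMW : M ≤ W := hMP.trans hPW
    have h1 : ⁅⁅t A, t B⁆, t P⁆ = ⊥ := by
      rw [← tcomm A B hAW hBW, hAB]
      simp [t]
    have h2 : ⁅⁅t B, t P⁆, t A⁆ = ⊥ := by
      rw [← tcomm B P hBW hPW, commutator_comm B P, ← hM, ← tcomm M A hMW hAW,
        tle _ ((commutator_mono hMW hAW).trans (commutator_le_self W))]
      exact commutator_mono le_rfl le_sup_right
    have h3 := commutator_commutator_eq_bot_of_rotate h1 h2
    rw [← tcomm P A hPW hAW, ← tcomm _ B ((commutator_mono hPW hAW).trans (commutator_le_self W)) hBW,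
      tle _ ((commutator_mono ((commutator_mono hPW hAW).trans (commutator_le_self W)) hBW).trans
        (commutator_le_self W))] at h3
    calc M = ⁅M, B⁆ := hBB.symm
      _ ≤ ⁅⁅P, A⁆, B⁆ := commutator_mono hcomm le_rfl
      _ ≤ X := h3
  -- but `[M, U] < M`
  have hfix : M ≤ ⊥ := by
    have hn : ∀ n, M ≤ U.lowerCentralSeries n := by
      intro n
      induction n with
      | zero => exact hMU
      | succ n ih => exact key.trans (commutator_mono ih le_rfl)
    obtain ⟨n, hn'⟩ := (Subgroup.isNilpotent_iff_lowerCentralSeries (S := U)).1 inferInstance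
    exact (hn n).trans hn'.le
  exact hne (le_bot_iff.1 hfix)

end CfsgLib.CommContain
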