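import Mathlib.GroupTheory.FiniteAbelian.Duality
import Mathlib.RingTheory.RootsOfUnity.AlgebraicallyClosed
import Mathlib.FieldTheory.IsAlgClosed.AlgebraicClosure
import Mathlib.GroupTheory.GroupAction.Quotient
import Mathlib.Algebra.Module.Hom
import Mathlib.LinearAlgebra.Dual.Lemmas
import Mathlib.LinearAlgebra.Basis.VectorSpace
import Mathlib.Algebra.CharP.Lemmas
import Mathlib.Algebra.CharP.Algebra
import Mathlib.Data.ZMod.Basic

/-!
Weights of an abelian operator group on the dual of an elementary abelian group.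
-/

set_option autoImplicit false
set_option linter.style.haveILetI false
set_option linter.unusedSectionVars false

namespace CfsgLib.PGroup

open scoped IsMulCommutative

universe u

section Weights

variable {N : Type u} [Group N] {V : Type u} [CommGroup V] {k : Type*} [Field k]
  (c : N →* MulAut V)

/-- The contragredient action on additive functions. -/
def dAct (n : N) : (Additive V →+ k) →ₗ[k] (Additive V →+ k) where
  toFun f := f.comp (MonoidHom.toAdditive ((c n⁻¹ : V ≃* V).toMonoidHom))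
  map_add' _ _ := rfl
  map_smul' _ _ := rfl

theorem dAct_apply (n : N) (f : Additive V →+ k) (v : V) :
    dAct c n f (Additive.ofMul v) = f (Additive.ofMul (c n⁻¹ v)) := rfl

theorem addHom_ext {f g : Additive V →+ k} (h : ∀ v : V, f (Additive.ofMul v) = g (Additive.ofMul v)) :
    f = g := AddMonoidHom.ext fun v => h v.toMul

theorem dAct_one (f : Additive V →+ k) : dAct c 1 f = f :=
  addHom_ext fun v => by rw [dAct_apply, inv_one, map_one]; rfl

theorem dAct_mul (m n : N) (f : Additive V →+ k) : dAct c (m * n) f = dAct c m (dAct c n f) :=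
  addHom_ext fun v => by rw [dAct_apply, dAct_apply, dAct_apply, mul_inv_rev, map_mul]; rfl

theorem dAct_injective (n : N) : Function.Injective (dAct c (k := k) n) := fun f g h => by
  rw [← dAct_one c f, ← dAct_one c g, ← inv_mul_cancel n, dAct_mul, dAct_mul, h]

theorem dAct_ne_zero (n : N) {f : Additive V →+ k} (hf : f ≠ 0) : dAct c n f ≠ 0 := fun h =>
  hf (dAct_injective c n (h.trans (map_zero _).symm))

/-- An additive function fixed by a finite family summing to fixed points vanishes there. -/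
theorem sum_dAct_apply {ι : Type*} [Fintype ι] (w : ι → N) (f : Additive V →+ k) (v : V) :
    (∑ i, dAct c (w i) f) (Additive.ofMul v) = f (Additive.ofMul (∏ i, c (w i)⁻¹ v)) := by
  rw [AddMonoidHom.finsetSum_apply, ofMul_prod, map_sum]
  rfl

variable (Z : Subgroup N)

/-- The weight space of `μ`. -/
def IsWeightVec (μ : Z →* kˣ) (f : Additive V →+ k) : Prop :=
  ∀ z : Z, dAct c (z : N) f = (μ z : k) • f

/-- `μ` occurs as a weight. -/
def IsWeight (μ : Z →* kˣ) : Prop := ∃ f : Additive V →+ k, f ≠ 0 ∧ IsWeightVec c Z μ f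

/-- The weight transported by `n`. -/
def twist {n : N} (hn : n ∈ Subgroup.normalizer (Z : Set N)) (μ : Z →* kˣ) : Z →* kˣ where
  toFun z := μ ⟨n⁻¹ * z * n, (Subgroup.mem_normalizer_iff''.1 hn _).1 z.2⟩
  map_one' := by
    rw [show (⟨n⁻¹ * ((1 : Z) : N) * n, _⟩ : Z) = 1 from Subtype.ext (by simp), map_one]
  map_mul' a b := by
    rw [← map_mul]
    exact congrArg μ (Subtype.ext (by simp [mul_assoc]))

variable {Z} {c}

theorem twist_apply {n : N} (hn : n ∈ Subgroup.normalizer (Z : Set N)) (μ : Z →* kˣ) (z : Z) :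
    twist Z hn μ z = μ ⟨n⁻¹ * z * n, (Subgroup.mem_normalizer_iff''.1 hn _).1 z.2⟩ := rfl

theorem twist_twist {m n : N} (hm : m ∈ Subgroup.normalizer (Z : Set N))
    (hn : n ∈ Subgroup.normalizer (Z : Set N)) (μ : Z →* kˣ) :
    twist Z hm (twist Z hn μ) = twist Z (mul_mem hm hn) μ := by
  refine MonoidHom.ext fun z => ?_
  rw [twist_apply, twist_apply, twist_apply]
  exact congrArg μ (Subtype.ext (by simp [mul_assoc]))

theorem twist_congr {m n : N} (h : m = n) (hm : m ∈ Subgroup.normalizer (Z : Set N))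
    (hn : n ∈ Subgroup.normalizer (Z : Set N)) (μ : Z →* kˣ) : twist Z hm μ = twist Z hn μ := by
  subst h; rfl

theorem twist_of_commute {n : N} (hn : n ∈ Subgroup.normalizer (Z : Set N))
    (h : ∀ z : Z, Commute n (z : N)) (μ : Z →* kˣ) : twist Z hn μ = μ := by
  refine MonoidHom.ext fun z => ?_
  rw [twist_apply]
  exact congrArg μ (Subtype.ext (show n⁻¹ * (z : N) * n = z by rw [mul_assoc, ← (h z).eq, inv_mul_cancel_left]))

theorem twist_one (h1 : (1 : N) ∈ Subgroup.normalizer (Z : Set N)) (μ : Z →* kˣ) :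
    twist Z h1 μ = μ :=
  twist_of_commute h1 (fun _ => Commute.one_left _) μ

theorem twist_injective {n : N} (hn : n ∈ Subgroup.normalizer (Z : Set N)) :
    Function.Injective (twist Z hn (k := k)) := by
  intro μ ν h
  have e := congrArg (twist Z (inv_mem hn)) h
  rw [twist_twist, twist_twist, twist_congr (inv_mul_cancel n) _ (one_mem _),
    twist_congr (inv_mul_cancel n) _ (one_mem _), twist_one, twist_one] at e
  exact e

theorem IsWeightVec.dAct {μ : Z →* kˣ} {f : Additive V →+ k} (h : IsWeightVec c Z μ f) {n : N}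
    (hn : n ∈ Subgroup.normalizer (Z : Set N)) :
    IsWeightVec c Z (twist Z hn μ) (PGroup.dAct c n f) := by
  intro z
  rw [twist_apply, ← dAct_mul, show (z : N) * n = n * (n⁻¹ * z * n) by group, dAct_mul]
  exact (congrArg (PGroup.dAct c n) (h ⟨_, _⟩)).trans (map_smul _ _ _)

theorem IsWeight.twist {μ : Z →* kˣ} (h : IsWeight c Z μ) {n : N}
    (hn : n ∈ Subgroup.normalizer (Z : Set N)) : IsWeight c Z (PGroup.twist Z hn μ) := by
  obtain ⟨f, hf, hμ⟩ := h
  exact ⟨PGroup.dAct c n f, dAct_ne_zero c n hf, hμ.dAct hn⟩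

variable [Finite Z] [IsMulCommutative Z]

/-- The (unnormalised) projection to a weight space. -/
noncomputable def wProj (c : N →* MulAut V) [Fintype Z] (μ : Z →* kˣ) :
    (Additive V →+ k) →ₗ[k] (Additive V →+ k) :=
  ∑ z : Z, ((μ z)⁻¹ : kˣ).val • dAct c (z : N)

theorem wProj_apply [Fintype Z] (μ : Z →* kˣ) (f : Additive V →+ k) :
    wProj c μ f = ∑ z : Z, ((μ z)⁻¹ : kˣ).val • dAct c (z : N) f := by
  simp [wProj, LinearMap.sum_apply]

theorem isWeightVec_wProj [Fintype Z] (μ : Z →* kˣ) (f : Additive V →+ k) :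
    IsWeightVec c Z μ (wProj c μ f) := by
  intro y
  rw [wProj_apply, map_sum, Finset.smul_sum]
  refine Fintype.sum_equiv (Equiv.mulLeft y) _ _ fun z => ?_
  rw [map_smul, ← dAct_mul, smul_smul, Equiv.coe_mulLeft, Subgroup.coe_mul, map_mul, mul_inv_rev,
    ← Units.val_mul]
  congr 1
  rw [mul_comm (μ z)⁻¹ (μ y)⁻¹, mul_inv_cancel_left]

theorem sum_units_eq_zero [Fintype Z] (θ : Z →* kˣ) (h : θ ≠ 1) : ∑ z : Z, (θ z : k) = 0 := by
  obtain ⟨y, hy⟩ : ∃ y, θ y ≠ 1 := by
    by_contra hc
    push Not at hc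
    exact h (MonoidHom.ext fun z => by rw [hc z, MonoidHom.one_apply])
  have e : (θ y : k) * ∑ z : Z, (θ z : k) = ∑ z : Z, (θ z : k) := by
    rw [Finset.mul_sum]
    exact Fintype.sum_equiv (Equiv.mulLeft y) _ _ fun z => by simp [map_mul]
  have hne : (θ y : k) ≠ 1 := fun hh => hy (Units.ext hh)
  by_contra hsum
  exact hne (mul_right_cancel₀ hsum (e.trans (one_mul _).symm))

theorem wProj_of_weightVec [Fintype Z] (μ ν : Z →* kˣ) [Decidable (μ = ν)] {f : Additive V →+ k}
    (h : IsWeightVec c Z ν f) :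
    wProj c μ f = if μ = ν then (Fintype.card Z : k) • f else 0 := by
  rw [wProj_apply]
  simp only [h _, smul_smul, ← Units.val_mul, ← Finset.sum_smul]
  split
  · next e => subst e; simp
  · next e =>
    have := sum_units_eq_zero (ν * μ⁻¹) (fun h1 => e (mul_inv_eq_one.1 h1).symm)
    have e2 : ∑ z : Z, (((μ z)⁻¹ * ν z : kˣ) : k) = 0 := by
      rw [← this]
      exact Finset.sum_congr rfl fun z _ => by rw [MonoidHom.mul_apply, MonoidHom.inv_apply, mul_comm]
    rw [e2, zero_smul]

/-- Weight vectors with distinct weights summing to zero vanish. -/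
theorem weightVec_sum_eq_zero [Fintype Z] (hZ : (Fintype.card Z : k) ≠ 0) {ι : Type*} [Fintype ι]
    (μ : ι → (Z →* kˣ)) (hμ : Function.Injective μ) (f : ι → (Additive V →+ k))
    (hf : ∀ i, IsWeightVec c Z (μ i) (f i)) (hsum : ∑ i, f i = 0) (i : ι) : f i = 0 := by
  classical
  have e := congrArg (wProj c (μ i)) hsum
  rw [map_sum, map_zero, Finset.sum_eq_single i (fun j _ hj => by
      rw [wProj_of_weightVec _ _ (hf j), if_neg fun h => hj (hμ h).symm])
    (fun h => absurd (Finset.mem_univ i) h), wProj_of_weightVec _ _ (hf i), if_pos rfl,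
    smul_eq_zero] at e
  exact e.resolve_left hZ

/-- Weight vectors span. -/
theorem eq_zero_of_forall_wProj [Fintype Z] [HasEnoughRootsOfUnity k (Monoid.exponent Z)]
    (hZ : (Fintype.card Z : k) ≠ 0) {f : Additive V →+ k} (h : ∀ μ : Z →* kˣ, wProj c μ f = 0) :
    f = 0 := by
  classical
  obtain ⟨e⟩ := CommGroup.monoidHom_mulEquiv_of_hasEnoughRootsOfUnity Z k
  haveI : Finite (Z →* kˣ) := Finite.of_equiv _ e.symm.toEquiv
  haveI := Fintype.ofFinite (Z →* kˣ)
  have hcard : (Fintype.card (Z →* kˣ) : k) ≠ 0 := by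
    rwa [Fintype.card_congr e.toEquiv]
  have e1 : (∑ μ : Z →* kˣ, wProj c μ f) = (Fintype.card (Z →* kˣ) : k) • f := by
    simp only [wProj_apply]
    rw [Finset.sum_comm, Finset.sum_eq_single (1 : Z)]
    · simp [dAct_one, ← Nat.cast_smul_eq_nsmul k]
    · intro z _ hz
      rw [← Finset.sum_smul]
      obtain ⟨φ, hφ⟩ := CommGroup.exists_apply_ne_one_of_hasEnoughRootsOfUnity Z k hz
      have hsum : ∑ μ : Z →* kˣ, (((μ z)⁻¹ : kˣ) : k) = 0 := by
        have e2 : ((φ z : kˣ) : k)⁻¹ * ∑ μ : Z →* kˣ, (((μ z)⁻¹ : kˣ) : k) =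
            ∑ μ : Z →* kˣ, (((μ z)⁻¹ : kˣ) : k) := by
          rw [Finset.mul_sum]
          refine Fintype.sum_equiv (Equiv.mulLeft φ) _ _ fun μ => ?_
          rw [Equiv.coe_mulLeft, MonoidHom.mul_apply, mul_inv_rev, Units.val_mul, Units.val_inv_eq_inv_val (φ z),
            mul_comm]
        by_contra hne
        refine hφ (Units.ext (inv_eq_one.1 (mul_right_cancel₀ hne (e2.trans (one_mul _).symm))))
      rw [hsum, zero_smul]
    · intro h1; exact absurd (Finset.mem_univ _) h1
  simp only [h, Finset.sum_const_zero] at e1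
  exact (smul_eq_zero.1 e1.symm).resolve_left hcard

end Weights

/-- Additive functions into a field of characteristic `l` separate an elementary abelian `l`-group. -/
theorem exists_addHom_ne_zero {V : Type u} [CommGroup V] {l : ℕ} [Fact l.Prime] (hV : ∀ v : V, v ^ l = 1)
    (k : Type*) [Field k] [Algebra (ZMod l) k] {v : V} (hv : v ≠ 1) :
    ∃ f : Additive V →+ k, f (Additive.ofMul v) ≠ 0 := by
  haveI hM : Module (ZMod l) (Additive V) := AddCommGroup.zmodModule fun x : Additive V => by
    show Additive.ofMul (x.toMul ^ l) = 0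
    rw [hV]; rfl
  have hne : Additive.ofMul v ≠ 0 := fun h => hv (by simpa using h)
  obtain ⟨g, hg⟩ : ∃ g : Additive V →ₗ[ZMod l] ZMod l, g (Additive.ofMul v) ≠ 0 :=
    Module.Projective.exists_dual_ne_zero (ZMod l) hne
  refine ⟨(algebraMap (ZMod l) k).toAddMonoidHom.comp g.toAddMonoidHom, ?_⟩
  show algebraMap (ZMod l) k (g (Additive.ofMul v)) ≠ 0
  exact fun h => hg ((algebraMap (ZMod l) k).injective (h.trans (map_zero _).symm))

end CfsgLib.PGroup
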