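import Mathlib.LinearAlgebra.Eigenspace.Triangularizable
import Mathlib.FieldTheory.IsAlgClosed.Basic
import Mathlib.RingTheory.RootsOfUnity.Basic
import Mathlib.Algebra.Group.Subgroup.Basic
import Cfsg.Agent.Lib.PGroup.FpfWeights

/-!
Common eigenvectors of a subgroup whose image in a linear representation is abelian.
-/

set_option autoImplicit false
set_option linter.style.haveILetI false
set_option linter.unusedSectionVars false

namespace CfsgLib.PGroup

universe u v w

variable {H : Type u} [Group H] {k : Type v} [Field k] {W : Type w} [AddCommGroup W] [Module k W]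
  (ρ : H →* Module.End k W)

theorem rep_inv_apply (h : H) (x : W) : ρ h⁻¹ (ρ h x) = x := by
  rw [← Module.End.mul_apply, ← map_mul, inv_mul_cancel, map_one, Module.End.one_apply]

theorem rep_apply_inv (h : H) (x : W) : ρ h (ρ h⁻¹ x) = x := by
  rw [← Module.End.mul_apply, ← map_mul, mul_inv_cancel, map_one, Module.End.one_apply]

theorem rep_mul_apply (g h : H) (x : W) : ρ (g * h) x = ρ g (ρ h x) := by
  rw [map_mul, Module.End.mul_apply]

theorem rep_injective (h : H) : Function.Injective (ρ h) := fun x y e => by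
  rw [← rep_inv_apply ρ h x, e, rep_inv_apply]

variable (Y : Subgroup H)

/-- An eigenvector of all of `Y`. -/
def IsEigen (χ : Y →* kˣ) (x : W) : Prop := ∀ y : Y, ρ (y : H) x = (χ y : k) • x

/-- The images of `Y` commute. -/
def ImgComm : Prop := ∀ y ∈ Y, ∀ z ∈ Y, ρ (y * z) = ρ (z * y)

variable {Y}

theorem finite_hom_units [Finite Y] : Finite (Y →* kˣ) := by
  haveI := Fintype.ofFinite Y
  let n := Fintype.card Y
  haveI : NeZero n := ⟨Fintype.card_ne_zero⟩
  let f : (Y →* kˣ) → (Y → rootsOfUnity n k) := fun χ y =>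
    ⟨χ y, by rw [mem_rootsOfUnity, ← map_pow, pow_card_eq_one, map_one]⟩
  refine Finite.of_injective f fun χ ψ h => MonoidHom.ext fun y => ?_
  exact congrArg Subtype.val (congrFun h y)

theorem IsEigen.unique {χ ψ : Y →* kˣ} {x : W} (h : IsEigen ρ Y χ x) (h' : IsEigen ρ Y ψ x)
    (hx : x ≠ 0) : χ = ψ :=
  MonoidHom.ext fun y => Units.ext (smul_left_injective k hx ((h y).symm.trans (h' y)))

/-- Transport of an eigenvector by an element of the normalizer. -/
theorem IsEigen.map {χ : Y →* kˣ} {x : W} (h : IsEigen ρ Y χ x) {g : H}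
    (hg : g ∈ Subgroup.normalizer (Y : Set H)) : IsEigen ρ Y (twist Y hg χ) (ρ g x) := by
  intro y
  rw [twist_apply, ← rep_mul_apply, show (y : H) * g = g * (g⁻¹ * y * g) by group, rep_mul_apply]
  exact (congrArg (ρ g) (h ⟨_, _⟩)).trans (map_smul _ _ _)

theorem sum_char_eq_zero [Fintype Y] (θ : Y →* kˣ) (h : θ ≠ 1) : ∑ y : Y, (θ y : k) = 0 := by
  obtain ⟨z, hz⟩ : ∃ z, θ z ≠ 1 := by
    by_contra hc
    push Not at hc
    exact h (MonoidHom.ext fun y => by rw [hc y, MonoidHom.one_apply])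
  have e : (θ z : k) * ∑ y : Y, (θ y : k) = ∑ y : Y, (θ y : k) := by
    rw [Finset.mul_sum]
    exact Fintype.sum_equiv (Equiv.mulLeft z) _ _ fun y => by simp [map_mul]
  by_contra hsum
  exact hz (Units.ext (mul_right_cancel₀ hsum (e.trans (one_mul _).symm)))

variable [Fintype Y]

/-- The unnormalised projection to an eigenspace. -/
def eigProj (χ : Y →* kˣ) : Module.End k W := ∑ y : Y, ((χ y)⁻¹ : kˣ).val • ρ (y : H)

theorem eigProj_apply (χ : Y →* kˣ) (x : W) :
    eigProj ρ χ x = ∑ y : Y, ((χ y)⁻¹ : kˣ).val • ρ (y : H) x := by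
  simp [eigProj, LinearMap.sum_apply]

theorem isEigen_eigProj (χ : Y →* kˣ) (x : W) : IsEigen ρ Y χ (eigProj ρ χ x) := by
  intro z
  rw [eigProj_apply, map_sum, Finset.smul_sum]
  refine Fintype.sum_equiv (Equiv.mulLeft z) _ _ fun y => ?_
  rw [map_smul, ← rep_mul_apply, smul_smul, Equiv.coe_mulLeft, Subgroup.coe_mul, map_mul χ,
    mul_inv_rev, ← Units.val_mul]
  congr 1
  rw [mul_comm (χ y)⁻¹ (χ z)⁻¹, mul_inv_cancel_left]

theorem eigProj_self {χ : Y →* kˣ} {x : W} (h : IsEigen ρ Y χ x) :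
    eigProj ρ χ x = (Fintype.card Y : k) • x := by
  rw [eigProj_apply, Finset.sum_congr rfl (g := fun _ => x) fun y _ => by
    rw [h y, smul_smul, ← Units.val_mul, inv_mul_cancel, Units.val_one, one_smul]]
  rw [Finset.sum_const, Finset.card_univ, Nat.cast_smul_eq_nsmul]

theorem eigProj_ne {χ ψ : Y →* kˣ} {x : W} (h : IsEigen ρ Y ψ x) (hne : χ ≠ ψ) :
    eigProj ρ χ x = 0 := by
  rw [eigProj_apply]
  simp only [h _, smul_smul, ← Finset.sum_smul, ← Units.val_mul]
  have h0 := sum_char_eq_zero (ψ * χ⁻¹) (fun h1 => hne (mul_inv_eq_one.1 h1).symm)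
  rw [show (∑ y : Y, (((χ y)⁻¹ * ψ y : kˣ) : k)) = 0 from ?_, zero_smul]
  rw [← h0]
  exact Finset.sum_congr rfl fun y _ => by rw [MonoidHom.mul_apply, MonoidHom.inv_apply, mul_comm]

theorem eigProj_comm (χ : Y →* kˣ) (D : Module.End k W) (hD : ∀ y ∈ Y, ∀ x, D (ρ y x) = ρ y (D x))
    (x : W) : D (eigProj ρ χ x) = eigProj ρ χ (D x) := by
  rw [eigProj_apply, eigProj_apply, map_sum]
  exact Finset.sum_congr rfl fun y _ => by rw [map_smul, hD y y.2]

variable [IsAlgClosed k] [FiniteDimensional k W]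

/-- A nonzero invariant subspace contains a common eigenvector. -/
theorem exists_eigen (hY : ImgComm ρ Y) {U : Submodule k W} (hU : ∀ y ∈ Y, ∀ x ∈ U, ρ y x ∈ U)
    (h0 : U ≠ ⊥) : ∃ (χ : Y →* kˣ) (x : W), x ∈ U ∧ x ≠ 0 ∧ IsEigen ρ Y χ x := by
  classical
  suffices key : ∀ s : Finset Y, ∃ U' : Submodule k W, U' ≤ U ∧ U' ≠ ⊥ ∧
      (∀ y ∈ Y, ∀ x ∈ U', ρ y x ∈ U') ∧ ∀ y ∈ s, ∃ c : k, ∀ x ∈ U', ρ (y : H) x = c • x by
    obtain ⟨U', hle, hne, -, hs⟩ := key Finset.univ
    obtain ⟨x, hx, hx0⟩ := U'.exists_mem_ne_zero_of_ne_bot hne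
    choose c hc using fun y : Y => hs y (Finset.mem_univ y)
    have hcne : ∀ y, c y ≠ 0 := fun y e => hx0 (rep_injective ρ (y : H) (by
      rw [hc y x hx, e, zero_smul, map_zero]))
    refine ⟨MonoidHom.mk' (fun y => Units.mk0 (c y) (hcne y)) fun y z => Units.ext ?_, x, hle hx, hx0,
      fun y => hc y x hx⟩
    refine smul_left_injective k hx0 ?_
    show c (y * z) • x = (c y * c z) • x
    rw [← hc _ x hx, Subgroup.coe_mul, rep_mul_apply, hc z x hx, map_smul, hc y x hx, smul_smul,
      mul_comm]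
  intro s
  induction s using Finset.induction_on with
  | empty => exact ⟨U, le_rfl, h0, hU, fun y hy => absurd hy (Finset.notMem_empty y)⟩
  | @insert z s _ ih =>
    obtain ⟨U', hle, hne, hinv, hs⟩ := ih
    let f : Module.End k U' := (ρ (z : H)).restrict (hinv z z.2)
    haveI : Nontrivial U' := Submodule.nontrivial_iff_ne_bot.2 hne
    obtain ⟨c, hc⟩ := Module.End.exists_eigenvalue f
    obtain ⟨x, hx⟩ := hc.exists_hasEigenvector
    have hxe : ρ (z : H) (x : W) = c • (x : W) := by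
      have := congrArg Subtype.val (Module.End.mem_eigenspace_iff.1 hx.1)
      simpa [f] using this
    refine ⟨U' ⊓ Module.End.eigenspace (ρ (z : H)) c, inf_le_left.trans hle, ?_, ?_, ?_⟩
    · intro e
      have : (x : W) ∈ U' ⊓ Module.End.eigenspace (ρ (z : H)) c :=
        ⟨x.2, Module.End.mem_eigenspace_iff.2 hxe⟩
      rw [e, Submodule.mem_bot] at this
      exact hx.2 (Subtype.ext this)
    · intro y hy x hx'
      refine ⟨hinv y hy x hx'.1, Module.End.mem_eigenspace_iff.2 ?_⟩
      rw [← rep_mul_apply, hY z z.2 y hy, rep_mul_apply, Module.End.mem_eigenspace_iff.1 hx'.2,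
        map_smul]
    · intro y hy
      rcases Finset.mem_insert.1 hy with rfl | hy
      · exact ⟨c, fun x hx' => Module.End.mem_eigenspace_iff.1 hx'.2⟩
      · obtain ⟨d, hd⟩ := hs y hy
        exact ⟨d, fun x hx' => hd x hx'.1⟩

/-- An operator commuting with `Y` and killing all eigenvectors is zero. -/
theorem eq_zero_of_forall_eigen (hY : ImgComm ρ Y) (hk : (Fintype.card Y : k) ≠ 0)
    (D : Module.End k W) (hD : ∀ y ∈ Y, ∀ x, D (ρ y x) = ρ y (D x))
    (h : ∀ χ x, IsEigen ρ Y χ x → D x = 0) : D = 0 := by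
  by_contra hne
  have h0 : LinearMap.range D ≠ ⊥ := fun e => hne (LinearMap.range_eq_bot.1 e)
  obtain ⟨χ, x, ⟨v, rfl⟩, hx0, hx⟩ := exists_eigen ρ hY (U := LinearMap.range D)
    (fun y hy x ⟨v, hv⟩ => ⟨ρ y v, by rw [hD y hy, hv]⟩) h0
  have e := eigProj_self ρ hx
  rw [← eigProj_comm ρ χ D hD, h χ _ (isEigen_eigProj ρ χ v)] at e
  exact hx0 ((smul_eq_zero.1 e.symm).resolve_left hk)

/-- The eigenvectors span. -/
theorem sum_eigProj (hY : ImgComm ρ Y) (hk : (Fintype.card Y : k) ≠ 0) [Fintype (Y →* kˣ)] (x : W) :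
    ∑ χ : Y →* kˣ, eigProj ρ χ x = (Fintype.card Y : k) • x := by
  classical
  let D : Module.End k W := ∑ χ : Y →* kˣ, eigProj ρ χ - (Fintype.card Y : k) • 1
  have h : D = 0 := by
    refine eq_zero_of_forall_eigen ρ hY hk D ?_ ?_
    · intro y hy x
      simp only [D, LinearMap.sub_apply, LinearMap.sum_apply, LinearMap.smul_apply,
        Module.End.one_apply, map_sub, map_sum, map_smul]
      congr 1
      refine Finset.sum_congr rfl fun χ _ => ?_
      exact (eigProj_comm ρ χ (ρ y) (fun z hz v => by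
        rw [← rep_mul_apply, ← rep_mul_apply, hY y hy z hz]) x).symm
    · intro χ x hx
      simp only [D, LinearMap.sub_apply, LinearMap.sum_apply, LinearMap.smul_apply,
        Module.End.one_apply]
      rw [Finset.sum_eq_single χ (fun ψ _ hne => eigProj_ne ρ hx hne)
        (fun hh => absurd (Finset.mem_univ χ) hh), eigProj_self ρ hx, sub_self]
  have := LinearMap.congr_fun h x
  simpa [D, sub_eq_zero] using this

omit [IsAlgClosed k] [FiniteDimensional k W] in
/-- A prime order operator without fixed vectors fixes every eigencharacter. -/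
theorem twist_eq_self_of_noFixed (hk : (Fintype.card Y : k) ≠ 0) {q : ℕ} (hq : q.Prime) {a : H}
    (haq : a ^ q = 1) (ha : a ∈ Subgroup.normalizer (Y : Set H))
    (hfix : ∀ x, ρ a x = x → x = 0) {χ : Y →* kˣ} {x : W} (hx : IsEigen ρ Y χ x) (hx0 : x ≠ 0) :
    twist Y ha χ = χ := by
  classical
  by_contra hne
  have hpow : ∀ i : ℕ, a ^ i ∈ Subgroup.normalizer (Y : Set H) := fun i => pow_mem ha i
  have hstab : ∀ i : ℕ, i < q → twist Y (hpow i) χ = χ → i = 0 := by
    intro i hi hfi
    by_contra hi0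
    have hmul : ∀ j : ℕ, twist Y (hpow (i * j)) χ = χ := by
      intro j
      induction j with
      | zero => exact twist_of_commute _ (fun z => by rw [Nat.mul_zero, pow_zero]; exact Commute.one_left _) χ
      | succ j ih =>
        rw [twist_congr (show a ^ (i * (j + 1)) = a ^ (i * j) * a ^ i by rw [← pow_add, Nat.mul_succ]) _
          (mul_mem (hpow (i * j)) (hpow i)), ← twist_twist (hpow (i * j)) (hpow i), hfi, ih]
    obtain ⟨j, hj⟩ := Nat.exists_mul_mod_eq_one_of_coprime
      ((Nat.coprime_of_lt_prime hi0 hi hq).symm) hq.one_lt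
    refine hne ((twist_congr ?_ ha (hpow (i * j)) χ).trans (hmul j))
    conv_rhs => rw [← Nat.mod_add_div (i * j) q, hj.2, pow_add, pow_one, pow_mul, haq, one_pow, mul_one]
  set s : W := ∑ i ∈ Finset.range q, ρ (a ^ i) x with hs
  have hs0 : s = 0 := by
    refine hfix s ?_
    have e1 : ρ a s = ∑ i ∈ Finset.range q, ρ (a ^ (i + 1)) x := by
      rw [hs, map_sum]
      exact Finset.sum_congr rfl fun i _ => by rw [← rep_mul_apply, pow_succ']
    have e2 := Finset.sum_range_succ' (fun i => ρ (a ^ i) x) q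
    rw [Finset.sum_range_succ, haq, pow_zero, ← e1, ← hs, add_left_inj] at e2
    exact e2.symm
  have e := congrArg (eigProj ρ χ) hs0
  rw [hs, map_sum, map_zero, Finset.sum_eq_single 0] at e
  · rw [pow_zero, map_one, Module.End.one_apply, eigProj_self ρ hx] at e
    exact hx0 ((smul_eq_zero.1 e).resolve_left hk)
  · intro i hi hi0
    exact eigProj_ne ρ (hx.map ρ (hpow i)) fun h => hi0 (hstab i (Finset.mem_range.1 hi) h.symm)
  · intro h
    exact absurd (Finset.mem_range.2 hq.pos) h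

/-- A prime order operator without fixed vectors centralizes an abelian image of coprime order. -/
theorem rep_conj_eq_of_noFixed (hY : ImgComm ρ Y) (hk : (Fintype.card Y : k) ≠ 0) {q : ℕ}
    (hq : q.Prime) {a : H} (haq : a ^ q = 1) (ha : a ∈ Subgroup.normalizer (Y : Set H))
    (hfix : ∀ x, ρ a x = x → x = 0) {y : H} (hy : y ∈ Y) : ρ (a⁻¹ * y * a) = ρ y := by
  have hy' : a⁻¹ * y * a ∈ Y := (Subgroup.mem_normalizer_iff''.1 ha y).1 hy
  refine sub_eq_zero.1 (eq_zero_of_forall_eigen ρ hY hk _ ?_ ?_)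
  · intro z hz x
    rw [LinearMap.sub_apply, LinearMap.sub_apply, map_sub, ← rep_mul_apply, ← rep_mul_apply,
      ← rep_mul_apply, ← rep_mul_apply, hY z hz _ hy', hY z hz _ hy]
  · intro χ x hx
    by_cases hx0 : x = 0
    · rw [hx0, map_zero]
    have h := twist_eq_self_of_noFixed ρ hk hq haq ha hfix hx hx0
    have h2 := DFunLike.congr_fun h ⟨y, hy⟩
    rw [twist_apply] at h2
    rw [LinearMap.sub_apply, show ρ y x = _ from hx ⟨y, hy⟩,
      show ρ (a⁻¹ * y * a) x = _ from hx ⟨_, hy'⟩, h2, sub_self]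

/-- Restriction of a representation to an invariant subspace. -/
def subRep (U : Submodule k W) (S : Subgroup H) (hS : ∀ h ∈ S, ∀ x ∈ U, ρ h x ∈ U) :
    S →* Module.End k U where
  toFun h := (ρ (h : H)).restrict (hS h h.2)
  map_one' := by
    refine LinearMap.ext fun x => Subtype.ext ?_
    simp
  map_mul' g h := by
    refine LinearMap.ext fun x => Subtype.ext ?_
    simp [rep_mul_apply]

omit [Fintype Y] [IsAlgClosed k] [FiniteDimensional k W] in
theorem subRep_apply {U : Submodule k W} {S : Subgroup H} {hS : ∀ h ∈ S, ∀ x ∈ U, ρ h x ∈ U}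
    (h : S) (x : U) : ((subRep ρ U S hS h x : U) : W) = ρ (h : H) (x : W) := rfl

end CfsgLib.PGroup
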