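import Mathlib.GroupTheory.GroupAction.Quotient
import Mathlib.GroupTheory.Perm.Basic
import Mathlib.LinearAlgebra.Dual.Lemmas
import Mathlib.LinearAlgebra.FiniteDimensional.Basic
import Mathlib.LinearAlgebra.FreeModule.Finite.Basic
import Mathlib.LinearAlgebra.Matrix.ToLin
import Mathlib.Algebra.Order.Chebyshev
import Mathlib.RingTheory.RootsOfUnity.AlgebraicallyClosed
import Cfsg.Agent.Lib.PGroup.RepWeights

/-!
The theorem B of Hall and Higman for operators of prime order on groups of class two, by counting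
dimensions in the matrix algebra spanned by the group.
-/

set_option autoImplicit false
set_option linter.style.haveILetI false
set_option linter.unusedSectionVars false

namespace CfsgLib.PGroup

universe u v w

variable {E : Type u} [Group E] {k : Type v} [Field k] {W : Type w} [AddCommGroup W] [Module k W]
  (ρ : E →* Module.End k W)

/-- The elements acting by scalars. -/
def scalarSub : Subgroup E where
  carrier := {x | ∃ c : k, ρ x = c • 1}
  one_mem' := ⟨1, by rw [map_one, one_smul]⟩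
  mul_mem' := fun {x y} ⟨c, hc⟩ ⟨d, hd⟩ => ⟨c * d, by
    rw [map_mul, hc, hd, smul_mul_assoc, one_mul, smul_smul]⟩
  inv_mem' := fun {x} ⟨c, hc⟩ => by
    by_cases h : (1 : Module.End k W) = 0
    · exact ⟨0, by rw [zero_smul, ← mul_one (ρ x⁻¹), h, mul_zero]⟩
    refine ⟨c⁻¹, ?_⟩
    have hc0 : c ≠ 0 := fun e => h (by
      rw [← map_one ρ, ← mul_inv_cancel x, map_mul, hc, e, zero_smul, zero_mul])
    calc ρ x⁻¹ = c⁻¹ • (c • ρ x⁻¹) := by rw [inv_smul_smul₀ hc0]
      _ = c⁻¹ • (ρ x⁻¹ * (c • 1)) := by rw [mul_smul_comm, mul_one]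
      _ = c⁻¹ • 1 := by rw [← hc, ← map_mul, inv_mul_cancel, map_one]

theorem scalarSub_normal : (scalarSub ρ).Normal :=
  ⟨fun x ⟨c, hc⟩ y => ⟨c, by
    rw [map_mul, map_mul, hc, mul_smul_comm, mul_one, smul_mul_assoc, ← map_mul, mul_inv_cancel,
      map_one]⟩⟩

theorem rep_ne_zero [Nontrivial W] (x : E) : ρ x ≠ 0 := fun h => by
  obtain ⟨w, hw⟩ := exists_ne (0 : W)
  exact hw (rep_injective ρ x (by rw [h, LinearMap.zero_apply, LinearMap.zero_apply]))

theorem smul_rep_inj [Nontrivial W] {c d : k} {x : E} (h : c • ρ x = d • ρ x) : c = d :=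
  smul_left_injective k (rep_ne_zero ρ x) h

/-- No invariant subspaces. -/
def Irred : Prop := ∀ U : Submodule k W, (∀ x : E, ∀ w ∈ U, ρ x w ∈ U) → U = ⊥ ∨ U = ⊤

/-- Commutators act by scalars. -/
def ClassTwo : Prop := ∀ x y : E, x * y * x⁻¹ * y⁻¹ ∈ scalarSub ρ

/-- Schur's lemma. -/
theorem schur [IsAlgClosed k] [FiniteDimensional k W] [Nontrivial W] (hirr : Irred ρ)
    (X : Module.End k W) (h : ∀ x : E, X * ρ x = ρ x * X) : ∃ c : k, X = c • 1 := by
  obtain ⟨c, hc⟩ := Module.End.exists_eigenvalue X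
  refine ⟨c, ?_⟩
  have hinv : ∀ x : E, ∀ w ∈ Module.End.eigenspace X c, ρ x w ∈ Module.End.eigenspace X c := by
    intro x w hw
    rw [Module.End.mem_eigenspace_iff] at hw ⊢
    have := LinearMap.congr_fun (h x) w
    simp only [Module.End.mul_apply] at this
    rw [this, hw, map_smul]
  rcases hirr (Module.End.eigenspace X c) hinv with he | he
  · exact absurd he hc
  · exact LinearMap.ext fun w => Module.End.mem_eigenspace_iff.1 (he.ge Submodule.mem_top)

section Pairing

variable (hE : ClassTwo ρ)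

/-- The commutator pairing: `y x y⁻¹ = chi x y • x`. -/
noncomputable def chi (x y : E) : k := (hE y x).choose

theorem chi_spec (x y : E) : ρ (y * x * y⁻¹) = chi ρ hE x y • ρ x := by
  have h : ρ (y * x * y⁻¹ * x⁻¹) = chi ρ hE x y • 1 := (hE y x).choose_spec
  rw [show y * x * y⁻¹ = y * x * y⁻¹ * x⁻¹ * x by group, map_mul, h, smul_mul_assoc, one_mul]

variable [Nontrivial W]

theorem chi_mul_right (x y z : E) : chi ρ hE x (y * z) = chi ρ hE x y * chi ρ hE x z := by
  refine smul_rep_inj ρ (x := x) ?_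
  rw [← chi_spec, show y * z * x * (y * z)⁻¹ = y * (z * x * z⁻¹) * y⁻¹ by group, map_mul, map_mul,
    chi_spec ρ hE x z, mul_smul_comm, smul_mul_assoc, ← map_mul, ← map_mul, chi_spec, smul_smul,
    mul_comm]

theorem chi_mul_left (x x' y : E) : chi ρ hE (x * x') y = chi ρ hE x y * chi ρ hE x' y := by
  refine smul_rep_inj ρ (x := x * x') ?_
  rw [← chi_spec, show y * (x * x') * y⁻¹ = (y * x * y⁻¹) * (y * x' * y⁻¹) by group, map_mul,
    chi_spec, chi_spec, smul_mul_smul_comm, ← map_mul]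

theorem chi_ne_zero (x y : E) : chi ρ hE x y ≠ 0 := fun h => rep_ne_zero ρ (y * x * y⁻¹) (by
  rw [chi_spec ρ hE, h, zero_smul])

theorem chi_one_left (y : E) : chi ρ hE 1 y = 1 := by
  refine smul_rep_inj ρ (x := (1 : E)) ?_
  rw [← chi_spec, one_smul, mul_one, mul_inv_cancel]

theorem chi_one_right (x : E) : chi ρ hE x 1 = 1 := by
  refine smul_rep_inj ρ (x := x) ?_
  rw [← chi_spec, one_smul, one_mul, inv_one, mul_one]

theorem chi_eq_one_iff (x y : E) : chi ρ hE x y = 1 ↔ ρ (y * x) = ρ (x * y) := by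
  have e : ρ (y * x) = chi ρ hE x y • ρ (x * y) := by
    rw [show y * x = (y * x * y⁻¹) * y by group, map_mul, chi_spec ρ hE, smul_mul_assoc, ← map_mul]
  exact ⟨fun h => by rw [e, h, one_smul], fun h => smul_rep_inj ρ (by rw [← e, h, one_smul])⟩

theorem chi_of_mem_left {x : E} (hx : x ∈ scalarSub ρ) (y : E) : chi ρ hE x y = 1 := by
  obtain ⟨c, hc⟩ := hx
  rw [chi_eq_one_iff, map_mul, map_mul, hc, mul_smul_comm, smul_mul_assoc, one_mul, mul_one]

theorem chi_of_mem_right (x : E) {y : E} (hy : y ∈ scalarSub ρ) : chi ρ hE x y = 1 := by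
  obtain ⟨c, hc⟩ := hy
  rw [chi_eq_one_iff, map_mul, map_mul, hc, mul_smul_comm, smul_mul_assoc, one_mul, mul_one]

theorem chi_symm (x y : E) : chi ρ hE x y * chi ρ hE y x = 1 := by
  have h : ∀ a b : E, ρ (b * a) = chi ρ hE a b • ρ (a * b) := fun a b => by
    rw [show b * a = (b * a * b⁻¹) * b by group, map_mul, chi_spec ρ hE, smul_mul_assoc, ← map_mul]
  refine smul_rep_inj ρ (x := y * x) ?_
  rw [one_smul, ← smul_smul, ← h y x, ← h x y]

end Pairing

section Irreducible

variable [Finite E] [IsAlgClosed k] [FiniteDimensional k W] [Nontrivial W]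
  (hirr : Irred ρ) (hE : ClassTwo ρ)

/-- The cosets of the scalar subgroup. -/
abbrev ScalarQuot : Type u := E ⧸ scalarSub ρ

theorem exists_chi_ne_one {x : E} (hx : x ∉ scalarSub ρ) (hirr : Irred ρ) :
    ∃ y, chi ρ hE x y ≠ 1 := by
  by_contra hc
  push Not at hc
  exact hx (schur ρ hirr (ρ x) fun y => by
    rw [← map_mul, ← map_mul, (chi_eq_one_iff ρ hE x y).1 (hc y)])

theorem out_mk_eq (y : E) : ∃ d ∈ scalarSub ρ, (QuotientGroup.mk y : ScalarQuot ρ).out = y * d := by
  obtain ⟨⟨d, hd⟩, h⟩ := QuotientGroup.mk_out_eq_mul (scalarSub ρ) y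
  exact ⟨d, hd, h⟩

theorem sum_chi_eq_zero [Fintype (ScalarQuot ρ)] (hirr : Irred ρ) {x : E} (hx : x ∉ scalarSub ρ) :
    ∑ i : ScalarQuot ρ, chi ρ hE x i.out = 0 := by
  haveI := scalarSub_normal ρ
  obtain ⟨y, hy⟩ := exists_chi_ne_one ρ hE hx hirr
  have e : chi ρ hE x y * ∑ i : ScalarQuot ρ, chi ρ hE x i.out = ∑ i : ScalarQuot ρ, chi ρ hE x i.out := by
    rw [Finset.mul_sum]
    refine Fintype.sum_equiv (Equiv.mulLeft (QuotientGroup.mk y)) _ _ fun i => ?_
    obtain ⟨d, hd, hout⟩ := out_mk_eq ρ (y * i.out)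
    simp only [Equiv.coe_mulLeft]
    rw [show (QuotientGroup.mk y : ScalarQuot ρ) * i = QuotientGroup.mk (y * i.out) by
      rw [QuotientGroup.mk_mul, QuotientGroup.out_eq'], hout, chi_mul_right,
      chi_of_mem_right ρ hE x hd, mul_one, chi_mul_right]
  by_contra hne
  exact hy (mul_right_cancel₀ hne (e.trans (one_mul _).symm))

theorem mem_scalarSub_iff_mk_eq_one [(scalarSub ρ).Normal] (x : E) :
    x ∈ scalarSub ρ ↔ (QuotientGroup.mk x : ScalarQuot ρ) = 1 :=
  (QuotientGroup.eq_one_iff x).symm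

/-- Operators in distinct cosets are independent. -/
theorem rep_indep [Fintype (ScalarQuot ρ)] (hirr : Irred ρ) (hE : ClassTwo ρ)
    (hm : (Fintype.card (ScalarQuot ρ) : k) ≠ 0) (g : ScalarQuot ρ → E)
    (hg : Function.Injective fun i => (QuotientGroup.mk (g i) : ScalarQuot ρ))
    (a : ScalarQuot ρ → k) (h : ∑ i, a i • ρ (g i) = 0) (j : ScalarQuot ρ) : a j = 0 := by
  classical
  haveI := scalarSub_normal ρ
  have hconj : ∀ y i, ρ y * ρ (g i) * ρ y⁻¹ = chi ρ hE (g i) y • ρ (g i) := fun y i => by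
    rw [← map_mul, ← map_mul, chi_spec]
  have h2 : ∑ y : ScalarQuot ρ, chi ρ hE (g j)⁻¹ y.out •
      (ρ y.out * (∑ i, a i • ρ (g i)) * ρ y.out⁻¹) = 0 := by
    simp [h]
  simp only [Finset.mul_sum, Finset.sum_mul, mul_smul_comm, smul_mul_assoc, hconj, Finset.smul_sum,
    smul_smul] at h2
  rw [Finset.sum_comm, Finset.sum_eq_single j] at h2
  · have e : ∀ y : E, chi ρ hE (g j)⁻¹ y * (a j * chi ρ hE (g j) y) = a j := fun y => by
      rw [mul_left_comm, ← chi_mul_left, inv_mul_cancel, chi_one_left, mul_one]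
    simp only [e, ← Finset.sum_smul, Finset.sum_const, Finset.card_univ, nsmul_eq_mul] at h2
    exact (mul_eq_zero.1 ((smul_eq_zero.1 h2).resolve_right (rep_ne_zero ρ _))).resolve_left hm
  · intro i _ hij
    have e : ∀ y : E, chi ρ hE (g j)⁻¹ y * (a i * chi ρ hE (g i) y) =
        a i * chi ρ hE ((g j)⁻¹ * g i) y := fun y => by
      rw [chi_mul_left]; ring
    simp only [e, ← Finset.sum_smul, ← Finset.mul_sum]
    rw [sum_chi_eq_zero ρ hE hirr (fun hmem => hij (hg ?_).symm), mul_zero, zero_smul]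
    exact QuotientGroup.eq.2 hmem
  · exact fun h' => absurd (Finset.mem_univ j) h'

/-- The operators of a transversal span all endomorphisms. -/
theorem rep_span [Fintype (ScalarQuot ρ)] (hirr : Irred ρ) (hE : ClassTwo ρ)
    (hm : (Fintype.card (ScalarQuot ρ) : k) ≠ 0) :
    Submodule.span k (Set.range fun i : ScalarQuot ρ => ρ i.out) = ⊤ := by
  classical
  haveI := scalarSub_normal ρ
  rw [eq_top_iff]
  intro X _
  let Φ : Module.End k W → Module.End k W := fun Y => ∑ i : ScalarQuot ρ, ρ i.out * Y * ρ i.out⁻¹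
  have hcoset : ∀ (Y : Module.End k W) (y d : E), d ∈ scalarSub ρ →
      ρ (y * d) * Y * ρ (y * d)⁻¹ = ρ y * Y * ρ y⁻¹ := by
    intro Y y d hd
    obtain ⟨c, hc⟩ := hd
    calc ρ (y * d) * Y * ρ (y * d)⁻¹ = ρ y * (ρ d * Y * ρ d⁻¹) * ρ y⁻¹ := by
          rw [mul_inv_rev, map_mul, map_mul]; simp [mul_assoc]
      _ = ρ y * (Y * (ρ d * ρ d⁻¹)) * ρ y⁻¹ := by
          rw [hc]; simp [mul_assoc]
      _ = ρ y * Y * ρ y⁻¹ := by rw [← map_mul ρ d, mul_inv_cancel, map_one, mul_one]
  have hΦ : ∀ Y y, Φ Y * ρ y = ρ y * Φ Y := by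
    intro Y y
    have e : ρ y * Φ Y * ρ y⁻¹ = Φ Y := by
      simp only [Φ, Finset.mul_sum, Finset.sum_mul]
      refine Fintype.sum_equiv (Equiv.mulLeft (QuotientGroup.mk y)) _ _ fun i => ?_
      obtain ⟨d, hd, hout⟩ := out_mk_eq ρ (y * i.out)
      simp only [Equiv.coe_mulLeft]
      rw [show (QuotientGroup.mk y : ScalarQuot ρ) * i = QuotientGroup.mk (y * i.out) by
        rw [QuotientGroup.mk_mul, QuotientGroup.out_eq'], hout, hcoset Y _ d hd, mul_inv_rev, map_mul,
        map_mul]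
      simp [mul_assoc]
    conv_lhs => rw [← e]
    rw [mul_assoc, ← map_mul, inv_mul_cancel, map_one, mul_one]
  choose c hc using fun j : ScalarQuot ρ => schur ρ hirr (Φ (X * ρ j.out⁻¹)) (hΦ _)
  have key : ∑ j : ScalarQuot ρ, c j • ρ j.out = (Fintype.card (ScalarQuot ρ) : k) • X := by
    have e1 : ∀ j i : ScalarQuot ρ, ρ i.out * (X * ρ j.out⁻¹) * ρ i.out⁻¹ * ρ j.out =
        chi ρ hE i.out⁻¹ j.out⁻¹ • (ρ i.out * X * ρ i.out⁻¹) := by
      intro j i
      rw [show ρ i.out * (X * ρ j.out⁻¹) * ρ i.out⁻¹ * ρ j.out =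
        ρ i.out * X * (ρ j.out⁻¹ * ρ i.out⁻¹ * ρ j.out) by simp [mul_assoc], ← map_mul, ← map_mul]
      conv_lhs => rw [show j.out⁻¹ * i.out⁻¹ * j.out = j.out⁻¹ * i.out⁻¹ * (j.out⁻¹)⁻¹ by rw [inv_inv],
        chi_spec ρ hE, mul_smul_comm]
    have e2 : ∑ j : ScalarQuot ρ, c j • ρ j.out =
        ∑ i : ScalarQuot ρ, (∑ j : ScalarQuot ρ, chi ρ hE i.out⁻¹ j.out⁻¹) • (ρ i.out * X * ρ i.out⁻¹) := by
      simp only [Finset.sum_smul]
      rw [Finset.sum_comm]
      refine Finset.sum_congr rfl fun j _ => ?_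
      rw [← one_mul (ρ j.out), ← smul_mul_assoc, ← hc j, Finset.sum_mul]
      exact Finset.sum_congr rfl fun i _ => e1 j i
    have e3 : ∀ i : ScalarQuot ρ, ∑ j : ScalarQuot ρ, chi ρ hE i.out⁻¹ j.out⁻¹ =
        ∑ j : ScalarQuot ρ, chi ρ hE i.out j.out := by
      refine fun i => Finset.sum_congr rfl fun j _ => ?_
      have h1 := chi_mul_left ρ hE i.out i.out⁻¹ j.out⁻¹
      have h2 := chi_mul_right ρ hE i.out j.out j.out⁻¹
      rw [mul_inv_cancel, chi_one_left] at h1
      rw [mul_inv_cancel, chi_one_right] at h2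
      exact mul_right_cancel₀ (chi_ne_zero ρ hE i.out j.out⁻¹)
        (((mul_comm _ _).trans h1.symm).trans h2)
    rw [e2, Finset.sum_eq_single (1 : ScalarQuot ρ)]
    · rw [e3, Finset.sum_congr rfl fun j _ =>
        chi_of_mem_left ρ hE ((mem_scalarSub_iff_mk_eq_one ρ _).2 (QuotientGroup.out_eq' 1)) j.out]
      have h1 := hcoset X 1 (Quotient.out (1 : ScalarQuot ρ))
        ((mem_scalarSub_iff_mk_eq_one ρ _).2 (QuotientGroup.out_eq' 1))
      rw [one_mul, map_one, one_mul, inv_one, map_one, mul_one] at h1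
      rw [h1, Finset.sum_const, Finset.card_univ, nsmul_one]
    · intro i _ hi
      rw [e3, sum_chi_eq_zero ρ hE hirr (fun hmem => hi ?_), zero_smul]
      rw [← QuotientGroup.out_eq' i]
      exact (mem_scalarSub_iff_mk_eq_one ρ _).1 hmem
    · exact fun h' => absurd (Finset.mem_univ _) h'
  rw [← inv_smul_smul₀ hm X, ← key, Finset.smul_sum]
  exact Submodule.sum_mem _ fun j _ =>
    Submodule.smul_mem _ _ (Submodule.smul_mem _ _ (Submodule.subset_span ⟨j, rfl⟩))

/-- The index of the scalars is the square of the dimension. -/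
theorem card_scalarQuot (hirr : Irred ρ) (hE : ClassTwo ρ)
    (hm : (Nat.card (ScalarQuot ρ) : k) ≠ 0) :
    Nat.card (ScalarQuot ρ) = Module.finrank k W * Module.finrank k W := by
  classical
  haveI := Fintype.ofFinite (ScalarQuot ρ)
  haveI := scalarSub_normal ρ
  rw [Nat.card_eq_fintype_card] at hm ⊢
  have hli : LinearIndependent k fun i : ScalarQuot ρ => ρ i.out := by
    rw [Fintype.linearIndependent_iff]
    exact fun a h => rep_indep ρ hirr hE hm (fun i => i.out)
      (fun i j h => by simpa [QuotientGroup.out_eq'] using h) a h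
  have hb := Module.finrank_eq_card_basis (Module.Basis.mk hli (rep_span ρ hirr hE hm).ge)
  rw [← hb, Module.finrank_linearMap]

/-- An automorphism fixing the scalars is realised by an intertwining operator. -/
theorem exists_intertwiner (hirr : Irred ρ) (hE : ClassTwo ρ)
    (hm : (Nat.card (ScalarQuot ρ) : k) ≠ 0) (σ : E ≃* E)
    (hσ : ∀ x (c : k), ρ x = c • 1 → ρ (σ x) = c • 1) :
    ∃ b : W ≃ₗ[k] W, ∀ x w, b (ρ x w) = ρ (σ x) (b w) := by
  classical
  haveI := Fintype.ofFinite (ScalarQuot ρ)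
  haveI := scalarSub_normal ρ
  rw [Nat.card_eq_fintype_card] at hm
  let Ψ : Module.End k W → Module.End k W := fun X =>
    ∑ i : ScalarQuot ρ, ρ (σ i.out) * X * ρ i.out⁻¹
  have hΨ : ∀ X z, Ψ X * ρ z = ρ (σ z) * Ψ X := by
    intro X z
    have e : ρ (σ z) * Ψ X * ρ z⁻¹ = Ψ X := by
      simp only [Ψ, Finset.mul_sum, Finset.sum_mul]
      refine Fintype.sum_equiv (Equiv.mulLeft (QuotientGroup.mk z)) _ _ fun i => ?_
      obtain ⟨d, hd, hout⟩ := out_mk_eq ρ (z * i.out)
      obtain ⟨c, hc⟩ := hd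
      simp only [Equiv.coe_mulLeft]
      rw [show (QuotientGroup.mk z : ScalarQuot ρ) * i = QuotientGroup.mk (z * i.out) by
        rw [QuotientGroup.mk_mul, QuotientGroup.out_eq'], hout]
      have e1 : ρ (σ (z * i.out * d)) = c • ρ (σ (z * i.out)) := by
        rw [map_mul σ, map_mul, hσ d c hc, mul_smul_comm, mul_one]
      have e2 : c • ρ (z * i.out * d)⁻¹ = ρ (z * i.out)⁻¹ := by
        rw [← one_mul (ρ (z * i.out * d)⁻¹), ← smul_mul_assoc, ← hc, ← map_mul]
        congr 1
        group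
      rw [e1, smul_mul_assoc, smul_mul_assoc, ← mul_smul_comm, e2, map_mul σ, map_mul, mul_inv_rev,
        map_mul]
      simp [mul_assoc]
    conv_lhs => rw [← e]
    rw [mul_assoc, ← map_mul, inv_mul_cancel, map_one, mul_one]
  obtain ⟨X, hX⟩ : ∃ X, Ψ X ≠ 0 := by
    by_contra hc
    push Not at hc
    obtain ⟨w, hw⟩ := exists_ne (0 : W)
    obtain ⟨f, hf⟩ := Module.Projective.exists_dual_ne_zero k
      (show ρ (Quotient.out (1 : ScalarQuot ρ))⁻¹ w ≠ 0 from fun e =>
        hw (rep_injective ρ _ (e.trans (map_zero _).symm)))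
    have hg : Function.Injective fun i : ScalarQuot ρ => (QuotientGroup.mk (σ i.out) : ScalarQuot ρ) := by
      intro i j hij
      rw [← QuotientGroup.out_eq' i, ← QuotientGroup.out_eq' j, QuotientGroup.eq]
      by_contra hnot
      have hmem : σ (i.out⁻¹ * j.out) ∈ scalarSub ρ := by
        rw [map_mul, map_inv]; exact QuotientGroup.eq.1 hij
      -- `σ` permutes the scalar subgroup
      have hsurj : ∀ y ∈ scalarSub ρ, ∃ x ∈ scalarSub ρ, σ x = y := by
        intro y hy
        let f : scalarSub ρ → scalarSub ρ := fun x => ⟨σ x, by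
          obtain ⟨c, hc⟩ := x.2
          exact ⟨c, hσ _ c hc⟩⟩
        have hfi : Function.Injective f := fun a b h => Subtype.ext (σ.injective (congrArg Subtype.val h))
        obtain ⟨x, hx⟩ := (Finite.injective_iff_surjective.1 hfi) ⟨y, hy⟩
        exact ⟨x, x.2, congrArg Subtype.val hx⟩
      obtain ⟨x, hx, hxe⟩ := hsurj _ hmem
      exact hnot (σ.injective hxe ▸ hx)
    have hzero : ∑ i : ScalarQuot ρ, f (ρ i.out⁻¹ w) • ρ (σ i.out) = 0 := by
      refine LinearMap.ext fun v => ?_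
      have h0 := LinearMap.congr_fun (hc (f.smulRight v)) w
      simpa [Ψ, LinearMap.sum_apply, Module.End.mul_apply] using h0
    exact hf (rep_indep ρ hirr hE hm _ hg _ hzero 1)
  have hker : LinearMap.ker (Ψ X) = ⊥ := by
    refine (hirr _ fun x w hw => ?_).resolve_right fun h => hX (LinearMap.ker_eq_top.1 h)
    rw [LinearMap.mem_ker] at hw ⊢
    have := LinearMap.congr_fun (hΨ X x) w
    simp only [Module.End.mul_apply] at this
    rw [this, hw, map_zero]
  refine ⟨LinearEquiv.ofInjectiveEndo (Ψ X) (LinearMap.ker_eq_bot.1 hker), fun x w => ?_⟩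
  have := LinearMap.congr_fun (hΨ X x) w
  simpa [Module.End.mul_apply] using this

end Irreducible

/-- A minimal invariant subspace. -/
theorem exists_irred_sub [FiniteDimensional k W] [Nontrivial W] :
    ∃ U : Submodule k W, U ≠ ⊥ ∧ (∀ x : E, ∀ w ∈ U, ρ x w ∈ U) ∧
      ∀ V : Submodule k W, V ≤ U → (∀ x : E, ∀ w ∈ V, ρ x w ∈ V) → V = ⊥ ∨ V = U := by
  classical
  have h : ∃ n, ∃ U : Submodule k W, Module.finrank k U = n ∧ U ≠ ⊥ ∧ ∀ x : E, ∀ w ∈ U, ρ x w ∈ U :=
    ⟨_, ⊤, rfl, top_ne_bot, fun _ _ _ => Submodule.mem_top⟩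
  obtain ⟨U, hU, hne, hinv⟩ := Nat.find_spec h
  refine ⟨U, hne, hinv, fun V hV hVinv => ?_⟩
  by_cases hV0 : V = ⊥
  · exact Or.inl hV0
  exact Or.inr (Submodule.eq_of_le_of_finrank_le hV (hU ▸ Nat.find_min' h ⟨V, rfl, hV0, hVinv⟩))

/-- The representation on an invariant subspace. -/
def restrictRep (U : Submodule k W) (hU : ∀ x : E, ∀ w ∈ U, ρ x w ∈ U) : E →* Module.End k U where
  toFun x := (ρ x).restrict (hU x)
  map_one' := by
    refine LinearMap.ext fun w => Subtype.ext ?_
    simp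
  map_mul' x y := by
    refine LinearMap.ext fun w => Subtype.ext ?_
    simp [rep_mul_apply]

theorem restrictRep_apply {U : Submodule k W} {hU : ∀ x : E, ∀ w ∈ U, ρ x w ∈ U} (x : E) (w : U) :
    ((restrictRep ρ U hU x w : U) : W) = ρ x (w : W) := rfl

/-- Non-degeneracy: images commuting with everything are scalar. -/
def Nondeg : Prop := ∀ x : E, (∀ y, ρ (x * y) = ρ (y * x)) → x ∈ scalarSub ρ

theorem restrictRep_smul_one {U : Submodule k W} {hU : ∀ x : E, ∀ w ∈ U, ρ x w ∈ U} {x : E} {c : k}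
    (h : ρ x = c • 1) : restrictRep ρ U hU x = c • 1 := by
  refine LinearMap.ext fun w => Subtype.ext ?_
  rw [restrictRep_apply, h]
  simp

theorem scalarSub_restrictRep [Nontrivial W] (hE : ClassTwo ρ) (hnd : Nondeg ρ) {U : Submodule k W}
    (hU : ∀ x : E, ∀ w ∈ U, ρ x w ∈ U) (h0 : U ≠ ⊥) :
    scalarSub (restrictRep ρ U hU) = scalarSub ρ := by
  haveI : Nontrivial U := Submodule.nontrivial_iff_ne_bot.2 h0
  refine le_antisymm (fun x ⟨c, hc⟩ => hnd x fun y => ?_)
    fun x ⟨c, hc⟩ => ⟨c, restrictRep_smul_one ρ hc⟩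
  rw [← chi_eq_one_iff ρ hE y x]
  refine smul_rep_inj (restrictRep ρ U hU) (x := y * x) ?_
  have h1 : restrictRep ρ U hU (x * y) = restrictRep ρ U hU (y * x) := by
    rw [map_mul, map_mul, hc, smul_mul_assoc, one_mul, mul_smul_comm, mul_one]
  refine LinearMap.ext fun w => Subtype.ext ?_
  have e : ρ (x * y) = chi ρ hE y x • ρ (y * x) := by
    rw [show x * y = (x * y * x⁻¹) * x by group, map_mul, chi_spec ρ hE, smul_mul_assoc, ← map_mul]
  have h2 := congrArg (fun X : Module.End k U => ((X w : U) : W)) h1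
  simp only [restrictRep_apply, e, LinearMap.smul_apply] at h2
  simpa [restrictRep_apply] using h2

section Core

variable [Finite E] [IsAlgClosed k] [FiniteDimensional k W]

/-- The orbit bound for the fixed points of `b` in the matrix algebra. -/
theorem finrank_commute_le [Nontrivial W] (hirr : Irred ρ) (hE : ClassTwo ρ)
    (hm : (Nat.card (ScalarQuot ρ) : k) ≠ 0) {q : ℕ} (hq : q.Prime) (hqk : (q : k) ≠ 0) (σ : E ≃* E)
    (hσq : ∀ x, σ^[q] x = x) (hσ : ∀ x (c : k), ρ x = c • 1 → ρ (σ x) = c • 1)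
    (b : Module.End k W) (hb : ∀ x, b * ρ x = ρ (σ x) * b) (hbq : b ^ q = 1)
    (hfpf : ∀ x, x⁻¹ * σ x ∈ scalarSub ρ → x ∈ scalarSub ρ) (hne : scalarSub ρ ≠ ⊤) :
    q * Module.finrank k (LinearMap.ker (LinearMap.mulLeft k b - LinearMap.mulRight k b)) + 1 ≤
      Nat.card (ScalarQuot ρ) + q := by
  classical
  haveI := scalarSub_normal ρ
  haveI := Fintype.ofFinite (ScalarQuot ρ)
  have hm' : (Fintype.card (ScalarQuot ρ) : k) ≠ 0 := by rwa [← Nat.card_eq_fintype_card]
  let avg : Module.End k W →ₗ[k] Module.End k W :=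
    ∑ i ∈ Finset.range q, (LinearMap.mulLeft k (b ^ i)).comp (LinearMap.mulRight k (b ^ (q - i)))
  have havg : ∀ X, avg X = ∑ i ∈ Finset.range q, b ^ i * (X * b ^ (q - i)) := fun X => by
    simp [avg, LinearMap.sum_apply]
  have hconj : ∀ X, avg (b * X * b ^ (q - 1)) = avg X := by
    intro X
    let f : ℕ → Module.End k W := fun i => b ^ i * (X * b ^ (q - i))
    have e1 : ∀ i ∈ Finset.range q, b ^ i * (b * X * b ^ (q - 1) * b ^ (q - i)) = f (i + 1) := by
      intro i hi
      rw [Finset.mem_range] at hi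
      have e : b ^ (q - 1) * b ^ (q - i) = b ^ (q - (i + 1)) := by
        rw [← pow_add, show q - 1 + (q - i) = q + (q - (i + 1)) by omega, pow_add, hbq, one_mul]
      simp only [f, mul_assoc]
      rw [e, pow_succ, mul_assoc]
    have e2 := Finset.sum_range_succ' f q
    rw [Finset.sum_range_succ, show f q = f 0 by simp [f, hbq], add_left_inj] at e2
    rw [havg, havg, Finset.sum_congr rfl e1]
    exact e2.symm
  have hρσ : ∀ x, avg (ρ (σ x)) = avg (ρ x) := by
    intro x
    rw [← hconj (ρ x), hb, mul_assoc, ← pow_succ', Nat.sub_add_cancel hq.one_le, hbq, mul_one]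
  have hmap : (scalarSub ρ).map (σ : E →* E) = scalarSub ρ :=
    Subgroup.eq_of_le_of_card_ge
      (Subgroup.map_le_iff_le_comap.2 fun x ⟨c, hc⟩ => ⟨c, hσ x c hc⟩)
      (Subgroup.card_map_of_injective σ.injective).ge
  let σ' : Equiv.Perm (ScalarQuot ρ) :=
    (QuotientGroup.congr (scalarSub ρ) (scalarSub ρ) σ hmap).toEquiv
  have hσmk : ∀ x : E, σ' (QuotientGroup.mk x) = QuotientGroup.mk (σ x) := fun x => rfl
  have hσ1 : σ' 1 = 1 := by
    have := hσmk 1
    rwa [map_one, QuotientGroup.mk_one] at this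
  have hσ'q : σ' ^ q = 1 := by
    refine Equiv.ext fun i => ?_
    obtain ⟨x, rfl⟩ := QuotientGroup.mk_surjective i
    have : ∀ n, (σ' ^ n) (QuotientGroup.mk x) = QuotientGroup.mk (σ^[n] x) := by
      intro n
      induction n with
      | zero => rfl
      | succ n ih => rw [pow_succ', Equiv.Perm.mul_apply, ih, hσmk, Function.iterate_succ_apply']
    rw [this, hσq, Equiv.Perm.one_apply]
  have hσ'ne : σ' ≠ 1 := by
    intro h
    apply hne
    rw [eq_top_iff]
    intro x _
    refine hfpf x (QuotientGroup.eq.1 ?_)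
    rw [← hσmk, h, Equiv.Perm.one_apply]
  haveI : Fact q.Prime := ⟨hq⟩
  have hord : orderOf σ' = q := orderOf_eq_prime hσ'q hσ'ne
  let P := Subgroup.zpowers σ'
  haveI := Fintype.ofFinite P
  haveI := Fintype.ofFinite (Quotient (MulAction.orbitRel P (ScalarQuot ρ)))
  have hP : Fintype.card P = q := by rw [← Nat.card_eq_fintype_card, Nat.card_zpowers, hord]
  have hpfix : ∀ a : P, (a : Equiv.Perm (ScalarQuot ρ)) 1 = 1 := fun a =>
    (Subgroup.zpowers_le.2 (show σ' ∈ MulAction.stabilizer (Equiv.Perm (ScalarQuot ρ))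
      (1 : ScalarQuot ρ) from hσ1)) a.2
  have hburn := MulAction.sum_card_fixedBy_eq_card_orbits_mul_card_group P (ScalarQuot ρ)
  rw [← Finset.add_sum_erase _ _ (Finset.mem_univ (1 : P)), hP] at hburn
  have h1 : Fintype.card (MulAction.fixedBy (ScalarQuot ρ) (1 : P)) = Fintype.card (ScalarQuot ρ) := by
    refine Fintype.card_congr ((Equiv.subtypeUnivEquiv fun x => ?_))
    simp
  have h2 : ∀ a ∈ (Finset.univ : Finset P).erase 1,
      Fintype.card (MulAction.fixedBy (ScalarQuot ρ) a) = 1 := by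
    intro a ha
    have ha1 : (a : Equiv.Perm (ScalarQuot ρ)) ≠ 1 := fun h =>
      (Finset.mem_erase.1 ha).1 (Subtype.ext h)
    have hgen : σ' ∈ Subgroup.zpowers (a : Equiv.Perm (ScalarQuot ρ)) := by
      have hle : Subgroup.zpowers (a : Equiv.Perm (ScalarQuot ρ)) ≤ Subgroup.zpowers σ' :=
        Subgroup.zpowers_le.2 a.2
      have hd : orderOf (a : Equiv.Perm (ScalarQuot ρ)) ∣ q := hord ▸ orderOf_dvd_of_mem_zpowers a.2
      rcases (Nat.dvd_prime hq).1 hd with h | h
      · exact absurd (orderOf_eq_one_iff.1 h) ha1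
      · rw [Subgroup.eq_of_le_of_card_ge hle (by rw [Nat.card_zpowers, Nat.card_zpowers, h, hord])]
        exact Subgroup.mem_zpowers σ'
    rw [Fintype.card_eq_one_iff]
    refine ⟨⟨1, hpfix a⟩, fun y => Subtype.ext ?_⟩
    obtain ⟨x, hx⟩ := QuotientGroup.mk_surjective (y : ScalarQuot ρ)
    have hy : σ' (y : ScalarQuot ρ) = y :=
      (Subgroup.zpowers_le.2 (show (a : Equiv.Perm (ScalarQuot ρ)) ∈
        MulAction.stabilizer (Equiv.Perm (ScalarQuot ρ)) (y : ScalarQuot ρ) from y.2)) hgen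
    rw [← hx, hσmk, QuotientGroup.eq] at hy
    show (y : ScalarQuot ρ) = 1
    rw [← hx]
    refine (mem_scalarSub_iff_mk_eq_one ρ x).1 (hfpf x ?_)
    have := inv_mem hy
    simpa [mul_assoc] using this
  rw [h1, Finset.sum_congr rfl h2, Finset.sum_const, Finset.card_erase_of_mem (Finset.mem_univ _),
    Finset.card_univ, hP, smul_eq_mul, mul_one] at hburn
  let F : Quotient (MulAction.orbitRel P (ScalarQuot ρ)) → Module.End k W := fun o =>
    avg (ρ o.out.out)
  have hspan : ∀ X, avg X ∈ Submodule.span k (Set.range F) := by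
    intro X
    have hX : X ∈ Submodule.span k (Set.range fun i : ScalarQuot ρ => ρ i.out) := by
      rw [rep_span ρ hirr hE hm']; exact Submodule.mem_top
    induction hX using Submodule.span_induction with
    | zero => rw [map_zero]; exact zero_mem _
    | add _ _ _ _ h1 h2 => rw [map_add]; exact add_mem h1 h2
    | smul c _ _ h => rw [map_smul]; exact Submodule.smul_mem _ c h
    | mem _ hi =>
      obtain ⟨i, rfl⟩ := hi
      have hcl : ∀ (n : ℕ) (j : ScalarQuot ρ), ∃ c : k,
          avg (ρ (((σ' ^ n) j).out)) = c • avg (ρ j.out) := by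
        intro n j
        induction n with
        | zero => exact ⟨1, by rw [pow_zero, Equiv.Perm.one_apply, one_smul]⟩
        | succ n ih =>
          obtain ⟨c, hc⟩ := ih
          obtain ⟨d, ⟨e, he⟩, hout⟩ := out_mk_eq ρ (σ (((σ' ^ n) j).out))
          refine ⟨e * c, ?_⟩
          rw [pow_succ', Equiv.Perm.mul_apply,
            show σ' ((σ' ^ n) j) = QuotientGroup.mk (σ (((σ' ^ n) j).out)) by
              rw [← hσmk, QuotientGroup.out_eq'], hout, map_mul, he, mul_smul_comm, mul_one, map_smul,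
            hρσ, hc, smul_smul]
      set o := Quotient.mk (MulAction.orbitRel P (ScalarQuot ρ)) i with ho
      obtain ⟨g, hg⟩ : i ∈ MulAction.orbit P o.out :=
        MulAction.orbitRel_apply.1 (Quotient.exact (Quotient.out_eq o).symm)
      obtain ⟨n, hn⟩ := (Submonoid.mem_powers_iff _ _).1
        ((isOfFinOrder_of_finite σ').mem_powers_iff_mem_zpowers.2 g.2)
      obtain ⟨c, hc⟩ := hcl n o.out
      rw [show (i : ScalarQuot ρ) = (σ' ^ n) o.out from hg.symm.trans (by rw [hn]; rfl), hc]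
      exact Submodule.smul_mem _ _ (Submodule.subset_span ⟨o, rfl⟩)
  have hle : LinearMap.ker (LinearMap.mulLeft k b - LinearMap.mulRight k b) ≤
      Submodule.span k (Set.range F) := by
    intro X hX
    simp only [LinearMap.mem_ker, LinearMap.sub_apply, LinearMap.mulLeft_apply,
      LinearMap.mulRight_apply, sub_eq_zero] at hX
    have e : avg X = (q : k) • X := by
      rw [havg, Finset.sum_congr rfl (g := fun _ => X) fun i hi => by
        rw [Finset.mem_range] at hi
        rw [← mul_assoc, (Commute.pow_left hX i).eq, mul_assoc, ← pow_add,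
          Nat.add_sub_cancel' hi.le, hbq, mul_one]]
      rw [Finset.sum_const, Finset.card_range, Nat.cast_smul_eq_nsmul]
    rw [← inv_smul_smul₀ hqk X, ← e]
    exact Submodule.smul_mem _ _ (hspan X)
  have hfin := (Submodule.finrank_mono hle).trans (finrank_range_le_card F)
  have := Nat.mul_le_mul_left q hfin
  rw [Nat.card_eq_fintype_card]
  have hq1 := hq.one_le
  rw [mul_comm q (Fintype.card (Quotient _))] at this
  omega

/-- The representation of a cyclic group given by an operator of finite order. -/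
def powRep {q : ℕ} [NeZero q] (b : Module.End k W) (hb : b ^ q = 1) :
    Multiplicative (ZMod q) →* Module.End k W where
  toFun i := b ^ (Multiplicative.toAdd i).val
  map_one' := by simp
  map_mul' x y := by
    rw [toAdd_mul, ZMod.val_add, ← pow_add]
    conv_rhs => rw [← Nat.mod_add_div ((Multiplicative.toAdd x).val + (Multiplicative.toAdd y).val) q,
      pow_add, pow_mul, hb, one_pow, mul_one]

/-- An operator of prime order without eigenvalue one has dimension bounded by the commutant. -/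
theorem exists_dims [Nontrivial W] {q : ℕ} (hq : q.Prime) (hqk : (q : k) ≠ 0) (b : Module.End k W)
    (hbq : b ^ q = 1) (hfix : ∀ w, b w = w → w = 0) :
    ∃ S : ℕ, S ≤ Module.finrank k (LinearMap.ker (LinearMap.mulLeft k b - LinearMap.mulRight k b)) ∧
      Module.finrank k W ≤ S ∧ (Module.finrank k W) ^ 2 ≤ (q - 1) * S := by
  classical
  haveI : Fact (1 < q) := ⟨hq.one_lt⟩
  haveI : NeZero q := ⟨hq.ne_zero⟩
  let τ := powRep b hbq
  let Y : Subgroup (Multiplicative (ZMod q)) := ⊤
  haveI := Fintype.ofFinite Y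
  haveI := finite_hom_units (k := k) (Y := Y)
  haveI := Fintype.ofFinite (Y →* kˣ)
  have hY : ImgComm τ Y := fun y _ z _ => by rw [mul_comm]
  have hcard : Fintype.card Y = q := by
    rw [← Nat.card_eq_fintype_card, Subgroup.card_top]
    simp
  have hk : (Fintype.card Y : k) ≠ 0 := by rwa [hcard]
  let g : Y := ⟨Multiplicative.ofAdd 1, Subgroup.mem_top _⟩
  have hτg : τ (g : Multiplicative (ZMod q)) = b := by
    show b ^ (Multiplicative.toAdd (Multiplicative.ofAdd (1 : ZMod q))).val = b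
    rw [toAdd_ofAdd, ZMod.val_one, pow_one]
  have hgpow : ∀ y : Y, y = g ^ (Multiplicative.toAdd (y : Multiplicative (ZMod q))).val := by
    intro y
    refine Subtype.ext (Multiplicative.toAdd.injective ?_)
    simp [g, ZMod.natCast_rightInverse _]
  let Eχ : (Y →* kˣ) → Submodule k W := fun χ => LinearMap.range (eigProj τ χ)
  have hEχ : ∀ χ, ∀ x ∈ Eχ χ, IsEigen τ Y χ x := by
    rintro χ _ ⟨x, rfl⟩
    exact isEigen_eigProj τ χ x
  have hEg : ∀ χ, ∀ x ∈ Eχ χ, b x = (χ g : k) • x := fun χ x hx => by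
    rw [← hτg]; exact hEχ χ x hx g
  let π : ∀ χ, W →ₗ[k] Eχ χ := fun χ => ((q : k)⁻¹) • (eigProj τ χ).rangeRestrict
  have hπ : ∀ χ w, ((π χ w : Eχ χ) : W) = (q : k)⁻¹ • eigProj τ χ w := fun χ w => rfl
  have hsum : ∀ w, ∑ χ, ((π χ w : Eχ χ) : W) = w := fun w => by
    simp only [hπ, ← Finset.smul_sum, sum_eigProj τ hY hk, hcard, inv_smul_smul₀ hqk]
  have hπι : ∀ χ ψ, ∀ x ∈ Eχ ψ, ((π χ x : Eχ χ) : W) = if χ = ψ then x else 0 := by
    intro χ ψ x hx
    rw [hπ]
    split
    · next h => rw [h, eigProj_self τ (hEχ ψ x hx), hcard, inv_smul_smul₀ hqk]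
    · next h => rw [eigProj_ne τ (hEχ ψ x hx) h, smul_zero]
  have hπ' : ∀ (X : ∀ χ, Eχ χ) χ, π χ (∑ ψ, ((X ψ : Eχ ψ) : W)) = X χ := by
    intro X χ
    refine Subtype.ext ?_
    rw [map_sum, AddSubmonoidClass.coe_finsetSum, Finset.sum_eq_single χ (fun ψ _ h => by
        rw [hπι χ ψ _ (X ψ).2, if_neg h.symm]) (fun h => absurd (Finset.mem_univ χ) h),
      hπι χ χ _ (X χ).2, if_pos rfl]
  let e : W ≃ₗ[k] ∀ χ, Eχ χ :=
    { LinearMap.pi π with
      invFun := fun X => ∑ χ, ((X χ : Eχ χ) : W)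
      left_inv := hsum
      right_inv := fun X => funext (hπ' X) }
  have hdim : Module.finrank k W = ∑ χ, Module.finrank k (Eχ χ) := by
    rw [e.finrank_eq, Module.finrank_pi_fintype]
  let Φ : (∀ χ, Module.End k (Eχ χ)) →ₗ[k] Module.End k W :=
    { toFun := fun X => ∑ χ, (Eχ χ).subtype.comp ((X χ).comp (π χ))
      map_add' := fun X X' => by
        simp [LinearMap.add_comp, LinearMap.comp_add, Finset.sum_add_distrib]
      map_smul' := fun c X => by
        simp [LinearMap.smul_comp, LinearMap.comp_smul, Finset.smul_sum] }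
  have hΦ : ∀ X w, Φ X w = ∑ χ, ((X χ (π χ w) : Eχ χ) : W) := fun X w => by
    simp [Φ, LinearMap.sum_apply]
  have hΦi : Function.Injective Φ := by
    intro X X' h
    funext χ
    refine LinearMap.ext fun x => ?_
    have h1 : ∀ Z : ∀ χ, Module.End k (Eχ χ), π χ (Φ Z (x : W)) = Z χ x := by
      intro Z
      rw [hΦ, hπ' (fun ψ => Z ψ (π ψ (x : W))) χ]
      congr 1
      exact Subtype.ext (by rw [hπι χ χ _ x.2, if_pos rfl])
    rw [← h1 X, ← h1 X', h]
  have hΦr : LinearMap.range Φ ≤ LinearMap.ker (LinearMap.mulLeft k b - LinearMap.mulRight k b) := by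
    rintro _ ⟨X, rfl⟩
    simp only [LinearMap.mem_ker, LinearMap.sub_apply, LinearMap.mulLeft_apply,
      LinearMap.mulRight_apply, sub_eq_zero]
    refine LinearMap.ext fun w => ?_
    rw [Module.End.mul_apply, Module.End.mul_apply, hΦ, hΦ, map_sum]
    refine Finset.sum_congr rfl fun χ _ => ?_
    rw [hEg χ _ (X χ (π χ w)).2]
    have e1 : π χ (b w) = (χ g : k) • π χ w := by
      refine Subtype.ext ?_
      rw [Submodule.coe_smul, hπ, hπ, smul_comm, ← hEg χ _ ⟨w, rfl⟩, ← hτg,
        eigProj_comm τ χ (τ (g : Multiplicative (ZMod q))) (fun y hy v => by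
          rw [← rep_mul_apply, ← rep_mul_apply, mul_comm]) w]
    rw [e1, map_smul, Submodule.coe_smul]
  have hEone : Module.finrank k (Eχ 1) = 0 := by
    rw [Submodule.finrank_eq_zero, eq_bot_iff]
    intro x hx
    rw [Submodule.mem_bot]
    refine hfix x ?_
    rw [hEg 1 x hx, MonoidHom.one_apply, Units.val_one, one_smul]
  have hΩ : Fintype.card (Y →* kˣ) ≤ q := by
    have hinj : Function.Injective fun χ : Y →* kˣ =>
        (⟨χ g, by
          rw [mem_rootsOfUnity, ← map_pow,
            show g ^ q = 1 by have h0 := pow_card_eq_one (x := g); rwa [hcard] at h0, map_one]⟩ : rootsOfUnity q k) := by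
      intro χ ψ h
      have h' : χ g = ψ g := congrArg Subtype.val h
      refine MonoidHom.ext fun y => ?_
      rw [hgpow y, map_pow, map_pow, h']
    rw [← Nat.card_eq_fintype_card]
    exact (Nat.card_le_card_of_injective _ hinj).trans (card_rootsOfUnity k q)
  refine ⟨∑ χ, Module.finrank k (Eχ χ) * Module.finrank k (Eχ χ), ?_, ?_, ?_⟩
  · refine le_trans (le_of_eq ?_) (Submodule.finrank_mono hΦr)
    rw [LinearMap.finrank_range_of_inj hΦi, Module.finrank_pi_fintype]
    exact Finset.sum_congr rfl fun χ _ => (Module.finrank_linearMap k k _ _).symm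
  · rw [hdim]
    exact Finset.sum_le_sum fun χ _ => Nat.le_mul_self _
  · rw [hdim, ← Finset.add_sum_erase _ _ (Finset.mem_univ (1 : Y →* kˣ)), hEone, zero_add]
    refine le_trans sq_sum_le_card_mul_sum_sq ?_
    refine Nat.mul_le_mul ?_ ?_
    · rw [Finset.card_erase_of_mem (Finset.mem_univ _), Finset.card_univ, Nat.cast_id]
      omega
    · simp only [sq]
      exact Finset.sum_le_sum_of_subset (Finset.erase_subset _ _)

/-- The extraspecial configuration forces `q = d + 1`. -/
theorem hh_core [Nontrivial W] (hE : ClassTwo ρ) (hnd : Nondeg ρ)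
    (hm : (Nat.card (ScalarQuot ρ) : k) ≠ 0) {q : ℕ} (hq : q.Prime) (hqk : (q : k) ≠ 0)
    (σ : E ≃* E) (hσq : ∀ x, σ^[q] x = x) (u : Module.End k W) (huq : u ^ q = 1)
    (hu : ∀ x, u * ρ x = ρ (σ x) * u) (hfix : ∀ w, u w = w → w = 0)
    (hfpf : ∀ x, x⁻¹ * σ x ∈ scalarSub ρ → x ∈ scalarSub ρ) (hne : scalarSub ρ ≠ ⊤) :
    ∃ d, Nat.card (ScalarQuot ρ) = d * d ∧ q = d + 1 := by
  classical
  obtain ⟨U, hU0, hUinv, hUmin⟩ := exists_irred_sub ρ
  haveI : Nontrivial U := Submodule.nontrivial_iff_ne_bot.2 hU0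
  set ρU := restrictRep ρ U hUinv with hρU
  have hsub : scalarSub ρU = scalarSub ρ := scalarSub_restrictRep ρ hE hnd hUinv hU0
  have hirr : Irred ρU := by
    intro V hV
    rcases hUmin (V.map U.subtype) (Submodule.map_subtype_le _ _) (fun x w hw => by
      obtain ⟨v, hv, rfl⟩ := Submodule.mem_map.1 hw
      exact Submodule.mem_map.2 ⟨ρU x v, hV x v hv, rfl⟩) with h | h
    · left
      rwa [← Submodule.map_bot U.subtype,
        (Submodule.map_injective_of_injective U.subtype_injective).eq_iff] at h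
    · right
      rw [← Submodule.map_injective_of_injective U.subtype_injective |>.eq_iff, h,
        Submodule.map_subtype_top]
  have hEU : ClassTwo ρU := fun x y => hsub.symm ▸ hE x y
  have huinj : Function.Injective u := by
    intro a c h
    have : (u ^ (q - 1)) (u a) = (u ^ (q - 1)) (u c) := by rw [h]
    rwa [← Module.End.mul_apply, ← Module.End.mul_apply, ← pow_succ, Nat.sub_add_cancel hq.one_le,
      huq] at this
  have hσW : ∀ x (c : k), ρ x = c • 1 → ρ (σ x) = c • 1 := by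
    intro x c hc
    have h := hu x
    rw [hc, mul_smul_comm, mul_one, ← one_mul u, ← smul_mul_assoc] at h
    obtain ⟨v, hv⟩ : ∃ v : Module.End k W, u * v = 1 :=
      ⟨u ^ (q - 1), by rw [← pow_succ', Nat.sub_add_cancel hq.one_le, huq]⟩
    have := congrArg (· * v) h
    simpa [mul_assoc, hv] using this.symm
  have hσU : ∀ x (c : k), ρU x = c • 1 → ρU (σ x) = c • 1 := by
    intro x c hc
    obtain ⟨d, hd⟩ : x ∈ scalarSub ρ := hsub ▸ ⟨c, hc⟩
    have h1 := restrictRep_smul_one ρ (hU := hUinv) hd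
    rw [show c = d from smul_rep_inj ρU (x := 1) (by rw [map_one, ← hc, ← h1])]
    exact restrictRep_smul_one ρ (hσW x d hd)
  have hmU : (Nat.card (ScalarQuot ρU) : k) ≠ 0 := by
    unfold ScalarQuot at hm ⊢
    rw [hsub]; exact hm
  obtain ⟨b, hb⟩ := exists_intertwiner ρU hirr hEU hmU σ hσU
  let Hm : Submodule k (U →ₗ[k] W) :=
    { carrier := {h | ∀ x v, h (ρU x v) = ρ x (h v)}
      add_mem' := fun {h h'} hh hh' x v => by
        rw [LinearMap.add_apply, LinearMap.add_apply, hh, hh', map_add]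
      zero_mem' := fun x v => by simp
      smul_mem' := fun c h hh x v => by
        rw [LinearMap.smul_apply, LinearMap.smul_apply, hh, map_smul] }
  let L₀ : (U →ₗ[k] W) →ₗ[k] (U →ₗ[k] W) :=
    { toFun := fun h => u.comp (h.comp b.symm.toLinearMap)
      map_add' := fun h h' => by simp [LinearMap.add_comp, LinearMap.comp_add]
      map_smul' := fun c h => by simp [LinearMap.smul_comp, LinearMap.comp_smul] }
  have hL : ∀ h ∈ Hm, L₀ h ∈ Hm := by
    intro h hh x v
    show u (h (b.symm (ρU x v))) = ρ x (u (h (b.symm v)))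
    have e : b.symm (ρU x v) = ρU (σ.symm x) (b.symm v) := by
      apply b.injective
      rw [LinearEquiv.apply_symm_apply, hb, MulEquiv.apply_symm_apply, LinearEquiv.apply_symm_apply]
    rw [e, hh]
    have := LinearMap.congr_fun (hu (σ.symm x)) (h (b.symm v))
    simpa using this
  haveI : Nontrivial Hm := Submodule.nontrivial_iff_ne_bot.2 fun h => hU0 (by
    have : U.subtype ∈ Hm := fun x v => rfl
    rw [h, Submodule.mem_bot] at this
    rw [← Submodule.range_subtype U, this, LinearMap.range_zero])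
  obtain ⟨ζ, hζ⟩ := Module.End.exists_eigenvalue (L₀.restrict hL : Module.End k Hm)
  obtain ⟨h, hh⟩ := hζ.exists_hasEigenvector
  have hhe : ∀ v, u ((h : U →ₗ[k] W) (b.symm v)) = ζ • (h : U →ₗ[k] W) v := fun v =>
    LinearMap.congr_fun (congrArg Subtype.val (Module.End.mem_eigenspace_iff.1 hh.1)) v
  have hinj : Function.Injective (h : U →ₗ[k] W) := by
    rw [← LinearMap.ker_eq_bot]
    refine (hirr _ fun x v hv => ?_).resolve_right fun e =>
      hh.2 (Subtype.ext (LinearMap.ker_eq_top.1 e))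
    rw [LinearMap.mem_ker] at hv ⊢
    rw [h.2 x v, hv, map_zero]
  let B : Module.End k U := ζ • b.toLinearMap
  have hB : ∀ v, (h : U →ₗ[k] W) (B v) = u ((h : U →ₗ[k] W) v) := fun v => by
    have := hhe (b v)
    rw [LinearEquiv.symm_apply_apply] at this
    rw [this, ← map_smul]
    rfl
  have hBn : ∀ (n : ℕ) v, (h : U →ₗ[k] W) ((B ^ n) v) = (u ^ n) ((h : U →ₗ[k] W) v) := by
    intro n
    induction n with
    | zero => intro v; rfl
    | succ n ih => intro v; rw [pow_succ', Module.End.mul_apply, hB, ih, pow_succ', Module.End.mul_apply]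
  have hBq : B ^ q = 1 := LinearMap.ext fun v => hinj (by rw [hBn, huq]; rfl)
  have hBσ : ∀ x, B * ρU x = ρU (σ x) * B := fun x => LinearMap.ext fun v => by
    show ζ • b (ρU x v) = ρU (σ x) (ζ • b v)
    rw [map_smul, hb]
  have hBfix : ∀ v, B v = v → v = 0 := fun v hv => hinj (by
    rw [map_zero]
    exact hfix _ (by rw [← hB, hv]))
  have hfr := finrank_commute_le ρU hirr hEU hmU hq hqk σ hσq hσU B hBσ hBq
    (fun x hx => hsub.symm ▸ hfpf x (hsub ▸ hx)) (hsub.symm ▸ hne)
  obtain ⟨S, hS1, hS2, hS3⟩ := exists_dims hq hqk B hBq hBfix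
  have hcd := card_scalarQuot ρU hirr hEU hmU
  set d := Module.finrank k U
  refine ⟨d, ?_, ?_⟩
  · rw [← hcd]
    unfold ScalarQuot
    rw [hsub]
  rw [hcd] at hfr
  have hd2 : 2 ≤ d := by
    by_contra hlt
    push Not at hlt
    apply hsub ▸ hne
    refine Subgroup.index_eq_one.1 ?_
    rw [Subgroup.index_eq_card]
    show Nat.card (ScalarQuot ρU) = 1
    have : 1 ≤ d := Module.finrank_pos
    rw [hcd, show d = 1 by omega]
  have h2 := hq.two_le
  have hqS : q * S + 1 ≤ d * d + q := le_trans (Nat.add_le_add_right (Nat.mul_le_mul_left q hS1) 1) hfr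
  obtain ⟨q', rfl⟩ : ∃ q', q = q' + 1 := ⟨q - 1, by omega⟩
  rw [Nat.add_sub_cancel] at hS3
  have hle : d ≤ q' := by
    by_contra hlt
    push Not at hlt
    nlinarith [Nat.mul_le_mul_left q' hqS, Nat.mul_le_mul_left (q' + 1) hS3]
  have hge : q' ≤ d := by
    by_contra hlt
    push Not at hlt
    nlinarith [Nat.mul_le_mul_left (q' + 1) hS2]
  omega

end Core

end CfsgLib.PGroup
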