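import Cfsg.Agent.Lib.PGroup.PqWeights
import Cfsg.Agent.Lib.PGroup.FpfSections

/-!
The irreducible configuration for a nonabelian operator group of order `p * q`.
-/

set_option autoImplicit false
set_option linter.style.haveILetI false
set_option linter.unusedSectionVars false
set_option maxHeartbeats 800000

namespace CfsgLib.PGroup

open Subgroup
open scoped IsMulCommutative commutatorElement

universe u

theorem le_normalizer_commutator {G : Type u} [Group G] {A H K : Subgroup G}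
    (hH : A ≤ normalizer (H : Set G)) (hK : A ≤ normalizer (K : Set G)) :
    A ≤ normalizer ((⁅H, K⁆ : Subgroup G) : Set G) := by
  intro a ha
  rw [← Coprime.conjBy_eq_self_iff, Coprime.conjBy, Subgroup.map_commutator]
  exact congrArg₂ _ (Coprime.conjBy_eq_self_iff.2 (hH ha)) (Coprime.conjBy_eq_self_iff.2 (hK ha))

/-- Frattini subgroups of `p`-subgroups, inside the ambient group. -/
theorem frattini_map_lt {G : Type u} [Group G] [Finite G] {R : Subgroup G} (hR : R ≠ ⊥) :
    (frattini R).map R.subtype < R := by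
  refine lt_of_le_of_ne (map_subtype_le _) fun e => ?_
  haveI : Nontrivial R := R.nontrivial_iff_ne_bot.2 hR
  have h : (frattini R).map R.subtype = (⊤ : Subgroup R).map R.subtype := by
    rw [e, ← MonoidHom.range_eq_map, R.range_subtype]
  obtain ⟨M, hM, -⟩ := (eq_top_or_exists_le_coatom (⊥ : Subgroup R)).resolve_left bot_ne_top
  exact hM.1 (eq_top_iff.2 ((map_injective R.subtype_injective h).ge.trans (frattini_le_coatom hM)))

section Core

variable {N : Type u} [Group N] [Finite N] {V : Type u} [CommGroup V] [Finite V]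
  (c : N →* MulAut V) {A₀ : Type u} [Group A₀] [Finite A₀] {p q r t l : ℕ}

theorem pq_core [Fact r.Prime] [Fact t.Prime] [Fact l.Prime] {Q : Subgroup A₀} (F : PqFrame p q Q)
    (ι : A₀ →* N) (hV : ∀ v : V, v ^ l = 1) [Nontrivial V]
    (R T : Subgroup N) (hRp : IsPGroup r R) (hTp : IsPGroup t T) (hrt : r ≠ t) (hrl : r ≠ l)
    (hrp : r ≠ p) (hrq : r ≠ q) (htp : t ≠ p) (htq : t ≠ q) (hlp : l ≠ p) (hlq : l ≠ q)
    (hAR : ∀ a, ι a ∈ normalizer (R : Set N)) (hTR : T ≤ normalizer (R : Set N))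
    (hAT : ∀ a, ι a ∈ normalizer (T : Set N)) (hfaith : ∀ x ∈ R, c x = 1 → x = 1)
    (hVA : ∀ v : V, (∀ a, c (ι a) v = v) → v = 1)
    (hRA : ∀ x ∈ R, (∀ a, Commute (ι a) x) → x = 1)
    (hTA : ∀ x ∈ T, (∀ a, Commute (ι a) x) → x = 1)
    (hRV : ∀ d ∈ Q, d ≠ 1 → ∀ x ∈ R, Commute (ι d) x → ∀ v, c (ι d) v = v → c x v = v)
    (hRT : ∀ d ∈ Q, d ≠ 1 → ∀ x ∈ R, ∀ y ∈ T, Commute (ι d) x → Commute (ι d) y → Commute x y)
    (hZfix : ∀ v : V, (∀ z ∈ R ⊓ centralizer (R : Set N), c z v = v) → v = 1)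
    (hmin : ∀ R₁ T₁ : Subgroup N, R₁ ≤ R → T₁ ≤ T → (∀ a, ι a ∈ normalizer (R₁ : Set N)) →
      (∀ a, ι a ∈ normalizer (T₁ : Set N)) → T₁ ≤ normalizer (R₁ : Set N) →
      Nat.card R₁ + Nat.card T₁ < Nat.card R + Nat.card T → T₁ ≤ centralizer (R₁ : Set N)) :
    T ≤ centralizer (R : Set N) := by
  classical
  have hp := F.hp
  have hq := F.hq
  have hr : r.Prime := Fact.out
  have hl : l.Prime := Fact.out
  have ht : t.Prime := Fact.out
  by_contra hne
  -- cardinality facts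
  obtain ⟨i₀, hiR⟩ := IsPGroup.iff_card.1 hRp
  obtain ⟨j₀, hjT⟩ := IsPGroup.iff_card.1 hTp
  have hcopRT : (Nat.card T).Coprime (Nat.card R) := by
    rw [hiR, hjT]; exact ((Nat.coprime_primes ht hr).2 hrt.symm).pow _ _
  have hRsolv : Group.IsSolvable R := Coprime.isSolvable_of_isNilpotent hRp.isNilpotent
  have hTsolv : Group.IsSolvable T := Coprime.isSolvable_of_isNilpotent hTp.isNilpotent
  set AI : Subgroup N := ι.range with hAI
  have hAI_le : ∀ {H : Subgroup N}, (∀ a, ι a ∈ normalizer (H : Set N)) →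
      AI ≤ normalizer (H : Set N) := fun {H} h => by
    rintro _ ⟨a, rfl⟩; exact h a
  have hR1 : ∀ R₁ : Subgroup N, R₁ ≤ R → R₁ ≠ R → (∀ a, ι a ∈ normalizer (R₁ : Set N)) →
      T ≤ normalizer (R₁ : Set N) → T ≤ centralizer (R₁ : Set N) := fun R₁ hle hne' hA hT =>
    hmin R₁ T hle le_rfl hA hAT hT (Nat.add_lt_add_right (lt_of_le_of_ne
      (Nat.le_of_dvd Nat.card_pos (card_dvd_of_le hle)) fun e => hne' (eq_of_le_of_card_ge hle e.ge)) _)
  have hT1 : ∀ T₁ : Subgroup N, T₁ ≤ T → T₁ ≠ T → (∀ a, ι a ∈ normalizer (T₁ : Set N)) →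
      T₁ ≤ centralizer (R : Set N) := fun T₁ hle hne' hA =>
    hmin R T₁ le_rfl hle hAR hA (hle.trans hTR) (Nat.add_lt_add_left (lt_of_le_of_ne
      (Nat.le_of_dvd Nat.card_pos (card_dvd_of_le hle)) fun e => hne' (eq_of_le_of_card_ge hle e.ge)) _)
  have hR0 : R ≠ ⊥ := by
    intro h
    apply hne
    intro x _
    refine mem_centralizer_iff.2 fun z hz => ?_
    rw [h, SetLike.mem_coe, mem_bot] at hz
    rw [hz, one_mul, mul_one]
  have hT0 : T ≠ ⊥ := fun h => hne (h ▸ bot_le)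
  -- `R = [R, T]`
  have hRTle : ⁅R, T⁆ ≤ R := by
    rw [commutator_le]
    intro x hx y hy
    exact commutator_mem_of_mem_normalizer hTR hx hy
  have hRTeq : R = ⁅R, T⁆ := by
    by_contra h
    refine hne (Coprime.le_centralizer_of_le_centralizer_commutator hTR hcopRT (Or.inl hTsolv)
      (hR1 _ hRTle (Ne.symm h) (fun a => ?_) (le_normalizer_commutator hTR le_normalizer)))
    exact le_normalizer_commutator (hAI_le hAR) (hAI_le hAT) ⟨a, rfl⟩
  -- Frattini subgroups
  set Φ := (frattini R).map R.subtype with hΦ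
  have hΦR : Φ < R := frattini_map_lt hR0
  have hΦc : Φ ≤ centralizer (R : Set N) := by
    have hT : T ≤ centralizer (Φ : Set N) :=
      hR1 Φ hΦR.le hΦR.ne (fun a => normalizer_le_normalizer_frattini R (hAR a))
        (hTR.trans (normalizer_le_normalizer_frattini R))
    rw [← commutator_eq_bot_iff_le_centralizer]
    have hTΦ : ⁅T, Φ⁆ = ⊥ := commutator_eq_bot_iff_le_centralizer.2 hT
    have hΦR' : ⁅Φ, R⁆ ≤ Φ := by
      rw [commutator_le]
      intro x hx y hy
      rw [commutatorElement_def, show x * y * x⁻¹ * y⁻¹ = x * (y * x⁻¹ * y⁻¹) by group]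
      exact mul_mem hx ((mem_normalizer_iff.1
        (normalizer_le_normalizer_frattini R (le_normalizer hy)) _).1 (inv_mem hx))
    have h := commutator_commutator_eq_bot_of_rotate (H₁ := R) (H₂ := T) (H₃ := Φ)
      (by rw [hTΦ, commutator_bot_left])
      (le_bot_iff.1 ((commutator_mono hΦR' le_rfl).trans (le_of_eq (by rw [commutator_comm, hTΦ]))))
    rw [← hRTeq, commutator_comm] at h
    exact h
  set Z : Subgroup N := R ⊓ centralizer (R : Set N) with hZdef
  have hΦZ : Φ ≤ Z := le_inf hΦR.le hΦc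
  have hcomR : ∀ x ∈ R, ∀ y ∈ R, x * y * x⁻¹ * y⁻¹ ∈ Z := fun x hx y hy => hΦZ
    ⟨⁅(⟨x, hx⟩ : R), ⟨y, hy⟩⁆,
      Coprime.commutator_le_frattini hRp (commutator_mem_commutator (mem_top _) (mem_top _)),
      by simp [commutatorElement_def]⟩
  have hpowR : ∀ x ∈ R, x ^ r ∈ Z := fun x hx => hΦZ
    ⟨⟨x, hx⟩ ^ r, Coprime.pow_mem_frattini hRp _, by simp⟩
  have hTab : ∀ y ∈ T, ∀ z ∈ T, ∀ x ∈ R, Commute (y * z * y⁻¹ * z⁻¹) x := by
    intro y hy z hz x hx
    have h1 := hT1 _ (frattini_map_lt hT0).le (frattini_map_lt hT0).ne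
      fun a => normalizer_le_normalizer_frattini T (hAT a)
    have h2 : y * z * y⁻¹ * z⁻¹ ∈ (frattini T).map T.subtype :=
      ⟨⁅(⟨y, hy⟩ : T), ⟨z, hz⟩⁆,
        Coprime.commutator_le_frattini hTp (commutator_mem_commutator (mem_top _) (mem_top _)),
        by simp [commutatorElement_def]⟩
    exact (mem_centralizer_iff.1 (h1 h2) x hx).symm
  -- the field
  haveI : CharP (ZMod l) l := ZMod.charP l
  let k := AlgebraicClosure (ZMod l)
  haveI : CharP k l := charP_of_injective_algebraMap (algebraMap (ZMod l) k).injective l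
  have hk : ∀ n : ℕ, ¬ l ∣ n → (n : k) ≠ 0 := fun n hn => by
    rw [Ne, CharP.cast_eq_zero_iff k l]; exact hn
  have hprime : ∀ s : ℕ, s.Prime → l ≠ s → (s : k) ≠ 0 := fun s hs hls =>
    hk s fun h => hls ((Nat.prime_dvd_prime_iff_eq hl hs).1 h)
  have hrk := hprime r hr hrl.symm
  have hpk := hprime p hp hlp
  have hqk := hprime q hq hlq
  obtain ⟨hfd, -⟩ := finrank_addHom (V := V) hV k
  let ρ : N →* Module.End k (Additive V →+ k) := dRep k c
  obtain ⟨b₀, hb₀⟩ := IsPGroup.iff_card.1 (hRp.to_le (show Z ≤ R from inf_le_left))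
  haveI := Fintype.ofFinite Z
  haveI := Fintype.ofFinite A₀
  have hZk : (Fintype.card Z : k) ≠ 0 := by
    rw [← Nat.card_eq_fintype_card, hb₀, Nat.cast_pow]; exact pow_ne_zero _ hrk
  have hZc : ∀ z ∈ Z, ∀ x ∈ R, Commute z x := fun z hz x hx =>
    (mem_centralizer_iff.1 (mem_inf.1 hz).2 x hx).symm
  haveI : IsMulCommutative Z := ⟨⟨fun a b => Subtype.ext (hZc a a.2 b (mem_inf.1 b.2).1).eq⟩⟩
  have hYc : ImgComm ρ Z := fun y hy z hz => by rw [(hZc y hy z (mem_inf.1 hz).1).eq]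
  have hnZ : ∀ n ∈ normalizer (R : Set N), n ∈ normalizer (Z : Set N) := fun n hn =>
    Coprime.inf_le_normalizer (A := normalizer (R : Set N)) le_rfl
      (Coprime.normalizer_le_normalizer_centralizer R) hn
  have hnA : ∀ a, ι a ∈ normalizer (Z : Set N) := fun a => hnZ _ (hAR a)
  -- no fixed functions
  have hWA : ∀ f : Additive V →+ k, (∀ a, ρ (ι a) f = f) → f = 0 := by
    intro f hf
    refine addHom_ext fun v => ?_
    have hs := dRep_sum_apply c Finset.univ (fun a : A₀ => ι a) f v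
    rw [Finset.sum_congr rfl fun a _ => hf a] at hs
    have hfix : ∏ a : A₀, c (ι a)⁻¹ v = 1 := by
      refine hVA _ fun a => ?_
      rw [map_prod]
      refine Fintype.prod_equiv (Equiv.mulRight a⁻¹) _ _ fun x => ?_
      rw [Equiv.coe_mulRight, map_mul, mul_inv_rev, ← MulAut.mul_apply, ← map_mul, map_inv ι, inv_inv]
    rw [hfix, ofMul_one, map_zero, Finset.sum_const, Finset.card_univ, ← Nat.card_eq_fintype_card,
      F.card, AddMonoidHom.nsmul_apply, nsmul_eq_mul, mul_eq_zero] at hs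
    exact hs.resolve_left (by rw [Nat.cast_mul]; exact mul_ne_zero hpk hqk)
  have hone : ∀ f : Additive V →+ k, IsEigen ρ Z 1 f → f = 0 := by
    intro f hf
    refine addHom_ext fun v => ?_
    have hs := dRep_sum_apply c Finset.univ (fun z : Z => (z : N)) f v
    rw [Finset.sum_congr rfl fun (z : Z) _ => (show dRep k c (z : N) f = f by
      have := hf z; rwa [MonoidHom.one_apply, Units.val_one, one_smul] at this)] at hs
    have hfix : ∏ z : Z, c (z : N)⁻¹ v = 1 := by
      refine hZfix _ fun z hz => ?_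
      rw [map_prod]
      refine Fintype.prod_equiv (Equiv.mulRight (⟨z, hz⟩⁻¹ : Z)) _ _ fun x => ?_
      rw [Equiv.coe_mulRight, Subgroup.coe_mul, mul_inv_rev, Subgroup.coe_inv, inv_inv,
        ← MulAut.mul_apply, ← map_mul]
    rw [hfix, ofMul_one, map_zero, Finset.sum_const, Finset.card_univ, AddMonoidHom.nsmul_apply,
      nsmul_eq_mul, mul_eq_zero] at hs
    exact hs.resolve_left hZk
  -- stabilisers
  let S : (Z →* kˣ) → Subgroup A₀ := fun μ => (charStab Z μ).comap ι
  have hS : ∀ {μ : Z →* kˣ} {a : A₀}, a ∈ S μ ↔ twist Z (hnA a) μ = μ := fun {μ a} =>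
    mem_charStab (hnA a)
  have hStop : ∀ {μ : Z →* kˣ}, S μ = ⊤ → ∀ f, IsEigen ρ Z μ f → f = 0 := by
    intro μ hμ f hf
    refine hone f fun z => ?_
    rw [hf z]
    suffices h : μ z = 1 by rw [h, MonoidHom.one_apply]
    set P : Z := ∏ a : A₀, ⟨(ι a)⁻¹ * z * ι a, (mem_normalizer_iff''.1 (hnA a) _).1 z.2⟩ with hP
    have hP1 : P = 1 := by
      refine Subtype.ext (hRA _ (mem_inf.1 P.2).1 fun a => ?_)
      let σ : Z →* Z :=
        { toFun := fun w => ⟨ι a * w * (ι a)⁻¹, (mem_normalizer_iff.1 (hnA a) _).1 w.2⟩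
          map_one' := Subtype.ext (by simp)
          map_mul' := fun x y => Subtype.ext (by simp [mul_assoc]) }
      have e1 : σ P = P := by
        rw [hP, map_prod]
        refine Fintype.prod_equiv (Equiv.mulRight a⁻¹) _ _ fun x => Subtype.ext ?_
        show ι a * ((ι x)⁻¹ * z * ι x) * (ι a)⁻¹ = (ι (x * a⁻¹))⁻¹ * z * ι (x * a⁻¹)
        rw [map_mul, map_inv]
        group
      exact mul_inv_eq_iff_eq_mul.1 (congrArg Subtype.val e1)
    have e2 : μ P = μ z ^ (p * q) := by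
      rw [hP, map_prod, ← F.card, Nat.card_eq_fintype_card]
      refine (Finset.prod_congr rfl (g := fun _ => μ z) fun a _ => ?_).trans
        (by rw [Finset.prod_const, Finset.card_univ])
      have ha : a ∈ S μ := hμ ▸ mem_top a
      exact (twist_apply (hnA a) μ z).symm.trans (DFunLike.congr_fun (hS.1 ha) z)
    rw [hP1, map_one] at e2
    rw [← orderOf_eq_one_iff]
    refine Nat.eq_one_of_dvd_coprimes ?_ (orderOf_dvd_of_pow_eq_one e2.symm)
      (orderOf_dvd_of_pow_eq_one (show μ z ^ (r ^ b₀) = 1 by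
        rw [← map_pow, ← hb₀, pow_card_eq_one', map_one]))
    exact Nat.Coprime.pow_right _ (Nat.Coprime.mul_left ((Nat.coprime_primes hp hr).2 hrp.symm)
      ((Nat.coprime_primes hq hr).2 hrq.symm))
  -- the orbit sum
  have horb : ∀ {μ : Z →* kˣ} {f}, IsEigen ρ Z μ f → (∀ a ∈ S μ, ρ (ι a) f = f) → f = 0 := by
    intro μ f hf hfixS
    have hsum : ∑ a : A₀, ρ (ι a) f = 0 := hWA _ fun b => by
      rw [map_sum]
      exact Fintype.sum_equiv (Equiv.mulLeft b) _ _ fun x => by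
        rw [Equiv.coe_mulLeft, map_mul, rep_mul_apply]
    have e := congrArg (eigProj ρ μ) hsum
    rw [map_sum, map_zero, Finset.sum_congr rfl (g := fun a : A₀ =>
      if a ∈ S μ then (Fintype.card Z : k) • f else 0) fun a _ => by
      split
      · next ha => rw [hfixS a ha, eigProj_self ρ hf]
      · next ha => exact eigProj_ne ρ (hf.map ρ (hnA a)) fun h => ha (hS.2 h.symm),
      Finset.sum_ite, Finset.sum_const, Finset.sum_const_zero, add_zero,
      ← Nat.cast_smul_eq_nsmul k, smul_smul, smul_eq_zero] at e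
    refine e.resolve_left (mul_ne_zero ?_ hZk)
    rw [show (Finset.univ.filter fun a : A₀ => a ∈ S μ).card = Nat.card (S μ) by
      rw [Nat.card_eq_fintype_card, Fintype.card_subtype]]
    intro h
    have hd : Nat.card (S μ) ∣ p * q := F.card ▸ (S μ).card_subgroup_dvd_card
    obtain ⟨d1, d2, h1, h2, h3⟩ := Nat.dvd_mul.1 hd
    rw [← h3, Nat.cast_mul, mul_eq_zero] at h
    rcases h with h | h
    · rcases (Nat.dvd_prime hp).1 h1 with rfl | rfl
      · exact one_ne_zero (Nat.cast_one.symm.trans h)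
      · exact hpk h
    · rcases (Nat.dvd_prime hq).1 h2 with rfl | rfl
      · exact one_ne_zero (Nat.cast_one.symm.trans h)
      · exact hqk h
  obtain ⟨u, huQ, hu1⟩ := F.exists_mem
  haveI hQn := F.normal
  -- elements of `C(u)`
  have hcu : ∀ {x : N}, Commute (ι u) x → ∀ w ∈ Q, Commute (ι w) x := by
    intro x hx w hw
    rw [← F.zpowers_eq huQ hu1] at hw
    obtain ⟨m, rfl⟩ := mem_zpowers_iff.1 hw
    rw [map_zpow]
    exact hx.zpow_left m
  have hQstab : ∀ {μ : Z →* kˣ}, u ∈ S μ → Q ≤ S μ := fun {μ} h => by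
    rw [← F.zpowers_eq huQ hu1]; exact zpowers_le.2 h
  -- weights with non-`Q` stabiliser
  have hnonQ : ∀ {μ : Z →* kˣ} {f}, IsEigen ρ Z μ f → f ≠ 0 → u ∉ S μ →
      ∃ a, a ∉ Q ∧ a ∈ S μ ∧ ∀ b ∈ S μ, b ∈ zpowers a := by
    intro μ f hf hf0 hu
    have hint : ∀ w ∈ S μ, w ∈ Q → w = 1 := fun w hw hwQ => by
      by_contra hw1
      exact hu ((zpowers_le.2 hw) (by rw [F.zpowers_eq hwQ hw1]; exact huQ))
    obtain ⟨a, ha, ha1⟩ : ∃ a ∈ S μ, a ≠ 1 := by
      by_contra hc
      push Not at hc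
      exact hf0 (horb hf fun a ha => by rw [hc a ha, map_one, map_one]; rfl)
    have haQ : a ∉ Q := fun h => ha1 (hint a ha h)
    refine ⟨a, haQ, ha, fun b hb => ?_⟩
    obtain ⟨j, w, hw, hj⟩ := F.exists_pow haQ b
    have hw' : w ∈ S μ := by
      rw [show w = a ^ j * b⁻¹ by rw [hj, mul_inv_cancel_right]]
      exact mul_mem (pow_mem ha j) (inv_mem hb)
    rw [hint w hw' hw, one_mul] at hj
    exact hj ▸ pow_mem (mem_zpowers a) j
  have hnotQ : ∀ {μ : Z →* kˣ} {f}, IsEigen ρ Z μ f → f ≠ 0 → u ∈ S μ → ∀ a ∈ S μ, a ∈ Q := by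
    intro μ f hf hf0 hu a ha
    by_contra haQ
    exact hf0 (hStop (F.eq_top huQ hu1 hu haQ ha) f hf)
  have hkill : ∀ {μ : Z →* kˣ}, u ∉ S μ → ∀ x ∈ R, Commute (ι u) x →
      ∀ f, IsEigen ρ Z μ f → ρ x f = f := by
    intro μ hu x hx hux f hf
    set s : Additive V →+ k := ∑ i ∈ Finset.range q, ρ (ι u ^ i) f with hs
    have huq : ι u ^ q = 1 := by
      rw [← map_pow, show u ^ q = 1 from ?_, map_one]
      have := Subgroup.orderOf_dvd_natCard Q huQ
      rw [F.cardQ] at this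
      exact orderOf_dvd_iff_pow_eq_one.1 this
    have hds : ρ (ι u) s = s := by
      have e1 : ρ (ι u) s = ∑ i ∈ Finset.range q, ρ (ι u ^ (i + 1)) f := by
        rw [hs, map_sum]
        exact Finset.sum_congr rfl fun i _ => by rw [← rep_mul_apply, pow_succ']
      have e2 := Finset.sum_range_succ' (fun i => ρ (ι u ^ i) f) q
      rw [Finset.sum_range_succ, huq, pow_zero, ← e1, ← hs, add_left_inj] at e2
      exact e2.symm
    have hxs : ρ x s = s := by
      refine addHom_ext fun v => ?_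
      have key : ∀ v : V, (q : k) * s (Additive.ofMul v) =
          s (Additive.ofMul (∏ i ∈ Finset.range q, c (ι u ^ i)⁻¹ v)) := by
        intro v
        rw [← dRep_sum_apply c (Finset.range q) (fun i => ι u ^ i) s v]
        have hn : ∀ n : ℕ, ρ (ι u ^ n) s = s := by
          intro n
          induction n with
          | zero => rw [pow_zero, map_one]; rfl
          | succ n ih => rw [pow_succ, rep_mul_apply, hds, ih]
        rw [Finset.sum_congr rfl fun i _ => hn i, Finset.sum_const, Finset.card_range,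
          AddMonoidHom.nsmul_apply, nsmul_eq_mul]
      have hfix : ∀ v : V, c (ι u) (∏ i ∈ Finset.range q, c (ι u ^ i)⁻¹ v) =
          ∏ i ∈ Finset.range q, c (ι u ^ i)⁻¹ v := by
        intro v
        rw [map_prod]
        have e2 := Finset.prod_range_succ' (fun i => c (ι u) (c (ι u ^ i)⁻¹ v)) q
        have e3 : ∀ i ∈ Finset.range q, c (ι u) (c (ι u ^ (i + 1))⁻¹ v) = c (ι u ^ i)⁻¹ v := fun i _ => by
          rw [← MulAut.mul_apply, ← map_mul]
          congr 2
          rw [pow_succ, mul_inv_rev, mul_inv_cancel_left]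
        rw [Finset.prod_range_succ, huq, pow_zero, Finset.prod_congr rfl e3, mul_left_inj] at e2
        exact e2
      refine mul_left_cancel₀ hqk ?_
      rw [dRep_apply, key, key v]
      congr 2
      have hcx : ∀ i : ℕ, c (ι u ^ i)⁻¹ (c x⁻¹ v) = c x⁻¹ (c (ι u ^ i)⁻¹ v) := fun i => by
        rw [← MulAut.mul_apply, ← map_mul, ← MulAut.mul_apply, ← map_mul]
        congr 2
        exact ((hux.pow_left i).inv_inv).eq
      simp only [hcx, ← map_prod]
      exact hRV u huQ hu1 x⁻¹ (inv_mem hx) hux.inv_right _ (hfix v)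
    have e := congrArg (eigProj ρ μ) hxs
    rw [← eigProj_comm ρ μ (ρ x) (fun z hz v => by
      rw [← rep_mul_apply, ← rep_mul_apply, (hZc z hz x hx).eq]) s] at e
    have hproj : eigProj ρ μ s = (Fintype.card Z : k) • f := by
      rw [hs, map_sum, Finset.sum_eq_single 0, pow_zero, map_one, Module.End.one_apply,
        eigProj_self ρ hf]
      · intro i hi hi0
        refine eigProj_ne ρ (hf.map ρ (pow_mem (hnA u) i)) fun h => hu ?_
        have hmem : u ^ i ∈ S μ := hS.2 ((twist_congr (map_pow ι u i) _ _ μ).trans h.symm)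
        have hui : u ^ i ≠ 1 := by
          intro h1
          have h2 := orderOf_dvd_of_pow_eq_one h1
          rw [← Nat.card_zpowers, F.zpowers_eq huQ hu1, F.cardQ] at h2
          exact hi0 (Nat.eq_zero_of_dvd_of_lt h2 (Finset.mem_range.1 hi))
        exact (zpowers_le.2 hmem) (by rw [F.zpowers_eq (pow_mem huQ i) hui]; exact huQ)
      · exact fun h => absurd (Finset.mem_range.2 hq.pos) h
    rw [hproj, map_smul] at e
    exact smul_right_injective _ hZk e
  have hqn : ∀ n, r = 2 → q ≠ 2 ^ n + 1 := by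
    intro n hr2 hqn
    have h := F.dvd
    rw [hqn, Nat.add_sub_cancel] at h
    exact hrp (hr2.trans ((Nat.prime_dvd_prime_iff_eq hp Nat.prime_two).1 (hp.dvd_of_dvd_pow h)).symm)
  -- operators without fixed vectors on a weight space centralize `R` there
  have hnoFix : ∀ {μ : Z →* kˣ} {a : A₀}, a ∈ S μ → (∀ b ∈ S μ, b ∈ zpowers a) →
      ∀ f, IsEigen ρ Z μ f → ρ (ι a) f = f → f = 0 := by
    intro μ a _ hgen f hf hfa
    refine horb hf fun b hb => ?_
    obtain ⟨j, rfl⟩ := (Submonoid.mem_powers_iff _ _).1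
      ((isOfFinOrder_of_finite a).mem_powers_iff_mem_zpowers.2 (hgen b hb))
    induction j with
    | zero => rw [pow_zero, map_one, map_one]; rfl
    | succ m ih => rw [pow_succ, map_mul, rep_mul_apply, hfa, ih (pow_mem ‹a ∈ S μ› m)]
  have hQkill : ∀ {μ : Z →* kˣ}, u ∈ S μ → ∀ x ∈ R, ∀ w ∈ Q,
      ∀ f, IsEigen ρ Z μ f → ρ (x * ι w * x⁻¹ * (ι w)⁻¹) f = f := by
    intro μ hu x hx w hw f hf
    by_cases hf0 : f = 0
    · rw [hf0, map_zero]
    by_cases hw1 : w = 1
    · rw [hw1, map_one, mul_one, inv_one, mul_one, mul_inv_cancel, map_one]; rfl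
    have hwS : w ∈ S μ := hQstab hu hw
    have hgen : ∀ b ∈ S μ, b ∈ zpowers w := fun b hb => by
      rw [F.zpowers_eq hw hw1]; exact hnotQ hf hf0 hu b hb
    set H := charStab Z μ with hH
    have hRH : R ≤ H := fun y hy => commute_mem_charStab μ fun z => (hZc z z.2 y hy).symm
    rcases hh_eigen ρ R Z μ hr hRp hrk hq hqk hrq hRH (ι w)
        (by rw [← map_pow, show w ^ q = 1 from orderOf_dvd_iff_pow_eq_one.1
          (F.cardQ ▸ Subgroup.orderOf_dvd_natCard Q hw), map_one])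
        (hAR w) hwS hcomR (fun g hg => hnoFix hwS hgen g hg) with h | h
    · rw [show x * ι w * x⁻¹ * (ι w)⁻¹ = x * (ι w * x⁻¹ * (ι w)⁻¹) by group, rep_mul_apply,
        h _ (inv_mem hx) f hf, rep_apply_inv]
    · obtain ⟨n, hr2, hq2⟩ := h
      exact absurd hq2 (hqn n hr2)
  -- kernels
  set Qι : Subgroup N := Q.map ι with hQι
  have hQιR : Qι ≤ normalizer (R : Set N) := by rintro _ ⟨w, -, rfl⟩; exact hAR w
  have hQιT : Qι ≤ normalizer (T : Set N) := by rintro _ ⟨w, -, rfl⟩; exact hAT w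
  have hAQ : AI ≤ normalizer (Qι : Set N) := by
    rintro _ ⟨a, rfl⟩
    rw [mem_normalizer_iff]
    have key : ∀ (a : A₀) (z : N), z ∈ Qι → ι a * z * (ι a)⁻¹ ∈ Qι := by
      rintro a _ ⟨w, hw, rfl⟩
      exact ⟨a * w * a⁻¹, hQn.conj_mem w hw a, by simp⟩
    refine fun z => ⟨key a z, fun hz => ?_⟩
    have := key a⁻¹ _ hz
    simpa [mul_assoc] using this
  have hcopQR : (Nat.card Qι).Coprime (Nat.card R) := by
    refine Nat.Coprime.coprime_dvd_left (card_map_dvd _ _) ?_
    rw [F.cardQ, hiR]; exact ((Nat.coprime_primes hq hr).2 hrq.symm).pow_right _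
  have hcopQT : (Nat.card Qι).Coprime (Nat.card T) := by
    refine Nat.Coprime.coprime_dvd_left (card_map_dvd _ _) ?_
    rw [F.cardQ, hjT]; exact ((Nat.coprime_primes hq ht).2 htq.symm).pow_right _
  have hCu : ∀ {x : N}, x ∈ centralizer (Qι : Set N) ↔ Commute (ι u) x := by
    intro x
    refine ⟨fun h => mem_centralizer_iff.1 h _ ⟨u, huQ, rfl⟩, fun h => mem_centralizer_iff.2 ?_⟩
    rintro _ ⟨w, hw, rfl⟩
    exact hcu h w hw
  set CR := R ⊓ centralizer (Qι : Set N) with hCR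
  set CT := T ⊓ centralizer (Qι : Set N) with hCT
  have hRdec : ⁅R, Qι⁆ ⊔ CR = R := Coprime.commutator_sup_centralizer hQιR hcopQR (Or.inr hRsolv)
  have hTdec : ⁅T, Qι⁆ ⊔ CT = T := Coprime.commutator_sup_centralizer hQιT hcopQT (Or.inr hTsolv)
  have hRQle : ⁅R, Qι⁆ ≤ R := le_sup_left.trans hRdec.le
  have hTQle : ⁅T, Qι⁆ ≤ T := le_sup_left.trans hTdec.le
  have hTcen : ∀ {K : Subgroup N}, T ≤ centralizer (K : Set N) → K ≤ centralizer (T : Set N) :=
    fun {K} h => le_centralizer_iff.1 h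
  have hexists : ∃ (μ : Z →* kˣ) (f : Additive V →+ k), f ≠ 0 ∧ IsEigen ρ Z μ f := by
    obtain ⟨v, hv⟩ := exists_ne (1 : V)
    obtain ⟨g, hg⟩ := exists_addHom_ne_zero hV k hv
    obtain ⟨μ, f, -, hf0, hf⟩ := exists_eigen ρ hYc (U := (⊤ : Submodule k (Additive V →+ k)))
      (fun _ _ _ _ => Submodule.mem_top) (fun e => hg (by
        have hmem : g ∈ (⊥ : Submodule k (Additive V →+ k)) := e ▸ Submodule.mem_top
        rw [Submodule.mem_bot] at hmem
        rw [hmem]; rfl))
    exact ⟨μ, f, hf0, hf⟩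
  -- `R` cannot fix a weight space pointwise
  have hRker : ∀ {μ : Z →* kˣ} {f}, IsEigen ρ Z μ f → (∀ x ∈ R, ρ x f = f) → f = 0 := by
    intro μ f hf h
    by_contra hf0
    refine hf0 (hone f fun z => ?_)
    rw [h _ (mem_inf.1 z.2).1, MonoidHom.one_apply, Units.val_one, one_smul]
  by_cases hTCQ : T ≤ centralizer (Qι : Set N)
  · -- `T` centralises `Q`
    have hTu : ∀ y ∈ T, Commute (ι u) y := fun y hy => hCu.1 (hTCQ hy)
    have hCRT : T ≤ centralizer (CR : Set N) := fun y hy => mem_centralizer_iff.2 fun x hx =>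
      (hRT u huQ hu1 x (mem_inf.1 hx).1 y hy (hCu.1 (mem_inf.1 hx).2) (hTu y hy)).eq
    have hRQ : ⁅R, Qι⁆ = R := by
      by_contra h
      refine hne (le_centralizer_iff.2 ?_)
      rw [← hRdec]
      refine sup_le (hTcen (hR1 _ hRQle h (fun a => le_normalizer_commutator (hAI_le hAR) hAQ ⟨a, rfl⟩)
        (le_normalizer_commutator hTR (hTCQ.trans (centralizer_le_normalizer _))))) (hTcen hCRT)
    have hnoQ : ∀ {μ : Z →* kˣ} {f}, IsEigen ρ Z μ f → f ≠ 0 → u ∉ S μ := by
      intro μ f hf hf0 hu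
      refine hf0 (hRker hf fun x hx => ?_)
      have hle : ⁅R, Qι⁆ ≤ eigKer ρ R Z (fun ν => ν = μ) := by
        rw [commutator_le]
        rintro x hx _ ⟨w, hw, rfl⟩
        rw [commutatorElement_def]
        refine ⟨?_, fun ν hν g hg => hQkill hu x hx w hw g (hν ▸ hg)⟩
        rw [show x * ι w * x⁻¹ * (ι w)⁻¹ = x * (ι w * x⁻¹ * (ι w)⁻¹) by group]
        exact mul_mem hx ((mem_normalizer_iff.1 (hAR w) _).1 (inv_mem hx))
      exact (hle (hRQ.ge hx)).2 μ rfl f hf
    obtain ⟨μ, f, hf0, hf⟩ := hexists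
    obtain ⟨a, haQ, haS, hgen⟩ := hnonQ hf hf0 (hnoQ hf hf0)
    -- `y ↦ y⁻¹ a y a⁻¹` is onto `T`
    have hsurj : ∀ y ∈ T, ∃ z ∈ T, y = z⁻¹ * (ι a * z * (ι a)⁻¹) := by
      let φ : T → T := fun z => ⟨(z : N)⁻¹ * (ι a * z * (ι a)⁻¹),
        mul_mem (inv_mem z.2) ((mem_normalizer_iff.1 (hAT a) _).1 z.2)⟩
      have hφ : Function.Injective φ := by
        intro y z hyz
        have e : (y : N)⁻¹ * (ι a * y * (ι a)⁻¹) = (z : N)⁻¹ * (ι a * z * (ι a)⁻¹) := congrArg Subtype.val hyz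
        have e2 : ι a * ((z : N) * (y : N)⁻¹) = ((z : N) * (y : N)⁻¹) * ι a := by
          calc ι a * ((z : N) * (y : N)⁻¹) =
                (z : N) * ((z : N)⁻¹ * (ι a * z * (ι a)⁻¹)) * ((y : N)⁻¹ * (ι a * y * (ι a)⁻¹))⁻¹ *
                  (y : N)⁻¹ * ι a := by group
            _ = _ := by rw [← e]; group
        have hzy : (z : N) * (y : N)⁻¹ ∈ T := mul_mem z.2 (inv_mem y.2)
        have h1 : (z : N) * (y : N)⁻¹ = 1 := hTA _ hzy fun b => by
          let Sc : Subgroup A₀ := (centralizer ({(z : N) * (y : N)⁻¹} : Set N)).comap ι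
          have htop : Sc = ⊤ := F.eq_top huQ hu1
            (mem_centralizer_singleton_iff.2 (hTu _ hzy).eq) haQ (mem_centralizer_singleton_iff.2 e2)
          exact mem_centralizer_singleton_iff.1 (show b ∈ Sc from htop ▸ mem_top b)
        exact Subtype.ext (mul_inv_eq_one.1 h1).symm
      intro y hy
      obtain ⟨z, hz⟩ := (Finite.injective_iff_surjective.1 hφ) ⟨y, hy⟩
      exact ⟨z, z.2, (congrArg Subtype.val hz).symm⟩
    -- `T` fixes the weight
    set H := charStab Z μ with hH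
    have hTH : T ≤ H := by
      intro y hy
      obtain ⟨z, hz, rfl⟩ := hsurj y hy
      have hzY : z ∈ normalizer (Z : Set N) := hnZ _ (hTR hz)
      have hfz : IsEigen ρ Z (twist Z hzY μ) (ρ z f) := hf.map ρ hzY
      have hfz0 : ρ z f ≠ 0 := fun e => hf0 (rep_injective ρ z (e.trans (map_zero _).symm))
      obtain ⟨b, hbQ, hbS, -⟩ := hnonQ hfz hfz0 (hnoQ hfz hfz0)
      obtain ⟨j, w, hw, hj⟩ := F.exists_pow hbQ a
      have h1 : z⁻¹ * ι (w * a) * z ∈ H :=
        mem_charStab_twist hzY (show ι (w * a) ∈ charStab Z (twist Z hzY μ) from hj ▸ pow_mem hbS j)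
      set y' := z⁻¹ * (ι a * z * (ι a)⁻¹) with hy'
      have hwz : Commute (ι w) z := hcu (hTu z hz) w hw
      have h2 : ι w * y' ∈ H := by
        have h3 := mul_mem h1 (inv_mem (show ι a ∈ H from haS))
        rwa [show z⁻¹ * ι (w * a) * z * (ι a)⁻¹ = ι w * y' by
          calc z⁻¹ * ι (w * a) * z * (ι a)⁻¹ = (z⁻¹ * ι w) * (ι a * z * (ι a)⁻¹) := by
                rw [map_mul]; group
            _ = (ι w * z⁻¹) * (ι a * z * (ι a)⁻¹) := by rw [(hwz.inv_right).eq]
            _ = ι w * y' := by rw [hy', mul_assoc]] at h3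
      have hw1 : w = 1 := by
        have h4 := pow_mem h2 (Nat.card T)
        rw [((hcu (hTu y' hy) w hw)).mul_pow,
          show y' ^ Nat.card T = 1 from congrArg Subtype.val (pow_card_eq_one' (x := (⟨y', hy⟩ : T))),
          mul_one, ← map_pow] at h4
        by_contra hw1
        have hcq : (orderOf w).Coprime (Nat.card T) := by
          refine Nat.Coprime.coprime_dvd_left (F.cardQ ▸ Subgroup.orderOf_dvd_natCard Q hw) ?_
          rw [hjT]; exact ((Nat.coprime_primes hq ht).2 htq.symm).pow_right _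
        have hne1 : w ^ Nat.card T ≠ 1 := fun e => hw1 (orderOf_eq_one_iff.1
          (Nat.eq_one_of_dvd_coprimes hcq dvd_rfl (orderOf_dvd_of_pow_eq_one e)))
        refine hnoQ hf hf0 ((zpowers_le.2 (show w ^ Nat.card T ∈ S μ from h4)) ?_)
        rw [F.zpowers_eq (pow_mem hw _) hne1]
        exact huQ
      rw [hw1, map_one, one_mul] at h2
      exact h2
    have hRH : R ≤ H := fun y hy => commute_mem_charStab μ fun z => (hZc z z.2 y hy).symm
    have hcE := frob_eigen ρ R T Z μ hr hRp hrk hp hpk hrp hRH hTH (ι a)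
      (by rw [← map_pow, F.pow_out a haQ, map_one]) (hAR a) (hAT a) haS hTR
      (by
        rw [hjT]
        exact fun h => hrt ((Nat.prime_dvd_prime_iff_eq hr ht).1 (hr.dvd_of_dvd_pow h)))
      hTab hsurj hRTeq.le hcomR hpowR (fun g hg => hnoFix haS hgen g hg)
    have hTfix : ∀ y ∈ T, ∀ x ∈ R, ∀ g, IsEigen ρ Z μ g → ρ (y * x * y⁻¹) g = ρ x g := by
      intro y hy x hx g hg
      obtain ⟨z, hz, rfl⟩ := hsurj y hy
      set x₁ := (ι a)⁻¹ * x * ι a with hx₁
      have hx₁R : x₁ ∈ R := (mem_normalizer_iff''.1 (hAR a) _).1 hx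
      have hx₂R : z * x₁ * z⁻¹ ∈ R := (mem_normalizer_iff.1 (hTR hz) _).1 hx₁R
      have e1 : ∀ g, IsEigen ρ Z μ g → ρ x₁ g = ρ x g := fun g hg => by
        rw [← hcE x₁ hx₁R g hg, show ι a * x₁ * (ι a)⁻¹ = x by rw [hx₁]; group]
      have hzg : IsEigen ρ Z μ (ρ z g) := eigSpace_invariant ρ z (hTH hz) g hg
      have hxg : IsEigen ρ Z μ (ρ x g) := eigSpace_invariant ρ x (hRH hx) g hg
      rw [show z⁻¹ * (ι a * z * (ι a)⁻¹) * x * (z⁻¹ * (ι a * z * (ι a)⁻¹))⁻¹ =
        z⁻¹ * ((ι a * (z * x₁ * z⁻¹) * (ι a)⁻¹) * z) by rw [hx₁]; group, rep_mul_apply, rep_mul_apply,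
        hcE _ hx₂R _ hzg, rep_mul_apply, rep_mul_apply, rep_inv_apply, rep_inv_apply, e1 g hg]
    have hle : ⁅R, T⁆ ≤ eigKer ρ R Z (fun ν => ν = μ) := by
      rw [commutator_le]
      intro x hx y hy
      rw [commutatorElement_def]
      refine ⟨commutator_mem_of_mem_normalizer hTR hx hy, fun ν hν g hg => ?_⟩
      rw [show x * y * x⁻¹ * y⁻¹ = x * (y * x⁻¹ * y⁻¹) by group, rep_mul_apply,
        hTfix y hy _ (inv_mem hx) g (hν ▸ hg), rep_apply_inv]
    exact hf0 (hRker hf fun x hx => (hle (hRTeq.le hx)).2 μ rfl f hf)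
  · -- `T = [T, Q]`
    have hCTne : CT ≠ T := fun e => hTCQ (e ▸ inf_le_right)
    have hQA : ∀ a, ι a ∈ normalizer ((centralizer (Qι : Set N) : Subgroup N) : Set N) := fun a =>
      Coprime.normalizer_le_normalizer_centralizer Qι (hAQ ⟨a, rfl⟩)
    have hCTR : CT ≤ centralizer (R : Set N) := hT1 _ inf_le_left hCTne fun a =>
      Coprime.inf_le_normalizer (hAI_le hAT) (hAI_le hQA) ⟨a, rfl⟩
    have hTQ : ⁅T, Qι⁆ = T := by
      by_contra h
      refine hne ?_
      rw [← hTdec]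
      exact sup_le (hT1 _ hTQle h fun a => le_normalizer_commutator (hAI_le hAT) hAQ ⟨a, rfl⟩) hCTR
    -- the type of a weight is constant along `T`
    have hconst : ∀ {μ : Z →* kˣ} {f}, IsEigen ρ Z μ f → f ≠ 0 → u ∈ S μ → ∀ y (hy : y ∈ T),
        u ∈ S (twist Z (hnZ _ (hTR hy)) μ) := by
      intro μ f hf hf0 hu y hy
      have hfy : IsEigen ρ Z (twist Z (hnZ _ (hTR hy)) μ) (ρ y f) := hf.map ρ (hnZ _ (hTR hy))
      have hfy0 : ρ y f ≠ 0 := fun e => hf0 (rep_injective ρ y (e.trans (map_zero _).symm))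
      by_contra huy
      obtain ⟨b, hbQ, hbS, -⟩ := hnonQ hfy hfy0 huy
      set Ht := T ⊓ charStab Z μ with hHt
      have hQμ : Qι ≤ charStab Z μ := by
        rintro _ ⟨w, hw, rfl⟩
        exact hQstab hu hw
      have hQHt : Qι ≤ normalizer (Ht : Set N) :=
        Coprime.inf_le_normalizer hQιT (hQμ.trans le_normalizer)
      -- the `Q`-fixed point of the orbit is unique
      have hHtn : T ≤ normalizer (Ht : Set N) := by
        intro z hz
        have key : ∀ z ∈ T, ∀ g ∈ Ht, z * g * z⁻¹ ∈ Ht := by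
          intro z hz g hg
          obtain ⟨hgT, hgH⟩ := mem_inf.1 hg
          rw [show z * g * z⁻¹ = z * g * z⁻¹ * g⁻¹ * g by group]
          refine mem_inf.2 ⟨mul_mem (mul_mem (mul_mem (mul_mem hz hgT) (inv_mem hz)) (inv_mem hgT)) hgT,
            mul_mem (commute_mem_charStab μ fun v => ?_) hgH⟩
          exact hTab z hz g hgT v (mem_inf.1 v.2).1
        rw [mem_normalizer_iff]
        refine fun g => ⟨key z hz g, fun hg => ?_⟩
        have := key z⁻¹ (inv_mem hz) _ hg
        simpa [mul_assoc] using this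
      have huniq : ∀ g ∈ T, (∀ w ∈ Qι, g⁻¹ * w * g ∈ charStab Z μ) → g ∈ charStab Z μ := by
        intro g hg hgQ
        obtain ⟨n, hn, hc'⟩ := Coprime.exists_fixed_in_coset hQHt
          (hcopQT.coprime_dvd_right (card_dvd_of_le inf_le_left))
          (Or.inr (Coprime.isSolvable_of_isNilpotent (hTp.to_le inf_le_left).isNilpotent)) (hHtn hg)
          (fun w hw => by
            have h1 : g⁻¹ * w * g * w⁻¹ ∈ Ht := by
              refine mem_inf.2 ⟨?_, mul_mem (hgQ w hw) (inv_mem (hQμ hw))⟩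
              rw [show g⁻¹ * w * g * w⁻¹ = g⁻¹ * (w * g * w⁻¹) by group]
              exact mul_mem (inv_mem hg) ((mem_normalizer_iff.1 (hQιT hw) g).1 hg)
            have h2 := (mem_normalizer_iff.1 (hHtn hg) _).1 h1
            rwa [show g * (g⁻¹ * w * g * w⁻¹) * g⁻¹ = w * g * w⁻¹ * g⁻¹ by group] at h2)
        have hgn : g * n ∈ charStab Z μ := commute_mem_charStab μ fun v =>
          (mem_centralizer_iff.1 (hCTR (mem_inf.2 ⟨mul_mem hg (mem_inf.1 hn).1, hc'⟩)) v
            (mem_inf.1 v.2).1).symm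
        have := mul_mem hgn (inv_mem (mem_inf.1 hn).2)
        rwa [mul_inv_cancel_right] at this
      have hyby : y⁻¹ * ι b * y ∈ charStab Z μ := mem_charStab_twist (hnZ _ (hTR hy)) hbS
      set y₂ := ι b * y⁻¹ * (ι b)⁻¹ * y with hy₂
      have hy₂T : y₂ ∈ T := mul_mem ((mem_normalizer_iff.1 (hAT b) _).1 (inv_mem hy)) hy
      have hy₂H : y₂ ∈ charStab Z μ := huniq y₂ hy₂T fun w hw => by
        have hw' : (ι b)⁻¹ * w * ι b ∈ Qι := (mem_normalizer_iff''.1 (hAQ ⟨b, rfl⟩) w).1 hw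
        rw [show y₂⁻¹ * w * y₂ = (y⁻¹ * ι b * y) * ((ι b)⁻¹ * w * ι b) * (y⁻¹ * ι b * y)⁻¹ by
          rw [hy₂]; group]
        exact mul_mem (mul_mem hyby (hQμ hw')) (inv_mem hyby)
      have hb : b ∈ S μ := by
        have := mul_mem hy₂H hyby
        rwa [show y₂ * (y⁻¹ * ι b * y) = ι b by rw [hy₂]; group] at this
      exact hbQ (hnotQ hf hf0 hu b hb)
    -- the two kernels
    have hPu : ∀ (μ : Z →* kˣ) (g : A₀) (h : u ∈ S μ), u ∈ S (twist Z (hnA g) μ) := by
      intro μ g h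
      have hc : g⁻¹ * u * g ∈ S μ :=
        hQstab h (by simpa using hQn.conj_mem u huQ g⁻¹)
      refine hS.2 ?_
      rw [twist_twist, twist_congr (show ι u * ι g = ι g * ι (g⁻¹ * u * g) by
        rw [← map_mul, ← map_mul]; group) _ (mul_mem (hnA g) (hnA _)), ← twist_twist (hnA g) (hnA _),
        hS.1 hc]
    let PQ : (Z →* kˣ) → Prop := fun μ => u ∈ S μ ∧ ∃ f, f ≠ 0 ∧ IsEigen ρ Z μ f
    let PN : (Z →* kˣ) → Prop := fun μ => u ∉ S μ ∧ ∃ f, f ≠ 0 ∧ IsEigen ρ Z μ f
    have hexT : ∀ {μ : Z →* kˣ} {g : N} (hg : g ∈ normalizer (Z : Set N)),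
        (∃ f, f ≠ 0 ∧ IsEigen ρ Z μ f) → ∃ f, f ≠ 0 ∧ IsEigen ρ Z (twist Z hg μ) f :=
      fun {μ g} hg ⟨f, hf0, hf⟩ => ⟨ρ g f, fun e => hf0 (rep_injective ρ g (e.trans (map_zero _).symm)),
        hf.map ρ hg⟩
    have hback : ∀ {μ : Z →* kˣ} {g : N} (hg : g ∈ normalizer (Z : Set N)),
        twist Z (inv_mem hg) (twist Z hg μ) = μ := fun {μ g} hg => by
      rw [twist_twist, twist_congr (inv_mul_cancel g) _ (one_mem _), twist_one]
    have hPQA : ∀ a μ, PQ μ → PQ (twist Z (hnA a) μ) := fun a μ h => ⟨hPu μ a h.1, hexT _ h.2⟩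
    have hPQT : ∀ y (hy : y ∈ T) μ, PQ μ → PQ (twist Z (hnZ _ (hTR hy)) μ) := fun y hy μ h => by
      obtain ⟨hu, f, hf0, hf⟩ := h
      exact ⟨hconst hf hf0 hu y hy, hexT _ ⟨f, hf0, hf⟩⟩
    have hPNA : ∀ a μ, PN μ → PN (twist Z (hnA a) μ) := fun a μ h => ⟨fun h' => h.1 (by
      have := hPu _ a⁻¹ h'
      rwa [twist_congr (map_inv ι a) _ (inv_mem (hnA a)), hback] at this), hexT _ h.2⟩
    have hPNT : ∀ y (hy : y ∈ T) μ, PN μ → PN (twist Z (hnZ _ (hTR hy)) μ) := fun y hy μ h =>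
      ⟨fun h' => h.1 (by
        obtain ⟨f, hf0, hf⟩ := hexT (hnZ _ (hTR hy)) h.2
        have := hconst hf hf0 h' y⁻¹ (inv_mem hy)
        rwa [hback (hnZ _ (hTR hy))] at this), hexT _ h.2⟩
    have hnorm : ∀ (P : (Z →* kˣ) → Prop), (∀ a μ, P μ → P (twist Z (hnA a) μ)) →
        (∀ y (hy : y ∈ T) μ, P μ → P (twist Z (hnZ _ (hTR hy)) μ)) →
        (∀ a, ι a ∈ normalizer (eigKer ρ R Z P : Set N)) ∧ T ≤ normalizer (eigKer ρ R Z P : Set N) := by
      intro P hA hT
      refine ⟨fun a => mem_normalizer_eigKer ρ (hAR a) (hnA a) (hA a) fun μ h => ?_,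
        fun y hy => mem_normalizer_eigKer ρ (hTR hy) (hnZ _ (hTR hy)) (hT y hy) fun μ h => ?_⟩
      · have := hA a⁻¹ μ h
        rwa [twist_congr (map_inv ι a) _ (inv_mem (hnA a))] at this
      · exact hT y⁻¹ (inv_mem hy) μ h
    set K1 := eigKer ρ R Z PQ with hK1
    set K2 := eigKer ρ R Z PN with hK2
    have hK1R : K1 ≤ R := fun x hx => hx.1
    have hK2R : K2 ≤ R := fun x hx => hx.1
    have hRQK : ⁅R, Qι⁆ ≤ K1 := by
      rw [commutator_le]
      rintro x hx _ ⟨w, hw, rfl⟩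
      rw [commutatorElement_def]
      refine ⟨?_, fun ν hν g hg => hQkill hν.1 x hx w hw g hg⟩
      rw [show x * ι w * x⁻¹ * (ι w)⁻¹ = x * (ι w * x⁻¹ * (ι w)⁻¹) by group]
      exact mul_mem hx ((mem_normalizer_iff.1 (hAR w) _).1 (inv_mem hx))
    have hCRK : CR ≤ K2 := fun x hx => ⟨(mem_inf.1 hx).1, fun ν hν g hg =>
      hkill hν.1 x (mem_inf.1 hx).1 (hCu.1 (mem_inf.1 hx).2) g hg⟩
    by_cases hK2' : K2 = R
    · -- every weight is fixed by `Q`
      have hall : ∀ {μ : Z →* kˣ} {f}, IsEigen ρ Z μ f → f ≠ 0 → u ∈ S μ := fun {μ f} hf hf0 => by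
        by_contra hu
        exact hf0 (hRker hf fun x hx => (hK2'.ge hx).2 μ ⟨hu, f, hf0, hf⟩ f hf)
      have hRQ1 : ⁅R, Qι⁆ = ⊥ := by
        rw [eq_bot_iff]
        intro x hx
        rw [mem_bot]
        refine hfaith x (hRQle hx) (eq_one_of_dRep (k := k) hV c (sub_eq_zero.1
          (eq_zero_of_forall_eigen ρ hYc hZk (ρ x - 1) (fun z hz v => ?_) fun μ f hf => ?_)))
        · simp only [LinearMap.sub_apply, Module.End.one_apply, map_sub]
          rw [← rep_mul_apply, ← rep_mul_apply, (hZc z hz x (hRQle hx)).eq]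
        · rw [LinearMap.sub_apply, Module.End.one_apply, sub_eq_zero]
          by_cases hf0 : f = 0
          · rw [hf0, map_zero]
          exact (hRQK hx).2 μ ⟨hall hf hf0, f, hf0, hf⟩ f hf
      refine hne ?_
      rw [← commutator_eq_bot_iff_le_centralizer, ← hTQ]
      refine commutator_commutator_eq_bot_of_rotate ?_ ?_
      · rw [commutator_comm Qι R, hRQ1, commutator_bot_left]
      · exact le_bot_iff.1 ((commutator_mono hRTle le_rfl).trans (le_of_eq hRQ1))
    by_cases hK1' : K1 = R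
    · -- `Q` fixes no weight, so it acts without fixed points on `R`
      have hall : ∀ {μ : Z →* kˣ} {f}, IsEigen ρ Z μ f → f ≠ 0 → u ∉ S μ := fun {μ f} hf hf0 hu =>
        hf0 (hRker hf fun x hx => (hK1'.ge hx).2 μ ⟨hu, f, hf0, hf⟩ f hf)
      have hCR1 : ∀ x ∈ R, Commute (ι u) x → x = 1 := by
        intro x hx hux
        refine hfaith x hx (eq_one_of_dRep (k := k) hV c (sub_eq_zero.1
          (eq_zero_of_forall_eigen ρ hYc hZk (ρ x - 1) (fun z hz v => ?_) fun μ f hf => ?_)))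
        · simp only [LinearMap.sub_apply, Module.End.one_apply, map_sub]
          rw [← rep_mul_apply, ← rep_mul_apply, (hZc z hz x hx).eq]
        · rw [LinearMap.sub_apply, Module.End.one_apply, sub_eq_zero]
          by_cases hf0 : f = 0
          · rw [hf0, map_zero]
          exact hkill (hall hf hf0) x hx hux f hf
      -- the Frattini quotient of `R`
      let M : Type u := R ⧸ frattini R
      haveI hFn : (frattini R).Normal := inferInstance
      letI : CommGroup M :=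
        { QuotientGroup.Quotient.group (frattini R) with
          mul_comm := fun a b => by
            obtain ⟨x, rfl⟩ := QuotientGroup.mk_surjective a
            obtain ⟨y, rfl⟩ := QuotientGroup.mk_surjective b
            refine (QuotientGroup.eq (s := frattini R)).2 ?_
            rw [show (x * y)⁻¹ * (y * x) = y⁻¹ * x⁻¹ * (y⁻¹)⁻¹ * (x⁻¹)⁻¹ by group,
              ← commutatorElement_def]
            exact Coprime.commutator_le_frattini hRp (commutator_mem_commutator (mem_top _) (mem_top _)) }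
      let π : R →* M := QuotientGroup.mk' _
      have hMr : ∀ m : M, m ^ r = 1 := fun m => by
        obtain ⟨x, rfl⟩ := QuotientGroup.mk_surjective m
        exact (QuotientGroup.eq_one_iff (x ^ r)).2 (Coprime.pow_mem_frattini hRp x)
      haveI : Finite M := Quotient.finite _
      let NR : Subgroup N := normalizer (R : Set N)
      let cM : NR →* MulAut M :=
        MonoidHom.mk' (fun g => QuotientGroup.congr _ _ (R.normalizerMonoidHom g)
          (Subgroup.characteristic_iff_map_eq.1 inferInstance (R.normalizerMonoidHom g)))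
          fun g h => MulEquiv.ext fun m => by
            obtain ⟨x, rfl⟩ := QuotientGroup.mk_surjective m
            show QuotientGroup.mk (R.normalizerMonoidHom (g * h) x) =
              QuotientGroup.mk (R.normalizerMonoidHom g (R.normalizerMonoidHom h x))
            rw [map_mul]; rfl
      let K := AlgebraicClosure (ZMod r)
      haveI : CharP K r := charP_of_injective_algebraMap (algebraMap (ZMod r) K).injective r
      obtain ⟨hfdM, -⟩ := finrank_addHom (V := M) hMr K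
      let ψ : NR →* Module.End K (Additive M →+ K) := dRep K cM
      let Y : Subgroup NR := T.subgroupOf NR
      haveI := Fintype.ofFinite Y
      have hY : ImgComm ψ Y := by
        intro y hy z hz
        have hcent : cM (y * z * y⁻¹ * z⁻¹) = 1 := by
          refine MulEquiv.ext fun m => ?_
          obtain ⟨x, rfl⟩ := QuotientGroup.mk_surjective m
          show π (R.normalizerMonoidHom (y * z * y⁻¹ * z⁻¹) x) = π x
          congr 1
          exact Subtype.ext (mul_inv_eq_iff_eq_mul.2 (hTab _ hy _ hz _ x.2).eq)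
        have h1 : ψ (y * z * y⁻¹ * z⁻¹) = 1 := LinearMap.ext fun f => AddMonoidHom.ext fun v => by
          show f (Additive.ofMul (cM (y * z * y⁻¹ * z⁻¹)⁻¹ v.toMul)) = f v
          rw [map_inv, hcent, inv_one]; rfl
        rw [show y * z = (y * z * y⁻¹ * z⁻¹) * (z * y) by group, map_mul, h1, one_mul]
      have hYK : (Fintype.card Y : K) ≠ 0 := by
        rw [Ne, CharP.cast_eq_zero_iff K r, ← Nat.card_eq_fintype_card,
          Nat.card_congr (subgroupOfEquivOfLe hTR).toEquiv, hjT]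
        exact fun h => hrt ((Nat.prime_dvd_prime_iff_eq hr ht).1 (hr.dvd_of_dvd_pow h))
      have hQT : ∀ y (hy : y ∈ T), ∀ w ∈ Q,
          ψ ⟨(ι w)⁻¹ * y * ι w, hTR ((mem_normalizer_iff''.1 (hAT w) y).1 hy)⟩ = ψ ⟨y, hTR hy⟩ := by
        intro y hy w hw
        by_cases hw1 : w = 1
        · exact congrArg ψ (Subtype.ext (by simp [hw1]))
        have hwq : (⟨ι w, hAR w⟩ : NR) ^ q = 1 := Subtype.ext (by
          show ι w ^ q = 1
          rw [← map_pow, show w ^ q = 1 from orderOf_dvd_iff_pow_eq_one.1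
            (F.cardQ ▸ Subgroup.orderOf_dvd_natCard Q hw), map_one])
        refine rep_conj_eq_of_noFixed ψ hY hYK hq (a := ⟨ι w, hAR w⟩) hwq
          (by rw [mem_normalizer_iff]; exact fun z => mem_normalizer_iff.1 (hAT w) (z : N))
          (fun f hf => ?_) (y := ⟨y, hTR hy⟩) hy
        let δ : R → R := fun x => (R.normalizerMonoidHom ⟨ι w, hAR w⟩⁻¹ x)⁻¹ * x
        have hδ : Function.Injective δ := by
          intro x x' h
          set σ := R.normalizerMonoidHom ⟨ι w, hAR w⟩⁻¹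
          have e : σ (x' * x⁻¹) = x' * x⁻¹ := by
            rw [map_mul, map_inv]
            calc σ x' * (σ x)⁻¹ = σ x' * ((σ x)⁻¹ * x) * x⁻¹ := by group
              _ = σ x' * ((σ x')⁻¹ * x') * x⁻¹ := by rw [show (σ x)⁻¹ * x = (σ x')⁻¹ * x' from h]
              _ = _ := by group
          have e' : (ι w)⁻¹ * ((x' * x⁻¹ : R) : N) * ((ι w)⁻¹)⁻¹ = ((x' * x⁻¹ : R) : N) :=
            congrArg Subtype.val e
          have hcw : Commute (ι w)⁻¹ ((x' * x⁻¹ : R) : N) := mul_inv_eq_iff_eq_mul.1 e'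
          have hcu' : Commute (ι u) ((x' * x⁻¹ : R) : N) := by
            obtain ⟨m, hm⟩ := mem_zpowers_iff.1
              (show u ∈ zpowers w by rw [F.zpowers_eq hw hw1]; exact huQ)
            rw [← hm, map_zpow]
            exact (Commute.inv_left_iff.1 hcw).zpow_left m
          exact (mul_inv_eq_one.1 (Subtype.ext (hCR1 _ (x' * x⁻¹ : R).2 hcu'))).symm
        refine AddMonoidHom.ext fun v => ?_
        obtain ⟨x, hx⟩ := QuotientGroup.mk_surjective (Additive.toMul v)
        obtain rfl : v = Additive.ofMul (π x) := congrArg Additive.ofMul hx.symm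
        obtain ⟨z, rfl⟩ := (Finite.injective_iff_surjective.1 hδ) x
        have e := DFunLike.congr_fun hf (Additive.ofMul (π z))
        rw [dRep_apply] at e
        rw [map_mul, map_inv, ofMul_mul, map_add, ofMul_inv, map_neg, AddMonoidHom.zero_apply,
          neg_add_eq_zero]
        exact e
      let KT : Subgroup N :=
        { carrier := {y | ∃ h : y ∈ NR, y ∈ T ∧ ψ ⟨y, h⟩ = 1}
          one_mem' := ⟨one_mem _, one_mem _, map_one ψ⟩
          mul_mem' := fun {a b} ⟨ha, haT, ha'⟩ ⟨hb, hbT, hb'⟩ => ⟨mul_mem ha hb, mul_mem haT hbT, by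
            rw [show (⟨a * b, mul_mem ha hb⟩ : NR) = ⟨a, ha⟩ * ⟨b, hb⟩ from rfl, map_mul, ha', hb', one_mul]⟩
          inv_mem' := fun {a} ⟨ha, haT, ha'⟩ => ⟨inv_mem ha, inv_mem haT, by
            have h := map_mul ψ ⟨a, ha⟩⁻¹ ⟨a, ha⟩
            rw [inv_mul_cancel, map_one, ha', mul_one] at h
            exact h.symm⟩ }
      have hTKT : ⁅T, Qι⁆ ≤ KT := by
        rw [commutator_le]
        rintro y hy _ ⟨w, hw, rfl⟩
        rw [commutatorElement_def]
        have hmT : y * ι w * y⁻¹ * (ι w)⁻¹ ∈ T := by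
          rw [show y * ι w * y⁻¹ * (ι w)⁻¹ = y * (ι w * y⁻¹ * (ι w)⁻¹) by group]
          exact mul_mem hy ((mem_normalizer_iff.1 (hAT w) _).1 (inv_mem hy))
        refine ⟨hTR hmT, hmT, ?_⟩
        have h := hQT y⁻¹ (inv_mem hy) w⁻¹ (inv_mem hw)
        rw [show (⟨y * ι w * y⁻¹ * (ι w)⁻¹, hTR hmT⟩ : NR) = ⟨y, hTR hy⟩ *
          ⟨(ι w⁻¹)⁻¹ * y⁻¹ * ι w⁻¹, hTR ((mem_normalizer_iff''.1 (hAT w⁻¹) y⁻¹).1 (inv_mem hy))⟩ from
          Subtype.ext (by simp [mul_assoc]), map_mul, h, ← map_mul,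
          show (⟨y, hTR hy⟩ : NR) * ⟨y⁻¹, hTR (inv_mem hy)⟩ = 1 from Subtype.ext (mul_inv_cancel y), map_one]
      have hle : ⁅R, T⁆ ≤ Φ := by
        rw [commutator_le]
        intro x hx y hy
        rw [commutatorElement_def]
        obtain ⟨hyN, -, hy1⟩ := hTKT (hTQ.ge hy)
        have hc1 := eq_one_of_dRep (k := K) hMr cM hy1
        have h1 : π (R.normalizerMonoidHom ⟨y, hyN⟩ ⟨x, hx⟩⁻¹) = π ⟨x, hx⟩⁻¹ :=
          DFunLike.congr_fun hc1 (π ⟨x, hx⟩⁻¹)
        refine ⟨⟨x, hx⟩ * R.normalizerMonoidHom ⟨y, hyN⟩ ⟨x, hx⟩⁻¹, ?_, ?_⟩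
        · rw [SetLike.mem_coe, ← QuotientGroup.eq_one_iff]
          show π (⟨x, hx⟩ * _) = 1
          rw [map_mul, h1, map_inv, mul_inv_cancel]
        · show x * (y * x⁻¹ * y⁻¹) = _
          group
      exact absurd (hRTeq.le.trans hle) (not_le_of_gt hΦR)
    -- both kernels are proper
    refine hne (le_centralizer_iff.2 ?_)
    rw [← hRdec]
    obtain ⟨h1A, h1T⟩ := hnorm PQ hPQA hPQT
    obtain ⟨h2A, h2T⟩ := hnorm PN hPNA hPNT
    exact sup_le (hRQK.trans (hTcen (hR1 K1 hK1R hK1' h1A h1T)))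
      (hCRK.trans (hTcen (hR1 K2 hK2R hK2' h2A h2T)))

end Core

end CfsgLib.PGroup
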