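import Cfsg.Agent.Lib.Coprime.Action
import Mathlib.GroupTheory.PGroup
import Mathlib.GroupTheory.Perm.Cycle.Type

/-!
Nonabelian groups of order `p * q`.
-/

set_option autoImplicit false
set_option linter.style.haveILetI false
set_option linter.unusedSectionVars false

namespace CfsgLib.PGroup

open Subgroup

universe u

/-- The facts about a nonabelian group of order `p * q` with `p < q`. -/
structure PqFrame {A : Type u} [Group A] (p q : ℕ) (Q : Subgroup A) : Prop where
  hp : p.Prime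
  hq : q.Prime
  card : Nat.card A = p * q
  normal : Q.Normal
  cardQ : Nat.card Q = q
  dvd : p ∣ q - 1
  pow_out : ∀ a, a ∉ Q → a ^ p = 1
  fpf : ∀ a, a ∉ Q → ∀ x ∈ Q, Commute a x → x = 1

variable {A : Type u} [Group A] [Finite A] {p q : ℕ}

theorem not_isMulCommutative_of_orderOf_eq_card (hna : ¬ IsMulCommutative A) {a : A}
    (h : orderOf a = Nat.card A) : False := by
  apply hna
  haveI : IsCyclic A := isCyclic_of_orderOf_eq_card a h
  letI := IsCyclic.commGroup (α := A)
  exact ⟨⟨fun x y => mul_comm x y⟩⟩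

theorem exists_pqFrame (hp : p.Prime) (hq : q.Prime) (hA : Nat.card A = p * q)
    (hna : ¬ IsMulCommutative A) (hlt : p < q) : ∃ Q : Subgroup A, PqFrame p q Q := by
  haveI : Fact q.Prime := ⟨hq⟩
  haveI : Fact p.Prime := ⟨hp⟩
  obtain ⟨u, hu⟩ := exists_prime_orderOf_dvd_card' (G := A) q (hA ▸ dvd_mul_left q p)
  set Q := zpowers u with hQdef
  have hcQ : Nat.card Q = q := by rw [Nat.card_zpowers, hu]
  have hidx : Q.index = p := by
    have h := Q.card_mul_index
    rw [hcQ, hA, mul_comm p q] at h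
    exact mul_left_cancel₀ hq.ne_zero h
  have hmin : (Nat.card A).minFac = p := by
    refine le_antisymm (Nat.minFac_le_of_dvd hp.two_le (hA ▸ dvd_mul_right p q)) ?_
    have hm : Nat.card A ≠ 1 := by
      rw [hA]; intro h; exact hp.one_lt.ne' (Nat.eq_one_of_mul_eq_one_right h)
    have hd := Nat.minFac_dvd (Nat.card A)
    have hmp := Nat.minFac_prime hm
    rw [hA] at hd hmp ⊢
    rcases hmp.dvd_mul.1 hd with h | h
    · exact ((Nat.prime_dvd_prime_iff_eq hmp hp).1 h).ge
    · rw [(Nat.prime_dvd_prime_iff_eq hmp hq).1 h]; exact hlt.le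
  haveI hn : Q.Normal := Subgroup.normal_of_index_eq_minFac_card (hidx.trans hmin.symm)
  have hcop : Nat.Coprime p q := (Nat.coprime_primes hp hq).2 hlt.ne
  have hord : ∀ a, a ∉ Q → orderOf a = p := by
    intro a ha
    have hd : orderOf a ∣ p * q := hA ▸ orderOf_dvd_natCard a
    obtain ⟨b, c, hb, hc, hbc⟩ := Nat.dvd_mul.1 hd
    have h1 : a ∉ Q → ¬ p.Coprime (orderOf a) := fun ha hh => ha (by
      have hdp : orderOf (QuotientGroup.mk' Q a) ∣ p := by
        rw [← hidx]; exact orderOf_dvd_natCard _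
      have := Nat.eq_one_of_dvd_coprimes hh hdp (orderOf_map_dvd _ a)
      rwa [orderOf_eq_one_iff, QuotientGroup.mk'_apply, QuotientGroup.eq_one_iff] at this)
    rcases (Nat.dvd_prime hp).1 hb with rfl | rfl
    · exfalso
      rw [one_mul] at hbc
      exact h1 ha (hcop.coprime_dvd_right (hbc ▸ hc))
    rcases (Nat.dvd_prime hq).1 hc with rfl | rfl
    · rw [mul_one] at hbc; exact hbc.symm
    · exact (not_isMulCommutative_of_orderOf_eq_card hna (hA ▸ hbc.symm)).elim
  have hfpf : ∀ a, a ∉ Q → ∀ x ∈ Q, Commute a x → x = 1 := by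
    intro a ha x hx hc
    by_contra hx1
    have hxo : orderOf x = q := by
      have := hcQ ▸ Subgroup.orderOf_dvd_natCard Q hx
      exact ((Nat.dvd_prime hq).1 this).resolve_left (orderOf_eq_one_iff.not.2 hx1)
    refine not_isMulCommutative_of_orderOf_eq_card hna (a := a * x) ?_
    rw [hc.orderOf_mul_eq_mul_orderOf_of_coprime (by rw [hord a ha, hxo]; exact hcop), hord a ha, hxo, hA]
  refine ⟨Q, hp, hq, hA, hn, hcQ, ?_, fun a ha => hord a ha ▸ pow_orderOf_eq_one a, hfpf⟩
  -- fixed points of an element of order `p` on `Q`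
  obtain ⟨a, ha⟩ : ∃ a, a ∉ Q := by
    by_contra hc
    push Not at hc
    have : Q = ⊤ := (Subgroup.eq_top_iff' Q).2 hc
    rw [this, Subgroup.index_top] at hidx
    exact hp.one_lt.ne hidx
  let σ : Q ≃* Q :=
    { toFun := fun x => ⟨a * x * a⁻¹, hn.conj_mem _ x.2 a⟩
      invFun := fun x => ⟨a⁻¹ * x * a, by simpa using hn.conj_mem _ x.2 a⁻¹⟩
      left_inv := fun x => Subtype.ext (by simp [mul_assoc])
      right_inv := fun x => Subtype.ext (by simp [mul_assoc])
      map_mul' := fun x y => Subtype.ext (by simp [mul_assoc]) }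
  have hσn : ∀ (n : ℕ) (x : Q), (((σ ^ n : MulAut Q) x : Q) : A) = a ^ n * x * (a ^ n)⁻¹ := by
    intro n x
    induction n with
    | zero => simp
    | succ n ih =>
      rw [pow_succ', MulAut.mul_apply]
      show a * ((σ ^ n : MulAut Q) x : Q) * a⁻¹ = _
      rw [ih, pow_succ']
      group
  have hσp : (σ : MulAut Q) ^ p = 1 := MulEquiv.ext fun x => Subtype.ext (by
    rw [hσn, show a ^ p = 1 from hord a ha ▸ pow_orderOf_eq_one a]; simp)
  have hP : IsPGroup p (zpowers (σ : MulAut Q)) := by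
    obtain ⟨i, -, hi⟩ := (Nat.dvd_prime_pow hp).1
      (show orderOf (σ : MulAut Q) ∣ p ^ 1 by rw [pow_one]; exact orderOf_dvd_of_pow_eq_one hσp)
    exact IsPGroup.of_card (by rw [Nat.card_zpowers, hi])
  have hmod := hP.card_modEq_card_fixedPoints (α := Q)
  have h1 : Nat.card (MulAction.fixedPoints (zpowers (σ : MulAut Q)) Q) = 1 := by
    rw [Nat.card_eq_one_iff_unique]
    have key : ∀ x : MulAction.fixedPoints (zpowers (σ : MulAut Q)) Q, (x : Q) = 1 := fun x => by
      have h := congrArg Subtype.val (x.2 ⟨σ, mem_zpowers _⟩)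
      exact Subtype.ext (hfpf a ha _ (x : Q).2 (mul_inv_eq_iff_eq_mul.1 h))
    exact ⟨⟨fun x y => Subtype.ext ((key x).trans (key y).symm)⟩,
      ⟨⟨1, fun g => map_one (g : MulAut Q)⟩⟩⟩
  rw [hcQ, h1] at hmod
  exact (Nat.modEq_iff_dvd' hq.one_le).1 hmod.symm

namespace PqFrame

variable {Q : Subgroup A} (F : PqFrame p q Q)
include F

theorem orderOf_out {a : A} (ha : a ∉ Q) : orderOf a = p :=
  haveI : Fact p.Prime := ⟨F.hp⟩
  orderOf_eq_prime (F.pow_out a ha) fun h => ha (h ▸ one_mem Q)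

theorem zpowers_eq {u : A} (hu : u ∈ Q) (hu1 : u ≠ 1) : zpowers u = Q := by
  refine eq_of_le_of_card_ge (zpowers_le.2 hu) ?_
  rw [F.cardQ, Nat.card_zpowers]
  exact (((Nat.dvd_prime F.hq).1 (F.cardQ ▸ Subgroup.orderOf_dvd_natCard Q hu)).resolve_left
    (orderOf_eq_one_iff.not.2 hu1)).ge

theorem exists_mem : ∃ u ∈ Q, u ≠ 1 := by
  haveI : Nontrivial Q := Finite.one_lt_card_iff_nontrivial.1 (F.cardQ ▸ F.hq.one_lt)
  obtain ⟨u, hu⟩ := exists_ne (1 : Q)
  exact ⟨u, u.2, fun h => hu (Subtype.ext h)⟩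

theorem exists_not_mem : ∃ a, a ∉ Q := by
  by_contra hc
  push Not at hc
  have h := Subgroup.card_top (G := A)
  rw [← (Subgroup.eq_top_iff' Q).2 hc, F.cardQ, F.card] at h
  exact F.hp.one_lt.ne (Nat.eq_of_mul_eq_mul_right F.hq.pos ((one_mul q).trans h))

/-- A subgroup containing `u ≠ 1` of `Q` and an element outside `Q` is everything. -/
theorem eq_top {S : Subgroup A} {u a : A} (hu : u ∈ Q) (hu1 : u ≠ 1) (hus : u ∈ S) (ha : a ∉ Q)
    (has : a ∈ S) : S = ⊤ := by
  refine eq_top_of_card_eq S (Nat.dvd_antisymm S.card_subgroup_dvd_card ?_)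
  have h1 : q ∣ Nat.card S := by
    rw [← F.cardQ, ← F.zpowers_eq hu hu1]; exact card_dvd_of_le (zpowers_le.2 hus)
  have h2 : p ∣ Nat.card S := F.orderOf_out ha ▸ Subgroup.orderOf_dvd_natCard S has
  rw [F.card]
  refine Nat.Coprime.mul_dvd_of_dvd_of_dvd ((Nat.coprime_primes F.hp F.hq).2 fun h => ?_) h2 h1
  have h3 := F.dvd
  have h4 := F.hq.two_le
  rw [h] at h3
  have := Nat.le_of_dvd (by omega) h3
  omega

/-- Modulo `Q`, every element is a power of any element outside `Q`. -/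
theorem exists_pow {b : A} (hb : b ∉ Q) (a : A) : ∃ (j : ℕ), ∃ w ∈ Q, b ^ j = w * a := by
  haveI : Fact p.Prime := ⟨F.hp⟩
  haveI := F.normal
  have hidx : Nat.card (A ⧸ Q) = p := by
    have h := Q.card_mul_index
    rw [F.cardQ, F.card, mul_comm p q] at h
    exact mul_left_cancel₀ F.hq.ne_zero h
  have hmem := mem_powers_of_prime_card (g' := (QuotientGroup.mk a : A ⧸ Q)) hidx
    (g := (QuotientGroup.mk b : A ⧸ Q)) (fun h => hb ((QuotientGroup.eq_one_iff b).1 h))
  obtain ⟨j, hj⟩ := (Submonoid.mem_powers_iff _ _).1 hmem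
  refine ⟨j, b ^ j * a⁻¹, ?_, by group⟩
  rw [← QuotientGroup.eq_one_iff, QuotientGroup.mk_mul, QuotientGroup.mk_pow, hj, QuotientGroup.mk_inv,
    mul_inv_cancel]

end PqFrame

end CfsgLib.PGroup
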