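import Cfsg.Agent.Lib.PGroup.HallHighmanFrob
import Cfsg.Agent.Lib.PGroup.PqFrame
import Cfsg.Agent.Lib.Coprime.PGroupFrattini

/-!
Weight stabilisers and kernels for operator groups acting on dual modules.
-/

set_option autoImplicit false
set_option linter.style.haveILetI false
set_option linter.unusedSectionVars false

namespace CfsgLib.PGroup

open Subgroup

universe u v w

theorem dRep_sum_apply {N : Type u} [Group N] {V : Type w} [CommGroup V] {k : Type v} [Field k]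
    (c : N →* MulAut V) {ι : Type*} (s : Finset ι) (g : ι → N) (f : Additive V →+ k) (v : V) :
    (∑ i ∈ s, dRep k c (g i) f) (Additive.ofMul v) = f (Additive.ofMul (∏ i ∈ s, c (g i)⁻¹ v)) := by
  rw [AddMonoidHom.finsetSum_apply, ofMul_prod, map_sum]
  rfl

theorem eq_one_of_dRep {N : Type u} [Group N] {V : Type w} [CommGroup V] {k : Type} [Field k]
    {l : ℕ} [Fact l.Prime] [Algebra (ZMod l) k] (hV : ∀ v : V, v ^ l = 1) (c : N →* MulAut V) {n : N}
    (h : dRep k c n = 1) : c n = 1 := by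
  have h1 : c n⁻¹ = 1 := by
    refine MulEquiv.ext fun v => ?_
    by_contra hne
    obtain ⟨f, hf⟩ := exists_addHom_ne_zero hV k (v := c n⁻¹ v / v) fun hh => hne (div_eq_one.1 hh)
    apply hf
    rw [ofMul_div, map_sub, ← dRep_apply, h, Module.End.one_apply, sub_self]
  rwa [map_inv, inv_eq_one] at h1

variable {N : Type u} [Group N] {k : Type v} [Field k] {W : Type w} [AddCommGroup W] [Module k W]
  (ρ : N →* Module.End k W)

/-- The stabiliser of a character of `Y`. -/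
def charStab (Y : Subgroup N) (μ : Y →* kˣ) : Subgroup N where
  carrier := {n | ∃ hn : n ∈ normalizer (Y : Set N), twist Y hn μ = μ}
  one_mem' := ⟨one_mem _, twist_one _ μ⟩
  mul_mem' := fun {a b} ⟨ha, ha'⟩ ⟨hb, hb'⟩ => ⟨mul_mem ha hb, by rw [← twist_twist ha hb, hb', ha']⟩
  inv_mem' := fun {a} ⟨ha, ha'⟩ => ⟨inv_mem ha, by
    apply twist_injective ha
    rw [twist_twist, twist_congr (mul_inv_cancel a) _ (one_mem _), twist_one, ha']⟩

theorem mem_charStab {Y : Subgroup N} {μ : Y →* kˣ} {n : N} (hn : n ∈ normalizer (Y : Set N)) :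
    n ∈ charStab Y μ ↔ twist Y hn μ = μ := ⟨fun ⟨_, h⟩ => h, fun h => ⟨hn, h⟩⟩

theorem mem_charStab_twist {Y : Subgroup N} {μ : Y →* kˣ} {g n : N} (hg : g ∈ normalizer (Y : Set N))
    (h : n ∈ charStab Y (twist Y hg μ)) : g⁻¹ * n * g ∈ charStab Y μ := by
  obtain ⟨hn, hn'⟩ := h
  refine ⟨mul_mem (mul_mem (inv_mem hg) hn) hg, ?_⟩
  rw [← twist_twist (mul_mem (inv_mem hg) hn) hg, ← twist_twist (inv_mem hg) hn, hn', twist_twist,
    twist_congr (inv_mul_cancel g) _ (one_mem _), twist_one]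

theorem commute_mem_charStab {Y : Subgroup N} (μ : Y →* kˣ) {n : N} (h : ∀ y : Y, Commute n (y : N)) :
    n ∈ charStab Y μ := by
  have hn : n ∈ normalizer (Y : Set N) := by
    rw [mem_normalizer_iff]
    intro y
    constructor
    · intro hy
      rwa [(h ⟨y, hy⟩).eq, mul_inv_cancel_right]
    · intro hy
      have e := (h ⟨_, hy⟩).eq
      have e2 : n * y * n⁻¹ = y := by
        calc n * y * n⁻¹ = n⁻¹ * (n * (n * y * n⁻¹)) := by group
          _ = n⁻¹ * ((n * y * n⁻¹) * n) := by rw [e]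
          _ = y := by group
      rwa [e2] at hy
  exact ⟨hn, twist_of_commute hn h μ⟩

/-- The eigenvectors of `μ`. -/
def eigSpace (Y : Subgroup N) (μ : Y →* kˣ) : Submodule k W where
  carrier := {v | IsEigen ρ Y μ v}
  add_mem' := fun {a b} ha hb z => by rw [map_add, ha z, hb z, smul_add]
  zero_mem' := fun z => by rw [map_zero, smul_zero]
  smul_mem' := fun c v hv z => by rw [map_smul, hv z, smul_comm]

theorem eigSpace_invariant {Y : Subgroup N} {μ : Y →* kˣ} :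
    ∀ n ∈ charStab Y μ, ∀ v ∈ eigSpace ρ Y μ, ρ n v ∈ eigSpace ρ Y μ := by
  rintro n ⟨hn, hn'⟩ v hv
  have := hv.map ρ hn
  rwa [hn'] at this

/-- The elements of `R` fixing all eigenvectors of the characters in `P`. -/
def eigKer (R Y : Subgroup N) (P : (Y →* kˣ) → Prop) : Subgroup N where
  carrier := {x | x ∈ R ∧ ∀ μ, P μ → ∀ f, IsEigen ρ Y μ f → ρ x f = f}
  one_mem' := ⟨one_mem R, fun _ _ f _ => by rw [map_one]; rfl⟩
  mul_mem' := fun {a b} ha hb => ⟨mul_mem ha.1 hb.1, fun μ hμ f hf => by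
    rw [rep_mul_apply, hb.2 μ hμ f hf, ha.2 μ hμ f hf]⟩
  inv_mem' := fun {a} ha => ⟨inv_mem ha.1, fun μ hμ f hf => by
    apply rep_injective ρ a
    rw [rep_apply_inv, ha.2 μ hμ f hf]⟩

theorem mem_normalizer_eigKer {R Y : Subgroup N} {P : (Y →* kˣ) → Prop} {g : N}
    (hgR : g ∈ normalizer (R : Set N)) (hgY : g ∈ normalizer (Y : Set N))
    (hP : ∀ μ, P μ → P (twist Y hgY μ)) (hP' : ∀ μ, P μ → P (twist Y (inv_mem hgY) μ)) :
    g ∈ normalizer (eigKer ρ R Y P : Set N) := by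
  have key : ∀ g ∈ normalizer (R : Set N), ∀ hg : g⁻¹ ∈ normalizer (Y : Set N),
      (∀ μ, P μ → P (twist Y hg μ)) → ∀ x ∈ eigKer ρ R Y P, g * x * g⁻¹ ∈ eigKer ρ R Y P := by
    intro g hgR hg hP x hx
    refine ⟨(mem_normalizer_iff.1 hgR x).1 hx.1, fun μ hμ f hf => ?_⟩
    rw [rep_mul_apply, rep_mul_apply, hx.2 _ (hP μ hμ) _ (hf.map ρ hg), rep_apply_inv]
  rw [mem_normalizer_iff]
  refine fun x => ⟨key g hgR (inv_mem hgY) hP' x, fun hx => ?_⟩
  have h := key g⁻¹ (inv_mem hgR) (inv_mem (inv_mem hgY))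
    (fun μ hμ => by rw [twist_congr (inv_inv g) _ hgY]; exact hP μ hμ) _ hx
  simpa [mul_assoc] using h

variable [IsAlgClosed k] [FiniteDimensional k W] [Finite N]

/-- Theorem B on a weight space. -/
theorem hh_eigen (R Y : Subgroup N) (μ : Y →* kˣ) {r q : ℕ} (hr : r.Prime) (hRp : IsPGroup r R)
    (hrk : (r : k) ≠ 0) (hq : q.Prime) (hqk : (q : k) ≠ 0) (hrq : r ≠ q)
    (hRμ : R ≤ charStab Y μ) (a : N) (haq : a ^ q = 1) (haR : a ∈ normalizer (R : Set N))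
    (haμ : a ∈ charStab Y μ) (hcomR : ∀ x ∈ R, ∀ y ∈ R, x * y * x⁻¹ * y⁻¹ ∈ Y)
    (hfix : ∀ f, IsEigen ρ Y μ f → ρ a f = f → f = 0) :
    (∀ x ∈ R, ∀ f, IsEigen ρ Y μ f → ρ (a * x * a⁻¹) f = ρ x f) ∨
      ∃ n, r = 2 ∧ q = 2 ^ n + 1 := by
  let σ := subRep ρ (eigSpace ρ Y μ) (charStab Y μ) (eigSpace_invariant ρ)
  have hsc : ∀ z : charStab Y μ, (z : N) ∈ Y → ∃ d : k, σ z = d • 1 := fun z hz =>
    ⟨μ ⟨z, hz⟩, LinearMap.ext fun v => Subtype.ext (by
      rw [subRep_apply]; exact v.2 ⟨z, hz⟩)⟩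
  rcases hh_classTwo σ (R.subgroupOf (charStab Y μ)) hr hRp.comap_subtype hrk hq hqk hrq ⟨a, haμ⟩
      (Subtype.ext haq)
      (by rw [mem_normalizer_iff]; exact fun y => mem_normalizer_iff.1 haR (y : N))
      (fun x hx y hy => hsc _ (hcomR _ hx _ hy))
      (fun v hv => Subtype.ext (hfix _ v.2 (congrArg Subtype.val hv))) with h | h
  · exact Or.inl fun x hx f hf =>
      congrArg Subtype.val (LinearMap.congr_fun (h ⟨x, hRμ hx⟩ hx) ⟨f, hf⟩)
  · obtain ⟨n, h1, h2, -⟩ := h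
    exact Or.inr ⟨n, h1, h2⟩

/-- The Frobenius configuration on a weight space. -/
theorem frob_eigen (R T Y : Subgroup N) (μ : Y →* kˣ) {r p : ℕ} (hr : r.Prime) (hRp : IsPGroup r R)
    (hrk : (r : k) ≠ 0) (hp : p.Prime) (hpk : (p : k) ≠ 0) (hrp : r ≠ p)
    (hRμ : R ≤ charStab Y μ) (hTμ : T ≤ charStab Y μ) (a : N) (hap : a ^ p = 1)
    (haR : a ∈ normalizer (R : Set N)) (haT : a ∈ normalizer (T : Set N))
    (haμ : a ∈ charStab Y μ) (hTR : T ≤ normalizer (R : Set N)) (hrT : ¬ r ∣ Nat.card T)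
    (hTab : ∀ y ∈ T, ∀ z ∈ T, ∀ x ∈ R, Commute (y * z * y⁻¹ * z⁻¹) x)
    (hsurj : ∀ y ∈ T, ∃ z ∈ T, y = z⁻¹ * (a * z * a⁻¹)) (hRT : R ≤ ⁅R, T⁆)
    (hcomR : ∀ x ∈ R, ∀ y ∈ R, x * y * x⁻¹ * y⁻¹ ∈ Y) (hpowR : ∀ x ∈ R, x ^ r ∈ Y)
    (hfix : ∀ f, IsEigen ρ Y μ f → ρ a f = f → f = 0) :
    ∀ x ∈ R, ∀ f, IsEigen ρ Y μ f → ρ (a * x * a⁻¹) f = ρ x f := by
  let σ := subRep ρ (eigSpace ρ Y μ) (charStab Y μ) (eigSpace_invariant ρ)
  have hsc : ∀ z : charStab Y μ, (z : N) ∈ Y → ∃ d : k, σ z = d • 1 := fun z hz =>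
    ⟨μ ⟨z, hz⟩, LinearMap.ext fun v => Subtype.ext (by
      rw [subRep_apply]; exact v.2 ⟨z, hz⟩)⟩
  have h := rep_centralizes_of_frobenius σ (R.subgroupOf (charStab Y μ)) (T.subgroupOf (charStab Y μ)) hr
    hRp.comap_subtype hrk hp hpk hrp ⟨a, haμ⟩ (Subtype.ext hap)
    (by rw [mem_normalizer_iff]; exact fun y => mem_normalizer_iff.1 haR (y : N))
    (by rw [mem_normalizer_iff]; exact fun y => mem_normalizer_iff.1 haT (y : N))
    (fun y hy => by rw [mem_normalizer_iff]; exact fun x => mem_normalizer_iff.1 (hTR hy) (x : N))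
    (by rwa [Nat.card_congr (subgroupOfEquivOfLe hTμ).toEquiv])
    (fun y hy z hz x hx => Subtype.ext (hTab _ hy _ hz _ hx).eq)
    (fun y hy => by
      obtain ⟨z, hz, e⟩ := hsurj _ hy
      exact ⟨⟨z, hTμ hz⟩, hz, Subtype.ext e⟩)
    (by
      rw [← map_le_map_iff_of_injective (charStab Y μ).subtype_injective, Subgroup.map_commutator,
        map_subgroupOf_eq_of_le hRμ, map_subgroupOf_eq_of_le hTμ]
      exact hRT)
    (fun x hx y hy => hsc _ (hcomR _ hx _ hy)) (fun x hx => hsc _ (hpowR _ hx))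
    (fun v hv => Subtype.ext (hfix _ v.2 (congrArg Subtype.val hv)))
  exact fun x hx f hf => congrArg Subtype.val (LinearMap.congr_fun (h ⟨x, hRμ hx⟩ hx) ⟨f, hf⟩)

end CfsgLib.PGroup
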