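import Mathlib.GroupTheory.Sylow
import Mathlib.GroupTheory.GroupAction.Quotient
import Mathlib.Algebra.Group.Action.Pointwise.Finset
import Mathlib.GroupTheory.SpecificGroups.Cyclic

/-!
Frobenius' congruence for the number of subgroups of prime power order.
-/

set_option autoImplicit false

namespace CfsgLib.PGroup

open MulAction
open scoped Pointwise

universe u

variable {G : Type u} [Group G] [Finite G]

theorem card_stab_dvd_finset [DecidableEq G] (T : Finset G) :
    Nat.card (stabilizer G T) ∣ T.card := by
  set H := stabilizer G T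
  have hmem : ∀ h : H, ∀ x : G, x ∈ T → (h : G) * x ∈ T := by
    intro h x hx
    have := Finset.smul_mem_smul_finset (a := (h : G)) hx
    rwa [mem_stabilizer_iff.1 h.2, smul_eq_mul] at this
  letI act : MulAction H T :=
    { smul := fun h x => ⟨(h : G) * x, hmem h x x.2⟩
      one_smul := fun x => Subtype.ext (one_mul _)
      mul_smul := fun a b x => Subtype.ext (mul_assoc _ _ _) }
  haveI := Fintype.ofFinite (Quotient (orbitRel H T))
  have horb : ∀ x : T, Nat.card (orbit H x) = Nat.card H := by
    intro x
    have hb : stabilizer H x = ⊥ := by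
      rw [Subgroup.eq_bot_iff_forall]
      intro h hh
      have h1 : (h : G) * x = x := congrArg Subtype.val (mem_stabilizer_iff.1 hh)
      exact Subtype.ext (mul_eq_right.1 h1)
    rw [Nat.card_coe_set_eq, ← index_stabilizer, hb, Subgroup.index_bot]
  rw [show T.card = Nat.card T by simp, Nat.card_congr (selfEquivSigmaOrbits H T), Nat.card_sigma]
  exact Finset.dvd_sum fun ω _ => (horb ω.out).symm ▸ dvd_rfl

theorem choose_modEq_card_subgroups (p β : ℕ) (hp : p.Prime) {m : ℕ}
    (hm : Nat.card G = p ^ β * m) :
    (Nat.card G).choose (p ^ β) ≡ Nat.card {H : Subgroup G // Nat.card H = p ^ β} * m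
      [MOD m * p] := by
  classical
  haveI := Fintype.ofFinite G
  set q := p ^ β with hq
  have hq0 : 0 < q := pow_pos hp.pos β
  let X := {T : Finset G // T.card = q}
  letI act : MulAction G X :=
    { smul := fun g T => ⟨g • T.1, by rw [Finset.card_smul_finset]; exact T.2⟩
      one_smul := fun T => Subtype.ext (one_smul _ _)
      mul_smul := fun a b T => Subtype.ext (mul_smul _ _ _) }
  have hstab : ∀ T : X, stabilizer G T = stabilizer G T.1 := fun T => by
    ext g
    exact Subtype.ext_iff
  have hX : Nat.card X = (Nat.card G).choose q := by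
    rw [Nat.card_eq_fintype_card, Fintype.card_subtype, Nat.card_eq_fintype_card,
      Finset.univ_filter_card_eq, Finset.card_powersetCard, Finset.card_univ]
  let P : X → Prop := fun T => Nat.card (stabilizer G T) = q
  have hP1 : Nat.card {T // P T} = Nat.card {H : Subgroup G // Nat.card H = q} * m := by
    have hidx : ∀ H : {H : Subgroup G // Nat.card H = q}, Nat.card (G ⧸ H.1) = m := by
      intro H
      have h1 := H.1.index_mul_card
      rw [H.2, hm, mul_comm q] at h1
      exact Nat.eq_of_mul_eq_mul_right hq0 h1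
    let S : (H : {H : Subgroup G // Nat.card H = q}) → G → Finset G := fun H g =>
      Finset.univ.filter (fun x => x * g ∈ H.1)
    have hSmem : ∀ H g x, x ∈ S H g ↔ x * g ∈ H.1 := fun H g x => by simp [S]
    have hScard : ∀ H g, (S H g).card = q := by
      intro H g
      have : S H g = (Finset.univ.filter (fun x => x ∈ H.1)).image (fun x => x * g⁻¹) := by
        ext x
        simp only [hSmem, Finset.mem_image, Finset.mem_filter, Finset.mem_univ, true_and]
        exact ⟨fun h => ⟨x * g, h, mul_inv_cancel_right _ _⟩,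
          fun ⟨y, hy, e⟩ => e ▸ by rwa [inv_mul_cancel_right]⟩
      rw [this, Finset.card_image_of_injective _ (mul_left_injective g⁻¹), ← Fintype.card_subtype,
        ← Nat.card_eq_fintype_card]
      exact H.2
    have hSstab : ∀ H g, stabilizer G (S H g) = H.1 := by
      intro H g
      ext h
      rw [mem_stabilizer_iff]
      constructor
      · intro e
        have h1 : g⁻¹ ∈ S H g := by rw [hSmem, inv_mul_cancel]; exact one_mem _
        have h2 := Finset.smul_mem_smul_finset (a := h) h1
        rw [e, hSmem, smul_eq_mul, inv_mul_cancel_right] at h2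
        exact h2
      · intro hh
        refine Finset.eq_of_subset_of_card_le (fun x hx => ?_) (by rw [Finset.card_smul_finset])
        obtain ⟨y, hy, rfl⟩ := Finset.mem_smul_finset.1 hx
        rw [hSmem] at hy ⊢
        rw [smul_eq_mul, mul_assoc]
        exact mul_mem hh hy
    have key : ∀ H g g', (g : G ⧸ H.1) = (g' : G ⧸ H.1) → S H g = S H g' := by
      intro H g g' e
      rw [QuotientGroup.eq] at e
      ext x
      rw [hSmem, hSmem]
      have : x * g' = x * g * (g⁻¹ * g') := by group
      rw [this]
      exact ⟨fun h => mul_mem h e, fun h => (mul_mem_cancel_right e).1 h⟩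
    let f : (Σ H : {H : Subgroup G // Nat.card H = q}, G ⧸ H.1) → {T // P T} := fun a =>
      ⟨⟨S a.1 a.2.out, hScard _ _⟩, by
        show Nat.card (stabilizer G (⟨S a.1 a.2.out, hScard _ _⟩ : X)) = q
        rw [hstab]; simp only; rw [hSstab]; exact a.1.2⟩
    have hf : Function.Bijective f := by
      refine ⟨?_, ?_⟩
      · rintro ⟨H, x⟩ ⟨K, y⟩ e
        have e' : S H x.out = S K y.out := congrArg (fun T => T.1.1) e
        have hHK : H = K := Subtype.ext (by rw [← hSstab H x.out, e', hSstab])
        subst hHK
        congr 1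
        have h1 : (x.out)⁻¹ ∈ S H y.out := by rw [← e', hSmem, inv_mul_cancel]; exact one_mem _
        rw [hSmem, ← QuotientGroup.eq] at h1
        simpa using h1
      · rintro ⟨⟨T, hT⟩, hPT⟩
        have hne : T.Nonempty := Finset.card_pos.1 (hT ▸ hq0)
        obtain ⟨t, ht⟩ := hne
        let H : {H : Subgroup G // Nat.card H = q} :=
          ⟨stabilizer G T, by rw [← hstab ⟨T, hT⟩]; exact hPT⟩
        refine ⟨⟨H, (t⁻¹ : G)⟩, Subtype.ext (Subtype.ext ?_)⟩
        show S H _ = T
        rw [key H _ t⁻¹ (QuotientGroup.out_eq' _)]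
        refine Finset.eq_of_subset_of_card_le (fun x hx => ?_) (by rw [hScard, hT])
        rw [hSmem] at hx
        have h2 := Finset.smul_mem_smul_finset (a := x * t⁻¹) ht
        rwa [mem_stabilizer_iff.1 hx, smul_eq_mul, inv_mul_cancel_right] at h2
    rw [← Nat.card_congr (Equiv.ofBijective f hf), Nat.card_sigma,
      Finset.sum_congr rfl (fun H _ => hidx H), Finset.sum_const, smul_eq_mul, Finset.card_univ,
      Nat.card_eq_fintype_card]
  have hinv : ∀ (g : G) (T : X), ¬ P T → ¬ P (g • T) := by
    intro g T hT hgT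
    refine hT ?_
    show Nat.card (stabilizer G T) = q
    rw [← hgT, stabilizer_smul_eq_stabilizer_map_conj,
      Subgroup.card_map_of_injective (MulEquiv.injective (MulAut.conj g))]
  have hP0 : m * p ∣ Nat.card {T // ¬ P T} := by
    letI act0 : MulAction G {T // ¬ P T} :=
      { smul := fun g T => ⟨g • T.1, hinv g T.1 T.2⟩
        one_smul := fun T => Subtype.ext (one_smul _ _)
        mul_smul := fun a b T => Subtype.ext (mul_smul _ _ _) }
    haveI := Fintype.ofFinite (Quotient (orbitRel G {T // ¬ P T}))
    rw [Nat.card_congr (selfEquivSigmaOrbits G {T // ¬ P T}), Nat.card_sigma]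
    refine Finset.dvd_sum fun ω _ => ?_
    set T := ω.out
    rw [Nat.card_coe_set_eq, ← index_stabilizer]
    have hst : stabilizer G T = stabilizer G T.1 := by ext g; exact Subtype.ext_iff
    rw [hst]
    have hd : Nat.card (stabilizer G T.1) ∣ q := by
      rw [hstab]
      have := card_stab_dvd_finset T.1.1
      rwa [T.1.2] at this
    obtain ⟨i, hi, hie⟩ := (Nat.dvd_prime_pow hp).1 hd
    have hilt : i < β := lt_of_le_of_ne hi fun e => T.2 (by
      show Nat.card (stabilizer G T.1) = q
      rw [hie, e])
    have h1 := (stabilizer G T.1).index_mul_card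
    rw [hie, hm, hq] at h1
    obtain ⟨d, rfl⟩ := Nat.exists_eq_add_of_lt hilt
    refine ⟨p ^ d, Nat.eq_of_mul_eq_mul_right (pow_pos hp.pos i) ?_⟩
    rw [h1]; ring
  rw [← hX, ← hP1, ← Nat.card_congr (Equiv.sumCompl P), Nat.card_sum]
  obtain ⟨c, hc⟩ := hP0
  rw [hc]
  simp [Nat.ModEq]

/-- Frobenius: the number of subgroups of order `p ^ β` is `1` modulo `p`. -/
theorem card_subgroups_prime_pow_modEq (p β : ℕ) (hp : p.Prime) (hd : p ^ β ∣ Nat.card G) :
    Nat.card {H : Subgroup G // Nat.card H = p ^ β} ≡ 1 [MOD p] := by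
  obtain ⟨m, hm⟩ := hd
  have hm0 : m ≠ 0 := by
    rintro rfl
    rw [mul_zero] at hm
    exact Nat.card_pos.ne' hm
  have hn : NeZero (Nat.card G) := ⟨Nat.card_pos.ne'⟩
  let C := Multiplicative (ZMod (Nat.card G))
  have hC : Nat.card C = Nat.card G := by simp [C]
  have h1 := choose_modEq_card_subgroups (G := G) p β hp hm
  have h2 := choose_modEq_card_subgroups (G := C) p β hp (hC.trans hm)
  rw [hC] at h2
  have hone : Nat.card {H : Subgroup C // Nat.card H = p ^ β} = 1 := by
    rw [Nat.card_eq_one_iff_exists]
    haveI := Fact.mk hp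
    obtain ⟨H, hH⟩ := Sylow.exists_subgroup_card_pow_prime p (n := β) (G := C)
      (hC ▸ hm ▸ dvd_mul_right _ _)
    refine ⟨⟨H, hH⟩, fun K => Subtype.ext ?_⟩
    classical
    haveI : IsCyclic C := isCyclic_multiplicative
    haveI := Fintype.ofFinite C
    have hcap : ∀ L : Subgroup C, Nat.card L = p ^ β →
        (Finset.univ.filter (fun x => x ∈ L)) = Finset.univ.filter (fun x : C => x ^ p ^ β = 1) := by
      intro L hL
      refine Finset.eq_of_subset_of_card_le (fun x hx => ?_) ?_
      · simp only [Finset.mem_filter, Finset.mem_univ, true_and] at hx ⊢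
        exact orderOf_dvd_iff_pow_eq_one.1 (hL ▸ L.orderOf_dvd_natCard hx)
      · refine (IsCyclic.card_pow_eq_one_le (pow_pos hp.pos β)).trans (le_of_eq ?_)
        rw [← hL, Nat.card_eq_fintype_card, Fintype.card_subtype]
    ext x
    have := Finset.ext_iff.1 ((hcap K.1 K.2).trans (hcap H hH).symm) x
    simpa using this
  rw [hone, one_mul] at h2
  have h3 := h1.symm.trans h2
  refine Nat.ModEq.mul_right_cancel' (c := m) hm0 ?_
  rw [one_mul, mul_comm p m]
  exact h3

end CfsgLib.PGroup
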