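import Mathlib
import Cfsg.Agent.Lib.PGroup.SubgroupCount

/-!
# Kulakoff's congruence

The number of subgroups of order `p ^ a` in a group whose order is divisible by `p ^ (a + 1)`,
modulo `p ^ 2`, in terms of the number of cyclic subgroups of order `p ^ (a + 1)`.
-/

set_option autoImplicit false
set_option linter.style.haveILetI false

open MulAction
open scoped Pointwise

namespace CfsgLib.PGroup.Kulakoff

universe u

variable {G : Type u} [Group G] [Finite G] {p : ℕ} [hp : Fact p.Prime]

/-- Finite sets of cardinality `|K| * j` invariant under left multiplication by `K`. -/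
theorem card_invariant [DecidableEq G] (K : Subgroup G) (j : ℕ) :
    Nat.card {T : Finset G // T.card = Nat.card K * j ∧ K ≤ stabilizer G T} = K.index.choose j := by
  classical
  letI : Fintype G := Fintype.ofFinite G
  letI : Fintype (G ⧸ K) := Fintype.ofFinite _
  let π : G → G ⧸ K := fun x => (x⁻¹ : G)
  have hcard : ∀ S : Finset (G ⧸ K),
      (Finset.univ.filter fun x => π x ∈ S).card = Nat.card K * S.card := by
    intro S
    rw [← Fintype.card_subtype, ← Nat.card_eq_fintype_card, ← Nat.card_eq_finsetCard,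
      ← Nat.card_prod]
    exact Nat.card_congr (((Equiv.inv G).subtypeEquiv fun x => Iff.rfl).trans
      (QuotientGroup.preimageMkEquivSubgroupProdSet K (↑S : Set (G ⧸ K))))
  have hinv : ∀ (T : Finset G), K ≤ stabilizer G T →
      (Finset.univ.filter fun x => π x ∈ T.image π) = T := by
    intro T hT
    ext x
    simp only [Finset.mem_filter, Finset.mem_univ, true_and, Finset.mem_image]
    refine ⟨?_, fun h => ⟨x, h, rfl⟩⟩
    rintro ⟨t, ht, he⟩
    have h1 : x * t⁻¹ ∈ K := by
      have h2 : (x⁻¹)⁻¹ * t⁻¹ ∈ K := QuotientGroup.eq.1 he.symm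
      rwa [inv_inv] at h2
    have h3 := Finset.smul_mem_smul_finset (a := x * t⁻¹) ht
    rwa [mem_stabilizer_iff.1 (hT h1), smul_eq_mul, inv_mul_cancel_right] at h3
  let e : {T : Finset G // T.card = Nat.card K * j ∧ K ≤ stabilizer G T} ≃
      {S : Finset (G ⧸ K) // S.card = j} :=
    { toFun := fun T => ⟨T.1.image π, by
        refine Nat.eq_of_mul_eq_mul_left (n := Nat.card K) Nat.card_pos ?_
        rw [← hcard, hinv T.1 T.2.2, T.2.1]⟩
      invFun := fun S => ⟨Finset.univ.filter fun x => π x ∈ S.1, by rw [hcard, S.2], fun h hh => by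
        rw [mem_stabilizer_iff]
        refine Finset.eq_of_subset_of_card_le (fun x hx => ?_) (by rw [Finset.card_smul_finset])
        obtain ⟨y, hy, rfl⟩ := Finset.mem_smul_finset.1 hx
        simp only [Finset.mem_filter, Finset.mem_univ, true_and] at hy ⊢
        have he : π (h • y) = π y := by
          show (((h * y)⁻¹ : G) : G ⧸ K) = ((y⁻¹ : G) : G ⧸ K)
          rw [QuotientGroup.eq, inv_inv, mul_inv_cancel_right]
          exact hh
        rwa [he]⟩
      left_inv := fun T => Subtype.ext (hinv T.1 T.2.2)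
      right_inv := fun S => Subtype.ext (by
        ext q
        obtain ⟨x, rfl⟩ := QuotientGroup.mk_surjective q
        simp only [Finset.mem_image, Finset.mem_filter, Finset.mem_univ, true_and]
        exact ⟨fun ⟨y, hy, he⟩ => he ▸ hy, fun h =>
          ⟨x⁻¹, by simpa [π] using h, by simp [π]⟩⟩) }
  rw [Nat.card_congr e, Nat.card_eq_fintype_card, Fintype.card_finset_len,
    ← Nat.card_eq_fintype_card, Subgroup.index_eq_card]

/-- Subgroups of the same order in a finite cyclic group coincide. -/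
theorem eq_of_card_eq [IsCyclic G] {H K : Subgroup G} (h : Nat.card H = Nat.card K) : H = K := by
  classical
  letI : Fintype G := Fintype.ofFinite G
  have hcap : ∀ L : Subgroup G, Nat.card L = Nat.card H →
      (Finset.univ.filter (fun x => x ∈ L)) =
        Finset.univ.filter (fun x : G => x ^ Nat.card H = 1) := by
    intro L hL
    refine Finset.eq_of_subset_of_card_le (fun x hx => ?_) ?_
    · simp only [Finset.mem_filter, Finset.mem_univ, true_and] at hx ⊢
      exact orderOf_dvd_iff_pow_eq_one.1 (hL ▸ L.orderOf_dvd_natCard hx)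
    · refine (IsCyclic.card_pow_eq_one_le Nat.card_pos).trans (le_of_eq ?_)
      rw [← hL, Nat.card_eq_fintype_card, Fintype.card_subtype]
  ext x
  simpa using Finset.ext_iff.1 ((hcap H rfl).trans (hcap K h.symm).symm) x

/-- Homomorphisms between groups of order `p`. -/
theorem card_hom_prime (Q C : Type*) [Group Q] [Group C] (hQ : Nat.card Q = p) (hC : Nat.card C = p) :
    Nat.card (Q →* C) = p := by
  haveI := isCyclic_of_prime_card hQ
  obtain ⟨g, hg⟩ := IsCyclic.exists_generator (α := Q)
  refine (Nat.card_congr (Equiv.ofBijective (fun f : Q →* C => f g) ⟨fun f₁ f₂ h => ?_, fun z => ?_⟩)).trans hC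
  · exact (MonoidHom.eq_iff_eq_on_generator hg f₁ f₂).2 h
  · have hd : orderOf z ∣ orderOf g := by
      rw [orderOf_eq_card_of_forall_mem_zpowers hg, hQ, ← hC]
      exact orderOf_dvd_natCard z
    exact ⟨monoidHomOfForallMemZpowers hg hd, monoidHomOfForallMemZpowers_apply_gen hg hd⟩

/-- The number of subgroups of index `p` in a noncyclic `p`-group is `1 + p` modulo `p ^ 2`. -/
theorem card_index_prime (K : Type u) [Group K] [Finite K] {b : ℕ}
    (hK : Nat.card K = p ^ (b + 1)) (hnc : ¬ IsCyclic K) :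
    ((Nat.card {M : Subgroup K // Nat.card M = p ^ b} : ℕ) : ZMod (p ^ 2)) = 1 + p := by
  classical
  have hpp : p.Prime := hp.out
  haveI : NeZero p := ⟨hpp.ne_zero⟩
  let C := Multiplicative (ZMod p)
  have hC : Nat.card C = p := by simp [C]
  haveI : Finite (K →* C) := Finite.of_injective _ DFunLike.coe_injective
  letI : Fintype (K →* C) := Fintype.ofFinite _
  letI : Fintype {M : Subgroup K // Nat.card M = p ^ b} := Fintype.ofFinite _
  have hidx : ∀ M : Subgroup K, Nat.card M = p ^ b ↔ M.index = p := by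
    intro M
    have h := M.card_mul_index
    rw [hK, pow_succ] at h
    constructor <;> intro h1 <;> rw [h1] at h
    · exact Nat.eq_of_mul_eq_mul_left (pow_pos hpp.pos b) h
    · exact Nat.eq_of_mul_eq_mul_right hpp.pos h
  have hker : ∀ f : K →* C, f ≠ 1 → Nat.card f.ker = p ^ b := by
    intro f hf
    rw [hidx, Subgroup.index_ker]
    rcases (Nat.dvd_prime hpp).1 (hC ▸ f.range.card_subgroup_dvd_card) with h | h
    · refine absurd (MonoidHom.ext fun x => ?_) hf
      have hx : f x ∈ f.range := ⟨x, rfl⟩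
      rw [Subgroup.eq_bot_of_card_eq _ h, Subgroup.mem_bot] at hx
      exact hx
    · exact h
  let k : {f : K →* C // f ≠ 1} → {M : Subgroup K // Nat.card M = p ^ b} :=
    fun f => ⟨f.1.ker, hker f.1 f.2⟩
  have hfib : ∀ M : {M : Subgroup K // Nat.card M = p ^ b},
      Nat.card {f : {f : K →* C // f ≠ 1} // k f = M} + 1 = p := by
    rintro ⟨M, hM⟩
    have hMi : M.index = p := (hidx M).1 hM
    haveI : M.Normal := Subgroup.normal_of_index_eq_minFac_card (by
      rw [hK, hMi, Nat.Prime.pow_minFac hpp (Nat.succ_ne_zero b)])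
    haveI : Finite (K ⧸ M →* C) := Finite.of_injective _ DFunLike.coe_injective
    have h1 : Nat.card (K ⧸ M →* C) = p :=
      card_hom_prime _ _ (by rw [← Subgroup.index_eq_card, hMi]) hC
    have h2 : Nat.card {f : {f : K →* C // f ≠ 1} // k f = ⟨M, hM⟩} =
        Nat.card {g : K ⧸ M →* C // g ≠ 1} := by
      refine Nat.card_congr
        { toFun := fun f => ⟨QuotientGroup.lift M f.1.1 (congrArg Subtype.val f.2).ge, fun e =>
            f.1.2 (MonoidHom.ext fun x => by simpa using DFunLike.congr_fun e (x : K ⧸ M))⟩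
          invFun := fun g => ⟨⟨g.1.comp (QuotientGroup.mk' M), fun e => g.2
            (MonoidHom.ext fun q => by
              obtain ⟨x, rfl⟩ := QuotientGroup.mk_surjective q
              exact DFunLike.congr_fun e x)⟩, Subtype.ext ?_⟩
          left_inv := fun f => Subtype.ext (Subtype.ext (MonoidHom.ext fun x => rfl))
          right_inv := fun g => Subtype.ext (MonoidHom.ext fun q => by
            obtain ⟨x, rfl⟩ := QuotientGroup.mk_surjective q
            rfl) }
      show (g.1.comp (QuotientGroup.mk' M)).ker = M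
      refine (Subgroup.eq_of_le_of_card_ge (fun x hx => ?_) (le_of_eq ?_)).symm
      · rw [MonoidHom.mem_ker, MonoidHom.comp_apply, QuotientGroup.mk'_apply,
          (QuotientGroup.eq_one_iff x).2 hx, map_one]
      · rw [hM]
        exact hker _ fun e => g.2 (MonoidHom.ext fun q => by
          obtain ⟨x, rfl⟩ := QuotientGroup.mk_surjective q
          exact DFunLike.congr_fun e x)
    rw [h2]
    refine Eq.trans ?_ h1
    rw [← Nat.card_congr (Equiv.optionSubtypeNe (1 : K ⧸ M →* C)), Finite.card_option]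
  obtain ⟨d, hd⟩ : ∃ d, Nat.card (K →* C) = p ^ d := by
    refine IsPGroup.iff_card.1 fun f => ⟨1, MonoidHom.ext fun x => ?_⟩
    have h := pow_card_eq_one' (x := f x)
    rw [hC] at h
    rw [pow_one, MonoidHom.pow_apply, MonoidHom.one_apply, h]
  set s := Nat.card {M : Subgroup K // Nat.card M = p ^ b} with hs
  have hcount : (p - 1) * s + 1 = p ^ d := by
    rw [← hd, ← Nat.card_congr (Equiv.optionSubtypeNe (1 : K →* C)), Finite.card_option,
      ← Nat.card_congr (Equiv.sigmaFiberEquiv k), Nat.card_sigma,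
      Finset.sum_congr rfl (fun M _ => (Nat.eq_sub_of_add_eq (hfib M) :
        Nat.card {f : {f : K →* C // f ≠ 1} // k f = M} = p - 1)), Finset.sum_const, smul_eq_mul,
      Finset.card_univ, hs, Nat.card_eq_fintype_card, mul_comm]
  have hs2 : 1 < s := by
    rw [hs, Finite.one_lt_card_iff_nontrivial]
    obtain ⟨M, hM⟩ := Sylow.exists_subgroup_card_pow_prime p (n := b) (G := K)
      (hK ▸ pow_dvd_pow p (Nat.le_succ b))
    obtain ⟨x, hx⟩ : ∃ x, x ∉ M := SetLike.exists_not_mem_of_ne_top M (fun e => by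
      rw [e, Subgroup.card_top, hK] at hM
      exact (Nat.succ_ne_self b) (Nat.pow_right_injective hpp.two_le hM)) rfl
    obtain ⟨i, hi, hie⟩ := (Nat.dvd_prime_pow hpp).1
      (hK ▸ (Subgroup.zpowers x).card_subgroup_dvd_card)
    have hib : i ≤ b := by
      by_contra h
      obtain rfl : i = b + 1 := by omega
      refine hnc (isCyclic_iff_exists_zpowers_eq_top.2 ⟨x, Subgroup.eq_top_of_card_eq _ ?_⟩)
      rw [hie, hK]
    obtain ⟨M', hM', hle⟩ := Sylow.exists_subgroup_card_pow_prime_le p (m := b)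
      (hK ▸ pow_dvd_pow p (Nat.le_succ b)) (Subgroup.zpowers x) hie hib
    exact ⟨⟨⟨M, hM⟩, ⟨M', hM'⟩, fun e => hx (by
      rw [show M = M' from congrArg Subtype.val e]
      exact hle (Subgroup.mem_zpowers x))⟩⟩
  have hd2 : 2 ≤ d := by
    by_contra h
    have h1 : (p - 1) * 2 ≤ (p - 1) * s := Nat.mul_le_mul_left _ hs2
    have := hpp.two_le
    rcases (show d = 0 ∨ d = 1 by omega) with rfl | rfl
    · rw [pow_zero] at hcount; omega
    · rw [pow_one] at hcount; omega
  have h2 : ((p : ZMod (p ^ 2))) ^ 2 = 0 := by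
    rw [← Nat.cast_pow, ZMod.natCast_self]
  have hz := congrArg (fun n : ℕ => (n : ZMod (p ^ 2))) hcount
  simp only [Nat.cast_add, Nat.cast_mul, Nat.cast_sub hpp.one_le, Nat.cast_one, Nat.cast_pow] at hz
  obtain ⟨e, rfl⟩ := Nat.exists_eq_add_of_le hd2
  rw [pow_add, h2, zero_mul] at hz
  linear_combination (-(1 + (p : ZMod (p ^ 2)))) * hz + (s : ZMod (p ^ 2)) * h2

/-- The counting of `p ^ (a + 1)`-element subsets. -/
theorem choose_modEq (a : ℕ) {m : ℕ} (hm : Nat.card G = p ^ (a + 1) * m) :
    ∃ I : ℕ, ((Nat.card G).choose (p ^ (a + 1)) + m * I ≡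
      Nat.card {H : Subgroup G // Nat.card H = p ^ (a + 1)} * m +
        Nat.card {H : Subgroup G // Nat.card H = p ^ a} * (m * p).choose p [MOD m * p ^ 2]) ∧
      (I : ZMod (p ^ 2)) + p * Nat.card {H : Subgroup G // IsCyclic H ∧ Nat.card H = p ^ (a + 1)} =
        (1 + p) * Nat.card {H : Subgroup G // Nat.card H = p ^ (a + 1)} := by
  classical
  have hpp : p.Prime := hp.out
  letI : Fintype G := Fintype.ofFinite G
  set q := p ^ (a + 1) with hq
  set A : Finset (Subgroup G) := Finset.univ.filter fun H => Nat.card H = p ^ a with hA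
  set B : Finset (Subgroup G) := Finset.univ.filter fun H => Nat.card H = q with hB
  set X : Finset (Finset G) := Finset.powersetCard q Finset.univ with hX
  have hmemX : ∀ T, T ∈ X ↔ T.card = q := fun T => by simp [hX]
  let st : Finset G → Subgroup G := fun T => stabilizer G T
  -- the sets stabilised by a given subgroup
  have hsets : ∀ (K : Subgroup G) (j : ℕ), Nat.card K * j = q →
      (X.filter fun T => K ≤ st T).card = K.index.choose j := by
    intro K j hj
    rw [← card_invariant K j, ← Fintype.card_coe, ← Nat.card_eq_fintype_card]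
    exact Nat.card_congr (Equiv.subtypeEquivRight fun T => by
      rw [Finset.mem_filter, hmemX, hj])
  have hidxA : ∀ H ∈ A, H.index = m * p := by
    intro H hH
    have h := H.card_mul_index
    rw [(Finset.mem_filter.1 hH).2, hm, hq, pow_succ, mul_assoc] at h
    rw [Nat.eq_of_mul_eq_mul_left (pow_pos hpp.pos a) h, mul_comm]
  have hidxB : ∀ K ∈ B, K.index = m := by
    intro K hK
    have h := K.card_mul_index
    rw [(Finset.mem_filter.1 hK).2, hm] at h
    exact Nat.eq_of_mul_eq_mul_left (pow_pos hpp.pos (a + 1)) h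
  have hdvd : ∀ T ∈ X, Nat.card (st T) ∣ q := fun T hT => by
    have := CfsgLib.PGroup.card_stab_dvd_finset T
    rwa [(hmemX T).1 hT] at this
  set Pa := X.filter fun T => Nat.card (st T) = p ^ a with hPa
  set Pb := X.filter fun T => Nat.card (st T) = q with hPb
  have hfibB : ∀ K ∈ B, (Pb.filter fun T => st T = K).card = m := by
    intro K hK
    have h1 := hsets K 1 (by rw [mul_one]; exact (Finset.mem_filter.1 hK).2)
    rw [Nat.choose_one_right, hidxB K hK] at h1
    refine (congrArg Finset.card ?_).trans h1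
    ext T
    simp only [hPb, Finset.mem_filter]
    constructor
    · rintro ⟨⟨hT, -⟩, rfl⟩; exact ⟨hT, le_rfl⟩
    · rintro ⟨hT, hle⟩
      have he : K = st T := Subgroup.eq_of_le_of_card_ge hle (by
        rw [(Finset.mem_filter.1 hK).2]
        exact Nat.le_of_dvd (pow_pos hpp.pos _) (hdvd T hT))
      exact ⟨⟨hT, by rw [← he]; exact (Finset.mem_filter.1 hK).2⟩, he.symm⟩
  have hst_mem : ∀ T ∈ Pb, st T ∈ B := fun T hT =>
    Finset.mem_filter.2 ⟨Finset.mem_univ _, (Finset.mem_filter.1 hT).2⟩
  have hPbcard : Pb.card = B.card * m := by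
    rw [Finset.card_eq_sum_card_fiberwise hst_mem, Finset.sum_congr rfl hfibB, Finset.sum_const,
      smul_eq_mul]
  -- double counting
  set f : Subgroup G → ℕ := fun S => (A.filter fun H => H ≤ S).card with hf
  have hdc : A.card * (m * p).choose p = ∑ T ∈ X, f (st T) := by
    rw [← smul_eq_mul, ← Finset.sum_const]
    refine (Finset.sum_congr rfl fun H hH => ?_).trans
      (Finset.sum_card_bipartiteAbove_eq_sum_card_bipartiteBelow (fun H T => H ≤ st T) (s := A)
        (t := X))
    rw [← hidxA H hH, ← hsets H p (by rw [(Finset.mem_filter.1 hH).2, hq, pow_succ])]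
    rfl
  have hf0 : ∀ T ∈ X, T ∉ Pa → T ∉ Pb → f (st T) = 0 := by
    intro T hT h1 h2
    rw [hf, Finset.card_eq_zero, Finset.filter_eq_empty_iff]
    intro H hH hle
    have hd := Subgroup.card_dvd_of_le hle
    rw [(Finset.mem_filter.1 hH).2] at hd
    obtain ⟨i, hi, hie⟩ := (Nat.dvd_prime_pow hpp).1 (hdvd T hT)
    rw [hie, Nat.pow_dvd_pow_iff_le_right hpp.one_lt] at hd
    rcases (show i = a ∨ i = a + 1 by omega) with rfl | rfl
    · exact h1 (Finset.mem_filter.2 ⟨hT, hie⟩)
    · exact h2 (Finset.mem_filter.2 ⟨hT, hie⟩)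
  have hfa : ∀ T ∈ Pa, f (st T) = 1 := by
    intro T hT
    obtain ⟨hTX, hT'⟩ := Finset.mem_filter.1 hT
    rw [hf, Finset.card_eq_one]
    refine ⟨st T, ?_⟩
    ext H
    simp only [hA, Finset.mem_filter, Finset.mem_univ, true_and, Finset.mem_singleton]
    exact ⟨fun h => Subgroup.eq_of_le_of_card_ge h.2 (by rw [hT', h.1]),
      fun h => by subst h; exact ⟨hT', le_rfl⟩⟩
  have hne : p ^ a ≠ q := fun h => by
    have := Nat.pow_right_injective hpp.two_le h
    omega
  have hdisj : Disjoint Pa Pb := Finset.disjoint_filter.2 fun T _ h1 h2 => hne (h1.symm.trans h2)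
  set I := ∑ K ∈ B, f K with hI
  have hsum : A.card * (m * p).choose p = Pa.card + m * I := by
    rw [hdc, ← Finset.sum_subset (Finset.union_subset (Finset.filter_subset _ X)
      (Finset.filter_subset _ X) : Pa ∪ Pb ⊆ X) (fun T hT hn => hf0 T hT
        (fun h => hn (Finset.mem_union_left _ h)) (fun h => hn (Finset.mem_union_right _ h))),
      Finset.sum_union hdisj, Finset.sum_congr rfl hfa, Finset.sum_const, smul_eq_mul, mul_one,
      ← Finset.sum_fiberwise_of_maps_to hst_mem, hI, Finset.mul_sum]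
    congr 1
    refine Finset.sum_congr rfl fun K hK => ?_
    rw [Finset.sum_congr rfl (fun T hT => congrArg f (Finset.mem_filter.1 hT).2), Finset.sum_const,
      smul_eq_mul, hfibB K hK]
  -- the remaining orbits
  set R := X.filter fun T => T ∉ Pa ∪ Pb with hR
  have hRdvd : m * p ^ 2 ∣ R.card := by
    have hRmem : ∀ T, T ∈ R ↔ T.card = q ∧ Nat.card (st T) ≠ p ^ a ∧ Nat.card (st T) ≠ q := by
      intro T
      simp only [hR, hPa, hPb, Finset.mem_filter, Finset.mem_union, hmemX, not_or, not_and]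
      exact ⟨fun h => ⟨h.1, h.2.1 h.1, h.2.2 h.1⟩, fun h => ⟨h.1, fun _ => h.2.1, fun _ => h.2.2⟩⟩
    have hsmul : ∀ (g : G) (T : R), g • T.1 ∈ R := fun g T => by
      obtain ⟨h1, h2, h3⟩ := (hRmem T.1).1 T.2
      have hc : Nat.card (st (g • T.1)) = Nat.card (st T.1) := by
        show Nat.card (stabilizer G (g • T.1)) = Nat.card (stabilizer G T.1)
        rw [stabilizer_smul_eq_stabilizer_map_conj]
        exact Subgroup.card_map_of_injective (MulAut.conj g).injective
      exact (hRmem _).2 ⟨by rw [Finset.card_smul_finset, h1], hc ▸ h2, hc ▸ h3⟩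
    letI act : MulAction G R :=
      { smul := fun g T => ⟨g • T.1, hsmul g T⟩
        one_smul := fun T => Subtype.ext (one_smul _ _)
        mul_smul := fun g h T => Subtype.ext (mul_smul _ _ _) }
    haveI := Fintype.ofFinite (Quotient (orbitRel G R))
    rw [← Fintype.card_coe, ← Nat.card_eq_fintype_card, Nat.card_congr (selfEquivSigmaOrbits G R),
      Nat.card_sigma]
    refine Finset.dvd_sum fun ω _ => ?_
    set T := ω.out
    rw [Nat.card_coe_set_eq, ← index_stabilizer]
    have hst : stabilizer G T = st T.1 := by ext g; exact Subtype.ext_iff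
    rw [hst]
    obtain ⟨h1, h2, h3⟩ := (hRmem T.1).1 T.2
    obtain ⟨i, hi, hie⟩ := (Nat.dvd_prime_pow hpp).1 (hdvd T.1 ((hmemX _).2 h1))
    have hilt : i < a := by
      rcases (show i < a ∨ i = a ∨ i = a + 1 by omega) with h | rfl | rfl
      · exact h
      · exact absurd hie h2
      · exact absurd hie h3
    obtain ⟨d, rfl⟩ := Nat.exists_eq_add_of_lt hilt
    have h4 := (st T.1).index_mul_card
    rw [hie, hm] at h4
    refine ⟨p ^ d, Nat.eq_of_mul_eq_mul_right (pow_pos hpp.pos i) ?_⟩
    rw [h4, hq]; ring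
  have hXcard : (Nat.card G).choose q = Pa.card + Pb.card + R.card := by
    have h := Finset.card_filter_add_card_filter_not (s := X) (fun T => T ∈ Pa ∪ Pb)
    rw [← hR, Finset.filter_mem_eq_inter, Finset.inter_eq_right.2 (Finset.union_subset
      (Finset.filter_subset _ X) (Finset.filter_subset _ X)),
      Finset.card_union_of_disjoint hdisj] at h
    rw [h, hX, Finset.card_powersetCard, Finset.card_univ, Nat.card_eq_fintype_card]
  have hAc : Nat.card {H : Subgroup G // Nat.card H = p ^ a} = A.card := by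
    rw [Nat.card_eq_fintype_card, Fintype.card_subtype]
  have hBc : Nat.card {H : Subgroup G // Nat.card H = q} = B.card := by
    rw [Nat.card_eq_fintype_card, Fintype.card_subtype]
  refine ⟨I, ?_, ?_⟩
  · rw [hAc, hBc, hsum, hXcard, hPbcard]
    obtain ⟨c, hc⟩ := hRdvd
    rw [hc, show Pa.card + B.card * m + m * p ^ 2 * c + m * I =
      B.card * m + (Pa.card + m * I) + m * p ^ 2 * c by ring]
    simp [Nat.ModEq]
  · have hcyc : Nat.card {H : Subgroup G // IsCyclic H ∧ Nat.card H = q} =
        ∑ K ∈ B, if IsCyclic K then 1 else 0 := by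
      rw [Finset.sum_boole, Nat.cast_id, hB, Finset.filter_filter, Nat.card_eq_fintype_card,
        Fintype.card_subtype]
      simp only [and_comm]
    rw [hBc, hcyc, hI, Nat.cast_sum, Nat.cast_sum, Finset.mul_sum, ← Finset.sum_add_distrib,
      Finset.card_eq_sum_ones B, Nat.cast_sum, Finset.mul_sum]
    refine Finset.sum_congr rfl fun K hK => ?_
    have hKc : Nat.card K = p ^ (a + 1) := (Finset.mem_filter.1 hK).2
    have hfK : f K = Nat.card {M : Subgroup K // Nat.card M = p ^ a} := by
      simp only [hf, hA, Finset.filter_filter]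
      rw [← Fintype.card_subtype, ← Nat.card_eq_fintype_card]
      refine Nat.card_congr
        { toFun := fun H => ⟨H.1.subgroupOf K, by
            rw [Nat.card_congr (Subgroup.subgroupOfEquivOfLe H.2.2).toEquiv]; exact H.2.1⟩
          invFun := fun M => ⟨M.1.map K.subtype, by
            rw [Subgroup.card_map_of_injective K.subtype_injective]; exact M.2,
            Subgroup.map_subtype_le _⟩
          left_inv := fun H => Subtype.ext (Subgroup.map_subgroupOf_eq_of_le H.2.2)
          right_inv := fun M => Subtype.ext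
            (Subgroup.comap_map_eq_self_of_injective K.subtype_injective _) }
    by_cases hc : IsCyclic K
    · have h1 : Nat.card {M : Subgroup K // Nat.card M = p ^ a} = 1 := by
        rw [Nat.card_eq_one_iff_exists]
        obtain ⟨M, hM⟩ := Sylow.exists_subgroup_card_pow_prime p (n := a) (G := K)
          (hKc ▸ pow_dvd_pow p (Nat.le_succ a))
        exact ⟨⟨M, hM⟩, fun M' => Subtype.ext (eq_of_card_eq (M'.2.trans hM.symm))⟩
      rw [hfK, h1, if_pos hc]
      simp
    · rw [hfK, card_index_prime K hKc hc, if_neg hc]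
      simp

omit hp in
theorem choose_pred_mul {n k : ℕ} (hn : 1 ≤ n) (hk : 1 ≤ k) :
    n.choose k * k = n * (n - 1).choose (k - 1) := by
  obtain ⟨n, rfl⟩ := Nat.exists_eq_add_of_le' hn
  obtain ⟨k, rfl⟩ := Nat.exists_eq_add_of_le' hk
  simpa using (Nat.add_one_mul_choose_eq n k).symm

/-- The relation modulo `p ^ 2` before comparison with the cyclic group. -/
theorem master (a : ℕ) {m : ℕ} (hm : Nat.card G = p ^ (a + 1) * m) :
    ((Nat.card G - 1).choose (p ^ (a + 1) - 1) : ZMod (p ^ 2)) + p =
      Nat.card {H : Subgroup G // Nat.card H = p ^ a} * ((m * p - 1).choose (p - 1) : ℕ) +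
        p * Nat.card {H : Subgroup G // IsCyclic H ∧ Nat.card H = p ^ (a + 1)} := by
  have hpp : p.Prime := hp.out
  have hm0 : m ≠ 0 := by
    rintro rfl
    exact Nat.card_pos.ne' (hm.trans (mul_zero _))
  obtain ⟨I, hI1, hI2⟩ := choose_modEq a hm
  have hN1 : (Nat.card G).choose (p ^ (a + 1)) = m * (Nat.card G - 1).choose (p ^ (a + 1) - 1) :=
    Nat.eq_of_mul_eq_mul_right (pow_pos hpp.pos (a + 1)) (by
      rw [choose_pred_mul Nat.card_pos (pow_pos hpp.pos _)]
      nth_rewrite 1 [hm]; ring)
  have hD1 : (m * p).choose p = m * (m * p - 1).choose (p - 1) :=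
    Nat.eq_of_mul_eq_mul_right hpp.pos (by
      rw [choose_pred_mul (Nat.one_le_iff_ne_zero.2 (mul_ne_zero hm0 hpp.ne_zero)) hpp.one_le]
      ring)
  rw [hN1, hD1, ← mul_add, mul_left_comm _ m, mul_comm _ m, ← mul_add] at hI1
  have hI3 := (ZMod.natCast_eq_natCast_iff _ _ _).2 (Nat.ModEq.mul_left_cancel' hm0 hI1)
  simp only [Nat.cast_add, Nat.cast_mul] at hI3
  obtain ⟨c, hc⟩ : ∃ c, Nat.card {H : Subgroup G // Nat.card H = p ^ (a + 1)} = 1 + p * c := by
    have h := CfsgLib.PGroup.card_subgroups_prime_pow_modEq p (a + 1) hpp (hm ▸ dvd_mul_right _ _)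
    refine ⟨Nat.card {H : Subgroup G // Nat.card H = p ^ (a + 1)} / p,
      (Nat.mod_add_div _ p).symm.trans ?_⟩
    rw [h, Nat.mod_eq_of_lt hpp.one_lt]
  have h2 : ((p : ZMod (p ^ 2))) ^ 2 = 0 := by
    rw [← Nat.cast_pow, ZMod.natCast_self]
  rw [hc] at hI2 hI3
  push_cast at hI2 hI3
  linear_combination hI3 - hI2 - (c : ZMod (p ^ 2)) * h2

/-- Kulakoff's congruence. -/
theorem card_subgroups_add (a : ℕ) (hdvd : p ^ (a + 1) ∣ Nat.card G) :
    Nat.card {H : Subgroup G // Nat.card H = p ^ a} +
      p * Nat.card {H : Subgroup G // IsCyclic H ∧ Nat.card H = p ^ (a + 1)} ≡ 1 + p [MOD p ^ 2] := by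
  have hpp : p.Prime := hp.out
  obtain ⟨m, hm⟩ := hdvd
  haveI : NeZero (Nat.card G) := ⟨Nat.card_pos.ne'⟩
  let C := Multiplicative (ZMod (Nat.card G))
  have hC : Nat.card C = Nat.card G := by simp [C]
  haveI : IsCyclic C := isCyclic_multiplicative
  have hG := master (G := G) a hm
  have hCm := master (G := C) a (hC.trans hm)
  have h1 : Nat.card {H : Subgroup C // Nat.card H = p ^ a} = 1 := by
    rw [Nat.card_eq_one_iff_exists]
    obtain ⟨M, hM⟩ := Sylow.exists_subgroup_card_pow_prime p (n := a) (G := C)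
      (hC ▸ hm ▸ (pow_dvd_pow p (Nat.le_succ a)).trans (dvd_mul_right _ _))
    exact ⟨⟨M, hM⟩, fun M' => Subtype.ext (eq_of_card_eq (M'.2.trans hM.symm))⟩
  have h1' : Nat.card {H : Subgroup C // IsCyclic H ∧ Nat.card H = p ^ (a + 1)} = 1 := by
    rw [Nat.card_eq_one_iff_exists]
    obtain ⟨M, hM⟩ := Sylow.exists_subgroup_card_pow_prime p (n := a + 1) (G := C)
      (hC ▸ hm ▸ dvd_mul_right _ _)
    exact ⟨⟨M, inferInstance, hM⟩, fun M' => Subtype.ext (eq_of_card_eq (M'.2.2.trans hM.symm))⟩
  rw [h1, h1', hC] at hCm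
  simp only [Nat.cast_one, one_mul, mul_one] at hCm
  have hDp : (m * p - 1).choose (p - 1) ≡ 1 [MOD p] := by
    obtain ⟨k, rfl⟩ := Nat.exists_eq_add_of_le' (show 1 ≤ m from Nat.one_le_iff_ne_zero.2 (by
      rintro rfl
      exact Nat.card_pos.ne' (hm.trans (mul_zero _))))
    have h := Choose.choose_modEq_choose_mod_mul_choose_div_nat (p := p) (n := (k + 1) * p - 1)
      (k := p - 1)
    have hp1 := hpp.one_le
    rw [show (k + 1) * p - 1 = p - 1 + p * k by rw [add_mul, one_mul, mul_comm k]; omega,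
      Nat.add_mul_mod_self_left, Nat.mod_eq_of_lt (by omega : p - 1 < p),
      Nat.add_mul_div_left _ _ hpp.pos, Nat.div_eq_of_lt (by omega : p - 1 < p), Nat.choose_self,
      Nat.choose_zero_right, mul_one] at h
    rwa [show (k + 1) * p - 1 = p - 1 + p * k by rw [add_mul, one_mul, mul_comm k]; omega]
  generalize (m * p - 1).choose (p - 1) = D at hG hCm hDp
  obtain ⟨d, rfl⟩ : ∃ d, D = 1 + p * d := by
    refine ⟨D / p, (Nat.mod_add_div D p).symm.trans ?_⟩
    rw [hDp, Nat.mod_eq_of_lt hpp.one_lt]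
  rw [← ZMod.natCast_eq_natCast_iff]
  push_cast at hG hCm ⊢
  have h2 : ((p : ZMod (p ^ 2))) ^ 2 = 0 := by
    rw [← Nat.cast_pow, ZMod.natCast_self]
  linear_combination (1 - (p : ZMod (p ^ 2)) * d) * (hCm - hG) +
    ((Nat.card {H : Subgroup G // Nat.card H = p ^ a} : ZMod (p ^ 2)) * (d : ZMod (p ^ 2)) ^ 2 +
      d * (Nat.card {H : Subgroup G // IsCyclic H ∧ Nat.card H = p ^ (a + 1)} : ZMod (p ^ 2)) -
      d - (d : ZMod (p ^ 2)) ^ 2) * h2

end CfsgLib.PGroup.Kulakoff

namespace CfsgLib.PGroup.Kulakoff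

variable {p : ℕ} [hp : Fact p.Prime]

theorem prime_dvd_of_pow_dvd_totient_mul {s c : ℕ} (hs : 1 ≤ s)
    (h : p ^ s ∣ (p ^ s).totient * c) : p ∣ c := by
  rw [Nat.totient_prime_pow hp.out hs, show p ^ s = p ^ (s - 1) * p by
    rw [← pow_succ, Nat.sub_add_cancel hs], mul_assoc] at h
  exact ((Nat.coprime_self_sub_right hp.out.one_le).2 (Nat.coprime_one_right p)).dvd_of_dvd_mul_left
    (Nat.dvd_of_mul_dvd_mul_left (pow_pos hp.out.pos _) h)

end CfsgLib.PGroup.Kulakoff
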