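import Cfsg.Agent.Lib.PGroup.ExtraspecialCard
import Cfsg.Agent.Lib.Coprime.PGroupFrattini

/-!
# Extraspecial groups of a given order: one class of exponent `p`, at most two classes for `p = 2`
-/

set_option autoImplicit false
set_option linter.style.haveILetI false
set_option linter.unusedSectionVars false

open Subgroup
open scoped commutatorElement

namespace CfsgLib.PGroup

universe u v w

/-- A subgroup of a product projecting bijectively to both factors is an isomorphism. -/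
theorem exists_equiv_of_graph {G₁ : Type u} {G₂ : Type v} [Group G₁] [Group G₂]
    (Γ : Subgroup (G₁ × G₂)) (h1 : ∀ g, ∃ t, (g, t) ∈ Γ) (h2 : ∀ t, ∃ g, (g, t) ∈ Γ)
    (k1 : ∀ t, (1, t) ∈ Γ → t = 1) (k2 : ∀ g, (g, 1) ∈ Γ → g = 1) :
    ∃ e : G₁ ≃* G₂, ∀ g t, (g, t) ∈ Γ → e g = t := by
  let f₁ := (MonoidHom.fst G₁ G₂).comp Γ.subtype
  let f₂ := (MonoidHom.snd G₁ G₂).comp Γ.subtype
  have b1 : Function.Bijective f₁ := ⟨(injective_iff_map_eq_one _).2 fun q hq => by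
    obtain ⟨⟨g, t⟩, hgt⟩ := q
    have hg : g = 1 := hq
    subst hg
    exact Subtype.ext (Prod.ext rfl (k1 t hgt)), fun g => by
    obtain ⟨t, ht⟩ := h1 g
    exact ⟨⟨_, ht⟩, rfl⟩⟩
  have b2 : Function.Bijective f₂ := ⟨(injective_iff_map_eq_one _).2 fun q hq => by
    obtain ⟨⟨g, t⟩, hgt⟩ := q
    have ht : t = 1 := hq
    subst ht
    exact Subtype.ext (Prod.ext (k2 g hgt) rfl), fun t => by
    obtain ⟨g, hg⟩ := h2 t
    exact ⟨⟨_, hg⟩, rfl⟩⟩
  refine ⟨(MulEquiv.ofBijective f₁ b1).symm.trans (MulEquiv.ofBijective f₂ b2), fun g t hgt => ?_⟩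
  have e : (MulEquiv.ofBijective f₁ b1).symm g = ⟨(g, t), hgt⟩ := by
    rw [MulEquiv.symm_apply_eq]; rfl
  simp only [MulEquiv.trans_apply, e]
  rfl

/-- Commutation with a fixed element, in a group of class two. -/
def commHom {G : Type u} [Group G] (hcl : ∀ a b : G, ⁅a, b⁆ ∈ center G) (t : G) : G →* G :=
  MonoidHom.mk' (fun g => ⁅g, t⁆) fun g h => by
    show ⁅g * h, t⁆ = ⁅g, t⁆ * ⁅h, t⁆
    have e : ⁅g * h, t⁆ = g * ⁅h, t⁆ * g⁻¹ * ⁅g, t⁆ := by
      simp only [commutatorElement_def]; group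
    rw [e, mem_center_iff.1 (hcl h t) g, mul_inv_cancel_right, mem_center_iff.1 (hcl g t) ⁅h, t⁆]

/-- The properties kept through the induction. -/
structure SmallCenter (p : ℕ) (G : Type u) [Group G] : Prop where
  /-- The centre has order `p`. -/
  card_center : Nat.card (center G) = p
  /-- Commutators are central. -/
  comm_mem : ∀ a b : G, ⁅a, b⁆ ∈ center G
  /-- `p`-th powers are central. -/
  pow_mem : ∀ g : G, g ^ p ∈ center G

variable {p : ℕ} [Fact p.Prime]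

theorem SmallCenter.zpowers_cover {G : Type u} [Group G] (h : SmallCenter p G) {z g : G}
    (hz : z ∈ center G) (hz1 : z ≠ 1) (hg : g ∈ center G) : g ∈ zpowers z := by
  obtain ⟨k, hk⟩ := mem_zpowers_iff.1 (mem_zpowers_of_prime_card h.card_center
    (fun e => hz1 (congrArg Subtype.val e) : (⟨z, hz⟩ : center G) ≠ 1) (g' := ⟨g, hg⟩))
  exact ⟨k, congrArg Subtype.val hk⟩

theorem SmallCenter.orderOf_eq {G : Type u} [Group G] (h : SmallCenter p G) {z : G}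
    (hz : z ∈ center G) (hz1 : z ≠ 1) : orderOf z = p := by
  haveI : Finite (center G) := Nat.finite_of_card_ne_zero (h.card_center ▸ (Fact.out : p.Prime).ne_zero)
  have hd : orderOf (⟨z, hz⟩ : center G) ∣ p := h.card_center ▸ orderOf_dvd_natCard _
  rw [← Subgroup.orderOf_coe] at hd
  exact ((Nat.dvd_prime Fact.out).1 hd).resolve_left fun e => hz1 (orderOf_eq_one_iff.1 e)

/-- A pair of elements with prescribed commutator and `p`-th powers. -/
structure PairIn (p : ℕ) {G : Type u} [Group G] (z : G) (a b : ℕ) (x y : G) : Prop where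
  /-- The commutator. -/
  comm : ⁅x, y⁆ = z
  /-- The power of the first. -/
  pow_x : x ^ p = z ^ a
  /-- The power of the second. -/
  pow_y : y ^ p = z ^ b

section pair

variable {G : Type u} [Group G] [Finite G] (h : SmallCenter p G) {z x y : G} {a b : ℕ}
  (hz : z ∈ center G) (hz1 : z ≠ 1) (d : PairIn p z a b x y)

include h hz hz1 d

omit [Finite G] [Fact p.Prime] hz1 in
theorem PairIn.comm_x (i j : ℤ) : ⁅y ^ i * x ^ j, x⁆ = (z ^ i)⁻¹ := by
  show commHom h.comm_mem x (y ^ i * x ^ j) = _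
  rw [map_mul, map_zpow, map_zpow,
    show commHom h.comm_mem x x = 1 from commutatorElement_self x,
    show commHom h.comm_mem x y = z⁻¹ from by
      show ⁅y, x⁆ = z⁻¹
      rw [← commutatorElement_inv, d.comm]]
  rw [one_zpow, mul_one, inv_zpow]

omit [Finite G] [Fact p.Prime] hz1 in
theorem PairIn.comm_y (i j : ℤ) : ⁅y ^ i * x ^ j, y⁆ = z ^ j := by
  show commHom h.comm_mem y (y ^ i * x ^ j) = _
  rw [map_mul, map_zpow, map_zpow, show commHom h.comm_mem y y = 1 from commutatorElement_self y,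
    show commHom h.comm_mem y x = z from d.comm]
  rw [one_zpow, one_mul]

omit [Finite G] [Fact p.Prime] hz1 in
theorem PairIn.swap (j k : ℤ) : x ^ j * y ^ k = z ^ (j * k) * (y ^ k * x ^ j) := by
  have h1 : ⁅x ^ j, y⁆ = z ^ j := by simpa using d.comm_y h hz 0 j
  have h2 : ⁅y ^ k, x ^ j⁆ = (z ^ (j * k))⁻¹ := by
    show commHom h.comm_mem (x ^ j) (y ^ k) = _
    rw [map_zpow, show commHom h.comm_mem (x ^ j) y = (z ^ j)⁻¹ from by
      show ⁅y, x ^ j⁆ = _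
      rw [← commutatorElement_inv, h1], inv_zpow, zpow_mul]
  have h3 : ⁅x ^ j, y ^ k⁆ = z ^ (j * k) := by rw [← commutatorElement_inv, h2, inv_inv]
  rw [← h3, commutatorElement_def]
  group

omit [Finite G] in
theorem PairIn.decomp (g : G) : ∃ c ∈ centralizer {x} ⊓ centralizer {y}, ∃ i j : ℤ,
    g = c * (y ^ i * x ^ j) := by
  obtain ⟨s, hs⟩ := h.zpowers_cover hz hz1 (h.comm_mem g x)
  obtain ⟨t, ht⟩ := h.zpowers_cover hz hz1 (h.comm_mem g y)
  refine ⟨g * (y ^ (-s) * x ^ t)⁻¹, mem_inf.2 ⟨?_, ?_⟩, -s, t, by rw [inv_mul_cancel_right]⟩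
  · refine mem_centralizer_singleton_iff.2 (commutatorElement_eq_one_iff_mul_comm.1 ?_)
    show commHom h.comm_mem x _ = 1
    rw [map_mul, map_inv]
    show ⁅g, x⁆ * ⁅y ^ (-s) * x ^ t, x⁆⁻¹ = 1
    rw [d.comm_x h hz, ← hs, inv_inv, zpow_neg]
    exact mul_inv_cancel _
  · refine mem_centralizer_singleton_iff.2 (commutatorElement_eq_one_iff_mul_comm.1 ?_)
    show commHom h.comm_mem y _ = 1
    rw [map_mul, map_inv]
    show ⁅g, y⁆ * ⁅y ^ (-s) * x ^ t, y⁆⁻¹ = 1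
    rw [d.comm_y h hz, ← ht]
    exact mul_inv_cancel _

omit [Finite G] in
theorem PairIn.dvd_of_mem {c : G} (hc : c ∈ centralizer {x} ⊓ centralizer {y}) {i j : ℤ}
    (he : c * (y ^ i * x ^ j) = 1) : (p : ℤ) ∣ i ∧ (p : ℤ) ∣ j := by
  have e : y ^ i * x ^ j = c⁻¹ := by rw [eq_inv_iff_mul_eq_one]; exact mul_eq_one_comm.1 he
  have h1 := d.comm_x h hz i j
  have h2 := d.comm_y h hz i j
  rw [e, commutatorElement_eq_one_iff_mul_comm.2
    (mem_centralizer_singleton_iff.1 (inv_mem (mem_inf.1 hc).1))] at h1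
  rw [e, commutatorElement_eq_one_iff_mul_comm.2
    (mem_centralizer_singleton_iff.1 (inv_mem (mem_inf.1 hc).2))] at h2
  exact ⟨h.orderOf_eq hz hz1 ▸ orderOf_dvd_iff_zpow_eq_one.2 (inv_eq_one.1 h1.symm),
    h.orderOf_eq hz hz1 ▸ orderOf_dvd_iff_zpow_eq_one.2 h2.symm⟩

/-- The centralizer of the pair has the same properties, and index `p²`. -/
theorem PairIn.centralizer_data :
    SmallCenter p ↥(centralizer {x} ⊓ centralizer {y} : Subgroup G) ∧
      Nat.card ↥(centralizer {x} ⊓ centralizer {y} : Subgroup G) * (p * p) = Nat.card G := by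
  set C := centralizer {x} ⊓ centralizer {y} with hC
  have hZC : center G ≤ C := fun g hg => mem_inf.2
    ⟨mem_centralizer_singleton_iff.2 (mem_center_iff.1 hg x).symm,
      mem_centralizer_singleton_iff.2 (mem_center_iff.1 hg y).symm⟩
  have hZeq : center C = (center G).subgroupOf C := by
    refine le_antisymm (fun q hq => mem_center_iff.2 fun g => ?_) fun q hq =>
      mem_center_iff.2 fun c => Subtype.ext (mem_center_iff.1 hq c)
    obtain ⟨c, hc, i, j, rfl⟩ := d.decomp h hz hz1 g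
    have h1 : Commute (q : G) c := (congrArg Subtype.val (mem_center_iff.1 hq ⟨c, hc⟩)).symm
    have h2 : Commute (q : G) x := mem_centralizer_singleton_iff.1 (mem_inf.1 q.2).1
    have h3 : Commute (q : G) y := mem_centralizer_singleton_iff.1 (mem_inf.1 q.2).2
    exact (h1.mul_right ((h3.zpow_right i).mul_right (h2.zpow_right j))).eq.symm
  refine ⟨⟨?_, fun s t => ?_, fun s => ?_⟩, ?_⟩
  · rw [hZeq, Nat.card_congr (subgroupOfEquivOfLe hZC).toEquiv, h.card_center]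
  · rw [hZeq]; exact h.comm_mem s t
  · rw [hZeq]; exact h.pow_mem s
  let F : G →* G × G := (commHom h.comm_mem x).prod (commHom h.comm_mem y)
  have hker : F.ker = C := by
    ext g
    rw [MonoidHom.mem_ker, Prod.ext_iff, hC, mem_inf, mem_centralizer_singleton_iff,
      mem_centralizer_singleton_iff]
    exact and_congr commutatorElement_eq_one_iff_mul_comm commutatorElement_eq_one_iff_mul_comm
  have hran : F.range = (zpowers z).prod (zpowers z) := by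
    refine le_antisymm ?_ ?_
    · rintro _ ⟨g, rfl⟩
      exact ⟨h.zpowers_cover hz hz1 (h.comm_mem g x), h.zpowers_cover hz hz1 (h.comm_mem g y)⟩
    · rintro ⟨s, t⟩ ⟨⟨i, hi⟩, ⟨j, hj⟩⟩
      refine ⟨y ^ (-i) * x ^ j, Prod.ext ?_ ?_⟩
      · show ⁅y ^ (-i) * x ^ j, x⁆ = s
        rw [d.comm_x h hz, ← zpow_neg, neg_neg]; exact hi
      · show ⁅y ^ (-i) * x ^ j, y⁆ = t
        rw [d.comm_y h hz]; exact hj
  have hi := Subgroup.index_ker F
  rw [hker, hran, Nat.card_congr (prodEquiv (zpowers z) (zpowers z)).toEquiv, Nat.card_prod,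
    Nat.card_zpowers, h.orderOf_eq hz hz1] at hi
  rw [← hi, card_mul_index]

end pair

/-- Two groups with corresponding pairs and isomorphic centralizers are isomorphic. -/
theorem exists_equiv_of_pair {G₁ : Type u} {G₂ : Type v} [Group G₁] [Group G₂]
    (h₁ : SmallCenter p G₁) (h₂ : SmallCenter p G₂) {z₁ x₁ y₁ : G₁} {z₂ x₂ y₂ : G₂} {a b : ℕ}
    (hz₁ : z₁ ∈ center G₁) (hz₁1 : z₁ ≠ 1) (hz₂ : z₂ ∈ center G₂) (hz₂1 : z₂ ≠ 1)
    (d₁ : PairIn p z₁ a b x₁ y₁) (d₂ : PairIn p z₂ a b x₂ y₂)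
    (φ : ↥(centralizer {x₁} ⊓ centralizer {y₁} : Subgroup G₁) ≃*
      ↥(centralizer {x₂} ⊓ centralizer {y₂} : Subgroup G₂))
    (hφ : ∀ c : ↥(centralizer {x₁} ⊓ centralizer {y₁} : Subgroup G₁), (c : G₁) = z₁ → (φ c : G₂) = z₂) :
    ∃ e : G₁ ≃* G₂, e z₁ = z₂ := by
  let C₁ : Subgroup G₁ := centralizer {x₁} ⊓ centralizer {y₁}
  let C₂ : Subgroup G₂ := centralizer {x₂} ⊓ centralizer {y₂}
  have hzC : z₁ ∈ C₁ := mem_inf.2 ⟨mem_centralizer_singleton_iff.2 (mem_center_iff.1 hz₁ _).symm,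
    mem_centralizer_singleton_iff.2 (mem_center_iff.1 hz₁ _).symm⟩
  set ζ : C₁ := ⟨z₁, hzC⟩ with hζ
  have hφζ : ∀ n : ℤ, ((φ (ζ ^ n) : C₂) : G₂) = z₂ ^ n := fun n => by
    rw [map_zpow, SubgroupClass.coe_zpow, hφ ζ rfl]
  have comm₁ : ∀ (c : C₁) (i j : ℤ), Commute (c : G₁) (y₁ ^ i * x₁ ^ j) := fun c i j =>
    (Commute.zpow_right (mem_centralizer_singleton_iff.1 (mem_inf.1 c.2).2) i).mul_right
      (Commute.zpow_right (mem_centralizer_singleton_iff.1 (mem_inf.1 c.2).1) j)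
  have comm₂ : ∀ (c : C₂) (i j : ℤ), Commute (c : G₂) (y₂ ^ i * x₂ ^ j) := fun c i j =>
    (Commute.zpow_right (mem_centralizer_singleton_iff.1 (mem_inf.1 c.2).2) i).mul_right
      (Commute.zpow_right (mem_centralizer_singleton_iff.1 (mem_inf.1 c.2).1) j)
  let Γ : Subgroup (G₁ × G₂) :=
    { carrier := {q | ∃ (c : C₁) (i j : ℤ),
        q = ((c : G₁) * (y₁ ^ i * x₁ ^ j), (φ c : G₂) * (y₂ ^ i * x₂ ^ j))}
      one_mem' := ⟨1, 0, 0, Prod.ext (by simp) (by simp)⟩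
      mul_mem' := by
        rintro _ _ ⟨c, i, j, rfl⟩ ⟨c', k, l, rfl⟩
        refine ⟨c * c' * ζ ^ (j * k), i + k, j + l, Prod.ext ?_ ?_⟩
        · show (c : G₁) * (y₁ ^ i * x₁ ^ j) * ((c' : G₁) * (y₁ ^ k * x₁ ^ l)) =
            ((c * c' * ζ ^ (j * k) : C₁) : G₁) * (y₁ ^ (i + k) * x₁ ^ (j + l))
          rw [Subgroup.coe_mul, Subgroup.coe_mul, SubgroupClass.coe_zpow]
          have e := mem_center_iff.1 (zpow_mem hz₁ (j * k))
          calc (c : G₁) * (y₁ ^ i * x₁ ^ j) * ((c' : G₁) * (y₁ ^ k * x₁ ^ l))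
              = c * ((y₁ ^ i * x₁ ^ j) * c') * (y₁ ^ k * x₁ ^ l) := by group
            _ = c * c' * y₁ ^ i * (x₁ ^ j * y₁ ^ k) * x₁ ^ l := by rw [← (comm₁ c' i j).eq]; group
            _ = c * c' * (y₁ ^ i * z₁ ^ (j * k)) * y₁ ^ k * x₁ ^ j * x₁ ^ l := by
              rw [d₁.swap h₁ hz₁]; group
            _ = c * c' * z₁ ^ (j * k) * (y₁ ^ (i + k) * x₁ ^ (j + l)) := by rw [e]; group
        · show (φ c : G₂) * (y₂ ^ i * x₂ ^ j) * ((φ c' : G₂) * (y₂ ^ k * x₂ ^ l)) =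
            ((φ (c * c' * ζ ^ (j * k)) : C₂) : G₂) * (y₂ ^ (i + k) * x₂ ^ (j + l))
          rw [map_mul, map_mul, Subgroup.coe_mul, Subgroup.coe_mul, hφζ]
          have e := mem_center_iff.1 (zpow_mem hz₂ (j * k))
          calc (φ c : G₂) * (y₂ ^ i * x₂ ^ j) * ((φ c' : G₂) * (y₂ ^ k * x₂ ^ l))
              = φ c * ((y₂ ^ i * x₂ ^ j) * φ c') * (y₂ ^ k * x₂ ^ l) := by group
            _ = φ c * φ c' * y₂ ^ i * (x₂ ^ j * y₂ ^ k) * x₂ ^ l := by
              rw [← (comm₂ (φ c') i j).eq]; group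
            _ = φ c * φ c' * (y₂ ^ i * z₂ ^ (j * k)) * y₂ ^ k * x₂ ^ j * x₂ ^ l := by
              rw [d₂.swap h₂ hz₂]; group
            _ = φ c * φ c' * z₂ ^ (j * k) * (y₂ ^ (i + k) * x₂ ^ (j + l)) := by rw [e]; group
      inv_mem' := by
        rintro _ ⟨c, i, j, rfl⟩
        refine ⟨c⁻¹ * ζ ^ (-j * -i), -i, -j, Prod.ext ?_ ?_⟩
        · show ((c : G₁) * (y₁ ^ i * x₁ ^ j))⁻¹ =
            ((c⁻¹ * ζ ^ (-j * -i) : C₁) : G₁) * (y₁ ^ (-i) * x₁ ^ (-j))
          rw [Subgroup.coe_mul, SubgroupClass.coe_zpow, InvMemClass.coe_inv, mul_assoc,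
            ← d₁.swap h₁ hz₁, (comm₁ c i j).eq, mul_inv_rev, mul_inv_rev, zpow_neg, zpow_neg]
        · show ((φ c : G₂) * (y₂ ^ i * x₂ ^ j))⁻¹ =
            ((φ (c⁻¹ * ζ ^ (-j * -i)) : C₂) : G₂) * (y₂ ^ (-i) * x₂ ^ (-j))
          rw [map_mul, map_inv, Subgroup.coe_mul, hφζ, InvMemClass.coe_inv, mul_assoc,
            ← d₂.swap h₂ hz₂, (comm₂ (φ c) i j).eq, mul_inv_rev, mul_inv_rev, zpow_neg, zpow_neg] }
  obtain ⟨e, he⟩ := exists_equiv_of_graph Γ
    (fun g => by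
      obtain ⟨c, hc, i, j, rfl⟩ := d₁.decomp h₁ hz₁ hz₁1 g
      exact ⟨_, ⟨c, hc⟩, i, j, rfl⟩)
    (fun t => by
      obtain ⟨c, hc, i, j, rfl⟩ := d₂.decomp h₂ hz₂ hz₂1 t
      exact ⟨_, φ.symm ⟨c, hc⟩, i, j, Prod.ext rfl (by simp)⟩)
    (by
      rintro t ⟨c, i, j, he⟩
      obtain ⟨hg, rfl⟩ := Prod.ext_iff.1 he
      dsimp only at hg ⊢
      obtain ⟨⟨m, rfl⟩, l, rfl⟩ := d₁.dvd_of_mem h₁ hz₁ hz₁1 c.2 hg.symm
      have hc : c = ζ ^ (-((b : ℤ) * m + (a : ℤ) * l)) := by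
        apply Subtype.ext
        rw [zpow_mul, zpow_mul, zpow_natCast, zpow_natCast, d₁.pow_y, d₁.pow_x, ← zpow_natCast z₁ b,
          ← zpow_natCast z₁ a, ← zpow_mul, ← zpow_mul, ← zpow_add] at hg
        rw [SubgroupClass.coe_zpow, zpow_neg, eq_inv_iff_mul_eq_one]
        exact hg.symm
      rw [hc, hφζ, zpow_mul y₂, zpow_mul x₂, zpow_natCast, zpow_natCast, d₂.pow_y, d₂.pow_x,
        ← zpow_natCast z₂ b, ← zpow_natCast z₂ a, ← zpow_mul, ← zpow_mul, ← zpow_add, ← zpow_add]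
      simp)
    (by
      rintro g ⟨c, i, j, he⟩
      obtain ⟨rfl, hg⟩ := Prod.ext_iff.1 he
      dsimp only at hg ⊢
      obtain ⟨⟨m, rfl⟩, l, rfl⟩ := d₂.dvd_of_mem h₂ hz₂ hz₂1 (φ c).2 hg.symm
      have hc : c = ζ ^ (-((b : ℤ) * m + (a : ℤ) * l)) := by
        apply φ.injective
        apply Subtype.ext
        rw [zpow_mul, zpow_mul, zpow_natCast, zpow_natCast, d₂.pow_y, d₂.pow_x, ← zpow_natCast z₂ b,
          ← zpow_natCast z₂ a, ← zpow_mul, ← zpow_mul, ← zpow_add] at hg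
        rw [hφζ, zpow_neg, eq_inv_iff_mul_eq_one]
        exact hg.symm
      rw [hc, SubgroupClass.coe_zpow, zpow_mul y₁, zpow_mul x₁, zpow_natCast, zpow_natCast, d₁.pow_y,
        d₁.pow_x, ← zpow_natCast z₁ b, ← zpow_natCast z₁ a, ← zpow_mul, ← zpow_mul, ← zpow_add,
        ← zpow_add]
      simp [hζ])
  exact ⟨e, he z₁ z₂ ⟨ζ, 0, 0, Prod.ext (by simp [hζ]) (by
    show z₂ = (φ ζ : G₂) * (y₂ ^ (0 : ℤ) * x₂ ^ (0 : ℤ))
    rw [zpow_zero, zpow_zero, one_mul, mul_one]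
    exact (hφ ζ rfl).symm)⟩⟩

/-- Groups equal to their centres of order `p`. -/
theorem exists_equiv_of_card_prime {G₁ : Type u} {G₂ : Type v} [Group G₁] [Group G₂]
    (hc₁ : Nat.card G₁ = p) (hc₂ : Nat.card G₂ = p) {z₁ : G₁} (hz₁ : z₁ ≠ 1) {z₂ : G₂} (hz₂ : z₂ ≠ 1) :
    ∃ e : G₁ ≃* G₂, e z₁ = z₂ := by
  haveI : Finite G₁ := Nat.finite_of_card_ne_zero (hc₁ ▸ (Fact.out : p.Prime).ne_zero)
  haveI : Finite G₂ := Nat.finite_of_card_ne_zero (hc₂ ▸ (Fact.out : p.Prime).ne_zero)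
  have ho₁ : orderOf z₁ = p := ((Nat.dvd_prime Fact.out).1 (hc₁ ▸ orderOf_dvd_natCard z₁)).resolve_left
    fun e => hz₁ (orderOf_eq_one_iff.1 e)
  have ho₂ : orderOf z₂ = p := ((Nat.dvd_prime Fact.out).1 (hc₂ ▸ orderOf_dvd_natCard z₂)).resolve_left
    fun e => hz₂ (orderOf_eq_one_iff.1 e)
  obtain ⟨e, he⟩ := exists_equiv_of_graph (zpowers (z₁, z₂))
    (fun g => by
      obtain ⟨i, rfl⟩ := mem_zpowers_iff.1 (mem_zpowers_of_prime_card hc₁ hz₁ (g' := g))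
      exact ⟨z₂ ^ i, i, rfl⟩)
    (fun t => by
      obtain ⟨i, rfl⟩ := mem_zpowers_iff.1 (mem_zpowers_of_prime_card hc₂ hz₂ (g' := t))
      exact ⟨z₁ ^ i, i, rfl⟩)
    (by
      rintro t ⟨i, hi⟩
      have h1 : z₁ ^ i = 1 := congrArg Prod.fst hi
      have h2 : z₂ ^ i = t := congrArg Prod.snd hi
      rw [← h2]
      show z₂ ^ i = 1
      rw [← orderOf_dvd_iff_zpow_eq_one, ho₂, ← ho₁, orderOf_dvd_iff_zpow_eq_one]
      exact h1)
    (by
      rintro g ⟨i, hi⟩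
      have h1 : z₁ ^ i = g := congrArg Prod.fst hi
      have h2 : z₂ ^ i = 1 := congrArg Prod.snd hi
      rw [← h1]
      show z₁ ^ i = 1
      rw [← orderOf_dvd_iff_zpow_eq_one, ho₁, ← ho₂, orderOf_dvd_iff_zpow_eq_one]
      exact h2)
  exact ⟨e, he z₁ z₂ (mem_zpowers _)⟩

/-- A noncentral element extends to a pair with given commutator. -/
theorem SmallCenter.exists_partner {G : Type u} [Group G] (h : SmallCenter p G) {z x : G}
    (hz : z ∈ center G) (hz1 : z ≠ 1) (hx : x ∉ center G) : ∃ y, ⁅x, y⁆ = z := by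
  obtain ⟨y, hy⟩ : ∃ y, ⁅y, x⁆ ≠ 1 := by
    by_contra hno
    push Not at hno
    exact hx (mem_center_iff.2 fun g => commutatorElement_eq_one_iff_mul_comm.1 (hno g))
  obtain ⟨k, hk⟩ := h.zpowers_cover (h.comm_mem y x) hy (inv_mem hz)
  refine ⟨y ^ k, ?_⟩
  rw [← commutatorElement_inv]
  show (commHom h.comm_mem x (y ^ k))⁻¹ = z
  rw [map_zpow, show commHom h.comm_mem x y = ⁅y, x⁆ from rfl]
  rw [show ⁅y, x⁆ ^ k = z⁻¹ from hk, inv_inv]

/-- Uniqueness in exponent `p`. -/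
theorem exists_equiv_of_exponent (n : ℕ) : ∀ (G₁ : Type u) (G₂ : Type v) [Group G₁] [Group G₂]
    [Finite G₁] [Finite G₂], SmallCenter p G₁ → SmallCenter p G₂ → (∀ g : G₁, g ^ p = 1) →
    (∀ g : G₂, g ^ p = 1) → Nat.card G₁ = p ^ (2 * n + 1) → Nat.card G₂ = p ^ (2 * n + 1) →
    ∀ z₁ : G₁, z₁ ∈ center G₁ → z₁ ≠ 1 → ∀ z₂ : G₂, z₂ ∈ center G₂ → z₂ ≠ 1 →
    ∃ e : G₁ ≃* G₂, e z₁ = z₂ := by
  induction n with
  | zero =>
      intro G₁ G₂ _ _ _ _ _ _ _ _ hc₁ hc₂ z₁ _ hz₁1 z₂ _ hz₂1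
      exact exists_equiv_of_card_prime (by simpa using hc₁) (by simpa using hc₂) hz₁1 hz₂1
  | succ n ih =>
      intro G₁ G₂ _ _ _ _ h₁ h₂ he₁ he₂ hc₁ hc₂ z₁ hz₁ hz₁1 z₂ hz₂ hz₂1
      have hlt : p < p ^ (2 * (n + 1) + 1) := lt_self_pow₀ (Fact.out : p.Prime).one_lt (by omega)
      obtain ⟨x₁, hx₁⟩ : ∃ x, x ∉ center G₁ := SetLike.exists_not_mem_of_ne_top _ fun e => by
        have := h₁.card_center; rw [e, Subgroup.card_top, hc₁] at this; omega
      obtain ⟨x₂, hx₂⟩ : ∃ x, x ∉ center G₂ := SetLike.exists_not_mem_of_ne_top _ fun e => by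
        have := h₂.card_center; rw [e, Subgroup.card_top, hc₂] at this; omega
      obtain ⟨y₁, hy₁⟩ := h₁.exists_partner hz₁ hz₁1 hx₁
      obtain ⟨y₂, hy₂⟩ := h₂.exists_partner hz₂ hz₂1 hx₂
      have d₁ : PairIn p z₁ 0 0 x₁ y₁ := ⟨hy₁, by rw [he₁, pow_zero], by rw [he₁, pow_zero]⟩
      have d₂ : PairIn p z₂ 0 0 x₂ y₂ := ⟨hy₂, by rw [he₂, pow_zero], by rw [he₂, pow_zero]⟩
      obtain ⟨g₁, hg₁⟩ := d₁.centralizer_data h₁ hz₁ hz₁1
      obtain ⟨g₂, hg₂⟩ := d₂.centralizer_data h₂ hz₂ hz₂1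
      have hpos : 0 < p * p := Nat.mul_pos (Fact.out : p.Prime).pos (Fact.out : p.Prime).pos
      have hexp : p ^ (2 * (n + 1) + 1) = p ^ (2 * n + 1) * (p * p) := by ring
      obtain ⟨φ, hφ⟩ := ih _ _ g₁ g₂ (fun g => Subtype.ext (he₁ g)) (fun g => Subtype.ext (he₂ g))
        (Nat.eq_of_mul_eq_mul_right hpos (by rw [hg₁, hc₁, hexp]))
        (Nat.eq_of_mul_eq_mul_right hpos (by rw [hg₂, hc₂, hexp]))
        ⟨z₁, mem_inf.2 ⟨mem_centralizer_singleton_iff.2 (mem_center_iff.1 hz₁ _).symm,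
          mem_centralizer_singleton_iff.2 (mem_center_iff.1 hz₁ _).symm⟩⟩
        (mem_center_iff.2 fun g => Subtype.ext (mem_center_iff.1 hz₁ g))
        (fun e => hz₁1 (congrArg Subtype.val e))
        ⟨z₂, mem_inf.2 ⟨mem_centralizer_singleton_iff.2 (mem_center_iff.1 hz₂ _).symm,
          mem_centralizer_singleton_iff.2 (mem_center_iff.1 hz₂ _).symm⟩⟩
        (mem_center_iff.2 fun g => Subtype.ext (mem_center_iff.1 hz₂ g))
        (fun e => hz₂1 (congrArg Subtype.val e))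
      refine exists_equiv_of_pair h₁ h₂ hz₁ hz₁1 hz₂ hz₂1 d₁ d₂ φ fun c hc => ?_
      rw [show c = ⟨z₁, hc ▸ c.2⟩ from Subtype.ext hc, hφ]

section two

/-- Two smallest data: either both squares are trivial or both are `z`. -/
theorem SmallCenter.exists_pair_two {G : Type u} [Group G] [Finite G] (h : SmallCenter 2 G) {z : G}
    (hz : z ∈ center G) (hz1 : z ≠ 1) (hne : center G ≠ ⊤) :
    ∃ (a : ℕ) (x y : G), a ≤ 1 ∧ PairIn 2 z a a x y ∧
      ((∃ g, g ∉ center G ∧ g ^ 2 = 1) → a = 0) := by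
  haveI := Fact.mk Nat.prime_two
  have hsq : ∀ g : G, g ^ 2 = 1 ∨ g ^ 2 = z := fun g => by
    obtain ⟨k, hk⟩ := h.zpowers_cover hz hz1 (h.pow_mem g)
    simp only at hk
    have hz2 : z ^ 2 = 1 := h.orderOf_eq hz hz1 ▸ pow_orderOf_eq_one z
    rcases Int.even_or_odd k with ⟨m, rfl⟩ | ⟨m, rfl⟩
    · left
      rw [← hk, show m + m = ((2 : ℕ) : ℤ) * m by push_cast; ring, zpow_mul, zpow_natCast, hz2,
        one_zpow]
    · right
      rw [← hk, show (2 * m + 1 : ℤ) = ((2 : ℕ) : ℤ) * m + 1 by push_cast; ring, zpow_add, zpow_mul,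
        zpow_natCast, hz2, one_zpow, one_mul, zpow_one]
  by_cases hex : ∃ g, g ∉ center G ∧ g ^ 2 = 1
  · obtain ⟨x, hx, hx2⟩ := hex
    obtain ⟨y, hy⟩ := h.exists_partner hz hz1 hx
    rcases hsq y with hy2 | hy2
    · exact ⟨0, x, y, by omega, ⟨hy, by rw [hx2, pow_zero], by rw [hy2, pow_zero]⟩, fun _ => rfl⟩
    · have hxy : x * y = z * y * x := by rw [← hy, commutatorElement_def]; group
      have hxy' : ⁅x, y * x⁆ = z := by rw [← hy]; simp only [commutatorElement_def]; group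
      refine ⟨0, x, y * x, by omega, ⟨hxy', by rw [hx2, pow_zero], ?_⟩, fun _ => rfl⟩
      rw [pow_zero, pow_two]
      calc y * x * (y * x) = y * (x * y) * x := by group
        _ = (y * z) * y * (x * x) := by rw [hxy]; group
        _ = z * (y ^ 2) * x ^ 2 := by rw [mem_center_iff.1 hz y, pow_two, pow_two]; group
        _ = 1 := by
          rw [hy2, hx2, mul_one, ← pow_two]
          exact h.orderOf_eq hz hz1 ▸ pow_orderOf_eq_one z
  · obtain ⟨x, hx⟩ := SetLike.exists_not_mem_of_ne_top _ hne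
    obtain ⟨y, hy⟩ := h.exists_partner hz hz1 hx
    have hy' : y ∉ center G := fun hc => hz1 (by
      rw [← hy, commutatorElement_eq_one_iff_mul_comm]; exact mem_center_iff.1 hc x)
    have key : ∀ g : G, g ∉ center G → g ^ 2 = z ^ 1 := fun g hg => by
      rw [pow_one]; exact (hsq g).resolve_left fun e => hex ⟨g, hg, e⟩
    exact ⟨1, x, y, le_rfl, ⟨hy, key x hx, key y hy'⟩, fun h' => absurd h' hex⟩

/-- From order `32` there are noncentral involutions. -/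
theorem SmallCenter.exists_involution {G : Type u} [Group G] [Finite G] (h : SmallCenter 2 G) {z : G}
    (hz : z ∈ center G) (hz1 : z ≠ 1) (hcard : 16 ≤ Nat.card G) :
    ∃ g, g ∉ center G ∧ g ^ 2 = 1 := by
  haveI := Fact.mk Nat.prime_two
  by_contra hno
  push Not at hno
  have hz2 : z ^ 2 = 1 := h.orderOf_eq hz hz1 ▸ pow_orderOf_eq_one z
  have key : ∀ g : G, g ∉ center G → g ^ 2 = z := fun g hg => by
    obtain ⟨k, hk⟩ := h.zpowers_cover hz hz1 (h.pow_mem g)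
    simp only at hk
    rcases Int.even_or_odd k with ⟨m, rfl⟩ | ⟨m, rfl⟩
    · refine absurd ?_ (hno g hg)
      rw [← hk, show m + m = ((2 : ℕ) : ℤ) * m by push_cast; ring, zpow_mul, zpow_natCast, hz2,
        one_zpow]
    · rw [← hk, show (2 * m + 1 : ℤ) = ((2 : ℕ) : ℤ) * m + 1 by push_cast; ring, zpow_add, zpow_mul,
        zpow_natCast, hz2, one_zpow, one_mul, zpow_one]
  obtain ⟨x, hx⟩ : ∃ x, x ∉ center G := SetLike.exists_not_mem_of_ne_top _ fun e => by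
    have := h.card_center; rw [e, Subgroup.card_top] at this; omega
  set K := (commHom h.comm_mem x).ker with hK
  have hKi : K.index ≤ 2 := by
    rw [hK, Subgroup.index_ker]
    refine (Subgroup.card_le_of_le ?_).trans h.card_center.le
    rintro _ ⟨g, rfl⟩
    exact h.comm_mem g x
  have hxo : Nat.card (zpowers x) ≤ 4 := by
    rw [Nat.card_zpowers]
    refine Nat.le_of_dvd (by norm_num) (orderOf_dvd_of_pow_eq_one ?_)
    rw [show (4 : ℕ) = 2 * 2 from rfl, pow_mul, key x hx, hz2]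
  obtain ⟨u, huK, hux⟩ : ∃ u ∈ K, u ∉ zpowers x := by
    by_contra hsub
    push Not at hsub
    have h1 := (Subgroup.card_le_of_le hsub).trans hxo
    have h2 := K.card_mul_index
    have h3 : Nat.card K * K.index ≤ 4 * 2 := Nat.mul_le_mul h1 hKi
    omega
  have hcx : Commute u x := commutatorElement_eq_one_iff_mul_comm.1 huK
  have hcen : ∀ g : G, g ∈ center G → g ∈ zpowers x := fun g hg => by
    obtain ⟨k, hk⟩ := h.zpowers_cover hz hz1 hg
    exact ⟨2 * k, by rw [← hk, ← key x hx]; show x ^ (2 * k) = (x ^ 2) ^ k; rw [zpow_mul, zpow_ofNat]⟩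
  have hu : u ∉ center G := fun hc => hux (hcen u hc)
  refine hno (u * x) (fun hc => hux ?_) ?_
  · have := mul_mem (hcen _ hc) (inv_mem (mem_zpowers x))
    rwa [mul_inv_cancel_right] at this
  · rw [hcx.mul_pow, key u hu, key x hx, ← pow_two, hz2]

/-- Two of three are isomorphic. -/
theorem exists_equiv_two (n : ℕ) : 1 ≤ n → ∀ (G₁ : Type u) (G₂ : Type v) (G₃ : Type w) [Group G₁]
    [Group G₂] [Group G₃] [Finite G₁] [Finite G₂] [Finite G₃],
    SmallCenter 2 G₁ → SmallCenter 2 G₂ → SmallCenter 2 G₃ → Nat.card G₁ = 2 ^ (2 * n + 1) →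
    Nat.card G₂ = 2 ^ (2 * n + 1) → Nat.card G₃ = 2 ^ (2 * n + 1) →
    ∀ z₁ : G₁, z₁ ∈ center G₁ → z₁ ≠ 1 → ∀ z₂ : G₂, z₂ ∈ center G₂ → z₂ ≠ 1 →
    ∀ z₃ : G₃, z₃ ∈ center G₃ → z₃ ≠ 1 →
    (∃ e : G₁ ≃* G₂, e z₁ = z₂) ∨ (∃ e : G₂ ≃* G₃, e z₂ = z₃) ∨ (∃ e : G₁ ≃* G₃, e z₁ = z₃) := by
  haveI := Fact.mk Nat.prime_two
  induction n with
  | zero => intro h; exact absurd h (by omega)
  | succ n ih =>
      intro _ G₁ G₂ G₃ _ _ _ _ _ _ h₁ h₂ h₃ hc₁ hc₂ hc₃ z₁ hz₁ hz₁1 z₂ hz₂ hz₂1 z₃ hz₃ hz₃1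
      have hlt : 2 < 2 ^ (2 * (n + 1) + 1) := lt_self_pow₀ one_lt_two (by omega)
      obtain ⟨a₁, x₁, y₁, ha₁, d₁, f₁⟩ := h₁.exists_pair_two hz₁ hz₁1 (fun e => by
        have := h₁.card_center; rw [e, Subgroup.card_top, hc₁] at this; omega)
      obtain ⟨a₂, x₂, y₂, ha₂, d₂, f₂⟩ := h₂.exists_pair_two hz₂ hz₂1 (fun e => by
        have := h₂.card_center; rw [e, Subgroup.card_top, hc₂] at this; omega)
      obtain ⟨a₃, x₃, y₃, ha₃, d₃, f₃⟩ := h₃.exists_pair_two hz₃ hz₃1 (fun e => by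
        have := h₃.card_center; rw [e, Subgroup.card_top, hc₃] at this; omega)
      obtain ⟨g₁, hg₁⟩ := d₁.centralizer_data h₁ hz₁ hz₁1
      obtain ⟨g₂, hg₂⟩ := d₂.centralizer_data h₂ hz₂ hz₂1
      obtain ⟨g₃, hg₃⟩ := d₃.centralizer_data h₃ hz₃ hz₃1
      have hexp : 2 ^ (2 * (n + 1) + 1) = 2 ^ (2 * n + 1) * (2 * 2) := by ring
      have k₁ := Nat.eq_of_mul_eq_mul_right (by norm_num : 0 < 2 * 2) (hg₁.trans (hc₁.trans hexp))
      have k₂ := Nat.eq_of_mul_eq_mul_right (by norm_num : 0 < 2 * 2) (hg₂.trans (hc₂.trans hexp))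
      have k₃ := Nat.eq_of_mul_eq_mul_right (by norm_num : 0 < 2 * 2) (hg₃.trans (hc₃.trans hexp))
      set C₁ := centralizer {x₁} ⊓ centralizer {y₁} with hC₁
      set C₂ := centralizer {x₂} ⊓ centralizer {y₂} with hC₂
      set C₃ := centralizer {x₃} ⊓ centralizer {y₃} with hC₃
      let w₁ : C₁ := ⟨z₁, mem_inf.2 ⟨mem_centralizer_singleton_iff.2 (mem_center_iff.1 hz₁ _).symm,
        mem_centralizer_singleton_iff.2 (mem_center_iff.1 hz₁ _).symm⟩⟩
      let w₂ : C₂ := ⟨z₂, mem_inf.2 ⟨mem_centralizer_singleton_iff.2 (mem_center_iff.1 hz₂ _).symm,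
        mem_centralizer_singleton_iff.2 (mem_center_iff.1 hz₂ _).symm⟩⟩
      let w₃ : C₃ := ⟨z₃, mem_inf.2 ⟨mem_centralizer_singleton_iff.2 (mem_center_iff.1 hz₃ _).symm,
        mem_centralizer_singleton_iff.2 (mem_center_iff.1 hz₃ _).symm⟩⟩
      have hw₁ : w₁ ∈ center C₁ := mem_center_iff.2 fun g => Subtype.ext (mem_center_iff.1 hz₁ g)
      have hw₂ : w₂ ∈ center C₂ := mem_center_iff.2 fun g => Subtype.ext (mem_center_iff.1 hz₂ g)
      have hw₃ : w₃ ∈ center C₃ := mem_center_iff.2 fun g => Subtype.ext (mem_center_iff.1 hz₃ g)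
      have hw₁1 : w₁ ≠ 1 := fun e => hz₁1 (congrArg Subtype.val e)
      have hw₂1 : w₂ ≠ 1 := fun e => hz₂1 (congrArg Subtype.val e)
      have hw₃1 : w₃ ≠ 1 := fun e => hz₃1 (congrArg Subtype.val e)
      rcases Nat.eq_zero_or_pos n with rfl | hn
      · -- order eight
        obtain ⟨e12, he12⟩ := exists_equiv_of_card_prime (p := 2) (by simpa using k₁) (by simpa using k₂) hw₁1 hw₂1
        obtain ⟨e23, he23⟩ := exists_equiv_of_card_prime (p := 2) (by simpa using k₂) (by simpa using k₃) hw₂1 hw₃1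
        obtain ⟨e13, he13⟩ := exists_equiv_of_card_prime (p := 2) (by simpa using k₁) (by simpa using k₃) hw₁1 hw₃1
        by_cases e1 : a₁ = a₂
        · subst e1
          exact Or.inl (exists_equiv_of_pair h₁ h₂ hz₁ hz₁1 hz₂ hz₂1 d₁ d₂ e12 fun c hc => by
            rw [show c = w₁ from Subtype.ext hc, he12])
        by_cases e2 : a₂ = a₃
        · subst e2
          exact Or.inr (Or.inl (exists_equiv_of_pair h₂ h₃ hz₂ hz₂1 hz₃ hz₃1 d₂ d₃ e23 fun c hc => by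
            rw [show c = w₂ from Subtype.ext hc, he23]))
        have e3 : a₁ = a₃ := by omega
        subst e3
        exact Or.inr (Or.inr (exists_equiv_of_pair h₁ h₃ hz₁ hz₁1 hz₃ hz₃1 d₁ d₃ e13 fun c hc => by
          rw [show c = w₁ from Subtype.ext hc, he13]))
      · have h16 : 16 ≤ 2 ^ (2 * (n + 1) + 1) :=
          le_trans (by norm_num) (Nat.pow_le_pow_right two_pos (show 4 ≤ 2 * (n + 1) + 1 by omega))
        obtain rfl := f₁ (h₁.exists_involution hz₁ hz₁1 (hc₁ ▸ h16))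
        obtain rfl := f₂ (h₂.exists_involution hz₂ hz₂1 (hc₂ ▸ h16))
        obtain rfl := f₃ (h₃.exists_involution hz₃ hz₃1 (hc₃ ▸ h16))
        rcases ih hn C₁ C₂ C₃ g₁ g₂ g₃ k₁ k₂ k₃ w₁ hw₁ hw₁1 w₂ hw₂ hw₂1 w₃ hw₃ hw₃1 with
          ⟨e, he⟩ | ⟨e, he⟩ | ⟨e, he⟩
        · exact Or.inl (exists_equiv_of_pair h₁ h₂ hz₁ hz₁1 hz₂ hz₂1 d₁ d₂ e fun c hc => by
            rw [show c = w₁ from Subtype.ext hc, he])
        · exact Or.inr (Or.inl (exists_equiv_of_pair h₂ h₃ hz₂ hz₂1 hz₃ hz₃1 d₂ d₃ e fun c hc => by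
            rw [show c = w₂ from Subtype.ext hc, he]))
        · exact Or.inr (Or.inr (exists_equiv_of_pair h₁ h₃ hz₁ hz₁1 hz₃ hz₃1 d₁ d₃ e fun c hc => by
            rw [show c = w₁ from Subtype.ext hc, he]))

end two

/-- Extraspecial groups have the properties. -/
theorem smallCenter_of_extraspecial {P : Type u} [Group P] [Finite P] (h : Cfsg.IsExtraspecial p P) :
    SmallCenter p P ∧ ∃ z ∈ center P, z ≠ 1 := by
  obtain ⟨⟨hp', hf, hc⟩, hZ⟩ := h
  refine ⟨⟨hZ, fun a b => hc ▸ ?_, fun g => hf ▸ CfsgLib.Coprime.pow_mem_frattini hp' g⟩, ?_⟩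
  · rw [_root_.commutator_def]
    exact commutator_mem_commutator (mem_top a) (mem_top b)
  · haveI : Nontrivial (center P) := by
      rw [← Finite.one_lt_card_iff_nontrivial, hZ]; exact (Fact.out : p.Prime).one_lt
    obtain ⟨q, hq⟩ := exists_ne (1 : center P)
    exact ⟨(q : P), q.2, fun e => hq (Subtype.ext e)⟩

end CfsgLib.PGroup
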