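import Cfsg.Agent.Lib.PGroup.RankTwoOmega
import Cfsg.Agent.Lib.PGroup.ExtraspecialClassify

/-!
# Blackburn: a `p`-group with `|Ω₁| ≤ p²` is metacyclic, for `p > 3`
-/

set_option autoImplicit false
set_option linter.style.haveILetI false

open Subgroup
open scoped commutatorElement

namespace CfsgLib.RankTwoOmega

universe u

variable {p : ℕ} [Fact p.Prime]

/-- A `p`-group with Frattini subgroup of index at most `p` is cyclic. -/
theorem isCyclic_of_index_frattini {G : Type u} [Group G] [Finite G] (hG : IsPGroup p G)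
    (h : (frattini G).index ≤ p) : IsCyclic G := by
  have hc : IsCyclic (G ⧸ frattini G) := by
    obtain ⟨k, hk⟩ := hG.index (frattini G)
    rcases Nat.lt_or_ge k 1 with hk0 | hk1
    · haveI : Subsingleton (G ⧸ frattini G) := (Nat.card_eq_one_iff_unique.1 (by
        rw [← index_eq_card, hk, show k = 0 by omega, pow_zero])).1
      exact isCyclic_of_subsingleton
    · refine isCyclic_of_prime_card (p := p) ?_
      rw [← index_eq_card]
      refine le_antisymm h ?_
      rw [hk]; exact Nat.le_self_pow (by omega) p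
  obtain ⟨x', hx⟩ := hc.exists_generator
  obtain ⟨x, rfl⟩ := QuotientGroup.mk_surjective x'
  have htop : zpowers x ⊔ frattini G = ⊤ := eq_top_iff.2 fun g _ => by
    obtain ⟨i, hi⟩ := hx (g : G ⧸ frattini G)
    have hi' : ((x ^ i : G) : G ⧸ frattini G) = g := (QuotientGroup.mk_zpow _ _ _).trans hi
    rw [show g = x ^ i * ((x ^ i)⁻¹ * g) by group]
    exact mul_mem (mem_sup_left (zpow_mem (mem_zpowers x) i)) (mem_sup_right (QuotientGroup.eq.1 hi'))
  exact ⟨x, fun g => (frattini_nongenerating htop).ge (mem_top g)⟩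

/-- A quotient of exponent `p` has order at most `p²`. -/
theorem index_le_of_exponent (hp : 3 < p) {R : Type u} [Group R] [Finite R] (hR : IsPGroup p R)
    (hO : Nat.card ↥(Cfsg.omegaOne p (⊤ : Subgroup R)) ≤ p ^ 2) (P : Subgroup R) [P.Normal]
    (hP : ∀ x : R, x ^ p ∈ P) : P.index ≤ p ^ 2 := by
  refine le_trans ?_ (omega_quotient_le hp _ R hR hO P rfl)
  rw [index_eq_card, ← Subgroup.card_top (G := R ⧸ P)]
  refine card_le_of_le fun q _ => ?_
  obtain ⟨x, rfl⟩ := QuotientGroup.mk_surjective q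
  exact subset_closure ⟨mem_top _, by rw [← QuotientGroup.mk_pow]; exact (QuotientGroup.eq_one_iff _).2 (hP x)⟩

/-- A generator outside the Frattini subgroup spanning a normal cyclic subgroup. -/
theorem isMetacyclic_of_generator (hp : 3 < p) {R : Type u} [Group R] [Finite R] (hR : IsPGroup p R)
    (hO : Nat.card ↥(Cfsg.omegaOne p (⊤ : Subgroup R)) ≤ p ^ 2) {x : R} (hx : x ∉ frattini R)
    (hn : (zpowers x).Normal) : Cfsg.IsMetacyclic R := by
  haveI := hn
  refine ⟨zpowers x, hn, inferInstance, isCyclic_of_index_frattini (hR.to_quotient _) ?_⟩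
  set π := QuotientGroup.mk' (zpowers x)
  have hπ : Function.Surjective π := QuotientGroup.mk'_surjective _
  have hle : (frattini R).map π ≤ frattini (R ⧸ zpowers x) := by
    rintro _ ⟨y, hy, rfl⟩
    simp only [frattini, Order.radical, mem_iInf]
    intro M hM
    have hM' : IsCoatom (M.comap π) := by
      refine ⟨fun e => hM.1 ?_, fun K hK => ?_⟩
      · rw [← map_comap_eq_self_of_surjective hπ M, e, map_top_of_surjective π hπ]
      · have hker : π.ker ≤ K := (by
          refine le_trans ?_ hK.le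
          intro k hk
          rw [mem_comap, show π k = 1 from hk]
          exact one_mem M)
        have h1 : M < K.map π := by
          refine lt_of_le_of_ne ?_ fun e => hK.ne ?_
          · rw [← map_comap_eq_self_of_surjective hπ M]; exact map_mono hK.le
          · rw [e, comap_map_eq_self hker]
        rw [← comap_map_eq_self hker, hM.2 _ h1, comap_top]
    have hfr : frattini R ≤ M.comap π := by
      simp only [frattini, Order.radical]
      exact iInf₂_le _ hM'
    exact hfr hy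
  refine le_trans (Nat.le_of_dvd (Nat.pos_of_ne_zero index_ne_zero_of_finite) (index_dvd_of_le hle)) ?_
  rw [Subgroup.index_map, MonoidHom.range_eq_top.2 hπ, index_top, mul_one, QuotientGroup.ker_mk']
  obtain ⟨k, hk⟩ := hR.index (frattini R)
  have h2 := index_le_of_exponent hp hR hO (frattini R) (CfsgLib.Coprime.pow_mem_frattini hR)
  have hcard := CfsgLib.Coprime.card_sup_zpowers_of_frattini_le hR le_rfl hx
  have h3 := (frattini R ⊔ zpowers x).card_mul_index
  have h4 := (frattini R).card_mul_index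
  rw [hcard] at h3
  refine Nat.le_of_mul_le_mul_left ?_ (Fact.out : p.Prime).pos
  refine Nat.le_of_mul_le_mul_left ?_ (Nat.card_pos (α := frattini R))
  calc Nat.card (frattini R) * (p * (frattini R ⊔ zpowers x).index)
      = Nat.card R := by rw [← h3]; ring
    _ = Nat.card (frattini R) * (frattini R).index := h4.symm
    _ ≤ Nat.card (frattini R) * (p * p) := Nat.mul_le_mul_left _ (h2.trans_eq (pow_two p))

/-- Blackburn's criterion. -/
theorem isMetacyclic_of_omega (hp : 3 < p) (n : ℕ) : ∀ (R : Type u) [Group R] [Finite R],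
    Nat.card R = n → IsPGroup p R → Nat.card ↥(Cfsg.omegaOne p (⊤ : Subgroup R)) ≤ p ^ 2 →
    Cfsg.IsMetacyclic R := by
  induction n using Nat.strong_induction_on with
  | _ n ih =>
  intro R _ _ hn hR hO
  classical
  have hpr := (Fact.out : p.Prime)
  haveI hnil := hR.isNilpotent
  by_cases htriv : Subsingleton R
  · haveI := htriv
    exact ⟨⊥, inferInstance, isCyclic_of_subsingleton, isCyclic_of_subsingleton⟩
  haveI : Nontrivial R := not_subsingleton_iff_nontrivial.1 htriv
  have hfr : frattini R ≠ ⊤ := fun e => by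
    have h : (⊥ : Subgroup R) ⊔ frattini R = ⊤ := by rw [bot_sup_eq, e]
    exact bot_ne_top (frattini_nongenerating h)
  by_cases hab : commutator R = ⊥
  · obtain ⟨x, hx⟩ := SetLike.exists_not_mem_of_ne_top _ hfr
    refine isMetacyclic_of_generator hp hR hO hx ⟨fun y hy g => ?_⟩
    have h1 : ⁅g, y⁆ = 1 := mem_bot.1 (hab ▸ commutator_mem_commutator (mem_top g) (mem_top y))
    rw [commutatorElement_eq_one_iff_mul_comm.1 h1, mul_inv_cancel_right]
    exact hy
  -- a central subgroup of order `p` in the derived group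
  obtain ⟨k, hk⟩ := (hR.to_subgroup (commutator R ⊓ center R)).exists_card_eq
  have hk0 : k ≠ 0 := fun e =>
    CfsgLib.Coprime.nilpotent_inf_center_ne_bot (commutator R) hab (card_eq_one.1 (by rw [hk, e, pow_zero]))
  obtain ⟨z, hz⟩ := exists_prime_orderOf_dvd_card' (G := ↥(commutator R ⊓ center R)) p
    (hk ▸ dvd_pow_self p hk0)
  set z₀ : R := (z : R) with hz₀
  have hzo : orderOf z₀ = p := (orderOf_coe z).trans hz
  set Z := zpowers z₀ with hZ
  have hZc : Z ≤ center R := zpowers_le.2 z.2.2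
  have hZR : Z ≤ commutator R := zpowers_le.2 z.2.1
  have hZcard : Nat.card Z = p := by rw [hZ, Nat.card_zpowers, hzo]
  haveI hZn : Z.Normal := ⟨fun t ht g => by
    rw [mem_center_iff.1 (hZc ht) g, mul_inv_cancel_right]; exact ht⟩
  set π := QuotientGroup.mk' Z with hπdef
  have hπ : Function.Surjective π := QuotientGroup.mk'_surjective Z
  have hlt : Nat.card (R ⧸ Z) < n := by
    rw [← hn, Z.card_eq_card_quotient_mul_card_subgroup, hZcard]
    exact lt_mul_of_one_lt_right Nat.card_pos hpr.one_lt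
  obtain ⟨N', hN'n, hN'c, hN'q⟩ := ih _ hlt (R ⧸ Z) rfl (hR.to_quotient Z) (omega_quotient_le hp _ R hR hO Z rfl)
  haveI := hN'n
  obtain ⟨⟨a', ha'N⟩, ha'⟩ := hN'c.exists_generator
  obtain ⟨a, rfl⟩ := hπ a'
  obtain ⟨b', hb'⟩ := hN'q.exists_generator
  obtain ⟨b'', rfl⟩ := QuotientGroup.mk_surjective b'
  obtain ⟨b, rfl⟩ := hπ b''
  set N := N'.comap π with hN
  have hNel : ∀ w ∈ N, ∃ i : ℤ, ∃ t ∈ Z, w = a ^ i * t := by
    intro w hw
    obtain ⟨i, hi⟩ := ha' ⟨π w, hw⟩
    have hi' : π a ^ i = π w := congrArg Subtype.val hi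
    rw [← map_zpow] at hi'
    exact ⟨i, (a ^ i)⁻¹ * w, QuotientGroup.eq.1 hi', by group⟩
  have haN : a ∈ N := ha'N
  have hgenR : ∀ g : R, ∃ j : ℤ, ∃ w ∈ N, g = b ^ j * w := by
    intro g
    obtain ⟨j, hj⟩ := hb' (π g : (R ⧸ Z) ⧸ N')
    have hj' : ((π b ^ j : R ⧸ Z) : (R ⧸ Z) ⧸ N') = π g := (QuotientGroup.mk_zpow _ _ _).trans hj
    refine ⟨j, (b ^ j)⁻¹ * g, ?_, by group⟩
    have h1 := QuotientGroup.eq.1 hj'
    rwa [← map_zpow, ← map_inv, ← map_mul] at h1
  by_cases hza : z₀ ∈ zpowers a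
  · -- `N` is cyclic
    have hNeq : zpowers a = N := le_antisymm (zpowers_le.2 haN) fun w hw => by
      obtain ⟨i, t, ht, rfl⟩ := hNel w hw
      exact mul_mem (zpow_mem (mem_zpowers a) i) ((zpowers_le.2 hza) ht)
    haveI hnN : (zpowers a).Normal := hNeq ▸ (inferInstance : (N'.comap π).Normal)
    refine ⟨zpowers a, hnN, inferInstance, ⟨(b : R ⧸ zpowers a), fun q => ?_⟩⟩
    obtain ⟨g, rfl⟩ := QuotientGroup.mk_surjective q
    obtain ⟨j, w, hw, rfl⟩ := hgenR g
    refine ⟨j, ?_⟩
    show (b : R ⧸ zpowers a) ^ j = _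
    rw [QuotientGroup.mk_mul, (QuotientGroup.eq_one_iff w).2 (hNeq ▸ hw), mul_one, QuotientGroup.mk_zpow]
  -- the derived group has order `p`
  have hZa : ∀ t ∈ Z, t ∈ zpowers a → t = 1 := by
    intro t ht hta
    by_contra ht1
    obtain ⟨i, hi⟩ := mem_zpowers_iff.1 (mem_zpowers_of_prime_card hZcard
      (fun e => ht1 (congrArg Subtype.val e) : (⟨t, ht⟩ : Z) ≠ 1) (g' := ⟨z₀, mem_zpowers z₀⟩))
    have hi' : t ^ i = z₀ := congrArg Subtype.val hi
    exact hza (hi' ▸ zpow_mem hta i)
  have hNc : ∀ w ∈ N, Commute a w := fun w hw => by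
    obtain ⟨i, t, ht, rfl⟩ := hNel w hw
    exact (Commute.self_zpow a i).mul_right (mem_center_iff.1 (hZc ht) a)
  set c := ⁅b, a⁆ with hc
  have hcN : c ∈ N := by
    rw [hc, commutatorElement_def]
    exact mul_mem ((inferInstance : (N'.comap π).Normal).conj_mem a haN b) (inv_mem haN)
  obtain ⟨k', t', ht', hce⟩ := hNel c hcN
  have hbn : b ∈ normalizer ((zpowers c : Subgroup R) : Set R) := mem_normalizer_fintype fun w hw => by
    obtain ⟨i, rfl⟩ := mem_zpowers_iff.1 hw
    show b * c ^ i * b⁻¹ ∈ zpowers c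
    rw [← conj_zpow]
    refine zpow_mem ?_ i
    have e1 : b * a * b⁻¹ = c * a := by rw [hc, commutatorElement_def]; group
    have e2 : b * c * b⁻¹ = c ^ k' * c := by
      calc b * c * b⁻¹ = (b * a ^ k' * b⁻¹) * (b * t' * b⁻¹) := by rw [hce]; group
        _ = (c * a) ^ k' * t' := by
          rw [← conj_zpow, e1, mem_center_iff.1 (hZc ht') b, mul_inv_cancel_right]
        _ = c ^ k' * (a ^ k' * t') := by rw [(hNc c hcN).symm.mul_zpow, mul_assoc]
        _ = c ^ k' * c := by rw [← hce]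
    rw [e2]
    exact mul_mem (zpow_mem (mem_zpowers c) k') (mem_zpowers c)
  have hCn : ∀ g : R, g ∈ normalizer ((zpowers c : Subgroup R) : Set R) := fun g => by
    obtain ⟨j, w, hw, rfl⟩ := hgenR g
    refine mul_mem (zpow_mem hbn j) (centralizer_le_normalizer _ (mem_centralizer_iff.2 fun v hv => ?_))
    obtain ⟨i, rfl⟩ := mem_zpowers_iff.1 hv
    obtain ⟨l, t, ht, rfl⟩ := hNel w hw
    exact ((((hNc c hcN).symm).zpow_left i).zpow_right l).mul_right (mem_center_iff.1 (hZc ht) (c ^ i)) |>.eq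
  haveI hCn' : (zpowers c).Normal := normalizer_eq_top_iff.1 (eq_top_iff.2 fun g _ => hCn g)
  have hcab : commutator R ≤ zpowers c := by
    set ρ := QuotientGroup.mk' (zpowers c)
    have hab' : Commute (ρ b) (ρ a) := by
      refine (commutatorElement_eq_one_iff_mul_comm.1 ?_ : ρ b * ρ a = ρ a * ρ b)
      rw [← map_commutatorElement]
      exact (QuotientGroup.eq_one_iff _).2 (mem_zpowers c)
    have hcom : ∀ g : R, Commute (ρ g) (ρ a) ∧ Commute (ρ g) (ρ b) := fun g => by
      obtain ⟨j, w, hw, rfl⟩ := hgenR g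
      obtain ⟨l, t, ht, rfl⟩ := hNel w hw
      have htc : ∀ h : R, Commute (ρ t) (ρ h) := fun h => Commute.map (mem_center_iff.1 (hZc ht) h).symm ρ
      constructor
      · rw [map_mul, map_mul, map_zpow, map_zpow]
        exact (hab'.zpow_left j).mul_left (((Commute.refl (ρ a)).zpow_left l).mul_left (htc a))
      · rw [map_mul, map_mul, map_zpow, map_zpow]
        exact ((Commute.refl (ρ b)).zpow_left j).mul_left ((hab'.symm.zpow_left l).mul_left (htc b))
    rw [_root_.commutator_def, commutator_le]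
    intro g _ h _
    rw [← QuotientGroup.eq_one_iff]
    show ρ ⁅g, h⁆ = 1
    rw [map_commutatorElement, commutatorElement_eq_one_iff_mul_comm]
    obtain ⟨j, w, hw, rfl⟩ := hgenR h
    obtain ⟨l, t, ht, rfl⟩ := hNel w hw
    have htc : Commute (ρ g) (ρ t) := Commute.map (mem_center_iff.1 (hZc ht) g) ρ
    rw [map_mul, map_mul, map_zpow, map_zpow]
    exact (((hcom g).2.zpow_right j).mul_right (((hcom g).1.zpow_right l).mul_right htc)).eq
  obtain ⟨m, hm⟩ := mem_zpowers_iff.1 (hcab (hZR (mem_zpowers z₀)))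
  have hak : a ^ k' = 1 := by
    rw [hce, (show Commute (a ^ k') t' from mem_center_iff.1 (hZc ht') (a ^ k')).mul_zpow, ← zpow_mul] at hm
    have h1 : a ^ (k' * m) = 1 := hZa _ (by
      rw [eq_mul_inv_of_mul_eq hm]; exact mul_mem (mem_zpowers z₀) (inv_mem (zpow_mem ht' m)))
      (zpow_mem (mem_zpowers a) _)
    have hpm : ¬ (p : ℤ) ∣ m := fun hd => by
      rw [h1, one_mul] at hm
      have ht'p : orderOf t' ∣ p := hZcard ▸ orderOf_dvd_natCard Z ht'
      rw [orderOf_dvd_iff_zpow_eq_one.1 ((Int.natCast_dvd_natCast.2 ht'p).trans hd)] at hm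
      rw [← hm, orderOf_one] at hzo
      exact hpr.ne_one hzo.symm
    obtain ⟨e, he⟩ := IsPGroup.iff_orderOf.1 hR a
    rw [← orderOf_dvd_iff_zpow_eq_one, he, mul_comm] at h1
    rw [← orderOf_dvd_iff_zpow_eq_one, he]
    push_cast at h1 ⊢
    exact IsCoprime.dvd_of_dvd_mul_left (((Int.prime_iff_natAbs_prime.2 (by simpa using hpr)).coprime_iff_not_dvd.2 hpm).pow_left) h1
  have hcZ : commutator R ≤ Z := hcab.trans (zpowers_le.2 (by rw [hce, hak, one_mul]; exact ht'))
  have hcl : ∀ g h : R, ⁅g, h⁆ ∈ center R := fun g h =>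
    hZc (hcZ (commutator_mem_commutator (mem_top g) (mem_top h)))
  have hpc : ∀ g : R, g ^ p ∈ center R := fun g => mem_center_iff.2 fun h => (by
    refine (commutatorElement_eq_one_iff_mul_comm.1 ?_).symm
    show CfsgLib.PGroup.commHom hcl h (g ^ p) = 1
    rw [map_pow]
    exact orderOf_dvd_iff_pow_eq_one.1
      (hZcard ▸ orderOf_dvd_natCard Z (hcZ (commutator_mem_commutator (mem_top g) (mem_top h)))))
  have hcl3 : ⁅⁅commutator R, (⊤ : Subgroup R)⁆, (⊤ : Subgroup R)⁆ = ⊥ := by
    have h1 : ⁅commutator R, (⊤ : Subgroup R)⁆ = ⊥ := by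
      rw [commutator_eq_bot_iff_le_centralizer]
      exact fun g hg => mem_centralizer_iff.2 fun h _ => mem_center_iff.1 (hZc (hcZ hg)) h
    rw [h1]; exact commutator_bot_left _
  let f : R →* R := MonoidHom.mk' (fun g => g ^ p) fun g h => mul_pow_of_central hp hcl3 (hpc g) (hpc h)
  haveI hPn : f.range.Normal := ⟨by
    rintro _ ⟨g, rfl⟩ h
    exact ⟨h * g * h⁻¹, by show (h * g * h⁻¹) ^ p = _; rw [conj_pow]; rfl⟩⟩
  have hidx : f.range.index ≤ p ^ 2 := index_le_of_exponent hp hR hO _ fun g => ⟨g, rfl⟩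
  have hfr2 : p ^ 2 ≤ (frattini R).index := by
    obtain ⟨e, he⟩ := hR.index (frattini R)
    rw [he]
    refine Nat.pow_le_pow_right hpr.pos (Nat.le_of_not_lt fun h => hab ?_)
    exact commutator_eq_bot_of_index_frattini hR (he ▸ (Nat.pow_le_pow_right hpr.pos
      (Nat.le_of_lt_succ h)).trans_eq (pow_one p))
  have hPF : f.range ≤ frattini R := by
    rintro _ ⟨g, rfl⟩
    exact CfsgLib.Coprime.pow_mem_frattini hR g
  have hPeq : f.range = frattini R := by
    refine eq_of_le_of_card_ge hPF ?_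
    refine Nat.le_of_mul_le_mul_right ?_ (Nat.pos_of_ne_zero (index_ne_zero_of_finite (H := frattini R)))
    rw [card_mul_index, ← f.range.card_mul_index]
    exact Nat.mul_le_mul_left _ (hidx.trans hfr2)
  have hz0P : z₀ ∈ f.range := hPeq ▸ CfsgLib.Coprime.commutator_le_frattini hR (hZR (mem_zpowers z₀))
  obtain ⟨g₀, hg₀⟩ := hz0P
  obtain ⟨x, ⟨e, he⟩, hxmax⟩ := Set.exists_max_image {x : R | ∃ e : ℕ, x ^ p ^ e = z₀} orderOf
    (Set.toFinite _) ⟨g₀, 1, by rw [pow_one]; exact hg₀⟩
  refine isMetacyclic_of_generator hp hR hO (x := x) (fun hxF => ?_) ?_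
  · obtain ⟨y, rfl⟩ := hPeq.ge hxF
    have hle := hxmax y ⟨e + 1, by rw [pow_succ', pow_mul]; exact he⟩
    have hy1 : y ≠ 1 := by
      rintro rfl
      rw [map_one, one_pow] at he
      rw [← he, orderOf_one] at hzo
      exact hpr.ne_one hzo.symm
    have h2 : orderOf (f y) < orderOf y := by
      show orderOf (y ^ p) < _
      rw [orderOf_pow' _ hpr.ne_zero, Nat.gcd_eq_right (hR.dvd_orderOf hy1)]
      exact Nat.div_lt_self (orderOf_pos y) hpr.one_lt
    omega
  · refine ⟨fun w hw g => ?_⟩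
    have hzx : z₀ ∈ zpowers x := he ▸ pow_mem (mem_zpowers x) _
    rw [show g * w * g⁻¹ = ⁅g, w⁆ * w by rw [commutatorElement_def]; group]
    exact mul_mem ((zpowers_le.2 hzx) (hcZ (commutator_mem_commutator (mem_top g) (mem_top w)))) hw

end CfsgLib.RankTwoOmega
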