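import Mathlib
import Cfsg.Agent.S0126

/-!
# Miller's theorem on cyclic subgroups of noncyclic groups of odd prime power order

If a Sylow `p`-subgroup is noncyclic, `p` odd, the number of elements of order `p ^ s`, `s ≥ 2`, is
divisible by `p ^ s`.
-/

set_option autoImplicit false
set_option linter.style.haveILetI false

open Subgroup

namespace CfsgLib.PGroup.Miller

universe u

variable {P : Type u} [Group P] [Finite P] {p : ℕ} [hp : Fact p.Prime]

/-- A non-trivial normalized subgroup of a `p`-group has a non-trivial fixed element. -/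
theorem exists_fixed_of_ne_bot (hP : IsPGroup p P) {F : Subgroup P} (hF : F ≠ ⊥) {x : P}
    (hx : x ∈ normalizer (F : Set P)) : ∃ f ∈ F, f ≠ 1 ∧ x * f = f * x := by
  letI : MulAction (zpowers x) F :=
    { smul := fun a s => ⟨a * s * (a : P)⁻¹,
        (Subgroup.mem_normalizer_iff.1 (zpowers_le.2 hx a.2) s).1 s.2⟩
      one_smul := fun s => Subtype.ext (show (1 : P) * s * 1⁻¹ = s by group)
      mul_smul := fun a b s => Subtype.ext (show (a * b : P) * s * (a * b : P)⁻¹
        = a * (b * s * (b : P)⁻¹) * (a : P)⁻¹ by group) }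
  have h1 : (1 : F) ∈ MulAction.fixedPoints (zpowers x) F := fun a => Subtype.ext
    (show (a : P) * 1 * (a : P)⁻¹ = 1 by group)
  haveI : Nontrivial F := (Subgroup.nontrivial_iff_ne_bot F).2 hF
  obtain ⟨k, hk⟩ := (hP.to_subgroup F).exists_card_eq
  have hpd : p ∣ Nat.card F := by
    rw [hk]
    refine dvd_pow_self _ fun e => ?_
    rw [e, pow_zero] at hk
    exact absurd hk (Finite.one_lt_card (α := F)).ne'
  obtain ⟨b, hb, hb1⟩ :=
    (hP.to_subgroup (zpowers x)).exists_fixed_point_of_prime_dvd_card_of_fixed_point F hpd h1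
  exact ⟨b, b.2, fun e => hb1 (Subtype.ext e).symm,
    mul_inv_eq_iff_eq_mul.1 (congrArg Subtype.val (hb ⟨x, mem_zpowers x⟩))⟩

/-- Multiplying by an element of a normal elementary subgroup of order `p ^ 2` keeps `p`-th powers. -/
theorem mul_pow_eq (hP : IsPGroup p P) (hodd : p ≠ 2) {E : Subgroup P} [E.Normal]
    (hE : Cfsg.IsElementaryAbelian p E) (hE2 : Nat.card E = p ^ 2) (x : P) {e : P} (he : e ∈ E) :
    (x * e) ^ p = x ^ p := by
  obtain ⟨hEc, hEp⟩ := hE
  have hcomm : ∀ a b, a ∈ E → b ∈ E → a * b = b * a := fun a b ha hb =>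
    congrArg Subtype.val (hEc.is_comm.comm (⟨a, ha⟩ : E) ⟨b, hb⟩)
  let φ : E →* E :=
    { toFun := fun a => ⟨x⁻¹ * (a : P) * x * (a : P)⁻¹,
        E.mul_mem (by simpa using (‹E.Normal›).conj_mem a a.2 x⁻¹) (E.inv_mem a.2)⟩
      map_one' := Subtype.ext (by show x⁻¹ * 1 * x * (1 : P)⁻¹ = 1; group)
      map_mul' := fun a b => Subtype.ext (by
        show x⁻¹ * (a * b : P) * x * (a * b : P)⁻¹ =
          (x⁻¹ * a * x * (a : P)⁻¹) * (x⁻¹ * b * x * (b : P)⁻¹)
        have h1 : x⁻¹ * (b : P) * x * (b : P)⁻¹ ∈ E :=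
          E.mul_mem (by simpa using (‹E.Normal›).conj_mem b b.2 x⁻¹) (E.inv_mem b.2)
        calc x⁻¹ * (a * b : P) * x * (a * b : P)⁻¹
            = x⁻¹ * a * x * ((x⁻¹ * b * x * (b : P)⁻¹) * (a : P)⁻¹) := by group
          _ = x⁻¹ * a * x * ((a : P)⁻¹ * (x⁻¹ * b * x * (b : P)⁻¹)) := by
              rw [hcomm _ _ h1 (E.inv_mem a.2)]
          _ = _ := by group) }
  -- the image of `φ` is fixed by `x`
  set I := φ.range.map E.subtype with hI
  have hIE : I ≤ E := Subgroup.map_subtype_le _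
  have hker : φ.ker ≠ ⊥ := by
    intro hb
    obtain ⟨f, hf, hf1, hfx⟩ := exists_fixed_of_ne_bot hP
      (show E ≠ ⊥ from fun e' => by
        rw [e', Subgroup.card_bot] at hE2
        exact absurd hE2.symm (Nat.one_lt_pow two_ne_zero hp.out.one_lt).ne')
      (show x ∈ normalizer (E : Set P) by rw [normalizer_eq_top]; trivial)
    have hmem : (⟨f, hf⟩ : E) ∈ φ.ker := MonoidHom.mem_ker.2 (Subtype.ext
      (show x⁻¹ * f * x * f⁻¹ = 1 by rw [mul_assoc x⁻¹, ← hfx]; group))
    rw [hb, Subgroup.mem_bot] at hmem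
    exact hf1 (congrArg Subtype.val hmem)
  have hIcard : Nat.card I ∣ p := by
    have h1 := φ.ker.card_mul_index
    rw [hE2, Subgroup.index_ker] at h1
    rw [hI, Subgroup.card_map_of_injective E.subtype_injective]
    obtain ⟨j, hj, hje⟩ := (Nat.dvd_prime_pow hp.out).1 (Dvd.intro _ h1)
    have hj0 : j ≠ 0 := fun e' => hker (Subgroup.card_eq_one.1 (by rw [hje, e', pow_zero]))
    refine Nat.dvd_of_mul_dvd_mul_left hp.out.pos ((mul_dvd_mul_right ?_ _).trans
      (dvd_of_eq (h1.trans (pow_two p))))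
    exact hje ▸ dvd_pow_self p hj0
  have hIfix : ∀ c ∈ I, x * c = c * x := by
    intro c hc
    rcases (Nat.dvd_prime hp.out).1 hIcard with h1 | h1
    · rw [Subgroup.card_eq_one.1 h1, Subgroup.mem_bot] at hc; subst hc; group
    · have hIn : x ∈ normalizer (I : Set P) := by
        refine Subgroup.mem_normalizer_fintype fun z hz => ?_
        obtain ⟨_, ⟨a, rfl⟩, rfl⟩ := hz
        refine ⟨φ ⟨x * a * x⁻¹, (‹E.Normal›).conj_mem a a.2 x⟩, ⟨_, rfl⟩, ?_⟩
        show x⁻¹ * (x * a * x⁻¹) * x * (x * a * x⁻¹)⁻¹ = x * (x⁻¹ * a * x * (a : P)⁻¹) * x⁻¹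
        group
      obtain ⟨f, hf, hf1, hfx⟩ := exists_fixed_of_ne_bot hP
        (fun e' => by rw [e', Subgroup.card_bot] at h1; exact hp.out.one_lt.ne h1) hIn
      have hgen : zpowers f = I := Subgroup.eq_of_le_of_card_ge (zpowers_le.2 hf) (by
        rw [Nat.card_zpowers, h1]
        exact ((Nat.dvd_prime hp.out).1 (h1 ▸ Subgroup.orderOf_dvd_natCard I hf)).resolve_left
          (mt orderOf_eq_one_iff.1 hf1) ▸ le_rfl)
      obtain ⟨i, rfl⟩ := mem_zpowers_iff.1 (hgen.symm ▸ hc : c ∈ zpowers f)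
      exact ((show Commute x f from hfx).zpow_right i).eq
  set c := x⁻¹ * e * x * e⁻¹ with hc
  have hcI : c ∈ I := ⟨φ ⟨e, he⟩, ⟨_, rfl⟩, rfl⟩
  have hcE : c ∈ E := hIE hcI
  have hxc := hIfix c hcI
  have hej : ∀ j : ℕ, e ^ j * x = x * (e ^ j * c ^ j) := by
    intro j
    induction j with
    | zero => simp
    | succ j ih =>
      calc e ^ (j + 1) * x = e ^ j * (e * x) := by rw [pow_succ, mul_assoc]
        _ = e ^ j * x * (c * e) := by rw [hc]; group
        _ = x * (e ^ j * c ^ j) * (c * e) := by rw [ih]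
        _ = x * (e ^ (j + 1) * c ^ (j + 1)) := by
            rw [hcomm c e hcE he, mul_assoc, mul_assoc, ← mul_assoc (c ^ j),
              hcomm (c ^ j) e (E.pow_mem hcE j) he, mul_assoc, ← pow_succ, ← mul_assoc (e ^ j),
              ← pow_succ]
  have hpow : ∀ j : ℕ, (x * e) ^ j = x ^ j * (e ^ j * c ^ j.choose 2) := by
    intro j
    induction j with
    | zero => simp
    | succ j ih =>
      have h2 : c ^ j.choose 2 * x = x * c ^ j.choose 2 :=
        ((show Commute x c from hxc).pow_right _).eq.symm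
      calc (x * e) ^ (j + 1) = x ^ j * (e ^ j * (c ^ j.choose 2 * x)) * e := by
            rw [pow_succ, ih]; group
        _ = x ^ j * (e ^ j * x * c ^ j.choose 2) * e := by rw [h2, mul_assoc (e ^ j)]
        _ = x ^ j * (x * (e ^ j * c ^ j) * c ^ j.choose 2) * e := by rw [hej]
        _ = x ^ (j + 1) * (e ^ j * (c ^ (j + 1).choose 2 * e)) := by
            rw [Nat.choose_succ_succ', Nat.choose_one_right, pow_add, pow_succ]; group
        _ = x ^ (j + 1) * (e ^ (j + 1) * c ^ (j + 1).choose 2) := by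
            rw [hcomm _ e (E.pow_mem hcE _) he, ← mul_assoc (e ^ j), ← pow_succ]
  rw [hpow p]
  obtain ⟨r, hr⟩ := (Nat.Prime.dvd_choose_self hp.out (show 2 ≠ 0 by norm_num)
    (lt_of_le_of_ne hp.out.two_le hodd.symm) : p ∣ p.choose 2)
  rw [hr, pow_mul, hEp c hcE, one_pow, mul_one, hEp e he, mul_one]

/-- Miller: elements of order `p ^ s` in a noncyclic group of odd prime power order. -/
theorem dvd_card_orderOf (hP : IsPGroup p P) (hodd : p ≠ 2) (hnc : ¬ IsCyclic P) {s : ℕ}
    (hs : 2 ≤ s) : p ^ s ∣ Nat.card {x : P // orderOf x = p ^ s} := by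
  classical
  letI : Fintype P := Fintype.ofFinite P
  obtain ⟨E, hEn, hE, hE2⟩ := Cfsg.Agent.S0126.result hodd hP hnc
  haveI := hEn
  let W : P → Subgroup P := fun x => zpowers (x ^ p) ⊔ E
  let f : P → Set P := fun x => {y | x⁻¹ * y ∈ W x}
  have hW : ∀ x y : P, orderOf x = p ^ s → x⁻¹ * y ∈ W x →
      orderOf y = p ^ s ∧ W y = W x := by
    intro x y hx hy
    obtain ⟨z, hz, e, he, hze⟩ := Subgroup.mem_sup_of_normal_right.1 hy
    obtain ⟨i, rfl⟩ := mem_zpowers_iff.1 hz
    have hye : y = x ^ ((1 : ℤ) + p * i) * e := by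
      rw [zpow_add, zpow_one, mul_assoc, zpow_mul, zpow_natCast, hze, mul_inv_cancel_left]
    have hyp : y ^ p = (x ^ p) ^ ((1 : ℤ) + p * i) := by
      rw [hye, mul_pow_eq hP hodd hE hE2 _ he, ← zpow_natCast (x ^ ((1 : ℤ) + p * i)),
        ← zpow_mul, mul_comm, zpow_mul, zpow_natCast]
    have hgen : zpowers (y ^ p) = zpowers (x ^ p) := by
      refine le_antisymm (zpowers_le.2 ⟨_, hyp.symm⟩) (zpowers_le.2 ?_)
      have hco : IsCoprime ((1 : ℤ) + p * i) ((p ^ s : ℕ) : ℤ) := by
        push_cast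
        exact (IsCoprime.pow_right ⟨1, -i, by ring⟩)
      obtain ⟨a, b, hab⟩ := hco
      refine ⟨a, ?_⟩
      show (y ^ p) ^ a = x ^ p
      have h0 : (x ^ p) ^ ((p ^ s : ℕ) : ℤ) = 1 := by
        rw [zpow_natCast, ← pow_mul, mul_comm, pow_mul, ← hx, pow_orderOf_eq_one, one_pow]
      calc (y ^ p) ^ a = (x ^ p) ^ (a * ((1 : ℤ) + p * i)) := by rw [hyp, ← zpow_mul, mul_comm]
        _ = (x ^ p) ^ (a * ((1 : ℤ) + p * i) + b * ((p ^ s : ℕ) : ℤ)) := by
            rw [zpow_add, mul_comm b, zpow_mul (x ^ p) ((p ^ s : ℕ) : ℤ), h0, one_zpow, mul_one]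
        _ = x ^ p := by rw [hab, zpow_one]
    refine ⟨?_, by show zpowers (y ^ p) ⊔ E = zpowers (x ^ p) ⊔ E; rw [hgen]⟩
    obtain ⟨t, rfl⟩ : ∃ t, s = t + 1 := ⟨s - 1, by omega⟩
    have ho : orderOf (y ^ p) = p ^ t := by
      rw [← Nat.card_zpowers, hgen, Nat.card_zpowers, orderOf_pow' x hp.out.ne_zero, hx,
        Nat.gcd_eq_right (dvd_pow_self p (Nat.succ_ne_zero t)), pow_succ,
        Nat.mul_div_cancel _ hp.out.pos]
    refine orderOf_eq_prime_pow (fun h1 => ?_) (by
      rw [pow_succ', pow_mul, ← ho, pow_orderOf_eq_one])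
    obtain ⟨u, rfl⟩ : ∃ u, t = u + 1 := ⟨t - 1, by omega⟩
    rw [pow_succ', pow_mul] at h1
    have := Nat.le_of_dvd (pow_pos hp.out.pos u) (ho ▸ orderOf_dvd_of_pow_eq_one h1)
    exact absurd this (not_le.2 (Nat.pow_lt_pow_right hp.out.one_lt (Nat.lt_succ_self u)))
  have hWcard : ∀ x : P, orderOf x = p ^ s → p ^ s ∣ Nat.card (W x) := by
    intro x hx
    obtain ⟨w, hw⟩ := (hP.to_subgroup (W x)).exists_card_eq
    rw [hw]
    refine pow_dvd_pow p ?_
    by_contra hlt
    push Not at hlt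
    have hz : Nat.card (zpowers (x ^ p)) = p ^ (s - 1) := by
      obtain ⟨t, rfl⟩ : ∃ t, s = t + 1 := ⟨s - 1, by omega⟩
      rw [Nat.card_zpowers, orderOf_pow' x hp.out.ne_zero, hx,
        Nat.gcd_eq_right (dvd_pow_self p (Nat.succ_ne_zero t)), pow_succ,
        Nat.mul_div_cancel _ hp.out.pos, Nat.add_sub_cancel]
    have heq : zpowers (x ^ p) = W x := Subgroup.eq_of_le_of_card_ge le_sup_left (by
      rw [hz, hw]; exact Nat.pow_le_pow_right hp.out.pos (by omega))
    have hle : E ≤ zpowers (x ^ p) := heq ▸ le_sup_right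
    haveI : IsCyclic E := isCyclic_of_injective (Subgroup.inclusion hle)
      (Subgroup.inclusion_injective hle)
    obtain ⟨g, hg⟩ := IsCyclic.exists_generator (α := E)
    have hd : Nat.card E ∣ p := by
      rw [← orderOf_eq_card_of_forall_mem_zpowers hg]
      exact orderOf_dvd_of_pow_eq_one (Subtype.ext (hE.2 g g.2))
    rw [hE2] at hd
    exact absurd (Nat.le_of_dvd hp.out.pos hd) (not_le.2 (lt_self_pow₀ hp.out.one_lt one_lt_two))
  set X : Finset P := Finset.univ.filter (fun x => orderOf x = p ^ s)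
  rw [show Nat.card {x : P // orderOf x = p ^ s} = X.card by
    rw [Nat.card_eq_fintype_card, Fintype.card_subtype],
    Finset.card_eq_sum_card_image f X]
  refine Finset.dvd_sum fun S hS => ?_
  obtain ⟨x, hxX, rfl⟩ := Finset.mem_image.1 hS
  have hx : orderOf x = p ^ s := (Finset.mem_filter.1 hxX).2
  have hfib : (X.filter fun y => f y = f x) = Finset.univ.filter (fun y => x⁻¹ * y ∈ W x) := by
    ext y
    simp only [Finset.mem_filter, Finset.mem_univ, true_and, X]
    constructor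
    · rintro ⟨-, hfy⟩
      have : y ∈ f y := by show y⁻¹ * y ∈ W y; rw [inv_mul_cancel]; exact one_mem _
      rw [hfy] at this
      exact this
    · intro hy
      obtain ⟨h1, h2⟩ := hW x y hx hy
      refine ⟨h1, Set.ext fun z => ?_⟩
      show y⁻¹ * z ∈ W y ↔ x⁻¹ * z ∈ W x
      rw [h2, show x⁻¹ * z = (x⁻¹ * y) * (y⁻¹ * z) by group]
      exact ((W x).mul_mem_cancel_left hy).symm
  rw [hfib, ← Fintype.card_subtype, ← Nat.card_eq_fintype_card]
  exact (hWcard x hx).trans (dvd_of_eq (Nat.card_congr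
    ((Equiv.mulLeft x⁻¹).subtypeEquiv (q := fun y => y ∈ W x) fun y => Iff.rfl)).symm)

/-! ### Cyclic subgroups in an arbitrary finite group -/

variable {G : Type u} [Group G] [Finite G]

/-- Elements of a given order, grouped by the subgroup they generate. -/
theorem card_orderOf_eq_mul (H : Type u) [Group H] [Finite H] (n : ℕ) :
    Nat.card {x : H // orderOf x = n} =
      n.totient * Nat.card {C : Subgroup H // IsCyclic C ∧ Nat.card C = n} := by
  classical
  letI : Fintype H := Fintype.ofFinite H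
  let f : {x : H // orderOf x = n} → {C : Subgroup H // IsCyclic C ∧ Nat.card C = n} :=
    fun x => ⟨zpowers x.1, inferInstance, by rw [Nat.card_zpowers, x.2]⟩
  letI := Fintype.ofFinite {C : Subgroup H // IsCyclic C ∧ Nat.card C = n}
  rw [← Nat.card_congr (Equiv.sigmaFiberEquiv f), Nat.card_sigma]
  rw [Finset.sum_eq_card_nsmul (b := n.totient), smul_eq_mul, Finset.card_univ,
    Nat.card_eq_fintype_card, mul_comm]
  intro C _
  haveI := C.2.1
  have e : {x : {x : H // orderOf x = n} // f x = C} ≃ {y : C.1 // orderOf y = n} :=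
    { toFun := fun x => ⟨⟨x.1.1, (congrArg Subtype.val x.2 : zpowers x.1.1 = C.1) ▸ mem_zpowers x.1.1⟩,
        by rw [Subgroup.orderOf_mk]; exact x.1.2⟩
      invFun := fun y => ⟨⟨y.1.1, by rw [Subgroup.orderOf_coe]; exact y.2⟩, Subtype.ext
        (Subgroup.eq_of_le_of_card_ge (zpowers_le.2 y.1.2)
          (by rw [Nat.card_zpowers, Subgroup.orderOf_coe, y.2, C.2.2]))⟩
      left_inv := fun x => rfl
      right_inv := fun y => rfl }
  rw [Nat.card_congr e, Nat.card_eq_fintype_card, Fintype.card_subtype]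
  exact IsCyclic.card_orderOf_eq_totient (dvd_of_eq (by rw [← Nat.card_eq_fintype_card, C.2.2]))

/-- Elements of order `p ^ s`, any finite group. -/
theorem pow_pred_dvd_card_orderOf {s : ℕ} (hs : 1 ≤ s) :
    p ^ (s - 1) ∣ Nat.card {x : G // orderOf x = p ^ s} := by
  rw [card_orderOf_eq_mul, Nat.totient_prime_pow hp.out hs]
  exact dvd_mul_of_dvd_left (dvd_mul_right _ _) _

open scoped Pointwise in
/-- Miller's theorem for groups with noncyclic Sylow subgroups. -/
theorem dvd_card_orderOf_of_sylow (hodd : p ≠ 2) (S : Sylow p G)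
    (hnc : ¬ IsCyclic (S : Subgroup G)) {s : ℕ} (hs : 2 ≤ s) :
    p ^ s ∣ Nat.card {x : G // orderOf x = p ^ s} := by
  classical
  let Cyc (H : Type u) [Group H] := {C : Subgroup H // IsCyclic C ∧ Nat.card C = p ^ s}
  suffices hdvd : p ∣ Nat.card (Cyc G) by
    rw [card_orderOf_eq_mul, Nat.totient_prime_pow hp.out (by omega)]
    obtain ⟨r, hr⟩ := hdvd
    refine Dvd.intro ((p - 1) * r) ?_
    rw [hr, show p ^ s = p ^ (s - 1) * p by rw [← pow_succ, Nat.sub_add_cancel (by omega)]]
    ring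
  set Pt : Subgroup G := (S : Subgroup G)
  have hPt : IsPGroup p Pt := S.2
  have hnP : p ∣ Nat.card (Cyc Pt) := by
    have h1 := dvd_card_orderOf (P := Pt) hPt hodd hnc hs
    rw [card_orderOf_eq_mul, Nat.totient_prime_pow hp.out (by omega)] at h1
    change p ^ s ∣ p ^ (s - 1) * (p - 1) * Nat.card (Cyc Pt) at h1
    generalize Nat.card (Cyc Pt) = n at h1 ⊢
    rw [show p ^ s = p ^ (s - 1) * p by rw [← pow_succ, Nat.sub_add_cancel (by omega)],
      mul_assoc] at h1
    have h2 := Nat.dvd_of_mul_dvd_mul_left (pow_pos hp.out.pos _) h1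
    refine ((Nat.coprime_self_sub_right hp.out.one_le).2 (Nat.coprime_one_right p)).dvd_of_dvd_mul_left h2
  -- both counts are congruent to the number of fixed subgroups
  have hcyc : ∀ (H : Type u) [Group H] (a : MulAut H) (C : Cyc H),
      IsCyclic (a • C.1 : Subgroup H) ∧ Nat.card (a • C.1 : Subgroup H) = p ^ s := by
    intro H _ a C
    haveI := C.2.1
    exact ⟨isCyclic_of_surjective (C.1.equivSMul a) (C.1.equivSMul a).surjective,
      by rw [← Nat.card_congr (C.1.equivSMul a).toEquiv, C.2.2]⟩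
  letI actG : MulAction Pt (Cyc G) :=
    { smul := fun a C => ⟨MulAut.conj (a : G) • C.1, hcyc G _ C⟩
      one_smul := fun C => Subtype.ext (show MulAut.conj ((1 : Pt) : G) • C.1 = C.1 by
        rw [Subgroup.coe_one, map_one, one_smul])
      mul_smul := fun a b C => Subtype.ext (show MulAut.conj ((a * b : Pt) : G) • C.1 =
          MulAut.conj (a : G) • MulAut.conj (b : G) • C.1 by
        rw [Subgroup.coe_mul, map_mul, mul_smul]) }
  letI actP : MulAction Pt (Cyc Pt) :=
    { smul := fun a C => ⟨MulAut.conj a • C.1, hcyc Pt _ C⟩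
      one_smul := fun C => Subtype.ext (show MulAut.conj (1 : Pt) • C.1 = C.1 by
        rw [map_one, one_smul])
      mul_smul := fun a b C => Subtype.ext (show MulAut.conj (a * b) • C.1 =
          MulAut.conj a • MulAut.conj b • C.1 by rw [map_mul, mul_smul]) }
  have hG := hPt.card_modEq_card_fixedPoints (Cyc G)
  have hS := hPt.card_modEq_card_fixedPoints (Cyc Pt)
  have hfix : Nat.card (MulAction.fixedPoints Pt (Cyc Pt)) =
      Nat.card (MulAction.fixedPoints Pt (Cyc G)) := by
    have hmap : ∀ (a : Pt) (C : Subgroup Pt),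
        (MulAut.conj a • C).map Pt.subtype = MulAut.conj (a : G) • C.map Pt.subtype := by
      intro a C
      show (C.map (MulAut.conj a).toMonoidHom).map Pt.subtype =
        (C.map Pt.subtype).map (MulAut.conj (a : G)).toMonoidHom
      rw [Subgroup.map_map, Subgroup.map_map]
      rfl
    let F : MulAction.fixedPoints Pt (Cyc Pt) → MulAction.fixedPoints Pt (Cyc G) := fun C =>
      ⟨⟨C.1.1.map Pt.subtype, by
        haveI := C.1.2.1
        exact ⟨isCyclic_of_surjective _ (Pt.subtype.subgroupMap_surjective C.1.1),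
          by rw [Subgroup.card_map_of_injective Pt.subtype_injective, C.1.2.2]⟩⟩,
        fun a => Subtype.ext (by
          show MulAut.conj (a : G) • C.1.1.map Pt.subtype = C.1.1.map Pt.subtype
          rw [← hmap, show MulAut.conj a • C.1.1 = C.1.1 from congrArg Subtype.val (C.2 a)])⟩
    refine Nat.card_congr (Equiv.ofBijective F ⟨fun C D h => ?_, fun C => ?_⟩)
    · exact Subtype.ext (Subtype.ext (Subgroup.map_injective Pt.subtype_injective
        (congrArg (fun X => X.1.1) h)))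
    · have hn : Pt ≤ normalizer (C.1.1 : Set G) := fun a ha => by
        rw [Subgroup.mem_normalizer_iff_map_conj_eq]
        exact congrArg Subtype.val (C.2 ⟨a, ha⟩)
      have hle : C.1.1 ≤ Pt := by
        have hp' : IsPGroup p (C.1.1 ⊔ Pt : Subgroup G) :=
          (IsPGroup.of_card C.1.2.2).to_sup_of_normal_left' hPt hn
        exact le_sup_left.trans (S.3 hp' le_sup_right).le
      let e := Subgroup.subgroupOfEquivOfLe hle
      refine ⟨⟨⟨C.1.1.subgroupOf Pt, ⟨e.isCyclic.2 C.1.2.1,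
        by rw [Nat.card_congr e.toEquiv, C.1.2.2]⟩⟩, fun a => Subtype.ext ?_⟩,
        Subtype.ext (Subtype.ext (Subgroup.map_subgroupOf_eq_of_le hle))⟩
      refine Subgroup.map_injective Pt.subtype_injective ?_
      show (MulAut.conj a • C.1.1.subgroupOf Pt).map Pt.subtype = (C.1.1.subgroupOf Pt).map Pt.subtype
      rw [hmap, Subgroup.map_subgroupOf_eq_of_le hle]
      exact congrArg Subtype.val (C.2 a)
  refine Nat.modEq_zero_iff_dvd.1 ?_
  exact ((hG.trans ((Nat.ModEq.refl _).trans (hfix ▸ Nat.ModEq.refl _))).trans hS.symm).trans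
    (Nat.modEq_zero_iff_dvd.2 hnP)

end CfsgLib.PGroup.Miller
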