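import Mathlib
import Cfsg.Agent.Lib.Invol.NormalFourExists
import Cfsg.Agent.Lib.PGroup.MaxClassRecog
import Cfsg.Agent.Lib.PGroup.MetacyclicRecog
import Cfsg.Agent.Lib.Coprime.PGroupFrattini
import Cfsg.Agent.Lib.PGroup.MillerCount

/-!
# Cyclic subgroups of `2`-groups that are not of maximal class

In a noncyclic `2`-group not of maximal class the number of elements of order `2 ^ s`, `s ≥ 2`, is
divisible by `2 ^ s`.
-/

set_option autoImplicit false
set_option linter.style.haveILetI false

open Subgroup
open scoped commutatorElement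

namespace CfsgLib.PGroup.Miller

universe u

variable {X : Type u} [Group X] [Finite X] {m : ℕ}

/-- Maximal class or a normal four-group. -/
theorem exists_normal_four_or_maximal (hX : Nat.card X = 2 ^ m) (hnc : ¬ IsCyclic X) :
    Group.nilpotencyClass X = m - 1 ∨
      ∃ U : Subgroup X, U.Normal ∧ Nat.card U = 4 ∧ ∀ x ∈ U, x ^ 2 = 1 := by
  haveI : Fact (Nat.Prime 2) := ⟨Nat.prime_two⟩
  have hP : IsPGroup 2 X := IsPGroup.of_card hX
  by_cases hB : ∃ B : Subgroup X, B.Normal ∧ IsMulCommutative B ∧ ¬ IsCyclic B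
  · obtain ⟨B, h1, h2, h3⟩ := hB
    exact Or.inr (CfsgLib.Invol.exists_normal_four_of_abelian hP h1 h2 h3)
  push Not at hB
  obtain hc | ⟨-, k, r, e, a, b, ht, F, -⟩ := CfsgLib.Invol.cyclic_or_std hP hB
  · exact absurd hc hnc
  left
  have hm : m = k + 1 := by
    have h := F.card
    rw [hX, ← pow_succ'] at h
    exact Nat.pow_right_injective (le_refl 2) h
  have hk2 : 2 ≤ k := ht.1
  refine CfsgLib.PGroup.maximal_class_of_index_four (by omega) hX ?_
  obtain ⟨q, hq, hq2⟩ := CfsgLib.PGroup.odd_half_sub ht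
  have ha2 : a ^ (2 : ℤ) ∈ commutator X := by
    obtain ⟨c, d, hcd⟩ : IsCoprime q ((2 : ℤ) ^ k) := hq2.pow_right
    have hc1 : a ^ (2 * q) ∈ commutator X := by
      rw [← hq, zpow_sub, zpow_one, ← F.conj, show b * a * b⁻¹ * a⁻¹ = ⁅b, a⁆ from
        (commutatorElement_def b a).symm]
      exact commutator_mem_commutator (mem_top b) (mem_top a)
    have h1 : a ^ ((2 : ℤ) ^ k) = 1 := by
      rw [show (2 : ℤ) ^ k = ((2 ^ k : ℕ) : ℤ) by push_cast; rfl, zpow_natCast, ← F.ord,
        pow_orderOf_eq_one]
    have e : (2 : ℤ) = 2 * q * c + (2 : ℤ) ^ k * (2 * d) := by linear_combination -2 * hcd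
    rw [e, zpow_add, zpow_mul a (2 * q), zpow_mul a ((2 : ℤ) ^ k), h1, one_zpow, mul_one]
    exact zpow_mem hc1 c
  have hcard : Nat.card (zpowers (a ^ (2 : ℤ))) = 2 ^ (k - 1) := by
    rw [Nat.card_zpowers, show (2 : ℤ) = ((2 : ℕ) : ℤ) from rfl, zpow_natCast,
      orderOf_pow' a two_ne_zero, F.ord, Nat.gcd_eq_right (dvd_pow_self 2 (by omega)),
      show 2 ^ k = 2 ^ (k - 1) * 2 by rw [← pow_succ]; congr 1; omega,
      Nat.mul_div_cancel _ two_pos]
  have hidx : (zpowers (a ^ (2 : ℤ))).index = 4 := by
    have h := (zpowers (a ^ (2 : ℤ))).card_mul_index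
    rw [hcard, hX, hm] at h
    refine Nat.eq_of_mul_eq_mul_left (pow_pos two_pos (k - 1)) (h.trans ?_)
    rw [show (4 : ℕ) = 2 ^ 2 from rfl, ← pow_add]
    congr 1
    omega
  have hd : (commutator X).index ∣ 4 := hidx ▸ index_dvd_of_le (zpowers_le.2 ha2)
  obtain ⟨i, hi, hie⟩ := (Nat.dvd_prime_pow Nat.prime_two).1
    (show (commutator X).index ∣ 2 ^ 2 from hd)
  rcases (show i ≤ 1 ∨ i = 2 by omega) with h1 | h1
  · refine absurd (CfsgLib.RankTwoOmega.isCyclic_of_index_frattini hP ?_) hnc
    refine (Nat.le_of_dvd (Nat.pos_of_ne_zero index_ne_zero_of_finite)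
      (index_dvd_of_le (CfsgLib.Coprime.commutator_le_frattini hP))).trans ?_
    rw [hie]
    exact (Nat.pow_le_pow_right two_pos h1).trans (by norm_num)
  · rw [hie, h1]; norm_num

/-- A `2`-group of order at least two has evenly many solutions of `g * g = 1`. -/
theorem two_dvd_card_sq (Q : Type u) [Group Q] [Finite Q] (h : 2 ∣ Nat.card Q) :
    2 ∣ Nat.card {g : Q // g * g = 1} := by
  classical
  letI : Fintype Q := Fintype.ofFinite Q
  letI act : MulAction (Multiplicative (ZMod 2)) Q :=
    { smul := fun a g => if a = 1 then g else g⁻¹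
      one_smul := fun g => if_pos rfl
      mul_smul := fun a b g => by
        show (if a * b = 1 then g else g⁻¹) = if a = 1 then (if b = 1 then g else g⁻¹)
          else (if b = 1 then g else g⁻¹)⁻¹
        rcases (by revert a; decide : a = 1 ∨ a = Multiplicative.ofAdd 1) with rfl | rfl <;>
          rcases (by revert b; decide : b = 1 ∨ b = Multiplicative.ofAdd 1) with rfl | rfl <;>
          simp [← ofAdd_add, show (1 : ZMod 2) + 1 = 0 from rfl] }
  haveI : Fact (Nat.Prime 2) := ⟨Nat.prime_two⟩
  have hp : IsPGroup 2 (Multiplicative (ZMod 2)) := IsPGroup.of_card (n := 1) (by simp)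
  have hmod := hp.card_modEq_card_fixedPoints Q
  have hfix : Nat.card (MulAction.fixedPoints (Multiplicative (ZMod 2)) Q) =
      Nat.card {g : Q // g * g = 1} := by
    refine Nat.card_congr (Equiv.subtypeEquivRight fun g => ?_)
    constructor
    · intro hg
      have h1 : (if Multiplicative.ofAdd (1 : ZMod 2) = 1 then g else g⁻¹) = g :=
        hg (Multiplicative.ofAdd 1)
      rw [if_neg (by simp)] at h1
      nth_rewrite 1 [← h1]
      exact inv_mul_cancel g
    · intro hg a
      show (if a = 1 then g else g⁻¹) = g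
      split_ifs
      · rfl
      · exact inv_eq_of_mul_eq_one_right hg
  rw [hfix] at hmod
  exact Nat.modEq_zero_iff_dvd.1 (hmod.symm.trans (Nat.modEq_zero_iff_dvd.2 h))

/-- Miller for the prime two. -/
theorem two_dvd_card_orderOf (hX : Nat.card X = 2 ^ m) (hnc : ¬ IsCyclic X)
    (hcl : Group.nilpotencyClass X ≠ m - 1) {s : ℕ} (hs : 2 ≤ s) :
    2 ^ s ∣ Nat.card {x : X // orderOf x = 2 ^ s} := by
  classical
  haveI : Fact (Nat.Prime 2) := ⟨Nat.prime_two⟩
  letI : Fintype X := Fintype.ofFinite X
  have hP : IsPGroup 2 X := IsPGroup.of_card hX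
  obtain ⟨E, hEn, hE4, hE2⟩ := (exists_normal_four_or_maximal hX hnc).resolve_left hcl
  haveI := hEn
  have hsq : ∀ e ∈ E, e * e = 1 := fun e he => by rw [← pow_two]; exact hE2 e he
  have hEcomm : ∀ a b, a ∈ E → b ∈ E → a * b = b * a := fun a b ha hb => by
    have h1 : ∀ z ∈ E, z⁻¹ = z := fun z hz => inv_eq_of_mul_eq_one_right (hsq z hz)
    rw [← h1 _ (E.mul_mem ha hb), mul_inv_rev, h1 _ ha, h1 _ hb]
  set C := centralizer (E : Set X) with hCdef
  have hEC : E ≤ C := fun a ha => mem_centralizer_iff.2 fun b hb => hEcomm b a hb ha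
  have hC2 := CfsgLib.Invol.relIndex_centralizer_four hP E hE4
  have hsqC : ∀ x : X, x * x ∈ C := by
    intro x
    rcases (Nat.dvd_prime Nat.prime_two).1 hC2 with h | h
    · rw [hCdef, index_eq_one.1 h]; trivial
    · exact mul_self_mem_of_index_two h x
  -- squares in a coset of `E`
  have hsquare : ∀ (x e : X), e ∈ E →
      x * e * (x * e) = x * x * (x⁻¹ * e * x * e) ∧ x⁻¹ * e * x * e ∈ E ∧
        x * (x⁻¹ * e * x * e) = x⁻¹ * e * x * e * x := by
    intro x e he
    have hf : x⁻¹ * e * x ∈ E := by simpa using hEn.conj_mem e he x⁻¹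
    refine ⟨by group, E.mul_mem hf he, ?_⟩
    calc x * (x⁻¹ * e * x * e) = (e * (x * e * x⁻¹)) * x := by group
      _ = ((x * e * x⁻¹) * e) * x := by rw [hEcomm _ _ he (hEn.conj_mem e he x)]
      _ = (x⁻¹ * e * x * e) * x := by
          have hc := mem_centralizer_iff.1 (hsqC x) _ hf
          rw [show x * e * x⁻¹ = x * x * (x⁻¹ * e * x) * (x * x)⁻¹ by group, ← hc,
            mul_inv_cancel_right]
  let W : X → Subgroup X := fun x => zpowers (x ^ 2) ⊔ E
  let Bad : X → Prop := fun x => x ∉ C ∧ x * x ∈ E
  have hWC : ∀ x, W x ≤ C := fun x => sup_le (zpowers_le.2 (by rw [pow_two]; exact hsqC x)) hEC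
  have hW : ∀ x y : X, orderOf x = 2 ^ s → ¬ Bad x → x⁻¹ * y ∈ W x →
      orderOf y = 2 ^ s ∧ ¬ Bad y ∧ W y = W x := by
    intro x y hx hbad hy
    obtain ⟨z, hz, e, he, hze⟩ := Subgroup.mem_sup_of_normal_right.1 hy
    obtain ⟨i, rfl⟩ := mem_zpowers_iff.1 hz
    set x' := x ^ ((1 : ℤ) + 2 * i) with hx'
    have hye : y = x' * e := by
      rw [hx', zpow_add, zpow_one, mul_assoc, zpow_mul, show x ^ (2 : ℤ) = x ^ 2 from zpow_natCast x 2,
        hze, mul_inv_cancel_left]
    obtain ⟨hy2, hcE, hcx⟩ := hsquare x' e he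
    set c := x'⁻¹ * e * x' * e
    have hyy : y ^ 2 = (x ^ 2) ^ ((1 : ℤ) + 2 * i) * c := by
      rw [pow_two, hye, hy2, hx', ← zpow_add, ← zpow_natCast x 2, ← zpow_mul]
      congr 2; push_cast; ring
    have hord : orderOf (x ^ 2) = 2 ^ (s - 1) := by
      rw [orderOf_pow' x two_ne_zero, hx, Nat.gcd_eq_right (dvd_pow_self 2 (by omega))]
      nth_rewrite 2 [show 2 = 2 ^ 1 from rfl]
      rw [Nat.pow_div (by omega) two_pos]
    have hgen : x ^ 2 ∈ zpowers ((x ^ 2) ^ ((1 : ℤ) + 2 * i)) := by
      obtain ⟨a, b, hab⟩ : IsCoprime ((1 : ℤ) + 2 * i) ((2 : ℤ) ^ (s - 1)) :=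
        IsCoprime.pow_right ⟨1, -i, by ring⟩
      refine ⟨a, ?_⟩
      show ((x ^ 2) ^ ((1 : ℤ) + 2 * i)) ^ a = x ^ 2
      have h0 : (x ^ 2) ^ ((2 : ℤ) ^ (s - 1)) = 1 := by
        rw [show (2 : ℤ) ^ (s - 1) = ((2 ^ (s - 1) : ℕ) : ℤ) by push_cast; rfl, zpow_natCast, ← hord,
          pow_orderOf_eq_one]
      calc ((x ^ 2) ^ ((1 : ℤ) + 2 * i)) ^ a
          = (x ^ 2) ^ (((1 : ℤ) + 2 * i) * a) * ((x ^ 2) ^ ((2 : ℤ) ^ (s - 1))) ^ b := by
            rw [h0, one_zpow, mul_one, ← zpow_mul]
        _ = (x ^ 2) ^ (1 : ℤ) := by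
            rw [← zpow_mul, ← zpow_add]; congr 1; linear_combination hab
        _ = x ^ 2 := zpow_one _
    have hWeq : W y = W x := by
      refine le_antisymm (sup_le (zpowers_le.2 ?_) le_sup_right) (sup_le (zpowers_le.2 ?_) le_sup_right)
      · rw [hyy]; exact mul_mem (mem_sup_left (zpow_mem (mem_zpowers _) _)) (mem_sup_right hcE)
      · have h1 : (x ^ 2) ^ ((1 : ℤ) + 2 * i) ∈ W y := by
          rw [show (x ^ 2) ^ ((1 : ℤ) + 2 * i) = y ^ 2 * c⁻¹ by rw [hyy, mul_inv_cancel_right]]
          exact mul_mem (mem_sup_left (mem_zpowers _)) (mem_sup_right (E.inv_mem hcE))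
        exact (zpowers_le.2 h1) hgen
    have hxy : x ∈ C ↔ y ∈ C := by
      have h1 : x⁻¹ * y ∈ C := hWC x hy
      exact ⟨fun h => by simpa using C.mul_mem h h1,
        fun h => by simpa using C.mul_mem h (C.inv_mem h1)⟩
    have hsqE : x * x ∈ E ↔ y * y ∈ E := by
      rw [← pow_two, ← pow_two, hyy, Subgroup.mul_mem_cancel_right E hcE]
      exact ⟨fun h => E.zpow_mem h _, fun h => (zpowers_le.2 h) hgen⟩
    refine ⟨?_, fun h => hbad ⟨fun h' => h.1 (hxy.1 h'), hsqE.2 h.2⟩, hWeq⟩
    -- the order of `y`
    have hy4 : y ^ 4 = (x ^ 4) ^ ((1 : ℤ) + 2 * i) := by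
      rw [show (4 : ℕ) = 2 * 2 from rfl, pow_mul, hyy]
      have hc : Commute ((x ^ 2) ^ ((1 : ℤ) + 2 * i)) c := by
        have h1 : (x ^ 2) ^ ((1 : ℤ) + 2 * i) ∈ C := C.zpow_mem (by rw [pow_two]; exact hsqC x) _
        exact (mem_centralizer_iff.1 h1 c hcE).symm
      rw [hc.mul_pow, hE2 c hcE, mul_one, pow_mul, ← zpow_natCast ((x ^ 2) ^ ((1 : ℤ) + 2 * i)),
        ← zpow_mul, mul_comm, zpow_mul, zpow_natCast]
    rcases Nat.lt_or_ge 2 s with h3 | h3
    · obtain ⟨t, rfl⟩ : ∃ t, s = t + 3 := ⟨s - 3, by omega⟩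
      have h4 : orderOf (y ^ 4) = 2 ^ (t + 1) := by
        have hco : ((1 : ℤ) + 2 * i).natAbs.Coprime (orderOf (x ^ 4)) := by
          have : orderOf (x ^ 4) ∣ 2 ^ (t + 3) := hx ▸ orderOf_pow_dvd 4
          refine Nat.Coprime.coprime_dvd_right this (Nat.Coprime.pow_right _ ?_)
          rw [Nat.coprime_two_right]
          exact Int.natAbs_odd.2 ⟨i, by ring⟩
        have hx4 : orderOf (x ^ 4) = 2 ^ (t + 1) := by
          rw [orderOf_pow' x four_ne_zero, hx,
            Nat.gcd_eq_right ⟨2 ^ (t + 1), by ring⟩, show 2 ^ (t + 3) = 4 * 2 ^ (t + 1) by ring,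
            Nat.mul_div_cancel_left _ (by norm_num)]
        rw [hy4]
        rcases Int.natAbs_eq ((1 : ℤ) + 2 * i) with h | h <;> rw [h]
        · rw [zpow_natCast, hco.symm.orderOf_pow, hx4]
        · rw [zpow_neg, orderOf_inv, zpow_natCast, hco.symm.orderOf_pow, hx4]
      have hdvd : orderOf (y ^ 4) ∣ orderOf y := orderOf_pow_dvd 4
      refine orderOf_eq_prime_pow (fun h1 => ?_) ?_
      · rw [show 2 ^ (t + 2) = 4 * 2 ^ t by ring, pow_mul] at h1
        have := Nat.le_of_dvd (pow_pos two_pos t) (h4 ▸ orderOf_dvd_of_pow_eq_one h1)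
        exact absurd this (not_le.2 (Nat.pow_lt_pow_right one_lt_two (Nat.lt_succ_self t)))
      · rw [show 2 ^ (t + 2 + 1) = 4 * 2 ^ (t + 1) by ring, pow_mul, ← h4, pow_orderOf_eq_one]
    · obtain rfl : s = 2 := by omega
      have hx4 : x ^ 4 = 1 := by rw [show (4 : ℕ) = 2 ^ 2 from rfl, ← hx, pow_orderOf_eq_one]
      refine orderOf_eq_prime_pow (n := 1) (fun h1 => ?_) ?_
      · rw [pow_one] at h1
        have hxE : x * x ∈ E := hsqE.2 (by rw [← pow_two, h1]; exact one_mem _)
        have hxC : x ∈ C := by by_contra h; exact hbad ⟨h, hxE⟩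
        have hec : x' * e = e * x' :=
          (mem_centralizer_iff.1 (C.zpow_mem hxC _) e he).symm
        have hc1 : c = 1 := by
          show x'⁻¹ * e * x' * e = 1
          rw [mul_assoc x'⁻¹ e x', ← hec, inv_mul_cancel_left, hsq e he]
        rw [hyy, hc1, mul_one] at h1
        have h2 : x ^ 2 = 1 := by
          obtain ⟨j, hj⟩ := hgen
          rw [← hj]; simp [h1]
        rw [h2, orderOf_one] at hord
        norm_num at hord
      · rw [show 2 ^ (1 + 1) = 4 from rfl, hy4, hx4, one_zpow]
  have hWcard : ∀ x : X, orderOf x = 2 ^ s → 2 ^ s ∣ Nat.card (W x) := by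
    intro x hx
    obtain ⟨w, hw⟩ := (hP.to_subgroup (W x)).exists_card_eq
    rw [hw]
    refine pow_dvd_pow 2 ?_
    by_contra hlt
    push Not at hlt
    have hz : Nat.card (zpowers (x ^ 2)) = 2 ^ (s - 1) := by
      rw [Nat.card_zpowers, orderOf_pow' x two_ne_zero, hx, Nat.gcd_eq_right (dvd_pow_self 2 (by omega))]
      nth_rewrite 2 [show 2 = 2 ^ 1 from rfl]
      rw [Nat.pow_div (by omega) two_pos]
    have heq : zpowers (x ^ 2) = W x := eq_of_le_of_card_ge le_sup_left (by
      rw [hz, hw]; exact Nat.pow_le_pow_right two_pos (by omega))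
    have hle : E ≤ zpowers (x ^ 2) := heq ▸ le_sup_right
    haveI : IsCyclic E := isCyclic_of_injective (Subgroup.inclusion hle)
      (Subgroup.inclusion_injective hle)
    obtain ⟨g, hg⟩ := IsCyclic.exists_generator (α := E)
    have hd : Nat.card E ∣ 2 := by
      rw [← orderOf_eq_card_of_forall_mem_zpowers hg]
      exact orderOf_dvd_of_pow_eq_one (Subtype.ext (hE2 g g.2))
    rw [hE4] at hd
    exact absurd (Nat.le_of_dvd two_pos hd) (by norm_num)
  set S : Finset X := Finset.univ.filter (fun x => orderOf x = 2 ^ s)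
  rw [show Nat.card {x : X // orderOf x = 2 ^ s} = S.card by
    rw [Nat.card_eq_fintype_card, Fintype.card_subtype],
    ← Finset.card_filter_add_card_filter_not Bad]
  refine Nat.dvd_add ?_ ?_
  · -- bad elements come in pairs, one pair for each involution outside `C / E`
    rcases Nat.lt_or_ge 2 s with h3 | h3
    · rw [Finset.filter_eq_empty_iff.2 fun x hx hb => by
        have h : orderOf x = 2 ^ s := (Finset.mem_filter.1 hx).2
        have h4 : x ^ 4 = 1 := by
          rw [show x ^ 4 = x * x * (x * x) by simp [pow_succ, mul_assoc]]; exact hsq _ hb.2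
        have := Nat.le_of_dvd four_pos (h ▸ orderOf_dvd_of_pow_eq_one h4)
        have h8 : 2 ^ 3 ≤ 2 ^ s := Nat.pow_le_pow_right two_pos h3
        norm_num at h8
        omega, Finset.card_empty]
      exact dvd_zero _
    · obtain rfl : s = 2 := by omega
      set π := QuotientGroup.mk' E with hπ
      rw [Finset.card_eq_sum_card_image π]
      have hfib : ∀ q ∈ (S.filter Bad).image π, ((S.filter Bad).filter fun x => π x = q).card = 2 := by
        intro q hq
        obtain ⟨x, hx, rfl⟩ := Finset.mem_image.1 hq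
        obtain ⟨hxS, hxC, hxE⟩ := Finset.mem_filter.1 hx
        have hxo : orderOf x = 4 := (Finset.mem_filter.1 hxS).2
        let φ : X → X := fun e => x⁻¹ * e * x * e
        -- which elements of the coset have order four
        have hcoset : ((S.filter Bad).filter fun z => π z = π x) =
            (Finset.univ.filter fun e => e ∈ E ∧ φ e = 1).image (fun e => x * e) := by
          ext z
          simp only [Finset.mem_filter, Finset.mem_image, Finset.mem_univ, true_and, S, Bad]
          constructor
          · rintro ⟨⟨hzo, -, hzE⟩, hzx⟩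
            refine ⟨x⁻¹ * z, ⟨?_, ?_⟩, mul_inv_cancel_left x z⟩
            · exact QuotientGroup.eq.1 hzx.symm
            · have he : x⁻¹ * z ∈ E := QuotientGroup.eq.1 hzx.symm
              obtain ⟨h2, hcE, hcx⟩ := hsquare x (x⁻¹ * z) he
              rw [mul_inv_cancel_left] at h2
              by_contra hne
              -- `c` and `x * x` are the same involution of `E ∩ C(x)`
              set c := φ (x⁻¹ * z) with hc
              have hcx' : x * c = c * x := hcx
              have hxx : c = x * x := by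
                by_contra hne2
                refine hxC (mem_centralizer_iff.2 fun e he' => ?_)
                have hgenE : E = zpowers c ⊔ zpowers (x * x) := by
                  refine (eq_of_le_of_card_ge (sup_le (zpowers_le.2 hcE) (zpowers_le.2 hxE)) ?_).symm
                  rw [hE4]
                  have hc2 : orderOf c = 2 := orderOf_eq_prime (hE2 c hcE) hne
                  have hx2 : orderOf (x * x) = 2 := orderOf_eq_prime (hE2 _ hxE) fun e' => by
                    have := Nat.le_of_dvd two_pos (hxo ▸ orderOf_dvd_of_pow_eq_one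
                      (show x ^ 2 = 1 by rw [pow_two]; exact e'))
                    omega
                  by_contra hlt
                  push Not at hlt
                  obtain ⟨w, hw⟩ := (hP.to_subgroup (zpowers c ⊔ zpowers (x * x))).exists_card_eq
                  have hw1 : w ≤ 1 := by
                    by_contra hw1
                    have : 2 ^ 2 ≤ 2 ^ w := Nat.pow_le_pow_right two_pos (by omega)
                    rw [hw] at hlt
                    omega
                  have hle2 : Nat.card (zpowers c ⊔ zpowers (x * x) : Subgroup X) ≤ 2 := by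
                    rw [hw]; exact (Nat.pow_le_pow_right two_pos hw1).trans (by norm_num)
                  have h1 := eq_of_le_of_card_ge (le_sup_left : zpowers c ≤ zpowers c ⊔ zpowers (x * x))
                    (by rw [Nat.card_zpowers, hc2]; exact hle2)
                  have h2' : x * x ∈ zpowers c := h1 ▸ mem_sup_right (mem_zpowers _)
                  obtain ⟨j, hj⟩ := mem_zpowers_iff.1 h2'
                  rcases Int.even_or_odd' j with ⟨l, rfl | rfl⟩
                  · rw [zpow_mul, zpow_two, hsq c hcE, one_zpow] at hj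
                    rw [← hj, orderOf_one] at hx2; omega
                  · rw [zpow_add, zpow_mul, zpow_two, hsq c hcE, one_zpow, one_mul, zpow_one] at hj
                    exact hne2 hj
                rw [SetLike.mem_coe, hgenE] at he'
                have hle : zpowers c ⊔ zpowers (x * x) ≤ centralizer ({x} : Set X) := sup_le
                  (zpowers_le.2 (mem_centralizer_singleton_iff.2 hcx'.symm))
                  (zpowers_le.2 (mem_centralizer_singleton_iff.2 (mul_assoc x x x)))
                exact mem_centralizer_singleton_iff.1 (hle he')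
              have h4 : z ^ 2 = 1 := by
                rw [pow_two, h2, show x⁻¹ * (x⁻¹ * z) * x * (x⁻¹ * z) = c from rfl, hxx]
                exact hsq _ hxE
              have := Nat.le_of_dvd two_pos (hzo ▸ orderOf_dvd_of_pow_eq_one h4)
              norm_num at this
          · rintro ⟨e, ⟨he, hφ⟩, rfl⟩
            obtain ⟨h2, -, -⟩ := hsquare x e he
            rw [show x⁻¹ * e * x * e = φ e from rfl, hφ, mul_one] at h2
            refine ⟨⟨?_, fun h => hxC (by simpa using C.mul_mem h (C.inv_mem (hEC he))), ?_⟩, ?_⟩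
            · refine orderOf_eq_prime_pow (n := 1) (fun h1 => ?_) ?_
              · rw [pow_one, pow_two, h2] at h1
                have := Nat.le_of_dvd two_pos (hxo ▸ orderOf_dvd_of_pow_eq_one
                  (show x ^ 2 = 1 by rw [pow_two]; exact h1))
                omega
              · rw [show (2 : ℕ) ^ (1 + 1) = 2 * 2 from rfl, pow_mul, pow_two (x * e), h2, pow_two]
                exact hsq _ hxE
            · rw [h2]; exact hxE
            · exact QuotientGroup.eq.2 (by simpa using E.inv_mem he)
        rw [hcoset, Finset.card_image_of_injective _ (mul_right_injective x)]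
        -- the kernel of `φ` on `E`
        let K : Subgroup X :=
          { carrier := {e | e ∈ E ∧ φ e = 1}
            one_mem' := ⟨one_mem _, by simp [φ]⟩
            mul_mem' := fun {a b} ha hb => ⟨E.mul_mem ha.1 hb.1, by
              have hfb : x⁻¹ * b * x ∈ E := by simpa using hEn.conj_mem b hb.1 x⁻¹
              show x⁻¹ * (a * b) * x * (a * b) = 1
              calc x⁻¹ * (a * b) * x * (a * b) = x⁻¹ * a * x * ((x⁻¹ * b * x) * a) * b := by group
                _ = x⁻¹ * a * x * (a * (x⁻¹ * b * x)) * b := by rw [hEcomm _ _ hfb ha.1]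
                _ = φ a * φ b := by simp only [φ]; group
                _ = 1 := by rw [ha.2, hb.2, one_mul]⟩
            inv_mem' := fun {a} ha => ⟨E.inv_mem ha.1, by
              rw [show a⁻¹ = a from inv_eq_of_mul_eq_one_right (hsq a ha.1)]; exact ha.2⟩ }
        have hKE : K ≤ E := fun e he => he.1
        have hxx1 : x * x ≠ 1 := fun e' => by
          have := Nat.le_of_dvd two_pos (hxo ▸ orderOf_dvd_of_pow_eq_one
            (show x ^ 2 = 1 by rw [pow_two]; exact e'))
          omega
        have hxK : x * x ∈ K := ⟨hxE, by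
          show x⁻¹ * (x * x) * x * (x * x) = 1
          rw [show x⁻¹ * (x * x) * x * (x * x) = x * x * (x * x) by group, hsq _ hxE]⟩
        have hK2 : 2 ≤ Nat.card K := by
          haveI : Nontrivial K := ⟨⟨⟨x * x, hxK⟩, 1, fun e' => hxx1 (congrArg Subtype.val e')⟩⟩
          exact Finite.one_lt_card
        have hK4 : Nat.card K ≠ 4 := fun h => hxC (mem_centralizer_iff.2 fun e he => by
          have heK : e ∈ K := (eq_of_le_of_card_ge hKE (by rw [h, hE4])).symm ▸ he
          have h1 : x⁻¹ * e * x * e = 1 := heK.2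
          calc e * x = x * (x⁻¹ * e * x * e) * e⁻¹ := by group
            _ = x * e := by rw [h1, mul_one, show e⁻¹ = e from inv_eq_of_mul_eq_one_right (hsq e he)])
        obtain ⟨w, hw, hwe⟩ := (Nat.dvd_prime_pow Nat.prime_two).1
          (show Nat.card K ∣ 2 ^ 2 by rw [show (2 : ℕ) ^ 2 = 4 from rfl, ← hE4]; exact card_dvd_of_le hKE)
        have hw1 : w = 1 := by
          rcases (show w = 0 ∨ w = 1 ∨ w = 2 by omega) with rfl | rfl | rfl
          · rw [pow_zero] at hwe; omega
          · rfl
          · exact absurd hwe hK4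
        rw [hw1, pow_one] at hwe
        rw [← hwe, ← Fintype.card_subtype, ← Nat.card_eq_fintype_card]
        exact Nat.card_congr (Equiv.refl _)
      rw [Finset.sum_congr rfl hfib, Finset.sum_const, smul_eq_mul]
      refine (show 2 ^ 2 = 2 * 2 from rfl) ▸ Nat.mul_dvd_mul_right ?_ 2
      -- the image is the set of involutions of `X / E` outside `C / E`
      set CE := C.map π
      have himg : (S.filter Bad).image π =
          Finset.univ.filter (fun q => q * q = 1 ∧ q ∉ CE) := by
        ext q
        simp only [Finset.mem_image, Finset.mem_filter, Finset.mem_univ, true_and, S, Bad]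
        constructor
        · rintro ⟨x, ⟨-, hxC, hxE⟩, rfl⟩
          refine ⟨?_, ?_⟩
          · rw [← map_mul]; exact (QuotientGroup.eq_one_iff _).2 hxE
          · rintro ⟨c, hc, hcx⟩
            refine hxC ?_
            have := hEC (QuotientGroup.eq.1 hcx)
            simpa using C.mul_mem hc this
        · rintro ⟨hq2, hqC⟩
          obtain ⟨x, rfl⟩ := QuotientGroup.mk'_surjective E q
          rw [← map_mul] at hq2
          have hxE : x * x ∈ E := (QuotientGroup.eq_one_iff _).1 hq2
          have hxC : x ∉ C := fun h => hqC (mem_map_of_mem π h)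
          by_cases hx2 : x * x = 1
          · -- move to the other square in the coset
            obtain ⟨e, he, hne⟩ : ∃ e ∈ E, x⁻¹ * e * x * e ≠ 1 := by
              by_contra hno
              push Not at hno
              refine hxC (mem_centralizer_iff.2 fun e he => ?_)
              calc e * x = x * (x⁻¹ * e * x * e) * e⁻¹ := by group
                _ = x * e := by
                  rw [hno e he, mul_one, show e⁻¹ = e from inv_eq_of_mul_eq_one_right (hsq e he)]
            obtain ⟨h2, hcE, -⟩ := hsquare x e he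
            rw [hx2, one_mul] at h2
            refine ⟨x * e, ⟨?_, fun h => hxC (by simpa using C.mul_mem h (C.inv_mem (hEC he))),
              h2 ▸ hcE⟩, QuotientGroup.eq.2 (by simpa using E.inv_mem he)⟩
            refine orderOf_eq_prime_pow (n := 1) (fun h1 => hne ?_) ?_
            · rw [pow_one, pow_two, h2] at h1; exact h1
            · rw [show (2 : ℕ) ^ (1 + 1) = 2 * 2 from rfl, pow_mul, pow_two (x * e), h2, pow_two]
              exact hsq _ hcE
          · refine ⟨x, ⟨?_, hxC, hxE⟩, rfl⟩
            refine orderOf_eq_prime_pow (n := 1) (fun h1 => hx2 ?_) ?_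
            · rw [pow_one, pow_two] at h1; exact h1
            · rw [show (2 : ℕ) ^ (1 + 1) = 2 * 2 from rfl, pow_mul, pow_two x, pow_two]
              exact hsq _ hxE
      rw [himg]
      by_cases hCtop : C = ⊤
      · rw [Finset.filter_eq_empty_iff.2 fun q _ h => h.2 (by
          rw [show CE = (⊤ : Subgroup X).map π by rw [← hCtop],
            Subgroup.map_top_of_surjective π (QuotientGroup.mk'_surjective E)]
          trivial), Finset.card_empty]
        exact dvd_zero _
      -- `C ≠ E`, as the group is not of maximal class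
      have hCE : C ≠ E := fun h => hcl
        (CfsgLib.PGroup.maximalClass_of_selfCentralizing (p := 2) m X hX E
          (by rw [hE4]; norm_num) h)
      have heven : ∀ (Q : Subgroup (X ⧸ E)), Q ≠ ⊥ → 2 ∣ (Finset.univ.filter
          (fun q : X ⧸ E => q * q = 1 ∧ q ∈ Q)).card := by
        intro Q hQ
        obtain ⟨w, hw⟩ := ((hP.to_quotient E).to_subgroup Q).exists_card_eq
        haveI : Nontrivial Q := (nontrivial_iff_ne_bot Q).2 hQ
        have h1 : w ≠ 0 := fun e => (Finite.one_lt_card (α := Q)).ne' (by rw [hw, e, pow_zero])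
        have h2 := two_dvd_card_sq Q (hw ▸ dvd_pow_self 2 h1)
        rw [← Fintype.card_subtype, ← Nat.card_eq_fintype_card]
        refine h2.trans (dvd_of_eq (Nat.card_congr
          { toFun := fun g => ⟨g.1.1, congrArg Subtype.val g.2, g.1.2⟩
            invFun := fun g => ⟨⟨g.1, g.2.2⟩, Subtype.ext g.2.1⟩
            left_inv := fun g => rfl
            right_inv := fun g => rfl }))
      have hCbot : CE ≠ ⊥ := fun h => hCE (le_antisymm (by
        rw [Subgroup.map_eq_bot_iff, QuotientGroup.ker_mk'] at h; exact h) hEC)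
      have h1 := heven CE hCbot
      have h2 := heven ⊤ (fun h => hCbot (eq_bot_iff.2 (h ▸ le_top)))
      have hsplit := Finset.card_filter_add_card_filter_not (s := Finset.univ.filter
        (fun q : X ⧸ E => q * q = 1)) (fun q => q ∈ CE)
      simp only [Finset.filter_filter] at hsplit
      simp only [Subgroup.mem_top, and_true] at h2
      rw [← hsplit] at h2
      exact (Nat.dvd_add_right h1).1 h2
  · -- good elements form unions of cosets
    set f : X → Set X := fun x => {y | x⁻¹ * y ∈ W x}
    rw [Finset.card_eq_sum_card_image f]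
    refine Finset.dvd_sum fun T hT => ?_
    obtain ⟨x, hxX, rfl⟩ := Finset.mem_image.1 hT
    obtain ⟨hxS, hbad⟩ := Finset.mem_filter.1 hxX
    have hx : orderOf x = 2 ^ s := (Finset.mem_filter.1 hxS).2
    have hfib : ((S.filter fun y => ¬ Bad y).filter fun y => f y = f x) =
        Finset.univ.filter (fun y => x⁻¹ * y ∈ W x) := by
      ext y
      simp only [Finset.mem_filter, Finset.mem_univ, true_and, S]
      constructor
      · rintro ⟨-, hfy⟩
        have : y ∈ f y := by show y⁻¹ * y ∈ W y; rw [inv_mul_cancel]; exact one_mem _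
        rw [hfy] at this
        exact this
      · intro hy
        obtain ⟨h1, h2, h3⟩ := hW x y hx hbad hy
        refine ⟨⟨h1, h2⟩, Set.ext fun z => ?_⟩
        show y⁻¹ * z ∈ W y ↔ x⁻¹ * z ∈ W x
        rw [h3, show x⁻¹ * z = (x⁻¹ * y) * (y⁻¹ * z) by group]
        exact ((W x).mul_mem_cancel_left hy).symm
    rw [hfib, ← Fintype.card_subtype, ← Nat.card_eq_fintype_card]
    exact (hWcard x hx).trans (dvd_of_eq (Nat.card_congr
      ((Equiv.mulLeft x⁻¹).subtypeEquiv (q := fun y => y ∈ W x) fun y => Iff.rfl)).symm)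

end CfsgLib.PGroup.Miller
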