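import Cfsg.Agent.Lib.Coprime.Action

/-!
# Generation by centralizers of subgroups with cyclic quotient
-/

set_option autoImplicit false
set_option linter.style.haveILetI false
set_option linter.unusedSectionVars false

open Subgroup
open scoped commutatorElement IsMulCommutative

namespace CfsgLib.PGroup

universe u

variable {X : Type u} [Group X] [Finite X]

/-- The cocyclic subgroups of `A`. -/
def cocyclicSubgroups (A : Subgroup X) : Set (Subgroup X) :=
  {B | B ≤ A ∧ ∃ a ∈ A, B ⊔ zpowers a = A}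

theorem inf_centralizer_le_iSup_cocyclic {A G : Subgroup X} (hA : IsMulCommutative A)
    (hAG : A ≤ normalizer (G : Set X)) (hcop : (Nat.card A).Coprime (Nat.card G))
    {W : Subgroup X} (hWG : W ≤ G) (hW : ∀ B ∈ cocyclicSubgroups A, G ⊓ centralizer (B : Set X) ≤ W) :
    ∀ B₀ : Subgroup X, B₀ ≤ A → G ⊓ centralizer (B₀ : Set X) ≤ W := by
  intro B₀
  induction hn : Nat.card A - Nat.card B₀ using Nat.strong_induction_on generalizing B₀ with
  | _ n ih =>
  intro hB₀
  by_cases hco : B₀ ∈ cocyclicSubgroups A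
  · exact hW B₀ hco
  have hcomm : ∀ x ∈ A, ∀ y ∈ A, x * y = y * x := fun x hx y hy =>
    congrArg Subtype.val (isMulCommutative_iff.1 hA ⟨x, hx⟩ ⟨y, hy⟩)
  set C := centralizer (B₀ : Set X) with hC
  have hAC : A ≤ C := fun a ha => mem_centralizer_iff.2 fun b hb => hcomm b (hB₀ hb) a ha
  have hBC : B₀ ≤ C := hB₀.trans hAC
  haveI : (B₀.subgroupOf C).Normal := ⟨fun b hb c => by
    have e : c * b * c⁻¹ = b := Subtype.ext (by
      show (c : X) * b * (c : X)⁻¹ = b
      rw [← mem_centralizer_iff.1 c.2 (b : X) hb, mul_inv_cancel_right])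
    rw [e]; exact hb⟩
  set f := QuotientGroup.mk' (B₀.subgroupOf C)
  have hker : ∀ x : C, f x = 1 → (x : X) ∈ B₀ := fun x hx => (QuotientGroup.eq_one_iff x).1 hx
  set A' := (A.subgroupOf C).map f
  set K' := ((G ⊓ C).subgroupOf C).map f
  haveI : IsMulCommutative (A.subgroupOf C) := isMulCommutative_iff.2 fun a b =>
    Subtype.ext (Subtype.ext (hcomm _ a.2 _ b.2))
  haveI : IsMulCommutative A' := Subgroup.map_isMulCommutative _ f
  have hA' : ¬ IsCyclic A' := by
    intro hcyc
    obtain ⟨⟨q, hq⟩, hgen⟩ := IsCyclic.exists_generator (α := A')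
    obtain ⟨a, ha, rfl⟩ := hq
    refine hco ⟨hB₀, (a : X), ha, le_antisymm (sup_le hB₀ (zpowers_le.2 ha)) fun x hx => ?_⟩
    obtain ⟨i, hi⟩ := Subgroup.mem_zpowers_iff.1
      (hgen ⟨f ⟨x, hAC hx⟩, mem_map_of_mem f (show (⟨x, hAC hx⟩ : C) ∈ A.subgroupOf C from hx)⟩)
    have hi' : f (a ^ i) = f ⟨x, hAC hx⟩ := by
      rw [map_zpow]; simpa using congrArg Subtype.val hi
    have h1 : x * ((a : X) ^ i)⁻¹ ∈ B₀ := by
      have := hker (⟨x, hAC hx⟩ * (a ^ i)⁻¹) (by rw [map_mul, map_inv, hi', mul_inv_cancel])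
      simpa using this
    have h2 := mul_mem_sup h1 (zpow_mem (mem_zpowers (a : X)) i)
    rwa [inv_mul_cancel_right] at h2
  have hnorm : A' ≤ normalizer (K' : Set (C ⧸ B₀.subgroupOf C)) := by
    refine (map_mono ?_).trans (le_normalizer_map f)
    exact (Subgroup.comap_mono (Coprime.inf_le_normalizer hAG
      (hAC.trans le_normalizer))).trans (le_normalizer_comap C.subtype)
  have hcard : ∀ S : Subgroup X, S ≤ C → Nat.card (S.subgroupOf C) = Nat.card S := fun S h =>
    Nat.card_congr (subgroupOfEquivOfLe h).toEquiv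
  have hcop' : (Nat.card A').Coprime (Nat.card K') :=
    (hcop.coprime_dvd_left ((card_map_dvd _ f).trans (hcard A hAC).dvd)).coprime_dvd_right
      (((card_map_dvd _ f).trans (hcard (G ⊓ C) inf_le_right).dvd).trans
        (card_dvd_of_le inf_le_left))
  have hle := Coprime.le_of_centralizers_le (W := (W.subgroupOf C).map f) hA' hnorm hcop'
    fun q hq hq1 => by
      obtain ⟨a, ha, rfl⟩ := hq
      rintro _ ⟨⟨x, hx, rfl⟩, hxc⟩
      refine mem_map_of_mem f (show (x : X) ∈ W from ?_)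
      have hlt : Nat.card A - Nat.card (B₀ ⊔ zpowers (a : X) : Subgroup X) < n := by
        rw [← hn]
        have h1 : B₀ < B₀ ⊔ zpowers (a : X) := lt_of_le_of_ne le_sup_left fun e =>
          hq1 ((QuotientGroup.eq_one_iff a).2
            (show (a : X) ∈ B₀ from e.symm ▸ le_sup_right (a := B₀) (mem_zpowers (a : X))))
        have h2 : Nat.card B₀ < Nat.card (B₀ ⊔ zpowers (a : X) : Subgroup X) :=
          Set.Finite.card_lt_card (Set.toFinite _) h1
        have h3 : Nat.card (B₀ ⊔ zpowers (a : X) : Subgroup X) ≤ Nat.card A :=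
          Subgroup.card_le_of_le (sup_le hB₀ (zpowers_le.2 ha))
        omega
      refine ih _ hlt (B₀ ⊔ zpowers (a : X)) rfl (sup_le hB₀ (zpowers_le.2 ha)) ⟨hx.1, ?_⟩
      have e : f a * f x = f x * f a := mem_centralizer_singleton_iff.1 hxc |>.symm
      have h4 : (a : X) * x * (a : X)⁻¹ * (x : X)⁻¹ ∈ B₀ := by
        have := hker (a * x * a⁻¹ * x⁻¹) (by
          rw [map_mul, map_mul, map_mul, map_inv, map_inv, e, mul_inv_cancel_right,
            mul_inv_cancel])
        simpa using this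
      have h5 : (a : X) * x * (a : X)⁻¹ * (x : X)⁻¹ ∈ A ⊓ G :=
        ⟨hB₀ h4, G.mul_mem ((Subgroup.mem_normalizer_iff.1 (hAG ha) (x : X)).1 hx.1) (G.inv_mem hx.1)⟩
      rw [Coprime.disjoint_of_coprime_card hcop, mem_bot, mul_inv_eq_one] at h5
      have hax : Commute (a : X) (x : X) := mul_inv_eq_iff_eq_mul.1 h5
      refine mem_centralizer_iff.2 fun b hb => ?_
      have hle2 : B₀ ⊔ zpowers (a : X) ≤ centralizer ({(x : X)} : Set X) :=
        sup_le (fun c hc => mem_centralizer_singleton_iff.2 (mem_centralizer_iff.1 hx.2 c hc))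
          (zpowers_le.2 (mem_centralizer_singleton_iff.2 hax.eq))
      exact mem_centralizer_singleton_iff.1 (hle2 hb)
  intro x hx
  obtain ⟨w, hw, hwe⟩ := hle (mem_map_of_mem f (show (⟨x, hx.2⟩ : C) ∈ (G ⊓ C).subgroupOf C from hx))
  have h1 := hker (⟨x, hx.2⟩ * w⁻¹) (by rw [map_mul, map_inv, hwe, mul_inv_cancel])
  have hBW : B₀ ⊓ G = ⊥ := by
    refine le_bot_iff.1 ?_
    rw [← Coprime.disjoint_of_coprime_card hcop]
    exact inf_le_inf_right G hB₀
  have h2 : x * (w : X)⁻¹ ∈ B₀ ⊓ G := ⟨by simpa using h1, G.mul_mem hx.1 (G.inv_mem (hWG hw))⟩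
  rw [hBW, mem_bot, mul_inv_eq_one] at h2
  exact h2 ▸ hw

/-- `G` is generated by the centralizers of cocyclic subgroups, and so is `[G, A]`. -/
theorem coprime_cocyclic_generation {A G : Subgroup X} (hA : IsMulCommutative A)
    (hAG : A ≤ normalizer (G : Set X)) (hcop : (Nat.card A).Coprime (Nat.card G)) :
    (⨆ B ∈ cocyclicSubgroups A, G ⊓ centralizer (B : Set X)) = G ∧
      (⨆ B ∈ cocyclicSubgroups A, ⁅G ⊓ centralizer (B : Set X), A⁆) = ⁅G, A⁆ := by
  set W := ⨆ B ∈ cocyclicSubgroups A, G ⊓ centralizer (B : Set X) with hWdef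
  have hWG : W ≤ G := iSup₂_le fun _ _ => inf_le_left
  have hWeq : W = G := by
    refine le_antisymm hWG ?_
    have h := inf_centralizer_le_iSup_cocyclic hA hAG hcop hWG
      (fun B hB => le_iSup₂ (f := fun B (_ : B ∈ cocyclicSubgroups A) =>
        G ⊓ centralizer (B : Set X)) B hB) ⊥ bot_le
    refine le_trans (le_inf le_rfl fun g _ => mem_centralizer_iff.2 fun b hb => ?_) h
    rw [mem_bot.1 hb, one_mul, mul_one]
  refine ⟨hWeq, le_antisymm (iSup₂_le fun B _ => commutator_mono inf_le_left le_rfl) ?_⟩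
  set R := ⨆ B ∈ cocyclicSubgroups A, ⁅G ⊓ centralizer (B : Set X), A⁆ with hR
  set Z := G ⊓ centralizer (A : Set X) with hZ
  have hcomm : ∀ x ∈ A, ∀ y ∈ A, x * y = y * x := fun x hx y hy =>
    congrArg Subtype.val (isMulCommutative_iff.1 hA ⟨x, hx⟩ ⟨y, hy⟩)
  have hAB : ∀ B ∈ cocyclicSubgroups A, A ≤ normalizer ((G ⊓ centralizer (B : Set X) :
      Subgroup X) : Set X) := fun B hB =>
    Coprime.inf_le_normalizer hAG
      (le_trans (fun a ha => mem_centralizer_iff.2 fun b hb => hcomm b (hB.1 hb) a ha) le_normalizer)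
  have hRle : ∀ B ∈ cocyclicSubgroups A, ⁅G ⊓ centralizer (B : Set X), A⁆ ≤ R := fun B hB =>
    le_iSup₂ (f := fun B (_ : B ∈ cocyclicSubgroups A) => ⁅G ⊓ centralizer (B : Set X), A⁆) B hB
  have hconj : ∀ g : X, g ∈ normalizer (A : Set X) → g ∈ normalizer (G : Set X) →
      (∀ B ∈ cocyclicSubgroups A, g ∈ normalizer (centralizer (B : Set X) : Set X)) →
      g ∈ normalizer (R : Set X) := by
    intro g hgA hgG hgB
    rw [← Coprime.conjBy_eq_self_iff]
    refine eq_of_le_of_card_ge ?_ (Coprime.card_conjBy g R).ge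
    show R.map _ ≤ R
    simp only [hR, Subgroup.map_iSup]
    refine iSup₂_le fun B hB => ?_
    rw [Subgroup.map_commutator,
      show (G ⊓ centralizer (B : Set X)).map (MulAut.conj g).toMonoidHom =
        Coprime.conjBy g (G ⊓ centralizer (B : Set X)) from rfl,
      Coprime.conjBy_eq_self_iff.2 (Subgroup.mem_normalizer_iff.2 fun y =>
        and_congr (Subgroup.mem_normalizer_iff.1 hgG y) (Subgroup.mem_normalizer_iff.1 (hgB B hB) y)),
      show A.map (MulAut.conj g).toMonoidHom = Coprime.conjBy g A from rfl,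
      Coprime.conjBy_eq_self_iff.2 hgA]
    exact hRle B hB
  have hRA : A ≤ normalizer (R : Set X) := fun a ha =>
    hconj a (le_normalizer ha) (hAG ha) fun B hB =>
      le_normalizer (mem_centralizer_iff.2 fun b hb => hcomm b (hB.1 hb) a ha)
  have hRZ : Z ≤ normalizer (R : Set X) := fun z hz =>
    hconj z (Coprime.centralizer_le_normalizer_self A hz.2) (le_normalizer hz.1) fun B hB =>
      le_normalizer (Subgroup.centralizer_le hB.1 hz.2)
  have hRG : G ≤ R ⊔ Z := by
    rw [← hWeq]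
    refine iSup₂_le fun B hB => ?_
    conv_lhs => rw [← Coprime.commutator_sup_centralizer (hAB B hB)
      (hcop.coprime_dvd_right (card_dvd_of_le inf_le_left))
      (Or.inl (Coprime.isSolvable_of_isMulCommutative hA))]
    exact sup_le_sup (hRle B hB) (inf_le_inf_right _ inf_le_left)
  rw [commutator_le]
  intro g hg a ha
  obtain ⟨r, hr, z, hz, rfl⟩ := Coprime.mem_sup_exists hRZ (hRG hg)
  rw [commutatorElement_def,
    show r * z * a * (r * z)⁻¹ * a⁻¹ = r * (z * a * z⁻¹) * r⁻¹ * a⁻¹ by group,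
    show z * a * z⁻¹ = a by rw [← mem_centralizer_iff.1 hz.2 a ha, mul_inv_cancel_right],
    show r * a * r⁻¹ * a⁻¹ = r * (a * r⁻¹ * a⁻¹) by group]
  exact mul_mem hr ((Subgroup.mem_normalizer_iff.1 (hRA ha) r⁻¹).1 (inv_mem hr))

end CfsgLib.PGroup
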