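import Cfsg.Agent.Lib.PGroup.PrimePowerOrbits
import Cfsg.Agent.Lib.PGroup.SmallElementsIndex
import Cfsg.Agent.Lib.Coprime.PGroupFrattini

/-!
# Groups in which every `q`-element has prime power class size

The structure theorem for `q`-Baer groups.
-/

set_option autoImplicit false
set_option linter.style.haveILetI false
set_option linter.unusedSectionVars false

open Subgroup
open scoped IsMulCommutative commutatorElement

namespace CfsgLib.PGroup.QBaer

universe u

variable {G : Type u} [Group G]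

/-- The class size of an image divides that of the element. -/
theorem index_centralizer_map_dvd {G' : Type*} [Group G'] {f : G →* G'}
    (hf : Function.Surjective f) (x : G) :
    (centralizer ({f x} : Set G')).index ∣ (centralizer ({x} : Set G)).index := by
  refine (Subgroup.index_dvd_of_le ?_).trans (Subgroup.index_map_dvd _ hf)
  rintro _ ⟨c, hc, rfl⟩
  refine Subgroup.mem_centralizer_singleton_iff.2 ?_
  rw [← map_mul, Subgroup.mem_centralizer_singleton_iff.1 hc, map_mul]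

theorem index_centralizer_conj (g x : G) :
    (centralizer ({g * x * g⁻¹} : Set G)).index = (centralizer ({x} : Set G)).index := by
  refine Nat.dvd_antisymm (index_centralizer_map_dvd (f := (MulAut.conj g).toMonoidHom)
    (MulAut.conj g).surjective x) ?_
  have h := index_centralizer_map_dvd (f := (MulAut.conj g⁻¹).toMonoidHom)
    (MulAut.conj g⁻¹).surjective (g * x * g⁻¹)
  rwa [MulEquiv.coe_toMonoidHom, MulAut.conj_apply,
    show g⁻¹ * (g * x * g⁻¹) * g⁻¹⁻¹ = x by group] at h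

variable [Finite G] {q : ℕ} [Fact q.Prime]

/-- An element of `q`-power order in the Fitting subgroup lies in `O_q`. -/
theorem mem_pCore_of_mem_fitting {x : G} {k : ℕ} (hx : x ^ q ^ k = 1)
    (hmem : x ∈ Cfsg.fittingSubgroup G) : x ∈ Cfsg.pCore q G := by
  haveI := Coprime.fitting_normal (G := G)
  haveI : Group.IsNilpotent (Cfsg.fittingSubgroup G) := Coprime.fitting_isNilpotent
  have hp : IsPGroup q (Subgroup.zpowers (⟨x, hmem⟩ : Cfsg.fittingSubgroup G)) := by
    obtain ⟨m, -, hm⟩ := (Nat.dvd_prime_pow Fact.out).1 (orderOf_dvd_of_pow_eq_one hx)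
    exact IsPGroup.of_card (n := m) (by rw [Nat.card_zpowers, Subgroup.orderOf_mk, hm])
  obtain ⟨P, hP⟩ := hp.exists_le_sylow
  haveI : (P : Subgroup (Cfsg.fittingSubgroup G)).Normal := inferInstance
  haveI : (P : Subgroup (Cfsg.fittingSubgroup G)).Characteristic :=
    Sylow.characteristic_of_normal P inferInstance
  haveI := Coprime.map_subtype_normal_of_characteristic (Cfsg.fittingSubgroup G)
    (P : Subgroup (Cfsg.fittingSubgroup G))
  exact Coprime.le_pCore (N := (P : Subgroup (Cfsg.fittingSubgroup G)).map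
    (Cfsg.fittingSubgroup G).subtype) (P.isPGroup'.map _)
    ⟨⟨x, hmem⟩, hP (Subgroup.mem_zpowers _), rfl⟩

/-- Modulo `O_r`, a `q`-element with class of `r`-power size lies in `O_q`. -/
theorem mk_mem_pCore {r : ℕ} (hr : r.Prime) [(Cfsg.pCore r G).Normal]
    {x : G} {k a : ℕ} (hx : x ^ q ^ k = 1)
    (hidx : (centralizer ({x} : Set G)).index = r ^ a) :
    QuotientGroup.mk' (Cfsg.pCore r G) x ∈ Cfsg.pCore q (G ⧸ Cfsg.pCore r G) := by
  haveI := Fact.mk hr
  set f := QuotientGroup.mk' (Cfsg.pCore r G)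
  obtain ⟨b, -, hb⟩ := (Nat.dvd_prime_pow hr).1
    (hidx ▸ index_centralizer_map_dvd (QuotientGroup.mk'_surjective _) x :
      (centralizer ({f x} : Set (G ⧸ Cfsg.pCore r G))).index ∣ r ^ a)
  have hle := conjugates_commute_of_pCore_eq_bot (Coprime.pCore_quotient_eq_bot r) hb
  exact mem_pCore_of_mem_fitting (k := k) (by rw [← map_pow, hx, map_one])
    (hle (Subgroup.subset_normalClosure (Set.mem_singleton _))).1

/-- Commutators of `O_{q'}` with such an element lie in `O_r`. -/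
theorem commutator_mem_pCore {r : ℕ} (hr : r.Prime) {x : G} {k a : ℕ} (hx : x ^ q ^ k = 1)
    (hidx : (centralizer ({x} : Set G)).index = r ^ a) {n : G}
    (hn : n ∈ Cfsg.pPrimeCore q G) : n * x * n⁻¹ * x⁻¹ ∈ Cfsg.pCore r G := by
  haveI := Coprime.pCore_normal' (G := G) r
  set f := QuotientGroup.mk' (Cfsg.pCore r G)
  have hxm := mk_mem_pCore hr hx hidx
  haveI := Coprime.pCore_normal' (G := G ⧸ Cfsg.pCore r G) q
  haveI : (Cfsg.pPrimeCore q G).Normal :=
    haveI := Coprime.pPrimeCore_characteristic (G := G) q; inferInstance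
  haveI : ((Cfsg.pPrimeCore q G).map f).Normal :=
    Subgroup.Normal.map inferInstance f (QuotientGroup.mk'_surjective _)
  have h1 : f n * f x * (f n)⁻¹ * (f x)⁻¹ ∈ Cfsg.pCore q (G ⧸ Cfsg.pCore r G) :=
    mul_mem (Subgroup.Normal.conj_mem inferInstance _ hxm _) (inv_mem hxm)
  have h2 : f n * f x * (f n)⁻¹ * (f x)⁻¹ ∈ (Cfsg.pPrimeCore q G).map f := by
    rw [show f n * f x * (f n)⁻¹ * (f x)⁻¹ = f n * (f x * (f n)⁻¹ * (f x)⁻¹) by group]
    exact mul_mem (Subgroup.mem_map_of_mem f hn)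
      (Subgroup.Normal.conj_mem inferInstance _ (inv_mem (Subgroup.mem_map_of_mem f hn)) _)
  obtain ⟨m, hm⟩ := Coprime.pCore_isPGroup (G := G ⧸ Cfsg.pCore r G) q ⟨_, h1⟩
  have h3 : (f n * f x * (f n)⁻¹ * (f x)⁻¹) ^ q ^ m = 1 := by
    simpa using congrArg Subtype.val hm
  have h4 := orderOf_eq_one_iff.1 (Nat.eq_one_of_dvd_coprimes
    ((((Coprime.pPrimeCore_coprime (G := G) (Fact.out : q.Prime)).coprime_dvd_left
      (Subgroup.card_map_dvd _ f)).pow_right m).symm) (orderOf_dvd_of_pow_eq_one h3)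
    (Subgroup.orderOf_dvd_natCard _ h2))
  refine (QuotientGroup.eq_one_iff _).1 ?_
  exact (show f (n * x * n⁻¹ * x⁻¹) = 1 by rw [map_mul, map_mul, map_mul, map_inv, map_inv, h4])

variable (G q) in
/-- The hypothesis. -/
def IsQBaer : Prop :=
  ∀ x : G, (∃ k : ℕ, orderOf x = q ^ k) →
    ∃ (r : ℕ) (a : ℕ), r.Prime ∧ (centralizer ({x} : Set G)).index = r ^ a

theorem pow_eq_one_of_mem (Q : Sylow q G) {x : G} (hx : x ∈ (Q : Subgroup G)) :
    ∃ k, x ^ q ^ k = 1 := by
  obtain ⟨k, hk⟩ := Q.2 ⟨x, hx⟩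
  exact ⟨k, by simpa using congrArg Subtype.val hk⟩

theorem class_of_mem (hB : IsQBaer G q) (Q : Sylow q G) {x : G} (hx : x ∈ (Q : Subgroup G)) :
    ∃ (r : ℕ) (a : ℕ), r.Prime ∧ (centralizer ({x} : Set G)).index = r ^ a := by
  obtain ⟨k, hk⟩ := pow_eq_one_of_mem Q hx
  obtain ⟨m, -, hm⟩ := (Nat.dvd_prime_pow Fact.out).1 (orderOf_dvd_of_pow_eq_one hk)
  exact hB x ⟨m, hm⟩

/-- Every `q`-element is conjugate into a given Sylow subgroup. -/
theorem exists_conj_mem (Q : Sylow q G) {x : G} (hx : ∃ k : ℕ, orderOf x = q ^ k) :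
    ∃ g : G, g * x * g⁻¹ ∈ (Q : Subgroup G) := by
  obtain ⟨k, hk⟩ := hx
  obtain ⟨T, hT⟩ :=
    (IsPGroup.of_card (n := k) (by rw [Nat.card_zpowers, hk]) :
      IsPGroup q (Subgroup.zpowers x)).exists_le_sylow
  obtain ⟨g, hg⟩ := MulAction.exists_smul_eq G T Q
  refine ⟨g, ?_⟩
  rw [← hg, Sylow.coe_subgroup_smul]
  exact Subgroup.smul_mem_pointwise_smul x (MulAut.conj g) _ (hT (Subgroup.mem_zpowers x))

/-- The image of a Sylow subgroup modulo `O_{q'}` is the `q`-core. -/
theorem map_sylow_eq_pCore (hB : IsQBaer G q) (Q : Sylow q G)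
    [(Cfsg.pPrimeCore q G).Normal] :
    (Q : Subgroup G).map (QuotientGroup.mk' (Cfsg.pPrimeCore q G)) =
      Cfsg.pCore q (G ⧸ Cfsg.pPrimeCore q G) := by
  set K := Cfsg.pPrimeCore q G
  set f := QuotientGroup.mk' K
  have hf : Function.Surjective f := QuotientGroup.mk'_surjective K
  refine le_antisymm ?_ (PGroup.pCore_le_sylow (Q.mapSurjective hf))
  rintro _ ⟨x, hx, rfl⟩
  obtain ⟨k, hk⟩ := pow_eq_one_of_mem Q hx
  obtain ⟨r, a, hr, ha⟩ := class_of_mem hB Q hx
  by_cases hrq : r = q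
  · subst hrq
    exact Coprime.map_pCore_le hf _ (Subgroup.mem_map_of_mem f (mem_pCore_of_class_pPower hk ha))
  haveI := Fact.mk hr
  have hcore : Cfsg.pCore r (G ⧸ K) = ⊥ := by
    rw [← le_bot_iff, ← Coprime.pPrimeCore_quotient_eq_bot (G := G) (Fact.out : q.Prime)]
    haveI := Coprime.pCore_normal' (G := G ⧸ K) r
    refine Coprime.le_pPrimeCore ?_
    obtain ⟨m, hm⟩ := IsPGroup.iff_card.1 (Coprime.pCore_isPGroup (G := G ⧸ K) r)
    rw [hm]
    exact ((Nat.coprime_primes hr (Fact.out : q.Prime)).2 hrq).pow_left m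
  obtain ⟨b, -, hb⟩ := (Nat.dvd_prime_pow hr).1
    (ha ▸ index_centralizer_map_dvd hf x : (centralizer ({f x} : Set (G ⧸ K))).index ∣ r ^ a)
  exact mem_pCore_of_mem_fitting (k := k) (by rw [← map_pow, hk, map_one])
    (conjugates_commute_of_pCore_eq_bot hcore hb
      (Subgroup.subset_normalClosure (Set.mem_singleton _))).1

theorem eq_one_of_mem_both (Q : Sylow q G) {g : G} (hQ : g ∈ (Q : Subgroup G))
    (hK : g ∈ Cfsg.pPrimeCore q G) : g = 1 := by
  obtain ⟨k, hk⟩ := pow_eq_one_of_mem Q hQ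
  exact orderOf_eq_one_iff.1 (Nat.eq_one_of_dvd_coprimes
    ((Coprime.pPrimeCore_coprime (Fact.out : q.Prime)).pow_right k).symm
    (orderOf_dvd_of_pow_eq_one hk) (Subgroup.orderOf_dvd_natCard _ hK))

/-- A `q`-element of class size prime to `q` is central in every Sylow subgroup containing it. -/
theorem commute_of_not_dvd (hB : IsQBaer G q) (Q : Sylow q G) [(Cfsg.pPrimeCore q G).Normal]
    {x : G} (hx : x ∈ (Q : Subgroup G)) (hidx : ¬ q ∣ (centralizer ({x} : Set G)).index)
    {y : G} (hy : y ∈ (Q : Subgroup G)) : Commute x y := by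
  set K := Cfsg.pPrimeCore q G
  set f := QuotientGroup.mk' K
  obtain ⟨T⟩ : Nonempty (Sylow q (centralizer ({x} : Set G))) := inferInstance
  set T' := (T : Subgroup (centralizer ({x} : Set G))).map (centralizer ({x} : Set G)).subtype
  have hT' : ¬ q ∣ T'.index := by
    rw [Subgroup.index_map_subtype, (Fact.out : q.Prime).dvd_mul]
    exact not_or.2 ⟨T.not_dvd_index, hidx⟩
  let S : Sylow q G := (T.2.map (centralizer ({x} : Set G)).subtype).toSylow hT'
  have hS : ∀ s ∈ (S : Subgroup G), Commute x s := by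
    rintro _ ⟨s, -, rfl⟩
    exact (Subgroup.mem_centralizer_singleton_iff.1 s.2).symm
  have h : f y ∈ (S : Subgroup G).map f := by
    rw [map_sylow_eq_pCore hB S, ← map_sylow_eq_pCore hB Q]
    exact Subgroup.mem_map_of_mem f hy
  obtain ⟨s, hs, he⟩ := h
  have h1 : x * y * x⁻¹ * y⁻¹ ∈ K := by
    rw [← QuotientGroup.eq_one_iff]
    show f (x * y * x⁻¹ * y⁻¹) = 1
    rw [map_mul, map_mul, map_mul, map_inv, map_inv, ← he, ← map_mul, (hS s hs).eq, map_mul,
      mul_inv_cancel_right, mul_inv_cancel]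
  have h2 := eq_one_of_mem_both Q (mul_mem (mul_mem (mul_mem hx hy) (inv_mem hx)) (inv_mem hy)) h1
  exact mul_inv_eq_iff_eq_mul.1 (mul_inv_eq_one.1 h2)

/-- A `q`-element of `q`-power class size centralizes `O_{q'}`. -/
theorem commute_pPrimeCore {x : G} {k a : ℕ} (hx : x ^ q ^ k = 1)
    (hidx : (centralizer ({x} : Set G)).index = q ^ a) {n : G}
    (hn : n ∈ Cfsg.pPrimeCore q G) : Commute n x := by
  haveI : (Cfsg.pPrimeCore q G).Normal :=
    haveI := Coprime.pPrimeCore_characteristic (G := G) q; inferInstance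
  haveI := Coprime.pCore_normal' (G := G) q
  have hxO := mem_pCore_of_class_pPower hx hidx
  have hdis : Disjoint (Cfsg.pPrimeCore q G) (Cfsg.pCore q G) := by
    rw [Subgroup.disjoint_def]
    intro g hgK hgO
    obtain ⟨m, hm⟩ := Coprime.pCore_isPGroup (G := G) q ⟨g, hgO⟩
    exact orderOf_eq_one_iff.1 (Nat.eq_one_of_dvd_coprimes
      ((Coprime.pPrimeCore_coprime (Fact.out : q.Prime)).pow_right m).symm
      (orderOf_dvd_of_pow_eq_one (by simpa using congrArg Subtype.val hm))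
      (Subgroup.orderOf_dvd_natCard _ hgK))
  exact Subgroup.commute_of_normal_of_disjoint _ _ inferInstance inferInstance hdis n x hn hxO

/-- With a non-abelian Sylow subgroup all class sizes of `q`-elements are powers of `q`. -/
theorem qPower_of_nonabelian (hB : IsQBaer G q) (Q : Sylow q G)
    (hna : ¬ IsMulCommutative (Q : Subgroup G)) (x : G) (hx : ∃ k : ℕ, orderOf x = q ^ k) :
    ∃ a : ℕ, (centralizer ({x} : Set G)).index = q ^ a := by
  classical
  haveI : (Cfsg.pPrimeCore q G).Normal :=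
    haveI := Coprime.pPrimeCore_characteristic (G := G) q; inferInstance
  haveI := Coprime.pCore_normal' (G := G) q
  have hq : q.Prime := Fact.out
  -- non-central elements
  have hnc : ∀ z ∈ (Q : Subgroup G), ∀ w ∈ (Q : Subgroup G), ¬ Commute z w →
      ∃ a, (centralizer ({z} : Set G)).index = q ^ a := by
    intro z hz w hw hzw
    obtain ⟨r, a, hr, ha⟩ := class_of_mem hB Q hz
    by_cases hrq : r = q
    · exact ⟨a, hrq ▸ ha⟩
    · refine absurd (commute_of_not_dvd hB Q hz ?_ hw) hzw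
      rw [ha]
      exact fun h => hrq ((Nat.prime_dvd_prime_iff_eq hq hr).1 (hq.dvd_of_dvd_pow h)).symm
  obtain ⟨x₀, hx₀, y₀, hy₀, hxy⟩ : ∃ a ∈ (Q : Subgroup G), ∃ b ∈ (Q : Subgroup G), ¬ Commute a b := by
    by_contra hcon
    push Not at hcon
    exact hna (isMulCommutative_iff.2 fun a b => Subtype.ext (hcon a a.2 b b.2))
  have hQO : (Q : Subgroup G) ≤ Cfsg.pCore q G := by
    intro z hz
    by_cases hzc : ∃ w ∈ (Q : Subgroup G), ¬ Commute z w
    · obtain ⟨w, hw, hzw⟩ := hzc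
      obtain ⟨a, ha⟩ := hnc z hz w hw hzw
      obtain ⟨k, hk⟩ := pow_eq_one_of_mem Q hz
      exact mem_pCore_of_class_pPower hk ha
    push Not at hzc
    have h1 : ¬ Commute (z * x₀) y₀ := fun h => hxy (by
      have := ((hzc y₀ hy₀).inv_left).mul_left h
      rwa [inv_mul_cancel_left] at this)
    obtain ⟨a, ha⟩ := hnc _ (mul_mem hz hx₀) y₀ hy₀ h1
    obtain ⟨b, hb⟩ := hnc x₀ hx₀ y₀ hy₀ hxy
    obtain ⟨k, hk⟩ := pow_eq_one_of_mem Q (mul_mem hz hx₀)
    obtain ⟨l, hl⟩ := pow_eq_one_of_mem Q hx₀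
    have := mul_mem (mem_pCore_of_class_pPower hk ha) (inv_mem (mem_pCore_of_class_pPower hl hb))
    rwa [mul_inv_cancel_right] at this
  have hQeq : (Q : Subgroup G) = Cfsg.pCore q G := le_antisymm hQO (PGroup.pCore_le_sylow Q)
  haveI hQn : (Q : Subgroup G).Normal := hQeq ▸ inferInstance
  -- elements of order prime to `q` centralize `Q`
  have hcent : ∀ g : G, ¬ q ∣ orderOf g → g ∈ centralizer ((Q : Subgroup G) : Set G) := by
    intro g hg
    refine Coprime.le_centralizer_of_trivial_on_frattini_quotient (A := Subgroup.zpowers g)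
      ?_ ?_ ?_ (Subgroup.mem_zpowers g)
    · rw [Subgroup.normalizer_eq_top]; exact le_top
    · rw [Nat.card_zpowers]
      obtain ⟨n, hn⟩ := IsPGroup.iff_card.1 (Q.2.to_subgroup (frattini (Q : Subgroup G)))
      rw [hn]
      exact ((hq.coprime_iff_not_dvd.2 hg).symm).pow_right n
    · intro c hc
      set Φ := frattini (Q : Subgroup G)
      let S : Subgroup (Q : Subgroup G) :=
        { carrier := {z | (⟨c * z * c⁻¹, hQn.conj_mem _ z.2 c⟩ : (Q : Subgroup G)) * z⁻¹ ∈ Φ}
          one_mem' := by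
            show _ * (1 : (Q : Subgroup G))⁻¹ ∈ Φ
            convert one_mem Φ
            exact Subtype.ext (by simp)
          mul_mem' := fun {a b} (ha : _ * a⁻¹ ∈ Φ) (hb : _ * b⁻¹ ∈ Φ) => by
            show _ * (a * b)⁻¹ ∈ Φ
            have hab := mul_mem ha ((inferInstance : Φ.Normal).conj_mem _ hb a)
            convert hab using 1
            exact Subtype.ext (by simp [mul_assoc])
          inv_mem' := fun {a} (ha : _ * a⁻¹ ∈ Φ) => by
            show _ * a⁻¹⁻¹ ∈ Φ
            have hab := (inferInstance : Φ.Normal).conj_mem _ (inv_mem ha) a⁻¹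
            convert hab using 1
            exact Subtype.ext (by simp [mul_assoc]) }
      have hnonc : ∀ z : (Q : Subgroup G), (∃ w : (Q : Subgroup G), ¬ Commute (z : G) w) → z ∈ S := by
        rintro z ⟨w, hw⟩
        obtain ⟨a, ha⟩ := hnc z z.2 w w.2 hw
        have hcop : (centralizer ({(z : G)} : Set G)).index.Coprime (Q : Subgroup G).index := by
          rw [ha]
          exact (hq.coprime_iff_not_dvd.2 Q.not_dvd_index).pow_left a
        obtain ⟨d, hd, u, hu, he⟩ := Coprime.mul_eq_univ_of_coprime hcop.symm c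
        show (⟨c * z * c⁻¹, hQn.conj_mem _ z.2 c⟩ : (Q : Subgroup G)) * z⁻¹ ∈ Φ
        have hmem : (⁅(⟨d, hd⟩ : (Q : Subgroup G)), z⁆ : (Q : Subgroup G)) ∈ Φ :=
          Coprime.commutator_le_frattini Q.2
            (Subgroup.commutator_mem_commutator (Subgroup.mem_top _) (Subgroup.mem_top _))
        convert hmem using 1
        refine Subtype.ext ?_
        show c * (z : G) * c⁻¹ * (z : G)⁻¹ = d * z * d⁻¹ * (z : G)⁻¹
        rw [he, show d * u * (z : G) * (d * u)⁻¹ = d * (u * z) * u⁻¹ * d⁻¹ by group,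
          Subgroup.mem_centralizer_singleton_iff.1 hu]
        group
      intro z hz
      have hzS : (⟨z, hz⟩ : (Q : Subgroup G)) ∈ S := by
        by_cases h : ∃ w : (Q : Subgroup G), ¬ Commute z w
        · exact hnonc ⟨z, hz⟩ h
        push Not at h
        have h1 : ¬ Commute (z * x₀) y₀ := fun h' => hxy (by
          have := ((h ⟨y₀, hy₀⟩).inv_left).mul_left h'
          rwa [inv_mul_cancel_left] at this)
        have h2 := mul_mem (hnonc ⟨z * x₀, mul_mem hz hx₀⟩ ⟨⟨y₀, hy₀⟩, h1⟩)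
          (inv_mem (hnonc ⟨x₀, hx₀⟩ ⟨⟨y₀, hy₀⟩, hxy⟩))
        convert h2 using 1
        exact Subtype.ext (mul_inv_cancel_right z x₀).symm
      exact ⟨_, hzS, rfl⟩
  obtain ⟨r, a, hr, ha⟩ := hB x hx
  by_cases ha0 : a = 0
  · exact ⟨0, by rw [ha, ha0, pow_zero, pow_zero]⟩
  refine ⟨a, ?_⟩
  rw [ha]
  congr 1
  by_contra hrq
  haveI := Fact.mk hr
  obtain ⟨R⟩ : Nonempty (Sylow r G) := inferInstance
  obtain ⟨g, hg⟩ := exists_conj_mem Q hx
  have hle : (R : Subgroup G) ≤ centralizer ({g * x * g⁻¹} : Set G) := by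
    intro y hy
    obtain ⟨m, hm⟩ := R.2 ⟨y, hy⟩
    have hy' : y ^ r ^ m = 1 := by simpa using congrArg Subtype.val hm
    refine Subgroup.mem_centralizer_singleton_iff.2
      (Subgroup.mem_centralizer_iff.1 (hcent y fun hd => hrq ?_) _ hg).symm
    exact ((Nat.prime_dvd_prime_iff_eq hq hr).1
      (hq.dvd_of_dvd_pow (hd.trans (orderOf_dvd_of_pow_eq_one hy')))).symm
  have h1 := Subgroup.index_dvd_of_le hle
  rw [index_centralizer_conj, ha] at h1
  exact R.not_dvd_index ((dvd_pow_self r ha0).trans h1)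

/-- The key step: two elements of an abelian Sylow subgroup with class sizes powers of different
primes, the product having class size a power of a prime other than the first one. -/
theorem not_pair (hB : IsQBaer G q) (Q : Sylow q G) (hab : IsMulCommutative (Q : Subgroup G))
    {x y : G} (hx : x ∈ (Q : Subgroup G)) (hy : y ∈ (Q : Subgroup G)) {r s t a b c : ℕ}
    (hr : r.Prime) (hs : s.Prime) (ht : t.Prime) (hrs : r ≠ s) (hrt : r ≠ t) (ha0 : a ≠ 0)
    (ha : (centralizer ({x} : Set G)).index = r ^ a)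
    (hb : (centralizer ({y} : Set G)).index = s ^ b)
    (hc : (centralizer ({x * y} : Set G)).index = t ^ c) : False := by
  classical
  haveI : (Cfsg.pPrimeCore q G).Normal :=
    haveI := Coprime.pPrimeCore_characteristic (G := G) q; inferInstance
  set K := Cfsg.pPrimeCore q G
  set f := QuotientGroup.mk' K
  have hf : Function.Surjective f := QuotientGroup.mk'_surjective K
  have hmap := map_sylow_eq_pCore hB Q
  set V := Cfsg.pCore q (G ⧸ K)
  haveI : V.Normal := Coprime.pCore_normal' q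
  haveI := hab
  haveI hVc : IsMulCommutative V := hmap ▸ Subgroup.map_isMulCommutative (H := (Q : Subgroup G)) f
  -- the group of operators
  have hker : V ≤ (MulAut.conjNormal : G ⧸ K →* MulAut V).ker := by
    intro v hv
    refine MonoidHom.mem_ker.2 (MulEquiv.ext fun w => Subtype.ext ?_)
    rw [MulAut.conjNormal_apply, MulAut.one_apply,
      show v * (w : G ⧸ K) = w * v from congrArg Subtype.val (mul_comm (⟨v, hv⟩ : V) w),
      mul_inv_cancel_right]
  set ψ : (G ⧸ K) ⧸ V →* MulAut V := QuotientGroup.lift V MulAut.conjNormal hker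
  let g := (QuotientGroup.mk' V).comp f
  have hg : Function.Surjective g := (QuotientGroup.mk'_surjective V).comp hf
  have hψ : ∀ (u : G) (w : V), ((ψ (g u) w : V) : G ⧸ K) = f u * w * (f u)⁻¹ := fun _ _ => rfl
  haveI : Fintype ((G ⧸ K) ⧸ V) := Fintype.ofFinite _
  have hcop : (Nat.card ((G ⧸ K) ⧸ V)).Coprime (Nat.card V) := by
    obtain ⟨n, hn⟩ := IsPGroup.iff_card.1 (Coprime.pCore_isPGroup (G := G ⧸ K) q)
    rw [hn]
    refine Nat.Coprime.pow_right n (Nat.Coprime.symm ((Fact.out : q.Prime).coprime_iff_not_dvd.2 ?_))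
    have := (Q.mapSurjective hf).not_dvd_index
    rwa [show ((Q.mapSurjective hf : Sylow q (G ⧸ K)) : Subgroup (G ⧸ K)) = V from hmap,
      Subgroup.index_eq_card] at this
  have hstab : ∀ z, z ∈ (Q : Subgroup G) → ∃ w : V, (w : G ⧸ K) = f z ∧
      (Orbit.stab ψ w).index ∣ (centralizer ({z} : Set G)).index := by
    intro z hz
    refine ⟨⟨f z, hmap ▸ Subgroup.mem_map_of_mem f hz⟩, rfl, ?_⟩
    rw [← Subgroup.index_comap_of_surjective _ hg]
    refine Subgroup.index_dvd_of_le fun u hu => ?_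
    refine Subtype.ext ?_
    rw [hψ]
    show f u * f z * (f u)⁻¹ = f z
    rw [← map_mul, Subgroup.mem_centralizer_singleton_iff.1 hu, map_mul, mul_inv_cancel_right]
  obtain ⟨wx, hwx, hdx⟩ := hstab x hx
  obtain ⟨wy, hwy, hdy⟩ := hstab y hy
  obtain ⟨wz, hwz, hdz⟩ := hstab _ (mul_mem hx hy)
  rw [ha] at hdx
  rw [hb] at hdy
  rw [hc] at hdz
  set A := Orbit.stab ψ wx with hA
  -- the norm over `A` of a point fixed by a complementary subgroup is invariant
  have hnorm : ∀ w : V, A.index.Coprime (Orbit.stab ψ w).index →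
      ∀ h, ψ h (∏ u : A, ψ (u : (G ⧸ K) ⧸ V) w) = ∏ u : A, ψ (u : (G ⧸ K) ⧸ V) w := by
    intro w hw h
    set F : A → V := fun u => ψ (u : (G ⧸ K) ⧸ V) w
    set O : Finset V := Finset.univ.image F
    have hO : ∀ k, ψ k w ∈ O := by
      intro k
      obtain ⟨u, hu, v, hv, rfl⟩ := Coprime.mul_eq_univ_of_coprime hw k
      refine Finset.mem_image.2 ⟨⟨u, hu⟩, Finset.mem_univ _, ?_⟩
      show ψ u w = ψ (u * v) w
      rw [map_mul, MulAut.mul_apply, Orbit.mem_stab.1 hv]
    set n := (Finset.univ.filter fun u : A => F u = w).card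
    have hfib : ∀ o ∈ O, (Finset.univ.filter fun u : A => F u = o).card = n := by
      intro o ho
      obtain ⟨u₀, -, rfl⟩ := Finset.mem_image.1 ho
      refine (Finset.card_equiv (Equiv.mulLeft u₀) fun u => ?_).symm
      simp only [Finset.mem_filter, Finset.mem_univ, true_and, F, Equiv.coe_mulLeft,
        Subgroup.coe_mul, map_mul, MulAut.mul_apply]
      exact ⟨fun e => by rw [e], fun e => (ψ (u₀ : (G ⧸ K) ⧸ V)).injective e⟩
    have e1 : (∏ u : A, F u) = (∏ o ∈ O, o) ^ n := by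
      rw [show (∏ u : A, F u) = ∏ u : A, id (F u) from rfl, Finset.prod_comp id F,
        ← Finset.prod_pow]
      exact Finset.prod_congr rfl fun o ho => by rw [hfib o ho]; rfl
    show ψ h (∏ u : A, F u) = ∏ u : A, F u
    rw [e1, map_pow, map_prod]
    congr 1
    refine Finset.prod_equiv (ψ h).toEquiv (fun o => ?_) fun _ _ => rfl
    have hinv : ∀ k, ∀ o ∈ O, ψ k o ∈ O := by
      intro k o ho
      obtain ⟨u, -, rfl⟩ := Finset.mem_image.1 ho
      show ψ k (ψ (u : (G ⧸ K) ⧸ V) w) ∈ O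
      rw [← MulAut.mul_apply, ← map_mul]
      exact hO _
    refine ⟨hinv h o, fun ho => ?_⟩
    have := hinv h⁻¹ _ ho
    rwa [show ψ h⁻¹ ((ψ h).toEquiv o) = o by
      show ψ h⁻¹ (ψ h o) = o
      rw [← MulAut.mul_apply, ← map_mul, inv_mul_cancel, map_one, MulAut.one_apply]] at this
  have hcopA : ∀ {p : ℕ}, p.Prime → r ≠ p → ∀ {d : ℕ} {I : ℕ}, I ∣ p ^ d → A.index.Coprime I :=
    fun hp hne _ _ hI => (((Nat.coprime_primes hr hp).2 hne).pow _ _).coprime_dvd_left hdx
      |>.coprime_dvd_right hI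
  have hxfix : ∀ h, ψ h wx = wx := by
    intro h
    have hz := hnorm wz (hcopA ht hrt hdz) h
    have hy' := hnorm wy (hcopA hs hrs hdy) h
    have hprod : (∏ u : A, ψ (u : (G ⧸ K) ⧸ V) wz) =
        wx ^ Nat.card A * ∏ u : A, ψ (u : (G ⧸ K) ⧸ V) wy := by
      have hw : wz = wx * wy := Subtype.ext (by rw [Subgroup.coe_mul, hwx, hwy, hwz, map_mul])
      rw [hw]
      simp only [map_mul, Finset.prod_mul_distrib]
      congr 1
      rw [Finset.prod_congr rfl fun u _ => Orbit.mem_stab.1 u.2, Finset.prod_const,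
        Finset.card_univ, Nat.card_eq_fintype_card]
    rw [hprod, map_mul, hy', mul_left_inj, map_pow] at hz
    refine mul_inv_eq_one.1 (Orbit.eq_one_of_coprime_pow (m := Nat.card A) ?_
      (hcop.coprime_dvd_left (Subgroup.card_subgroup_dvd_card A)))
    rw [mul_pow, hz, inv_pow, mul_inv_cancel]
  -- back in `G`
  set C := centralizer ({x} : Set G) with hC
  haveI : ((Q : Subgroup G) ⊔ K).Normal := by
    rw [show (Q : Subgroup G) ⊔ K = V.comap f by
      rw [← hmap, Subgroup.comap_map_eq, QuotientGroup.ker_mk']]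
    exact Subgroup.normal_comap _
  set M := (Q : Subgroup G) ⊔ K
  have hQM : (Q : Subgroup G) ≤ M := le_sup_left
  have hfrat := Sylow.normalizer_sup_eq_top' (N := M) Q hQM
  have hN : Subgroup.normalizer ((Q : Subgroup G) : Set G) ≤ C := by
    intro n hn
    have h1 : (ψ (g n) wx : V) = wx := hxfix _
    have h2 : f n * f x * (f n)⁻¹ = f x := by rw [← hwx, ← hψ, h1]
    have h3 := eq_one_of_mem_both Q (g := n * x * n⁻¹ * x⁻¹)
      (mul_mem ((Subgroup.mem_normalizer_iff.1 hn x).1 hx) (inv_mem hx))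
      ((QuotientGroup.eq_one_iff _).1 (show f (n * x * n⁻¹ * x⁻¹) = 1 by
        rw [map_mul, map_mul, map_mul, map_inv, map_inv, h2, mul_inv_cancel]))
    exact Subgroup.mem_centralizer_singleton_iff.2 (mul_inv_eq_iff_eq_mul.1 (mul_inv_eq_one.1 h3))
  have hCK : C ⊔ K = ⊤ := by
    rw [eq_top_iff, ← hfrat]
    exact sup_le (hN.trans le_sup_left)
      (sup_le ((Subgroup.le_normalizer.trans hN).trans le_sup_left) le_sup_right)
  have hrel : C.relIndex K = r ^ a := by
    rw [← relIndex_sup_of_normal C K, sup_comm, hCK, Subgroup.relIndex_top_right, hC, ha]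
  obtain ⟨k, hk⟩ := pow_eq_one_of_mem Q hx
  obtain ⟨l, hl⟩ := pow_eq_one_of_mem Q hy
  have hle : (centralizer ({x * y} : Set G)) ⊓ K ≤ C ⊓ K := by
    rintro n ⟨hn, hnK⟩
    refine ⟨?_, hnK⟩
    have e : n * (x * y) * n⁻¹ = x * y := by
      rw [Subgroup.mem_centralizer_singleton_iff.1 hn, mul_inv_cancel_right]
    have h1 := commutator_mem_pCore hr hk ha hnK
    have h2 := commutator_mem_pCore hs hl hb hnK
    haveI := Coprime.pCore_normal' (G := G) s
    have h3 : n * x * n⁻¹ * x⁻¹ ∈ Cfsg.pCore s G := by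
      have h4 := (inferInstance : (Cfsg.pCore s G).Normal).conj_mem _ (inv_mem h2) x
      have h5 : n * x * n⁻¹ * x⁻¹ = x * (n * y * n⁻¹ * y⁻¹)⁻¹ * x⁻¹ := by
        calc n * x * n⁻¹ * x⁻¹ = n * (x * y) * n⁻¹ * (n * y⁻¹ * n⁻¹) * x⁻¹ := by group
          _ = _ := by rw [e]; group
      rwa [h5]
    haveI := Fact.mk hr
    haveI := Fact.mk hs
    obtain ⟨i, hi⟩ := Coprime.pCore_isPGroup (G := G) r ⟨_, h1⟩
    obtain ⟨j, hj⟩ := Coprime.pCore_isPGroup (G := G) s ⟨_, h3⟩
    have h6 := orderOf_eq_one_iff.1 (Nat.eq_one_of_dvd_coprimes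
      (((Nat.coprime_primes hr hs).2 hrs).pow i j)
      (orderOf_dvd_of_pow_eq_one (by simpa using congrArg Subtype.val hi))
      (orderOf_dvd_of_pow_eq_one (by simpa using congrArg Subtype.val hj)))
    exact Subgroup.mem_centralizer_singleton_iff.2 (mul_inv_eq_iff_eq_mul.1 (mul_inv_eq_one.1 h6))
  have hdvd : r ^ a ∣ t ^ c := by
    rw [← hrel, ← hc, ← Subgroup.inf_relIndex_right C K]
    refine (Subgroup.relIndex_dvd_of_le_left K hle).trans ?_
    rw [Subgroup.inf_relIndex_right]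
    exact relIndex_dvd_index_of_normal_right _ K
  exact hrt ((Nat.prime_dvd_prime_iff_eq hr ht).1
    (hr.dvd_of_dvd_pow ((dvd_pow_self r ha0).trans hdvd)))

/-- All non-trivial class sizes of `q`-elements are powers of a single prime. -/
theorem single_prime (hB : IsQBaer G q) (Q : Sylow q G) {x₀ : G} {p a₀ : ℕ}
    (hx₀ : x₀ ∈ (Q : Subgroup G)) (hab : IsMulCommutative (Q : Subgroup G)) (hp : p.Prime)
    (ha₀ : a₀ ≠ 0) (h₀ : (centralizer ({x₀} : Set G)).index = p ^ a₀) (x : G)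
    (hx : ∃ k : ℕ, orderOf x = q ^ k) : ∃ a : ℕ, (centralizer ({x} : Set G)).index = p ^ a := by
  obtain ⟨g, hg⟩ := exists_conj_mem Q hx
  rw [← index_centralizer_conj g x]
  obtain ⟨s, b, hs, hb⟩ := class_of_mem hB Q hg
  by_cases hb0 : b = 0
  · exact ⟨0, by rw [hb, hb0, pow_zero, pow_zero]⟩
  by_cases hsp : s = p
  · exact ⟨b, hsp ▸ hb⟩
  exfalso
  obtain ⟨t, c, ht, hc⟩ := class_of_mem hB Q (mul_mem hx₀ hg)
  by_cases hpt : p = t
  · haveI := hab
    have hcomm : x₀ * (g * x * g⁻¹) = g * x * g⁻¹ * x₀ :=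
      congrArg Subtype.val (mul_comm (⟨x₀, hx₀⟩ : (Q : Subgroup G)) ⟨g * x * g⁻¹, hg⟩)
    rw [hcomm] at hc
    exact not_pair hB Q hab hg hx₀ hs hp ht hsp (fun e => hsp (e.trans hpt.symm)) hb0 hb h₀ hc
  · exact not_pair hB Q hab hx₀ hg hp hs ht (Ne.symm hsp) hpt ha₀ h₀ hb hc

/-- The centralizer of the normal abelian Sylow subgroup modulo `O_{q'}`. -/
theorem centralizer_le_pCore (hO : Cfsg.pPrimeCore q G = ⊥) (Q : Sylow q G)
    (hQ : (Q : Subgroup G) = Cfsg.pCore q G) :
    centralizer ((Cfsg.pCore q G : Subgroup G) : Set G) ≤ Cfsg.pCore q G := by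
  haveI := Coprime.pCore_normal' (G := G) q
  set C := centralizer ((Cfsg.pCore q G : Subgroup G) : Set G)
  haveI hQn : (Q : Subgroup G).Normal := hQ ▸ inferInstance
  have hqelt : ∀ z : G, (∃ k, orderOf z = q ^ k) → z ∈ Cfsg.pCore q G := by
    intro z hz
    obtain ⟨g, hg⟩ := exists_conj_mem Q hz
    rw [← hQ]
    have := hQn.conj_mem _ hg g⁻¹
    simpa [mul_assoc] using this
  obtain ⟨P, N, hN, hPN⟩ := hasNormalPComplement_of_small_index q (G := C) fun z hz => ⟨0, by
    rw [pow_zero, Subgroup.index_eq_one, eq_top_iff]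
    intro w _
    refine Subgroup.mem_centralizer_singleton_iff.2 (Subtype.ext ?_)
    have hzO : (z : G) ∈ Cfsg.pCore q G := hqelt _ (by
      rw [Subgroup.orderOf_coe]
      rcases hz with h | ⟨rfl, h⟩
      · exact ⟨1, by rw [h, pow_one]⟩
      · exact ⟨2, h⟩)
    exact (Subgroup.mem_centralizer_iff.1 w.2 _ hzO).symm⟩
  have hNq : (Nat.card N).Coprime q := by
    rw [← hPN.index_eq_card]
    exact ((Fact.out : q.Prime).coprime_iff_not_dvd.2 P.not_dvd_index).symm
  have hNbot : N = ⊥ := by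
    haveI := Coprime.pPrimeCore_characteristic (G := C) q
    haveI := Coprime.map_subtype_normal_of_characteristic C (Cfsg.pPrimeCore q C)
    have h1 : (Cfsg.pPrimeCore q C).map C.subtype ≤ Cfsg.pPrimeCore q G :=
      Coprime.le_pPrimeCore (by
        rw [Subgroup.card_map_of_injective C.subtype_injective]
        exact Coprime.pPrimeCore_coprime (Fact.out : q.Prime))
    rw [hO, le_bot_iff, Subgroup.map_eq_bot_iff, Subgroup.ker_subtype, le_bot_iff] at h1
    exact le_bot_iff.1 (h1 ▸ Coprime.le_pPrimeCore hNq)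
  rw [hNbot, Subgroup.isComplement'_bot_left] at hPN
  intro z hz
  obtain ⟨k, hk⟩ := P.2 ⟨⟨z, hz⟩, hPN ▸ Subgroup.mem_top _⟩
  have hk' : z ^ q ^ k = 1 := by
    simpa using congrArg (fun w : (P : Subgroup C) => ((w : C) : G)) hk
  obtain ⟨m, -, hm⟩ := (Nat.dvd_prime_pow Fact.out).1 (orderOf_dvd_of_pow_eq_one hk')
  exact hqelt z ⟨m, hm⟩

/-- With all class sizes powers of `p ≠ q` the quotient by `O_{q'}` is solvable. -/
theorem isSolvable_quotient (hB : IsQBaer G q) (Q : Sylow q G)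
    (hab : IsMulCommutative (Q : Subgroup G)) {p : ℕ} (hp : p.Prime)
    (hall : ∀ x : G, (∃ k : ℕ, orderOf x = q ^ k) →
      ∃ a : ℕ, (centralizer ({x} : Set G)).index = p ^ a)
    [(Cfsg.pPrimeCore q G).Normal] : Group.IsSolvable (G ⧸ Cfsg.pPrimeCore q G) := by
  set K := Cfsg.pPrimeCore q G
  set f := QuotientGroup.mk' K
  have hf : Function.Surjective f := QuotientGroup.mk'_surjective K
  have hmap := map_sylow_eq_pCore hB Q
  set V := Cfsg.pCore q (G ⧸ K)
  haveI : V.Normal := Coprime.pCore_normal' q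
  haveI := hab
  haveI hVc : IsMulCommutative V := hmap ▸ Subgroup.map_isMulCommutative (H := (Q : Subgroup G)) f
  have hVO := centralizer_le_pCore (G := G ⧸ K)
    (Coprime.pPrimeCore_quotient_eq_bot (Fact.out : q.Prime)) (Q.mapSurjective hf) hmap
  have hker : V ≤ (MulAut.conjNormal : G ⧸ K →* MulAut V).ker := by
    intro v hv
    refine MonoidHom.mem_ker.2 (MulEquiv.ext fun w => Subtype.ext ?_)
    rw [MulAut.conjNormal_apply, MulAut.one_apply,
      show v * (w : G ⧸ K) = w * v from congrArg Subtype.val (mul_comm (⟨v, hv⟩ : V) w),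
      mul_inv_cancel_right]
  set ψ : (G ⧸ K) ⧸ V →* MulAut V := QuotientGroup.lift V MulAut.conjNormal hker
  have hcop : (Nat.card ((G ⧸ K) ⧸ V)).Coprime (Nat.card V) := by
    obtain ⟨n, hn⟩ := IsPGroup.iff_card.1 (Coprime.pCore_isPGroup (G := G ⧸ K) q)
    rw [hn]
    refine Nat.Coprime.pow_right n (Nat.Coprime.symm ((Fact.out : q.Prime).coprime_iff_not_dvd.2 ?_))
    have := (Q.mapSurjective hf).not_dvd_index
    rwa [show ((Q.mapSurjective hf : Sylow q (G ⧸ K)) : Subgroup (G ⧸ K)) = V from hmap,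
      Subgroup.index_eq_card] at this
  have horb : ∀ w : V, ∃ a : ℕ, (Orbit.stab ψ w).index = p ^ a := by
    rintro ⟨_, hw⟩
    obtain ⟨z, hz, rfl⟩ := hmap.ge hw
    obtain ⟨k, hk⟩ := pow_eq_one_of_mem Q hz
    obtain ⟨m, -, hm⟩ := (Nat.dvd_prime_pow Fact.out).1 (orderOf_dvd_of_pow_eq_one hk)
    obtain ⟨a, ha⟩ := hall z ⟨m, hm⟩
    have hd : (Orbit.stab ψ ⟨f z, hw⟩).index ∣ p ^ a := by
      have hgs : Function.Surjective ((QuotientGroup.mk' V).comp f) :=
        (QuotientGroup.mk'_surjective V).comp hf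
      rw [← ha, ← Subgroup.index_comap_of_surjective _ hgs]
      refine Subgroup.index_dvd_of_le fun u hu => Subtype.ext ?_
      show f u * f z * (f u)⁻¹ = f z
      rw [← map_mul, Subgroup.mem_centralizer_singleton_iff.1 hu, map_mul, mul_inv_cancel_right]
    obtain ⟨b, -, hb⟩ := (Nat.dvd_prime_pow hp).1 hd
    exact ⟨b, hb⟩
  haveI := Orbit.isSolvable_range_of_primePow_orbits hp ψ hcop horb
  have hinj : Function.Injective ψ := by
    rw [injective_iff_map_eq_one]
    intro h hh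
    obtain ⟨u, rfl⟩ := QuotientGroup.mk_surjective h
    refine (QuotientGroup.eq_one_iff u).2 (hVO (Subgroup.mem_centralizer_iff.2 fun v hv => ?_))
    have h1 := congrArg Subtype.val (DFunLike.congr_fun hh (⟨v, hv⟩ : V))
    exact (mul_inv_eq_iff_eq_mul.1 h1).symm
  haveI : Group.IsSolvable ((G ⧸ K) ⧸ V) := Group.isSolvable_of_isSolvable_injective
    (f := ψ.rangeRestrict) fun a b h => hinj (congrArg Subtype.val h)
  haveI : Group.IsSolvable V := Group.isSolvable_of_comm fun a b => mul_comm a b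
  exact Group.isSolvable_of_ker_le_range V.subtype (QuotientGroup.mk' V) (by simp)

/-- `O_p ⊔ Q` is normal when all class sizes are powers of `p`. -/
theorem normal_pCore_sup (Q : Sylow q G) {p : ℕ} (hp : p.Prime)
    (hall : ∀ x : G, (∃ k : ℕ, orderOf x = q ^ k) →
      ∃ a : ℕ, (centralizer ({x} : Set G)).index = p ^ a) :
    (Cfsg.pCore p G ⊔ (Q : Subgroup G)).Normal := by
  haveI := Coprime.pCore_normal' (G := G) p
  set f := QuotientGroup.mk' (Cfsg.pCore p G)
  have hf : Function.Surjective f := QuotientGroup.mk'_surjective _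
  have hmap : (Q : Subgroup G).map f = Cfsg.pCore q (G ⧸ Cfsg.pCore p G) := by
    refine le_antisymm ?_ (PGroup.pCore_le_sylow (Q.mapSurjective hf))
    rintro _ ⟨x, hx, rfl⟩
    obtain ⟨k, hk⟩ := pow_eq_one_of_mem Q hx
    obtain ⟨m, -, hm⟩ := (Nat.dvd_prime_pow Fact.out).1 (orderOf_dvd_of_pow_eq_one hk)
    obtain ⟨a, ha⟩ := hall x ⟨m, hm⟩
    exact mk_mem_pCore hp hk ha
  rw [sup_comm, show (Q : Subgroup G) ⊔ Cfsg.pCore p G =
    (Cfsg.pCore q (G ⧸ Cfsg.pCore p G)).comap f by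
      rw [← hmap, Subgroup.comap_map_eq, QuotientGroup.ker_mk']]
  haveI := Coprime.pCore_normal' (G := G ⧸ Cfsg.pCore p G) q
  exact Subgroup.normal_comap _

/-- **The structure of `q`-Baer groups.** -/
theorem structure_theorem (hB : IsQBaer G q) (Q : Sylow q G) :
    (∃ K L : Subgroup G, K.Normal ∧ L.Normal ∧ K ≤ L ∧ (Nat.card K).Coprime q ∧
      (∃ m : ℕ, K.relIndex L = q ^ m) ∧ L.index.Coprime q) ∧
    ∃ p : ℕ, p.Prime ∧ (∀ x : G, (∃ k : ℕ, orderOf x = q ^ k) →
        ∃ a : ℕ, (centralizer ({x} : Set G)).index = p ^ a) ∧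
      (p = q → (Q : Subgroup G).Normal ∧
        ∃ N : Subgroup G, N.Normal ∧ N.IsComplement' (Q : Subgroup G)) ∧
      (p ≠ q → IsMulCommutative (Q : Subgroup G) ∧
        (Cfsg.pCore p G ⊔ (Q : Subgroup G)).Normal ∧
        ∀ _h : (Cfsg.pPrimeCore q G).Normal, Group.IsSolvable (G ⧸ Cfsg.pPrimeCore q G)) := by
  classical
  have hq : q.Prime := Fact.out
  haveI : (Cfsg.pPrimeCore q G).Normal :=
    haveI := Coprime.pPrimeCore_characteristic (G := G) q; inferInstance
  constructor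
  · set K := Cfsg.pPrimeCore q G
    set f := QuotientGroup.mk' K
    have hf : Function.Surjective f := QuotientGroup.mk'_surjective K
    haveI : (Cfsg.pCore q (G ⧸ K)).Normal := Coprime.pCore_normal' q
    refine ⟨K, (Cfsg.pCore q (G ⧸ K)).comap f, inferInstance, Subgroup.normal_comap _, ?_,
      Coprime.pPrimeCore_coprime hq, ?_, ?_⟩
    · intro n hn
      rw [Subgroup.mem_comap, show f n = 1 from (QuotientGroup.eq_one_iff n).2 hn]
      exact one_mem _
    · obtain ⟨m, hm⟩ := IsPGroup.iff_card.1 (Coprime.pCore_isPGroup (G := G ⧸ K) q)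
      refine ⟨m, ?_⟩
      rw [← hm]
      have e : K = (⊥ : Subgroup (G ⧸ K)).comap f := by
        rw [MonoidHom.comap_bot, QuotientGroup.ker_mk']
      refine (congrArg (fun X : Subgroup G =>
        X.relIndex ((Cfsg.pCore q (G ⧸ K)).comap f)) e).trans ?_
      show ((⊥ : Subgroup (G ⧸ K)).comap f).relIndex ((Cfsg.pCore q (G ⧸ K)).comap f) = _
      rw [Subgroup.relIndex_comap, Subgroup.map_comap_eq_self_of_surjective hf,
        Subgroup.relIndex_bot_left]
    · rw [Subgroup.index_comap_of_surjective _ hf, ← map_sylow_eq_pCore hB Q]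
      exact (hq.coprime_iff_not_dvd.2 (Q.mapSurjective hf).not_dvd_index).symm
  by_cases hall : ∀ x : G, (∃ k : ℕ, orderOf x = q ^ k) →
      ∃ a : ℕ, (centralizer ({x} : Set G)).index = q ^ a
  · refine ⟨q, hq, hall, fun _ => ?_, fun h => absurd rfl h⟩
    haveI := Coprime.pCore_normal' (G := G) q
    have hQ : (Q : Subgroup G) = Cfsg.pCore q G := by
      refine le_antisymm (fun x hx => ?_) (PGroup.pCore_le_sylow Q)
      obtain ⟨k, hk⟩ := pow_eq_one_of_mem Q hx
      obtain ⟨m, -, hm⟩ := (Nat.dvd_prime_pow hq).1 (orderOf_dvd_of_pow_eq_one hk)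
      obtain ⟨a, ha⟩ := hall x ⟨m, hm⟩
      exact mem_pCore_of_class_pPower hk ha
    have hn : (Q : Subgroup G).Normal := hQ ▸ inferInstance
    refine ⟨hn, ?_⟩
    obtain ⟨P, N, hN, hPN⟩ := hasNormalPComplement_of_small_index q (G := G) fun z hz => hall z (by
      rcases hz with h | ⟨rfl, h⟩
      · exact ⟨1, by rw [h, pow_one]⟩
      · exact ⟨2, h⟩)
    haveI := Sylow.unique_of_normal Q hn
    exact ⟨N, hN, (Subsingleton.elim P Q : P = Q) ▸ hPN⟩
  have hab : IsMulCommutative (Q : Subgroup G) := by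
    by_contra hna
    exact hall (qPower_of_nonabelian hB Q hna)
  push Not at hall
  obtain ⟨x₁, hx₁, hx₁'⟩ := hall
  obtain ⟨g, hg⟩ := exists_conj_mem Q hx₁
  obtain ⟨p, a, hp, ha⟩ := class_of_mem hB Q hg
  have hpq : p ≠ q := fun h => hx₁' a (by rw [← h, ← ha, index_centralizer_conj])
  have ha0 : a ≠ 0 := fun h => hx₁' 0 (by
    rw [← index_centralizer_conj g, ha, h, pow_zero, pow_zero])
  have hsingle := single_prime hB Q hg hab hp ha0 ha
  exact ⟨p, hp, hsingle, fun h => absurd h hpq, fun _ => ⟨hab, normal_pCore_sup Q hp hsingle,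
    fun _ => isSolvable_quotient hB Q hab hp hsingle⟩⟩

end CfsgLib.PGroup.QBaer
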