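import Cfsg.Agent.Lib.PGroup.SmallElementsIndex
import Mathlib.GroupTheory.SemidirectProduct

/-!
Automorphisms of `p`-groups fixing the elements of order `p`, and of order 4 for `p = 2`.
-/

set_option autoImplicit false

namespace CfsgLib.PGroup

variable {U : Type*} [Group U] [Finite U] {p : ℕ} [Fact p.Prime]

theorem mulAut_eq_one_of_fix_smallExp (hU : IsPGroup p U) (a : MulAut U)
    (ha : ¬ p ∣ orderOf a) (h : ∀ x : U, x ^ smallExp p = 1 → a x = x) : a = 1 := by
  have : Finite (MulAut U) := Finite.of_injective (fun f : MulAut U => (f : U → U))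
    DFunLike.coe_injective
  let φ : MulAut U →* MulAut U := MonoidHom.id _
  let Q : Subgroup (SemidirectProduct U (MulAut U) φ) := SemidirectProduct.inl.range
  have hQ : IsPGroup p Q :=
    hU.of_surjective SemidirectProduct.inl.rangeRestrict (MonoidHom.rangeRestrict_surjective _)
  have hn : Q.Normal := by
    show SemidirectProduct.inl.range.Normal
    rw [SemidirectProduct.range_inl_eq_ker_rightHom]
    infer_instance
  have hfin : Finite (SemidirectProduct U (MulAut U) φ) :=
    Finite.of_equiv _ SemidirectProduct.equivProd.symm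
  have hcomm := commute_of_fix_smallExp hQ (g := SemidirectProduct.inr a)
    (by rw [Subgroup.normalizer_eq_top]; exact Subgroup.mem_top _)
    (by rwa [orderOf_injective _ SemidirectProduct.inr_injective a])
    (by
      rintro _ ⟨x, rfl⟩ hx
      rw [← map_pow, ← map_one (SemidirectProduct.inl (φ := φ))] at hx
      have h1 := h x (SemidirectProduct.inl_injective hx)
      rw [commute_iff_eq, ← mul_inv_eq_iff_eq_mul, ← map_inv, ← SemidirectProduct.inl_aut]
      exact congrArg _ h1)
  ext x
  have h2 : Commute (SemidirectProduct.inr a) (SemidirectProduct.inl (φ := φ) x) :=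
    (Subgroup.mem_centralizer_iff.1 hcomm _ ⟨x, rfl⟩).symm
  rw [commute_iff_eq, ← mul_inv_eq_iff_eq_mul, ← map_inv, ← SemidirectProduct.inl_aut] at h2
  exact SemidirectProduct.inl_injective h2

/-- A coprime automorphism fixing the small elements of a critical subgroup is trivial. -/
theorem eq_one_of_fix_small_critical (hU : IsPGroup p U) {C : Subgroup U}
    (hC : CfsgLib.CFun.CriticalLike p C) (hcen : Subgroup.centralizer (C : Set U) ≤ C)
    (θ : MulAut U) (hθ : ¬ p ∣ orderOf θ)
    (h : ∀ x ∈ C, x ^ smallExp p = 1 → θ x = x) : θ = 1 := by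
  obtain ⟨hchar, hpow, hcc, hPC⟩ := hC
  haveI := hchar
  have hp := (Fact.out : p.Prime)
  have hn : θ ^ orderOf θ = 1 := pow_orderOf_eq_one θ
  have hZfix : ∀ z ∈ CfsgLib.CFun.cen C, θ z = z := by
    suffices key : ∀ (k : ℕ), ∀ z ∈ CfsgLib.CFun.cen C, z ^ p ^ k = 1 → θ z = z by
      intro z hz
      obtain ⟨k, hk⟩ := hU z
      exact key k z hz hk
    intro k
    induction k with
    | zero => intro z _ hz; rw [pow_zero, pow_one] at hz; rw [hz, map_one]
    | succ k ih =>
      intro z hz hzk
      have h1 := ih (z ^ p) (pow_mem hz p) (by rw [← pow_mul, ← pow_succ']; exact hzk)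
      have hθz : θ z ∈ C := CfsgLib.CFun.mem_of_map_conj θ hz.1
      have hcm : Commute z⁻¹ (θ z) :=
        (show Commute (θ z) z from Subgroup.mem_centralizer_iff.1 hz.2 (θ z) hθz).symm.inv_left
      have hwp : (z⁻¹ * θ z) ^ p = 1 := by
        rw [hcm.mul_pow, ← map_pow, h1, inv_pow, inv_mul_cancel]
      have hwfix : θ (z⁻¹ * θ z) = z⁻¹ * θ z := by
        refine h _ (C.mul_mem (C.inv_mem hz.1) hθz) ?_
        obtain ⟨c, hc⟩ := smallExp_dvd p
        rw [hc, pow_mul, hwp, one_pow]
      have := eq_one_of_fixed_iterate (φ := θ) (v := z) hp hU hn hθ (w := z⁻¹ * θ z) (by group)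
        hwfix
      exact (inv_mul_eq_one.1 this).symm
  have hCfix : ∀ c ∈ C, θ c = c := by
    intro c hc
    have hθc : θ c ∈ C := CfsgLib.CFun.mem_of_map_conj θ hc
    have hce : c ^ smallExp p ∈ CfsgLib.CFun.cen C := by
      obtain ⟨d, hd⟩ := smallExp_dvd p
      rw [hd, pow_mul]; exact pow_mem (hpow c hc) d
    have h1 := hZfix _ hce
    have hw : (c⁻¹ * θ c) ^ smallExp p = 1 := by
      rw [mul_pow_of_mem hpow hcc (inv_mem hc) hθc (dvd_choose_smallExp hp), ← map_pow, h1,
        inv_pow, inv_mul_cancel]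
    have := eq_one_of_fixed_iterate (φ := θ) (v := c) hp hU hn hθ (w := c⁻¹ * θ c) (by group)
      (h _ (C.mul_mem (C.inv_mem hc) hθc) hw)
    exact (inv_mul_eq_one.1 this).symm
  exact CfsgLib.CFun.eq_one_of_fixes_critical hU (hPC.trans inf_le_left) hcen θ
    ((hp.coprime_iff_not_dvd.2 hθ).symm) hCfix

end CfsgLib.PGroup
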