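import Cfsg.Agent.Lib.PGroup.Measure
import Cfsg.Agent.S3007

/-!
# A minimal centrally large subgroup normalized by abelian generators

A maximal abelian member of the Chermak-Delgado lattice is found that is normalized by every
abelian subgroup permuting with all abelian members (Glauberman).
-/

set_option autoImplicit false
set_option linter.unusedSectionVars false

open Subgroup
open scoped commutatorElement Pointwise

namespace CfsgLib.CDLat

variable {G : Type*} [Group G]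

/-- An abelian member of the lattice of largest measure. -/
def IsIso (B : Subgroup G) : Prop :=
  Cfsg.IsCentralizerLarge B ∧ B ≤ centralizer (B : Set G)

/-- A maximal abelian member. -/
def IsTopIso (B : Subgroup G) : Prop :=
  IsIso B ∧ ∀ B' : Subgroup G, IsIso B' → B ≤ B' → B' = B

/-- conjugate subgroup -/
abbrev cj (a : G) (X : Subgroup G) : Subgroup G := X.map (MulAut.conj a).toMonoidHom

/-- abelian subgroups permuting with all abelian members -/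
def IsPermuting (A : Subgroup G) : Prop :=
  A ≤ centralizer (A : Set G) ∧
    ∀ K : Subgroup G, IsIso K → ∀ a ∈ A, ∀ k ∈ K, ∃ k' ∈ K, ∃ α ∈ A, a * k * a⁻¹ = k' * α

theorem cj_mem_iff {a x : G} {X : Subgroup G} : x ∈ cj a X ↔ a⁻¹ * x * a ∈ X := by
  rw [mem_map_equiv, MulAut.conj_symm_apply]

theorem cj_cj (a b : G) (X : Subgroup G) : cj a (cj b X) = cj (a * b) X := by
  ext x
  rw [cj_mem_iff, cj_mem_iff, cj_mem_iff]
  constructor <;> intro h <;> simpa [mul_assoc] using h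

theorem cj_eq_iff {a : G} {X : Subgroup G} : cj a X = X ↔ a ∈ normalizer (X : Set G) := by
  constructor
  · intro h
    refine mem_normalizer_iff.2 fun x => ?_
    conv_rhs => rw [← h]
    rw [cj_mem_iff, show a⁻¹ * (a * x * a⁻¹) * a = x by group]
  · intro h
    ext x
    rw [cj_mem_iff]
    exact ⟨fun hx => by simpa [mul_assoc] using (mem_normalizer_iff.1 h _).1 hx,
      fun hx => (mem_normalizer_iff.1 h _).2 (by simpa [mul_assoc] using hx)⟩

variable [Finite G]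

theorem card_cj (a : G) (X : Subgroup G) : Nat.card (cj a X) = Nat.card X :=
  card_map_of_injective (MulAut.conj a).injective

theorem isIso_cj (a : G) {B : Subgroup G} (h : IsIso B) : IsIso (cj a B) := by
  refine ⟨large_iff.2 ?_, ?_⟩
  · rw [measure, centralizer_map_conj, card_cj, card_cj]
    exact (large_iff.1 h.1)
  · rw [centralizer_map_conj]
    exact map_mono h.2

theorem isTopIso_cj (a : G) {B : Subgroup G} (h : IsTopIso B) : IsTopIso (cj a B) := by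
  refine ⟨isIso_cj a h.1, fun B' hB' hle => ?_⟩
  have h1 := h.2 _ (isIso_cj a⁻¹ hB') (fun x hx => cj_mem_iff.2 (by
    rw [inv_inv]; exact hle ⟨x, hx, rfl⟩))
  rw [← h1, cj_cj, mul_inv_cancel]
  ext x
  simp [cj_mem_iff]

theorem isIso_sup {K L : Subgroup G} (hK : IsIso K) (hL : IsIso L)
    (h : K ≤ centralizer (L : Set G)) : IsIso (K ⊔ L) := by
  refine ⟨(large_pair hK.1 hL.1).2.1, ?_⟩
  rw [centralizer_sup]
  exact le_inf (sup_le hK.2 (le_centralizer_iff.1 h)) (sup_le h hL.2)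

theorem IsTopIso.inf_centralizer_le {B B' : Subgroup G} (hB : IsTopIso B) (hB' : IsTopIso B') :
    B ⊓ centralizer (B' : Set G) ≤ B' := by
  have h1 : IsIso (B ⊓ centralizer (B' : Set G)) :=
    ⟨(large_pair hB.1.1 (centralizer_large hB'.1.1).1).2.2.1,
      inf_le_left.trans (hB.1.2.trans (centralizer_le (inf_le_left : B ⊓ _ ≤ B)))⟩
  exact (le_sup_left.trans (hB'.2 _ (isIso_sup h1 hB'.1 inf_le_right) le_sup_right).le)

theorem IsTopIso.mcl {B : Subgroup G} (h : IsTopIso B) :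
    Cfsg.IsMinimalCentrallyLarge (centralizer (B : Set G)) := by
  obtain ⟨hC, hBB⟩ := centralizer_large h.1.1
  refine ⟨cl_iff.2 ⟨hC, hBB.ge.trans h.1.2⟩, fun R hR hRcl => ?_⟩
  obtain ⟨hRl, hRc⟩ := cl_iff.1 hRcl
  obtain ⟨hCR, hRR⟩ := centralizer_large hRl
  have hiso : IsIso (centralizer (R : Set G)) := ⟨hCR, hRc.trans hRR.le⟩
  have := h.2 _ hiso (hBB.le.trans (centralizer_le hR))
  rw [hRR, this]

theorem isTopIso_centralizer {Q : Subgroup G} (h : Cfsg.IsMinimalCentrallyLarge Q) :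
    IsTopIso (centralizer (Q : Set G)) := by
  obtain ⟨hQl, hQc⟩ := cl_iff.1 h.1
  obtain ⟨hC, hQQ⟩ := centralizer_large hQl
  refine ⟨⟨hC, hQc.trans hQQ.le⟩, fun B' hB' hle => ?_⟩
  obtain ⟨hC', hBB'⟩ := centralizer_large hB'.1
  have hle' : centralizer (B' : Set G) ≤ Q := (centralizer_le hle).trans hQQ.ge
  have := h.2 _ hle' (cl_iff.2 ⟨hC', hBB'.ge.trans hB'.2⟩)
  rw [← this, ← hBB']

theorem exists_topIso_ge {B : Subgroup G} (h : IsIso B) : ∃ B', B ≤ B' ∧ IsTopIso B' := by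
  obtain ⟨M, ⟨hBM, hM⟩, hmax⟩ := Set.Finite.exists_maximal
    (s := {M : Subgroup G | B ≤ M ∧ IsIso M}) (Set.toFinite _) ⟨B, le_rfl, h⟩
  exact ⟨M, hBM, hM, fun B' hB' hle => le_antisymm (hmax ⟨hBM.trans hle, hB'⟩ hle) hle⟩

theorem topIso_card_eq {p : ℕ} [Fact p.Prime] (hG : IsPGroup p G) {B B' : Subgroup G}
    (hB : IsTopIso B) (hB' : IsTopIso B') : Nat.card B = Nat.card B' := by
  have h := (Cfsg.Agent.S3007.result G hG _ _ hB.mcl hB'.mcl).2.2.2.1
  have e : ∀ X : Subgroup G, IsTopIso X → centralizer (X : Set G) ⊓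
      centralizer ((centralizer (X : Set G) : Subgroup G) : Set G) = X := fun X hX => by
    rw [← (centralizer_large hX.1.1).2, inf_eq_right.2 hX.1.2]
  rwa [e B hB, e B' hB'] at h

/-- Two conjugate maximal abelian members normalizing each other. -/
structure Pair (B B' : Subgroup G) : Prop where
  hB : IsTopIso B
  hB' : IsTopIso B'
  hn : B ≤ normalizer (B' : Set G)
  hn' : B' ≤ normalizer (B : Set G)
  card : Nat.card B' = Nat.card B

namespace Pair

variable {B B' : Subgroup G} (hP : Pair B B')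
include hP

theorem prod {x : G} (hx : x ∈ B ⊔ B') : ∃ b ∈ B, ∃ b' ∈ B', x = b * b' := by
  obtain ⟨b, hb, b', hb', e⟩ := ((large_pair hP.hB.1.1 hP.hB'.1.1).1 ▸ hx :
    x ∈ (B : Set G) * (B' : Set G))
  exact ⟨b, hb, b', hb', e.symm⟩

theorem inf_le_centralizer : B ⊓ B' ≤ centralizer ((B ⊔ B' : Subgroup G) : Set G) := by
  rw [centralizer_sup]
  exact le_inf (inf_le_left.trans hP.hB.1.2) (inf_le_right.trans hP.hB'.1.2)

theorem central {y x : G} (hy : y ∈ B ⊓ B') (hx : x ∈ B ⊔ B') : x * y = y * x :=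
  mem_centralizer_iff.1 (hP.inf_le_centralizer hy) x hx

theorem inf_centralizer : (B ⊔ B') ⊓ centralizer ((B ⊔ B' : Subgroup G) : Set G) = B ⊓ B' := by
  refine le_antisymm (fun z hz => ?_) (le_inf (inf_le_left.trans le_sup_left) hP.inf_le_centralizer)
  obtain ⟨hz1, hz2⟩ := mem_inf.1 hz
  obtain ⟨b, hb, b', hb', rfl⟩ := hP.prod hz1
  rw [centralizer_sup] at hz2
  have hb'B : b' ∈ B := hP.hB'.inf_centralizer_le hP.hB (mem_inf.2 ⟨hb', by
    simpa using mul_mem (inv_mem (hP.hB.1.2 hb)) (mem_inf.1 hz2).1⟩)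
  exact mem_inf.2 ⟨mul_mem hb hb'B, hP.hB.inf_centralizer_le hP.hB' (mem_inf.2
    ⟨mul_mem hb hb'B, (mem_inf.1 hz2).2⟩)⟩

theorem comm_mem {x y : G} (hx : x ∈ B ⊔ B') (hy : y ∈ B ⊔ B') : ⁅x, y⁆ ∈ B ⊓ B' := by
  have hbb : ∀ b ∈ B, ∀ b' ∈ B', ⁅b, b'⁆ ∈ B ⊓ B' := by
    intro b hb b' hb'
    rw [commutatorElement_def]
    refine mem_inf.2 ⟨?_, mul_mem ((mem_normalizer_iff.1 (hP.hn hb) b').1 hb') (inv_mem hb')⟩
    rw [show b * b' * b⁻¹ * b'⁻¹ = b * (b' * b⁻¹ * b'⁻¹) by group]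
    exact mul_mem hb ((mem_normalizer_iff.1 (hP.hn' hb') _).1 (inv_mem hb))
  have hone : ∀ u ∈ B, ∀ v ∈ B, ⁅u, v⁆ = 1 := fun u hu v hv =>
    commutatorElement_eq_one_iff_mul_comm.2 (mem_centralizer_iff.1 (hP.hB.1.2 hv) u hu)
  have hone' : ∀ u ∈ B', ∀ v ∈ B', ⁅u, v⁆ = 1 := fun u hu v hv =>
    commutatorElement_eq_one_iff_mul_comm.2 (mem_centralizer_iff.1 (hP.hB'.1.2 hv) u hu)
  obtain ⟨b, hb, b', hb', rfl⟩ := hP.prod hx
  obtain ⟨c, hc, c', hc', rfl⟩ := hP.prod hy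
  have key : ∀ {u v z : G}, u ∈ B ⊔ B' → ⁅v, z⁆ ∈ B ⊓ B' → ⁅u, z⁆ ∈ B ⊓ B' →
      ⁅u * v, z⁆ ∈ B ⊓ B' := by
    intro u v z hu hvz huz
    rw [show ⁅u * v, z⁆ = u * ⁅v, z⁆ * u⁻¹ * ⁅u, z⁆ by simp only [commutatorElement_def]; group,
      hP.central hvz hu, mul_inv_cancel_right]
    exact mul_mem hvz huz
  have key' : ∀ {u v z : G}, u ∈ B ⊔ B' → ⁅z, v⁆ ∈ B ⊓ B' → ⁅z, u⁆ ∈ B ⊓ B' →
      ⁅z, u * v⁆ ∈ B ⊓ B' := by
    intro u v z hu hvz huz
    rw [show ⁅z, u * v⁆ = ⁅z, u⁆ * (u * ⁅z, v⁆ * u⁻¹) by simp only [commutatorElement_def]; group,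
      hP.central hvz hu, mul_inv_cancel_right]
    exact mul_mem huz hvz
  have hswap : ∀ u ∈ B', ∀ v ∈ B, ⁅u, v⁆ ∈ B ⊓ B' := fun u hu v hv => by
    rw [← commutatorElement_inv]
    exact inv_mem (hbb v hv u hu)
  refine key (mem_sup_left hb) (key' (mem_sup_left hc) ?_ (hswap b' hb' c hc))
    (key' (mem_sup_left hc) (hbb b hb c' hc') ?_)
  · rw [hone' b' hb' c' hc']; exact one_mem _
  · rw [hone b hb c hc]; exact one_mem _

theorem comm_mul_left {x y z : G} (hx : x ∈ B ⊔ B') (hy : y ∈ B ⊔ B') (hz : z ∈ B ⊔ B') :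
    ⁅x * y, z⁆ = ⁅x, z⁆ * ⁅y, z⁆ := by
  rw [show ⁅x * y, z⁆ = x * ⁅y, z⁆ * x⁻¹ * ⁅x, z⁆ by simp only [commutatorElement_def]; group,
    hP.central (hP.comm_mem hy hz) hx, mul_inv_cancel_right]
  exact hP.central (hP.comm_mem hx hz) (mem_sup_left (mem_inf.1 (hP.comm_mem hy hz)).1)

theorem comm_pow_left {x z : G} (hx : x ∈ B ⊔ B') (hz : z ∈ B ⊔ B') (n : ℕ) :
    ⁅x ^ n, z⁆ = ⁅x, z⁆ ^ n := by
  induction n with
  | zero => simp [commutatorElement_one_left]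
  | succ n ih => rw [pow_succ, hP.comm_mul_left (pow_mem hx n) hx hz, ih, pow_succ]

theorem le_normalizer {W : Subgroup G} (hY : B ⊓ B' ≤ W) (hW : W ≤ B ⊔ B') :
    B ⊔ B' ≤ normalizer (W : Set G) := by
  intro x hx
  have key : ∀ x ∈ B ⊔ B', ∀ w ∈ W, x * w * x⁻¹ ∈ W := fun x hx w hw => by
    have h := mul_mem (hY (hP.comm_mem hx (hW hw))) hw
    rwa [commutatorElement_def, inv_mul_cancel_right] at h
  exact mem_normalizer_iff.2 fun w => ⟨key x hx w, fun h => by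
    simpa [mul_assoc] using key x⁻¹ (inv_mem hx) _ h⟩

theorem card_sup : Nat.card ↥(B ⊔ B') * Nat.card ↥(B ⊓ B') = Nat.card B * Nat.card B := by
  have h := card_prod_mul_card_inf B B'
  rw [← (large_pair hP.hB.1.1 hP.hB'.1.1).1, hP.card] at h
  exact h

/-- the candidates inside the join -/
def IsCand {B B' : Subgroup G} (_hP : Pair B B') (W : Subgroup G) : Prop :=
  B ⊓ B' ≤ W ∧ W ≤ B ⊔ B' ∧ W ≤ centralizer (W : Set G) ∧ Nat.card B ≤ Nat.card W

theorem cand_left : hP.IsCand B := ⟨inf_le_left, le_sup_left, hP.hB.1.2, le_rfl⟩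

theorem cand_right : hP.IsCand B' := ⟨inf_le_right, le_sup_right, hP.hB'.1.2, hP.card.ge⟩

variable {p : ℕ} [Fact p.Prime] (hG : IsPGroup p G)
include hG

theorem IsCand.top {W : Subgroup G} (hW : hP.IsCand W) : IsTopIso W ∧ Nat.card W = Nat.card B := by
  obtain ⟨hY, hWE, hab, hcard⟩ := hW
  have hlarge : Cfsg.IsCentralizerLarge W := by
    refine large_iff.2 (Nat.le_of_mul_le_mul_right (?_ : _ * Nat.card ↥(B ⊓ B') ≤ _) Nat.card_pos)
    obtain ⟨CE, hCE⟩ : ∃ CE, CE = centralizer ((B ⊔ B' : Subgroup G) : Set G) := ⟨_, rfl⟩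
    have h1 : Nat.card W * Nat.card CE ≤
        Nat.card ↥(centralizer (W : Set G)) * Nat.card ↥(B ⊓ B') := by
      rw [← card_prod_mul_card_inf W CE]
      refine Nat.mul_le_mul (Nat.card_mono (Set.toFinite _) ?_) (card_le_of_le ?_)
      · rintro _ ⟨u, hu, v, hv, rfl⟩
        exact mul_mem (hab hu) (centralizer_le hWE (hCE ▸ hv))
      · rw [hCE]
        exact (inf_le_inf_right _ hWE).trans hP.inf_centralizer.le
    have hE : measure (B ⊔ B') = Cfsg.maxCentralizerProduct G :=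
      (large_pair hP.hB.1.1 hP.hB'.1.1).2.1
    calc Cfsg.maxCentralizerProduct G * Nat.card ↥(B ⊓ B')
        = Nat.card ↥(B ⊔ B') * Nat.card ↥(B ⊓ B') * Nat.card CE := by
          rw [← hE, measure, hCE]; ring
      _ ≤ Nat.card W * Nat.card W * Nat.card CE := by
          rw [hP.card_sup]; exact Nat.mul_le_mul_right _ (Nat.mul_le_mul hcard hcard)
      _ = Nat.card W * (Nat.card W * Nat.card CE) := by ring
      _ ≤ Nat.card W * (Nat.card ↥(centralizer (W : Set G)) * Nat.card ↥(B ⊓ B')) :=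
          Nat.mul_le_mul_left _ h1
      _ = measure W * Nat.card ↥(B ⊓ B') := by rw [measure]; ring
  obtain ⟨M, hWM, hM⟩ := exists_topIso_ge ⟨hlarge, hab⟩
  have hM' := topIso_card_eq hG hM hP.hB
  have e : W = M := eq_of_le_of_card_ge hWM (hM'.le.trans hcard)
  exact ⟨e ▸ hM, e ▸ hM'⟩

theorem card_centralizer_inf {S : Subgroup G} (hS : Cfsg.IsCentralizerLarge S) (hYS : B ⊓ B' ≤ S)
    (hSB : S ≤ B) :
    Nat.card ↥((B ⊔ B') ⊓ centralizer (S : Set G)) * Nat.card S = Nat.card B * Nat.card B := by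
  obtain ⟨hCS, hSS⟩ := centralizer_large hS
  have hE : Cfsg.IsCentralizerLarge (B ⊔ B') := (large_pair hP.hB.1.1 hP.hB'.1.1).2.1
  obtain ⟨hprod, hU, -, -⟩ := large_pair hE hCS
  have hC : centralizer ((B ⊔ B' ⊔ centralizer (S : Set G) : Subgroup G) : Set G) = B ⊓ B' := by
    rw [centralizer_sup, ← hSS]
    refine le_antisymm ?_ (le_inf hP.inf_le_centralizer hYS)
    refine le_trans ?_ hP.inf_centralizer.le
    exact le_inf (inf_le_right.trans (hSB.trans le_sup_left)) inf_le_left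
  have h1 := card_prod_mul_card_inf (B ⊔ B') (centralizer (S : Set G))
  rw [← hprod] at h1
  have h2 : Nat.card ↥(B ⊔ B' ⊔ centralizer (S : Set G)) * Nat.card ↥(B ⊓ B') =
      Nat.card S * Nat.card ↥(centralizer (S : Set G)) := by
    rw [← hC]; exact (Eq.trans hU hS.symm :)
  refine Nat.eq_of_mul_eq_mul_left (Nat.card_pos (α := ↥(B ⊔ B' ⊔ centralizer (S : Set G)))) ?_
  calc Nat.card ↥(B ⊔ B' ⊔ centralizer (S : Set G)) *
        (Nat.card ↥((B ⊔ B') ⊓ centralizer (S : Set G)) * Nat.card S)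
      = (Nat.card ↥(B ⊔ B' ⊔ centralizer (S : Set G)) *
          Nat.card ↥((B ⊔ B') ⊓ centralizer (S : Set G))) * Nat.card S := by ring
    _ = Nat.card ↥(B ⊔ B') * (Nat.card S * Nat.card ↥(centralizer (S : Set G))) := by
        rw [show Nat.card ↥(B ⊔ B' ⊔ centralizer (S : Set G)) *
          Nat.card ↥((B ⊔ B') ⊓ centralizer (S : Set G)) = _ from h1]
        ring
    _ = Nat.card ↥(B ⊔ B' ⊔ centralizer (S : Set G)) *
          (Nat.card ↥(B ⊔ B') * Nat.card ↥(B ⊓ B')) := by rw [← h2]; ring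
    _ = _ := by rw [hP.card_sup]

theorem card_sup_cand {W : Subgroup G} (hW : hP.IsCand W) :
    Nat.card ↥(B ⊔ W) * Nat.card ↥(B ⊓ W) = Nat.card B * Nat.card B := by
  obtain ⟨ht, hc⟩ := IsCand.top hP hG hW
  have h := card_prod_mul_card_inf B W
  rw [← (large_pair hP.hB.1.1 ht.1.1).1, hc] at h
  exact h

theorem sup_eq_centralizer {W : Subgroup G} (hW : hP.IsCand W) :
    B ⊔ W = (B ⊔ B') ⊓ centralizer ((B ⊓ W : Subgroup G) : Set G) := by
  have hle : B ⊔ W ≤ (B ⊔ B') ⊓ centralizer ((B ⊓ W : Subgroup G) : Set G) :=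
    le_inf (sup_le le_sup_left hW.2.1) (sup_le (hP.hB.1.2.trans (centralizer_le inf_le_left))
      (hW.2.2.1.trans (centralizer_le inf_le_right)))
  refine eq_of_le_of_card_ge hle (Nat.le_of_mul_le_mul_right (le_of_eq ?_)
    (Nat.card_pos (α := ↥(B ⊓ W))))
  rw [hP.card_sup_cand hG hW, hP.card_centralizer_inf hG
    (large_pair hP.hB.1.1 (IsCand.top hP hG hW).1.1.1).2.2.1 (le_inf inf_le_left hW.1) inf_le_left]

/-- restrict a transversal candidate to the centralizer of a part of `B` -/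
theorem restrict {V : Subgroup G} (hV : hP.IsCand V) (hVB : B ⊓ V = B ⊓ B') {S : Subgroup G}
    (hS : Cfsg.IsCentralizerLarge S) (hYS : B ⊓ B' ≤ S) (hSB : S ≤ B) :
    hP.IsCand (S ⊔ (V ⊓ centralizer (S : Set G))) ∧
      B ⊓ (S ⊔ (V ⊓ centralizer (S : Set G))) = S := by
  obtain ⟨T, hT⟩ : ∃ T, T = V ⊓ centralizer (S : Set G) := ⟨_, rfl⟩
  rw [← hT]
  have hYT : B ⊓ B' ≤ T := hT ▸ le_inf hV.1 (hP.inf_le_centralizer.trans
    (centralizer_le (hSB.trans le_sup_left)))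
  have hTV : T ≤ V := hT ▸ inf_le_left
  have hTS : T ≤ centralizer (S : Set G) := hT ▸ inf_le_right
  have hST : S ≤ centralizer (T : Set G) := le_centralizer_iff.1 hTS
  have hprod := coe_mul_of_left_le_normalizer_right S T (hST.trans (centralizer_le_normalizer _))
  have hBV : B ⊔ V = B ⊔ B' := by
    refine eq_of_le_of_card_ge (sup_le le_sup_left hV.2.1) ?_
    refine Nat.le_of_mul_le_mul_right (le_of_eq ?_) (Nat.card_pos (α := ↥(B ⊓ B')))
    rw [hP.card_sup, ← hVB, hP.card_sup_cand hG hV]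
  -- the centralizer of `S` in the join
  have hCB : ((B ⊔ B') ⊓ centralizer (S : Set G)) = B ⊔ T := by
    refine le_antisymm (fun x hx => ?_) (sup_le (le_inf le_sup_left
      (hP.hB.1.2.trans (centralizer_le hSB))) (le_inf (hTV.trans hV.2.1) hTS))
    obtain ⟨hxE, hxC⟩ := mem_inf.1 hx
    rw [← hBV] at hxE
    obtain ⟨b, hb, v, hv, rfl⟩ := ((large_pair hP.hB.1.1 (IsCand.top hP hG hV).1.1.1).1 ▸ hxE :
      x ∈ (B : Set G) * (V : Set G))
    refine mul_mem (mem_sup_left hb) (mem_sup_right (hT ▸ mem_inf.2 ⟨hv, ?_⟩))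
    simpa using mul_mem (inv_mem (hP.hB.1.2.trans (centralizer_le hSB) hb)) hxC
  have hBT : B ⊓ T = B ⊓ B' := le_antisymm ((inf_le_inf_left _ hTV).trans hVB.le)
    (le_inf inf_le_left hYT)
  have hcard1 : Nat.card ↥(B ⊔ T) * Nat.card ↥(B ⊓ B') = Nat.card B * Nat.card T := by
    have h := card_prod_mul_card_inf B T
    have hn : T ≤ normalizer (B : Set G) :=
      (hTV.trans hV.2.1).trans (hP.le_normalizer inf_le_left le_sup_left)
    rw [← coe_mul_of_right_le_normalizer_left B T hn, hBT] at h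
    exact h
  have hcard2 := hP.card_centralizer_inf hG hS hYS hSB
  rw [hCB] at hcard2
  have hcard3 : Nat.card ↥(S ⊔ T) * Nat.card ↥(B ⊓ B') = Nat.card S * Nat.card T := by
    have h := card_prod_mul_card_inf S T
    rw [← hprod, le_antisymm ((inf_le_inf_right _ hSB).trans hBT.le) (le_inf hYS hYT)] at h
    exact h
  refine ⟨⟨hYS.trans le_sup_left, sup_le (hSB.trans le_sup_left) (hTV.trans hV.2.1), ?_, le_of_eq ?_⟩, ?_⟩
  · rw [centralizer_sup]
    exact le_inf (sup_le (hSB.trans (hP.hB.1.2.trans (centralizer_le hSB))) hTS)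
      (sup_le hST (hTV.trans (hV.2.2.1.trans (centralizer_le hTV))))
  · refine Nat.eq_of_mul_eq_mul_left (Nat.card_pos (α := ↥(B ⊔ T))) ?_
    refine Nat.eq_of_mul_eq_mul_right (Nat.card_pos (α := ↥(B ⊓ B'))) ?_
    calc Nat.card ↥(B ⊔ T) * Nat.card B * Nat.card ↥(B ⊓ B')
        = Nat.card B * Nat.card B * Nat.card T := by rw [mul_right_comm, hcard1]; ring
      _ = Nat.card ↥(B ⊔ T) * (Nat.card S * Nat.card T) := by rw [← hcard2]; ring
      _ = _ := by rw [← hcard3]; ring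
  · refine le_antisymm (fun x hx => ?_) (le_inf hSB le_sup_left)
    obtain ⟨hxB, hxW⟩ := mem_inf.1 hx
    obtain ⟨s, hs, t, ht, rfl⟩ := (hprod ▸ hxW : x ∈ (S : Set G) * (T : Set G))
    have htB : t ∈ B := by simpa using mul_mem (inv_mem (hSB hs)) hxB
    exact mul_mem hs (hYS (hBT.le (mem_inf.2 ⟨htB, ht⟩)))

/-- A stratum with two members has order divisible by `p`. -/
theorem dvd_stratum {S V₀ V₁ : Subgroup G} (h₀ : hP.IsCand V₀) (h₁ : hP.IsCand V₁)
    (h₀S : B ⊓ V₀ = S) (h₁S : B ⊓ V₁ = S) (hne : V₀ ≠ V₁) :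
    p ∣ Nat.card {W : Subgroup G // hP.IsCand W ∧ B ⊓ W = S} := by
  classical
  have hE : ∀ {W : Subgroup G}, hP.IsCand W → ∀ {x : G}, x ∈ W → x ∈ B ⊔ B' := fun h _ hx => h.2.1 hx
  have hBE : ∀ {x : G}, x ∈ B → x ∈ B ⊔ B' := fun hx => mem_sup_left hx
  have hdec : ∀ {U : Subgroup G}, hP.IsCand U → B ⊓ U = S → ∀ {W : Subgroup G}, hP.IsCand W →
      B ⊓ W = S → ∀ x ∈ W, ∃ u ∈ U, ∃ β ∈ B, x = u * β := by
    intro U hU hUS W hW hWS x hx
    have hx' : x ∈ B ⊔ U := by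
      rw [hP.sup_eq_centralizer hG hU, hUS, ← hWS, ← hP.sup_eq_centralizer hG hW]
      exact mem_sup_right hx
    rw [sup_comm] at hx'
    obtain ⟨u, hu, β, hβ, e⟩ := ((large_pair (IsCand.top hP hG hU).1.1.1 hP.hB.1.1).1 ▸ hx' :
      x ∈ (U : Set G) * (B : Set G))
    exact ⟨u, hu, β, hβ, e.symm⟩
  have hSW : ∀ {W : Subgroup G}, B ⊓ W = S → ∀ {s : G}, s ∈ S → s ∈ W := fun h _ hs =>
    (mem_inf.1 (h ▸ hs : _ ∈ B ⊓ _)).2
  -- translates
  obtain ⟨R, hR⟩ : ∃ R : Subgroup G → ℕ → G → Prop, ∀ W n z, R W n z ↔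
      ∃ x ∈ W, ∃ v ∈ V₀, ∃ β ∈ B, v⁻¹ * x ∈ B ∧ v * β ∈ V₁ ∧ z = x * β ^ n :=
    ⟨_, fun W n z => Iff.rfl⟩
  have hTr : ∀ W, hP.IsCand W → B ⊓ W = S → ∀ n, ∃ W', (hP.IsCand W' ∧ B ⊓ W' = S) ∧
      ∀ z, z ∈ W' ↔ R W n z := by
    intro W hW hWS n
    have hmul : ∀ {z z' : G}, R W n z → R W n z' → R W n (z * z') := by
      intro z z' hz hz'
      obtain ⟨x, hx, v, hv, β, hβ, h1, h2, rfl⟩ := (hR W n z).1 hz
      obtain ⟨x', hx', v', hv', β', hβ', h1', h2', rfl⟩ := (hR W n z').1 hz'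
      have hc1 := hP.comm_mem (pow_mem (hBE hβ) n) (hE hW hx')
      refine (hR W n _).2 ⟨x * ⁅β ^ n, x'⁆ * x', mul_mem (mul_mem hx (hW.1 hc1)) hx', v * v',
        mul_mem hv hv', β * β', mul_mem hβ hβ', ?_, ?_, ?_⟩
      · have hc2 := hP.comm_mem (inv_mem (hE h₀ hv')) (hBE h1)
        have e : (v * v')⁻¹ * (x * ⁅β ^ n, x'⁆ * x') =
            ⁅v'⁻¹, v⁻¹ * x⁆ * (v⁻¹ * x) * (v'⁻¹ * ⁅β ^ n, x'⁆ * v') * (v'⁻¹ * x') := by
          simp only [commutatorElement_def]; group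
        rw [e]
        refine mul_mem (mul_mem (mul_mem (mem_inf.1 hc2).1 h1) ?_) h1'
        rw [hP.central hc1 (inv_mem (hE h₀ hv')), inv_mul_cancel_right]
        exact (mem_inf.1 hc1).1
      · have hc3 := hP.comm_mem (hBE hβ) (hE h₀ hv')
        have e : v * v' * (β * β') = v * (⁅β, v'⁆⁻¹ * β) * (v' * β') := by
          simp only [commutatorElement_def]; group
        rw [e, ← hP.central (inv_mem hc3) (hBE hβ), ← mul_assoc v β]
        exact mul_mem (mul_mem h2 (h₁.1 (inv_mem hc3))) h2'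
      · rw [(Commute.mul_pow (mem_centralizer_iff.1 (hP.hB.1.2 hβ') β hβ) n)]
        simp only [commutatorElement_def]; group
    obtain ⟨W', hW'⟩ : ∃ W' : Subgroup G, ∀ z, z ∈ W' ↔ R W n z := by
      refine ⟨Subgroup.closure {z | R W n z}, fun z => ⟨fun hz => ?_, fun hz => subset_closure hz⟩⟩
      rw [← mem_toSubmonoid, closure_toSubmonoid_of_finite] at hz
      induction hz using Submonoid.closure_induction with
      | mem y hy => exact hy
      | one => exact (hR W n 1).2 ⟨1, one_mem _, 1, one_mem _, 1, one_mem _, by simp [one_mem],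
          by simp [one_mem], by simp⟩
      | mul y y' _ _ hy hy' => exact hmul hy hy'
    have hex : ∀ x ∈ W, ∃ β ∈ B, x * β ^ n ∈ W' := by
      intro x hx
      obtain ⟨v, hv, b, hb, rfl⟩ := hdec h₀ h₀S hW hWS x hx
      obtain ⟨v₁, hv₁, β, hβ, hvv⟩ := hdec h₁ h₁S h₀ h₀S v hv
      refine ⟨β⁻¹, inv_mem hβ, (hW' _).2 ((hR _ _ _).2 ⟨v * b, hx, v, hv, β⁻¹, inv_mem hβ,
        by rw [inv_mul_cancel_left]; exact hb, by rw [hvv, mul_inv_cancel_right]; exact hv₁, rfl⟩)⟩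
    have hinf : B ⊓ W' = S := by
      refine le_antisymm (fun z hz => ?_) (fun s hs => mem_inf.2 ⟨(mem_inf.1 (hWS ▸ hs : s ∈ B ⊓ W)).1,
        (hW' s).2 ((hR _ _ _).2 ⟨s, hSW hWS hs, 1, one_mem _, 1, one_mem _,
          by simpa using (mem_inf.1 (hWS ▸ hs : s ∈ B ⊓ W)).1, by simp [one_mem], by simp⟩)⟩)
      obtain ⟨hzB, hzW⟩ := mem_inf.1 hz
      obtain ⟨x, hx, v, hv, β, hβ, h1, h2, rfl⟩ := (hR _ _ _).1 ((hW' _).1 hzW)
      have hxB : x ∈ B := by simpa using mul_mem hzB (inv_mem (pow_mem hβ n))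
      have hvB : v ∈ B := by
        have := mul_mem hxB (inv_mem h1)
        simpa using this
      have hvS : v ∈ S := h₀S ▸ mem_inf.2 ⟨hvB, hv⟩
      have hβS : β ∈ S := by
        have h' : v * β ∈ S := h₁S ▸ mem_inf.2 ⟨mul_mem hvB hβ, h2⟩
        simpa using mul_mem (inv_mem hvS) h'
      exact mul_mem (hWS ▸ mem_inf.2 ⟨hxB, hx⟩ : x ∈ S) (pow_mem hβS n)
    refine ⟨W', ⟨⟨?_, ?_, ?_, ?_⟩, hinf⟩, hW'⟩
    · exact fun y hy => (hW' y).2 ((hR _ _ _).2 ⟨y, hW.1 hy, 1, one_mem _, 1, one_mem _,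
        by simpa using (mem_inf.1 hy).1, by simp [one_mem], by simp⟩)
    · intro z hz
      obtain ⟨x, hx, v, hv, β, hβ, h1, h2, rfl⟩ := (hR _ _ _).1 ((hW' _).1 hz)
      exact mul_mem (hE hW hx) (hBE (pow_mem hβ n))
    · intro z hz
      refine mem_centralizer_iff.2 fun z' hz' => ?_
      obtain ⟨x, hx, v, hv, β, hβ, h1, h2, rfl⟩ := (hR _ _ _).1 ((hW' _).1 hz)
      obtain ⟨x', hx', v', hv', β', hβ', h1', h2', rfl⟩ := (hR _ _ _).1 ((hW' _).1 hz')
      have hone : ∀ {U : Subgroup G}, U ≤ centralizer (U : Set G) → ∀ {u w : G}, u ∈ U → w ∈ U →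
          ⁅u, w⁆ = 1 := fun h _ _ hu hw =>
        commutatorElement_eq_one_iff_mul_comm.2 (mem_centralizer_iff.1 (h hw) _ hu)
      have cR : ∀ {u w z : G}, u ∈ B ⊔ B' → w ∈ B ⊔ B' → z ∈ B ⊔ B' →
          ⁅z, u * w⁆ = ⁅z, w⁆ * ⁅z, u⁆ := fun hu hw hz => by
        rw [← commutatorElement_inv, hP.comm_mul_left hu hw hz, mul_inv_rev, commutatorElement_inv,
          commutatorElement_inv]
      -- reduce to the two given candidates
      have e1 : ⁅x', β⁆ = ⁅v', β⁆ := by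
        conv_lhs => rw [show x' = v' * (v'⁻¹ * x') by group]
        rw [hP.comm_mul_left (hE h₀ hv') (hBE h1') (hBE hβ), hone hP.hB.1.2 h1' hβ, mul_one]
      have e2 : ⁅β', x⁆ = ⁅β', v⁆ := by
        conv_lhs => rw [show x = v * (v⁻¹ * x) by group]
        rw [cR (hE h₀ hv) (hBE h1) (hBE hβ'), hone hP.hB.1.2 hβ' h1, one_mul]
      have e3 : ⁅v', β⁆ * ⁅β', v⁆ = 1 := by
        have h := hone h₁.2.2.1 h2' h2
        rw [hP.comm_mul_left (hE h₀ hv') (hBE hβ') (hE h₁ h2), cR (hE h₀ hv) (hBE hβ) (hE h₀ hv'),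
          cR (hE h₀ hv) (hBE hβ) (hBE hβ'), hone h₀.2.2.1 hv' hv, hone hP.hB.1.2 hβ' hβ, mul_one,
          one_mul] at h
        exact h
      have cpow : ∀ {u z : G}, u ∈ B ⊔ B' → z ∈ B ⊔ B' → ⁅z, u ^ n⁆ = ⁅z, u⁆ ^ n := fun hu hz => by
        rw [← commutatorElement_inv, hP.comm_pow_left hu hz, ← inv_pow, commutatorElement_inv]
      refine commutatorElement_eq_one_iff_mul_comm.1 ?_
      rw [hP.comm_mul_left (hE hW hx') (hBE (pow_mem hβ' n)) (mul_mem (hE hW hx) (hBE (pow_mem hβ n))),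
        cR (hE hW hx) (hBE (pow_mem hβ n)) (hE hW hx'),
        cR (hE hW hx) (hBE (pow_mem hβ n)) (hBE (pow_mem hβ' n)),
        hone hW.2.2.1 hx' hx, hone hP.hB.1.2 (pow_mem hβ' n) (pow_mem hβ n), mul_one, one_mul,
        cpow (hBE hβ) (hE hW hx'), hP.comm_pow_left (hBE hβ') (hE hW hx), e1, e2,
        ← (show Commute ⁅v', β⁆ ⁅β', v⁆ from hP.central (hP.comm_mem (hBE hβ') (hE h₀ hv))
          (mem_sup_left (mem_inf.1 (hP.comm_mem (hE h₀ hv') (hBE hβ))).1)).mul_pow, e3, one_pow]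
    · have hsup : B ⊔ W ≤ B ⊔ W' := by
        refine sup_le le_sup_left fun x hx => ?_
        obtain ⟨β, hβ, h⟩ := hex x hx
        have := mul_mem (mem_sup_right (S := B) h) (mem_sup_left (T := W') (inv_mem (pow_mem hβ n)))
        simpa using this
      have hn : W' ≤ normalizer (B : Set G) := by
        intro z hz
        obtain ⟨x, hx, v, hv, β, hβ, -, -, rfl⟩ := (hR _ _ _).1 ((hW' _).1 hz)
        exact hP.le_normalizer inf_le_left le_sup_left (mul_mem (hE hW hx) (hBE (pow_mem hβ n)))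
      have h := card_prod_mul_card_inf B W'
      rw [← coe_mul_of_right_le_normalizer_left B W' hn, hinf] at h
      have h' : Nat.card ↥(B ⊔ W) * Nat.card S ≤ Nat.card B * Nat.card W' :=
        (Nat.mul_le_mul_right _ (card_le_of_le hsup)).trans h.le
      rw [← hWS, hP.card_sup_cand hG hW] at h'
      exact Nat.le_of_mul_le_mul_left h' Nat.card_pos
  choose τ hτ hτmem using hTr
  -- composing translates
  have hcomp : ∀ W (hW : hP.IsCand W) (hWS : B ⊓ W = S) n,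
      τ (τ W hW hWS n) (hτ W hW hWS n).1 (hτ W hW hWS n).2 1 = τ W hW hWS (n + 1) := by
    intro W hW hWS n
    ext z
    rw [hτmem, hR, hτmem, hR]
    constructor
    · rintro ⟨x', hx', v', hv', β', hβ', h1', h2', rfl⟩
      obtain ⟨x, hx, v, hv, β, hβ, h1, h2, rfl⟩ := (hR _ _ _).1 ((hτmem _ _ _ _ _).1 hx')
      have hd : v'⁻¹ * v ∈ S := h₀S ▸ mem_inf.2 ⟨by
        have := mul_mem h1' (mul_mem (inv_mem (pow_mem hβ n)) (inv_mem h1))
        simpa [mul_assoc] using this, mul_mem (inv_mem hv') hv⟩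
      have hd' : β⁻¹ * β' ∈ S := by
        have hB' : β'⁻¹ * (v'⁻¹ * v) * β ∈ B :=
          mul_mem (mul_mem (inv_mem hβ') (mem_inf.1 (h₀S ▸ hd : _ ∈ B ⊓ V₀)).1) hβ
        have hV : β'⁻¹ * (v'⁻¹ * v) * β ∈ V₁ := by
          have := mul_mem (inv_mem h2') h2
          simpa [mul_assoc] using this
        have hS' : β'⁻¹ * (v'⁻¹ * v) * β ∈ S := h₁S ▸ mem_inf.2 ⟨hB', hV⟩
        have hc : (v'⁻¹ * v) * β = β * (v'⁻¹ * v) :=
          mem_centralizer_iff.1 (hP.hB.1.2 hβ) _ (mem_inf.1 (h₀S ▸ hd : _ ∈ B ⊓ V₀)).1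
        rw [mul_assoc, hc, ← mul_assoc] at hS'
        have := inv_mem (mul_mem hS' (inv_mem hd))
        simpa [mul_assoc] using this
      obtain ⟨s, hs, rfl⟩ : ∃ s ∈ S, β' = β * s := ⟨_, hd', by group⟩
      have hsB : s ∈ B := (mem_inf.1 (h₀S ▸ hs : s ∈ B ⊓ V₀)).1
      refine ⟨x * s, mul_mem hx (hSW hWS hs), v, hv, β, hβ, ?_, h2, ?_⟩
      · rw [← mul_assoc]; exact mul_mem h1 hsB
      · rw [pow_one, pow_succ,
          show x * β ^ n * (β * s) = x * ((β ^ n * β) * s) by group,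
          mem_centralizer_iff.1 (hP.hB.1.2 hsB) _ (mul_mem (pow_mem hβ n) hβ)]
        group
    · rintro ⟨x, hx, v, hv, β, hβ, h1, h2, rfl⟩
      refine ⟨x * β ^ n, (hτmem _ _ _ _ _).2 ((hR _ _ _).2 ⟨x, hx, v, hv, β, hβ, h1, h2, rfl⟩),
        v, hv, β, hβ, ?_, h2, by rw [pow_one, pow_succ]; group⟩
      rw [← mul_assoc]
      exact mul_mem h1 (pow_mem hβ n)
  -- the permutation
  let Ω := {W : Subgroup G // hP.IsCand W ∧ B ⊓ W = S}
  let f : Ω → Ω := fun W => ⟨τ W.1 W.2.1 W.2.2 1, hτ W.1 W.2.1 W.2.2 1⟩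
  have hit : ∀ n (W : Ω), ((f^[n] W : Ω) : Subgroup G) = τ W.1 W.2.1 W.2.2 n := by
    intro n
    induction n with
    | zero =>
      intro W
      rw [Function.iterate_zero_apply]
      ext z
      rw [hτmem, hR]
      constructor
      · intro hz
        obtain ⟨v, hv, b, hb, e⟩ := hdec h₀ h₀S W.2.1 W.2.2 z hz
        obtain ⟨v₁, hv₁, β, hβ, hvv⟩ := hdec h₁ h₁S h₀ h₀S v hv
        exact ⟨z, hz, v, hv, β⁻¹, inv_mem hβ, by rw [e, inv_mul_cancel_left]; exact hb,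
          by rw [hvv, mul_inv_cancel_right]; exact hv₁, by simp⟩
      · rintro ⟨x, hx, v, hv, β, hβ, h1, h2, rfl⟩
        simpa using hx
    | succ n ih =>
      intro W
      rw [Function.iterate_succ_apply']
      show τ _ _ _ 1 = _
      rw [← hcomp W.1 W.2.1 W.2.2 n]
      have e := ih W
      congr 1
  obtain ⟨k, hk⟩ := (hG.to_subgroup (⊤ : Subgroup G)).exists_card_eq
  rw [Subgroup.card_top] at hk
  have hper : ∀ W : Ω, f^[p ^ k] W = W := by
    intro W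
    apply Subtype.ext
    rw [hit]
    ext z
    rw [hτmem, hR]
    constructor
    · rintro ⟨x, hx, v, hv, β, hβ, h1, h2, rfl⟩
      rw [← hk, pow_card_eq_one', mul_one]
      exact hx
    · intro hz
      obtain ⟨v, hv, b, hb, e⟩ := hdec h₀ h₀S W.2.1 W.2.2 z hz
      obtain ⟨v₁, hv₁, β, hβ, hvv⟩ := hdec h₁ h₁S h₀ h₀S v hv
      exact ⟨z, hz, v, hv, β⁻¹, inv_mem hβ, by rw [e, inv_mul_cancel_left]; exact hb,
        by rw [hvv, mul_inv_cancel_right]; exact hv₁, by rw [← hk, pow_card_eq_one', mul_one]⟩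
  have hinj : Function.Injective f := by
    intro U U' h
    rw [← hper U, ← hper U', ← Nat.succ_pred_eq_of_pos (pow_pos (Fact.out : p.Prime).pos k),
      Function.iterate_succ_apply, Function.iterate_succ_apply, h]
  obtain ⟨σ, hσ⟩ : ∃ σ : Equiv.Perm Ω, ∀ W, σ W = f W :=
    ⟨Equiv.ofBijective f (Finite.injective_iff_bijective.1 hinj), fun _ => rfl⟩
  have hσp : IsPGroup p (zpowers σ) := by
    intro g
    refine ⟨k, Subtype.ext ?_⟩
    obtain ⟨i, hi⟩ := mem_zpowers_iff.1 g.2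
    have h1 : σ ^ p ^ k = 1 := Equiv.ext fun W => by
      rw [Equiv.Perm.coe_pow, Equiv.Perm.one_apply]
      rw [show (⇑σ : Ω → Ω) = f from funext hσ]
      exact hper W
    show (g : Equiv.Perm Ω) ^ p ^ k = 1
    rw [← hi, ← zpow_natCast, ← zpow_mul, mul_comm, zpow_mul, zpow_natCast, h1, one_zpow]
  refine (Nat.modEq_zero_iff_dvd).1 (((hσp.card_modEq_card_fixedPoints Ω)).trans ?_)
  refine (Nat.modEq_zero_iff_dvd).2 ?_
  suffices hempty : IsEmpty (MulAction.fixedPoints (zpowers σ) Ω) by simp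
  refine ⟨fun ⟨W, hW⟩ => hne ?_⟩
  have hfix : σ W = W := hW ⟨σ, mem_zpowers σ⟩
  rw [hσ] at hfix
  have hfix' : τ W.1 W.2.1 W.2.2 1 = W.1 := congrArg Subtype.val hfix
  refine eq_of_le_of_card_ge (fun v hv => ?_) (by
    rw [(IsCand.top hP hG h₀).2, (IsCand.top hP hG h₁).2])
  obtain ⟨w, hw, b, hb, hvw⟩ := hdec W.2.1 W.2.2 h₀ h₀S v hv
  obtain ⟨v₁, hv₁, β, hβ, hvv⟩ := hdec h₁ h₁S h₀ h₀S v hv
  have h2 : v * β⁻¹ ∈ V₁ := by rw [hvv, mul_inv_cancel_right]; exact hv₁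
  have h3 : w * β⁻¹ ∈ W.1 := hfix'.le ((hτmem _ _ _ _ _).2 ((hR _ _ _).2 ⟨w, hw, v, hv, β⁻¹,
    inv_mem hβ, by rw [hvw]; simpa using inv_mem hb, h2, by rw [pow_one]⟩))
  have h4 : β⁻¹ ∈ W.1 := by simpa using mul_mem (inv_mem hw) h3
  have h5 : β ∈ V₁ := hSW h₁S (W.2.2 ▸ mem_inf.2 ⟨hβ, by simpa using inv_mem h4⟩ : β ∈ S)
  rw [hvv]
  exact mul_mem hv₁ h5

end Pair

section Fixed

variable {p : ℕ} [Fact p.Prime] (hG : IsPGroup p G)
include hG

/-- The replacement step. -/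
theorem exists_fixed_step {H : Subgroup G} {a : G} (ha : a ∈ normalizer (H : Set G)) {A : Subgroup G}
    (hA : IsPermuting A) (haA : a ∈ A) {B₀ : Subgroup G} (hB₀ : IsTopIso B₀)
    (hHB₀ : H ≤ normalizer (B₀ : Set G))
    (hH : ∀ B, IsTopIso B → H ≤ normalizer (B : Set G) → B ≤ H) :
    ∃ W : Subgroup G, IsTopIso W ∧ H ≤ normalizer (W : Set G) ∧ a ∈ normalizer (W : Set G) := by
  classical
  obtain ⟨B, ⟨hB, hHB⟩, hmax⟩ := (Set.toFinite {B : Subgroup G | IsTopIso B ∧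
    H ≤ normalizer (B : Set G)}).exists_maximalFor (fun B => Nat.card ↥(B ⊓ cj a B)) _
    ⟨B₀, hB₀, hHB₀⟩
  have hcj : ∀ X : Subgroup G, H ≤ normalizer (X : Set G) → H ≤ normalizer ((cj a X : Subgroup G) : Set G) := by
    intro X hX h hh
    refine cj_eq_iff.1 ?_
    have h' : a⁻¹ * h * a ∈ H := (mem_normalizer_iff.1 ha _).2 (by simpa [mul_assoc] using hh)
    rw [cj_cj, show h * a = a * (a⁻¹ * h * a) by group, ← cj_cj, cj_eq_iff.2 (hX h')]
  obtain ⟨B', hB'def⟩ : ∃ B', B' = cj a B := ⟨_, rfl⟩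
  have hB' : IsTopIso B' := hB'def ▸ isTopIso_cj a hB
  have hHB' : H ≤ normalizer (B' : Set G) := hB'def ▸ hcj B hHB
  have hP : Pair B B' := ⟨hB, hB', (hH B hB hHB).trans hHB', (hH B' hB' hHB').trans hHB,
    hB'def ▸ card_cj a B⟩
  obtain ⟨E, hE⟩ : ∃ E, E = B ⊔ B' := ⟨_, rfl⟩
  -- `E = B (E ∩ A)`
  have hBA : ∀ x ∈ E, ∃ b ∈ B, ∃ α ∈ A, α ∈ E ∧ x = b * α := by
    intro x hx
    obtain ⟨b, hb, b', hb', rfl⟩ := hP.prod (hE ▸ hx)
    rw [hB'def] at hb'
    obtain ⟨c, hc, rfl⟩ := hb'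
    obtain ⟨k, hk, α, hα, e⟩ := hA.2 B hB.1 a haA c hc
    refine ⟨b * k, mul_mem hb hk, α, hα, ?_, ?_⟩
    · rw [show α = k⁻¹ * (a * c * a⁻¹) by rw [e]; group, hE]
      exact mul_mem (mem_sup_left (inv_mem hk)) (mem_sup_right (hB'def ▸ ⟨c, hc, rfl⟩))
    · show b * (a * c * a⁻¹) = _
      rw [e, mul_assoc]
  have hfixA : ∀ α ∈ A, a * α * a⁻¹ = α := fun α hα => by
    rw [mem_centralizer_iff.1 (hA.1 hα) a haA, mul_inv_cancel_right]
  have haE : a ∈ normalizer (E : Set G) := by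
    refine cj_eq_iff.1 (eq_of_le_of_card_ge ?_ (card_cj a E).ge)
    rintro _ ⟨x, hx, rfl⟩
    obtain ⟨b, hb, α, hα, hαE, rfl⟩ := hBA x hx
    show a * (b * α) * a⁻¹ ∈ E
    rw [show a * (b * α) * a⁻¹ = (a * b * a⁻¹) * (a * α * a⁻¹) by group, hfixA α hα]
    exact mul_mem (hE ▸ mem_sup_right (hB'def ▸ ⟨b, hb, rfl⟩)) hαE
  have haY : ∀ y ∈ B ⊓ B', a * y * a⁻¹ ∈ B ⊓ B' := by
    intro y hy
    rw [← hP.inf_centralizer, ← hE] at hy ⊢
    obtain ⟨hy1, hy2⟩ := mem_inf.1 hy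
    refine mem_inf.2 ⟨(mem_normalizer_iff.1 haE y).1 hy1, mem_centralizer_iff.2 fun z hz => ?_⟩
    have hz' : a⁻¹ * z * a ∈ E := (mem_normalizer_iff.1 haE _).2 (by simpa [mul_assoc] using hz)
    calc z * (a * y * a⁻¹) = a * ((a⁻¹ * z * a) * y) * a⁻¹ := by group
      _ = a * (y * (a⁻¹ * z * a)) * a⁻¹ := by rw [mem_centralizer_iff.1 hy2 _ hz']
      _ = a * y * a⁻¹ * z := by group
  -- the invariant transversal candidate
  obtain ⟨W₀, hW₀def⟩ : ∃ W₀, W₀ = (B ⊓ B') ⊔ (A ⊓ E) := ⟨_, rfl⟩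
  have hW₀E : W₀ ≤ B ⊔ B' := hW₀def ▸ sup_le (inf_le_left.trans le_sup_left) (hE ▸ inf_le_right)
  have hW₀a : ∀ x ∈ W₀, a * x * a⁻¹ * x⁻¹ ∈ B ⊓ B' := by
    intro x hx
    rw [hW₀def] at hx
    obtain ⟨y, hy, α, hα, rfl⟩ := ((coe_mul_of_left_le_normalizer_right (B ⊓ B') (A ⊓ E)
      ((hP.inf_le_centralizer.trans (centralizer_le (inf_le_right.trans hE.le))).trans
        (centralizer_le_normalizer _))) ▸ hx : x ∈ ((B ⊓ B' : Subgroup G) : Set G) * ((A ⊓ E : Subgroup G) : Set G))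
    rw [show a * (y * α) * a⁻¹ * (y * α)⁻¹ = (a * y * a⁻¹) * (a * α * a⁻¹) * α⁻¹ * y⁻¹ by group,
      hfixA α (mem_inf.1 hα).1, mul_inv_cancel_right]
    exact mul_mem (haY y hy) (inv_mem hy)
  have hBW₀ : E ≤ B ⊔ W₀ := fun x hx => by
    obtain ⟨b, hb, α, hα, hαE, rfl⟩ := hBA x hx
    exact mul_mem (mem_sup_left hb) (mem_sup_right (hW₀def ▸ mem_sup_right (mem_inf.2 ⟨hα, hαE⟩)))
  have hW₀ab : W₀ ≤ centralizer (W₀ : Set G) := by
    rw [hW₀def, centralizer_sup]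
    refine le_inf (sup_le (inf_le_left.trans (hB.1.2.trans (centralizer_le inf_le_left)))
      ((hE ▸ inf_le_right : A ⊓ E ≤ B ⊔ B').trans (le_centralizer_iff.1 hP.inf_le_centralizer)))
      (sup_le (hP.inf_le_centralizer.trans (centralizer_le (hE ▸ inf_le_right)))
        (inf_le_left.trans (hA.1.trans (centralizer_le inf_le_left))))
  have hcard₀ : Nat.card ↥(B ⊔ B') * Nat.card ↥(B ⊓ W₀) ≤ Nat.card B * Nat.card W₀ := by
    have hn : W₀ ≤ normalizer (B : Set G) := hW₀E.trans (hP.le_normalizer inf_le_left le_sup_left)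
    have h := card_prod_mul_card_inf B W₀
    rw [← coe_mul_of_right_le_normalizer_left B W₀ hn] at h
    rw [← h]
    exact Nat.mul_le_mul_right _ (card_le_of_le (hE ▸ hBW₀))
  have hYW₀ : B ⊓ B' ≤ W₀ := hW₀def ▸ le_sup_left
  have hW₀ : hP.IsCand W₀ := by
    refine ⟨hYW₀, hW₀E, hW₀ab, Nat.le_of_mul_le_mul_left ?_ (Nat.card_pos (α := B))⟩
    rw [← hP.card_sup]
    exact (Nat.mul_le_mul_left _ (card_le_of_le (le_inf inf_le_left hYW₀))).trans hcard₀
  have hW₀B : B ⊓ W₀ = B ⊓ B' := by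
    refine (eq_of_le_of_card_ge (le_inf inf_le_left hYW₀) ?_).symm
    rw [(Pair.IsCand.top hP hG hW₀).2] at hcard₀
    exact Nat.le_of_mul_le_mul_left (hcard₀.trans hP.card_sup.ge) Nat.card_pos
  -- the fixed candidates
  have hcand : ∀ W, hP.IsCand W → ∀ g, g ∈ normalizer (E : Set G) →
      (∀ y ∈ B ⊓ B', g * y * g⁻¹ ∈ B ⊓ B') → hP.IsCand (cj g W) := by
    intro W hW g hgE hgY
    have hY' : cj g (B ⊓ B') = B ⊓ B' := eq_of_le_of_card_ge (by
      rintro _ ⟨y, hy, rfl⟩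
      exact hgY y hy) (card_cj g _).ge
    refine ⟨hY'.ge.trans (map_mono hW.1), ?_, ?_, hW.2.2.2.trans (card_cj g W).ge⟩
    · rintro _ ⟨x, hx, rfl⟩
      exact hE ▸ (mem_normalizer_iff.1 hgE x).1 (hE ▸ hW.2.1 hx)
    · rw [centralizer_map_conj]
      exact map_mono hW.2.2.1
  have hHE : H ≤ normalizer (E : Set G) := hE ▸ fun h hh => cj_eq_iff.1 (by
    rw [cj, Subgroup.map_sup]
    exact congrArg₂ (· ⊔ ·) (cj_eq_iff.2 (hHB hh)) (cj_eq_iff.2 (hHB' hh)))
  have hHY : ∀ h ∈ H, ∀ y ∈ B ⊓ B', h * y * h⁻¹ ∈ B ⊓ B' := fun h hh y hy =>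
    mem_inf.2 ⟨(mem_normalizer_iff.1 (hHB hh) y).1 (mem_inf.1 hy).1,
      (mem_normalizer_iff.1 (hHB' hh) y).1 (mem_inf.1 hy).2⟩
  let Ω := {W : Subgroup G // hP.IsCand W ∧ H ≤ normalizer (W : Set G)}
  have hstrat : ∀ S : Subgroup G, (∃ W : Ω, B ⊓ W.1 = S) → S ≠ B →
      p ∣ Nat.card {W : Ω // B ⊓ W.1 = S} := by
    rintro S ⟨⟨W, hW, hWn⟩, hWS⟩ hSB
    subst hWS
    have hSl : Cfsg.IsCentralizerLarge (B ⊓ W) :=
      (large_pair hB.1.1 (Pair.IsCand.top hP hG hW).1.1.1).2.2.1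
    have hYS : B ⊓ B' ≤ B ⊓ W := le_inf inf_le_left hW.1
    obtain ⟨hV₁, hV₁S⟩ := hP.restrict hG hP.cand_right rfl hSl hYS inf_le_left
    obtain ⟨hV₂, hV₂S⟩ := hP.restrict hG hW₀ hW₀B hSl hYS inf_le_left
    -- two members
    have htwo : p ∣ Nat.card {U : Subgroup G // hP.IsCand U ∧ B ⊓ U = B ⊓ W} := by
      by_contra hnd
      have hall : ∀ U, hP.IsCand U → B ⊓ U = B ⊓ W → U = W := fun U hU hUS => by
        by_contra hne
        exact hnd (hP.dvd_stratum hG hU hW hUS rfl hne)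
      obtain ⟨T, hT⟩ : ∃ T, T = W₀ ⊓ centralizer ((B ⊓ W : Subgroup G) : Set G) := ⟨_, rfl⟩
      have hTW : T ≤ W := hT ▸ (le_sup_right.trans (hall _ hV₂ hV₂S).le)
      have hTW' : T ≤ cj a W := by
        intro x hx
        have hx0 : x ∈ W₀ := (mem_inf.1 (hT ▸ hx : x ∈ W₀ ⊓ _)).1
        refine cj_mem_iff.2 ?_
        have h0 : a⁻¹ * x * a * x⁻¹ ∈ B ⊓ B' := by
          obtain ⟨q, hq⟩ : ∃ q, q = a * x * a⁻¹ * x⁻¹ := ⟨_, rfl⟩
          have hqY : q ∈ B ⊓ B' := hq ▸ hW₀a x hx0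
          have hY' : cj a (B ⊓ B') = B ⊓ B' := eq_of_le_of_card_ge (by
            rintro _ ⟨y, hy, rfl⟩
            exact haY y hy) (card_cj a _).ge
          have := cj_mem_iff.1 (hY'.ge (inv_mem hqY))
          rw [hq] at this
          convert this using 1
          group
        have := mul_mem (hW.1 h0) (hTW hx)
        simpa [mul_assoc] using this
      have hYlt : B ⊓ B' < T := by
        refine lt_of_le_of_ne (hT ▸ le_inf hYW₀ (hP.inf_le_centralizer.trans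
          (centralizer_le (show B ⊓ W ≤ B ⊔ B' from inf_le_left.trans le_sup_left)))) fun heq => hSB ?_
        have h := hV₂.2.2.2
        rw [← hT, ← heq, sup_eq_left.2 hYS] at h
        exact eq_of_le_of_card_ge inf_le_left h
      have hlt : Nat.card ↥(B ⊓ cj a B) < Nat.card ↥(W ⊓ cj a W) := by
        rw [← hB'def]
        exact lt_of_lt_of_le (lt_of_not_ge fun h => hYlt.ne (eq_of_le_of_card_ge hYlt.le h))
          (card_le_of_le (le_inf hTW hTW'))
      exact absurd (hmax ⟨(Pair.IsCand.top hP hG hW).1, hWn⟩ hlt.le) (not_le.2 hlt)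
    -- fixed points of `H`
    have hHS : ∀ h ∈ H, cj h (B ⊓ W) = B ⊓ W := fun h hh => by
      rw [cj, Subgroup.map_inf _ _ _ (MulAut.conj h).injective]
      exact congrArg₂ (· ⊓ ·) (cj_eq_iff.2 (hHB hh)) (cj_eq_iff.2 (hWn hh))
    letI : MulAction ↥H {U : Subgroup G // hP.IsCand U ∧ B ⊓ U = B ⊓ W} :=
      { smul := fun h U => ⟨cj (h : G) U.1, hcand U.1 U.2.1 h (hHE h.2) (hHY h h.2), by
          have e : cj (h : G) (B ⊓ U.1) = cj (h : G) (B ⊓ W) := congrArg (cj (h : G)) U.2.2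
          rw [hHS _ h.2, cj, Subgroup.map_inf _ _ _ (MulAut.conj (h : G)).injective] at e
          rwa [show B.map (MulAut.conj (h : G)).toMonoidHom = B from cj_eq_iff.2 (hHB h.2)] at e⟩
        one_smul := fun U => Subtype.ext (by
          show cj ((1 : H) : G) U.1 = U.1
          exact cj_eq_iff.2 (one_mem _))
        mul_smul := fun g h U => Subtype.ext (by
          show cj ((g * h : H) : G) U.1 = cj (g : G) (cj (h : G) U.1)
          rw [cj_cj]; rfl) }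
    have hfp := (hG.to_subgroup H).card_modEq_card_fixedPoints
      {U : Subgroup G // hP.IsCand U ∧ B ⊓ U = B ⊓ W}
    have e : Nat.card {U : Ω // B ⊓ U.1 = B ⊓ W} = Nat.card (MulAction.fixedPoints ↥H
        {U : Subgroup G // hP.IsCand U ∧ B ⊓ U = B ⊓ W}) := Nat.card_congr
      { toFun := fun U => ⟨⟨U.1.1, U.1.2.1, U.2⟩, fun h => Subtype.ext (cj_eq_iff.2 (U.1.2.2 h.2))⟩
        invFun := fun U => ⟨⟨U.1.1, U.1.2.1, fun h hh =>
          cj_eq_iff.1 (congrArg Subtype.val (U.2 ⟨h, hh⟩))⟩, U.1.2.2⟩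
        left_inv := fun U => rfl
        right_inv := fun U => rfl }
    rw [e]
    exact (Nat.modEq_zero_iff_dvd).1 (hfp.symm.trans ((Nat.modEq_zero_iff_dvd).2 htwo))
  -- the count
  have hone : Nat.card Ω ≡ 1 [MOD p] := by
    haveI : Fintype (Subgroup G) := Fintype.ofFinite _
    rw [← Nat.card_congr (Equiv.sigmaFiberEquiv (fun W : Ω => B ⊓ W.1)), Nat.card_sigma,
      ← Finset.add_sum_erase _ _ (Finset.mem_univ B)]
    have h1 : Nat.card {W : Ω // B ⊓ W.1 = B} = 1 := by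
      rw [Nat.card_eq_one_iff_unique]
      refine ⟨⟨fun U U' => ?_⟩, ⟨⟨⟨B, hP.cand_left, hHB⟩, inf_idem B⟩⟩⟩
      have e : ∀ U : {W : Ω // B ⊓ W.1 = B}, U.1.1 = B := fun U =>
        hB.2 _ (Pair.IsCand.top hP hG U.1.2.1).1.1 (inf_eq_left.1 U.2)
      exact Subtype.ext (Subtype.ext ((e U).trans (e U').symm))
    rw [h1]
    have h2 : p ∣ ∑ S ∈ Finset.univ.erase B, Nat.card {W : Ω // B ⊓ W.1 = S} := by
      refine Finset.dvd_sum fun S hS => ?_
      by_cases hex : ∃ W : Ω, B ⊓ W.1 = S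
      · exact hstrat S hex (Finset.ne_of_mem_erase hS)
      · haveI : IsEmpty {W : Ω // B ⊓ W.1 = S} := ⟨fun U => hex ⟨U.1, U.2⟩⟩
        simp
    simpa using (Nat.ModEq.refl 1).add ((Nat.modEq_zero_iff_dvd).2 h2)
  have hHa : ∀ g ∈ zpowers a, g ∈ normalizer (E : Set G) ∧ g ∈ normalizer (H : Set G) :=
    fun g hg => ⟨zpowers_le.2 haE hg, zpowers_le.2 ha hg⟩
  have haY' : a ∈ normalizer ((B ⊓ B' : Subgroup G) : Set G) := cj_eq_iff.1 (eq_of_le_of_card_ge (by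
    rintro _ ⟨y, hy, rfl⟩
    exact haY y hy) (card_cj a _).ge)
  letI : MulAction ↥(zpowers a) Ω :=
    { smul := fun g W => ⟨cj (g : G) W.1, hcand W.1 W.2.1 g (hHa g g.2).1
        (fun y hy => (mem_normalizer_iff.1 (zpowers_le.2 haY' g.2) y).1 hy), fun h hh => cj_eq_iff.1 (by
          have h' : (g : G)⁻¹ * h * g ∈ H :=
            (mem_normalizer_iff.1 (hHa g g.2).2 _).2 (by simpa [mul_assoc] using hh)
          rw [cj_cj, show h * (g : G) = g * ((g : G)⁻¹ * h * g) by group, ← cj_cj,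
            cj_eq_iff.2 (W.2.2 h')])⟩
      one_smul := fun W => Subtype.ext (by
        show cj ((1 : zpowers a) : G) W.1 = W.1
        exact cj_eq_iff.2 (one_mem _))
      mul_smul := fun g h W => Subtype.ext (by
        show cj ((g * h : zpowers a) : G) W.1 = cj (g : G) (cj (h : G) W.1)
        rw [cj_cj]; rfl) }
  obtain ⟨⟨W, hW, hWn⟩, hfix⟩ := (hG.to_subgroup (zpowers a)).nonempty_fixed_point_of_prime_not_dvd_card Ω
    (fun hd => by
      have := ((Nat.modEq_zero_iff_dvd).2 hd).symm.trans hone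
      rw [Nat.ModEq, Nat.zero_mod, Nat.one_mod_eq_one.2 (Fact.out : p.Prime).ne_one] at this
      exact zero_ne_one this)
  exact ⟨W, (Pair.IsCand.top hP hG hW).1, hWn,
    cj_eq_iff.1 (congrArg Subtype.val (hfix ⟨a, mem_zpowers a⟩))⟩

/-- Some maximal abelian member is normalized by all permuting abelian subgroups. -/
theorem exists_normalized :
    ∃ B : Subgroup G, IsTopIso B ∧ ∀ A, IsPermuting A → A ≤ normalizer (B : Set G) := by
  classical
  haveI : Group.IsNilpotent G := hG.isNilpotent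
  obtain ⟨S, hS⟩ : ∃ S : Set G, S = {x | ∃ A, IsPermuting A ∧ x ∈ A} := ⟨_, rfl⟩
  have hperm : ∀ B, IsIso B → IsPermuting B := fun B hB => ⟨hB.2, fun K hK b hb k hk => by
    have hmem : b * k * b⁻¹ ∈ ((K ⊔ B : Subgroup G) : Set G) :=
      mul_mem (mul_mem (mem_sup_right hb) (mem_sup_left hk)) (inv_mem (mem_sup_right hb))
    rw [(large_pair hK.1 hB.1).1] at hmem
    obtain ⟨k', hk', α, hα, e⟩ := hmem
    exact ⟨k', hk', α, hα, e.symm⟩⟩
  have hSconj : ∀ g : G, ∀ x ∈ S, g * x * g⁻¹ ∈ S := by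
    intro g x hx
    rw [hS] at hx ⊢
    obtain ⟨A, hA, hxA⟩ := hx
    refine ⟨cj g A, ⟨?_, fun K hK c hc k hk => ?_⟩, ⟨x, hxA, rfl⟩⟩
    · rw [centralizer_map_conj]; exact map_mono hA.1
    · rw [cj_mem_iff] at hc
      obtain ⟨k', hk', α, hα, e⟩ := hA.2 (cj g⁻¹ K) (isIso_cj _ hK) _ hc (g⁻¹ * k * g)
        (cj_mem_iff.2 (by rw [inv_inv]; simpa [mul_assoc] using hk))
      rw [cj_mem_iff, inv_inv] at hk'
      refine ⟨g * k' * g⁻¹, hk', g * α * g⁻¹, ⟨α, hα, rfl⟩, ?_⟩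
      have := congrArg (fun z => g * z * g⁻¹) e
      simpa [mul_assoc] using this
  obtain ⟨Q, hQ⟩ := exists_cl (G := G)
  obtain ⟨R, -, hR⟩ := exists_mcl_le hQ
  have hC := isTopIso_centralizer hR
  obtain ⟨B, hB, hmax⟩ := (Set.toFinite {B : Subgroup G | IsTopIso B}).exists_maximalFor
    (fun B : Subgroup G => Nat.card ↥(closure (S ∩ (normalizer (B : Set G) : Set G))))
    {B : Subgroup G | IsTopIso B} ⟨_, hC⟩
  obtain ⟨H, hH⟩ : ∃ H, H = closure (S ∩ (normalizer (B : Set G) : Set G)) := ⟨_, rfl⟩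
  refine ⟨B, hB, fun A hA x hx => ?_⟩
  by_contra hxN
  -- some generator outside normalizes `H`
  have hex : ∃ a ∈ S, a ∈ normalizer (H : Set G) ∧ a ∉ H := by
    by_contra hno
    push Not at hno
    have heq : H = closure (S ∩ (normalizer (H : Set G) : Set G)) := by
      refine le_antisymm ?_ ((closure_le _).2 fun y hy => hno y hy.1 hy.2)
      conv_lhs => rw [hH]
      refine closure_mono fun y hy => ⟨hy.1, ?_⟩
      exact le_normalizer (hH ▸ subset_closure hy)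
    have hNN : normalizer ((normalizer (H : Set G) : Subgroup G) : Set G) ≤ normalizer (H : Set G) := by
      intro g hg
      refine cj_eq_iff.1 (eq_of_le_of_card_ge ?_ (card_cj g H).ge)
      conv_lhs => rw [heq]
      rw [cj, MonoidHom.map_closure, closure_le]
      rintro _ ⟨y, ⟨hyS, hyN⟩, rfl⟩
      exact hno _ (hSconj g y hyS) ((mem_normalizer_iff.1 hg y).1 hyN)
    have htop : normalizer (H : Set G) = ⊤ := by
      by_contra hne
      exact (lt_irrefl _ ((Group.normalizerCondition_of_isNilpotent _ (lt_top_iff_ne_top.2 hne)).trans_le hNN))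
    have hxS : x ∈ S := hS ▸ ⟨A, hA, hx⟩
    have hxH : x ∈ H := hno x hxS (htop ▸ mem_top x)
    rw [hH] at hxH
    exact hxN ((closure_le _).2 Set.inter_subset_right hxH)
  obtain ⟨a, haS, haN, haH⟩ := hex
  obtain ⟨A', hA', haA'⟩ : ∃ A', IsPermuting A' ∧ a ∈ A' := by rw [hS] at haS; exact haS
  have hHB : H ≤ normalizer (B : Set G) := hH ▸ (closure_le _).2 Set.inter_subset_right
  obtain ⟨W, hW, hHW, haW⟩ := exists_fixed_step hG haN hA' haA' hB hHB fun X hX hHX => by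
    -- members normalized by `H` lie in it
    intro y hy
    have hsub : H ≤ closure (S ∩ (normalizer (X : Set G) : Set G)) := by
      conv_lhs => rw [hH]
      exact closure_mono fun z hz => ⟨hz.1, hHX (hH ▸ subset_closure hz)⟩
    have hle : Nat.card ↥(closure (S ∩ (normalizer (X : Set G) : Set G))) ≤ Nat.card H := by
      have h1 := card_le_of_le hsub
      rw [hH] at h1 ⊢
      exact hmax hX h1
    rw [eq_of_le_of_card_ge hsub hle]
    exact subset_closure ⟨hS ▸ ⟨X, hperm X hX.1, hy⟩, le_normalizer hy⟩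
  have hsub : H ≤ closure (S ∩ (normalizer (W : Set G) : Set G)) := by
    conv_lhs => rw [hH]
    exact closure_mono fun z hz => ⟨hz.1, hHW (hH ▸ subset_closure hz)⟩
  have hle : Nat.card ↥(closure (S ∩ (normalizer (W : Set G) : Set G))) ≤ Nat.card H := by
    have h1 := card_le_of_le hsub
    rw [hH] at h1 ⊢
    exact hmax hW h1
  exact haH ((eq_of_le_of_card_ge hsub hle).symm ▸ subset_closure ⟨haS, haW⟩)

end Fixed

theorem isPermuting_maxAbelian {A : Subgroup G} (hA : A ∈ Cfsg.maxAbelianSubgroups G) :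
    IsPermuting A := by
  have hCA := centralizer_eq_of_maxAbelian hA
  refine ⟨hCA.ge, fun K hK a ha k hk => ?_⟩
  obtain ⟨hC, hKK⟩ := centralizer_large hK.1
  obtain ⟨Q, hQdef⟩ : ∃ Q, Q = centralizer (K : Set G) := ⟨_, rfl⟩
  have hQ : Cfsg.IsCentrallyLarge Q := hQdef ▸ cl_iff.2 ⟨hC, hKK.ge.trans hK.2⟩
  obtain ⟨hprod, -, hM⟩ := cl_sup_maxAbelian hQ hA
  have hKQ : K ≤ Q := hQdef ▸ hK.2
  have hQK : Q ⊓ centralizer (Q : Set G) = K := by
    rw [hQdef, ← hKK, inf_eq_right.2 hK.2]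
  rw [hQK] at hM
  have hmem : a * k * a⁻¹ ∈ ((Q ⊔ A : Subgroup G) : Set G) :=
    mul_mem (mul_mem (mem_sup_right ha) (mem_sup_left (hKQ hk))) (inv_mem (mem_sup_right ha))
  rw [hprod] at hmem
  obtain ⟨q, hq, α, hα, e'⟩ := hmem
  have e : q * α = a * k * a⁻¹ := e'
  have hqM : q ∈ K ⊔ Q ⊓ A := by
    rw [← centralizer_eq_of_maxAbelian hM, centralizer_sup]
    refine mem_inf.2 ⟨(hQdef ▸ hq : q ∈ centralizer (K : Set G)), mem_centralizer_iff.2 fun t ht => ?_⟩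
    obtain ⟨htQ, htA⟩ := mem_inf.1 ht
    have h1 : t * k = k * t :=
      (mem_centralizer_iff.1 (hQdef ▸ htQ : t ∈ centralizer (K : Set G)) k hk).symm
    have h2 : t * a = a * t := mem_centralizer_iff.1 (hCA.ge ha) t htA
    have h3 : t * α = α * t := mem_centralizer_iff.1 (hCA.ge hα) t htA
    have hc : Commute t (a * k * a⁻¹ * α⁻¹) :=
      (((Commute.mul_right h2 h1).mul_right (Commute.inv_right h2))).mul_right (Commute.inv_right h3)
    rw [← e, mul_inv_cancel_right] at hc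
    exact hc
  obtain ⟨k', hk', t, ht, hq'⟩ := ((coe_mul_of_left_le_normalizer_right K (Q ⊓ A)
    ((le_centralizer_iff.1 ((inf_le_left : Q ⊓ A ≤ Q).trans hQdef.le)).trans
      (centralizer_le_normalizer _))) ▸ hqM : q ∈ (K : Set G) * ((Q ⊓ A : Subgroup G) : Set G))
  exact ⟨k', hk', t * α, mul_mem (mem_inf.1 ht).2 hα, by
    rw [← e, ← (hq' : k' * t = q), mul_assoc]⟩

end CfsgLib.CDLat
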