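import Cfsg.Agent.Lib.Invol.PConstrained
import Cfsg.Agent.Lib.Fusion.Sylow
import Cfsg.Agent.Lib.Coprime.ExtendedTwoLayer
import Cfsg.Prelude.Def_LocalStructure
import Cfsg.Prelude.Def_LocalEven

/-!
# Characteristic `p` of local subgroups
-/

set_option autoImplicit false
set_option linter.style.haveILetI false

open Subgroup CfsgLib.Coprime CfsgLib.Invol

namespace CfsgLib.CharPLoc

variable {G : Type*} [Group G] [Finite G] {p : ℕ} [Fact p.Prime]

theorem fStar_eq_pCore_iff : Cfsg.generalizedFittingSubgroup G = Cfsg.pCore p G ↔ PClean p G := by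
  rw [← isPGroup_generalizedFitting_iff]
  refine ⟨fun h => h ▸ pCore_isPGroup p, fun h => le_antisymm ?_ ?_⟩
  · haveI := generalizedFitting_normal (G := G)
    exact CfsgLib.Coprime.le_pCore h
  · exact (pCore_le_fitting p).trans fitting_le_generalizedFitting

theorem centralizer_singleton_eq (z : G) :
    centralizer ({z} : Set G) = centralizer ((zpowers z : Subgroup G) : Set G) := by
  rw [zpowers_eq_closure, centralizer_closure]

/-- A normal subgroup of a group of characteristic `p` has characteristic `p`. -/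
theorem pClean_of_normal {N : Subgroup G} [N.Normal] (h : PClean p G) : PClean p N := by
  intro y hy hc
  haveI := pCore_normal' (G := G) p
  set P := Cfsg.pCore p G with hP
  have hPp : IsPGroup p P := pCore_isPGroup p
  set Y := zpowers (y : G) with hY
  have hyo : (orderOf (y : G)).Coprime p := by rwa [Subgroup.orderOf_coe]
  have hYP : Y ≤ normalizer (P : Set G) := by rw [normalizer_eq_top]; exact le_top
  have hcop : (Nat.card Y).Coprime (Nat.card P) := by
    obtain ⟨k, hk⟩ := hPp.exists_card_eq
    rw [hk, Nat.card_zpowers]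
    exact hyo.pow_right k
  haveI := hPp.isNilpotent
  have h1 : ⁅P, Y⁆ ≤ P ⊓ N := le_inf
    (by rw [commutator_comm]; exact le_normalizer_iff_commutator_le_right.1 hYP)
    ((commutator_mono le_rfl (zpowers_le.2 y.2)).trans (commutator_le_right P N))
  have h2 : P ⊓ N ≤ centralizer (Y : Set G) := by
    intro x hx
    have hx' : x ∈ (Cfsg.pCore p N).map N.subtype := by
      rw [pCore_map_subtype_eq p N]
      first
        | exact hx
        | exact ⟨hx.2, hx.1⟩
    obtain ⟨w, hw, rfl⟩ := hx'
    rw [hY, zpowers_eq_closure, centralizer_closure, mem_centralizer_singleton_iff]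
    exact congrArg Subtype.val (mem_centralizer_iff.1 hc w hw)
  have h3 := le_centralizer_of_le_centralizer_commutator hYP hcop (Or.inr inferInstance)
    (le_centralizer_iff.1 (h1.trans h2))
  exact Subtype.ext (h y hyo (h3 (mem_zpowers _)))

/-- A subnormal subgroup of a group of characteristic `p` has characteristic `p`. -/
theorem pClean_of_isSubnormal {N : Subgroup G} (hN : N.IsSubnormal) (h : PClean p G) :
    PClean p N := by
  induction hc : Nat.card G using Nat.strong_induction_on generalizing G with
  | _ n ih =>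
    subst hc
    by_cases htop : N = ⊤
    · exact pClean_subgroup_congr htop.symm (pClean_congr Subgroup.topEquiv.symm h)
    obtain ⟨K, hK, hle, hlt⟩ := hN.exists_normal_and_le_and_lt_top_of_ne htop
    haveI := hK
    have hlt' : Nat.card K < Nat.card G :=
      lt_of_not_ge fun hge => hlt.ne (Subgroup.eq_top_of_le_card K hge)
    have := ih _ hlt' (G := K) (N := N.subgroupOf K) (hN.comap K.subtype) (pClean_of_normal h) rfl
    exact pClean_congr (subgroupOfEquivOfLe hle) this

/-- A normal `p`-subgroup with centralizer of characteristic `p` forces characteristic `p`. -/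
theorem pClean_of_centralizer_normal {T : Subgroup G} [T.Normal] (hT : IsPGroup p T)
    (h : PClean p ↥(centralizer (T : Set G))) : PClean p G := by
  intro y hy hc
  set C := centralizer (T : Set G) with hC
  have hTO : T ≤ Cfsg.pCore p G := CfsgLib.Coprime.le_pCore hT
  have hyC : y ∈ C := Subgroup.centralizer_le hTO hc
  have h1 := h ⟨y, hyC⟩ (by rwa [← Subgroup.orderOf_coe]) (mem_centralizer_iff.2 fun x hx => Subtype.ext ?_)
  · exact congrArg Subtype.val h1
  · have hx' : (x : G) ∈ (Cfsg.pCore p C).map C.subtype := mem_map_of_mem _ hx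
    rw [pCore_map_subtype_eq p C] at hx'
    first
      | exact mem_centralizer_iff.1 hc _ hx'.1
      | exact mem_centralizer_iff.1 hc _ hx'.2

theorem centralizer_subgroupOf {X T : Subgroup G} (hTX : T ≤ X) :
    centralizer (T.subgroupOf X : Set X) = (centralizer (T : Set G)).subgroupOf X := by
  ext x
  constructor
  · intro hx
    refine mem_subgroupOf.2 (mem_centralizer_iff.2 fun t ht => ?_)
    exact congrArg Subtype.val (mem_centralizer_iff.1 hx ⟨t, hTX ht⟩ (mem_subgroupOf.2 ht))
  · intro hx
    exact mem_centralizer_iff.2 fun t ht =>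
      Subtype.ext (mem_centralizer_iff.1 (mem_subgroupOf.1 hx) t (mem_subgroupOf.1 ht))

/-- `N(T)` has characteristic `p` exactly when `C(T)` does. -/
theorem pClean_normalizer_iff {T : Subgroup G} (hT : IsPGroup p T) :
    PClean p ↥(normalizer (T : Set G)) ↔ PClean p ↥(centralizer (T : Set G)) := by
  set N := normalizer (T : Set G) with hN
  have hTN : T ≤ N := le_normalizer
  constructor
  · intro h
    have := pClean_inf_centralizer h hT (hTN.trans le_normalizer)
    rwa [inf_eq_right.2 (centralizer_le_normalizer _)] at this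
  · intro h
    haveI : (T.subgroupOf N).Normal := (normal_subgroupOf_iff_le_normalizer hTN).2 le_rfl
    refine pClean_of_centralizer_normal (T := T.subgroupOf N)
      (hT.of_equiv (subgroupOfEquivOfLe hTN).symm) ?_
    exact pClean_congr ((MulEquiv.subgroupCongr (centralizer_subgroupOf hTN)).trans
      (subgroupOfEquivOfLe (centralizer_le_normalizer _))).symm h

/-- Characteristic `p` of an element centralizer passes to normalizers of `p`-groups containing it
in the centre. -/
theorem pClean_normalizer_of_central {z : G} {R : Subgroup G} (hR : IsPGroup p R) (hz : z ∈ R)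
    (h : PClean p ↥(centralizer ({z} : Set G))) : PClean p ↥(normalizer (R : Set G)) :=
  (pClean_normalizer_iff hR).2 (pClean_centralizer_mono (zpowers_le.2 hz) hR
    (pClean_subgroup_congr (centralizer_singleton_eq z) h))

theorem centralizer_singleton_map (g z : G) :
    (centralizer ({z} : Set G)).map (MulAut.conj g).toMonoidHom =
      centralizer ({g * z * g⁻¹} : Set G) := by
  ext x
  rw [mem_map_equiv, MulAut.conj_symm_apply, mem_centralizer_singleton_iff,
    mem_centralizer_singleton_iff]
  constructor
  · intro h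
    calc x * (g * z * g⁻¹) = g * (g⁻¹ * x * g * z) * g⁻¹ := by group
      _ = g * (z * (g⁻¹ * x * g)) * g⁻¹ := by rw [h]
      _ = g * z * g⁻¹ * x := by group
  · intro h
    calc g⁻¹ * x * g * z = g⁻¹ * (x * (g * z * g⁻¹)) * g := by group
      _ = g⁻¹ * (g * z * g⁻¹ * x) * g := by rw [h]
      _ = z * (g⁻¹ * x * g) := by group

theorem pClean_centralizer_conj {z : G} (g : G) (h : PClean p ↥(centralizer ({z} : Set G))) :
    PClean p ↥(centralizer ({g * z * g⁻¹} : Set G)) :=
  pClean_subgroup_congr (centralizer_singleton_map g z)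
    (pClean_congr ((centralizer ({z} : Set G)).equivMapOfInjective _ (MulAut.conj g).injective) h)

/-- A nontrivial subgroup of a `p`-group normalized by it contains a central element of order `p`. -/
theorem exists_central_order {T R : Subgroup G} (hT : IsPGroup p T) (hRT : R ≤ T)
    (hTR : T ≤ normalizer (R : Set G)) (hR : R ≠ ⊥) :
    ∃ z ∈ R, orderOf z = p ∧ ∀ t ∈ T, t * z = z * t := by
  haveI := hT.isNilpotent
  haveI : (R.subgroupOf T).Normal := (normal_subgroupOf_iff_le_normalizer hRT).2 hTR
  have hne := CfsgLib.Coprime.nilpotent_inf_center_ne_bot (R.subgroupOf T) fun e =>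
    hR (by rw [← Subgroup.map_subgroupOf_eq_of_le hRT, e, Subgroup.map_bot])
  obtain ⟨z, hz⟩ := exists_prime_orderOf_dvd_card' (G := ↥(R.subgroupOf T ⊓ center T)) p (by
    haveI : Nontrivial ↥(R.subgroupOf T ⊓ center T) := (Subgroup.nontrivial_iff_ne_bot _).2 hne
    obtain ⟨k, hk, hk'⟩ := (hT.to_subgroup (R.subgroupOf T ⊓ center T)).nontrivial_iff_card.1
      inferInstance
    rw [hk']
    exact dvd_pow_self p hk.ne')
  refine ⟨((z : T) : G), z.2.1, by rw [Subgroup.orderOf_coe, Subgroup.orderOf_coe, hz],
    fun t ht => congrArg Subtype.val (mem_center_iff.1 z.2.2 ⟨t, ht⟩)⟩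

/-- Parabolic characteristic `p` passes to a subnormal subgroup `H` once the central elements of order
`p` of the Sylow subgroup `S ⊓ H` are central in `S`. -/
theorem isOfParabolicCharacteristic_of_isSubnormal (S : Sylow p G) {H : Subgroup G}
    (hsn : H.IsSubnormal) (hG : Cfsg.IsOfParabolicCharacteristic p G)
    (hcl : ∀ w ∈ (S : Subgroup G) ⊓ H, (∀ s ∈ (S : Subgroup G) ⊓ H, s * w = w * s) → w ^ p = 1 →
      ∀ s ∈ (S : Subgroup G), s * w = w * s) :
    Cfsg.IsOfParabolicCharacteristic p H := by
  classical
  intro R hR hR1 hpar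
  obtain ⟨T, hT⟩ := hpar
  have hRT : R ≤ (T : Subgroup H) :=
    le_sup_left.trans_eq (T.3 (hR.to_sup_of_normal_left' T.2 hT) le_sup_right)
  obtain ⟨z, hzR, hzo, hzc⟩ := exists_central_order T.2 hRT hT hR1
  set T' := (T : Subgroup H).map H.subtype with hT'
  have hi := CfsgLib.Coprime.not_dvd_relIndex_inf_of_isSubnormal S hsn
  obtain ⟨k, hk, hkle⟩ := CfsgLib.Fusion.exists_conj_le_of_not_dvd_relIndex
    (S.2.to_le inf_le_left) inf_le_right hi (T.2.map H.subtype) (Subgroup.map_subtype_le _)
  have hle : (S : Subgroup G) ⊓ H ≤ H := inf_le_right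
  have hTeq : CfsgLib.Fusion.conjBy k T' = (S : Subgroup G) ⊓ H := by
    refine Subgroup.eq_of_le_of_card_ge hkle ?_
    obtain ⟨U, hU⟩ := ((S.2.to_le (inf_le_left : (S : Subgroup G) ⊓ H ≤ S)).of_equiv
      (subgroupOfEquivOfLe hle).symm).exists_le_sylow
    rw [CfsgLib.Fusion.card_conjBy, hT', card_map_of_injective H.subtype_injective,
      ← Nat.card_congr (subgroupOfEquivOfLe hle).toEquiv, T.card_eq_multiplicity,
      ← U.card_eq_multiplicity]
    exact card_le_of_le hU
  set w := k * (z : G) * k⁻¹ with hw
  have hwmem : w ∈ (S : Subgroup G) ⊓ H :=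
    hkle (CfsgLib.Fusion.conj_mem_conjBy ⟨z, hRT hzR, rfl⟩)
  have hwp : w ^ p = 1 := by
    rw [hw, conj_pow, ← Subgroup.coe_pow, ← hzo, pow_orderOf_eq_one, Subgroup.coe_one, mul_one,
      mul_inv_cancel]
  have hwc : ∀ s ∈ (S : Subgroup G) ⊓ H, s * w = w * s := by
    intro s hs
    rw [← hTeq] at hs
    obtain ⟨t, ht, hts⟩ := CfsgLib.Fusion.mem_conjBy.1 hs
    have hts' : (t : G) = k⁻¹ * s * k := hts
    have h1 : (t : G) * z = z * t := congrArg Subtype.val (hzc t ht)
    rw [hts'] at h1
    calc s * w = k * ((k⁻¹ * s * k) * (z : G)) * k⁻¹ := by rw [hw]; group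
      _ = k * ((z : G) * (k⁻¹ * s * k)) * k⁻¹ := by rw [h1]
      _ = w * s := by rw [hw]; group
  have hwS := hcl w hwmem hwc hwp
  set Z := zpowers w with hZ
  have hZp : IsPGroup p Z := S.2.to_le (zpowers_le.2 hwmem.1)
  have hw1 : w ≠ 1 := fun e => by
    rw [hw, conj_eq_one_iff] at e
    rw [← Subgroup.orderOf_coe, e, orderOf_one] at hzo
    exact (Fact.out : p.Prime).ne_one hzo.symm
  have hSN : (S : Subgroup G) ≤ normalizer (Z : Set G) := by
    refine le_trans ?_ (centralizer_le_normalizer _)
    rw [hZ, ← centralizer_singleton_eq]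
    exact fun s hs => mem_centralizer_singleton_iff.2 (hwS s hs)
  have h1 := pClean_of_centralizer_le
    (hG _ hZp (fun e => hw1 (zpowers_eq_bot.1 e)) ⟨S, hSN⟩)
  have h2 := pClean_subgroup_congr (centralizer_singleton_eq w).symm
    ((pClean_normalizer_iff hZp).1 h1)
  have h3 := pClean_centralizer_conj k⁻¹ h2
  rw [show k⁻¹ * w * k⁻¹⁻¹ = (z : G) by rw [hw]; group] at h3
  have h4 := pClean_of_isSubnormal (N := H.subgroupOf (centralizer ({(z : G)} : Set G)))
    (hsn.comap _) h3
  let e : ↥(H.subgroupOf (centralizer ({(z : G)} : Set G))) ≃* ↥(centralizer ({z} : Set H)) :=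
    { toFun := fun a => ⟨⟨(a : G), a.2⟩, mem_centralizer_singleton_iff.2
        (Subtype.ext (mem_centralizer_singleton_iff.1 a.1.2))⟩
      invFun := fun a => ⟨⟨(a : G), mem_centralizer_singleton_iff.2
        (congrArg Subtype.val (mem_centralizer_singleton_iff.1 a.2))⟩, a.1.2⟩
      left_inv := fun _ => rfl
      right_inv := fun _ => rfl
      map_mul' := fun _ _ => rfl }
  exact (pClean_normalizer_of_central hR hzR (pClean_congr e h4)).centralizer_le

end CfsgLib.CharPLoc
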