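import Cfsg.Agent.Lib.PGroup.InvolutionSign
import Cfsg.Agent.Lib.PGroup.ExtraspecialClassify
import Cfsg.Agent.Lib.PGroup.FrattiniLe
import Cfsg.Prelude.Def_CaseTheorems

/-!
# Involution counts, ranks and uniqueness for extraspecial two-groups
-/

set_option autoImplicit false
set_option linter.unusedSectionVars false
set_option linter.style.haveILetI false

open Subgroup
open scoped commutatorElement

namespace CfsgLib.PGroup

universe u v

theorem mem_pair_of_card_two {G : Type u} [Group G] {A : Subgroup G} (hA : Nat.card A = 2)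
    {z g : G} (hz : z ∈ A) (hz1 : z ≠ 1) (hg : g ∈ A) : g = 1 ∨ g = z := by
  obtain ⟨a, b, -, huniv⟩ := Nat.card_eq_two_iff.1 hA
  have m : ∀ w : A, w = a ∨ w = b := fun w => by
    have hw : w ∈ ({a, b} : Set A) := huniv ▸ Set.mem_univ w
    simpa using hw
  have hne : (⟨z, hz⟩ : A) ≠ 1 := fun e => hz1 (congrArg Subtype.val e)
  rcases m ⟨g, hg⟩ with e1 | e1 <;> rcases m ⟨z, hz⟩ with e2 | e2 <;> rcases m 1 with e3 | e3
  all_goals first
    | exact absurd (e2.trans e3.symm) hne
    | exact Or.inl (congrArg Subtype.val (e1.trans e3.symm))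
    | exact Or.inr (congrArg Subtype.val (e1.trans e2.symm))

/-- The integer square roots of a power of two. -/
theorem eq_pow_two_of_sq_eq {S : ℤ} {m : ℕ} (hS : S * S = 2 ^ m) :
    ∃ k, m = 2 * k ∧ (S = 2 ^ k ∨ S = -(2 ^ k)) := by
  have h1 : S.natAbs * S.natAbs = 2 ^ m := by
    have := congrArg Int.natAbs hS
    simpa [Int.natAbs_mul, Int.natAbs_pow] using this
  obtain ⟨k, -, hk⟩ := (Nat.dvd_prime_pow Nat.prime_two).1 (Dvd.intro _ h1)
  refine ⟨k, ?_, ?_⟩
  · refine (Nat.pow_right_injective (le_refl 2) ?_).symm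
    show 2 ^ (2 * k) = 2 ^ m
    rw [← h1, hk, two_mul, pow_add]
  · rcases Int.natAbs_eq S with e | e
    · left; rw [e, hk]; push_cast; rfl
    · right; rw [e, hk]; push_cast; rfl

section constructors

variable {G : Type u} [Group G] [Finite G]

/-- A two-group with Frattini subgroup of order two. -/
theorem SquareData.of_frattini (hG : IsPGroup 2 G) (hΦ : Nat.card (frattini G) = 2) :
    ∃ z, SquareData z ∧ z ∈ frattini G ∧ frattini G ≤ center G := by
  haveI := Fact.mk Nat.prime_two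
  haveI : Nontrivial (frattini G) := by
    rw [← Finite.one_lt_card_iff_nontrivial, hΦ]; exact one_lt_two
  obtain ⟨⟨z, hz⟩, hzne⟩ := exists_ne (1 : frattini G)
  have hz1 : z ≠ 1 := fun e => hzne (Subtype.ext e)
  have hle : frattini G ≤ center G := by
    intro g hg
    refine mem_center_iff.2 fun w => ?_
    by_cases hg1 : g = 1
    · simp [hg1]
    have hc : w * g * w⁻¹ ∈ frattini G := (inferInstance : (frattini G).Normal).conj_mem g hg w
    rcases mem_pair_of_card_two hΦ hg hg1 hc with e | e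
    · exact absurd (by simpa using e) hg1
    · calc w * g = w * g * w⁻¹ * w := by group
        _ = g * w := by rw [e]
  refine ⟨z, ⟨hle hz, hz1, ?_, fun g => mem_pair_of_card_two hΦ hz hz1
      (CfsgLib.Coprime.pow_mem_frattini hG g), fun a b => mem_pair_of_card_two hΦ hz hz1 ?_⟩, hz, hle⟩
  · have h2 : (⟨z, hz⟩ : frattini G) ^ 2 = 1 := by rw [← hΦ]; exact pow_card_eq_one'
    exact congrArg Subtype.val h2
  · refine CfsgLib.Coprime.commutator_le_frattini hG ?_
    rw [_root_.commutator_def]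
    exact commutator_mem_commutator (mem_top a) (mem_top b)

/-- A group with small centre. -/
theorem SmallCenter.squareData (h : SmallCenter 2 G) {z : G} (hz : z ∈ center G) (hz1 : z ≠ 1) :
    SquareData z :=
  ⟨hz, hz1, by
      haveI := Fact.mk Nat.prime_two
      exact h.orderOf_eq hz hz1 ▸ pow_orderOf_eq_one z,
    fun g => mem_pair_of_card_two h.card_center hz hz1 (h.pow_mem g),
    fun a b => mem_pair_of_card_two h.card_center hz hz1 (h.comm_mem a b)⟩

/-- With a centre of order two the sign sum is `± 2 ^ (n + 1)`. -/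
theorem SmallCenter.signSum_cases (h : SmallCenter 2 G) {n : ℕ}
    (hn : Nat.card G = 2 ^ (2 * n + 1)) :
    signSum G = 2 ^ (n + 1) ∨ signSum G = -(2 ^ (n + 1)) := by
  haveI : Nontrivial (center G) := by
    rw [← Finite.one_lt_card_iff_nontrivial, h.card_center]; exact one_lt_two
  obtain ⟨⟨z, hz⟩, hzne⟩ := exists_ne (1 : center G)
  have hz1 : z ≠ 1 := fun e => hzne (Subtype.ext e)
  have hd := h.squareData hz hz1
  have hsq := hd.sq_signSum
  rw [if_pos, hn, h.card_center] at hsq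
  · push_cast at hsq
    rw [← pow_succ] at hsq
    obtain ⟨k, hk, e⟩ := eq_pow_two_of_sq_eq hsq
    obtain rfl : k = n + 1 := by omega
    exact e
  · intro t ht
    rcases mem_pair_of_card_two h.card_center hz hz1 ht with rfl | rfl
    · exact one_pow _
    · exact hd.sq_eq

end constructors

section rank

variable {G : Type u} [Group G] [Finite G] {z : G}

/-- The sign sum from a maximal elementary abelian subgroup. -/
theorem SquareData.signSum_of_maximal (h : SquareData z) (A : Subgroup G) (hA : ∀ a ∈ A, a ^ 2 = 1)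
    (hmax : ∀ g, g ∈ centralizer (A : Set G) → g ^ 2 = 1 → g ∈ A) :
    signSum G = 2 * (Nat.card A : ℤ) - Nat.card (centralizer (A : Set G)) := by
  classical
  letI := Fintype.ofFinite G
  have hAC : ∀ a ∈ A, a ∈ centralizer (A : Set G) := fun a ha => mem_centralizer_iff.2 fun b hb => by
    have e := hA _ (A.mul_mem hb ha)
    have ha2 := hA a ha
    have hb2 := hA b hb
    rw [pow_two] at e ha2 hb2
    calc b * a = b * a * ((b * a) * (b * a))⁻¹ := by rw [e, inv_one, mul_one]
      _ = a⁻¹ * b⁻¹ := by group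
      _ = a * b := by rw [inv_eq_of_mul_eq_one_left ha2, inv_eq_of_mul_eq_one_left hb2]
  rw [signSum_eq, h.sum_eq_centralizer A hA]
  have e : ∀ g ∈ Finset.univ.filter (· ∈ centralizer (A : Set G)),
      invSign g = 2 * (if g ∈ A then 1 else 0) - 1 := by
    intro g hg
    rw [Finset.mem_filter] at hg
    by_cases hgA : g ∈ A
    · rw [invSign_of_sq (hA g hgA), if_pos hgA]; rfl
    · rw [invSign_of_ne (fun e => hgA (hmax g hg.2 e)), if_neg hgA]; rfl
  rw [Finset.sum_congr rfl e, Finset.sum_sub_distrib, ← Finset.mul_sum, Finset.sum_boole,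
    Finset.filter_filter, Finset.sum_const, nsmul_eq_mul, mul_one]
  have e1 : Finset.univ.filter (fun g => g ∈ centralizer (A : Set G) ∧ g ∈ A) =
      Finset.univ.filter (· ∈ A) := by
    ext g
    simp only [Finset.mem_filter, Finset.mem_univ, true_and]
    exact ⟨fun hh => hh.2, fun hh => ⟨hAC g hh, hh⟩⟩
  rw [e1, Nat.card_eq_fintype_card, Nat.card_eq_fintype_card, Fintype.card_subtype,
    Fintype.card_subtype]

/-- Elementary abelian subgroups lie in ones that are maximal. -/
theorem exists_maximal_exponent_two (B : Subgroup G) (hB : ∀ b ∈ B, b ^ 2 = 1) :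
    ∃ A : Subgroup G, B ≤ A ∧ (∀ a ∈ A, a ^ 2 = 1) ∧
      ∀ g, g ∈ centralizer (A : Set G) → g ^ 2 = 1 → g ∈ A := by
  obtain ⟨A, ⟨hBA, hA⟩, hmax⟩ := (Set.toFinite
    {A : Subgroup G | B ≤ A ∧ ∀ a ∈ A, a ^ 2 = 1}).exists_maximal ⟨B, le_rfl, hB⟩
  refine ⟨A, hBA, hA, fun g hg hg2 => ?_⟩
  have hZ : zpowers g ≤ normalizer (A : Set G) :=
    zpowers_le.2 (centralizer_le_normalizer _ hg)
  refine hmax ⟨hBA.trans le_sup_left, fun w hw => ?_⟩ le_sup_left (mem_sup_right (mem_zpowers g))
  rw [← SetLike.mem_coe, coe_mul_of_right_le_normalizer_left A (zpowers g) hZ] at hw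
  obtain ⟨a, ha, _, ⟨i, rfl⟩, rfl⟩ := Set.mem_mul.1 hw
  have hc : Commute a g := (mem_centralizer_iff.1 hg a ha)
  rw [(hc.zpow_right i).mul_pow, hA a ha, one_mul]
  rw [← zpow_natCast, ← zpow_mul, mul_comm, zpow_mul, zpow_natCast, hg2, one_zpow]

/-- The sizes of the maximal elementary abelian subgroups. -/
theorem SmallCenter.maximal_card (h : SmallCenter 2 G) {n : ℕ} (hn : Nat.card G = 2 ^ (2 * n + 1))
    (A : Subgroup G) (hA : ∀ a ∈ A, a ^ 2 = 1)
    (hmax : ∀ g, g ∈ centralizer (A : Set G) → g ^ 2 = 1 → g ∈ A) :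
    (signSum G = 2 ^ (n + 1) ∧ Nat.card A = 2 ^ (n + 1)) ∨
      (signSum G = -(2 ^ (n + 1)) ∧ Nat.card A = 2 ^ n) := by
  haveI := Fact.mk Nat.prime_two
  haveI : Nontrivial (center G) := by
    rw [← Finite.one_lt_card_iff_nontrivial, h.card_center]; exact one_lt_two
  obtain ⟨⟨z, hz⟩, hzne⟩ := exists_ne (1 : center G)
  have hd := h.squareData hz fun e => hzne (Subtype.ext e)
  have hS := hd.signSum_of_maximal A hA hmax
  obtain ⟨a, -, ha⟩ := (Nat.dvd_prime_pow Nat.prime_two).1 (hn ▸ A.card_subgroup_dvd_card)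
  obtain ⟨c, -, hc⟩ := (Nat.dvd_prime_pow Nat.prime_two).1
    (hn ▸ (centralizer (A : Set G)).card_subgroup_dvd_card)
  rw [ha, hc] at hS
  push_cast at hS
  rcases h.signSum_cases hn with e | e
  · left
    refine ⟨e, ?_⟩
    have hac : A ≤ centralizer (A : Set G) := fun x hx => mem_centralizer_iff.2 fun b hb => by
      have h1 := hA _ (A.mul_mem hb hx)
      have hx2 := hA x hx
      have hb2 := hA b hb
      rw [pow_two] at h1 hx2 hb2
      calc b * x = b * x * ((b * x) * (b * x))⁻¹ := by rw [h1, inv_one, mul_one]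
        _ = x⁻¹ * b⁻¹ := by group
        _ = x * b := by rw [inv_eq_of_mul_eq_one_left hx2, inv_eq_of_mul_eq_one_left hb2]
    have hle : 2 ^ a ≤ 2 ^ c := by rw [← ha, ← hc]; exact Subgroup.card_le_of_le hac
    obtain hlt | heq := (Nat.pow_le_pow_iff_right one_lt_two).1 hle |>.lt_or_eq
    · exfalso
      have : (2 : ℤ) ^ (a + 1) ≤ 2 ^ c := pow_le_pow_right₀ one_le_two (by omega)
      have hp : (0 : ℤ) < 2 ^ (n + 1) := by positivity
      rw [pow_succ] at this
      omega
    · subst heq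
      have : (2 : ℤ) ^ a = 2 ^ (n + 1) := by omega
      rw [ha]
      exact_mod_cast this
  · right
    refine ⟨e, ?_⟩
    have hp : (0 : ℤ) < 2 ^ (n + 1) := by positivity
    have h2c : (2 : ℤ) ^ (a + 1) < 2 ^ c := by rw [pow_succ]; omega
    have hac : a + 1 < c := (pow_lt_pow_iff_right₀ one_lt_two).1 h2c
    obtain ⟨j, rfl⟩ : ∃ j, c = a + 1 + (j + 1) := ⟨c - (a + 2), by omega⟩
    have hfac : (2 : ℤ) ^ (n + 1) = 2 ^ (a + 1) * (2 ^ (j + 1) - 1) := by
      have h2 : (2 : ℤ) ^ (a + 1 + (j + 1)) = 2 ^ (a + 1) * 2 ^ (j + 1) := pow_add _ _ _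
      have h3 : (2 : ℤ) ^ (a + 1) = 2 ^ a * 2 := pow_succ _ _
      rw [e, h2] at hS
      rw [mul_sub, mul_one]
      linarith
    have hfac' : 2 ^ (n + 1) = 2 ^ (a + 1) * (2 ^ (j + 1) - 1) := by
      have h1 : 1 ≤ 2 ^ (j + 1) := Nat.one_le_two_pow
      zify [h1]
      exact hfac
    obtain ⟨i, -, hi⟩ := (Nat.dvd_prime_pow Nat.prime_two).1 (Dvd.intro_left _ hfac'.symm)
    have hi0 : i = 0 := by
      rcases i with _ | i
      · rfl
      · exfalso
        have h1 : 1 ≤ 2 ^ j := Nat.one_le_two_pow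
        rw [pow_succ, pow_succ] at hi
        omega
    rw [hi, hi0, pow_zero, mul_one] at hfac'
    have := Nat.pow_right_injective (le_refl 2) hfac'
    rw [ha]
    congr 1
    omega

/-- The elementary abelian rank is determined by the sign sum. -/
theorem SmallCenter.rank_le_iff (h : SmallCenter 2 G) {n : ℕ} (hn : Nat.card G = 2 ^ (2 * n + 1))
    (k : ℕ) : Cfsg.PRankLE 2 k G ↔
      (signSum G = 2 ^ (n + 1) ∧ n + 1 ≤ k) ∨ (signSum G = -(2 ^ (n + 1)) ∧ n ≤ k) := by
  constructor
  · intro hk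
    obtain ⟨A, -, hA, hmax⟩ := exists_maximal_exponent_two (⊥ : Subgroup G)
      (fun b hb => by rw [mem_bot.1 hb, one_pow])
    have hcomm : IsMulCommutative A := ⟨⟨fun a b => by
      have e := hA _ (A.mul_mem a.2 b.2)
      have ha := hA _ a.2
      have hb := hA _ b.2
      rw [pow_two] at e ha hb
      apply Subtype.ext
      calc (a : G) * b = a * b * ((a * b) * (a * b : G))⁻¹ := by rw [e, inv_one, mul_one]
        _ = (b : G)⁻¹ * (a : G)⁻¹ := by group
        _ = b * a := by rw [inv_eq_of_mul_eq_one_left ha, inv_eq_of_mul_eq_one_left hb]⟩⟩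
    have := hk A hcomm hA
    rcases h.maximal_card hn A hA hmax with ⟨e, hc⟩ | ⟨e, hc⟩ <;> rw [hc] at this
    · exact Or.inl ⟨e, (Nat.pow_le_pow_iff_right one_lt_two).1 this⟩
    · exact Or.inr ⟨e, (Nat.pow_le_pow_iff_right one_lt_two).1 this⟩
  · intro hk B _ hB
    obtain ⟨A, hBA, hA, hmax⟩ := exists_maximal_exponent_two B hB
    refine (Subgroup.card_le_of_le hBA).trans ?_
    have hp : (0 : ℤ) < 2 ^ (n + 1) := by positivity
    rcases h.maximal_card hn A hA hmax with ⟨e, hc⟩ | ⟨e, hc⟩ <;> rw [hc] <;>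
      refine Nat.pow_le_pow_right two_pos ?_ <;> rcases hk with ⟨e', hk⟩ | ⟨e', hk⟩ <;> omega

end rank

section classify

/-- Splitting off a dihedral factor doubles the sign sum. -/
theorem SquareData.signSum_pair {G : Type u} [Group G] [Finite G] {z x y : G} (h : SquareData z)
    (hx : x ^ 2 = 1) (hxy : ⁅x, y⁆ = z) :
    signSum G = 2 * signSum ↥(centralizer {x} ⊓ centralizer {y}) := by
  classical
  letI := Fintype.ofFinite G
  set C := centralizer {x} ⊓ centralizer {y} with hC
  have hA : ∀ a ∈ zpowers x, a ^ 2 = 1 := by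
    rintro _ ⟨i, rfl⟩
    rw [← zpow_natCast, ← zpow_mul, mul_comm, zpow_mul, zpow_natCast, hx, one_zpow]
  have memC : ∀ g, g ∈ C ↔ g * x = x * g ∧ g * y = y * g := fun g => by
    rw [hC, mem_inf, mem_centralizer_singleton_iff, mem_centralizer_singleton_iff]
  have mem2 : ∀ g, g ∈ centralizer ((zpowers x : Subgroup G) : Set G) ↔ g * x = x * g :=
    fun g => by
      rw [mem_centralizer_iff]
      exact ⟨fun hg => (hg x (mem_zpowers x)).symm, fun hg w ⟨i, hi⟩ => hi ▸
        (Commute.zpow_left (hg.symm : Commute x g) i).eq⟩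
  have hxinv : x⁻¹ = x := inv_eq_of_mul_eq_one_right (by rw [← pow_two, hx])
  have hCx : ∀ g, g ∈ centralizer ((zpowers x : Subgroup G) : Set G) →
      g ∈ C ∨ g * x ∈ C := by
    intro g hg
    rcases h.comm_mem g y with e | e
    · exact Or.inl ((memC g).2 ⟨(mem2 g).1 hg, commutatorElement_eq_one_iff_mul_comm.1 e⟩)
    · refine Or.inr ((memC _).2 ⟨by rw [(mem2 g).1 hg, mul_assoc, (mem2 g).1 hg],
        commutatorElement_eq_one_iff_mul_comm.1 ?_⟩)
      rw [h.comm_mul, e, hxy, ← pow_two, h.sq_eq]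
  have hnot : ∀ g, g ∈ C → g * x ∉ C := by
    intro g hg hgx
    have hxC : x ∈ C := by simpa using C.mul_mem (C.inv_mem hg) hgx
    apply h.ne_one
    rw [← hxy, commutatorElement_eq_one_iff_mul_comm]
    exact ((memC x).1 hxC).2
  have hs : ∀ g, g ∈ C → invSign (g * x) = invSign g := by
    intro g hg
    rw [h.invSign_mul, invSign_of_sq hx, commutatorElement_eq_one_iff_mul_comm.2
      ((memC g).1 hg).1.symm, markSign_one, one_mul, mul_one]
  rw [signSum_eq, h.sum_eq_centralizer _ hA, signSum_eq,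
    Finset.sum_congr rfl (fun (c : C) _ => show invSign c = invSign (c : G) from by
      by_cases hh : (c : G) ^ 2 = 1
      · rw [invSign_of_sq hh, invSign_of_sq (Subtype.ext (by simpa using hh))]
      · rw [invSign_of_ne hh, invSign_of_ne (fun e => hh (by simpa using congrArg Subtype.val e))]),
    ← Finset.sum_subtype (p := (· ∈ C)) (Finset.univ.filter (· ∈ C)) (by simp) invSign]
  rw [← Finset.sum_filter_add_sum_filter_not _ (· ∈ C), two_mul, Finset.filter_filter,
    Finset.filter_filter]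
  congr 1
  · refine Finset.sum_congr ?_ fun g _ => rfl
    ext g
    simp only [Finset.mem_filter, Finset.mem_univ, true_and]
    exact ⟨fun hg => hg.2, fun hg => ⟨(mem2 g).2 ((memC g).1 hg).1, hg⟩⟩
  · refine Finset.sum_bij' (fun g _ => g * x) (fun g _ => g * x) ?_ ?_ ?_ ?_ ?_
    all_goals simp only [Finset.mem_filter, Finset.mem_univ, true_and]
    · rintro g ⟨hg, hgC⟩
      exact (hCx g hg).resolve_left hgC
    · intro g hg
      exact ⟨(mem2 _).2 (by rw [((memC g).1 hg).1, mul_assoc, ((memC g).1 hg).1]), hnot g hg⟩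
    · exact fun g _ => by rw [mul_assoc, ← pow_two, hx, mul_one]
    · exact fun g _ => by rw [mul_assoc, ← pow_two, hx, mul_one]
    · rintro g ⟨hg, hgC⟩
      rw [← hs _ ((hCx g hg).resolve_left hgC), mul_assoc, ← pow_two, hx, mul_one]

/-- Groups of order eight: the pair data and the sign sum. -/
theorem SmallCenter.pair_zero_iff {G : Type u} [Group G] [Finite G] (h : SmallCenter 2 G) {z : G}
    (hz : z ∈ center G) (hz1 : z ≠ 1) (hcard : Nat.card G = 8) {a : ℕ} {x y : G} (ha : a ≤ 1)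
    (d : PairIn 2 z a a x y) (f : (∃ g, g ∉ center G ∧ g ^ 2 = 1) → a = 0) :
    a = 0 ↔ signSum G ≠ -4 := by
  classical
  have hd := h.squareData hz hz1
  by_cases hex : ∃ g, g ∉ center G ∧ g ^ 2 = 1
  · refine iff_of_true (f hex) fun hS => ?_
    obtain ⟨g, hg, hg2⟩ := hex
    have h3 : 3 ≤ Nat.card {x : G // x ^ 2 = 1} := by
      have hle : ({1, z, g} : Finset G).card ≤ Nat.card {x : G // x ^ 2 = 1} := by
        rw [← Nat.card_eq_finsetCard]
        refine Nat.card_le_card_of_injective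
          (fun w : ({1, z, g} : Finset G) => (⟨(w : G), ?_⟩ : {x : G // x ^ 2 = 1}))
          (fun u v e => Subtype.ext (congrArg (fun t : {x : G // x ^ 2 = 1} => (t : G)) e))
        obtain ⟨w, hw⟩ := w
        simp only [Finset.mem_insert, Finset.mem_singleton] at hw
        rcases hw with rfl | rfl | rfl
        · exact one_pow _
        · exact hd.sq_eq
        · exact hg2
      have hne : ({1, z, g} : Finset G).card = 3 := by
        rw [Finset.card_eq_three]
        exact ⟨1, z, g, fun e => hz1 e.symm, fun e => hg (e ▸ one_mem _), fun e => hg (e ▸ hz), rfl⟩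
      omega
    rw [signSum, hcard] at hS
    omega
  · push Not at hex
    refine iff_of_false (fun ha0 => ?_) (not_not.2 ?_)
    · refine hex x (fun hxc => hz1 ?_) (by rw [d.pow_x, ha0, pow_zero])
      rw [← d.comm, commutatorElement_eq_one_iff_mul_comm]
      exact (mem_center_iff.1 hxc y).symm
    · have h2 : Nat.card {x : G // x ^ 2 = 1} = 2 := by
        rw [Nat.card_eq_two_iff]
        refine ⟨⟨1, one_pow _⟩, ⟨z, hd.sq_eq⟩, fun e => hz1 (congrArg Subtype.val e).symm, ?_⟩
        refine Set.eq_univ_of_forall fun w => ?_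
        have hw : (w : G) ∈ center G := by_contra fun hc => hex w hc w.2
        rcases mem_pair_of_card_two h.card_center hz hz1 hw with e | e
        · exact Or.inl (Subtype.ext e)
        · exact Or.inr (Subtype.ext e)
      rw [signSum, hcard, h2]
      norm_num

/-- Order and sign sum determine the group. -/
theorem exists_equiv_of_signSum (n : ℕ) : 1 ≤ n → ∀ (G₁ : Type u) (G₂ : Type v) [Group G₁] [Group G₂]
    [Finite G₁] [Finite G₂], SmallCenter 2 G₁ → SmallCenter 2 G₂ →
    Nat.card G₁ = 2 ^ (2 * n + 1) → Nat.card G₂ = 2 ^ (2 * n + 1) → signSum G₁ = signSum G₂ →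
    ∀ z₁ : G₁, z₁ ∈ center G₁ → z₁ ≠ 1 → ∀ z₂ : G₂, z₂ ∈ center G₂ → z₂ ≠ 1 →
    ∃ e : G₁ ≃* G₂, e z₁ = z₂ := by
  haveI := Fact.mk Nat.prime_two
  induction n with
  | zero => intro h; exact absurd h (by omega)
  | succ n ih =>
      intro _ G₁ G₂ _ _ _ _ h₁ h₂ hc₁ hc₂ hS z₁ hz₁ hz₁1 z₂ hz₂ hz₂1
      have hlt : 2 < 2 ^ (2 * (n + 1) + 1) := lt_self_pow₀ one_lt_two (by omega)
      obtain ⟨a₁, x₁, y₁, ha₁, d₁, f₁⟩ := h₁.exists_pair_two hz₁ hz₁1 (fun e => by
        have := h₁.card_center; rw [e, Subgroup.card_top, hc₁] at this; omega)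
      obtain ⟨a₂, x₂, y₂, ha₂, d₂, f₂⟩ := h₂.exists_pair_two hz₂ hz₂1 (fun e => by
        have := h₂.card_center; rw [e, Subgroup.card_top, hc₂] at this; omega)
      obtain ⟨g₁, hg₁⟩ := d₁.centralizer_data h₁ hz₁ hz₁1
      obtain ⟨g₂, hg₂⟩ := d₂.centralizer_data h₂ hz₂ hz₂1
      have hexp : 2 ^ (2 * (n + 1) + 1) = 2 ^ (2 * n + 1) * (2 * 2) := by ring
      have k₁ := Nat.eq_of_mul_eq_mul_right (by norm_num : 0 < 2 * 2) (hg₁.trans (hc₁.trans hexp))
      have k₂ := Nat.eq_of_mul_eq_mul_right (by norm_num : 0 < 2 * 2) (hg₂.trans (hc₂.trans hexp))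
      let w₁ : ↥(centralizer {x₁} ⊓ centralizer {y₁}) :=
        ⟨z₁, mem_inf.2 ⟨mem_centralizer_singleton_iff.2 (mem_center_iff.1 hz₁ _).symm,
          mem_centralizer_singleton_iff.2 (mem_center_iff.1 hz₁ _).symm⟩⟩
      let w₂ : ↥(centralizer {x₂} ⊓ centralizer {y₂}) :=
        ⟨z₂, mem_inf.2 ⟨mem_centralizer_singleton_iff.2 (mem_center_iff.1 hz₂ _).symm,
          mem_centralizer_singleton_iff.2 (mem_center_iff.1 hz₂ _).symm⟩⟩
      have hw₁1 : w₁ ≠ 1 := fun e => hz₁1 (congrArg Subtype.val e)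
      have hw₂1 : w₂ ≠ 1 := fun e => hz₂1 (congrArg Subtype.val e)
      rcases Nat.eq_zero_or_pos n with rfl | hn
      · obtain ⟨φ, hφ⟩ := exists_equiv_of_card_prime (p := 2) (by simpa using k₁) (by simpa using k₂)
          hw₁1 hw₂1
        have q₁ := h₁.pair_zero_iff hz₁ hz₁1 (hc₁.trans (by norm_num)) ha₁ d₁ f₁
        have q₂ := h₂.pair_zero_iff hz₂ hz₂1 (hc₂.trans (by norm_num)) ha₂ d₂ f₂
        rw [hS] at q₁
        obtain rfl : a₁ = a₂ := by
          have := q₁.trans q₂.symm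
          omega
        exact exists_equiv_of_pair h₁ h₂ hz₁ hz₁1 hz₂ hz₂1 d₁ d₂ φ fun c hc => by
          rw [show c = w₁ from Subtype.ext hc, hφ]
      · have h16 : 16 ≤ 2 ^ (2 * (n + 1) + 1) :=
          le_trans (by norm_num) (Nat.pow_le_pow_right two_pos (show 4 ≤ 2 * (n + 1) + 1 by omega))
        obtain rfl := f₁ (h₁.exists_involution hz₁ hz₁1 (hc₁ ▸ h16))
        obtain rfl := f₂ (h₂.exists_involution hz₂ hz₂1 (hc₂ ▸ h16))
        have hS' : signSum ↥(centralizer {x₁} ⊓ centralizer {y₁}) =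
            signSum ↥(centralizer {x₂} ⊓ centralizer {y₂}) := by
          have e₁ := (h₁.squareData hz₁ hz₁1).signSum_pair (by rw [d₁.pow_x, pow_zero]) d₁.comm
          have e₂ := (h₂.squareData hz₂ hz₂1).signSum_pair (by rw [d₂.pow_x, pow_zero]) d₂.comm
          omega
        obtain ⟨φ, hφ⟩ := ih hn _ _ g₁ g₂ k₁ k₂ hS' w₁
          (mem_center_iff.2 fun g => Subtype.ext (mem_center_iff.1 hz₁ g)) hw₁1 w₂
          (mem_center_iff.2 fun g => Subtype.ext (mem_center_iff.1 hz₂ g)) hw₂1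
        exact exists_equiv_of_pair h₁ h₂ hz₁ hz₁1 hz₂ hz₂1 d₁ d₂ φ fun c hc => by
          rw [show c = w₁ from Subtype.ext hc, hφ]

end classify

end CfsgLib.PGroup
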