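import Cfsg.Agent.Lib.PGroup.OmegaOdd
import Mathlib.GroupTheory.SemidirectProduct

/-!
Automorphisms of odd `p`-groups fixing the elements of order `p`.
-/

set_option autoImplicit false

namespace CfsgLib.PGroup

variable {U : Type*} [Group U] [Finite U] {p : ℕ} [Fact p.Prime]

theorem mulAut_eq_one_of_fix_omega (hp : p ≠ 2) (hU : IsPGroup p U) (a : MulAut U)
    (ha : Nat.Coprime (orderOf a) p) (h : ∀ x : U, x ^ p = 1 → a x = x) : a = 1 := by
  have : Finite (MulAut U) := Finite.of_injective (fun f : MulAut U => (f : U → U))
    DFunLike.coe_injective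
  let φ : MulAut U →* MulAut U := MonoidHom.id _
  let Q : Subgroup (SemidirectProduct U (MulAut U) φ) := SemidirectProduct.inl.range
  have hQ : IsPGroup p Q :=
    hU.of_surjective SemidirectProduct.inl.rangeRestrict (MonoidHom.rangeRestrict_surjective _)
  have hn : Q.Normal := by
    show SemidirectProduct.inl.range.Normal
    rw [SemidirectProduct.range_inl_eq_ker_rightHom]
    infer_instance
  have hfin : Finite (SemidirectProduct U (MulAut U) φ) :=
    Finite.of_equiv _ SemidirectProduct.equivProd.symm
  have hcomm := commute_of_fix_omega_odd hp hQ (a := SemidirectProduct.inr a)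
    (by rw [Subgroup.normalizer_eq_top]; exact Subgroup.mem_top _)
    (by
      rw [orderOf_injective _ SemidirectProduct.inr_injective a]
      exact ((Fact.out : p.Prime).coprime_iff_not_dvd).1 ha.symm)
    (by
      rintro _ ⟨x, rfl⟩ hx
      rw [← map_pow, ← map_one (SemidirectProduct.inl (φ := φ))] at hx
      have h1 := h x (SemidirectProduct.inl_injective hx)
      rw [commute_iff_eq, ← mul_inv_eq_iff_eq_mul, ← map_inv, ← SemidirectProduct.inl_aut]
      exact congrArg _ h1)
  ext x
  have h2 := hcomm _ ⟨x, rfl⟩
  rw [commute_iff_eq, ← mul_inv_eq_iff_eq_mul, ← map_inv, ← SemidirectProduct.inl_aut] at h2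
  exact SemidirectProduct.inl_injective h2

end CfsgLib.PGroup
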