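import Cfsg.Agent.Lib.PGroup.PSolvable
import Cfsg.Agent.Lib.Block.PSolvableOne
import Cfsg.Agent.Lib.Coprime.Solvable
import Mathlib.GroupTheory.Nilpotent

/-!
# The upper `p`-series: self-centralization of the `p`-factors and the bound by the class
-/

set_option autoImplicit false
set_option linter.style.haveILetI false
set_option linter.unusedSectionVars false

open Subgroup

namespace CfsgLib.PGroup

universe u

variable {p : ℕ}

/-- The step to a `p'`-factor. -/
abbrev stepPrime (p : ℕ) {G : Type u} [Group G] (N : Subgroup G) [N.Normal] : Subgroup G :=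
  (Cfsg.pPrimeCore p (G ⧸ N)).comap (QuotientGroup.mk' N)

/-- The step to a `p`-factor. -/
abbrev stepP (p : ℕ) {G : Type u} [Group G] (N : Subgroup G) [N.Normal] : Subgroup G :=
  (Cfsg.pCore p (G ⧸ N)).comap (QuotientGroup.mk' N)

variable {G : Type u} [Group G]

theorem step_congr {N N' : Subgroup G} [N.Normal] [N'.Normal] (h : N = N') :
    stepPrime p N = stepPrime p N' ∧ stepP p N = stepP p N' := by
  subst h; exact ⟨rfl, rfl⟩

theorem exists_equiv_quotient (M : Subgroup G) [M.Normal] (N : Subgroup (G ⧸ M)) [N.Normal]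
    (N' : Subgroup G) [N'.Normal] (h : N.comap (QuotientGroup.mk' M) = N') :
    ∃ e : (G ⧸ N') ≃* ((G ⧸ M) ⧸ N), ∀ x : G,
      e (QuotientGroup.mk' N' x) = QuotientGroup.mk' N (QuotientGroup.mk' M x) := by
  set f := (QuotientGroup.mk' N).comp (QuotientGroup.mk' M) with hf
  have hfs : Function.Surjective f :=
    (QuotientGroup.mk'_surjective N).comp (QuotientGroup.mk'_surjective M)
  have hk : f.ker = N' := by
    rw [hf, ← MonoidHom.comap_ker, QuotientGroup.ker_mk', h]
  exact ⟨(QuotientGroup.quotientMulEquivOfEq hk.symm).trans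
    (QuotientGroup.quotientKerEquivOfSurjective f hfs), fun x => rfl⟩

theorem step_comap (M : Subgroup G) [M.Normal] (N : Subgroup (G ⧸ M)) [N.Normal]
    (N' : Subgroup G) [N'.Normal] (h : N.comap (QuotientGroup.mk' M) = N') :
    (stepPrime p N).comap (QuotientGroup.mk' M) = stepPrime p N' ∧
      (stepP p N).comap (QuotientGroup.mk' M) = stepP p N' := by
  obtain ⟨e, he⟩ := exists_equiv_quotient M N N' h
  constructor
  · ext x
    simp only [mem_comap]
    rw [← he, ← CfsgLib.Coprime.map_pPrimeCore_equiv e p]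
    exact mem_map_iff_mem e.injective
  · ext x
    simp only [mem_comap]
    rw [← he, ← CfsgLib.Coprime.map_pCore_equiv e p]
    exact mem_map_iff_mem e.injective

theorem upperPSeries_succ_even {n : ℕ} (hn : Even n) :
    (Cfsg.upperPSeries p G (n + 1)).1 = stepPrime p (Cfsg.upperPSeries p G n).1 := by
  conv_lhs => rw [Cfsg.upperPSeries, if_pos hn]

theorem upperPSeries_succ_odd {n : ℕ} (hn : ¬ Even n) :
    (Cfsg.upperPSeries p G (n + 1)).1 = stepP p (Cfsg.upperPSeries p G n).1 := by
  conv_lhs => rw [Cfsg.upperPSeries, if_neg hn]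

/-- The series of the quotient by an even term. -/
theorem upperPSeries_shift (M : Subgroup G) [M.Normal] {m : ℕ} (hm : Even m)
    (hM : (Cfsg.upperPSeries p G m).1 = M) : ∀ j : ℕ,
    (Cfsg.upperPSeries p (G ⧸ M) j).1.comap (QuotientGroup.mk' M) = (Cfsg.upperPSeries p G (j + m)).1
  | 0 => by
    rw [Nat.zero_add, hM, Cfsg.upperPSeries]
    exact (MonoidHom.comap_bot _).trans (QuotientGroup.ker_mk' M)
  | j + 1 => by
    have ih := upperPSeries_shift M hm hM j
    have hs := step_comap (p := p) M (Cfsg.upperPSeries p (G ⧸ M) j).1 (Cfsg.upperPSeries p G (j + m)).1 ih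
    rw [show j + 1 + m = j + m + 1 by omega]
    by_cases hj : Even j
    · rw [upperPSeries_succ_even hj, upperPSeries_succ_even (Nat.even_add.2 (iff_of_true hj hm))]
      exact hs.1
    · rw [upperPSeries_succ_odd hj, upperPSeries_succ_odd (fun h => hj ((Nat.even_add.1 h).2 hm))]
      exact hs.2

variable [Finite G] [hpf : Fact p.Prime]

theorem pPrimeCore_stepPrime_eq_bot (N M : Subgroup G) [N.Normal] [M.Normal] (h : M = stepPrime p N) :
    Cfsg.pPrimeCore p (G ⧸ M) = ⊥ := by
  have hle : N ≤ M := fun x hx => by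
    rw [h, mem_comap, show QuotientGroup.mk' N x = 1 from (QuotientGroup.eq_one_iff x).2 hx]
    exact one_mem _
  obtain ⟨e, -⟩ := exists_equiv_quotient N (Cfsg.pPrimeCore p (G ⧸ N)) M h.symm
  rw [← CfsgLib.Coprime.map_pPrimeCore_equiv e.symm p,
    CfsgLib.Coprime.pPrimeCore_quotient_eq_bot hpf.out, Subgroup.map_bot]

theorem centralizer_pFactor_le (hsol : Cfsg.IsPSolvable p G) (k : ℕ) :
    centralizer (((Cfsg.upperPSeries p G (2 * k + 2)).1.map
        (QuotientGroup.mk' (Cfsg.upperPSeries p G (2 * k + 1)).1) :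
          Subgroup (G ⧸ (Cfsg.upperPSeries p G (2 * k + 1)).1)) :
        Set (G ⧸ (Cfsg.upperPSeries p G (2 * k + 1)).1)) ≤
      (Cfsg.upperPSeries p G (2 * k + 2)).1.map
        (QuotientGroup.mk' (Cfsg.upperPSeries p G (2 * k + 1)).1) := by
  set U := (Cfsg.upperPSeries p G (2 * k + 1)).1 with hU
  rw [show 2 * k + 2 = 2 * k + 1 + 1 by omega, upperPSeries_succ_odd (n := 2 * k + 1) (by simp [Nat.even_add_one]),
    map_comap_eq_self_of_surjective (QuotientGroup.mk'_surjective _)]
  exact CfsgLib.Block.centralizer_pCore_le_of_isPSolvable (isPSolvable_quotient hpf.out hsol U)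
    (pPrimeCore_stepPrime_eq_bot _ U (upperPSeries_succ_even (even_two_mul k)))

theorem pPrimeCore_eq_term_one : (Cfsg.upperPSeries p G 1).1 = Cfsg.pPrimeCore p G := by
  rw [Cfsg.upperPSeries, if_pos Even.zero]
  exact pPrimeCore_comap_quotientBot p

theorem pLengthLE_of_class_le : ∀ (c : ℕ) (G : Type u) [Group G] [Finite G], Cfsg.IsPSolvable p G →
    ∀ S : Sylow p G, Group.nilpotencyClass ↥(S : Subgroup G) ≤ c → Cfsg.PLengthLE p c G := by
  intro c
  induction c with
  | zero =>
    intro G _ _ _ S hS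
    show (Cfsg.upperPSeries p G (2 * 0 + 1)).1 = ⊤
    rw [show 2 * 0 + 1 = 1 from rfl, pPrimeCore_eq_term_one]
    haveI := S.2.isNilpotent
    haveI := Group.nilpotencyClass_zero_iff_subsingleton.1 (Nat.le_zero.1 hS)
    refine top_le_iff.1 (CfsgLib.Coprime.le_pPrimeCore_of_not_dvd hpf.out ?_)
    rw [card_top, ← (S : Subgroup G).card_mul_index]
    haveI : Unique (S : Subgroup G) := uniqueOfSubsingleton 1
    rw [Nat.card_unique, one_mul]
    exact S.not_dvd_index
  | succ c ih =>
    intro G _ _ hsol S hS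
    set U₁ := (Cfsg.upperPSeries p G 1).1 with hU₁
    set U₂ := (Cfsg.upperPSeries p G 2).1 with hU₂
    have hπ := QuotientGroup.mk'_surjective U₂
    have hcl := centralizer_pFactor_le hsol 0
    have hU₂eq : U₂ = stepP p U₁ := upperPSeries_succ_odd (n := 1) (by simp)
    have hZ : ∀ z : (S : Subgroup G), z ∈ center (S : Subgroup G) → (z : G) ∈ U₂ := by
      intro z hz
      rw [hU₂eq, mem_comap]
      have hQ : QuotientGroup.mk' U₁ (z : G) ∈ centralizer (Cfsg.pCore p (G ⧸ U₁) : Set (G ⧸ U₁)) := by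
        refine mem_centralizer_iff.2 fun q hq => ?_
        have h1 := CfsgLib.Coprime.pCore_le_sylow (S.mapSurjective (QuotientGroup.mk'_surjective U₁)) hq
        rw [Sylow.coe_mapSurjective] at h1
        obtain ⟨s, hs, rfl⟩ := h1
        rw [← map_mul, ← map_mul, show s * (z : G) = (z : G) * s from
          congrArg Subtype.val (mem_center_iff.1 hz ⟨s, hs⟩)]
      have hbot : Cfsg.pPrimeCore p (G ⧸ U₁) = ⊥ :=
        pPrimeCore_stepPrime_eq_bot _ U₁ (upperPSeries_succ_even Even.zero)
      exact CfsgLib.Block.centralizer_pCore_le_of_isPSolvable (isPSolvable_quotient hpf.out hsol U₁) hbot hQ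
    set S' := S.mapSurjective hπ with hS'
    have hcS' : Group.nilpotencyClass ↥(S' : Subgroup (G ⧸ U₂)) ≤ c := by
      haveI := S.2.isNilpotent
      let f : (S : Subgroup G) →* (S' : Subgroup (G ⧸ U₂)) :=
        ((QuotientGroup.mk' U₂).comp (S : Subgroup G).subtype).codRestrict _ fun x => by
          rw [hS', Sylow.coe_mapSurjective]; exact mem_map_of_mem _ x.2
      have hf : Function.Surjective f := fun y => by
        have hy : (y : G ⧸ U₂) ∈ (S : Subgroup G).map (QuotientGroup.mk' U₂) := by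
          rw [← Sylow.coe_mapSurjective hπ, ← hS']; exact y.2
        obtain ⟨s, hs, e⟩ := hy
        exact ⟨⟨s, hs⟩, Subtype.ext e⟩
      have hker : center (S : Subgroup G) ≤ f.ker := fun z hz =>
        Subtype.ext ((QuotientGroup.eq_one_iff (z : G)).2 (hZ z hz))
      have h1 := Group.nilpotencyClass_le_of_surjective (QuotientGroup.lift _ f hker)
        (fun y => by obtain ⟨x, rfl⟩ := hf y; exact ⟨QuotientGroup.mk x, rfl⟩)
      rw [Group.nilpotencyClass_quotient_center] at h1
      omega
    have h := ih (G ⧸ U₂) (isPSolvable_quotient hpf.out hsol U₂) S' hcS'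
    have hshift := upperPSeries_shift (p := p) U₂ even_two rfl (2 * c + 1)
    rw [h, comap_top] at hshift
    show (Cfsg.upperPSeries p G (2 * (c + 1) + 1)).1 = ⊤
    rw [show 2 * (c + 1) + 1 = 2 * c + 1 + 2 by omega]
    exact hshift.symm

end CfsgLib.PGroup
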