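import Cfsg.Agent.Lib.PGroup.NormalRankTwo
import Cfsg.Agent.Lib.PGroup.MetacyclicOmega
import Cfsg.Agent.Lib.PGroup.OmegaCentral
import Cfsg.Agent.Lib.PGroup.ElementaryBasic
import Mathlib.Algebra.Field.ZMod

/-!
# Odd `p`-groups of rank two with a normal nonabelian subgroup of order `p³` and exponent `p`
-/

set_option autoImplicit false
set_option linter.style.haveILetI false
set_option linter.unusedSectionVars false

open Subgroup

namespace CfsgLib.Heisenberg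

universe u

variable {p : ℕ} [hpf : Fact p.Prime] {G : Type u} [Group G]

theorem cj_mul (g x y : G) : g⁻¹ * (x * y) * g = (g⁻¹ * x * g) * (g⁻¹ * y * g) := by group

theorem cj_pow (g x : G) (n : ℕ) : g⁻¹ * x ^ n * g = (g⁻¹ * x * g) ^ n := by
  have h := conj_pow (a := g⁻¹) (b := x) (i := n)
  rw [inv_inv] at h
  exact h.symm

theorem cj_fix {g x : G} (h : Commute g x) : g⁻¹ * x * g = x := by
  rw [mul_assoc, ← h.eq, inv_mul_cancel_left]

theorem exists_nat_pow [Finite G] {x y : G} (h : x ∈ zpowers y) : ∃ n : ℕ, y ^ n = x :=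
  Submonoid.mem_powers_iff _ _ |>.1 ((isOfFinOrder_of_finite y).mem_powers_iff_mem_zpowers.2 h)

theorem mem_zpowers_pow [Finite G] (hR : IsPGroup p G) {x : G} {i : ℕ} (hi : ¬ p ∣ i) :
    x ∈ zpowers (x ^ i) := by
  obtain ⟨k, hk⟩ := IsPGroup.iff_orderOf.1 hR x
  obtain ⟨m, hm⟩ := exists_pow_eq_self_of_coprime (n := i) (x := x)
    (by rw [hk]; exact ((hpf.out.coprime_iff_not_dvd.2 hi).pow_left k).symm)
  have h := pow_mem (mem_zpowers (x ^ i)) m
  rwa [hm] at h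

theorem pow_congr {x : G} (hx : x ^ p = 1) {i j : ℕ} (h : (i : ZMod p) = (j : ZMod p)) :
    x ^ i = x ^ j := by
  rw [ZMod.natCast_eq_natCast_iff'] at h
  rw [pow_eq_pow_mod i hx, pow_eq_pow_mod j hx, h]

/-- A subgroup strictly above `H` inside an overgroup `S` of relative index `p` is `S`. -/
theorem eq_of_step [Finite G] {H L S : Subgroup G} (hHL : H ≤ L) (hLS : L ≤ S)
    (hc : Nat.card S = p * Nat.card H) {x : G} (hxL : x ∈ L) (hxH : x ∉ H) : L = S := by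
  obtain ⟨k, hk⟩ := card_dvd_of_le hHL
  have h1 : k ∣ p := by
    have h := card_dvd_of_le hLS
    rw [hk, hc, mul_comm p] at h
    exact Nat.dvd_of_mul_dvd_mul_left Nat.card_pos h
  rcases hpf.out.eq_one_or_self_of_dvd k h1 with rfl | rfl
  · rw [mul_one] at hk
    exact absurd ((eq_of_le_of_card_ge hHL hk.le).symm ▸ hxL : x ∈ H) hxH
  · exact eq_of_le_of_card_ge hLS (by rw [hk, hc, mul_comm])

/-- Conjugation is trivial on a chief factor generated by one element. -/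
theorem conj_mem [Finite G] (hR : IsPGroup p G) {N S : Subgroup G} [N.Normal] [S.Normal] {x : G}
    (hS : zpowers x ⊔ N = S) (hx : x ^ p = 1) (g : G) : x⁻¹ * (g⁻¹ * x * g) ∈ N := by
  set π := QuotientGroup.mk' N with hπ
  haveI : (S.map π).Normal := Normal.map inferInstance π (QuotientGroup.mk'_surjective N)
  have hm : S.map π = zpowers (π x) := by
    rw [← hS, Subgroup.map_sup, MonoidHom.map_zpowers, hπ, QuotientGroup.map_mk'_self, sup_bot_eq]
  have hcard : Nat.card (S.map π) ≤ p := by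
    rw [hm, Nat.card_zpowers]
    exact orderOf_le_of_pow_eq_one hpf.out.pos (by rw [← map_pow, hx, map_one])
  have hcen := CfsgLib.MetacyclicOmega.le_center_of_card_le (hR.to_quotient N) (S.map π) hcard
    (hm ▸ mem_zpowers (π x))
  rw [← QuotientGroup.eq_one_iff, ← QuotientGroup.mk'_apply, ← hπ]
  simp only [map_mul, map_inv]
  rw [cj_fix (mem_center_iff.1 hcen (π g)), inv_mul_cancel]

/-- The data: `E` normal of order `p³` and exponent `p`, `B` normal of order `p²` inside `E`. -/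
structure Frame (p : ℕ) (E B : Subgroup G) (a b ζ : G) : Prop where
  En : E.Normal
  hBE : B ≤ E
  expo : ∀ x ∈ E, x ^ p = 1
  cardE : Nat.card E = p ^ 3
  hζ : ζ ∈ center G
  ζo : orderOf ζ = p
  ζB : ζ ∈ B
  bB : b ∈ B
  aE : a ∈ E
  rel : a⁻¹ * b * a = b * ζ
  decB : ∀ x ∈ B, ∃ i j : ℕ, x = b ^ i * ζ ^ j
  decE : ∀ x ∈ E, ∃ i : ℕ, ∃ β ∈ B, x = β * a ^ i
  conjb : ∀ g : G, ∃ i : ℕ, g⁻¹ * b * g = b * ζ ^ i
  conja : ∀ g : G, ∃ u v : ℕ, g⁻¹ * a * g = a * b ^ u * ζ ^ v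
  small : ∀ x : G, x ^ p = 1 → Commute x b → x ∈ B
  nb : b ∉ zpowers ζ
  na : a ∉ B
  inter : ∀ x ∈ E, Commute x a → Commute x b → x ∈ zpowers ζ

theorem exists_frame [Finite G] (hR : IsPGroup p G) (hrk : Cfsg.PRankLE p 2 G) {E B : Subgroup G}
    [E.Normal] [B.Normal] (hBE : B ≤ E) (he : ∀ x ∈ E, x ^ p = 1) (hE : Nat.card E = p ^ 3)
    (hBel : Cfsg.IsElementaryAbelian p B) (hB : Nat.card B = p ^ 2) :
    ∃ a b ζ : G, Frame p E B a b ζ := by
  classical
  have hp := hpf.out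
  have hBB : ∀ x ∈ B, ∀ y ∈ B, Commute x y := fun x hx y hy =>
    congrArg Subtype.val (isMulCommutative_iff.1 hBel.1 ⟨x, hx⟩ ⟨y, hy⟩)
  -- anything of order `p` centralizing `B` lies in `B`
  have hsmallB : ∀ x : G, x ^ p = 1 → (∀ y ∈ B, Commute x y) → x ∈ B := by
    intro x hx hxc
    set A := closure ((B : Set G) ∪ {x}) with hA
    have hgen : ∀ u ∈ (B : Set G) ∪ {x}, ∀ v ∈ (B : Set G) ∪ {x}, u * v = v * u := by
      rintro u (hu | rfl) v (hv | rfl)
      · exact hBB u hu v hv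
      · exact (hxc u hu).symm
      · exact hxc v hv
      · rfl
    haveI hAc : IsMulCommutative A := isMulCommutative_closure hgen
    have hAe : ∀ z ∈ A, z ^ p = 1 := by
      intro z hz
      induction hz using closure_induction with
      | mem u hu => rcases hu with hu | rfl
                    · exact hBel.2 u hu
                    · exact hx
      | one => exact one_pow p
      | mul u v hu hv iu iv =>
        have huv : Commute u v :=
          congrArg Subtype.val (isMulCommutative_iff.1 hAc ⟨u, hu⟩ ⟨v, hv⟩)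
        rw [huv.mul_pow, iu, iv, one_mul]
      | inv u hu iu => rw [inv_pow, iu, inv_one]
    have hBA : B ≤ A := fun y hy => subset_closure (Or.inl hy)
    have heq := eq_of_le_of_card_ge hBA (by rw [hB]; exact hrk A hAc hAe)
    exact heq ▸ subset_closure (Or.inr rfl)
  -- the central element
  obtain ⟨T, hTn, hT, hTB, hTi⟩ := CfsgLib.PGroup.exists_normal_step hR (T := (⊥ : Subgroup G)) (S := B)
    (bot_lt_iff_ne_bot.2 fun h => by
      rw [h, card_bot] at hB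
      exact absurd hB.symm (Nat.one_lt_pow two_ne_zero hp.one_lt).ne')
  haveI := hTn
  rw [relIndex_bot_left] at hTi
  have hTc : T ≤ center G := CfsgLib.MetacyclicOmega.le_center_of_card_le hR T hTi.le
  obtain ⟨b, hbB, hbT⟩ : ∃ b ∈ B, b ∉ T := by
    by_contra h
    push Not at h
    have := card_le_of_le h
    rw [hB, hTi, pow_two] at this
    exact absurd this (Nat.not_le.2 (lt_mul_of_one_lt_left hp.pos hp.one_lt))
  have hBdec : zpowers b ⊔ T = B :=
    eq_of_step le_sup_right (sup_le (zpowers_le.2 hbB) hTB) (by rw [hB, hTi, pow_two])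
      (mem_sup_left (mem_zpowers b)) hbT
  obtain ⟨a, haE, haB⟩ : ∃ a ∈ E, a ∉ B := by
    by_contra h
    push Not at h
    have := card_le_of_le h
    rw [hB, hE] at this
    exact absurd this (Nat.not_le.2 (Nat.pow_lt_pow_right hp.one_lt (by norm_num)))
  have hEdec : zpowers a ⊔ B = E :=
    eq_of_step le_sup_right (sup_le (zpowers_le.2 haE) hBE) (by rw [hB, hE]; ring)
      (mem_sup_left (mem_zpowers a)) haB
  have hba : ∀ x : G, Commute x b → ∀ y ∈ B, Commute x y := by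
    intro x hx y hy
    rw [← hBdec] at hy
    obtain ⟨u, hu, t, ht, rfl⟩ := mem_sup_of_normal_right.1 hy
    obtain ⟨i, rfl⟩ := mem_zpowers_iff.1 hu
    exact (hx.zpow_right i).mul_right (mem_center_iff.1 (hTc ht) x)
  set ζ := b⁻¹ * (a⁻¹ * b * a) with hζdef
  have hζT : ζ ∈ T := conj_mem hR hBdec (hBel.2 b hbB) a
  have hζ1 : ζ ≠ 1 := by
    intro h
    have hab : Commute a b := by
      have h2 : a⁻¹ * b * a = b := (inv_mul_eq_one.1 (hζdef ▸ h)).symm
      show a * b = b * a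
      calc a * b = a * (a⁻¹ * b * a) := by rw [h2]
        _ = b * a := by group
    exact haB (hsmallB a (he a haE) (hba a hab))
  have hζo : orderOf ζ = p := orderOf_eq_prime (hBel.2 ζ (hTB hζT)) hζ1
  have hTz : zpowers ζ = T :=
    eq_of_le_of_card_ge (zpowers_le.2 hζT) (by rw [Nat.card_zpowers, hζo, hTi])
  have hsmall : ∀ x : G, x ^ p = 1 → Commute x b → x ∈ B := fun x hx hxb =>
    hsmallB x hx (hba x hxb)
  refine ⟨a, b, ζ, ⟨inferInstance, hBE, he, hE, hTc hζT, hζo, hTB hζT, hbB, haE, ?_, ?_, ?_, ?_, ?_,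
    hsmall, hTz ▸ hbT, haB, ?_⟩⟩
  · rw [hζdef, mul_inv_cancel_left]
  · intro x hx
    rw [← hBdec] at hx
    obtain ⟨u, hu, t, ht, rfl⟩ := mem_sup_of_normal_right.1 hx
    obtain ⟨i, rfl⟩ := exists_nat_pow hu
    obtain ⟨j, rfl⟩ := exists_nat_pow (hTz ▸ ht : t ∈ zpowers ζ)
    exact ⟨i, j, rfl⟩
  · intro x hx
    rw [← hEdec, sup_comm] at hx
    obtain ⟨β, hβ, u, hu, rfl⟩ := mem_sup_of_normal_left.1 hx
    obtain ⟨i, rfl⟩ := exists_nat_pow hu
    exact ⟨i, β, hβ, rfl⟩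
  · intro g
    obtain ⟨i, hi⟩ := exists_nat_pow (hTz ▸ conj_mem hR hBdec (hBel.2 b hbB) g :
      b⁻¹ * (g⁻¹ * b * g) ∈ zpowers ζ)
    exact ⟨i, by rw [hi, mul_inv_cancel_left]⟩
  · intro g
    have h1 : a⁻¹ * (g⁻¹ * a * g) ∈ B := conj_mem hR hEdec (he a haE) g
    rw [← hBdec] at h1
    obtain ⟨u, hu, t, ht, hut⟩ := mem_sup_of_normal_right.1 h1
    obtain ⟨i, rfl⟩ := exists_nat_pow hu
    obtain ⟨j, rfl⟩ := exists_nat_pow (hTz ▸ ht : t ∈ zpowers ζ)
    exact ⟨i, j, by rw [mul_assoc a, hut, mul_inv_cancel_left]⟩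
  · intro x hxE hxa hxb
    have hxB : x ∈ B := hsmall x (he x hxE) hxb
    by_contra hx
    rw [hTz] at hx
    have hfull : zpowers x ⊔ T = B :=
      eq_of_step le_sup_right (sup_le (zpowers_le.2 hxB) hTB) (by rw [hB, hTi, pow_two])
        (mem_sup_left (mem_zpowers x)) hx
    refine haB (hsmallB a (he a haE) fun y hy => ?_)
    rw [← hfull] at hy
    obtain ⟨u, hu, t, ht, rfl⟩ := mem_sup_of_normal_right.1 hy
    obtain ⟨i, rfl⟩ := mem_zpowers_iff.1 hu
    exact (hxa.symm.zpow_right i).mul_right (mem_center_iff.1 (hTc ht) a)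

namespace Frame

variable {E B : Subgroup G} {a b ζ : G}

theorem zcomm (F : Frame p E B a b ζ) (g : G) (n : ℕ) : Commute g (ζ ^ n) :=
  (mem_center_iff.1 (pow_mem F.hζ n) g : g * ζ ^ n = ζ ^ n * g)

theorem zpow_p (F : Frame p E B a b ζ) : ζ ^ p = 1 := F.ζo ▸ pow_orderOf_eq_one ζ

theorem bpow_p (F : Frame p E B a b ζ) : b ^ p = 1 := F.expo b (F.hBE F.bB)

theorem apow_p (F : Frame p E B a b ζ) : a ^ p = 1 := F.expo a F.aE

theorem apow (F : Frame p E B a b ζ) : ∀ k : ℕ, (a ^ k)⁻¹ * b * a ^ k = b * ζ ^ k := by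
  intro k
  induction k with
  | zero => simp
  | succ k ih =>
    calc (a ^ (k + 1))⁻¹ * b * a ^ (k + 1) = a⁻¹ * ((a ^ k)⁻¹ * b * a ^ k) * a := by
          rw [pow_succ, mul_inv_rev]; group
      _ = (a⁻¹ * b * a) * (a⁻¹ * ζ ^ k * a) := by rw [ih, cj_mul]
      _ = b * ζ * ζ ^ k := by rw [F.rel, cj_fix (F.zcomm a k)]
      _ = b * ζ ^ (k + 1) := by rw [mul_assoc, ← pow_succ']

theorem bpow (F : Frame p E B a b ζ) (k i : ℕ) :
    (a ^ k)⁻¹ * b ^ i * a ^ k = b ^ i * ζ ^ (k * i) := by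
  rw [cj_pow, F.apow k, (F.zcomm b k).mul_pow, ← pow_mul]

theorem ba (F : Frame p E B a b ζ) (k : ℕ) : b ^ k * a = a * b ^ k * ζ ^ k := by
  have h := F.bpow 1 k
  rw [pow_one, one_mul] at h
  calc b ^ k * a = a * (a⁻¹ * b ^ k * a) := by group
    _ = _ := by rw [h, mul_assoc]

theorem bconja (F : Frame p E B a b ζ) (v : ℕ) : (b ^ v)⁻¹ * (a * ζ ^ v) * b ^ v = a := by
  rw [mul_assoc, mul_assoc a, ← (F.zcomm (b ^ v) v).eq, ← mul_assoc a, ← F.ba v, inv_mul_cancel_left]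

theorem mem_centralizer_of (F : Frame p E B a b ζ) {g : G} (ha : Commute g a) (hb : Commute g b) :
    g ∈ centralizer (E : Set G) := by
  refine mem_centralizer_iff.2 fun x hx => ?_
  obtain ⟨k, β, hβ, rfl⟩ := F.decE x hx
  obtain ⟨i, j, rfl⟩ := F.decB β hβ
  exact ((((hb.pow_right i).mul_right (F.zcomm g j)).mul_right (ha.pow_right k)).symm).eq

theorem commute_of_mem {g : G} (hg : g ∈ centralizer (E : Set G)) {x : G} (hx : x ∈ E) :
    Commute g x := (mem_centralizer_iff.1 hg x hx).symm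

theorem mem_sup_of_fixes (F : Frame p E B a b ζ) {g : G} {v : ℕ} (hb : Commute g b)
    (ha : g⁻¹ * a * g = a * ζ ^ v) : g ∈ E ⊔ centralizer (E : Set G) := by
  haveI := F.En
  have h1 : (g * b ^ v)⁻¹ * a * (g * b ^ v) = a := by
    calc (g * b ^ v)⁻¹ * a * (g * b ^ v) = (b ^ v)⁻¹ * (g⁻¹ * a * g) * b ^ v := by group
      _ = a := by rw [ha, F.bconja]
  have hc : g * b ^ v ∈ centralizer (E : Set G) := by
    refine F.mem_centralizer_of ?_ (hb.mul_left ((Commute.refl b).pow_left v))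
    show g * b ^ v * a = a * (g * b ^ v)
    calc g * b ^ v * a = g * b ^ v * ((g * b ^ v)⁻¹ * a * (g * b ^ v)) := by rw [h1]
      _ = a * (g * b ^ v) := by group
  have h2 := mul_mem (mem_sup_right (S := E) hc)
    (mem_sup_left (T := centralizer (E : Set G)) (inv_mem (pow_mem (F.hBE F.bB) v)))
  rwa [mul_inv_cancel_right] at h2

theorem reduce (F : Frame p E B a b ζ) (h : G) :
    ∃ (i : ℕ) (g : G), Commute g b ∧ h = g * a ^ i := by
  obtain ⟨i, hi⟩ := F.conjb h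
  refine ⟨i, h * (a ^ i)⁻¹, ?_, (inv_mul_cancel_right _ _).symm⟩
  have h1 : (h * (a ^ i)⁻¹)⁻¹ * b * (h * (a ^ i)⁻¹) = b := by
    calc (h * (a ^ i)⁻¹)⁻¹ * b * (h * (a ^ i)⁻¹) = a ^ i * (h⁻¹ * b * h) * (a ^ i)⁻¹ := by group
      _ = a ^ i * ((a ^ i)⁻¹ * b * a ^ i) * (a ^ i)⁻¹ := by rw [hi, F.apow]
      _ = b := by group
  show h * (a ^ i)⁻¹ * b = b * (h * (a ^ i)⁻¹)
  calc h * (a ^ i)⁻¹ * b
      = h * (a ^ i)⁻¹ * ((h * (a ^ i)⁻¹)⁻¹ * b * (h * (a ^ i)⁻¹)) := by rw [h1]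
    _ = b * (h * (a ^ i)⁻¹) := by group

theorem conja_pow (F : Frame p E B a b ζ) {g : G} {u v : ℕ} (hb : Commute g b)
    (ha : g⁻¹ * a * g = a * b ^ u * ζ ^ v) (w : ℕ) :
    (g ^ w)⁻¹ * a * g ^ w = a * b ^ (w * u) * ζ ^ (w * v) := by
  induction w with
  | zero => simp
  | succ w ih =>
    calc (g ^ (w + 1))⁻¹ * a * g ^ (w + 1) = g⁻¹ * ((g ^ w)⁻¹ * a * g ^ w) * g := by
          rw [pow_succ, mul_inv_rev]; group
      _ = (a * b ^ u * ζ ^ v) * b ^ (w * u) * ζ ^ (w * v) := by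
          rw [ih, cj_mul, cj_mul, ha, cj_fix (hb.pow_right _), cj_fix (F.zcomm g _)]
      _ = a * b ^ ((w + 1) * u) * ζ ^ ((w + 1) * v) := by
          rw [mul_assoc (a * b ^ u), ← (F.zcomm (b ^ (w * u)) v).eq, add_mul, add_mul, one_mul, one_mul,
            add_comm (w * u), add_comm (w * v), pow_add, pow_add]
          simp only [mul_assoc]

variable [Finite G]

theorem isCyclic_centralizer (F : Frame p E B a b ζ) (hR : IsPGroup p G) (hp : p ≠ 2) :
    IsCyclic ↥(centralizer (E : Set G)) := by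
  haveI := F.En
  by_contra h
  obtain ⟨A, hAC, -, hAe, hAc⟩ :=
    CfsgLib.PGroup.exists_normal_rank_two hR hp (centralizer (E : Set G)) h
  have hA : A ≤ zpowers ζ := fun x hx =>
    have hxb : Commute x b := commute_of_mem (hAC hx) (F.hBE F.bB)
    F.inter x (F.hBE (F.small x (hAe.2 x hx) hxb)) (commute_of_mem (hAC hx) F.aE) hxb
  have hle := card_le_of_le hA
  rw [hAc, Nat.card_zpowers, F.ζo, pow_two] at hle
  exact absurd hle (Nat.not_le.2 (lt_mul_of_one_lt_left hpf.out.pos hpf.out.one_lt))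

/-- A single element generates the group modulo `E`. -/
theorem exists_gen (F : Frame p E B a b ζ) (hR : IsPGroup p G) (hp : p ≠ 2) :
    ∃ z : G, E ⊔ zpowers z = ⊤ ∧ E ⊓ zpowers z = zpowers ζ ∧ centralizer (E : Set G) ≤ zpowers z ∧
      (z ∈ centralizer (E : Set G) ∨
        (Commute z b ∧ z⁻¹ * a * z = a * b ∧ z ^ p ∈ centralizer (E : Set G) ∧
          centralizer (E : Set G) ≤ zpowers (z ^ p))) := by
  classical
  haveI := F.En
  haveI := F.isCyclic_centralizer hR hp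
  set C := centralizer (E : Set G) with hC
  obtain ⟨⟨c, hcC⟩, hcgen⟩ := (inferInstance : IsCyclic ↥C).exists_generator
  have hCc : C ≤ zpowers c := fun x hx => by
    obtain ⟨i, hi⟩ := hcgen ⟨x, hx⟩
    exact ⟨i, congrArg Subtype.val hi⟩
  have hζC : ζ ∈ C := mem_centralizer_iff.2 fun x _ => mem_center_iff.1 F.hζ x
  have hCE : ∀ x ∈ E, x ∈ C → x ∈ zpowers ζ := fun x hxE hxC =>
    F.inter x hxE (commute_of_mem hxC F.aE) (commute_of_mem hxC (F.hBE F.bB))
  by_cases hall : ∀ h : G, h ∈ E ⊔ C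
  · refine ⟨c, ?_, ?_, hCc, Or.inl hcC⟩
    · exact eq_top_iff.2 fun h _ => sup_le_sup_left hCc E (hall h)
    · refine le_antisymm (fun x hx => ?_) ?_
      · obtain ⟨i, rfl⟩ := mem_zpowers_iff.1 hx.2
        exact hCE _ hx.1 (zpow_mem hcC i)
      · exact le_inf (zpowers_le.2 (F.hBE F.ζB)) (zpowers_le.2 (hCc hζC))
  push Not at hall
  obtain ⟨h, hh⟩ := hall
  obtain ⟨i₀, g₀, hg₀, rfl⟩ := F.reduce h
  obtain ⟨u, v, huv⟩ := F.conja g₀
  have hu : ¬ p ∣ u := by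
    intro hu
    obtain ⟨k, rfl⟩ := hu
    rw [pow_mul, F.bpow_p, one_pow, mul_one] at huv
    exact hh (mul_mem (F.mem_sup_of_fixes hg₀ huv) (mem_sup_left (pow_mem F.aE i₀)))
  set w := ((u : ZMod p)⁻¹).val with hw
  have hwu : b ^ (w * u) = b := by
    nth_rw 2 [← pow_one b]
    refine pow_congr F.bpow_p ?_
    rw [Nat.cast_mul, hw, ZMod.natCast_zmod_val, Nat.cast_one, inv_mul_cancel₀]
    exact fun h0 => hu ((ZMod.natCast_eq_zero_iff _ _).1 h0)
  set t := w * v with ht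
  have hg₁ := F.conja_pow hg₀ huv w
  rw [hwu, ← ht] at hg₁
  set z := g₀ ^ w * b ^ t with hz
  have hzb : Commute z b := (hg₀.pow_left w).mul_left ((Commute.refl b).pow_left t)
  have hza : z⁻¹ * a * z = a * b := by
    calc z⁻¹ * a * z = (b ^ t)⁻¹ * ((g₀ ^ w)⁻¹ * a * g₀ ^ w) * b ^ t := by rw [hz]; group
      _ = (b ^ t)⁻¹ * (a * ζ ^ t * b) * b ^ t := by
          rw [hg₁, mul_assoc a b, (F.zcomm b t).eq, ← mul_assoc a]
      _ = a * b := by rw [cj_mul, F.bconja, cj_fix ((Commute.refl b).pow_left t)]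
  have hzw : ∀ k : ℕ, (z ^ k)⁻¹ * a * z ^ k = a * b ^ k := fun k => by
    have := F.conja_pow hzb (u := 1) (v := 0) (by rw [pow_one, pow_zero, mul_one, hza]) k
    rwa [mul_one, mul_zero, pow_zero, mul_one] at this
  have hzpC : z ^ p ∈ C := by
    refine F.mem_centralizer_of ?_ (hzb.pow_left p)
    have h1 := hzw p
    rw [F.bpow_p, mul_one] at h1
    show z ^ p * a = a * z ^ p
    calc z ^ p * a = z ^ p * ((z ^ p)⁻¹ * a * z ^ p) := by rw [h1]
      _ = a * z ^ p := by group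
  -- no element of `B` acts on `a` like `z`
  have hnoB : ∀ d ∈ B, d⁻¹ * a * d ≠ a * b := by
    intro d hd heq
    obtain ⟨r, q, rfl⟩ := F.decB d hd
    have h1 : (b ^ r)⁻¹ * a * b ^ r * ζ ^ r = a := by
      have := F.bconja r
      rwa [cj_mul, cj_fix (F.zcomm (b ^ r) r)] at this
    have h2 : (b ^ r * ζ ^ q)⁻¹ * a * (b ^ r * ζ ^ q) = (b ^ r)⁻¹ * a * b ^ r := by
      calc (b ^ r * ζ ^ q)⁻¹ * a * (b ^ r * ζ ^ q)
          = (ζ ^ q)⁻¹ * ((b ^ r)⁻¹ * a * b ^ r) * ζ ^ q := by group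
        _ = _ := cj_fix (F.zcomm _ q).symm
    rw [h2] at heq
    refine F.nb ?_
    have h3 : a * b * ζ ^ r = a := heq ▸ h1
    rw [mul_assoc, mul_eq_left] at h3
    rw [eq_inv_of_mul_eq_one_left h3]
    exact inv_mem (pow_mem (mem_zpowers ζ) r)
  have hgen : C ≤ zpowers (z ^ p) := by
    obtain ⟨i, hi⟩ := exists_nat_pow (hCc hzpC)
    refine hCc.trans (zpowers_le.2 ?_)
    rw [← hi]
    refine mem_zpowers_pow hR ?_
    rintro ⟨j, rfl⟩
    rw [mul_comm p, pow_mul] at hi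
    have hQ : ∀ x ∈ centralizer ({b} : Set G), x ^ p = 1 → ∀ y ∈ centralizer ({b} : Set G), Commute x y := by
      intro x hx hxp y hy
      obtain ⟨r, q, rfl⟩ := F.decB x (F.small x hxp (mem_centralizer_singleton_iff.1 hx))
      exact (((show Commute y b from mem_centralizer_singleton_iff.1 hy).pow_right r).mul_right
        (F.zcomm y q)).symm
    have hcb : Commute (c ^ j) b := (commute_of_mem hcC (F.hBE F.bB)).pow_left j
    have hd := CfsgLib.PGroup.mul_pow_eq_one_of_pow_eq hp (hR.to_subgroup _) hQ z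
      (mem_centralizer_singleton_iff.2 hzb) (c ^ j) (mem_centralizer_singleton_iff.2 hcb) hi.symm
    have hdB := F.small _ hd (hzb.inv_left.mul_left hcb)
    refine hnoB _ (inv_mem hdB) ?_
    have hca : (c ^ j)⁻¹ * a * c ^ j = a := cj_fix ((commute_of_mem hcC F.aE).pow_left j)
    calc ((z⁻¹ * c ^ j)⁻¹)⁻¹ * a * (z⁻¹ * c ^ j)⁻¹
        = (z⁻¹ * c ^ j) * ((c ^ j)⁻¹ * a * c ^ j) * (z⁻¹ * c ^ j)⁻¹ := by rw [hca]; group
      _ = z⁻¹ * a * z := by group
      _ = a * b := hza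
  refine ⟨z, ?_, ?_, hgen.trans (zpowers_le.2 (pow_mem (mem_zpowers z) p)), Or.inr ⟨hzb, hza, hzpC, hgen⟩⟩
  · refine eq_top_iff.2 fun h _ => ?_
    obtain ⟨i, g, hg, rfl⟩ := F.reduce h
    obtain ⟨u', v', huv'⟩ := F.conja g
    refine mul_mem ?_ (mem_sup_left (pow_mem F.aE i))
    have h1 : (g * (z ^ u')⁻¹)⁻¹ * a * (g * (z ^ u')⁻¹) = a * ζ ^ v' := by
      calc (g * (z ^ u')⁻¹)⁻¹ * a * (g * (z ^ u')⁻¹) = z ^ u' * (g⁻¹ * a * g) * (z ^ u')⁻¹ := by group
        _ = z ^ u' * ((z ^ u')⁻¹ * a * z ^ u' * ζ ^ v') * (z ^ u')⁻¹ := by rw [huv', hzw]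
        _ = a * (z ^ u' * ζ ^ v' * (z ^ u')⁻¹) := by group
        _ = a * ζ ^ v' := by rw [(F.zcomm (z ^ u') v').eq, mul_inv_cancel_right]
    have h2 := F.mem_sup_of_fixes (hg.mul_left (hzb.pow_left u').inv_left) h1
    have h3 := mul_mem (sup_le_sup_left (hgen.trans (zpowers_le.2 (pow_mem (mem_zpowers z) p))) E h2)
      (mem_sup_right (S := E) (pow_mem (mem_zpowers z) u'))
    rwa [inv_mul_cancel_right] at h3
  · refine le_antisymm (fun x hx => ?_)
      (le_inf (zpowers_le.2 (F.hBE F.ζB)) (zpowers_le.2 (zpowers_le.2 (pow_mem (mem_zpowers z) p) (hgen hζC))))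
    obtain ⟨i, rfl⟩ := exists_nat_pow hx.2
    by_cases hi : p ∣ i
    · obtain ⟨j, rfl⟩ := hi
      rw [pow_mul] at hx ⊢
      exact hCE _ hx.1 (pow_mem hzpC j)
    · have hzE : z ∈ E := zpowers_le.2 hx.1 (mem_zpowers_pow hR hi)
      exact absurd hza (hnoB z (F.small z (F.expo z hzE) hzb))

theorem orderOf_gen (F : Frame p E B a b ζ) {n : ℕ} (hG : Nat.card G = p ^ n) {z : G}
    (h1 : E ⊔ zpowers z = ⊤) (h2 : E ⊓ zpowers z = zpowers ζ) :
    3 ≤ n ∧ orderOf z = p ^ (n - 2) := by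
  haveI := F.En
  have hp := hpf.out
  have h := CfsgLib.EABasic.card_sup_mul_card_inf_of_le_normalizer (H := zpowers z) (N := E)
    (by rw [normalizer_eq_top]; exact le_top)
  rw [sup_comm, h1, inf_comm, h2, card_top, hG, Nat.card_zpowers, Nat.card_zpowers, F.ζo, F.cardE] at h
  have h3 : p ^ 3 ∣ p ^ n := by
    have := card_subgroup_dvd_card E
    rwa [F.cardE, hG] at this
  have hn : 3 ≤ n := (Nat.pow_dvd_pow_iff_le_right hp.one_lt).1 h3
  refine ⟨hn, Nat.eq_of_mul_eq_mul_right (pow_pos hp.pos 3) ?_⟩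
  rw [← h, ← pow_succ, ← pow_add]
  congr 1
  omega

theorem exists_zeta_exponent (F : Frame p E B a b ζ) {m : ℕ} {z : G}
    (ho : orderOf z = p ^ (m + 1)) (hζ : ζ ∈ zpowers z) :
    ∃ k : ℕ, ¬ p ∣ k ∧ z ^ p ^ m = ζ ^ k := by
  have hp := hpf.out
  obtain ⟨i, hi⟩ := exists_nat_pow hζ
  have hdvd : p ^ m ∣ i := by
    have : p ^ (m + 1) ∣ i * p := ho ▸ orderOf_dvd_of_pow_eq_one (by rw [pow_mul, hi, F.zpow_p])
    rw [pow_succ] at this
    exact Nat.dvd_of_mul_dvd_mul_right hp.pos this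
  obtain ⟨j, rfl⟩ := hdvd
  rw [pow_mul] at hi
  have hz1 : (z ^ p ^ m) ^ p = 1 := by rw [← pow_mul, ← pow_succ, ← ho, pow_orderOf_eq_one]
  have hmem : zpowers ζ = zpowers (z ^ p ^ m) := by
    refine eq_of_le_of_card_ge (zpowers_le.2 (hi ▸ pow_mem (mem_zpowers _) j)) ?_
    rw [Nat.card_zpowers, Nat.card_zpowers, F.ζo]
    exact orderOf_le_of_pow_eq_one hp.pos hz1
  obtain ⟨k, hk⟩ := exists_nat_pow (hmem ▸ mem_zpowers (z ^ p ^ m) : z ^ p ^ m ∈ zpowers ζ)
  refine ⟨k, fun ⟨l, hl⟩ => ?_, hk.symm⟩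
  rw [hl, pow_mul, F.zpow_p, one_pow] at hk
  have h := orderOf_dvd_of_pow_eq_one hk.symm
  rw [ho, Nat.pow_dvd_pow_iff_le_right hp.one_lt] at h
  omega

/-- If the centralizer of `E` is larger than the centre of `E`, all elements of order `p` lie in `E`. -/
theorem mem_of_pow_eq_one (F : Frame p E B a b ζ) (hR : IsPGroup p G) (hp : p ≠ 2)
    (hC : p ^ 2 ≤ Nat.card ↥(centralizer (E : Set G))) {x : G} (hx : x ^ p = 1) : x ∈ E := by
  haveI := F.En
  obtain ⟨z, htop, hinf, -, hz⟩ := F.exists_gen hR hp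
  obtain ⟨e, he, w, hw, rfl⟩ := mem_sup_of_normal_left.1 (htop.ge (mem_top x) : x ∈ E ⊔ zpowers z)
  obtain ⟨i, rfl⟩ := exists_nat_pow hw
  have hwC : z ^ i ∈ centralizer (E : Set G) := by
    rcases hz with hz | ⟨-, -, hzp, hgen⟩
    · exact pow_mem hz i
    have hzi : (z ^ i) ^ p ∈ E := by
      rw [← QuotientGroup.eq_one_iff, QuotientGroup.mk_pow]
      have h1 : ((e * z ^ i : G) : G ⧸ E) = ((z ^ i : G) : G ⧸ E) := by
        rw [QuotientGroup.mk_mul, (QuotientGroup.eq_one_iff e).2 he, one_mul]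
      rw [← h1, ← QuotientGroup.mk_pow, hx, QuotientGroup.mk_one]
    have h2 : ((z ^ i) ^ p) ^ p = 1 := F.expo _ hzi
    rw [← pow_mul, ← pow_mul] at h2
    have h3 : p ^ 2 ≤ orderOf (z ^ p) := by
      rw [← Nat.card_zpowers]
      exact hC.trans (card_le_of_le hgen)
    obtain ⟨k, hk⟩ := IsPGroup.iff_orderOf.1 hR z
    have h4 : 3 ≤ k := by
      by_contra hlt
      have : orderOf (z ^ p) ≤ p := by
        refine orderOf_le_of_pow_eq_one hpf.out.pos ?_
        rw [← pow_mul, ← orderOf_dvd_iff_pow_eq_one, hk, ← pow_two]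
        exact pow_dvd_pow p (by omega)
      exact absurd (h3.trans this) (Nat.not_le.2 (by
        rw [pow_two]; exact lt_mul_of_one_lt_left hpf.out.pos hpf.out.one_lt))
    have h5 : p ^ 3 ∣ i * (p * p) :=
      (pow_dvd_pow p h4).trans (hk ▸ orderOf_dvd_of_pow_eq_one h2)
    obtain ⟨j, rfl⟩ : p ∣ i := by
      rw [← pow_two, pow_succ'] at h5
      exact Nat.dvd_of_mul_dvd_mul_right (pow_pos hpf.out.pos 2) h5
    rw [pow_mul]
    exact pow_mem hzp j
  have hc : Commute e (z ^ i) := (commute_of_mem hwC he).symm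
  rw [hc.mul_pow, F.expo e he, one_mul] at hx
  exact mul_mem he (F.hBE (F.small _ hx (commute_of_mem hwC (F.hBE F.bB))))

theorem conja_gen (F : Frame p E B a b ζ) {z : G} (hzb : Commute z b) (hza : z⁻¹ * a * z = a * b)
    (k : ℕ) : ∃ T : ℕ, z⁻¹ * a ^ k * z = a ^ k * (b ^ k * ζ ^ T) := by
  induction k with
  | zero => exact ⟨0, by simp⟩
  | succ k ih =>
    obtain ⟨T, hT⟩ := ih
    refine ⟨T + k, ?_⟩
    calc z⁻¹ * a ^ (k + 1) * z = a ^ k * (b ^ k * ζ ^ T) * (a * b) := by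
          rw [pow_succ, cj_mul, hT, hza]
      _ = a ^ k * (b ^ k * a * b) * ζ ^ T := by
          rw [mul_assoc (a ^ k) _ (a * b), mul_assoc (b ^ k), ← (F.zcomm (a * b) T).eq]
          simp only [mul_assoc]
      _ = a ^ k * (a * b ^ k * (ζ ^ k * b)) * ζ ^ T := by rw [F.ba, mul_assoc (a * b ^ k)]
      _ = a ^ (k + 1) * (b ^ (k + 1) * ζ ^ (T + k)) := by
          rw [← (F.zcomm b k).eq, pow_succ, pow_succ, add_comm T, pow_add]
          simp only [mul_assoc]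

theorem presentation (F : Frame p E B a b ζ) (hR : IsPGroup p G) (hp : p ≠ 2) {n : ℕ}
    (hG : Nat.card G = p ^ n) :
    (3 ≤ n ∧ ∃ x y z : G, closure ({x, y, z} : Set G) = ⊤ ∧ x ^ p = 1 ∧ y ^ p = 1 ∧ z ^ p ^ (n - 2) = 1 ∧
      x * z = z * x ∧ y * z = z * y ∧ x⁻¹ * y * x = y * z ^ p ^ (n - 3)) ∨
    (4 ≤ n ∧ ∃ (s : ℕ) (x y z : G), (s = 1 ∨ ¬ IsSquare (s : ZMod p)) ∧
      closure ({x, y, z} : Set G) = ⊤ ∧
      x ^ p = 1 ∧ y ^ p = 1 ∧ z ^ p ^ (n - 2) = 1 ∧ y * z = z * y ∧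
      x⁻¹ * y * x = y * z ^ (s * p ^ (n - 3)) ∧ x⁻¹ * z * x = y * z) := by
  classical
  haveI := F.En
  obtain ⟨z, htop, hinf, hCz, hz⟩ := F.exists_gen hR hp
  obtain ⟨hn, hzo⟩ := F.orderOf_gen hG htop hinf
  have hzone : z ^ p ^ (n - 2) = 1 := hzo ▸ pow_orderOf_eq_one z
  have hζz : ζ ∈ zpowers z :=
    (le_of_eq_of_le hinf.symm inf_le_right : zpowers ζ ≤ zpowers z) (mem_zpowers ζ)
  obtain ⟨l, hl, hzl⟩ := F.exists_zeta_exponent (m := n - 3)
    (by rw [hzo]; congr 1; omega) hζz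
  -- generation criterion
  have hgenTop : ∀ L : Subgroup G, a ∈ L → b ∈ L → z ∈ L → L = ⊤ := by
    intro L haL hbL hzL
    refine eq_top_iff.2 (htop ▸ sup_le (fun x hx => ?_) (zpowers_le.2 hzL))
    obtain ⟨k, β, hβ, rfl⟩ := F.decE x hx
    obtain ⟨i, j, rfl⟩ := F.decB β hβ
    exact mul_mem (mul_mem (pow_mem hbL i) (pow_mem (zpowers_le.2 hzL hζz) j)) (pow_mem haL k)
  rcases hz with hz | ⟨hzb, hza, hzp, hgen⟩
  · left
    refine ⟨hn, a ^ l, b, z, ?_, by rw [← pow_mul, mul_comm, pow_mul, F.apow_p, one_pow], F.bpow_p,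
      hzone, ((commute_of_mem hz F.aE).symm.pow_left l).eq,
      ((commute_of_mem hz (F.hBE F.bB)).symm).eq, by rw [hzl]; exact F.apow l⟩
    refine hgenTop _ ?_ (subset_closure (by simp)) (subset_closure (by simp))
    exact (zpowers_le.2 (subset_closure (by simp) : a ^ l ∈ closure ({a ^ l, b, z} : Set G)))
      (mem_zpowers_pow hR hl)
  right
  have hn4 : 4 ≤ n := by
    by_contra hlt
    have hn3 : n - 2 = 1 := by omega
    rw [hn3, pow_one] at hzone
    have h1 : z ^ p = 1 := hzone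
    have h2 := card_le_of_le ((zpowers_le.2 (show ζ ∈ centralizer (E : Set G) from
      mem_centralizer_iff.2 fun x _ => mem_center_iff.1 F.hζ x)).trans hgen)
    rw [h1, Nat.card_zpowers, F.ζo, Nat.card_zpowers, orderOf_one] at h2
    exact absurd h2 (Nat.not_le.2 hpf.out.one_lt)
  have hl0 : (l : ZMod p) ≠ 0 := fun h => hl ((ZMod.natCast_eq_zero_iff _ _).1 h)
  obtain ⟨s, k, hs, hk, hsk⟩ : ∃ s k : ℕ, (s = 1 ∨ ¬ IsSquare (s : ZMod p)) ∧ ¬ p ∣ k ∧
      ((l * s + k * k : ℕ) : ZMod p) = 0 := by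
    by_cases hsq : IsSquare (-(l : ZMod p))
    · obtain ⟨r, hr⟩ := hsq
      refine ⟨1, r.val, Or.inl rfl, fun h => ?_, ?_⟩
      · have hr0 : r = 0 := by
          rw [← ZMod.natCast_zmod_val r]; exact (ZMod.natCast_eq_zero_iff _ _).2 h
        rw [hr0, mul_zero, neg_eq_zero] at hr
        exact hl0 hr
      · push_cast
        rw [ZMod.natCast_zmod_val, mul_one, ← hr, add_neg_cancel]
    · refine ⟨((-(l : ZMod p))⁻¹).val, 1, Or.inr ?_, hpf.out.not_dvd_one, ?_⟩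
      · rw [ZMod.natCast_zmod_val]
        exact fun h => hsq (by simpa using h.inv)
      · push_cast
        rw [ZMod.natCast_zmod_val, inv_neg, mul_neg, mul_inv_cancel₀ hl0, neg_add_cancel]
  obtain ⟨T, hT⟩ := F.conja_gen hzb hza k
  set β := b ^ k * ζ ^ T with hβ
  set x := a ^ k with hx
  have hβz : Commute β z := ((hzb.pow_right k).mul_right (F.zcomm z T)).symm
  have hy : x⁻¹ * z * x = β⁻¹ * z := by
    have h1 : x⁻¹ * z⁻¹ * x = β * z⁻¹ := by
      calc x⁻¹ * z⁻¹ * x = x⁻¹ * (z⁻¹ * x * z) * z⁻¹ := by group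
        _ = β * z⁻¹ := by rw [hT]; group
    calc x⁻¹ * z * x = (x⁻¹ * z⁻¹ * x)⁻¹ := by group
      _ = z * β⁻¹ := by rw [h1]; group
      _ = β⁻¹ * z := hβz.inv_left.eq.symm
  have hxβ : x⁻¹ * β * x = β * ζ ^ (k * k) := by
    rw [hβ, cj_mul, cj_fix (F.zcomm x T), F.bpow, mul_assoc, mul_assoc, ← pow_add, ← pow_add,
      add_comm]
  refine ⟨hn4, s, x, β⁻¹, z, hs, ?_, by rw [hx, ← pow_mul, mul_comm, pow_mul, F.apow_p, one_pow],
    ?_, hzone, hβz.inv_left.eq, ?_, hy⟩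
  · set L := closure ({x, β⁻¹, z} : Set G) with hL
    have hxL : x ∈ L := subset_closure (by simp)
    have hβL : β ∈ L := inv_mem_iff.1 (subset_closure (by simp) : β⁻¹ ∈ L)
    have hzL : z ∈ L := subset_closure (by simp)
    have hbk : b ^ k ∈ L := by
      have := mul_mem hβL (inv_mem (pow_mem (zpowers_le.2 hzL hζz) T))
      rwa [hβ, mul_inv_cancel_right] at this
    exact hgenTop L (zpowers_le.2 hxL (mem_zpowers_pow hR hk))
      (zpowers_le.2 hbk (mem_zpowers_pow hR hk)) hzL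
  · rw [inv_pow, hβ, (F.zcomm (b ^ k) T).mul_pow, ← pow_mul, ← pow_mul, mul_comm k, mul_comm T,
      pow_mul, pow_mul, F.bpow_p, F.zpow_p, one_pow, one_pow, mul_one, inv_one]
  · have h1 : x⁻¹ * β⁻¹ * x = β⁻¹ * (ζ ^ (k * k))⁻¹ := by
      calc x⁻¹ * β⁻¹ * x = (x⁻¹ * β * x)⁻¹ := by group
        _ = _ := by rw [hxβ, mul_inv_rev, (F.zcomm β _).symm.inv_inv.eq]
    have h2 : z ^ (s * p ^ (n - 3)) = (ζ ^ (k * k))⁻¹ := by
      rw [mul_comm s, pow_mul, hzl, ← pow_mul, eq_inv_iff_mul_eq_one, ← pow_add]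
      rw [← pow_zero ζ]
      exact pow_congr F.zpow_p (by rw [hsk, Nat.cast_zero])
    rw [h1, h2]

end Frame

end CfsgLib.Heisenberg
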