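import Cfsg.Agent.Lib.PGroup.ClassGraph
import Cfsg.Agent.Lib.Coprime.Frobenius
import Cfsg.Agent.Lib.PGroup.PiClasses

/-!
Finite groups whose two largest class sizes are coprime.
-/

set_option autoImplicit false
set_option linter.style.haveILetI false
set_option linter.unusedSectionVars false

namespace CfsgLib.ClassGraph

open Subgroup
open scoped Pointwise

variable {G : Type*} [Group G] [Finite G]

theorem centralizer_eq_of_le {a b : G} (hle : centralizer ({a} : Set G) ≤ centralizer ({b} : Set G))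
    (h : cidx b = cidx a) : centralizer ({a} : Set G) = centralizer ({b} : Set G) := by
  refine eq_of_le_of_card_ge hle (le_of_eq ?_)
  have h1 := (centralizer ({a} : Set G)).index_mul_card
  rw [← (centralizer ({b} : Set G)).index_mul_card] at h1
  rw [show (centralizer ({b} : Set G)).index = (centralizer ({a} : Set G)).index from h] at h1
  exact (Nat.eq_of_mul_eq_mul_left (Nat.pos_of_ne_zero index_ne_zero_of_finite) h1).symm

theorem mem_zpowers_mul' {a b : G} (hc : Commute a b) (hco : (orderOf a).Coprime (orderOf b)) :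
    a ∈ zpowers (a * b) := by
  obtain ⟨e, he⟩ := exists_pow_eq_self_of_coprime hco.symm
  refine ⟨((orderOf b * e : ℕ) : ℤ), ?_⟩
  show (a * b) ^ ((orderOf b * e : ℕ) : ℤ) = a
  rw [zpow_natCast, pow_mul, hc.mul_pow, pow_orderOf_eq_one, mul_one, he]

theorem centralizer_mul_le {a b : G} (hc : Commute a b) (hco : (orderOf a).Coprime (orderOf b)) :
    centralizer ({a * b} : Set G) ≤ centralizer ({a} : Set G) ⊓ centralizer ({b} : Set G) := by
  intro g hg
  rw [mem_centralizer_singleton_iff] at hg
  constructor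
  · obtain ⟨k, hk⟩ := mem_zpowers_mul' hc hco
    simp only at hk
    refine mem_centralizer_singleton_iff.2 ?_
    rw [← hk]
    exact Commute.zpow_right hg k
  · obtain ⟨k, hk⟩ := mem_zpowers_mul' hc.symm hco.symm
    simp only at hk
    refine mem_centralizer_singleton_iff.2 ?_
    rw [← hk, ← hc.eq]
    exact Commute.zpow_right hg k

theorem index_inf_of_coprime {A B : Subgroup G} (h : A.index.Coprime B.index) :
    (A ⊓ B).index = A.index * B.index :=
  le_antisymm index_inf_le (Nat.le_of_dvd (Nat.pos_of_ne_zero index_ne_zero_of_finite)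
    (h.mul_dvd_of_dvd_of_dvd (index_dvd_of_le inf_le_left) (index_dvd_of_le inf_le_right)))

/-- Commuting factors with coprime class sizes: the translates of a class. -/
theorem class_product {a b : G} (hco : (cidx a).Coprime (cidx b)) :
    cidx b ≤ cidx (a * b) ∧ cidx (a * b) ∣ cidx a * cidx b ∧
      (cidx (a * b) = cidx b → ∀ g : G, orderOf (a⁻¹ * (g * a * g⁻¹)) ∣ cidx b) := by
  classical
  set L : Set G := (ConjClasses.mk b).carrier with hL
  set T : Set G := (ConjClasses.mk (a * b)).carrier with hT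
  have hLc : L.ncard = cidx b := PGroup.ncard_carrier_eq_index b
  have hTc : T.ncard = cidx (a * b) := PGroup.ncard_carrier_eq_index _
  have hconj : ∀ (h : G) (S : ConjClasses G) (w : G),
      h * w * h⁻¹ ∈ S.carrier ↔ w ∈ S.carrier := by
    intro h S w
    rw [ConjClasses.mem_carrier_iff_mk_eq, ConjClasses.mem_carrier_iff_mk_eq,
      ← ConjClasses.mk_eq_mk_iff_isConj.2 (isConj_iff.2 ⟨h, rfl⟩ : IsConj w (h * w * h⁻¹))]
  have hsub : a • L ⊆ T := by
    rintro _ ⟨z, hz, rfl⟩
    obtain ⟨h, rfl⟩ := isConj_iff.1 (ConjClasses.mk_eq_mk_iff_isConj.1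
      (ConjClasses.mem_carrier_iff_mk_eq.1 hz).symm)
    obtain ⟨u, hu, v, hv, rfl⟩ := exists_mul_of_coprime (x := a) (y := b) hco h
    have hu' : u * a * u⁻¹ = a := mul_inv_eq_iff_eq_mul.2 (mem_centralizer_singleton_iff.1 hu)
    have hv' : v * b * v⁻¹ = b := mul_inv_eq_iff_eq_mul.2 (mem_centralizer_singleton_iff.1 hv)
    show a * (u * v * b * (u * v)⁻¹) ∈ T
    have e : a * (u * v * b * (u * v)⁻¹) = u * (a * b) * u⁻¹ := by
      calc a * (u * v * b * (u * v)⁻¹) = a * (u * (v * b * v⁻¹) * u⁻¹) := by group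
        _ = (u * a * u⁻¹) * (u * b * u⁻¹) := by rw [hu', hv']
        _ = u * (a * b) * u⁻¹ := by group
    rw [e, hT, hconj]
    exact ConjClasses.mem_carrier_mk
  refine ⟨?_, ?_, fun heq g => ?_⟩
  · rw [← hLc, ← hTc, ← Set.ncard_smul_set a L]
    exact Set.ncard_le_ncard hsub (Set.toFinite _)
  · rw [← index_inf_of_coprime hco]
    refine index_dvd_of_le fun t ht => mem_centralizer_singleton_iff.2 ?_
    exact Commute.mul_right (mem_centralizer_singleton_iff.1 ht.1) (mem_centralizer_singleton_iff.1 ht.2)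
  · have heqT : a • L = T := Set.eq_of_subset_of_ncard_le hsub (by
      rw [hTc, Set.ncard_smul_set, hLc, heq]) (Set.toFinite _)
    have heqT' : (g * a * g⁻¹) • L = T := by
      ext z
      rw [Set.mem_smul_set_iff_inv_smul_mem, ← hconj g⁻¹ (ConjClasses.mk b), inv_inv,
        ← hconj g⁻¹ (ConjClasses.mk (a * b)) z, inv_inv, ← hT, ← heqT,
        Set.mem_smul_set_iff_inv_smul_mem, smul_eq_mul, smul_eq_mul]
      simp [mul_assoc, hL]
    set t := a⁻¹ * (g * a * g⁻¹) with ht
    have hst : t • L = L := by rw [ht, mul_smul, heqT', ← heqT, inv_smul_smul]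
    set St := zpowers t
    have hle : St ≤ MulAction.stabilizer G L := by rw [zpowers_le]; exact hst
    letI act : MulAction St L :=
      { smul := fun s z => ⟨(s : G) * z.1,
          (MulAction.mem_stabilizer_iff.1 (hle s.2)).subset (Set.smul_mem_smul_set z.2)⟩
        one_smul := fun z => Subtype.ext (one_mul _)
        mul_smul := fun s u z => Subtype.ext (mul_assoc _ _ _) }
    have hfree : ∀ z : L, MulAction.stabilizer St z = ⊥ := fun z => (eq_bot_iff_forall _).2
      fun s hs => Subtype.ext (mul_eq_right.1 (congrArg Subtype.val (MulAction.mem_stabilizer_iff.1 hs)))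
    have h1 := Nat.card_congr (MulAction.selfEquivOrbitsQuotientProd hfree)
    rw [Nat.card_prod, Nat.card_coe_set_eq, hLc, Nat.card_zpowers] at h1
    rw [h1]
    exact dvd_mul_left _ _

/-- `n < m` are the two largest class sizes, coprime, and `x` has a class of size `n`. -/
structure Two (x : G) (n m : ℕ) : Prop where
  one_lt : 1 < n
  lt : n < m
  cop : m.Coprime n
  le_top : ∀ g : G, cidx g ≤ m
  second : ∀ g : G, cidx g < m → cidx g ≤ n
  idx_x : cidx x = n

variable {x : G} {n m : ℕ} (h : Two x n m)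

include h in
theorem Two.isTop {y : G} (hy : cidx y = m) : IsTop y := fun g => hy ▸ h.le_top g

include h in
theorem Two.x_mem {y : G} (hy : cidx y = m) : x ∈ xset y := by
  show (cidx x).Coprime (cidx y)
  rw [h.idx_x, hy]; exact h.cop.symm

include h in
theorem Two.eq_of_dvd {g : G} (hd : n ∣ cidx g) : cidx g = n := by
  rcases (h.le_top g).lt_or_eq with hlt | heq
  · exact le_antisymm (h.second g hlt) (Nat.le_of_dvd (Nat.pos_of_ne_zero index_ne_zero_of_finite) hd)
  · exfalso
    have := h.one_lt
    rw [Nat.eq_one_of_dvd_coprimes h.cop (heq ▸ hd) dvd_rfl] at this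
    omega

include h in
theorem Two.central_of_pow {y : G} (hy : cidx y = m) {w : G} (hw : w ∈ wsub y) {k : ℕ}
    (hk : w ^ k = 1) (hco : k.Coprime m) : w ∈ center G := by
  refine mem_center_iff.2 fun g => ?_
  have hμ := conj_div_mem_msub hw g
  have hcom : Commute (g * w * g⁻¹) w⁻¹ :=
    wsub_commute (h.isTop hy) (Normal.conj_mem inferInstance w hw g) ((wsub y).inv_mem hw)
  have hp : (g * w * g⁻¹ * w⁻¹) ^ k = 1 := by
    rw [hcom.mul_pow, conj_pow, hk, inv_pow, hk, mul_one, mul_inv_cancel, inv_one, one_mul]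
  have h1 : g * w * g⁻¹ * w⁻¹ = 1 := orderOf_eq_one_iff.1 (Nat.eq_one_of_dvd_coprimes hco
    (orderOf_dvd_of_pow_eq_one hp)
    ((Subgroup.orderOf_dvd_natCard _ hμ).trans (hy ▸ msub_card_dvd (h.isTop hy))))
  rw [mul_inv_eq_one, mul_inv_eq_iff_eq_mul] at h1
  exact h1

include h in
theorem Two.center_of_coprime {y z : G} (hy : cidx y = m) (hco : (cidx z).Coprime n) (hlt : cidx z < m) :
    z ∈ center G := by
  obtain ⟨h1, h2, h3⟩ := class_product (a := z) (b := x) (h.idx_x.symm ▸ hco)
  rw [h.idx_x] at h1 h2 h3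
  have hc : cidx (z * x) = n := by
    refine le_antisymm (h.second _ ((h.le_top _).lt_of_ne fun e => ?_)) h1
    have : m ∣ cidx z := (h.cop.dvd_of_dvd_mul_right (e ▸ h2))
    exact absurd (Nat.le_of_dvd (Nat.pos_of_ne_zero index_ne_zero_of_finite) this) (not_le.2 hlt)
  have hzW : z ∈ wsub y := by
    have hzx : z * x ∈ wsub y := subset_closure (show (cidx _).Coprime (cidx y) by
      rw [hc, hy]; exact h.cop.symm)
    have := (wsub y).mul_mem hzx ((wsub y).inv_mem (subset_closure (h.x_mem hy)))
    rwa [mul_inv_cancel_right] at this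
  refine mem_center_iff.2 fun g => ?_
  have hμ : z⁻¹ * (g * z * g⁻¹) ∈ msub y := by
    have := (msub_normal y).conj_mem _ (conj_div_mem_msub hzW g) z⁻¹
    simpa [mul_assoc] using this
  have := orderOf_eq_one_iff.1 (Nat.eq_one_of_dvd_coprimes h.cop
    ((Subgroup.orderOf_dvd_natCard _ hμ).trans (hy ▸ msub_card_dvd (h.isTop hy))) (h3 hc g))
  rw [inv_mul_eq_one, eq_mul_inv_iff_mul_eq] at this
  exact this.symm

include h in
theorem Two.top_or_center {y z : G} (hy : cidx y = m) (hd : cidx z ∣ m) :
    z ∈ center G ∨ cidx z = m := by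
  rcases (h.le_top z).lt_or_eq with hlt | heq
  · exact Or.inl (h.center_of_coprime hy (h.cop.coprime_dvd_left hd) hlt)
  · exact Or.inr heq

include h in
theorem Two.not_center {y : G} (hy : cidx y = m) : y ∉ center G := fun hc => by
  have h1 := h.one_lt
  have h2 := h.lt
  rw [cidx_of_mem_center hc] at hy
  omega

include h in
/-- A top element may be replaced by one of its primary parts. -/
theorem Two.exists_primary {y : G} (hy : cidx y = m) :
    ∃ r u, r.Prime ∧ (∃ k : ℕ, orderOf u = r ^ k) ∧ cidx u = m ∧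
      centralizer ({u} : Set G) = centralizer ({y} : Set G) := by
  obtain ⟨r, hr, hno⟩ : ∃ r : ℕ, r.Prime ∧ ∀ k : ℕ, ¬ r ∣ k → y ^ k ∉ center G := by
    by_contra hcon
    push Not at hcon
    exact h.not_center hy (PGroup.mem_of_forall_prime_pow_mem hcon)
  obtain ⟨u, v, hc, huv, ⟨e, hue⟩, -, hrv, -⟩ := PGroup.exists_split y hr
  have huZ : u ∉ center G := fun hu => hno (orderOf v) hrv (by
    rw [← huv, hc.mul_pow, pow_orderOf_eq_one, mul_one]; exact (center G).pow_mem hu _)
  obtain ⟨k, -, hk⟩ := (Nat.dvd_prime_pow hr).1 hue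
  have hco : (orderOf u).Coprime (orderOf v) := by
    rw [hk]; exact Nat.Coprime.pow_left k (hr.coprime_iff_not_dvd.2 hrv)
  have hle : centralizer ({y} : Set G) ≤ centralizer ({u} : Set G) :=
    huv ▸ (centralizer_mul_le hc hco).trans inf_le_left
  have hum := (h.top_or_center hy (hy ▸ index_dvd_of_le hle)).resolve_left huZ
  exact ⟨r, u, hr, ⟨k, hk⟩, hum, (centralizer_eq_of_le hle (hum.trans hy.symm)).symm⟩

include h in
/-- An element of a top centralizer of coprime order centralises it. -/
theorem Two.le_centralizer_of_coprime {y g : G} (hy : cidx y = m) (hg : g ∈ centralizer ({y} : Set G))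
    (hco : (orderOf y).Coprime (orderOf g)) : centralizer ({y} : Set G) ≤ centralizer ({g} : Set G) := by
  have hc : Commute y g := (mem_centralizer_singleton_iff.1 hg).symm
  have hle := centralizer_mul_le hc hco
  have hd : m ∣ cidx (y * g) := hy ▸ index_dvd_of_le (hle.trans inf_le_left)
  have he : cidx (y * g) = m :=
    le_antisymm (h.le_top _) (Nat.le_of_dvd (Nat.pos_of_ne_zero index_ne_zero_of_finite) hd)
  rw [← centralizer_eq_of_le (hle.trans inf_le_left) (hy.trans he.symm)]
  exact hle.trans inf_le_right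

include h in
theorem Two.not_comm_x {y : G} (hy : cidx y = m) :
    ¬ centralizer ({y} : Set G) ≤ centralizer ({x} : Set G) := fun hle => by
  have h1 := h.one_lt
  rw [Nat.eq_one_of_dvd_coprimes h.cop (hy ▸ h.idx_x ▸ index_dvd_of_le hle) dvd_rfl] at h1
  omega

include h in
/-- Some top centralizer is abelian. -/
theorem Two.exists_abelian {y : G} (hy : cidx y = m) :
    ∃ z : G, cidx z = m ∧ IsMulCommutative (centralizer ({z} : Set G)) := by
  classical
  by_contra hno
  push Not at hno
  -- elements of coprime order in a primary top centralizer are central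
  have hsmall : ∀ (r : ℕ) (u : G), r.Prime → (∃ k : ℕ, orderOf u = r ^ k) → cidx u = m →
      ∀ g ∈ centralizer ({u} : Set G), ¬ r ∣ orderOf g → g ∈ center G := by
    intro r u hr hord hu g hg hrg
    obtain ⟨k, hk⟩ := hord
    have hco : (orderOf u).Coprime (orderOf g) := by
      rw [hk]; exact Nat.Coprime.pow_left k (hr.coprime_iff_not_dvd.2 hrg)
    have hle := h.le_centralizer_of_coprime hu hg hco
    refine (h.top_or_center hy (hu ▸ index_dvd_of_le hle)).resolve_right fun hgm => hno u hu ?_
    have heq := centralizer_eq_of_le hle (hgm.trans hu.symm)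
    refine ⟨⟨fun a b => Subtype.ext ?_⟩⟩
    have key : ∀ t ∈ centralizer ({u} : Set G), centralizer ({u} : Set G) ≤ centralizer ({t} : Set G) := by
      intro t ht
      obtain ⟨a, b, hab, rfl, ⟨e, hae⟩, -, hrb, -⟩ := PGroup.exists_split t hr
      have hco' : (orderOf a).Coprime (orderOf b) :=
        Nat.Coprime.coprime_dvd_left hae (Nat.Coprime.pow_left e (hr.coprime_iff_not_dvd.2 hrb))
      have hle' := centralizer_mul_le hab hco'
      have hmem : ∀ t, t ∈ centralizer ({u} : Set G) ↔ u ∈ centralizer ({t} : Set G) := fun t => by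
        rw [mem_centralizer_singleton_iff, mem_centralizer_singleton_iff]; exact eq_comm
      have hua := hle' ((hmem _).1 ht)
      have haC : a ∈ centralizer ({g} : Set G) := hle ((hmem a).2 hua.1)
      have hca : centralizer ({u} : Set G) ≤ centralizer ({a} : Set G) := by
        rw [heq]
        exact h.le_centralizer_of_coprime hgm haC
          (Nat.Coprime.coprime_dvd_right hae (Nat.Coprime.pow_right e (hr.coprime_iff_not_dvd.2 hrg).symm))
      have hcb : centralizer ({u} : Set G) ≤ centralizer ({b} : Set G) :=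
        h.le_centralizer_of_coprime hu ((hmem b).2 hua.2)
          (by rw [hk]; exact Nat.Coprime.pow_left k (hr.coprime_iff_not_dvd.2 hrb))
      intro s hs
      exact mem_centralizer_singleton_iff.2
        (Commute.mul_right (mem_centralizer_singleton_iff.1 (hca hs)) (mem_centralizer_singleton_iff.1 (hcb hs)))
    exact mem_centralizer_singleton_iff.1 (key b b.2 a.2)
  obtain ⟨r, u₀, hr, hu₀r, hu₀, -⟩ := h.exists_primary hy
  haveI := Fact.mk hr
  -- `n` is a power of `r`
  have hnr : ∀ q : ℕ, q.Prime → q ∣ n → q = r := by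
    intro q hq hqn
    by_contra hqr
    haveI := Fact.mk hq
    obtain ⟨Q⟩ : Nonempty (Sylow q G) := inferInstance
    have hqm : ¬ q ∣ cidx u₀ := fun hd => hq.not_dvd_one
      ((Nat.Coprime.eq_one_of_dvd (Nat.Coprime.coprime_dvd_right hqn h.cop).symm (hu₀ ▸ hd)) ▸ dvd_rfl)
    obtain ⟨g, hg⟩ := exists_conj_centralizes Q hqm
    refine Q.not_dvd_index (hqn.trans (h.idx_x ▸ index_dvd_of_le fun t ht => ?_))
    have htc : g * t * g⁻¹ ∈ centralizer ({u₀} : Set G) := by
      rw [mem_centralizer_singleton_iff]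
      calc g * t * g⁻¹ * u₀ = g * (t * (g⁻¹ * u₀ * g)) * g⁻¹ := by group
        _ = g * ((g⁻¹ * u₀ * g) * t) * g⁻¹ := by rw [mem_centralizer_iff.1 hg t ht]
        _ = u₀ * (g * t * g⁻¹) := by group
    obtain ⟨j, hj⟩ := IsPGroup.iff_orderOf.1 Q.isPGroup' ⟨t, ht⟩
    rw [← orderOf_coe] at hj
    have hcen := hsmall r u₀ hr hu₀r hu₀ _ htc (by
      have e : MulAut.conj g t = g * t * g⁻¹ := rfl
      rw [← e, MulEquiv.orderOf_eq, show orderOf t = q ^ j from hj]
      exact fun hd => hqr ((Nat.prime_dvd_prime_iff_eq hr hq).1 (hr.dvd_of_dvd_pow hd)).symm)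
    have ht' : t ∈ center G := by
      simpa [mul_assoc] using (inferInstance : (center G).Normal).conj_mem _ hcen g⁻¹
    exact center_le_centralizer _ ht'
  have hn0 : n ≠ 0 := by have := h.one_lt; omega
  obtain ⟨a, hna⟩ : ∃ a : ℕ, n = r ^ a := ⟨_, Nat.eq_prime_pow_of_unique_prime_dvd hn0 fun hd hdn => hnr _ hd hdn⟩
  have hrm : ¬ r ∣ m := fun hd => by
    have h1 : r ∣ n := by
      rcases a with _ | a
      · have := h.one_lt; rw [hna, pow_zero] at this; omega
      · rw [hna]; exact dvd_pow_self r a.succ_ne_zero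
    exact hr.not_dvd_one ((Nat.Coprime.eq_one_of_dvd (Nat.Coprime.coprime_dvd_right h1 h.cop).symm hd) ▸ dvd_rfl)
  -- `x` may be replaced by its `r'`-part `x'`
  obtain ⟨xr, x', hxc, hxx, ⟨e, hxe⟩, -, hrx', -⟩ := PGroup.exists_split x hr
  have hxW : x ∈ wsub y := subset_closure (h.x_mem hy)
  obtain ⟨i, -, hi⟩ := (Nat.dvd_prime_pow hr).1 hxe
  have hxco : (orderOf xr).Coprime (orderOf x') := by
    rw [hi]; exact Nat.Coprime.pow_left i (hr.coprime_iff_not_dvd.2 hrx')
  obtain ⟨hxrW, hx'W⟩ : xr ∈ wsub y ∧ x' ∈ wsub y := by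
    have key : zpowers x ≤ wsub y := zpowers_le.2 hxW
    refine ⟨key ?_, key ?_⟩
    · rw [← hxx]; exact mem_zpowers_mul' hxc hxco
    · rw [← hxx, hxc.eq]; exact mem_zpowers_mul' hxc.symm hxco.symm
  have hxrZ : xr ∈ center G :=
    h.central_of_pow hy hxrW (pow_orderOf_eq_one xr) (by
      rw [hi]; exact Nat.Coprime.pow_left i (hr.coprime_iff_not_dvd.2 hrm))
  have hCx' : centralizer ({x'} : Set G) = centralizer ({x} : Set G) := by
    ext g
    rw [mem_centralizer_singleton_iff, mem_centralizer_singleton_iff, ← hxx]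
    have hg := mem_center_iff.1 hxrZ g
    constructor
    · intro e1; rw [← mul_assoc, hg, mul_assoc, e1, ← mul_assoc]
    · intro e1
      rw [← mul_assoc, hg, mul_assoc, mul_assoc] at e1
      exact mul_left_cancel e1
  -- `r`-elements centralising `x` are central
  have hrx : ∀ u : G, (∃ k : ℕ, orderOf u = r ^ k) → u ∈ centralizer ({x} : Set G) → u ∈ center G := by
    rintro u ⟨k, hk⟩ hu
    have hcom : Commute u x' := mem_centralizer_singleton_iff.1 (hCx'.symm ▸ hu)
    have hle := centralizer_mul_le hcom (by rw [hk]; exact Nat.Coprime.pow_left k (hr.coprime_iff_not_dvd.2 hrx'))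
    rw [hCx'] at hle
    have he := h.eq_of_dvd (g := u * x')
      (by rw [← h.idx_x]; exact index_dvd_of_le (hle.trans inf_le_right))
    have hCle : centralizer ({x} : Set G) ≤ centralizer ({u} : Set G) := by
      rw [← centralizer_eq_of_le (hle.trans inf_le_right) (h.idx_x.trans he.symm)]
      exact hle.trans inf_le_left
    have huW : u ∈ wsub y := subset_closure (show (cidx u).Coprime (cidx y) by
      rw [hy]; exact (h.cop.symm.coprime_dvd_left (h.idx_x ▸ index_dvd_of_le hCle)))
    exact h.central_of_pow hy huW (hk ▸ pow_orderOf_eq_one u)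
      (Nat.Coprime.pow_left k (hr.coprime_iff_not_dvd.2 hrm))
  have hMco : ∀ μ ∈ msub y, ¬ r ∣ orderOf μ := fun μ hμ hd =>
    hrm (hd.trans ((Subgroup.orderOf_dvd_natCard _ hμ).trans (hy ▸ msub_card_dvd (h.isTop hy))))
  -- every non-central `r`-element has a class of size `m`
  have htop : ∀ u : G, (∃ k : ℕ, orderOf u = r ^ k) → u ∉ center G → cidx u = m := by
    rintro u hur huZ
    have hAn : zpowers u ≤ normalizer (msub y : Set G) := by rw [normalizer_eq_top]; exact _root_.le_top
    have hAco : (Nat.card (zpowers u)).Coprime (Nat.card (msub y)) := by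
      obtain ⟨k, hk⟩ := hur
      rw [Nat.card_zpowers, hk]
      exact Nat.Coprime.pow_left k (hr.coprime_iff_not_dvd.2 fun hd =>
        hrm (hd.trans (hy ▸ msub_card_dvd (h.isTop hy))))
    have hMc : IsMulCommutative (msub y) := msub_isMulCommutative (h.isTop hy)
    have hsol : Group.IsSolvable (zpowers u) ∨ Group.IsSolvable (msub y) :=
      Or.inr (Coprime.isSolvable_of_isMulCommutative hMc)
    obtain ⟨μ, hμ, hfix⟩ := Coprime.exists_fixed_in_coset hAn hAco hsol (k := x')
      (by rw [normalizer_eq_top]; exact mem_top _) (fun t _ => conj_div_mem_msub hx'W t)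
    set Q₀ : Subgroup G := ⁅msub y, zpowers u⁆ with hQ₀
    have hQM : Q₀ ≤ msub y := commutator_le_left _ _
    have hμ' : μ⁻¹ ∈ Q₀ ⊔ (msub y ⊓ centralizer (zpowers u : Set G)) := by
      rw [hQ₀, Coprime.commutator_sup_centralizer hAn hAco hsol]; exact inv_mem hμ
    obtain ⟨q, hq, c, hc, hqc⟩ := Coprime.mem_sup_exists
      (inf_le_left.trans (normalizer_commutator_ge_left (msub y) (zpowers u))) hμ'
    obtain ⟨x₁, hx₁⟩ : ∃ x₁, x₁ = x' * μ * c := ⟨_, rfl⟩
    have hqc' : q * c = c * q :=
      (wsub_commute (h.isTop hy) (mem_msub_le_wsub (hQM hq)) (mem_msub_le_wsub hc.1)).eq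
    have hxq : x' = x₁ * q := by
      rw [hx₁, mul_assoc, ← hqc', hqc, mul_inv_cancel_right]
    have hx₁W : x₁ ∈ wsub y := hx₁ ▸
      (wsub y).mul_mem ((wsub y).mul_mem hx'W (mem_msub_le_wsub hμ)) (mem_msub_le_wsub hc.1)
    have hx₁u : Commute u x₁ :=
      mem_centralizer_iff.1 (hx₁ ▸ mul_mem hfix hc.2) u (mem_zpowers u)
    have hrx₁ : ¬ r ∣ orderOf x₁ := by
      intro hd
      have h1 : Commute x' (μ * c) :=
        wsub_commute (h.isTop hy) hx'W (mem_msub_le_wsub ((msub y).mul_mem hμ hc.1))
      rw [hx₁, mul_assoc] at hd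
      rcases hr.dvd_mul.1 (hd.trans h1.orderOf_mul_dvd_mul_orderOf) with h2 | h2
      · exact hrx' h2
      · exact hMco _ ((msub y).mul_mem hμ hc.1) h2
    obtain ⟨k, hk⟩ := hur
    have hle := centralizer_mul_le hx₁u
      (by rw [hk]; exact Nat.Coprime.pow_left k (hr.coprime_iff_not_dvd.2 hrx₁))
    set C := centralizer ({u * x₁} : Set G) with hC
    -- the class size of `u * x₁` exceeds `n`
    have hbig : n < C.index := by
      obtain ⟨T⟩ : Nonempty (Sylow r C) := inferInstance
      set P₁ : Subgroup G := (T : Subgroup C).map C.subtype with hP₁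
      have hP₁C : P₁ ≤ C := map_subtype_le _
      have hP₁r : IsPGroup r P₁ := T.isPGroup'.map _
      have hnorm : ∀ t ∈ P₁, ∀ v ∈ Q₀, t * v * t⁻¹ ∈ Q₀ := by
        intro t ht v hv
        have htu : t * u = u * t := mem_centralizer_singleton_iff.1 (hle (hP₁C ht)).1
        have hm : Q₀ ≤ Q₀.comap (MulAut.conj t).toMonoidHom := by
          rw [hQ₀, commutator_le]
          intro a ha b hb
          rw [mem_comap, map_commutatorElement]
          refine commutator_mem_commutator ((msub_normal y).conj_mem a ha t) ?_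
          show t * b * t⁻¹ ∈ zpowers u
          obtain ⟨j, rfl⟩ := hb
          show t * u ^ j * t⁻¹ ∈ zpowers u
          rw [(Commute.zpow_right (show Commute t u from htu) j).eq, mul_inv_cancel_right]
          exact zpow_mem (mem_zpowers u) j
        exact hm hv
      have hfix' : ∀ t ∈ P₁, t * q = q * t → t ∈ center G := by
        intro t ht htq
        obtain ⟨j, hj⟩ := IsPGroup.iff_orderOf.1 hP₁r ⟨t, ht⟩
        rw [← orderOf_coe] at hj
        refine hrx t ⟨j, hj⟩ ?_
        rw [← hCx', mem_centralizer_singleton_iff, hxq]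
        exact Commute.mul_right (mem_centralizer_singleton_iff.1 (hle (hP₁C ht)).2) htq
      set Z₀ : Subgroup G := P₁ ⊓ center G with hZ₀
      have hrel : Z₀.relIndex P₁ < Nat.card Q₀ := by
        let f : P₁ ⧸ Z₀.subgroupOf P₁ → {v : Q₀ // v ≠ 1} := fun s => s.liftOn'
          (fun t => ⟨⟨(t : G) * q * (t : G)⁻¹, hnorm t t.2 q hq⟩, fun e1 => huZ (by
            have e2 : (t : G) * q * (t : G)⁻¹ = 1 := congrArg Subtype.val e1
            rw [conj_eq_one_iff] at e2
            refine hrx u ⟨k, hk⟩ ?_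
            rw [← hCx', mem_centralizer_singleton_iff, hxq, e2, mul_one]
            exact hx₁u.eq)⟩)
          (fun a b hab => Subtype.ext (Subtype.ext (by
            rw [QuotientGroup.leftRel_apply, mem_subgroupOf] at hab
            have hz := mem_center_iff.1 hab.2
            show (a : G) * q * (a : G)⁻¹ = (b : G) * q * (b : G)⁻¹
            rw [show (b : G) = (a : G) * ((a⁻¹ * b : P₁) : G) by simp]
            calc (a : G) * q * (a : G)⁻¹
                = (a : G) * (q * ((a⁻¹ * b : P₁) : G)) * ((a⁻¹ * b : P₁) : G)⁻¹ * (a : G)⁻¹ := by group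
              _ = (a : G) * (((a⁻¹ * b : P₁) : G) * q) * ((a⁻¹ * b : P₁) : G)⁻¹ * (a : G)⁻¹ := by rw [hz q]
              _ = _ := by group)))
        have hf : Function.Injective f := by
          intro s s'
          induction s using Quotient.inductionOn' with | _ a => ?_
          induction s' using Quotient.inductionOn' with | _ b => ?_
          intro hab
          have e1 : (a : G) * q * (a : G)⁻¹ = (b : G) * q * (b : G)⁻¹ :=
            congrArg (fun v : {v : Q₀ // v ≠ 1} => ((v : Q₀) : G)) hab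
          refine Quotient.sound' ?_
          rw [QuotientGroup.leftRel_apply, mem_subgroupOf]
          refine ⟨(a⁻¹ * b).2, hfix' _ (a⁻¹ * b).2 ?_⟩
          show (a : G)⁻¹ * (b : G) * q = q * ((a : G)⁻¹ * (b : G))
          calc (a : G)⁻¹ * (b : G) * q = (a : G)⁻¹ * ((b : G) * q * (b : G)⁻¹) * (b : G) := by group
            _ = (a : G)⁻¹ * ((a : G) * q * (a : G)⁻¹) * (b : G) := by rw [e1]
            _ = _ := by group
        haveI := Fintype.ofFinite Q₀
        refine lt_of_le_of_lt (Nat.card_le_card_of_injective f hf) ?_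
        simp only [Nat.card_eq_fintype_card, Fintype.card_subtype_compl, Fintype.card_subtype_eq]
        have : 0 < Fintype.card Q₀ := Fintype.card_pos
        omega
      have hA : Nat.card Q₀ ≤ C.relIndex (msub y) := by
        refine Nat.card_le_card_of_injective
          (fun v : Q₀ => (QuotientGroup.mk ⟨(v : G), hQM v.2⟩ : msub y ⧸ C.subgroupOf (msub y))) ?_
        intro v w hvw
        have h1 := QuotientGroup.eq.1 hvw
        rw [mem_subgroupOf] at h1
        have h2 : (v : G)⁻¹ * (w : G) ∈ (msub y ⊓ centralizer (zpowers u : Set G)) ⊓ ⁅msub y, zpowers u⁆ := by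
          refine ⟨⟨(msub y).mul_mem ((msub y).inv_mem (hQM v.2)) (hQM w.2), ?_⟩,
            Q₀.mul_mem (Q₀.inv_mem v.2) w.2⟩
          refine mem_centralizer_iff.2 ?_
          rintro _ ⟨j, rfl⟩
          exact (Commute.zpow_right (mem_centralizer_singleton_iff.1 (hle h1).1) j).eq.symm
        rw [Coprime.centralizer_inf_commutator_eq_bot hMc hAn hAco, mem_bot, inv_mul_eq_one] at h2
        exact Subtype.ext h2
      have hAd : C.relIndex (msub y) ∣ C.index := PGroup.relIndex_dvd_index_normal_right C (msub y)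
      have hAM : (C.relIndex (msub y)).Coprime n := h.cop.coprime_dvd_left
        ((relIndex_dvd_card _ _).trans (hy ▸ msub_card_dvd (h.isTop hy)))
      have hn : n ∣ C.index * Z₀.relIndex P₁ := by
        have h1 : n ∣ Z₀.index := h.idx_x ▸ index_dvd_of_le (inf_le_right.trans (center_le_centralizer _))
        rw [← relIndex_mul_index (inf_le_left : Z₀ ≤ P₁), hP₁, index_map_subtype, ← hP₁] at h1
        have h2 : n ∣ (T : Subgroup C).index * (C.index * Z₀.relIndex P₁) := by
          rw [show (T : Subgroup C).index * (C.index * Z₀.relIndex P₁) =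
            Z₀.relIndex P₁ * ((T : Subgroup C).index * C.index) by ring]
          exact h1
        refine Nat.Coprime.dvd_of_dvd_mul_left ?_ h2
        rw [hna]
        exact Nat.Coprime.pow_left a (hr.coprime_iff_not_dvd.2 T.not_dvd_index)
      have h3 : C.relIndex (msub y) * n ≤ C.index * Z₀.relIndex P₁ :=
        Nat.le_of_dvd (Nat.mul_pos (Nat.pos_of_ne_zero index_ne_zero_of_finite)
          (Nat.pos_of_ne_zero (index_ne_zero_of_finite (H := Z₀.subgroupOf P₁))))
          (hAM.mul_dvd_of_dvd_of_dvd (hAd.trans (dvd_mul_right _ _)) hn)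
      have h4 : C.index * Z₀.relIndex P₁ < C.index * C.relIndex (msub y) :=
        Nat.mul_lt_mul_of_pos_left (lt_of_lt_of_le hrel hA) (Nat.pos_of_ne_zero index_ne_zero_of_finite)
      by_contra hcon
      push Not at hcon
      have : C.index * C.relIndex (msub y) ≤ n * C.relIndex (msub y) := Nat.mul_le_mul_right _ hcon
      rw [mul_comm n] at this
      omega
    have hcm : cidx (u * x₁) = m := by
      refine le_antisymm (h.le_top _) ?_
      by_contra hlt
      have := h.second _ (not_le.1 hlt)
      exact absurd hbig (not_lt.2 this)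
    -- hence `x₁` is central
    have hx₁Z : x₁ ∈ center G := by
      obtain ⟨T⟩ : Nonempty (Sylow r G) := inferInstance
      obtain ⟨g, hg⟩ := exists_conj_centralizes T (x := u * x₁) (hcm ▸ hrm)
      obtain ⟨g', hg'⟩ := exists_conj_centralizes T (x := u₀) (hu₀ ▸ hrm)
      have hT : ∀ t ∈ (T : Subgroup G), Commute (g * t * g⁻¹) x₁ := by
        intro t ht
        refine mem_centralizer_singleton_iff.1 (hle ?_).2
        rw [hC, mem_centralizer_singleton_iff]
        calc g * t * g⁻¹ * (u * x₁) = g * (t * (g⁻¹ * (u * x₁) * g)) * g⁻¹ := by group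
          _ = g * ((g⁻¹ * (u * x₁) * g) * t) * g⁻¹ := by rw [mem_centralizer_iff.1 hg t ht]
          _ = u * x₁ * (g * t * g⁻¹) := by group
      have hu₀T : g'⁻¹ * u₀ * g' ∈ (T : Subgroup G) := by
        set v := g'⁻¹ * u₀ * g' with hv
        obtain ⟨j, hj⟩ := hu₀r
        have hvp : IsPGroup r (zpowers v) := IsPGroup.of_card (n := j) (by
          have e : MulAut.conj g'⁻¹ u₀ = v := by simp [hv, MulAut.conj_apply]
          rw [Nat.card_zpowers, ← e, MulEquiv.orderOf_eq, hj])
        have hle' : zpowers v ≤ normalizer ((T : Subgroup G) : Set G) :=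
          zpowers_le.2 (centralizer_le_normalizer ((T : Subgroup G) : Set G) hg')
        have hsup := T.3 (IsPGroup.to_sup_of_normal_right' hvp T.isPGroup' hle') le_sup_right
        rw [← hsup]
        exact (le_sup_left : zpowers v ≤ _) (mem_zpowers v)
      have hw := hT _ hu₀T
      set s := g * (g'⁻¹ * u₀ * g') * g⁻¹ with hs
      have hsu : s = (g * g'⁻¹) * u₀ * (g * g'⁻¹)⁻¹ := by rw [hs]; group
      have hsm : cidx s = m := by rw [hsu, cidx_conj, hu₀]
      obtain ⟨j, hj⟩ := hu₀r
      exact hsmall r s hr ⟨j, by rw [hsu, ← MulAut.conj_apply, MulEquiv.orderOf_eq, hj]⟩ hsm x₁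
        (mem_centralizer_singleton_iff.2 hw.symm.eq) hrx₁
    rw [← hcm]
    exact congrArg Subgroup.index (by
      ext g
      rw [mem_centralizer_singleton_iff, mem_centralizer_singleton_iff]
      have hg := mem_center_iff.1 hx₁Z g
      constructor
      · intro e1; rw [← mul_assoc, e1, mul_assoc, hg, ← mul_assoc]
      · intro e1
        rw [← mul_assoc, mul_assoc u, ← hg, ← mul_assoc] at e1
        exact mul_right_cancel e1)
  -- a Sylow subgroup centralising a top `r`-element `z`
  obtain ⟨R⟩ : Nonempty (Sylow r G) := inferInstance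
  obtain ⟨g₀, hg₀⟩ := exists_conj_centralizes R (x := u₀) (hu₀ ▸ hrm)
  obtain ⟨z, hzdef⟩ : ∃ z, z = g₀⁻¹ * u₀ * g₀ := ⟨_, rfl⟩
  have hz : cidx z = m := by
    rw [hzdef, ← hu₀]; simpa using cidx_conj g₀⁻¹ u₀
  have hzr : ∃ k : ℕ, orderOf z = r ^ k := by
    obtain ⟨j, hj⟩ := hu₀r
    exact ⟨j, by rw [hzdef, ← hj]; simpa [MulAut.conj_apply] using MulEquiv.orderOf_eq (MulAut.conj g₀⁻¹) u₀⟩
  have hzR : ∀ t ∈ (R : Subgroup G), Commute t z := fun t ht => hzdef ▸ mem_centralizer_iff.1 hg₀ t ht
  -- the Sylow subgroup is not abelian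
  obtain ⟨v, hvR, hvC⟩ : ∃ v ∈ (R : Subgroup G), ∃ t ∈ (R : Subgroup G), ¬ Commute t v := by
    by_contra hcon
    push Not at hcon
    refine hno z hz ?_
    set Cz := centralizer ({z} : Set G)
    have hgen : (R : Subgroup G) ⊔ center G = Cz := by
      refine le_antisymm (sup_le (fun t ht => mem_centralizer_singleton_iff.2 (hzR t ht).eq)
        (center_le_centralizer _)) ?_
      rw [← relIndex_eq_one]
      by_contra hne
      obtain ⟨s, hs, hsd⟩ := Nat.exists_prime_and_dvd hne
      haveI := Fact.mk hs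
      rcases eq_or_ne s r with rfl | hsr
      · exact R.not_dvd_index (hsd.trans ((dvd_mul_right _ Cz.index).trans
          ((relIndex_mul_index (sup_le (fun t ht => mem_centralizer_singleton_iff.2 (hzR t ht).eq)
            (center_le_centralizer _))).symm ▸ index_dvd_of_le le_sup_left)))
      · obtain ⟨T⟩ : Nonempty (Sylow s Cz) := inferInstance
        refine T.not_dvd_index (hsd.trans (index_dvd_of_le fun t ht => ?_))
        obtain ⟨j, hj⟩ := IsPGroup.iff_orderOf.1 T.isPGroup' ⟨t, ht⟩
        rw [← orderOf_coe, ← orderOf_coe] at hj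
        rw [mem_subgroupOf]
        refine mem_sup_right (hsmall r z hr hzr hz t t.2 ?_)
        rw [show orderOf (t : G) = s ^ j from hj]
        exact fun hd => hsr ((Nat.prime_dvd_prime_iff_eq hr hs).1 (hr.dvd_of_dvd_pow hd)).symm
    have hcomm : ∀ a ∈ Cz, ∀ b ∈ Cz, Commute a b := by
      rw [← hgen]
      have h1 : (R : Subgroup G) ⊔ center G ≤
          centralizer (((R : Subgroup G) ⊔ center G : Subgroup G) : Set G) := by
        refine sup_le (fun t ht => ?_) (center_le_centralizer _)
        have h2 : (R : Subgroup G) ⊔ center G ≤ centralizer ({t} : Set G) :=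
          sup_le (fun b hb => mem_centralizer_singleton_iff.2 (hcon t ht b hb).eq) (center_le_centralizer _)
        exact mem_centralizer_iff.2 fun b hb => mem_centralizer_singleton_iff.1 (h2 hb)
      exact fun a ha b hb => mem_centralizer_iff.1 (h1 hb) a ha
    exact ⟨⟨fun a b => Subtype.ext (hcomm a a.2 b b.2).eq⟩⟩
  obtain ⟨t₀, ht₀, hnc⟩ := hvC
  -- powers of order `r` modulo the centre
  have hlast : ∀ u : G, (∃ k : ℕ, orderOf u = r ^ k) → u ∉ center G →
      ∃ j : ℕ, u ^ j ∉ center G ∧ (u ^ j) ^ r ∈ center G ∧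
        centralizer ({u ^ j} : Set G) = centralizer ({u} : Set G) := by
    rintro u ⟨k, hk⟩ huZ
    have hex : ∃ i : ℕ, u ^ r ^ i ∈ center G :=
      ⟨k, by rw [← hk, pow_orderOf_eq_one]; exact one_mem _⟩
    have hi0 : Nat.find hex ≠ 0 := fun e1 => huZ (by simpa [e1] using Nat.find_spec hex)
    obtain ⟨i, hi⟩ := Nat.exists_eq_succ_of_ne_zero hi0
    have hspec := Nat.find_spec hex
    rw [hi, pow_succ, pow_mul] at hspec
    have hnot : u ^ r ^ i ∉ center G := Nat.find_min hex (by omega)
    refine ⟨r ^ i, hnot, hspec, ?_⟩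
    obtain ⟨k', -, hk'⟩ := (Nat.dvd_prime_pow hr).1 (hk ▸ orderOf_pow_dvd (x := u) (r ^ i))
    refine (centralizer_eq_of_le (fun g hg => mem_centralizer_singleton_iff.2
      (Commute.pow_right (mem_centralizer_singleton_iff.1 hg) _)) ?_).symm
    rw [htop _ ⟨k', hk'⟩ hnot, htop u ⟨k, hk⟩ huZ]
  have hvr : ∃ k : ℕ, orderOf v = r ^ k := by
    obtain ⟨j, hj⟩ := IsPGroup.iff_orderOf.1 R.isPGroup' ⟨v, hvR⟩
    exact ⟨j, by rw [← orderOf_coe] at hj; exact hj⟩
  obtain ⟨i₁, ha1, ha2, ha3⟩ := hlast z hzr (h.not_center hz)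
  obtain ⟨i₂, hb1, hb2, hb3⟩ := hlast v hvr fun hv => hnc (mem_center_iff.1 hv t₀)
  set A := z ^ i₁
  set B := v ^ i₂
  have hAB : Commute A B := ((hzR v hvR).symm.pow_left i₁).pow_right i₂
  have hne : centralizer ({A} : Set G) ≠ centralizer ({B} : Set G) := by
    rw [ha3, hb3]
    intro e1
    exact hnc (mem_centralizer_singleton_iff.1 (e1 ▸ mem_centralizer_singleton_iff.2 (hzR t₀ ht₀).eq))
  have hord : ∀ i j : ℕ, ∃ k : ℕ, orderOf (A ^ i * B ^ j) = r ^ k := by
    intro i j
    obtain ⟨k1, hk1⟩ := hzr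
    obtain ⟨k2, hk2⟩ := hvr
    have hd : orderOf (A ^ i * B ^ j) ∣ r ^ (k1 + k2) := by
      refine orderOf_dvd_of_pow_eq_one ?_
      rw [(hAB.pow_pow i j).mul_pow, ← pow_mul, ← pow_mul, ← pow_mul, ← pow_mul]
      rw [orderOf_dvd_iff_pow_eq_one.1 (show orderOf z ∣ i₁ * (i * r ^ (k1 + k2)) by
          rw [hk1]; exact (dvd_mul_of_dvd_right (dvd_mul_of_dvd_right (pow_dvd_pow r (Nat.le_add_right _ _)) i) i₁)),
        orderOf_dvd_iff_pow_eq_one.1 (show orderOf v ∣ i₂ * (j * r ^ (k1 + k2)) by
          rw [hk2]; exact (dvd_mul_of_dvd_right (dvd_mul_of_dvd_right (pow_dvd_pow r (Nat.le_add_left _ _)) j) i₂)),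
        one_mul]
    obtain ⟨k, -, hk⟩ := (Nat.dvd_prime_pow hr).1 hd
    exact ⟨k, hk⟩
  have hfix : ∀ i j : ℕ, A ^ i * B ^ j ∉ center G → ∀ μ ∈ msub y,
      Commute (A ^ i * B ^ j) μ → μ ∈ center G := fun i j hij μ hμ hc =>
    hsmall r _ hr (hord i j) (htop _ (hord i j) hij) μ (mem_centralizer_singleton_iff.2 hc.symm.eq)
      (hMco μ hμ)
  have hABi : ∀ i : ℕ, A * B ^ i ∉ center G := by
    intro i hi
    by_cases hd : r ∣ i
    · obtain ⟨j, rfl⟩ := hd
      refine ha1 ?_
      have hB : B ^ (r * j) ∈ center G := by rw [pow_mul]; exact (center G).pow_mem hb2 j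
      exact ((center G).mul_mem_cancel_right hB).1 hi
    · refine hne ?_
      have hB : B ^ i ∉ center G := fun hB => ha1 (((center G).mul_mem_cancel_right hB).1 hi)
      have h1 : centralizer ({A} : Set G) = centralizer ({B ^ i} : Set G) := by
        ext g
        rw [mem_centralizer_singleton_iff, mem_centralizer_singleton_iff]
        have hg := mem_center_iff.1 hi g
        constructor
        · intro e1
          rw [← mul_assoc, e1, mul_assoc, mul_assoc] at hg
          exact mul_left_cancel hg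
        · intro e1
          rw [← mul_assoc, mul_assoc A _ g, ← e1, ← mul_assoc] at hg
          exact mul_right_cancel hg
      rw [h1]
      refine (centralizer_eq_of_le (fun g hg => mem_centralizer_singleton_iff.2
        (Commute.pow_right (mem_centralizer_singleton_iff.1 hg) i)) ?_).symm
      rw [htop (B ^ i) (by simpa using hord 0 i) hB, htop B (by simpa using hord 0 1) hb1]
  -- `M` is central
  have hM : msub y ≤ center G := by
    haveI := msub_isMulCommutative (h.isTop hy)
    open scoped IsMulCommutative in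
    intro μ hμ
    let w : msub y := ⟨μ, hμ⟩
    let act : G → msub y → msub y := fun g μ =>
      ⟨g * (μ : G) * g⁻¹, (msub_normal y).conj_mem _ μ.2 g⟩
    let N : G → msub y → msub y := fun g μ => ∏ l ∈ Finset.range r, act (g ^ l) μ
    have hact_mul : ∀ g a b, act g (a * b) = act g a * act g b := fun g a b => Subtype.ext (by
      show g * ((a : G) * b) * g⁻¹ = g * a * g⁻¹ * (g * b * g⁻¹)
      group)
    have hact_comp : ∀ g g' a, act g (act g' a) = act (g * g') a := fun g g' a => Subtype.ext (by
      show g * (g' * (a : G) * g'⁻¹) * g⁻¹ = g * g' * a * (g * g')⁻¹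
      group)
    have hact_central : ∀ g a, (g : G) ∈ center G → act g a = a := fun g a hg => Subtype.ext (by
      show g * (a : G) * g⁻¹ = a
      rw [← mem_center_iff.1 hg (a : G), mul_inv_cancel_right])
    have hN : ∀ (g : G) (a : msub y), g ^ r ∈ center G → act g (N g a) = N g a := by
      intro g a hg
      let φ : msub y →* msub y := MonoidHom.mk' (act g) (hact_mul g)
      show φ (∏ l ∈ Finset.range r, act (g ^ l) a) = _
      rw [map_prod]
      show (∏ l ∈ Finset.range r, act g (act (g ^ l) a)) = ∏ l ∈ Finset.range r, act (g ^ l) a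
      rw [Finset.prod_congr rfl (fun l _ => by rw [hact_comp, ← pow_succ'] :
        ∀ l ∈ Finset.range r, act g (act (g ^ l) a) = act (g ^ (l + 1)) a)]
      obtain ⟨r', rfl⟩ : ∃ r', r = r' + 1 := ⟨r - 1, (Nat.sub_add_cancel hr.one_le).symm⟩
      rw [Finset.prod_range_succ, Finset.prod_range_succ', pow_zero, hact_central _ a hg,
        hact_central 1 a (one_mem _)]
    have hNc : ∀ (i j : ℕ), A ^ i * B ^ j ∉ center G → ∀ a : msub y,
        (N (A ^ i * B ^ j) a : G) ∈ center G := by
      intro i j hij a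
      have hg : (A ^ i * B ^ j) ^ r ∈ center G := by
        rw [(hAB.pow_pow i j).mul_pow, ← pow_mul, mul_comm i, pow_mul, ← pow_mul B, mul_comm j, pow_mul]
        exact (center G).mul_mem ((center G).pow_mem ha2 i) ((center G).pow_mem hb2 j)
      refine hfix i j hij _ (N _ a).2 ?_
      exact mul_inv_eq_iff_eq_mul.1 (congrArg Subtype.val (hN _ a hg))
    have hsplit : ∀ l ∈ Finset.range r, l ≠ 0 →
        ((∏ i ∈ Finset.range r, act ((A * B ^ i) ^ l) w : msub y) : G) ∈ center G := by
      intro l hl hl0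
      have hB : A ^ 0 * B ^ l ∉ center G := by
        rw [pow_zero, one_mul]
        intro hB
        apply hb1
        have hco : Nat.Coprime r l := hr.coprime_iff_not_dvd.2
          (Nat.not_dvd_of_pos_of_lt (Nat.pos_of_ne_zero hl0) (Finset.mem_range.1 hl))
        obtain ⟨e1, -, he1⟩ := Nat.exists_mul_mod_eq_one_of_coprime hco.symm hr.one_lt
        have e2 : B * (B ^ r) ^ (l * e1 / r) = (B ^ l) ^ e1 := by
          rw [← pow_mul B r, ← pow_mul B l, ← pow_succ']
          congr 1
          have := Nat.mod_add_div (l * e1) r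
          omega
        exact ((center G).mul_mem_cancel_right ((center G).pow_mem hb2 _)).1
          (e2.symm ▸ (center G).pow_mem hB e1)
      let φ : msub y →* msub y := MonoidHom.mk' (act (A ^ l)) (hact_mul _)
      have e1 : (∏ i ∈ Finset.range r, act ((A * B ^ i) ^ l) w) = φ (N (A ^ 0 * B ^ l) w) := by
        rw [map_prod]
        refine Finset.prod_congr rfl fun i _ => ?_
        show _ = act (A ^ l) (act ((A ^ 0 * B ^ l) ^ i) w)
        rw [hact_comp, pow_zero, one_mul, (hAB.pow_right i).mul_pow, ← pow_mul B i, ← pow_mul B l, mul_comm i]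
      rw [e1]
      show A ^ l * ((N (A ^ 0 * B ^ l) w : msub y) : G) * (A ^ l)⁻¹ ∈ center G
      exact (inferInstance : (center G).Normal).conj_mem _ (hNc 0 l hB w) _
    have htot : ((∏ i ∈ Finset.range r, N (A * B ^ i) w : msub y) : G) ∈ center G := by
      refine mem_subgroupOf.1 (Subgroup.prod_mem ((center G).subgroupOf (msub y)) fun i _ => ?_)
      refine mem_subgroupOf.2 ?_
      simpa using hNc 1 i (by simpa using hABi i) w
    rw [show (∏ i ∈ Finset.range r, N (A * B ^ i) w) =
      ∏ l ∈ Finset.range r, ∏ i ∈ Finset.range r, act ((A * B ^ i) ^ l) w from Finset.prod_comm,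
      ← Finset.mul_prod_erase _ _ (Finset.mem_range.2 hr.pos), coe_mul] at htot
    have hrest : ((∏ l ∈ (Finset.range r).erase 0, ∏ i ∈ Finset.range r, act ((A * B ^ i) ^ l) w : msub y) : G)
        ∈ center G := by
      exact mem_subgroupOf.1 (Subgroup.prod_mem ((center G).subgroupOf (msub y)) fun l hl =>
        mem_subgroupOf.2 (hsplit l (Finset.mem_of_mem_erase hl) (Finset.ne_of_mem_erase hl)))
    have hwr := ((center G).mul_mem_cancel_right hrest).1 htot
    rw [Finset.prod_congr rfl (fun i _ => by rw [pow_zero]; exact hact_central 1 w (one_mem _) :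
      ∀ i ∈ Finset.range r, act ((A * B ^ i) ^ 0) w = w), Finset.prod_const, Finset.card_range,
      SubgroupClass.coe_pow] at hwr
    obtain ⟨e1, he1⟩ := exists_pow_eq_self_of_coprime (x := μ) (n := r)
      (hr.coprime_iff_not_dvd.2 (hMco μ hμ))
    rw [← he1]
    exact (center G).pow_mem hwr e1
  -- so `z` centralises `x`
  obtain ⟨cc, hcc⟩ : ∃ cc, cc = z * x' * z⁻¹ * x'⁻¹ := ⟨_, rfl⟩
  have hcM : cc ∈ msub y := hcc ▸ conj_div_mem_msub hx'W z
  have hc1 : cc = 1 := by
    obtain ⟨k, hk⟩ := hzr
    have e : ∀ j : ℕ, z ^ j * x' * (z ^ j)⁻¹ = cc ^ j * x' := by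
      intro j
      induction j with
      | zero => simp
      | succ j ih =>
        have hz' := mem_center_iff.1 (hM hcM) z
        calc z ^ (j + 1) * x' * (z ^ (j + 1))⁻¹ = z * (z ^ j * x' * (z ^ j)⁻¹) * z⁻¹ := by
              rw [pow_succ']; group
          _ = z * cc ^ j * x' * z⁻¹ := by rw [ih]; group
          _ = cc ^ j * z * x' * z⁻¹ := by rw [((show Commute z cc from hz').pow_right j).eq]
          _ = cc ^ (j + 1) * x' := by rw [pow_succ, hcc]; group
    have e1 := e (r ^ k)
    rw [← hk, pow_orderOf_eq_one, one_mul, inv_one, mul_one, eq_comm, mul_eq_right] at e1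
    refine orderOf_eq_one_iff.1 (Nat.eq_one_of_dvd_coprimes (Nat.Coprime.pow_left k
      (hr.coprime_iff_not_dvd.2 fun hd => hMco cc hcM hd)) (hk ▸ orderOf_dvd_of_pow_eq_one e1) dvd_rfl)
  rw [hcc, mul_inv_eq_one, mul_inv_eq_iff_eq_mul] at hc1
  exact h.not_center hz (hrx z hzr (hCx' ▸ mem_centralizer_singleton_iff.2 hc1))

include h in
/-- A top element with abelian centralizer gives the Frobenius structure. -/
theorem Two.structure {y : G} (hy : cidx y = m) (hH : IsMulCommutative (centralizer ({y} : Set G))) :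
    centralizer ({x} : Set G) = wsub y ∧
    Cfsg.IsFrobeniusComplement ((centralizer ({y} : Set G)).map (QuotientGroup.mk' (center G))) ∧
    Cfsg.frobeniusKernel ((centralizer ({y} : Set G)).map (QuotientGroup.mk' (center G))) =
      ((centralizer ({x} : Set G)).map (QuotientGroup.mk' (center G)) : Set (G ⧸ center G)) ∧
    ∀ g ∈ centralizer ({y} : Set G), g ∉ center G → centralizer ({g} : Set G) = centralizer ({y} : Set G) := by
  set H := centralizer ({y} : Set G) with hHdef
  have hHcomm : ∀ a ∈ H, ∀ b ∈ H, a * b = b * a := fun a ha b hb => setLike_mul_comm ha hb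
  have hHC : ∀ g ∈ H, g ∉ center G → centralizer ({g} : Set G) = H := by
    intro g hg hgZ
    have hle : H ≤ centralizer ({g} : Set G) := fun a ha =>
      mem_centralizer_singleton_iff.2 (hHcomm a ha g hg)
    have := (h.top_or_center hy (hy ▸ index_dvd_of_le hle)).resolve_left hgZ
    exact (centralizer_eq_of_le hle (this.trans hy.symm)).symm
  have hD : ∀ g ∈ H, g ∈ centralizer ({x} : Set G) → g ∈ center G := by
    intro g hg hgx
    by_contra hgZ
    refine h.not_comm_x hy fun a ha => mem_centralizer_singleton_iff.2 ?_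
    refine hHcomm a ha x ?_
    rw [← hHC g hg hgZ]
    exact mem_centralizer_singleton_iff.2 (mem_centralizer_singleton_iff.1 hgx).symm
  have hCW : centralizer ({x} : Set G) = wsub y := by
    refine le_antisymm (fun v hv => ?_) fun w hw => mem_centralizer_singleton_iff.2
      (wsub_commute (h.isTop hy) hw (subset_closure (h.x_mem hy))).eq
    by_cases hvZ : v ∈ center G
    · exact center_le_wsub y hvZ
    refine subset_closure (show (cidx v).Coprime (cidx y) from ?_)
    rw [h.eq_of_dvd ?_, hy]
    · exact h.cop.symm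
    have hn0 : n ≠ 0 := by have := h.one_lt; omega
    refine (Nat.dvd_iff_prime_pow_dvd_dvd _ _).2 fun q e hq hqe => ?_
    rcases e with _ | e
    · simp
    haveI := Fact.mk hq
    have hqn : q ∣ n := (dvd_pow_self q e.succ_ne_zero).trans hqe
    have hqm : ¬ q ∣ cidx y := fun hd => hq.not_dvd_one
      ((Nat.Coprime.eq_one_of_dvd (Nat.Coprime.coprime_dvd_right hqn h.cop).symm (hy ▸ hd)) ▸ dvd_rfl)
    obtain ⟨T⟩ : Nonempty (Sylow q (centralizer ({v} : Set G))) := inferInstance
    set T' := (T : Subgroup (centralizer ({v} : Set G))).map (centralizer ({v} : Set G)).subtype with hT'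
    have hTZ : T' ≤ center G := by
      intro t ht
      obtain ⟨R, hR⟩ := (T.isPGroup'.map (centralizer ({v} : Set G)).subtype).exists_le_sylow
      obtain ⟨g, hg⟩ := exists_conj_centralizes R hqm
      have htg : g * t * g⁻¹ ∈ H := by
        rw [hHdef, mem_centralizer_singleton_iff]
        calc g * t * g⁻¹ * y = g * (t * (g⁻¹ * y * g)) * g⁻¹ := by group
          _ = g * ((g⁻¹ * y * g) * t) * g⁻¹ := by rw [mem_centralizer_iff.1 hg t (hR ht)]
          _ = y * (g * t * g⁻¹) := by group
      by_contra htZ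
      have htZ' : g * t * g⁻¹ ∉ center G := fun hc => htZ (by
        simpa [mul_assoc] using (inferInstance : (center G).Normal).conj_mem _ hc g⁻¹)
      have hvH : g * v * g⁻¹ ∈ H := by
        rw [← hHC _ htg htZ', mem_centralizer_singleton_iff]
        have := mem_centralizer_singleton_iff.1 (map_subtype_le _ ht)
        calc g * v * g⁻¹ * (g * t * g⁻¹) = g * (v * t) * g⁻¹ := by group
          _ = g * (t * v) * g⁻¹ := by rw [this]
          _ = g * t * g⁻¹ * (g * v * g⁻¹) := by group
      obtain ⟨a, ha, b, hb, hab⟩ := exists_mul_of_coprime (x := x) (y := y)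
        (by rw [h.idx_x, hy]; exact h.cop.symm) g⁻¹
      have hw : b * (g * v * g⁻¹) * b⁻¹ = g * v * g⁻¹ :=
        mul_inv_eq_iff_eq_mul.2 (hHcomm b hb _ hvH)
      have hav : a⁻¹ * v * a = g * v * g⁻¹ := by
        rw [← hw, show g = b⁻¹ * a⁻¹ by rw [← inv_inv g, hab, mul_inv_rev]]; group
      have hcen := hD _ hvH (by
        rw [← hav]
        exact mul_mem (mul_mem (inv_mem ha) hv) ha)
      exact hvZ (by simpa [mul_assoc] using (inferInstance : (center G).Normal).conj_mem _ hcen g⁻¹)
    have h1 : n ∣ T'.index := Nat.dvd_trans (by rw [← h.idx_x]; exact index_dvd_of_le (center_le_centralizer _))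
      (index_dvd_of_le hTZ)
    rw [hT', index_map_subtype] at h1
    exact Nat.Coprime.dvd_of_dvd_mul_left
      (Nat.Coprime.pow_left _ (hq.coprime_iff_not_dvd.2 T.not_dvd_index)) (hqe.trans h1)
  set π := QuotientGroup.mk' (center G) with hπ
  set K := (centralizer ({x} : Set G)).map π with hKdef
  haveI hKn : K.Normal := by
    rw [hKdef, hCW]; exact Subgroup.Normal.map inferInstance π (QuotientGroup.mk'_surjective _)
  have hdis : Disjoint K (H.map π) := by
    rw [Subgroup.disjoint_def]
    rintro _ ⟨a, ha, rfl⟩ ⟨b, hb, hab⟩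
    have h1 : a⁻¹ * b ∈ center G := QuotientGroup.eq.1 hab.symm
    have hbC : b ∈ centralizer ({x} : Set G) := by
      rw [show b = a * (a⁻¹ * b) by group]
      exact mul_mem ha (center_le_centralizer _ h1)
    refine (QuotientGroup.eq_one_iff a).2 ?_
    have h2 := (center G).mul_mem (hD b hb hbC) ((center G).inv_mem h1)
    rwa [show b * (a⁻¹ * b)⁻¹ = a by group] at h2
  have hc : IsComplement' K (H.map π) :=
    isComplement'_of_disjoint_and_mul_eq_univ hdis (Set.eq_univ_iff_forall.2 fun q => by
      obtain ⟨g, rfl⟩ := QuotientGroup.mk'_surjective (center G) q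
      obtain ⟨a, ha, b, hb, rfl⟩ := exists_mul_of_coprime (x := x) (y := y)
        (by rw [h.idx_x, hy]; exact h.cop.symm) g
      exact ⟨π a, mem_map_of_mem π ha, π b, mem_map_of_mem π hb, (map_mul π a b).symm⟩)
  have hF : Cfsg.IsFrobeniusComplement (H.map π) := by
    refine (Coprime.frob_iff_fixed_point_free hc ?_ ?_).2 ?_
    · intro e
      have h1 : π x ∈ K := mem_map_of_mem π (mem_centralizer_singleton_iff.2 rfl)
      rw [e, mem_bot] at h1
      have h2 := h.one_lt
      rw [← h.idx_x, cidx_of_mem_center ((QuotientGroup.eq_one_iff x).1 h1)] at h2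
      omega
    · intro e
      have h1 : π y ∈ H.map π := mem_map_of_mem π (mem_centralizer_singleton_iff.2 rfl)
      rw [e, mem_bot] at h1
      exact h.not_center hy ((QuotientGroup.eq_one_iff y).1 h1)
    rintro _ ⟨g, hg, rfl⟩ hg1
    refine (eq_bot_iff_forall _).2 fun k ⟨hk, hkg⟩ => ?_
    obtain ⟨w, hw, rfl⟩ := hk
    have hgZ : g ∉ center G := fun hc => hg1 ((QuotientGroup.eq_one_iff g).2 hc)
    have hwW : w ∈ wsub y := hCW ▸ hw
    obtain ⟨c, hcd⟩ : ∃ c, c = g * w * g⁻¹ * w⁻¹ := ⟨_, rfl⟩
    have hcZ : c ∈ center G := by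
      refine (QuotientGroup.eq_one_iff _).1 ?_
      show π c = 1
      rw [hcd, map_mul, map_mul, map_mul, map_inv, map_inv, ← mem_centralizer_singleton_iff.1 hkg,
        mul_inv_cancel_right, mul_inv_cancel]
    have e : ∀ j : ℕ, g ^ j * w * (g ^ j)⁻¹ = c ^ j * w := by
      intro j
      induction j with
      | zero => simp
      | succ j ih =>
        calc g ^ (j + 1) * w * (g ^ (j + 1))⁻¹ = g * (g ^ j * w * (g ^ j)⁻¹) * g⁻¹ := by
              rw [pow_succ']; group
          _ = g * c ^ j * w * g⁻¹ := by rw [ih]; group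
          _ = c ^ j * g * w * g⁻¹ := by
            rw [((show Commute g c from mem_center_iff.1 hcZ g).pow_right j).eq]
          _ = c ^ (j + 1) * w := by rw [pow_succ, hcd]; group
    have hidx : (wsub y).index = n := by rw [← hCW]; exact h.idx_x
    have e1 := e n
    rw [← hidx, mul_inv_eq_iff_eq_mul.2 (wsub_commute (h.isTop hy) (pow_index_mem (wsub y) g) hwW).eq,
      eq_comm, mul_eq_right, hidx] at e1
    have hc1 : c = 1 := orderOf_eq_one_iff.1 (Nat.eq_one_of_dvd_coprimes h.cop
      ((Subgroup.orderOf_dvd_natCard _ (hcd ▸ conj_div_mem_msub hwW g)).trans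
        (hy ▸ msub_card_dvd (h.isTop hy))) (orderOf_dvd_of_pow_eq_one e1))
    rw [hcd, mul_inv_eq_one, mul_inv_eq_iff_eq_mul] at hc1
    refine (QuotientGroup.eq_one_iff w).2 (hD w ?_ hw)
    rw [← hHC g hg hgZ]
    exact mem_centralizer_singleton_iff.2 hc1.symm
  refine ⟨hCW, hF, ?_, hHC⟩
  · refine (Set.eq_of_subset_of_ncard_le ?_ ?_ (Set.toFinite _)).symm
    · intro q hq
      rw [Coprime.frob_mem_kernel_iff]
      refine (em (q = 1)).imp_right fun hq1 c hc' => hq1 ?_
      have h1 := (Subgroup.disjoint_def.1 hdis)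
        (show c⁻¹ * q * c ∈ K by simpa using hKn.conj_mem q hq c⁻¹) hc'
      rw [show q = c * (c⁻¹ * q * c) * c⁻¹ by group, h1]; group
    · rw [← Nat.card_coe_set_eq, Coprime.frob_card_kernel hF, ← Nat.card_coe_set_eq]
      exact le_of_eq hc.index_eq_card

include h in
theorem Two.quasi_frobenius {y : G} (hy : cidx y = m) :
    IsMulCommutative (centralizer ({x} : Set G)) ∧ IsMulCommutative (centralizer ({y} : Set G)) ∧
    Cfsg.IsFrobeniusComplement ((centralizer ({y} : Set G)).map (QuotientGroup.mk' (center G))) ∧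
    Cfsg.frobeniusKernel ((centralizer ({y} : Set G)).map (QuotientGroup.mk' (center G))) =
      ((centralizer ({x} : Set G)).map (QuotientGroup.mk' (center G)) : Set (G ⧸ center G)) := by
  obtain ⟨z, hz, hzc⟩ := h.exists_abelian hy
  obtain ⟨hW, hF, hK, hHC⟩ := h.structure hz hzc
  set π := QuotientGroup.mk' (center G) with hπ
  -- `y` lies in a conjugate of the complement
  have hyK : π y ∉ Cfsg.frobeniusKernel ((centralizer ({z} : Set G)).map π) := by
    rw [hK]
    rintro ⟨a, ha, hab⟩
    have h1 : a⁻¹ * y ∈ center G := QuotientGroup.eq.1 hab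
    refine h.not_comm_x hy fun t ht => ?_
    have hya : y ∈ centralizer ({x} : Set G) := by
      rw [show y = a * (a⁻¹ * y) by group]; exact mul_mem ha (center_le_centralizer _ h1)
    exfalso
    have hle : centralizer ({x} : Set G) ≤ centralizer ({y} : Set G) := fun s hs =>
      mem_centralizer_singleton_iff.2 (wsub_commute (h.isTop hz) (hW ▸ hs) (hW ▸ hya)).eq
    have hd : m ∣ n := by
      have := index_dvd_of_le hle
      rwa [show (centralizer ({y} : Set G)).index = m from hy,
        show (centralizer ({x} : Set G)).index = n from h.idx_x] at this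
    exact absurd (Nat.le_of_dvd (by have := h.one_lt; omega) hd) (not_le.2 h.lt)
  rw [Coprime.frob_mem_kernel_iff, not_or, not_forall] at hyK
  obtain ⟨-, q, hq⟩ := hyK
  rw [not_not] at hq
  obtain ⟨c, rfl⟩ := QuotientGroup.mk'_surjective (center G) q
  rw [← map_inv, ← map_mul, ← map_mul] at hq
  obtain ⟨a, ha, hab⟩ := hq
  have h1 : a⁻¹ * (c⁻¹ * y * c) ∈ center G := QuotientGroup.eq.1 hab
  have hcH : c⁻¹ * y * c ∈ centralizer ({z} : Set G) := by
    rw [show c⁻¹ * y * c = a * (a⁻¹ * (c⁻¹ * y * c)) by group]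
    exact mul_mem ha (center_le_centralizer _ h1)
  have hcZ : c⁻¹ * y * c ∉ center G := fun hc => h.not_center hy (by
    simpa [mul_assoc] using (inferInstance : (center G).Normal).conj_mem _ hc c)
  have hCy := hHC _ hcH hcZ
  have hyc : IsMulCommutative (centralizer ({y} : Set G)) := by
    have hmem : ∀ s ∈ centralizer ({y} : Set G), c⁻¹ * s * c ∈ centralizer ({z} : Set G) := by
      intro s hs
      rw [← hCy, mem_centralizer_singleton_iff]
      calc c⁻¹ * s * c * (c⁻¹ * y * c) = c⁻¹ * (s * y) * c := by group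
        _ = c⁻¹ * (y * s) * c := by rw [mem_centralizer_singleton_iff.1 hs]
        _ = _ := by group
    refine ⟨⟨fun s t => Subtype.ext ?_⟩⟩
    have := setLike_mul_comm (hmem s s.2) (hmem t t.2)
    have := congrArg (fun w => c * w * c⁻¹) this
    simpa [mul_assoc] using this
  obtain ⟨hW', hF', hK', -⟩ := h.structure hy hyc
  refine ⟨?_, hyc, hF', hK'⟩
  rw [hW']
  exact ⟨⟨fun a b => Subtype.ext (wsub_commute (h.isTop hy) a.2 b.2).eq⟩⟩

end CfsgLib.ClassGraph
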