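import Cfsg.Agent.Lib.Block.Orthogonality
import Cfsg.Agent.Lib.Char.Burnside
import Cfsg.Agent.Lib.Coprime.Component

/-!
# Kazarin's theorem on classes of prime power size

The normal closure of an element whose class has prime power size is solvable.
-/

set_option autoImplicit false
set_option linter.unusedSectionVars false

open scoped ComplexConjugate
open Subgroup

namespace CfsgLib.PGroup

open Cfsg

universe u

theorem relIndex_sup_of_normal {G : Type*} [Group G] [Finite G] (C N : Subgroup G)
    [N.Normal] : C.relIndex (N ⊔ C) = C.relIndex N := by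
  have h1 := Subgroup.relIndex_mul_relIndex (C ⊓ N) C (N ⊔ C) inf_le_left le_sup_right
  have h2 := Subgroup.relIndex_mul_relIndex (C ⊓ N) N (N ⊔ C) inf_le_right le_sup_left
  have h3 : N.relIndex (N ⊔ C) = N.relIndex C := Subgroup.relIndex_sup_left C N
  have h4 : (C ⊓ N).relIndex C = N.relIndex C := by
    rw [inf_comm, Subgroup.inf_relIndex_right]
  have h5 : (C ⊓ N).relIndex N = C.relIndex N := Subgroup.inf_relIndex_right C N
  rw [h4] at h1; rw [h3, h5] at h2
  refine Nat.eq_of_mul_eq_mul_left (n := N.relIndex C) (Nat.pos_of_ne_zero ?_) ?_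
  · exact Subgroup.index_ne_zero_of_finite
  · rw [h1, ← h2, mul_comm]

/-- `|N : C ∩ N|` divides `|G : C|` for normal `N`. -/
theorem relIndex_dvd_index_of_normal_right {G : Type*} [Group G] [Finite G] (C N : Subgroup G)
    [N.Normal] : C.relIndex N ∣ C.index := by
  have h : C.relIndex (N ⊔ C) = C.relIndex N := relIndex_sup_of_normal C N
  rw [← h]
  exact ⟨(N ⊔ C).index, (Subgroup.relIndex_mul_index le_sup_right).symm⟩

/-- The class size of an element in a subgroup containing it. -/
theorem index_centralizer_subgroup_dvd {G : Type*} [Group G] [Finite G] (H : Subgroup G) {z : G}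
    (hz : z ∈ H) :
    (Subgroup.centralizer ({⟨z, hz⟩} : Set H)).index =
      (Subgroup.centralizer ({z} : Set G)).relIndex H := by
  show _ = ((Subgroup.centralizer ({z} : Set G)).subgroupOf H).index
  congr 1
  ext c
  simp only [Subgroup.mem_centralizer_singleton_iff, Subgroup.mem_subgroupOf, Subtype.ext_iff,
    Subgroup.coe_mul]

/-- A number with at most two prime divisors. -/
theorem exists_eq_pow_mul_pow {p r : ℕ} :
    ∀ c : ℕ, c ≠ 0 → (∀ q, q.Prime → q ∣ c → q = p ∨ q = r) → ∃ a b, c = p ^ a * r ^ b := by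
  intro c
  induction c using Nat.strong_induction_on with
  | _ c ihc =>
    intro hc0 hc
    rcases eq_or_ne c 1 with rfl | hc1
    · exact ⟨0, 0, by simp⟩
    obtain ⟨q, hq, d, rfl⟩ := Nat.exists_prime_and_dvd hc1
    have hd0 : d ≠ 0 := fun h => hc0 (by rw [h, mul_zero])
    obtain ⟨a, b, rfl⟩ := ihc d (lt_mul_of_one_lt_left (Nat.pos_of_ne_zero hd0) hq.one_lt)
      hd0 fun s hs hsd => hc s hs (hsd.mul_left q)
    rcases hc q hq (dvd_mul_right q _) with rfl | rfl
    · exact ⟨a + 1, b, by ring⟩
    · exact ⟨a, b + 1, by ring⟩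

/-- The block-theoretic step: `G = N⟨x⟩` with `N` minimal normal, `x` of prime order `r` acting
non-trivially, and a prime `q` dividing `|N|` different from `r` and from `p`. -/
theorem kazarin_key {G : Type u} [Group G] [Finite G] (N : Subgroup G) [N.Normal]
    (hmin : ∀ K : Subgroup G, K.Normal → K ≤ N → K = ⊥ ∨ K = N)
    {x : G} {p r q k : ℕ} (hp : p.Prime) (hr : r.Prime) (hq : q.Prime) (hxo : orderOf x = r)
    (htop : N ⊔ Subgroup.zpowers x = ⊤) (hnc : ∃ n ∈ N, ¬ Commute n x)
    (hqp : q ≠ p) (hqr : q ≠ r) (hqN : q ∣ Nat.card N)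
    (hcl : (Subgroup.centralizer ({x} : Set G)).index = p ^ k) : False := by
  classical
  haveI := Fintype.ofFinite G
  haveI := Fintype.ofFinite (IrrCharacter G)
  haveI : Fact q.Prime := ⟨hq⟩
  obtain ⟨M, hM⟩ := Block.exists_pModular hq
  haveI := hM.2.1
  have := Block.charP_resField hM
  have hqk : ¬ q ∣ p ^ k := fun h =>
    hqp ((Nat.prime_dvd_prime_iff_eq hq hp).1 (hq.dvd_of_dvd_pow h))
  obtain ⟨y, hy⟩ := exists_prime_orderOf_dvd_card' (G := G) q
    (hqN.trans (Subgroup.card_subgroup_dvd_card N))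
  set S : Set (IrrCharacter G) := principalBlock M G with hS
  have hSu : Block.IsBlockUnion M S :=
    Block.IsBlockUnion.of_isPBlock Block.isPBlock_principalBlock
  have horth := Block.blockUnion_orthogonal_regular_singular hM hSu (g := (1 : G)) (h := y)
    (by rw [orderOf_one]; exact hq.not_dvd_one) (by rw [hy])
  rw [finsum_mem_eq_toFinset_sum] at horth
  set one : IrrCharacter G := Block.oneChar G with hone
  have h1S : one ∈ S.toFinset := Set.mem_toFinset.2 Block.one_mem_principalBlock
  rw [← Finset.add_sum_erase _ _ h1S] at horth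
  have hterm : ∀ χ ∈ S.toFinset.erase one, ∃ t : ℂ, IsIntegral ℤ t ∧
      (χ : G → ℂ) 1 * conj ((χ : G → ℂ) y) = p * t := by
    rintro ⟨χ, n, ρ, hρ, rfl⟩ hχ
    obtain ⟨hne, hmem⟩ := Finset.mem_erase.1 hχ
    have hblock : SameBlock M (fun _ : G => (1 : ℂ)) ρ.character := Set.mem_toFinset.1 hmem
    have h1 : ρ.character 1 = (Module.finrank ℂ (Fin n → ℂ) : ℂ) := Representation.char_one ρ
    show ∃ t : ℂ, IsIntegral ℤ t ∧ ρ.character 1 * conj (ρ.character y) = p * t
    by_cases hdvd : p ∣ Module.finrank ℂ (Fin n → ℂ)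
    · obtain ⟨c, hc⟩ := hdvd
      refine ⟨(c : ℂ) * conj (ρ.character y),
        (isIntegral_algebraMap (R := ℤ) (x := (c : ℤ))).mul ?_, ?_⟩
      · rw [← Char.irr_inv ⟨_, Char.isIrrCharacter_character ρ⟩ y]
        exact Char.isCharacter_isIntegral ⟨n, ρ, rfl⟩ y⁻¹
      · rw [h1, hc, Nat.cast_mul]; ring
    exfalso
    have hcop : Nat.Coprime (Module.finrank ℂ (Fin n → ℂ))
        (Subgroup.centralizer ({x} : Set G)).index := by
      rw [hcl]; exact ((hp.coprime_iff_not_dvd.mpr hdvd).symm).pow_right k
    have hsub := hblock x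
    have hc1 : centralChar (fun _ : G => (1 : ℂ)) x = ((p ^ k : ℕ) : ℂ) := by
      simp [centralChar, hcl]
    rw [hc1] at hsub
    rcases Char.char_zero_or_norm_eq_degree ρ x hcop with h | h
    · have h0 : centralChar ρ.character x = 0 := by simp [centralChar, h]
      rw [h0, sub_zero] at hsub
      exact hqk ((Block.memLocalIdeal_natCast hM _).1 hsub)
    obtain ⟨ω, hω⟩ := (Char.norm_char_eq_iff ρ x).mp h
    haveI := Char.nontrivial_of_irreducible ρ
    obtain ⟨v, hv⟩ := exists_ne (0 : Fin n → ℂ)
    have hω' : ∀ i : ℕ, ρ (x ^ i) = ω ^ i • (LinearMap.id : (Fin n → ℂ) →ₗ[ℂ] _) := by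
      intro i
      rw [map_pow, hω]
      ext w
      simp [smul_pow, ← Module.End.one_eq_id]
    have hωr : ω ^ r = 1 := by
      have h2 := hω' r
      rw [← hxo, pow_orderOf_eq_one, map_one, hxo] at h2
      have h3 := LinearMap.congr_fun h2 v
      simp only [Module.End.one_apply, LinearMap.smul_apply, LinearMap.id_apply] at h3
      exact (smul_left_injective ℂ hv (show (1 : ℂ) • v = ω ^ r • v by rw [one_smul]; exact h3)).symm
    -- `N` lies in the kernel
    have hNker : N ≤ ρ.ker := by
      haveI : (N ⊓ ρ.ker).Normal := inferInstance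
      rcases hmin (N ⊓ ρ.ker) inferInstance inf_le_left with h | h
      · exfalso
        obtain ⟨m, hm, hmx⟩ := hnc
        have hker : m * x * (x * m)⁻¹ ∈ N ⊓ ρ.ker := by
          refine ⟨?_, ?_⟩
          · rw [show m * x * (x * m)⁻¹ = m * (x * m⁻¹ * x⁻¹) by group]
            exact mul_mem hm (Subgroup.Normal.conj_mem inferInstance _ (inv_mem hm) x)
          · have hcomm : ρ (m * x) = ρ (x * m) := by
              rw [map_mul, map_mul, hω]
              ext w
              simp [Module.End.mul_apply]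
            show m * x * (x * m)⁻¹ ∈ ρ.ker
            rw [MonoidHom.mem_ker, map_mul, hcomm, ← map_mul, mul_inv_cancel, map_one]
        rw [h, Subgroup.mem_bot, mul_inv_eq_one] at hker
        exact hmx hker
      · exact inf_eq_left.1 h
    have hscal : ∀ g : G, ∃ i : ℕ, ρ g = ω ^ i • (LinearMap.id : (Fin n → ℂ) →ₗ[ℂ] _) := by
      intro g
      obtain ⟨a, ha, z, hz, rfl⟩ := Subgroup.mem_sup_of_normal_left.1 (htop ▸ Subgroup.mem_top g)
      obtain ⟨i, rfl⟩ := mem_powers_iff_mem_zpowers.2 hz
      refine ⟨i, ?_⟩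
      rw [map_mul, MonoidHom.mem_ker.1 (hNker ha), one_mul]
      exact hω' i
    have hdim : Module.finrank ℂ (Fin n → ℂ) = 1 := by
      let T : Subrepresentation ρ := ⟨ℂ ∙ v, fun g w hw => by
        obtain ⟨i, hi⟩ := hscal g
        rw [hi]
        exact Submodule.smul_mem _ _ hw⟩
      rcases hρ.eq_bot_or_eq_top T with e | e
      · exact absurd (Submodule.span_singleton_eq_bot.mp (congrArg Subrepresentation.toSubmodule e))
          hv
      · have e' : (ℂ ∙ v) = (⊤ : Submodule ℂ (Fin n → ℂ)) :=
          congrArg Subrepresentation.toSubmodule e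
        have := finrank_span_singleton (K := ℂ) hv
        rwa [e', finrank_top] at this
    have hx1 : ρ.character x = ω := by
      rw [Representation.character, hω, map_smul, LinearMap.trace_id, hdim]; simp
    have hcx : centralChar ρ.character x = ((p ^ k : ℕ) : ℂ) * ω := by
      simp [centralChar, hcl, hx1, h1, hdim]
    rw [hcx] at hsub
    let w : Block.locRing M :=
      ⟨ω, Block.integral_mem M (Block.isIntegral_of_pow_eq_one hr.pos hωr)⟩
    have hres := (Block.memLocalIdeal_sub_iff (M := M) ((p ^ k : ℕ) : Block.locRing M)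
      (((p ^ k : ℕ) : Block.locRing M) * w)).1 (by
        simpa [w] using hsub)
    rw [map_mul, Block.res_natCast] at hres
    have hne0 : ((p ^ k : ℕ) : Block.ResField M) ≠ 0 := fun h =>
      hqk ((CharP.cast_eq_zero_iff _ q _).1 h)
    have hw1 : Block.res M w = 1 := (mul_eq_left₀ hne0).1 hres.symm
    have hw : w = 1 := Block.res_rootOfUnity_injective hM (m := r)
      (fun h => hqr ((Nat.prime_dvd_prime_iff_eq hq hr).1 h))
      (Subtype.ext (by simpa [w] using hωr)) (one_pow _) (by rw [hw1, map_one])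
    have hω1 : ω = 1 := congrArg Subtype.val hw
    refine hne (Subtype.ext (Char.irr_eq_one_of_trivial ρ fun g => ?_))
    obtain ⟨i, hi⟩ := hscal g
    rw [hi, hω1, one_pow, one_smul]
  choose t ht hte using hterm
  rw [← Finset.sum_attach _ (fun χ : IrrCharacter G => (χ : G → ℂ) 1 * conj ((χ : G → ℂ) y)),
    Finset.sum_congr rfl (fun χ _ => hte χ.1 χ.2), ← Finset.mul_sum] at horth
  set T := ∑ χ ∈ (S.toFinset.erase one).attach, t χ.1 χ.2 with hT
  have hTint : IsIntegral ℤ T := IsIntegral.sum _ fun χ _ => ht _ _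
  have hTq : T = algebraMap ℚ ℂ (-1 / p) := by
    have hp0 : (p : ℂ) ≠ 0 := by exact_mod_cast hp.ne_zero
    rw [map_div₀, map_neg, map_one, map_natCast, eq_div_iff hp0]
    simp only [hone, Block.oneChar, map_one, mul_one] at horth
    linear_combination horth
  rw [hTq, isIntegral_algebraMap_iff (algebraMap ℚ ℂ).injective,
    IsIntegrallyClosed.isIntegral_iff] at hTint
  obtain ⟨z, hz⟩ := hTint
  rw [eq_intCast, eq_div_iff (by exact_mod_cast hp.ne_zero)] at hz
  have hz' : z * (p : ℤ) = -1 := by exact_mod_cast hz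
  have hdvd : (p : ℤ) ∣ 1 := ⟨-z, by linear_combination hz'⟩
  exact hp.one_lt.ne' (Nat.dvd_one.mp (by exact_mod_cast hdvd))

/-- A solvable normal subgroup of a normal subgroup is trivial when the group has no non-trivial
solvable normal subgroup. -/
theorem eq_bot_of_solvable_normal_normal {G : Type*} [Group G] [Finite G]
    (hrad : ∀ R : Subgroup G, R.Normal → Group.IsSolvable R → R = ⊥)
    (D : Subgroup G) [D.Normal] (R : Subgroup D) [R.Normal] (hR : Group.IsSolvable R) :
    R = ⊥ := by
  by_contra hne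
  obtain ⟨A, hAn, hAb, hAR, hAmin⟩ := Coprime.exists_minimal_normal_le hne
  haveI := hAn
  haveI : Group.IsSolvable A :=
    Group.isSolvable_of_isSolvable_injective (f := Subgroup.inclusion hAR) (Subgroup.inclusion_injective hAR)
  have hAc := (Coprime.minimal_normal_solvable hAb hAmin).1
  have hAn' : Group.IsNilpotent A := by
    letI : CommGroup A := { A.toGroup with mul_comm := fun a b => Subtype.ext (hAc a a.2 b b.2) }
    infer_instance
  have h1 := Coprime.le_fitting (G := D) hAn'
  have h2 : (Cfsg.fittingSubgroup D).map D.subtype ≤ ⊥ := by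
    rw [Coprime.fitting_map_subtype_eq]
    refine inf_le_left.trans (le_of_eq (hrad _ Coprime.fitting_normal ?_))
    haveI := Coprime.fitting_isNilpotent (G := G)
    infer_instance
  exact hAb (le_bot_iff.1 (h1.trans (by
    rw [le_bot_iff, Subgroup.map_eq_bot_iff, Subgroup.ker_subtype] at h2
    exact h2)))

/-- Kazarin: the normal closure of an element with class size a power of a prime is solvable. -/
theorem isSolvable_normalClosure_of_class_prime_pow : ∀ {G : Type u} [Group G] [Finite G]
    (x : G) {p k : ℕ}, p.Prime → (Subgroup.centralizer ({x} : Set G)).index = p ^ k →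
    Group.IsSolvable (Subgroup.normalClosure ({x} : Set G)) := by
  intro G _ _ x
  induction hn : Nat.card G using Nat.strong_induction_on generalizing G with
  | _ n ih =>
  subst hn
  intro p k hp hk
  by_cases hrad : ∃ R : Subgroup G, R.Normal ∧ Group.IsSolvable R ∧ R ≠ ⊥
  · obtain ⟨R, hRn, hRs, hRb⟩ := hrad
    haveI := hRn
    set f := QuotientGroup.mk' R with hf
    have hlt : Nat.card (G ⧸ R) < Nat.card G := by
      rw [Subgroup.card_eq_card_quotient_mul_card_subgroup R]
      exact lt_mul_of_one_lt_right Nat.card_pos (R.one_lt_card_iff_ne_bot.2 hRb)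
    have hd : (Subgroup.centralizer ({f x} : Set (G ⧸ R))).index ∣ p ^ k := by
      rw [← hk]
      refine (Subgroup.index_dvd_of_le ?_).trans
        (Subgroup.index_map_dvd _ (QuotientGroup.mk'_surjective R))
      rintro _ ⟨c, hc, rfl⟩
      refine Subgroup.mem_centralizer_singleton_iff.2 ?_
      rw [← map_mul, Subgroup.mem_centralizer_singleton_iff.1 hc, map_mul]
    obtain ⟨j, -, hj⟩ := (Nat.dvd_prime_pow hp).1 hd
    haveI hq := ih _ hlt (f x) rfl hp hj
    set C := Subgroup.normalClosure ({x} : Set G)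
    have hCmap : C.map f = Subgroup.normalClosure ({f x} : Set (G ⧸ R)) := by
      rw [Subgroup.map_normalClosure _ _ (QuotientGroup.mk'_surjective R), Set.image_singleton]
    let g : C →* Subgroup.normalClosure ({f x} : Set (G ⧸ R)) :=
      (f.comp C.subtype).codRestrict _ fun c => hCmap ▸ Subgroup.mem_map_of_mem f c.2
    haveI : Group.IsSolvable ↥(R.subgroupOf C) := by
      refine Group.isSolvable_of_isSolvable_injective (f :=
        ((C.subtype.comp (R.subgroupOf C).subtype).codRestrict R fun c => c.2)) ?_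
      intro a b hab
      exact Subtype.ext (Subtype.ext (congrArg Subtype.val hab :))
    refine Group.isSolvable_of_ker_le_range (R.subgroupOf C).subtype g ?_
    intro c hc
    rw [Subgroup.range_subtype, Subgroup.mem_subgroupOf]
    exact (QuotientGroup.eq_one_iff (c : G)).1 (congrArg Subtype.val hc :)
  push Not at hrad
  suffices hx : x = 1 by
    subst hx
    rw [show Subgroup.normalClosure ({1} : Set G) = ⊥ from
      le_bot_iff.1 (Subgroup.normalClosure_le_normal (by simp))]
    infer_instance
  by_contra hx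
  obtain ⟨r, hr, hrx⟩ := Nat.exists_prime_and_dvd (fun h => hx (orderOf_eq_one_iff.1 h))
  set z := x ^ (orderOf x / r) with hz
  have hzo : orderOf z = r := orderOf_pow_orderOf_div (orderOf_pos x).ne' hrx
  have hd : (Subgroup.centralizer ({z} : Set G)).index ∣ p ^ k := by
    rw [← hk]
    refine Subgroup.index_dvd_of_le fun c hc => Subgroup.mem_centralizer_singleton_iff.2 ?_
    exact ((show Commute c x from Subgroup.mem_centralizer_singleton_iff.1 hc).pow_right _).eq
  obtain ⟨j, -, hj⟩ := (Nat.dvd_prime_pow hp).1 hd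
  have hz1 : z ≠ 1 := fun h => by rw [h, orderOf_one] at hzo; exact hr.ne_one hzo.symm
  haveI : Nontrivial G := ⟨⟨x, 1, hx⟩⟩
  obtain ⟨N, hNn, hNb, -, hNmin⟩ := Coprime.exists_minimal_normal_le (top_ne_bot (α := Subgroup G))
  haveI := hNn
  have hNs : ¬ Group.IsSolvable N := fun h => hNb (hrad N hNn h)
  by_cases hzN : z ∈ Subgroup.centralizer (N : Set G)
  · set D := Subgroup.centralizer (N : Set G)
    haveI : D.Normal := Subgroup.normal_centralizer
    have hD : D ≠ ⊤ := fun h => hNs (by
      refine Group.isSolvable_of_comm fun a b => Subtype.ext ?_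
      exact (Subgroup.mem_centralizer_iff.1 (show (b : G) ∈ D from h ▸ trivial) a a.2))
    have hlt : Nat.card D < Nat.card G :=
      lt_of_le_of_ne (Subgroup.card_le_card_group D) fun h => hD (Subgroup.eq_top_of_card_eq D h)
    have hd' : (Subgroup.centralizer ({⟨z, hzN⟩} : Set D)).index ∣ p ^ j := by
      rw [← hj, index_centralizer_subgroup_dvd D hzN]
      exact relIndex_dvd_index_of_normal_right _ D
    obtain ⟨i, -, hi⟩ := (Nat.dvd_prime_pow hp).1 hd'
    have hRs : Group.IsSolvable (Subgroup.normalClosure ({(⟨z, hzN⟩ : D)} : Set D)) :=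
      ih _ hlt (⟨z, hzN⟩ : D) rfl hp hi
    have hR := eq_bot_of_solvable_normal_normal hrad D
      (Subgroup.normalClosure ({(⟨z, hzN⟩ : D)} : Set D)) hRs
    have hm : (⟨z, hzN⟩ : D) ∈ Subgroup.normalClosure ({⟨z, hzN⟩} : Set D) :=
      Subgroup.subset_normalClosure rfl
    rw [hR, Subgroup.mem_bot] at hm
    exact hz1 (congrArg Subtype.val hm)
  obtain ⟨m, hm, hmz⟩ : ∃ m ∈ N, ¬ Commute m z := by
    by_contra hcon
    push Not at hcon
    exact hzN (Subgroup.mem_centralizer_iff.2 fun m hm => (hcon m hm).eq)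
  set H := N ⊔ Subgroup.zpowers z with hH
  by_cases hHtop : H = ⊤
  · obtain ⟨q, hq, hqN, hqp, hqr⟩ :
        ∃ q : ℕ, q.Prime ∧ q ∣ Nat.card N ∧ q ≠ p ∧ q ≠ r := by
      by_contra hcon
      push Not at hcon
      obtain ⟨a, b, hab⟩ := exists_eq_pow_mul_pow (p := p) (r := r) (Nat.card N) Nat.card_pos.ne'
        fun q hq hd => or_iff_not_imp_left.2 fun h => hcon q hq hd h
      exact hNs (Char.isSolvable_of_card_two_primes hp hr N a b hab)
    exact kazarin_key N hNmin hp hr hq hzo hHtop ⟨m, hm, hmz⟩ hqp hqr hqN hj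
  · have hlt : Nat.card H < Nat.card G :=
      lt_of_le_of_ne (Subgroup.card_le_card_group H) fun h => hHtop (Subgroup.eq_top_of_card_eq H h)
    have hzH : z ∈ H := le_sup_right (a := N) (Subgroup.mem_zpowers z)
    have hNH : N ≤ H := le_sup_left
    set z' : H := ⟨z, hzH⟩
    have hd' : (Subgroup.centralizer ({z'} : Set H)).index ∣ p ^ j := by
      rw [← hj, index_centralizer_subgroup_dvd H hzH]
      set C := Subgroup.centralizer ({z} : Set G)
      have hzC : Subgroup.zpowers z ≤ C :=
        Subgroup.zpowers_le.2 (Subgroup.mem_centralizer_singleton_iff.2 rfl)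
      refine Dvd.dvd.trans ?_ (relIndex_dvd_index_of_normal_right C N)
      have hle : C.relIndex H ∣ C.relIndex N := by
        have e : C ⊔ H = N ⊔ C := by
          rw [hH, sup_comm C, sup_assoc]; exact congrArg (N ⊔ ·) (sup_eq_right.2 hzC)
        have h1 : C.relIndex (C ⊔ H) = C.relIndex (N ⊔ C) := by rw [e]
        have h2 : C.relIndex (N ⊔ C) = C.relIndex N := relIndex_sup_of_normal C N
        have h3 : C.relIndex H ≤ C.relIndex (C ⊔ H) :=
          Subgroup.relIndex_le_of_le_right le_sup_right Subgroup.index_ne_zero_of_finite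
        have h4 : C.relIndex N ≤ C.relIndex H :=
          Subgroup.relIndex_le_of_le_right hNH Subgroup.index_ne_zero_of_finite
        exact dvd_of_eq (by omega)
      exact hle
    obtain ⟨i, -, hi⟩ := (Nat.dvd_prime_pow hp).1 hd'
    set R' := Subgroup.normalClosure ({z'} : Set H)
    haveI hR's : Group.IsSolvable R' := ih _ hlt z' rfl hp hi
    let W : Subgroup N := R'.comap (Subgroup.inclusion hNH)
    haveI : W.Normal := Subgroup.Normal.comap inferInstance _
    have hW : Group.IsSolvable W := by
      refine Group.isSolvable_of_isSolvable_injective (f :=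
        (((Subgroup.inclusion hNH).comp W.subtype).codRestrict R' fun c => c.2)) ?_
      intro a b hab
      exact Subtype.ext (Subgroup.inclusion_injective hNH (congrArg Subtype.val hab :))
    have hWb := eq_bot_of_solvable_normal_normal hrad N W hW
    have hcm : m * (z * m⁻¹ * z⁻¹) ∈ N :=
      mul_mem hm (hNn.conj_mem _ (inv_mem hm) z)
    have hmem : (⟨_, hcm⟩ : N) ∈ W := by
      have e : Subgroup.inclusion hNH ⟨_, hcm⟩ =
          (⟨m, hNH hm⟩ * z' * (⟨m, hNH hm⟩ : H)⁻¹) * z'⁻¹ := by
        apply Subtype.ext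
        show m * (z * m⁻¹ * z⁻¹) = m * z * m⁻¹ * z⁻¹
        group
      show Subgroup.inclusion hNH ⟨_, hcm⟩ ∈ R'
      rw [e]
      have hzR : z' ∈ R' := Subgroup.subset_normalClosure rfl
      exact mul_mem (Subgroup.normalClosure_normal.conj_mem _ hzR _) (inv_mem hzR)
    rw [hWb, Subgroup.mem_bot, Subtype.ext_iff, Subgroup.coe_one] at hmem
    refine hmz ?_
    show m * z = z * m
    rw [← mul_inv_eq_one, show m * z * (z * m)⁻¹ = m * (z * m⁻¹ * z⁻¹) by group]
    exact hmem

end CfsgLib.PGroup

namespace CfsgLib.PGroup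

open Cfsg

universe v

/-- If `O_p(G) = 1` and the class of `x` has `p`-power size then the conjugates of `x` commute,
and centralize the Fitting subgroup. -/
theorem conjugates_commute_of_pCore_eq_bot {G : Type v} [Group G] [Finite G] {p : ℕ}
    [Fact p.Prime] (hcore : Cfsg.pCore p G = ⊥) {x : G} {a : ℕ}
    (hx : (Subgroup.centralizer ({x} : Set G)).index = p ^ a) :
    Subgroup.normalClosure ({x} : Set G) ≤ Cfsg.fittingSubgroup G ⊓
      Subgroup.centralizer (Cfsg.fittingSubgroup G : Set G) := by
  set R := Subgroup.normalClosure ({x} : Set G) with hRdef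
  haveI hRs : Group.IsSolvable R :=
    isSolvable_normalClosure_of_class_prime_pow x Fact.out hx
  set F := Cfsg.fittingSubgroup G with hF
  haveI : F.Normal := Coprime.fitting_normal
  haveI : Group.IsNilpotent F := Coprime.fitting_isNilpotent
  have hFp : ¬ p ∣ Nat.card F := by
    intro hd
    obtain ⟨P⟩ : Nonempty (Sylow p F) := inferInstance
    haveI : (P : Subgroup F).Normal := inferInstance
    haveI : (P : Subgroup F).Characteristic := Sylow.characteristic_of_normal P inferInstance
    haveI := Coprime.map_subtype_normal_of_characteristic F (P : Subgroup F)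
    have h1 := Coprime.le_pCore (N := (P : Subgroup F).map F.subtype) (P.isPGroup'.map _)
    rw [hcore, le_bot_iff, Subgroup.map_eq_bot_iff, Subgroup.ker_subtype, le_bot_iff] at h1
    have h2 := P.dvd_card_of_dvd_card hd
    rw [show Nat.card P = 1 from Subgroup.card_eq_one.2 h1] at h2
    exact (Fact.out : p.Prime).not_dvd_one h2
  have hFC : F ≤ Subgroup.centralizer ({x} : Set G) := by
    have h1 : (Subgroup.centralizer ({x} : Set G)).relIndex F ∣ p ^ a :=
      hx ▸ relIndex_dvd_index_of_normal_right _ F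
    have h2 : (Subgroup.centralizer ({x} : Set G)).relIndex F ∣ Nat.card F :=
      Subgroup.index_dvd_card _
    exact Subgroup.relIndex_eq_one.1 (Nat.eq_one_of_dvd_coprimes
      (((Fact.out : p.Prime).coprime_iff_not_dvd.2 hFp).pow_left a) h1 h2)
  have hRC : R ≤ Subgroup.centralizer (F : Set G) := by
    haveI : (Subgroup.centralizer (F : Set G)).Normal := Subgroup.normal_centralizer
    refine Subgroup.normalClosure_le_normal (Set.singleton_subset_iff.2 ?_)
    exact Subgroup.mem_centralizer_iff.2 fun f hf =>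
      Subgroup.mem_centralizer_singleton_iff.1 (hFC hf)
  refine le_inf (fun r hr => ?_) hRC
  have hle : (Cfsg.fittingSubgroup R).map R.subtype ≤ F := by
    rw [Coprime.fitting_map_subtype_eq]; exact inf_le_left
  have hmem : (⟨r, hr⟩ : R) ∈ Subgroup.centralizer (Cfsg.fittingSubgroup R : Set R) :=
    Subgroup.mem_centralizer_iff.2 fun f hf => Subtype.ext
      (Subgroup.mem_centralizer_iff.1 (hRC hr) (f : G) (hle (Subgroup.mem_map_of_mem _ hf)))
  exact hle ⟨_, Coprime.centralizer_fitting_le hmem, rfl⟩

theorem conjugates_commute_pair {G : Type v} [Group G] [Finite G] {p : ℕ} [Fact p.Prime]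
    (hcore : Cfsg.pCore p G = ⊥) {x : G} {a : ℕ}
    (hx : (Subgroup.centralizer ({x} : Set G)).index = p ^ a) (g h : G) :
    (g * x * g⁻¹) * (h * x * h⁻¹) * (g * x * g⁻¹)⁻¹ * (h * x * h⁻¹)⁻¹ = 1 := by
  have hle := conjugates_commute_of_pCore_eq_bot hcore hx
  have hm : ∀ c, c * x * c⁻¹ ∈ Subgroup.normalClosure ({x} : Set G) := fun c =>
    Subgroup.normalClosure_normal.conj_mem _
      (Subgroup.subset_normalClosure (Set.mem_singleton x)) _
  have hcomm := Subgroup.mem_centralizer_iff.1 (hle (hm h)).2 _ (hle (hm g)).1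
  rw [hcomm, mul_inv_cancel_right, mul_inv_cancel]

theorem commutator_conj_mem_pCore {G : Type v} [Group G] [Finite G] {p : ℕ} [Fact p.Prime]
    {x : G} {a : ℕ} (hx : (Subgroup.centralizer ({x} : Set G)).index = p ^ a) (g h : G) :
    (g * x * g⁻¹) * (h * x * h⁻¹) * (g * x * g⁻¹)⁻¹ * (h * x * h⁻¹)⁻¹ ∈ Cfsg.pCore p G := by
  haveI := Coprime.pCore_normal' (G := G) p
  set f := QuotientGroup.mk' (Cfsg.pCore p G) with hf
  have hd : (Subgroup.centralizer ({f x} : Set (G ⧸ Cfsg.pCore p G))).index ∣ p ^ a := by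
    rw [← hx]
    refine (Subgroup.index_dvd_of_le ?_).trans
      (Subgroup.index_map_dvd _ (QuotientGroup.mk'_surjective _))
    rintro _ ⟨c, hc, rfl⟩
    refine Subgroup.mem_centralizer_singleton_iff.2 ?_
    rw [← map_mul, Subgroup.mem_centralizer_singleton_iff.1 hc, map_mul]
  obtain ⟨b, -, hb⟩ := (Nat.dvd_prime_pow (Fact.out : p.Prime)).1 hd
  have hpair := conjugates_commute_pair (G := G ⧸ Cfsg.pCore p G)
    (Coprime.pCore_quotient_eq_bot p) hb (f g) (f h)
  rw [← QuotientGroup.eq_one_iff, ← QuotientGroup.mk'_apply, ← hf]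
  simp only [map_mul, map_inv]
  exact hpair

end CfsgLib.PGroup
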