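import Cfsg.Agent.Lib.Fusion.Sylow
import Mathlib.GroupTheory.Nilpotent

/-!
# Groups with two conjugacy class sizes
-/

set_option autoImplicit false
set_option maxHeartbeats 1000000
set_option linter.style.haveILetI false

open Subgroup

namespace CfsgLib.TwoSizes

variable {G : Type*} [Group G] [Finite G]

theorem cent_le_of_pow {g : G} (k : ℕ) : centralizer ({g} : Set G) ≤ centralizer ({g ^ k} : Set G) :=
  fun _ hu => mem_centralizer_singleton_iff.2
    (Commute.pow_right (mem_centralizer_singleton_iff.1 hu) k).eq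

theorem mem_cent_comm {g h : G} (hg : g ∈ centralizer ({h} : Set G)) : h ∈ centralizer ({g} : Set G) :=
  mem_centralizer_singleton_iff.2 (mem_centralizer_singleton_iff.1 hg).symm

/-- All noncentral elements have centralizers of the same order. -/
def EqualCent (G : Type*) [Group G] : Prop :=
  ∀ x y : G, x ∉ center G → y ∉ center G →
    Nat.card (centralizer ({x} : Set G)) = Nat.card (centralizer ({y} : Set G))

theorem cent_eq_of_le (h : EqualCent G) {x y : G} (hx : x ∉ center G) (hy : y ∉ center G)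
    (hle : centralizer ({x} : Set G) ≤ centralizer ({y} : Set G)) :
    centralizer ({x} : Set G) = centralizer ({y} : Set G) :=
  eq_of_le_of_card_ge hle (h x y hx hy).ge

theorem center_le_cent (x : G) : center G ≤ centralizer ({x} : Set G) := fun z hz =>
  mem_centralizer_singleton_iff.2 ((mem_center_iff.1 hz x).symm)

/-- A prime power element that is not central. -/
def HasNoncentral (G : Type*) [Group G] (r : ℕ) : Prop :=
  ∃ x : G, x ∉ center G ∧ ∃ k, orderOf x = r ^ k

theorem cent_eq_of_coprime (h : EqualCent G) {x y : G} (hx : x ∉ center G) (hy : y ∉ center G)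
    (hc : Commute x y) (hco : (orderOf x).Coprime (orderOf y)) :
    centralizer ({x} : Set G) = centralizer ({y} : Set G) := by
  obtain ⟨a, hax, hay⟩ : ∃ a : ℕ, (x * y) ^ a = x ∧ True := by
    obtain ⟨m, hm⟩ := exists_pow_eq_self_of_coprime (n := orderOf y) (x := x) hco.symm
    refine ⟨orderOf y * m, ?_, trivial⟩
    rw [pow_mul, hc.mul_pow, pow_orderOf_eq_one, mul_one, hm]
  obtain ⟨b, hby, -⟩ : ∃ b : ℕ, (x * y) ^ b = y ∧ True := by
    obtain ⟨m, hm⟩ := exists_pow_eq_self_of_coprime (n := orderOf x) (x := y) hco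
    refine ⟨orderOf x * m, ?_, trivial⟩
    rw [pow_mul, hc.mul_pow, pow_orderOf_eq_one, one_mul, hm]
  have hxy : x * y ∉ center G := fun hmem => hx (hax ▸ pow_mem hmem a)
  have h1 := cent_eq_of_le h hxy hx (fun u hu => by have := cent_le_of_pow a hu; rwa [hax] at this)
  have h2 := cent_eq_of_le h hxy hy (fun u hu => by have := cent_le_of_pow b hu; rwa [hby] at this)
  exact h1.symm.trans h2

theorem sylow_le_center_of_not {r : ℕ} [Fact r.Prime] (hr : ¬ HasNoncentral G r) (R : Sylow r G) :
    (R : Subgroup G) ≤ center G := fun x hx => by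
  by_contra hne
  obtain ⟨k, hk⟩ := IsPGroup.iff_orderOf.1 R.2 ⟨x, hx⟩
  exact hr ⟨x, hne, k, by rw [← hk, ← Subgroup.orderOf_coe]⟩

theorem factorization_eq_center {r : ℕ} [Fact r.Prime] (hr : ¬ HasNoncentral G r) {H : Subgroup G}
    (hH : center G ≤ H) : (Nat.card H).factorization r = (Nat.card (center G)).factorization r := by
  obtain ⟨R⟩ : Nonempty (Sylow r G) := inferInstance
  refine le_antisymm ?_ ((Nat.factorization_le_iff_dvd Nat.card_pos.ne' Nat.card_pos.ne').2 (card_dvd_of_le hH) r)
  refine ((Nat.factorization_le_iff_dvd Nat.card_pos.ne' Nat.card_pos.ne').2 H.card_subgroup_dvd_card r).trans ?_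
  rw [← Nat.Prime.pow_dvd_iff_le_factorization Fact.out Nat.card_pos.ne', ← R.card_eq_multiplicity]
  exact card_dvd_of_le (sylow_le_center_of_not hr R)

/-- Every centralizer contains noncentral elements of every relevant prime. -/
theorem exists_noncentral_mem (h : EqualCent G) {r : ℕ} [Fact r.Prime] (hr : HasNoncentral G r)
    {y : G} (hy : y ∉ center G) :
    ∃ x ∈ centralizer ({y} : Set G), x ∉ center G ∧ ∃ k, orderOf x = r ^ k := by
  obtain ⟨x, hx, k, hk⟩ := hr
  set C := centralizer ({y} : Set G)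
  set D := centralizer ({x} : Set G)
  by_contra hcon
  obtain ⟨T⟩ : Nonempty (Sylow r C) := inferInstance
  have hT : (T : Subgroup C).map C.subtype ≤ center G := by
    rintro _ ⟨t, ht, rfl⟩
    by_contra hne
    obtain ⟨j, hj⟩ := IsPGroup.iff_orderOf.1 T.2 ⟨t, ht⟩
    exact hcon ⟨t, t.2, hne, j, by rw [← hj, ← Subgroup.orderOf_coe, ← Subgroup.orderOf_coe]⟩
  have h1 : r ^ (Nat.card C).factorization r ∣ Nat.card (center G) := by
    rw [← T.card_eq_multiplicity, ← card_map_of_injective C.subtype_injective]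
    exact card_dvd_of_le hT
  obtain ⟨Z₁⟩ : Nonempty (Sylow r (center G)) := inferInstance
  set Z' := (Z₁ : Subgroup (center G)).map (center G).subtype
  haveI hn : Z'.Normal := ⟨fun z hz g => by
    have := map_subtype_le _ hz
    rwa [mem_center_iff.1 this g, mul_inv_cancel_right]⟩
  set W := Z' ⊔ zpowers x
  have hW : IsPGroup r W := (Z₁.2.map _).to_sup_of_normal_left
    (IsPGroup.of_card ((Nat.card_zpowers x).trans hk))
  have hWD : W ≤ D := sup_le ((map_subtype_le _).trans (center_le_cent x))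
    (zpowers_le.2 (mem_centralizer_singleton_iff.2 rfl))
  obtain ⟨w, hw⟩ := hW.exists_card_eq
  have h2 : Nat.card W ∣ Nat.card Z' := by
    rw [card_map_of_injective (center G).subtype_injective, Z₁.card_eq_multiplicity, hw]
    refine pow_dvd_pow r ?_
    rw [← Nat.Prime.pow_dvd_iff_le_factorization Fact.out Nat.card_pos.ne']
    refine dvd_trans (pow_dvd_pow r ?_) h1
    rw [← Nat.Prime.pow_dvd_iff_le_factorization Fact.out Nat.card_pos.ne', ← hw, h y x hy hx]
    exact card_dvd_of_le hWD
  have h3 : W = Z' := (eq_of_le_of_card_ge le_sup_left (Nat.le_of_dvd Nat.card_pos h2)).symm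
  have hxW : x ∈ W := mem_sup_right (mem_zpowers x)
  rw [h3] at hxW
  exact hx (map_subtype_le _ hxW)

/-- With two relevant primes the centralizers of noncentral elements are abelian. -/
theorem cent_comm (h : EqualCent G) {r q : ℕ} [hr : Fact r.Prime] [hq : Fact q.Prime] (hrq : r ≠ q)
    (hnr : HasNoncentral G r) (hnq : HasNoncentral G q) {g : G} (hg : g ∉ center G) :
    ∀ a ∈ centralizer ({g} : Set G), ∀ b ∈ centralizer ({g} : Set G), a * b = b * a := by
  classical
  obtain ⟨x, hxg, hx, kx, hkx⟩ := exists_noncentral_mem h hnr hg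
  -- it suffices to treat elements of prime power order
  have hpp : ∀ (v : G), v ∉ center G → (∃ s k, Nat.Prime s ∧ orderOf v = s ^ k) →
      ∀ a ∈ centralizer ({v} : Set G), ∀ b ∈ centralizer ({v} : Set G), a * b = b * a := by
    rintro v hv ⟨s, k, hs, hk⟩
    haveI := Fact.mk hs
    obtain ⟨t, ht, hts, hnt⟩ : ∃ t, Nat.Prime t ∧ t ≠ s ∧ HasNoncentral G t := by
      by_cases hsr : r = s
      · exact ⟨q, hq.out, fun e => hrq (hsr.trans e.symm), hnq⟩
      · exact ⟨r, hr.out, hsr, hnr⟩
    haveI := Fact.mk ht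
    set C := centralizer ({v} : Set G) with hC
    obtain ⟨y, hyC, hy, ky, hky⟩ := exists_noncentral_mem h hnt hv
    have hvy : centralizer ({v} : Set G) = centralizer ({y} : Set G) :=
      cent_eq_of_coprime h hv hy (mem_centralizer_singleton_iff.1 hyC).symm
        (by rw [hk, hky]; exact Nat.Coprime.pow k ky ((Nat.coprime_primes hs ht).2 (Ne.symm hts)))
    -- every prime power element of `C` is central in `C`
    have hu : ∀ u ∈ C, (∃ s' k', Nat.Prime s' ∧ orderOf u = s' ^ k') → C ≤ centralizer ({u} : Set G) := by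
      rintro u hu ⟨s', k', hs', hk'⟩
      by_cases huc : u ∈ center G
      · exact fun w _ => mem_centralizer_singleton_iff.2 (mem_center_iff.1 huc w)
      by_cases hss : s' = s
      · have huy : centralizer ({u} : Set G) = centralizer ({y} : Set G) := by
          have : u ∈ centralizer ({y} : Set G) := hvy ▸ hu
          exact cent_eq_of_coprime h huc hy (mem_centralizer_singleton_iff.1 this)
            (by rw [hk', hky, hss]; exact Nat.Coprime.pow k' ky ((Nat.coprime_primes hs ht).2 (Ne.symm hts)))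
        rw [hC, hvy, huy]
      · exact le_of_eq (cent_eq_of_coprime h hv huc (mem_centralizer_singleton_iff.1 hu).symm
          (by rw [hk, hk']; exact Nat.Coprime.pow k k' ((Nat.coprime_primes hs hs').2 (Ne.symm hss))))
    have hcen : (center C) = ⊤ := by
      rw [← index_eq_one]
      by_contra hne
      obtain ⟨p, hp, hpd⟩ := Nat.exists_prime_and_dvd hne
      haveI := Fact.mk hp
      obtain ⟨T⟩ : Nonempty (Sylow p C) := inferInstance
      refine T.not_dvd_index (hpd.trans (index_dvd_of_le fun u hu' => mem_center_iff.2 fun w => ?_))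
      obtain ⟨k', hk'⟩ := IsPGroup.iff_orderOf.1 T.2 ⟨u, hu'⟩
      exact Subtype.ext (mem_centralizer_singleton_iff.1 (hu u u.2
        ⟨p, k', hp, by rw [← hk', ← Subgroup.orderOf_coe, ← Subgroup.orderOf_coe]⟩ w.2))
    intro a ha b hb
    have := mem_center_iff.1 (hcen ▸ mem_top (⟨b, hb⟩ : C)) ⟨a, ha⟩
    exact congrArg Subtype.val this
  intro a ha b hb
  -- some prime part of `g` is noncentral
  obtain ⟨s, hs, v, hvdef, hv⟩ : ∃ s, Nat.Prime s ∧ ∃ v : G, (∃ j, v = g ^ j ∧ ∃ k, orderOf v = s ^ k) ∧ v ∉ center G := by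
    by_contra hcon
    push Not at hcon
    refine hg ?_
    have : zpowers g ≤ center G := by
      intro w hw
      have htop : (center G).subgroupOf (zpowers g) = ⊤ := by
        rw [← index_eq_one]
        by_contra hne
        obtain ⟨p, hp, hpd⟩ := Nat.exists_prime_and_dvd hne
        haveI := Fact.mk hp
        obtain ⟨T⟩ : Nonempty (Sylow p (zpowers g)) := inferInstance
        refine T.not_dvd_index (hpd.trans (index_dvd_of_le fun u hu' => mem_subgroupOf.2 ?_))
        obtain ⟨k', hk'⟩ := IsPGroup.iff_orderOf.1 T.2 ⟨u, hu'⟩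
        obtain ⟨j, hj⟩ := (isOfFinOrder_of_finite g).mem_zpowers_iff_mem_range_orderOf.1 u.2 |> Finset.mem_image.1
        exact hcon p hp u ⟨j, hj.2.symm, k', by rw [← hk', ← Subgroup.orderOf_coe, ← Subgroup.orderOf_coe]⟩
      exact mem_subgroupOf.1 (htop ▸ mem_top (⟨w, hw⟩ : zpowers g))
    exact this (mem_zpowers g)
  obtain ⟨j, rfl, hvk⟩ := hvdef
  obtain ⟨k, hk⟩ := hvk
  exact hpp _ hv ⟨s, k, hs, hk⟩ a (cent_le_of_pow j ha) b (cent_le_of_pow j hb)

/-- Only one prime is relevant. -/
theorem unique_prime (h : EqualCent G) {r q : ℕ} (hr : r.Prime) (hq : q.Prime) (hnr : HasNoncentral G r)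
    (hnq : HasNoncentral G q) : r = q := by
  classical
  by_contra hrq
  haveI := Fact.mk hr
  haveI := Fact.mk hq
  obtain ⟨x₀, hx₀, -⟩ := id hnr
  have habel : ∀ g : G, g ∉ center G → ∀ a ∈ centralizer ({g} : Set G),
      ∀ b ∈ centralizer ({g} : Set G), a * b = b * a := fun g hg => cent_comm h hrq hnr hnq hg
  have hsame : ∀ a b : G, a ∉ center G → b ∉ center G → a ∈ centralizer ({b} : Set G) →
      centralizer ({a} : Set G) = centralizer ({b} : Set G) := fun a b ha hb hab =>
    (cent_eq_of_le h hb ha fun w hw => mem_centralizer_singleton_iff.2 (habel b hb w hw a hab)).symm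
  set Z := center G
  set C₀ := centralizer ({x₀} : Set G)
  -- the bound for each pair of primes
  have hbound : ∀ s t : ℕ, s.Prime → t.Prime → s ≠ t → HasNoncentral G s → HasNoncentral G t →
      s ^ ((Nat.card G).factorization s - (Nat.card C₀).factorization s) <
        t ^ ((Nat.card C₀).factorization t - (Nat.card Z).factorization t) := by
    intro s t hs ht hst hns hnt
    haveI := Fact.mk hs
    haveI := Fact.mk ht
    obtain ⟨R⟩ : Nonempty (Sylow s G) := inferInstance
    -- a noncentral element of `R` central in `R` modulo the centre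
    obtain ⟨x, hxR, hx, hxc⟩ : ∃ x ∈ (R : Subgroup G), x ∉ Z ∧
        ∀ u ∈ (R : Subgroup G), u * x * u⁻¹ * x⁻¹ ∈ Z := by
      obtain ⟨z, hz, k, hk⟩ := hns
      obtain ⟨T, hT⟩ := (IsPGroup.of_card ((Nat.card_zpowers z).trans hk) : IsPGroup s (zpowers z)).exists_le_sylow
      obtain ⟨c, hc⟩ := MulAction.exists_smul_eq G T R
      set f := (QuotientGroup.mk' Z).comp (R : Subgroup G).subtype
      have hp : IsPGroup s f.range := R.2.of_surjective f.rangeRestrict f.rangeRestrict_surjective
      have hne : Nontrivial f.range := by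
        rw [nontrivial_iff_ne_bot]
        intro hbot
        have hmem : c * z * c⁻¹ ∈ (R : Subgroup G) := by
          rw [← hc]; exact ⟨z, hT (mem_zpowers z), rfl⟩
        have h1 : f ⟨_, hmem⟩ ∈ f.range := ⟨_, rfl⟩
        rw [hbot, mem_bot] at h1
        have h2 := (inferInstance : Z.Normal).conj_mem _ ((QuotientGroup.eq_one_iff _).1 h1) c⁻¹
        exact hz (by simpa [mul_assoc] using h2)
      haveI := hne
      haveI := hp.center_nontrivial
      obtain ⟨⟨w, hw⟩, hw1⟩ := exists_ne (1 : center f.range)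
      obtain ⟨x, hx⟩ := w.2
      refine ⟨x, x.2, fun hxZ => hw1 (Subtype.ext (Subtype.ext ?_)), fun u hu => ?_⟩
      · show (w : G ⧸ Z) = 1
        rw [← hx]
        exact (QuotientGroup.eq_one_iff _).2 hxZ
      · rw [← QuotientGroup.eq_one_iff]
        show QuotientGroup.mk' Z _ = 1
        have h1 : QuotientGroup.mk' Z u * QuotientGroup.mk' Z x = QuotientGroup.mk' Z x * QuotientGroup.mk' Z u := by
          have := congrArg Subtype.val (mem_center_iff.1 hw ⟨_, ⟨⟨u, hu⟩, rfl⟩⟩)
          simp only [Subgroup.coe_mul] at this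
          rw [← hx] at this
          exact this
        rw [map_mul, map_mul, map_mul, map_inv, map_inv, h1]
        group
    set C := centralizer ({x} : Set G) with hC
    have hcardC : Nat.card C = Nat.card C₀ := h x x₀ hx hx₀
    -- `R` normalizes `C`
    have hRC : ∀ u ∈ (R : Subgroup G), ∀ w ∈ C, u * w * u⁻¹ ∈ C := by
      intro u hu w hw
      have hz : u⁻¹ * x * u⁻¹⁻¹ * x⁻¹ ∈ Z := hxc u⁻¹ (inv_mem hu)
      have he : u⁻¹ * x * u = (u⁻¹ * x * u⁻¹⁻¹ * x⁻¹) * x := by group
      have hmem : w ∈ centralizer ({u⁻¹ * x * u} : Set G) := by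
        rw [mem_centralizer_singleton_iff, he]
        exact ((Commute.symm (show Commute (u⁻¹ * x * u⁻¹⁻¹ * x⁻¹) w from (mem_center_iff.1 hz w).symm)).mul_right
          (mem_centralizer_singleton_iff.1 hw)).eq
      rw [mem_centralizer_singleton_iff] at hmem ⊢
      calc u * w * u⁻¹ * x = u * (w * (u⁻¹ * x * u)) * u⁻¹ := by group
        _ = u * ((u⁻¹ * x * u) * w) * u⁻¹ := by rw [hmem]
        _ = x * (u * w * u⁻¹) := by group
    set D := (R : Subgroup G) ⊓ C with hD
    -- `D` is a Sylow subgroup of `C`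
    set N := normalizer (C : Set G) with hN
    have hRN : (R : Subgroup G) ≤ N := fun u hu => mem_normalizer_iff.2 fun w => ⟨hRC u hu w, fun hw => by
      simpa [mul_assoc] using hRC u⁻¹ (inv_mem hu) _ hw⟩
    have hCN : C ≤ N := le_normalizer
    haveI : (C.subgroupOf N).Normal := inferInstance
    have hDfact : (Nat.card D).factorization s = (Nat.card C).factorization s := by
      have hnd := CfsgLib.Fusion.not_dvd_relIndex_inf_of_normal (R.subtype hRN) (C.subgroupOf N)
      have e : (R : Subgroup G).subgroupOf N ⊓ C.subgroupOf N = ((R : Subgroup G) ⊓ C).subgroupOf N := by ext; rfl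
      rw [Sylow.coe_subtype, e, relIndex_subgroupOf hCN] at hnd
      have hmul : Nat.card D * D.relIndex C = Nat.card C := by
        rw [← relIndex_bot_left D, relIndex_mul_relIndex _ _ _ bot_le inf_le_right, relIndex_bot_left]
      conv_rhs => rw [← hmul]
      rw [Nat.factorization_mul Nat.card_pos.ne' (fun e => hnd (by rw [hD] at e; rw [e]; exact dvd_zero s)),
        Finsupp.add_apply, Nat.factorization_eq_zero_of_not_dvd hnd, add_zero]
    have hDcard : Nat.card D = s ^ (Nat.card C₀).factorization s := by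
      obtain ⟨j, hj⟩ := (R.2.to_le (inf_le_left : D ≤ (R : Subgroup G))).exists_card_eq
      rw [← hcardC, ← hDfact, hj, Nat.factorization_pow_self hs]
    -- `R` acts on the noncentral `t`-elements of `C`
    let X := {w : G // w ∈ C ∧ w ∉ Z ∧ ∃ k, orderOf w = t ^ k}
    letI act : MulAction (R : Subgroup G) X :=
      { smul := fun u w => ⟨(u : G) * w * (u : G)⁻¹, hRC u u.2 w w.2.1,
          fun hz => w.2.2.1 (by simpa [mul_assoc] using (inferInstance : Z.Normal).conj_mem _ hz (u : G)⁻¹), by
            obtain ⟨k, hk⟩ := w.2.2.2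
            exact ⟨k, by rw [← hk]; exact (MulAut.conj (u : G)).orderOf_eq w.1⟩⟩
        one_smul := fun w => Subtype.ext (show (1 : G) * w.1 * (1 : G)⁻¹ = w.1 by group)
        mul_smul := fun a b w => Subtype.ext
          (show ((a : G) * b) * w.1 * ((a : G) * b)⁻¹ = a * (b * w.1 * (b : G)⁻¹) * (a : G)⁻¹ by group) }
    have hstab : ∀ w : X, MulAction.stabilizer (R : Subgroup G) w = D.subgroupOf (R : Subgroup G) := by
      intro w
      ext u
      rw [MulAction.mem_stabilizer_iff, mem_subgroupOf, hD]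
      have hCw : centralizer ({w.1} : Set G) = C := hsame w.1 x w.2.2.1 hx w.2.1
      constructor
      · intro hu
        refine ⟨u.2, ?_⟩
        show (u : G) ∈ C
        rw [← hCw, mem_centralizer_singleton_iff]
        exact mul_inv_eq_iff_eq_mul.1 (congrArg Subtype.val hu)
      · intro hu
        refine Subtype.ext (mul_inv_eq_iff_eq_mul.2 ?_)
        rw [← mem_centralizer_singleton_iff, hCw]
        exact hu.2
    set d := (D.subgroupOf (R : Subgroup G)).index with hd
    have horb : d ∣ Nat.card X := by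
      haveI : Fintype (MulAction.orbitRel.Quotient (R : Subgroup G) X) := Fintype.ofFinite _
      rw [Nat.card_congr (MulAction.selfEquivSigmaOrbits (R : Subgroup G) X), Nat.card_sigma]
      refine Finset.dvd_sum fun q _ => ?_
      rw [Nat.card_congr (MulAction.orbitEquivQuotientStabilizer (R : Subgroup G) q.out), hstab,
        ← index_eq_card]
    have hd' : d = s ^ ((Nat.card G).factorization s - (Nat.card C₀).factorization s) := by
      have h1 := (D.subgroupOf (R : Subgroup G)).card_mul_index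
      rw [Nat.card_congr (subgroupOfEquivOfLe (inf_le_left : D ≤ (R : Subgroup G))).toEquiv, hDcard,
        R.card_eq_multiplicity] at h1
      have hle : (Nat.card C₀).factorization s ≤ (Nat.card G).factorization s :=
        (Nat.factorization_le_iff_dvd Nat.card_pos.ne' Nat.card_pos.ne').2 C₀.card_subgroup_dvd_card s
      rw [← Nat.add_sub_cancel' hle, pow_add] at h1
      exact mul_left_cancel₀ (pow_ne_zero _ hs.ne_zero) h1
    -- count `X`
    have hCab : ∀ a ∈ C, ∀ b ∈ C, a * b = b * a := habel x hx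
    haveI hCnil : IsMulCommutative C := ⟨⟨fun a b => Subtype.ext (hCab a a.2 b b.2)⟩⟩
    obtain ⟨T⟩ : Nonempty (Sylow t C) := inferInstance
    haveI hTn : (T : Subgroup C).Normal := inferInstance
    have hTmem : ∀ w : C, w ∈ (T : Subgroup C) ↔ ∃ k, orderOf (w : G) = t ^ k := by
      intro w
      constructor
      · intro hw
        obtain ⟨k, hk⟩ := IsPGroup.iff_orderOf.1 T.2 ⟨w, hw⟩
        exact ⟨k, by rw [← hk, ← Subgroup.orderOf_coe, ← Subgroup.orderOf_coe]⟩
      · rintro ⟨k, hk⟩
        have hp : IsPGroup t (zpowers w) := IsPGroup.of_card (n := k)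
          (by rw [Nat.card_zpowers, ← Subgroup.orderOf_coe, hk])
        obtain ⟨T', hT'⟩ := hp.exists_le_sylow
        obtain ⟨c, hc⟩ := MulAction.exists_smul_eq C T T'
        rw [Sylow.smul_eq_of_normal] at hc
        exact hc ▸ hT' (mem_zpowers w)
    set TZ := (T : Subgroup C) ⊓ Z.subgroupOf C with hTZ
    have hcardT : Nat.card (T : Subgroup C) = t ^ (Nat.card C₀).factorization t := by
      rw [T.card_eq_multiplicity, hcardC]
    have hcardTZ : Nat.card TZ = t ^ (Nat.card Z).factorization t := by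
      obtain ⟨j, hj⟩ := (T.2.to_le (inf_le_left : TZ ≤ (T : Subgroup C))).exists_card_eq
      have hnd := CfsgLib.Fusion.not_dvd_relIndex_inf_of_normal T (Z.subgroupOf C)
      have hmul : Nat.card TZ * TZ.relIndex (Z.subgroupOf C) = Nat.card Z := by
        rw [← relIndex_bot_left TZ, relIndex_mul_relIndex _ _ _ bot_le inf_le_right, relIndex_bot_left,
          Nat.card_congr (subgroupOfEquivOfLe (center_le_cent x)).toEquiv]
      rw [← hmul, Nat.factorization_mul Nat.card_pos.ne' (fun e => hnd (by rw [hTZ] at e; rw [e]; exact dvd_zero t)),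
        Finsupp.add_apply, Nat.factorization_eq_zero_of_not_dvd hnd, add_zero, hj, Nat.factorization_pow_self ht]
    have hX : Nat.card X + Nat.card TZ = Nat.card (T : Subgroup C) := by
      let e : X ≃ {w : (T : Subgroup C) // (w : C) ∉ TZ} :=
        { toFun := fun w => ⟨⟨⟨w.1, w.2.1⟩, (hTmem _).2 w.2.2.2⟩, fun hw => w.2.2.1 (mem_subgroupOf.1 hw.2)⟩
          invFun := fun w => ⟨w.1.1.1, w.1.1.2, fun hz => w.2 ⟨w.1.2, mem_subgroupOf.2 hz⟩, (hTmem _).1 w.1.2⟩
          left_inv := fun w => rfl
          right_inv := fun w => rfl }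
      rw [Nat.card_congr e, Nat.card_congr (subgroupOfEquivOfLe (inf_le_left : TZ ≤ (T : Subgroup C))).toEquiv.symm,
        add_comm, ← Nat.card_sum]
      exact Nat.card_congr (Equiv.sumCompl _)
    have hpos : 0 < Nat.card X := by
      obtain ⟨y, hy, hy', k, hk⟩ := exists_noncentral_mem h hnt hx
      haveI : Nonempty X := ⟨⟨y, hy, hy', k, hk⟩⟩
      exact Nat.card_pos
    rw [hcardT, hcardTZ] at hX
    set a := (Nat.card C₀).factorization t
    set b := (Nat.card Z).factorization t
    have hba : b ≤ a := (Nat.pow_le_pow_iff_right ht.one_lt).1 (by omega)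
    have hXeq : Nat.card X = t ^ b * (t ^ (a - b) - 1) := by
      rw [Nat.mul_sub, mul_one, ← pow_add, Nat.add_sub_cancel' hba]; omega
    rw [hXeq] at horb hpos
    rw [← hd']
    have hco : Nat.Coprime d (t ^ b) := by
      rw [hd']; exact Nat.Coprime.pow _ _ ((Nat.coprime_primes hs ht).2 hst)
    have h2 := Nat.le_of_dvd (Nat.pos_of_mul_pos_left hpos) (hco.dvd_of_dvd_mul_left horb)
    exact lt_of_le_of_lt h2 (Nat.sub_lt (pow_pos ht.pos _) one_pos)
  -- counting
  set c := fun s => (Nat.card C₀).factorization s - (Nat.card Z).factorization s with hc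
  set e := fun s => (Nat.card G).factorization s - (Nat.card C₀).factorization s with he
  set S := (Nat.card G).primeFactors.filter (HasNoncentral G) with hS
  have hSmem : ∀ s, s ∈ S → s.Prime ∧ HasNoncentral G s := fun s hs =>
    ⟨Nat.prime_of_mem_primeFactors (Finset.mem_filter.1 hs).1, (Finset.mem_filter.1 hs).2⟩
  have hZC : Z ≤ C₀ := center_le_cent x₀
  have hexp : ∀ (A B : Subgroup G), Z ≤ A → A ≤ B →
      A.relIndex B = ∏ s ∈ S, s ^ ((Nat.card B).factorization s - (Nat.card A).factorization s) := by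
    intro A B hA hAB
    have hmul : Nat.card A * A.relIndex B = Nat.card B := by
      rw [← relIndex_bot_left A, relIndex_mul_relIndex _ _ _ bot_le hAB, relIndex_bot_left]
    have hne : A.relIndex B ≠ 0 := fun e0 => by
      rw [e0, mul_zero] at hmul; exact Nat.card_pos.ne' hmul.symm
    have hf : ∀ s, (A.relIndex B).factorization s = (Nat.card B).factorization s - (Nat.card A).factorization s := by
      intro s
      rw [← hmul, Nat.factorization_mul Nat.card_pos.ne' hne, Finsupp.add_apply, Nat.add_sub_cancel_left]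
    have hsub : (A.relIndex B).primeFactors ⊆ S := by
      intro s hs
      have hsp := Nat.prime_of_mem_primeFactors hs
      haveI := Fact.mk hsp
      have hpos := hsp.factorization_pos_of_dvd hne (Nat.dvd_of_mem_primeFactors hs)
      refine Finset.mem_filter.2 ⟨Nat.mem_primeFactors.2 ⟨hsp, ((Nat.dvd_of_mem_primeFactors hs).trans
        (Dvd.intro_left _ hmul)).trans B.card_subgroup_dvd_card, Nat.card_pos.ne'⟩, ?_⟩
      by_contra hns
      rw [hf, factorization_eq_center hns (hA.trans hAB), factorization_eq_center hns hA, Nat.sub_self] at hpos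
      exact lt_irrefl 0 hpos
    conv_lhs => rw [← Nat.prod_factorization_pow_eq_self hne]
    rw [Finsupp.prod, Nat.support_factorization]
    rw [Finset.prod_subset hsub (fun s _ hs => by
      rw [Finsupp.notMem_support_iff.1 (by rwa [Nat.support_factorization]), pow_zero])]
    exact Finset.prod_congr rfl fun s _ => by rw [hf]
  have hn : C₀.index = ∏ s ∈ S, s ^ e s := by
    rw [← relIndex_top_right C₀, hexp C₀ ⊤ hZC le_top, card_top]
  have hcc : Z.relIndex C₀ = ∏ s ∈ S, s ^ c s := by
    rw [hexp Z C₀ le_rfl hZC]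
  have hrS : r ∈ S := by
    obtain ⟨x, hx, k, hk⟩ := hnr
    refine Finset.mem_filter.2 ⟨Nat.mem_primeFactors.2 ⟨hr, ?_, Nat.card_pos.ne'⟩, ⟨x, hx, k, hk⟩⟩
    rcases k with _ | k
    · exact absurd ((orderOf_eq_one_iff.1 (hk.trans (pow_zero r))) ▸ one_mem Z) hx
    · exact ((dvd_pow_self r (Nat.succ_ne_zero k)).trans hk.symm.dvd).trans (orderOf_dvd_natCard x)
  have hqS : q ∈ S := by
    obtain ⟨x, hx, k, hk⟩ := hnq
    refine Finset.mem_filter.2 ⟨Nat.mem_primeFactors.2 ⟨hq, ?_, Nat.card_pos.ne'⟩, ⟨x, hx, k, hk⟩⟩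
    rcases k with _ | k
    · exact absurd ((orderOf_eq_one_iff.1 (hk.trans (pow_zero q))) ▸ one_mem Z) hx
    · exact ((dvd_pow_self q (Nat.succ_ne_zero k)).trans hk.symm.dvd).trans (orderOf_dvd_natCard x)
  have hlt : C₀.index < Z.relIndex C₀ := by
    rw [hn, hcc]
    obtain ⟨q₀, hq₀, hmin⟩ := Finset.exists_min_image S (fun s => s ^ c s) ⟨r, hrS⟩
    obtain ⟨r₁, hr₁, hne⟩ : ∃ r₁ ∈ S, r₁ ≠ q₀ := by
      by_cases hr₀ : r = q₀
      · exact ⟨q, hqS, fun e => hrq (hr₀.trans e.symm)⟩
      · exact ⟨r, hrS, hr₀⟩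
    have hq₀' := hSmem _ hq₀
    rw [← Finset.mul_prod_erase S _ hq₀, ← Finset.mul_prod_erase S (fun s => s ^ c s) hq₀,
      ← Finset.mul_prod_erase (S.erase q₀) _ (Finset.mem_erase.2 ⟨hne, hr₁⟩),
      ← Finset.mul_prod_erase (S.erase q₀) (fun s => s ^ c s) (Finset.mem_erase.2 ⟨hne, hr₁⟩)]
    have h1 : q₀ ^ e q₀ < r₁ ^ c r₁ :=
      hbound q₀ r₁ hq₀'.1 (hSmem _ hr₁).1 (Ne.symm hne) hq₀'.2 (hSmem _ hr₁).2
    have h2 : r₁ ^ e r₁ < q₀ ^ c q₀ :=
      hbound r₁ q₀ (hSmem _ hr₁).1 hq₀'.1 hne (hSmem _ hr₁).2 hq₀'.2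
    have h3 : ∏ s ∈ (S.erase q₀).erase r₁, s ^ e s ≤ ∏ s ∈ (S.erase q₀).erase r₁, s ^ c s := by
      refine Finset.prod_le_prod' fun s hs => ?_
      obtain ⟨hs1, hs2⟩ := Finset.mem_erase.1 hs
      obtain ⟨hs3, hs4⟩ := Finset.mem_erase.1 hs2
      exact (hbound s q₀ (hSmem _ hs4).1 hq₀'.1 hs3 (hSmem _ hs4).2 hq₀'.2).le.trans (hmin s hs4)
    have hposP : 0 < ∏ s ∈ (S.erase q₀).erase r₁, s ^ c s := Finset.prod_pos fun s hs =>
      pow_pos (hSmem _ (Finset.mem_of_mem_erase (Finset.mem_of_mem_erase hs))).1.pos _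
    calc q₀ ^ e q₀ * (r₁ ^ e r₁ * ∏ s ∈ (S.erase q₀).erase r₁, s ^ e s)
        ≤ q₀ ^ e q₀ * (r₁ ^ e r₁ * ∏ s ∈ (S.erase q₀).erase r₁, s ^ c s) :=
          Nat.mul_le_mul_left _ (Nat.mul_le_mul_left _ h3)
      _ = q₀ ^ e q₀ * r₁ ^ e r₁ * ∏ s ∈ (S.erase q₀).erase r₁, s ^ c s := by ring
      _ < r₁ ^ c r₁ * q₀ ^ c q₀ * ∏ s ∈ (S.erase q₀).erase r₁, s ^ c s :=
          Nat.mul_lt_mul_of_pos_right (Nat.mul_lt_mul'' h1 h2) hposP
      _ = q₀ ^ c q₀ * (r₁ ^ c r₁ * ∏ s ∈ (S.erase q₀).erase r₁, s ^ c s) := by ring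
  -- the partition
  set zc := Nat.card Z
  have hpart : (Nat.card C₀ - zc) ∣ (Nat.card G - zc) := by
    let Y := {g : G // g ∉ Z}
    haveI : Fintype (Subgroup G) := Fintype.ofFinite _
    let f : Y → Subgroup G := fun g => centralizer ({g.1} : Set G)
    have hY : ∀ A : Subgroup G, Nat.card {g : G // g ∉ A} = Nat.card G - Nat.card A := fun A => by
      have := Nat.card_congr (Equiv.sumCompl (fun g : G => g ∈ A))
      rw [Nat.card_sum] at this
      have h2 : Nat.card {g : G // g ∈ A} = Nat.card A := rfl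
      omega
    rw [← hY Z, ← Nat.card_congr (Equiv.sigmaFiberEquiv f), Nat.card_sigma]
    refine Finset.dvd_sum fun A _ => ?_
    by_cases hA : ∃ g : Y, f g = A
    · obtain ⟨g, rfl⟩ := hA
      refine dvd_of_eq ?_
      have hcg := h g.1 x₀ g.2 hx₀
      let e : {w : Y // f w = f g} ≃ {w : centralizer ({g.1} : Set G) // (w : G) ∉ Z} :=
        { toFun := fun w => ⟨⟨w.1.1, by
            have : w.1.1 ∈ centralizer ({w.1.1} : Set G) := mem_centralizer_singleton_iff.2 rfl
            have h2 := w.2
            simp only [f] at h2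
            rwa [h2] at this⟩, w.1.2⟩
          invFun := fun w => ⟨⟨w.1.1, w.2⟩, hsame _ _ w.2 g.2 w.1.2⟩
          left_inv := fun w => rfl
          right_inv := fun w => rfl }
      rw [Nat.card_congr e, ← hcg]
      have := Nat.card_congr (Equiv.sumCompl (fun w : centralizer ({g.1} : Set G) => (w : G) ∈ Z))
      rw [Nat.card_sum] at this
      have h2 : Nat.card {w : centralizer ({g.1} : Set G) // (w : G) ∈ Z} = zc :=
        Nat.card_congr (subgroupOfEquivOfLe (center_le_cent g.1)).toEquiv
      omega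
    · haveI : IsEmpty {w : Y // f w = A} := ⟨fun w => hA ⟨w.1, w.2⟩⟩
      simp
  have hZc : zc * Z.relIndex C₀ = Nat.card C₀ := by
    show Nat.card Z * _ = _
    rw [← relIndex_bot_left Z, relIndex_mul_relIndex _ _ _ bot_le hZC, relIndex_bot_left]
  have hG := C₀.card_mul_index
  have hidx : 2 ≤ C₀.index := by
    have h1 : C₀.index ≠ 1 := fun e1 => by
      rw [index_eq_one] at e1
      exact hx₀ (mem_center_iff.2 fun g => mem_centralizer_singleton_iff.1 (show g ∈ C₀ by rw [e1]; exact mem_top g))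
    have h2 : C₀.index ≠ 0 := index_ne_zero_of_finite
    omega
  set n := C₀.index
  set k := Z.relIndex C₀
  rw [← hG, ← hZc, show zc * k - zc = zc * (k - 1) by rw [Nat.mul_sub, mul_one],
    show zc * k * n - zc = zc * (k * n - 1) by rw [Nat.mul_sub, mul_one, mul_assoc]] at hpart
  have h4 : k - 1 ∣ k * n - 1 := Nat.dvd_of_mul_dvd_mul_left Nat.card_pos hpart
  have h5 : k * n - 1 = (k - 1) * n + (n - 1) := by
    have hkn : n ≤ k * n := Nat.le_mul_of_pos_left n (by omega)
    have : (k - 1) * n = k * n - n := by rw [Nat.sub_mul, one_mul]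
    omega
  rw [h5] at h4
  have h6 := Nat.le_of_dvd (by omega) ((Nat.dvd_add_right (dvd_mul_right _ _)).1 h4)
  omega

/-- In a `p`-group part of such a group some abelian normal subgroup contains all `p`-th powers. -/
theorem exists_abelian_pow (h : EqualCent G) {p : ℕ} [Fact p.Prime] (P : Sylow p G)
    (hsame : ∀ y ∈ (P : Subgroup G), (∀ u ∈ (P : Subgroup G), u * y = y * u) → y ∈ center G) :
    ∃ A : Subgroup (P : Subgroup G), A.Normal ∧ IsMulCommutative A ∧ ∀ y : (P : Subgroup G), y ^ p ∈ A := by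
  classical
  set Z := center (P : Subgroup G)
  by_cases hall : ∀ y : (P : Subgroup G), y ^ p ∈ Z
  · exact ⟨Z, inferInstance, inferInstance, hall⟩
  push Not at hall
  obtain ⟨y₀, hy₀⟩ := hall
  -- an element of order `p` in the centre of `P / Z(P)`
  have hne : Nontrivial ((P : Subgroup G) ⧸ Z) := ⟨⟨QuotientGroup.mk' Z (y₀ ^ p), 1, fun e => hy₀ ((QuotientGroup.eq_one_iff _).1 e)⟩⟩
  have hpq : IsPGroup p ((P : Subgroup G) ⧸ Z) := P.2.to_quotient Z
  haveI := hpq.center_nontrivial
  obtain ⟨w, hw⟩ := exists_prime_orderOf_dvd_card' (G := center ((P : Subgroup G) ⧸ Z)) p (by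
    obtain ⟨k, hk⟩ := (hpq.to_subgroup (center _)).exists_card_eq
    rcases k with _ | k
    · have := Finite.one_lt_card_iff_nontrivial.2 (inferInstance : Nontrivial (center ((P : Subgroup G) ⧸ Z)))
      rw [pow_zero] at hk; omega
    · exact hk ▸ dvd_pow_self p (Nat.succ_ne_zero k))
  obtain ⟨z, hz⟩ := QuotientGroup.mk'_surjective Z (w : (P : Subgroup G) ⧸ Z)
  have hzZ : z ∉ Z := fun hzm => by
    have h1 : w = 1 := Subtype.ext (hz.symm.trans ((QuotientGroup.eq_one_iff z).2 hzm))
    rw [h1, orderOf_one] at hw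
    exact (Fact.out : p.Prime).ne_one hw.symm
  have hzp : z ^ p ∈ Z := by
    rw [← QuotientGroup.eq_one_iff]
    show QuotientGroup.mk' Z (z ^ p) = 1
    rw [map_pow, hz, ← SubmonoidClass.coe_pow, orderOf_dvd_iff_pow_eq_one.1 hw.dvd]
    rfl
  have hzc : ∀ u, u * z * u⁻¹ * z⁻¹ ∈ Z := fun u => by
    rw [← QuotientGroup.eq_one_iff]
    show QuotientGroup.mk' Z _ = 1
    rw [map_mul, map_mul, map_mul, map_inv, map_inv, hz, mem_center_iff.1 w.2 (QuotientGroup.mk' Z u)]
    group
  have hmemZ : ∀ y : (P : Subgroup G), (y : G) ∈ center G ↔ y ∈ Z := fun y =>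
    ⟨fun hy => mem_center_iff.2 fun u => Subtype.ext (mem_center_iff.1 hy u),
      fun hy => hsame y y.2 fun u hu => congrArg Subtype.val (mem_center_iff.1 hy ⟨u, hu⟩)⟩
  have hle : ∀ a b : (P : Subgroup G), a ∉ Z → b ∉ Z →
      centralizer ({(a : G)} : Set G) ≤ centralizer ({(b : G)} : Set G) → ∀ u : (P : Subgroup G),
        u * b = b * u → u * a = a * u := by
    intro a b ha hb hab u hu
    have he := cent_eq_of_le h (fun h' => ha ((hmemZ a).1 h')) (fun h' => hb ((hmemZ b).1 h')) hab
    have : (u : G) ∈ centralizer ({(b : G)} : Set G) :=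
      mem_centralizer_singleton_iff.2 (congrArg Subtype.val hu)
    rw [← he] at this
    exact Subtype.ext (mem_centralizer_singleton_iff.1 this)
  let A : Subgroup (P : Subgroup G) := centralizer (centralizer ({z} : Set (P : Subgroup G)) : Set (P : Subgroup G))
  have hAmem : ∀ a, a ∈ A ↔ ∀ u, u * z = z * u → u * a = a * u := fun a => by
    rw [mem_centralizer_iff]
    simp only [SetLike.mem_coe, mem_centralizer_singleton_iff]
  refine ⟨A, ⟨fun a ha g => (hAmem _).2 fun u hu => ?_⟩, ⟨⟨fun a b => Subtype.ext ?_⟩⟩, fun y => (hAmem _).2 ?_⟩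
  · have h1 : g⁻¹ * u * g * z = z * (g⁻¹ * u * g) := by
      have hgz : g * z * g⁻¹ = (g * z * g⁻¹ * z⁻¹) * z := by group
      have hcm : u * (g * z * g⁻¹) = (g * z * g⁻¹) * u := by
        rw [hgz]
        exact ((show Commute u (g * z * g⁻¹ * z⁻¹) from mem_center_iff.1 (hzc g) u).mul_right hu).eq
      calc g⁻¹ * u * g * z = g⁻¹ * (u * (g * z * g⁻¹)) * g := by group
        _ = g⁻¹ * ((g * z * g⁻¹) * u) * g := by rw [hcm]
        _ = z * (g⁻¹ * u * g) := by group
    have h2 := (hAmem a).1 ha _ h1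
    calc u * (g * a * g⁻¹) = g * ((g⁻¹ * u * g) * a) * g⁻¹ := by group
      _ = g * (a * (g⁻¹ * u * g)) * g⁻¹ := by rw [h2]
      _ = g * a * g⁻¹ * u := by group
  · exact (hAmem b).1 b.2 a (((hAmem (a : (P : Subgroup G))).1 a.2 z rfl).symm)
  · intro u hu
    by_cases hyZ : y ^ p ∈ Z
    · exact mem_center_iff.1 hyZ u
    have hy : y ∉ Z := fun hy => hyZ (pow_mem hy p)
    -- `z` commutes with `y`
    have hzy : z * y ^ p = y ^ p * z := by
      have hc := hzc y
      set c := y * z * y⁻¹ * z⁻¹
      have hcz : Commute c z := (mem_center_iff.1 hc z).symm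
      have hiter : ∀ m : ℕ, y ^ m * z * (y ^ m)⁻¹ = c ^ m * z := by
        intro m
        induction m with
        | zero => simp
        | succ m ih =>
          have hyc : y * c ^ m * y⁻¹ = c ^ m := by
            rw [mem_center_iff.1 (pow_mem hc m) y, mul_inv_cancel_right]
          calc y ^ (m + 1) * z * (y ^ (m + 1))⁻¹ = y * (y ^ m * z * (y ^ m)⁻¹) * y⁻¹ := by
                rw [pow_succ']; group
            _ = (y * c ^ m * y⁻¹) * (y * z * y⁻¹) := by rw [ih]; group
            _ = c ^ m * (c * z) := by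
                rw [hyc, show y * z * y⁻¹ = c * z by simp only [c]; rw [inv_mul_cancel_right]]
            _ = c ^ (m + 1) * z := by rw [pow_succ]; exact (mul_assoc _ _ _).symm
      have hcp : c ^ p = 1 := by
        have h1 : (y * z * y⁻¹) ^ p = z ^ p := by
          rw [conj_pow, mem_center_iff.1 hzp y, mul_inv_cancel_right]
        rw [show y * z * y⁻¹ = c * z by simp only [c]; group, hcz.mul_pow] at h1
        exact mul_eq_right.1 h1
      have h2 := hiter p
      rw [hcp, one_mul, mul_inv_eq_iff_eq_mul] at h2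
      exact h2.symm
    have hzy' : z * y = y * z := hle y (y ^ p) hy hyZ (by
      rw [Subgroup.coe_pow]; exact cent_le_of_pow p) z hzy
    -- hence `y ^ p` and `z` have the same centralizer
    have hzyc : Commute z y := hzy'
    have hprod : (z * y) ∉ Z := fun hm => hyZ (by
      have := pow_mem hm p
      rw [hzyc.mul_pow] at this
      simpa using mul_mem (inv_mem hzp) this)
    have hprodp : (z * y) ^ p ∉ Z := fun hm => hyZ (by
      rw [hzyc.mul_pow] at hm
      simpa using mul_mem (inv_mem hzp) hm)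
    -- centralizers in the whole group
    have hG : centralizer ({(z : G)} : Set G) = centralizer ({((y ^ p : (P : Subgroup G)) : G)} : Set G) := by
      have hny : (y : G) ∉ center G := fun h' => hy ((hmemZ y).1 h')
      have hnz : (z : G) ∉ center G := fun h' => hzZ ((hmemZ z).1 h')
      have hnp : ((y ^ p : (P : Subgroup G)) : G) ∉ center G := fun h' => hyZ ((hmemZ _).1 h')
      have hnzy : ((z * y : (P : Subgroup G)) : G) ∉ center G := fun h' => hprod ((hmemZ _).1 h')
      have hnzyp : (((z * y) ^ p : (P : Subgroup G)) : G) ∉ center G := fun h' => hprodp ((hmemZ _).1 h')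
      have e1 := cent_eq_of_le h hny hnp (by rw [Subgroup.coe_pow]; exact cent_le_of_pow p)
      have e2 := cent_eq_of_le h hnzy hnzyp (by rw [Subgroup.coe_pow]; exact cent_le_of_pow p)
      refine (cent_eq_of_le h hnp hnz fun u hu => ?_).symm
      have huy : Commute u (y : G) := mem_centralizer_singleton_iff.1 (e1.ge hu)
      have huzy : Commute u ((z * y : (P : Subgroup G)) : G) := by
        refine mem_centralizer_singleton_iff.1 (e2.ge ?_)
        rw [mem_centralizer_singleton_iff, hzyc.mul_pow, Subgroup.coe_mul]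
        exact ((show Commute u ((z ^ p : (P : Subgroup G)) : G) from mem_center_iff.1 ((hmemZ _).2 hzp) u).mul_right
          (mem_centralizer_singleton_iff.1 hu)).eq
      rw [Subgroup.coe_mul] at huzy
      have h4 := huzy.mul_right huy.inv_right
      rw [mul_inv_cancel_right] at h4
      exact mem_centralizer_singleton_iff.2 h4.eq
    have hmem : (u : G) ∈ centralizer ({(z : G)} : Set G) :=
      mem_centralizer_singleton_iff.2 (congrArg Subtype.val hu)
    rw [hG] at hmem
    exact Subtype.ext (mem_centralizer_singleton_iff.1 hmem)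

end CfsgLib.TwoSizes
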