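import Mathlib.GroupTheory.SpecificGroups.Dihedral
import Mathlib.GroupTheory.SpecificGroups.Quaternion
import Mathlib.GroupTheory.IndexNormal
import Mathlib.GroupTheory.OrderOfElement
import Mathlib.GroupTheory.PGroup
import Mathlib.FieldTheory.Finite.Basic

/-!
# Automorphisms of two-groups with a unique cyclic subgroup of index two
-/

set_option autoImplicit false

namespace CfsgLib.CyclicTwoAut

open Subgroup

variable {T : Type*} [Group T]

/-- If `a` has order `2 ^ j ≥ 8`, generates a subgroup of index two and all other elements have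
order dividing four, the automorphism group is a two-group. -/
theorem isPGroup_mulAut [Finite T] {a : T} {j : ℕ} (hj : 3 ≤ j) (ha : orderOf a = 2 ^ j)
    (hi : (Subgroup.zpowers a).index = 2) (hout : ∀ x ∉ Subgroup.zpowers a, x ^ 4 = 1) :
    IsPGroup 2 (MulAut T) := by
  haveI : Finite (MulAut T) :=
    Finite.of_injective (fun f : MulAut T => (f : T → T)) DFunLike.coe_injective
  have hA : ∀ σ : MulAut T, σ a ∈ Subgroup.zpowers a := fun σ => by
    by_contra h
    have h1 := hout _ h
    rw [← map_pow, ← map_one σ] at h1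
    have h2 := orderOf_dvd_of_pow_eq_one (σ.injective h1)
    rw [ha] at h2
    have h3 := Nat.le_of_dvd (by norm_num) h2
    have h4 : 2 ^ 3 ≤ 2 ^ j := Nat.pow_le_pow_right (by norm_num) hj
    omega
  have hodd : ∀ (σ : MulAut T) (m : ℕ), Odd m → σ ^ m = 1 → σ = 1 := by
    intro σ m hm hσ
    obtain ⟨k, hk : a ^ k = σ a⟩ := (mem_powers_iff_mem_zpowers).2 (hA σ)
    have hit : ∀ n : ℕ, (σ ^ n) a = a ^ k ^ n := by
      intro n
      induction n with
      | zero => simp
      | succ n ih => rw [pow_succ', MulAut.mul_apply, ih, map_pow, ← hk, ← pow_mul, ← pow_succ']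
    have h1 : a ^ k ^ m = a ^ 1 := by rw [← hit, hσ, pow_one, MulAut.one_apply]
    rw [pow_eq_pow_iff_modEq, ha] at h1
    have hkc : (k : ZMod (2 ^ j)) ^ m = 1 := by
      have := (ZMod.natCast_eq_natCast_iff _ _ _).2 h1
      push_cast at this
      exact this
    obtain ⟨u, hu⟩ := (isUnit_pow_iff (by rintro rfl; exact absurd hm (by decide))).1
      (hkc ▸ isUnit_one : IsUnit ((k : ZMod (2 ^ j)) ^ m))
    have hu1 : u ^ m = 1 := Units.ext (by rw [Units.val_pow_eq_pow_val, hu, hkc, Units.val_one])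
    have hu2 : u ^ (2 ^ j).totient = 1 := ZMod.pow_totient u
    rw [Nat.totient_prime_pow Nat.prime_two (by omega : 0 < j)] at hu2
    have hu3 : u = 1 := by
      have hc : Nat.gcd m (2 ^ (j - 1) * (2 - 1)) = 1 := by
        simpa using Nat.Coprime.pow_right (j - 1) (Nat.coprime_two_right.2 hm)
      have h := pow_gcd_eq_one.2 ⟨hu1, hu2⟩
      rwa [hc, pow_one] at h
    have hσa : σ a = a := by
      rw [← hk]
      refine (pow_eq_pow_iff_modEq.2 ?_).trans (pow_one a)
      rw [ha]
      refine (ZMod.natCast_eq_natCast_iff _ _ _).1 ?_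
      rw [← hu, hu3, Units.val_one, Nat.cast_one]
    ext x
    show σ x = x
    have hfix : ∀ y ∈ Subgroup.zpowers a, σ y = y := fun y hy => by
      obtain ⟨i, rfl⟩ := Subgroup.mem_zpowers_iff.1 hy
      rw [map_zpow, hσa]
    by_cases hx : x ∈ Subgroup.zpowers a
    · exact hfix x hx
    · have h2 : σ x ∉ Subgroup.zpowers a := fun h => hx (σ.injective (hfix _ h) ▸ h)
      have hc : x⁻¹ * σ x ∈ Subgroup.zpowers a := by
        rw [Subgroup.mul_mem_iff_of_index_two hi, inv_mem_iff]
        exact iff_of_false hx h2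
      set c := x⁻¹ * σ x with hcd
      have hxc : σ x = x * c := by rw [hcd, mul_inv_cancel_left]
      have hitx : ∀ n : ℕ, (σ ^ n) x = x * c ^ n := by
        intro n
        induction n with
        | zero => simp
        | succ n ih =>
          rw [pow_succ', MulAut.mul_apply, ih, map_mul, map_pow, hxc, hfix c hc, pow_succ' c,
            mul_assoc]
      have hcm : c ^ m = 1 := by
        have := hitx m
        rwa [hσ, MulAut.one_apply, left_eq_mul] at this
      have hc2 : c ^ 2 ^ j = 1 := by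
        obtain ⟨i, hi'⟩ := Subgroup.mem_zpowers_iff.1 hc
        rw [← hi', ← zpow_natCast, ← zpow_mul, mul_comm, zpow_mul, zpow_natCast, ← ha,
          pow_orderOf_eq_one, one_zpow]
      have hc1 : c = 1 := by
        have hg : Nat.gcd m (2 ^ j) = 1 := Nat.Coprime.pow_right j (Nat.coprime_two_right.2 hm)
        have h := pow_gcd_eq_one.2 ⟨hcm, hc2⟩
        rwa [hg, pow_one] at h
      rw [hxc, hc1, mul_one]
  intro σ
  obtain ⟨s, m, hm, hsm⟩ := Nat.exists_eq_two_pow_mul_odd (orderOf_pos σ).ne'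
  exact ⟨s, hodd _ m hm (by rw [← pow_mul, ← hsm, pow_orderOf_eq_one])⟩

theorem isPGroup_mulAut_dihedral {j : ℕ} (hj : 3 ≤ j) :
    IsPGroup 2 (MulAut (DihedralGroup (2 ^ j))) := by
  haveI : NeZero (2 ^ j) := ⟨by positivity⟩
  have ho := DihedralGroup.orderOf_r_one (n := 2 ^ j)
  refine isPGroup_mulAut hj ho ?_ fun x hx => ?_
  · have h := (Subgroup.zpowers (DihedralGroup.r 1 : DihedralGroup (2 ^ j))).card_mul_index
    rw [Nat.card_zpowers, ho, DihedralGroup.nat_card, mul_comm 2] at h
    exact Nat.eq_of_mul_eq_mul_left (by positivity) h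
  · cases x with
    | r i => exact absurd (Subgroup.mem_zpowers_iff.2 ⟨(i.val : ℤ), by
        rw [zpow_natCast, DihedralGroup.r_one_pow, ZMod.natCast_zmod_val]⟩) hx
    | sr i => rw [show (4 : ℕ) = 2 * 2 from rfl, pow_mul, sq (DihedralGroup.sr i), DihedralGroup.sr_mul_self, one_pow]

theorem isPGroup_mulAut_quaternion {j : ℕ} (hj : 2 ≤ j) :
    IsPGroup 2 (MulAut (QuaternionGroup (2 ^ j))) := by
  haveI : NeZero (2 ^ j) := ⟨by positivity⟩
  have ho : orderOf (QuaternionGroup.a 1 : QuaternionGroup (2 ^ j)) = 2 ^ (j + 1) := by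
    rw [QuaternionGroup.orderOf_a_one, pow_succ']
  refine isPGroup_mulAut (by omega : 3 ≤ j + 1) ho ?_ fun x hx => ?_
  · have h := (Subgroup.zpowers (QuaternionGroup.a 1 : QuaternionGroup (2 ^ j))).card_mul_index
    rw [Nat.card_zpowers, ho, Nat.card_eq_fintype_card, QuaternionGroup.card,
      show 4 * 2 ^ j = 2 ^ (j + 1) * 2 by ring] at h
    exact Nat.eq_of_mul_eq_mul_left (by positivity) h
  · cases x with
    | a i => exact absurd (Subgroup.mem_zpowers_iff.2 ⟨(i.val : ℤ), by
        rw [zpow_natCast, QuaternionGroup.a_one_pow, ZMod.natCast_zmod_val]⟩) hx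
    | xa i => exact (QuaternionGroup.orderOf_xa i) ▸ pow_orderOf_eq_one _

end CfsgLib.CyclicTwoAut
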