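import Cfsg.Agent.Lib.Fusion.Sylow
import Cfsg.Prelude.Def_IsolatedElements
import Cfsg.Agent.Lib.Coprime.Action

/-!
# Isolated elements and elements centralized by local normalizers
-/

set_option autoImplicit false
set_option linter.style.haveILetI false

open Subgroup

namespace CfsgLib.Isolated

variable {G : Type*} [Group G] {p : ℕ}

theorem exists_mem_normalizer_inf {P T : Subgroup G} [Group.IsNilpotent P] (hTP : T ≤ P)
    (hne : ¬ P ≤ T) : ∃ x ∈ P, x ∈ normalizer (T : Set G) ∧ x ∉ T := by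
  have h : T.subgroupOf P ≠ ⊤ := fun e => hne (subgroupOf_eq_top.1 e)
  obtain ⟨x, hxN, hxT⟩ := SetLike.exists_of_lt
    (Group.normalizerCondition_of_isNilpotent _ h.lt_top)
  refine ⟨x, x.2, mem_normalizer_iff.2 fun y => ⟨fun hy => ?_, fun hy => ?_⟩, hxT⟩
  · exact (mem_normalizer_iff.1 hxN ⟨y, hTP hy⟩).1 hy
  · have hyP : y ∈ P := by
      have := mul_mem (mul_mem (inv_mem x.2) (hTP hy)) x.2
      rwa [show (x : G)⁻¹ * ((x : G) * y * (x : G)⁻¹) * (x : G) = y by group] at this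
    exact (mem_normalizer_iff.1 hxN ⟨y, hyP⟩).2 hy

/-- An isolated element is central in every `p`-subgroup containing it. -/
theorem le_centralizer [Finite G] [Fact p.Prime] {x : G} (hiso : Cfsg.IsIsolated x) {P : Subgroup G}
    (hP : IsPGroup p P) (hx : x ∈ P) : P ≤ centralizer ({x} : Set G) := by
  haveI := hP.isNilpotent
  by_contra hne
  obtain ⟨y, hyP, hyN, hy⟩ := exists_mem_normalizer_inf
    (inf_le_left : P ⊓ centralizer ({x} : Set G) ≤ P) fun h => hne (h.trans inf_le_right)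
  refine hy ⟨hyP, mem_centralizer_singleton_iff.2 ?_⟩
  have h1 := (mem_normalizer_iff.1 hyN x).1 ⟨hx, mem_centralizer_singleton_iff.2 rfl⟩
  have h2 := hiso y ((mem_centralizer_singleton_iff.1 h1.2)).symm
  exact mul_inv_eq_iff_eq_mul.1 h2

/-- Inside a `p`-subgroup an isolated `p`-element meets none of its other conjugates. -/
theorem conj_eq [Finite G] [Fact p.Prime] {x g : G} (hiso : Cfsg.IsIsolated x) {P : Subgroup G}
    (hP : IsPGroup p P) (hx : x ∈ P) (hg : g * x * g⁻¹ ∈ P) : g * x * g⁻¹ = x :=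
  hiso g (mem_centralizer_singleton_iff.1 (le_centralizer hiso hP hx hg)).symm

theorem isPGroup_zpowers [Fact p.Prime] {x : G} (hx : ∃ k : ℕ, orderOf x = p ^ k) :
    IsPGroup p (zpowers x) := by
  obtain ⟨k, hk⟩ := hx
  exact IsPGroup.of_card (by rw [Nat.card_zpowers, hk])

/-- Fusion of an isolated `p`-element inside a subgroup is trivial after an inner adjustment. -/
theorem exists_conj_fix [Finite G] [Fact p.Prime] {x g : G} (hx : ∃ k : ℕ, orderOf x = p ^ k)
    (hiso : Cfsg.IsIsolated x) {H : Subgroup G} (hxH : x ∈ H) (hgH : g * x * g⁻¹ ∈ H) :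
    ∃ h ∈ H, h * g * x = x * (h * g) := by
  have hzp := isPGroup_zpowers hx
  obtain ⟨T, hxT, hTH, hTp, hTi⟩ :=
    CfsgLib.Fusion.exists_le_not_dvd_relIndex hzp (zpowers_le.2 hxH)
  have hle : CfsgLib.Fusion.conjBy g (zpowers x) ≤ H := CfsgLib.Fusion.conjBy_le_iff.2 fun y hy => by
    obtain ⟨i, rfl⟩ := mem_zpowers_iff.1 hy
    rw [← conj_zpow]
    exact zpow_mem hgH i
  obtain ⟨h, hh, hhle⟩ := CfsgLib.Fusion.exists_conj_le_of_not_dvd_relIndex hTp hTH hTi
    (CfsgLib.Fusion.isPGroup_conjBy g hzp) hle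
  refine ⟨h, hh, ?_⟩
  have h1 : h * (g * x * g⁻¹) * h⁻¹ ∈ T :=
    hhle (CfsgLib.Fusion.conj_mem_conjBy (CfsgLib.Fusion.conj_mem_conjBy (mem_zpowers x)))
  have h2 := conj_eq hiso (g := h * g) hTp (hxT (mem_zpowers x))
    (by simpa [mul_assoc] using h1)
  exact mul_inv_eq_iff_eq_mul.1 h2

/-- An element `x` centralized by the normalizers of all nontrivial subgroups of `P` is not fused. -/
theorem conj_eq_of_locallyCentral [Finite G] [Fact p.Prime] (P : Sylow p G) {x : G}
    (hlc : ∀ R : Subgroup G, R ≤ (P : Subgroup G) → R ≠ ⊥ →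
      normalizer (R : Set G) ≤ centralizer ({x} : Set G))
    {g : G} (hg : (P : Subgroup G) ⊓ CfsgLib.Fusion.conjBy g (P : Subgroup G) ≠ ⊥) :
    g ∈ centralizer ({x} : Set G) := by
  induction hk : Nat.card G - Nat.card ↥((P : Subgroup G) ⊓ CfsgLib.Fusion.conjBy g (P : Subgroup G))
    using Nat.strong_induction_on generalizing g with
  | _ k ih =>
  set P' := CfsgLib.Fusion.conjBy g (P : Subgroup G) with hP'
  set D := (P : Subgroup G) ⊓ P' with hD
  have hPp : IsPGroup p (P : Subgroup G) := P.2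
  have hP'p : IsPGroup p P' := CfsgLib.Fusion.isPGroup_conjBy g hPp
  by_cases hPP : (P : Subgroup G) ≤ D
  · have he : P' = (P : Subgroup G) := (Subgroup.eq_of_le_of_card_ge (hPP.trans inf_le_right)
      (CfsgLib.Fusion.card_conjBy g _).le).symm
    exact hlc _ le_rfl (fun e => hg (le_bot_iff.1 (inf_le_left.trans_eq e)))
      (CfsgLib.Fusion.conjBy_eq_iff.1 he)
  haveI := hPp.isNilpotent
  haveI := hP'p.isNilpotent
  obtain ⟨a, haP, haN, haD⟩ := exists_mem_normalizer_inf (inf_le_left : D ≤ P) hPP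
  have hP'D : ¬ P' ≤ D := fun h => hPP (by
    have := Subgroup.eq_of_le_of_card_ge (h.trans inf_le_left) (CfsgLib.Fusion.card_conjBy g _).ge
    exact le_inf le_rfl this.ge)
  obtain ⟨b, hbP, hbN, hbD⟩ := exists_mem_normalizer_inf (inf_le_right : D ≤ P') hP'D
  set N := normalizer (D : Set G) with hN
  obtain ⟨T, hT1, hT2, hTp, hTi⟩ := CfsgLib.Fusion.exists_le_not_dvd_relIndex
    (hPp.to_le (inf_le_left : (P : Subgroup G) ⊓ N ≤ P)) inf_le_right
  obtain ⟨n, hn, hnle⟩ := CfsgLib.Fusion.exists_conj_le_of_not_dvd_relIndex hTp hT2 hTi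
    (hP'p.to_le (inf_le_left : P' ⊓ N ≤ P')) inf_le_right
  obtain ⟨S, hTS⟩ := hTp.exists_le_sylow
  obtain ⟨m, hm⟩ := MulAction.exists_smul_eq G P S
  have hmS : CfsgLib.Fusion.conjBy m (P : Subgroup G) = S := by rw [← hm]; rfl
  have hnC : n ∈ centralizer ({x} : Set G) := hlc D inf_le_left hg hn
  have hDN : D ≤ N := le_normalizer
  have big : ∀ {Y : Subgroup G} {c : G}, c ∉ D → c ∈ Y → D ≤ Y → Nat.card D < Nat.card Y :=
    fun hc hcY hle => by
      refine lt_of_not_ge fun hge => hc ?_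
      rw [Subgroup.eq_of_le_of_card_ge hle hge]; exact hcY
  have hDG : Nat.card D ≤ Nat.card G := Subgroup.card_le_card_group _
  have h1 : m ∈ centralizer ({x} : Set G) := by
    have hlt : Nat.card D < Nat.card ↥((P : Subgroup G) ⊓ CfsgLib.Fusion.conjBy m (P : Subgroup G)) :=
      big haD ⟨haP, hmS.ge (hTS (hT1 ⟨haP, haN⟩))⟩
        (le_inf inf_le_left ((le_inf inf_le_left hDN).trans ((hT1.trans hTS).trans hmS.ge)))
    have := Subgroup.card_le_card_group ((P : Subgroup G) ⊓ CfsgLib.Fusion.conjBy m (P : Subgroup G))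
    refine ih _ ?_ (fun e => ?_) rfl
    · omega
    · rw [e, Subgroup.card_bot] at hlt
      have := Nat.card_pos (α := D)
      omega
  have h2 : m⁻¹ * (n * g) ∈ centralizer ({x} : Set G) := by
    set Y := (P : Subgroup G) ⊓ CfsgLib.Fusion.conjBy (m⁻¹ * (n * g)) (P : Subgroup G) with hY
    have hsub : CfsgLib.Fusion.conjBy (m⁻¹ * n) (P' ⊓ N) ≤ Y := by
      refine le_inf ?_ ?_
      · rw [← CfsgLib.Fusion.conjBy_conjBy]
        have := CfsgLib.Fusion.conjBy_mono (g := m⁻¹) ((hnle.trans hTS).trans hmS.ge)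
        rwa [CfsgLib.Fusion.conjBy_inv_conjBy] at this
      · rw [← mul_assoc m⁻¹ n g, ← CfsgLib.Fusion.conjBy_conjBy (m⁻¹ * n) g]
        exact CfsgLib.Fusion.conjBy_mono inf_le_left
    have hlt : Nat.card D < Nat.card Y := by
      refine (big hbD (⟨hbP, hbN⟩ : b ∈ P' ⊓ N) (le_inf inf_le_right hDN)).trans_le ?_
      rw [← CfsgLib.Fusion.card_conjBy (m⁻¹ * n) (P' ⊓ N)]
      exact Subgroup.card_le_of_le hsub
    have := Subgroup.card_le_card_group Y
    rw [hY] at hlt this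
    refine ih _ ?_ (fun e => ?_) rfl
    · omega
    · rw [e, Subgroup.card_bot] at hlt
      have := Nat.card_pos (α := D)
      omega
  have h3 := mul_mem (inv_mem hnC) (mul_mem h1 h2)
  rwa [mul_inv_cancel_left, inv_mul_cancel_left] at h3

end CfsgLib.Isolated
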