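import Mathlib.Algebra.Module.ZMod
import Mathlib.FieldTheory.Finite.Basic
import Mathlib.LinearAlgebra.Dual.Lemmas
import Mathlib.RingTheory.AdjoinRoot
import Mathlib.RingTheory.Polynomial.Cyclotomic.Factorization

/-!
A fixed point free operator of prime order `q` on a finite vector space over `ZMod p`.
-/

set_option linter.style.haveILetI false

namespace CfsgLib.PGroup

open Polynomial

universe u

section
variable {F : Type*} [Field F] {V : Type u} [AddCommGroup V] [Module F V]

/-- The cyclic submodule generated by `u` under `T`. -/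
noncomputable def cyclicSub (T : Module.End F V) (u : V) : Submodule F V :=
  LinearMap.range ((LinearMap.applyₗ u).comp (aeval T).toLinearMap)

theorem mem_cyclicSub {T : Module.End F V} {u v : V} :
    v ∈ cyclicSub T u ↔ ∃ g : F[X], aeval T g u = v := by
  simp [cyclicSub]

theorem self_mem_cyclicSub (T : Module.End F V) (u : V) : u ∈ cyclicSub T u :=
  mem_cyclicSub.2 ⟨1, by simp⟩

theorem cyclicSub_le {T : Module.End F V} {u v : V} (h : v ∈ cyclicSub T u) :
    cyclicSub T v ≤ cyclicSub T u := by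
  intro w hw
  obtain ⟨g, rfl⟩ := mem_cyclicSub.1 hw
  obtain ⟨k, rfl⟩ := mem_cyclicSub.1 h
  exact mem_cyclicSub.2 ⟨g * k, by rw [map_mul]; rfl⟩

theorem exists_irreducible_factor_not_injective (T : Module.End F V) (g : F[X]) (hg : g ≠ 0)
    (hker : ∃ v, v ≠ 0 ∧ aeval T g v = 0) :
    ∃ f, Irreducible f ∧ f ∣ g ∧ ∃ v, v ≠ 0 ∧ aeval T f v = 0 := by
  induction g using WfDvdMonoid.induction_on_irreducible with
  | zero => exact absurd rfl hg
  | unit u hu =>
    obtain ⟨v, hv, hv0⟩ := hker
    obtain ⟨w, hw⟩ := isUnit_iff_exists_inv'.1 hu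
    refine absurd ?_ hv
    have : aeval T (w * u) v = v := by rw [hw, map_one]; rfl
    rw [map_mul, Module.End.mul_apply, hv0, map_zero] at this
    exact this.symm
  | mul a i ha hi ih =>
    obtain ⟨v, hv, hv0⟩ := hker
    rw [map_mul, Module.End.mul_apply] at hv0
    by_cases hia : aeval T a v = 0
    · obtain ⟨f, hf, hfd, hfk⟩ := ih ha ⟨v, hv, hia⟩
      exact ⟨f, hf, dvd_mul_of_dvd_right hfd _, hfk⟩
    · exact ⟨i, hi, dvd_mul_right _ _, _, hia, hv0⟩

/-- If all cyclic submodules have the same cardinality, the annihilating factor kills everything. -/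
theorem aeval_eq_zero_of_card_cyclicSub [Finite V] (T : Module.End F V)
    (hcard : ∀ u v : V, u ≠ 0 → v ≠ 0 → Nat.card (cyclicSub T u) = Nat.card (cyclicSub T v))
    {f : F[X]} {v : V} (hv : v ≠ 0) (hfv : aeval T f v = 0) : aeval T f = 0 := by
  have heq : ∀ u u' : V, u' ≠ 0 → u' ∈ cyclicSub T u → cyclicSub T u' = cyclicSub T u := by
    intro u u' hu' hmem
    have hu : u ≠ 0 := by
      rintro rfl
      obtain ⟨g, hg⟩ := mem_cyclicSub.1 hmem
      exact hu' (by rw [← hg, map_zero])
    refine SetLike.coe_injective (Set.eq_of_subset_of_ncard_le (cyclicSub_le hmem) ?_ (Set.toFinite _))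
    rw [← Nat.card_coe_set_eq, ← Nat.card_coe_set_eq]
    exact (hcard u u' hu hu').le
  have hkill : ∀ u, aeval T f u = 0 → ∀ w ∈ cyclicSub T u, aeval T f w = 0 := by
    intro u hu w hw
    obtain ⟨g, rfl⟩ := mem_cyclicSub.1 hw
    rw [← Module.End.mul_apply, ← map_mul, mul_comm, map_mul, Module.End.mul_apply, hu, map_zero]
  refine LinearMap.ext fun u => ?_
  show aeval T f u = 0
  by_contra hu
  have hu' : aeval T f u ∈ cyclicSub T u := mem_cyclicSub.2 ⟨f, rfl⟩
  have hz : aeval T f u ∈ cyclicSub T (u + v) := mem_cyclicSub.2 ⟨f, by rw [map_add, hfv, add_zero]⟩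
  have e1 := heq _ _ hu hu'
  have e2 := heq _ _ hu hz
  have hvu : v ∈ cyclicSub T u := by
    have : u + v ∈ cyclicSub T u := e1 ▸ e2.symm ▸ self_mem_cyclicSub T (u + v)
    simpa using Submodule.sub_mem _ this (self_mem_cyclicSub T u)
  exact hu (hkill v hfv u (heq _ _ hv hvu ▸ self_mem_cyclicSub T u))

theorem exists_linearEquiv_apply_eq {u w : V} (hu : u ≠ 0) (hw : w ≠ 0) :
    ∃ L : V ≃ₗ[F] V, L u = w := by
  by_cases h : ∃ c : F, c • u = w
  · obtain ⟨c, hc⟩ := h
    have hc0 : c ≠ 0 := fun h0 => hw (by rw [← hc, h0, zero_smul])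
    exact ⟨LinearEquiv.smulOfUnit (Units.mk0 c hc0), hc⟩
  push Not at h
  have hmem : u ∉ F ∙ (w - u) := by
    intro hm
    obtain ⟨c, hc⟩ := Submodule.mem_span_singleton.1 hm
    have hc0 : c ≠ 0 := fun h0 => hu (by rw [← hc, h0, zero_smul])
    exact h (c⁻¹ + 1) (by rw [add_smul, one_smul]; nth_rw 1 [← hc]; rw [inv_smul_smul₀ hc0, sub_add_cancel])
  obtain ⟨f, hfu, hf⟩ := Submodule.exists_dual_map_eq_bot_of_notMem hmem inferInstance
  have hfd : f (w - u) = 0 := by
    have : f (w - u) ∈ (F ∙ (w - u)).map f := Submodule.mem_map_of_mem (Submodule.mem_span_singleton_self _)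
    rwa [hf, Submodule.mem_bot] at this
  let g : V →ₗ[F] F := (f u)⁻¹ • f
  have hgu : g u = 1 := by simp [g, inv_mul_cancel₀ hfu]
  have hgd : g (w - u) = 0 := by simp only [g, LinearMap.smul_apply, hfd, smul_zero]
  refine ⟨{ toLinearMap := LinearMap.id + g.smulRight (w - u)
            invFun := fun v => v - g v • (w - u)
            left_inv := fun v => ?_
            right_inv := fun v => ?_ }, ?_⟩
  · simp [hgd]
  · simp [hgd]
  · simp [hgu]

end

variable {p q : ℕ} [hp : Fact p.Prime] [hq : Fact q.Prime] {V : Type u} [AddCommGroup V]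
  [Module (ZMod p) V] [Finite V]

variable (T : Module.End (ZMod p) V)

omit [Finite V] in
theorem pow_apply_fixed {v : V} (h : T v = v) (j : ℕ) : (T ^ j) v = v := by
  induction j with
  | zero => rfl
  | succ j ih => rw [pow_succ, Module.End.mul_apply, h, ih]

/-- A fixed point free operator of order `q` is killed by the cyclotomic polynomial. -/
theorem aeval_cyclotomic_eq_zero (hT : T ^ q = 1) (hfix : ∀ v, T v = v → v = 0) :
    aeval T (cyclotomic q (ZMod p)) = 0 := by
  have h := congrArg (aeval T) (cyclotomic_prime_mul_X_sub_one (ZMod p) q)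
  rw [mul_comm, map_mul, map_sub, map_sub, map_pow, aeval_X, map_one, hT, sub_self] at h
  refine LinearMap.ext fun v => ?_
  have h2 := LinearMap.congr_fun h v
  rw [Module.End.mul_apply, LinearMap.sub_apply, Module.End.one_apply, LinearMap.zero_apply, sub_eq_zero] at h2
  exact hfix _ h2

theorem orderOf_unit_cast (hqp : ¬ p ∣ q) :
    orderOf (ZMod.unitOfCoprime p (hp.1.coprime_iff_not_dvd.2 hqp)) = orderOf (p : ZMod q) := by
  rw [← orderOf_units]
  rfl

/-- If the powers of `T` are linked by bijections, `p` is primitive modulo `q`. -/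
theorem orderOf_eq_of_twists (hqp : p ≠ q) [Nontrivial V] (hT : T ^ q = 1)
    (hfix : ∀ v, T v = v → v = 0)
    (hcard : ∀ u v : V, u ≠ 0 → v ≠ 0 → Nat.card (cyclicSub T u) = Nat.card (cyclicSub T v))
    (htw : ∀ i ∈ Finset.Ico 1 q, ∃ a : V →+ V, Function.Surjective a ∧ ∀ v, a (T v) = (T ^ i) (a v)) :
    orderOf (p : ZMod q) = q - 1 := by
  classical
  have hnd : ¬ p ∣ q := fun h => hqp ((Nat.prime_dvd_prime_iff_eq hp.1 hq.1).1 h)
  obtain ⟨v0, hv0⟩ := exists_ne (0 : V)
  have hΦ := aeval_cyclotomic_eq_zero T hT hfix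
  obtain ⟨f, hf, hfd, v, hv, hfv⟩ := exists_irreducible_factor_not_injective T (cyclotomic q (ZMod p))
    (cyclotomic_ne_zero q _) ⟨v0, hv0, by rw [hΦ]; rfl⟩
  have hfT := aeval_eq_zero_of_card_cyclicSub T hcard hv hfv
  haveI : Fact (Irreducible f) := ⟨hf⟩
  let φ : AdjoinRoot f →+* Module.End (ZMod p) V :=
    Ideal.Quotient.lift (Ideal.span {f}) (aeval T).toRingHom fun g hg => by
      obtain ⟨c, rfl⟩ := Ideal.mem_span_singleton'.1 hg
      show aeval T (c * f) = 0
      rw [map_mul, hfT, mul_zero]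
  have hφmk : ∀ g : (ZMod p)[X], φ (AdjoinRoot.mk f g) = aeval T g := fun g => rfl
  have hφroot : φ (AdjoinRoot.root f) = T := (hφmk X).trans (aeval_X T)
  haveI : Nontrivial (Module.End (ZMod p) V) := ⟨⟨1, 0, fun h => hv0 (LinearMap.congr_fun h v0)⟩⟩
  have hφinj : Function.Injective φ := RingHom.injective φ
  have hsemi : ∀ (a : V →+ V) (i : ℕ), (∀ v, a (T v) = (T ^ i) (a v)) →
      ∀ (g : (ZMod p)[X]) (w : V), a (aeval T g w) = aeval (T ^ i) g (a w) := by
    intro a i hai g
    induction g using Polynomial.induction_on with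
    | C c =>
      intro w
      simp only [aeval_C, Module.algebraMap_end_apply]
      exact ZMod.map_smul a c w
    | add g k hg hk => intro w; simp only [map_add, LinearMap.add_apply, hg, hk]
    | monomial n c ih =>
      intro w
      have e : (C c * X ^ (n + 1) : (ZMod p)[X]) = C c * X ^ n * X := by rw [pow_succ, mul_assoc]
      rw [e, map_mul, map_mul (aeval (T ^ i)), Module.End.mul_apply, Module.End.mul_apply, aeval_X,
        aeval_X, ih, hai]
  have hroots : ∀ i ∈ Finset.Ico 1 q, aeval (AdjoinRoot.root f ^ i) f = 0 := by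
    intro i hi
    obtain ⟨a, ha, hai⟩ := htw i hi
    apply hφinj
    rw [map_zero]
    have e1 : φ (aeval (AdjoinRoot.root f ^ i) f) = aeval (T ^ i) f := by
      have e2 : ∀ g : (ZMod p)[X], φ (aeval (AdjoinRoot.root f ^ i) g) = aeval (T ^ i) g := by
        intro g
        rw [show AdjoinRoot.root f ^ i = AdjoinRoot.mk f (X ^ i) by rw [map_pow, AdjoinRoot.mk_X],
          show AdjoinRoot.mk f (X ^ i) = AdjoinRoot.mkₐ f (X ^ i) from rfl, aeval_algHom_apply,
          show AdjoinRoot.mkₐ f (aeval (X ^ i) g) = AdjoinRoot.mk f (g.comp (X ^ i)) from rfl, hφmk,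
          aeval_comp, map_pow, aeval_X]
      exact e2 f
    rw [e1]
    refine LinearMap.ext fun w => ?_
    obtain ⟨w', rfl⟩ := ha w
    rw [← hsemi a i hai f w', hfT]
    simp
  have hinj : Set.InjOn (fun i => AdjoinRoot.root f ^ i) (Finset.Ico 1 q : Set ℕ) := by
    have hord : orderOf (AdjoinRoot.root f) = q := by
      refine orderOf_eq_prime (hφinj ?_) fun h1 => ?_
      · rw [map_pow, hφroot, hT, map_one]
      · have hT1 : T = 1 := by rw [← hφroot, h1, map_one]
        exact hv0 (hfix v0 (by rw [hT1]; rfl))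
    intro i hi j hj hij
    simp only [Finset.coe_Ico, Set.mem_Ico] at hi hj
    exact pow_injOn_Iio_orderOf (by simpa [hord] using hi.2) (by simpa [hord] using hj.2) hij
  have hdeg : q - 1 ≤ f.natDegree := by
    have hsub : (Finset.Ico 1 q).image (fun i => AdjoinRoot.root f ^ i) ⊆
        ((f.map (algebraMap (ZMod p) (AdjoinRoot f))).roots).toFinset := by
      intro z hz
      obtain ⟨i, hi, rfl⟩ := Finset.mem_image.1 hz
      rw [Multiset.mem_toFinset, mem_roots (Polynomial.map_ne_zero hf.ne_zero), IsRoot.def, eval_map]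
      exact hroots i hi
    have h1 := Finset.card_le_card hsub
    rw [Finset.card_image_of_injOn hinj, Nat.card_Ico] at h1
    exact h1.trans ((Multiset.toFinset_card_le _).trans ((card_roots' _).trans natDegree_map_le))
  have hdeg2 : f.natDegree ≤ q - 1 := by
    have := natDegree_le_of_dvd hfd (cyclotomic_ne_zero q _)
    rwa [natDegree_cyclotomic, Nat.totient_prime hq.1] at this
  have hn : p.Coprime q := hp.1.coprime_iff_not_dvd.2 hnd
  have h3 := natDegree_of_dvd_cyclotomic_of_irreducible (K := ZMod p) (f := 1) (by simp) hn hfd hf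
  rw [le_antisymm hdeg2 hdeg] at h3
  rw [← orderOf_unit_cast hnd, h3]
  simp

/-- For `p` primitive modulo `q`: transitivity and the twists. -/
theorem exists_twist_of_orderOf_eq (hqp : p ≠ q) (hord : orderOf (p : ZMod q) = q - 1) (hT : T ^ q = 1)
    (hfix : ∀ v, T v = v → v = 0) {u w : V} (hu : u ≠ 0) (hw : w ≠ 0) {i : ℕ} (hi : ¬ q ∣ i) :
    (∃ a : V →+ V, Function.Bijective a ∧ a u = w ∧ ∀ v, a (T v) = T (a v)) ∧
    ∃ a : V →+ V, Function.Bijective a ∧ ∀ v, a (T v) = (T ^ i) (a v) := by
  have hnd : ¬ p ∣ q := fun h => hqp ((Nat.prime_dvd_prime_iff_eq hp.1 hq.1).1 h)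
  have hirr : Irreducible (cyclotomic q (ZMod p)) := by
    refine ZMod.irreducible_of_dvd_cyclotomic_of_natDegree hnd dvd_rfl ?_
    rw [natDegree_cyclotomic, Nat.totient_prime hq.1, orderOf_unit_cast hnd, hord]
  have hΦ := aeval_cyclotomic_eq_zero T hT hfix
  set f := cyclotomic q (ZMod p) with hfdef
  haveI : Fact (Irreducible f) := ⟨hirr⟩
  let φ : AdjoinRoot f →+* Module.End (ZMod p) V :=
    Ideal.Quotient.lift (Ideal.span {f}) (aeval T).toRingHom fun g hg => by
      obtain ⟨c, rfl⟩ := Ideal.mem_span_singleton'.1 hg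
      show aeval T (c * f) = 0
      rw [map_mul, hΦ, mul_zero]
  letI : Module (AdjoinRoot f) V := Module.compHom V φ
  have hsmul : ∀ v, AdjoinRoot.root f • v = T v := fun v =>
    LinearMap.congr_fun (show φ (AdjoinRoot.root f) = T from aeval_X T) v
  haveI : Module.Finite (AdjoinRoot f) V := Module.Finite.of_finite
  constructor
  · obtain ⟨L, hL⟩ := exists_linearEquiv_apply_eq (F := AdjoinRoot f) hu hw
    refine ⟨L.toLinearMap.toAddMonoidHom, L.bijective, hL, fun v => ?_⟩
    show L (T v) = T (L v)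
    rw [← hsmul, ← hsmul, map_smul]
  · have hz : AdjoinRoot.root f ≠ 1 := by
      intro h1
      refine hu (hfix u ?_)
      rw [← hsmul, h1, one_smul]
    have hzq : AdjoinRoot.root f ^ q = 1 := by
      have h := congrArg (AdjoinRoot.mk f) (cyclotomic_prime_mul_X_sub_one (ZMod p) q)
      rw [map_mul, ← hfdef, AdjoinRoot.mk_self, zero_mul, map_sub, map_pow, map_one, AdjoinRoot.mk_X] at h
      exact sub_eq_zero.1 h.symm
    have hroot : f.eval₂ (algebraMap (ZMod p) (AdjoinRoot f)) (AdjoinRoot.root f ^ i) = 0 := by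
      have h := congrArg (fun g => g.eval₂ (algebraMap (ZMod p) (AdjoinRoot f)) (AdjoinRoot.root f ^ i))
        (cyclotomic_prime_mul_X_sub_one (ZMod p) q)
      simp only [eval₂_mul, eval₂_sub, eval₂_X_pow, eval₂_one, eval₂_X, ← pow_mul] at h
      rw [mul_comm i q, pow_mul, hzq, one_pow, sub_self, ← hfdef] at h
      refine (mul_eq_zero.1 h).resolve_right fun h2 => ?_
      rw [sub_eq_zero, ← orderOf_dvd_iff_pow_eq_one, orderOf_eq_prime hzq hz] at h2
      exact hi h2
    let θ : AdjoinRoot f →+* AdjoinRoot f := AdjoinRoot.lift _ _ hroot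
    haveI : Finite (AdjoinRoot f) := by
      haveI := (cyclotomic.monic q (ZMod p)).finite_adjoinRoot
      exact Module.finite_of_finite (ZMod p)
    have hθ : Function.Bijective θ := ⟨θ.injective, Finite.injective_iff_surjective.1 θ.injective⟩
    let b := Module.Free.chooseBasis (AdjoinRoot f) V
    haveI : Fintype (Module.Free.ChooseBasisIndex (AdjoinRoot f) V) := inferInstance
    let a : V →+ V :=
      { toFun := fun v => b.equivFun.symm fun j => θ (b.equivFun v j)
        map_zero' := by
          simp only [map_zero, Pi.zero_apply]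
          exact map_zero b.equivFun.symm
        map_add' := fun x y => by
          simp only [map_add, Pi.add_apply]
          exact map_add b.equivFun.symm (fun j => θ (b.equivFun x j)) (fun j => θ (b.equivFun y j)) }
    refine ⟨a, ?_, fun v => ?_⟩
    · exact b.equivFun.symm.bijective.comp
        ((Function.Bijective.piMap (fun _ => hθ)).comp b.equivFun.bijective)
    · have hpow : ∀ (j : ℕ) (w : V), (T ^ j) w = AdjoinRoot.root f ^ j • w := by
        intro j w
        induction j with
        | zero => rw [pow_zero, pow_zero, one_smul]; rfl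
        | succ j ih => rw [pow_succ', pow_succ', mul_smul, Module.End.mul_apply, hsmul, ih]
      show b.equivFun.symm (fun j => θ (b.equivFun (T v) j)) = (T ^ i) (a v)
      rw [hpow, ← hsmul]
      show _ = AdjoinRoot.root f ^ i • b.equivFun.symm fun j => θ (b.equivFun v j)
      rw [← map_smul]
      congr 1
      funext j
      rw [map_smul, Pi.smul_apply, Pi.smul_apply, smul_eq_mul, smul_eq_mul, map_mul, AdjoinRoot.lift_root]

end CfsgLib.PGroup
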