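import Mathlib.GroupTheory.GroupAction.Jordan
import Mathlib.GroupTheory.SpecificGroups.Alternating
import Mathlib.GroupTheory.Sylow

/-!
Jordan's theorem for cycles of prime length with at least three fixed points, and a criterion for
primitivity.
-/

set_option linter.style.haveILetI false
set_option linter.unusedSectionVars false

namespace CfsgLib.PGroup

open Equiv MulAction
open scoped Pointwise

variable {α : Type*} [Fintype α] [DecidableEq α] {G : Subgroup (Perm α)}

/-- The commutator of two elements inducing transpositions on the fixed set gives a 3-cycle. -/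
theorem exists_threeCycle_of_three_fixed {p : ℕ} [Fact p.Prime] (z : Perm α) (hz : z ∈ G)
    (hzp : orderOf z = p) (N : ℕ) (hN : Nat.Coprime N 3)
    (hcent : ∀ c : Perm α, Commute c z → ∀ y ∈ z.support, (c ^ N) y = y)
    (hsyl : ¬ p ^ 2 ∣ Nat.card (fixingSubgroup G ((z.support : Set α)ᶜ)))
    (u v w : α) (hu : u ∉ z.support) (hv : v ∉ z.support) (hw : w ∉ z.support)
    (huv : u ≠ v) (huw : u ≠ w) (hvw : v ≠ w)
    (hswap : ∀ a b : α, a ∉ z.support → b ∉ z.support →
      ∃ g ∈ G, ∀ y ∉ z.support, g y = Equiv.swap a b y) :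
    ∃ t ∈ G, t.IsThreeCycle := by
  classical
  set F : Set α := (z.support : Set α)ᶜ with hF
  have hnot : ∀ {y : α}, y ∈ F ↔ y ∉ z.support := fun {y} => by simp [hF]
  -- normalising representatives
  have hrep : ∀ a b : α, a ∉ z.support → b ∉ z.support →
      ∃ g ∈ G, (∀ y ∉ z.support, g y = Equiv.swap a b y) ∧ ∃ i : ℤ, g * z * g⁻¹ = z ^ i := by
    intro a b ha hb
    obtain ⟨g, hg, hgF⟩ := hswap a b ha hb
    have hFg : ∀ y ∉ z.support, g y ∉ z.support := by
      intro y hy
      rw [hgF y hy]
      rcases eq_or_ne y a with rfl | hya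
      · rwa [Equiv.swap_apply_left]
      · rcases eq_or_ne y b with rfl | hyb
        · rwa [Equiv.swap_apply_right]
        · rwa [Equiv.swap_apply_of_ne_of_ne hya hyb]
    have hzfix : (⟨z, hz⟩ : G) ∈ fixingSubgroup G F := by
      rw [mem_fixingSubgroup_iff]
      intro y hy
      exact Perm.notMem_support.1 (hnot.1 hy)
    have hz'fix : (⟨g * z * g⁻¹, mul_mem (mul_mem hg hz) (inv_mem hg)⟩ : G) ∈
        fixingSubgroup G F := by
      rw [mem_fixingSubgroup_iff]
      intro y hy
      have hy' := hnot.1 hy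
      -- `g` permutes the fixed set
      obtain ⟨y0, hy0, rfl⟩ : ∃ y0, y0 ∉ z.support ∧ g y0 = y := by
        refine ⟨Equiv.swap a b y, ?_, ?_⟩
        · rcases eq_or_ne y a with rfl | hya
          · rwa [Equiv.swap_apply_left]
          · rcases eq_or_ne y b with rfl | hyb
            · rwa [Equiv.swap_apply_right]
            · rwa [Equiv.swap_apply_of_ne_of_ne hya hyb]
        · rw [hgF, Equiv.swap_apply_self]
          rcases eq_or_ne y a with rfl | hya
          · rwa [Equiv.swap_apply_left]
          · rcases eq_or_ne y b with rfl | hyb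
            · rwa [Equiv.swap_apply_right]
            · rwa [Equiv.swap_apply_of_ne_of_ne hya hyb]
      show (g * z * g⁻¹) (g y0) = g y0
      simp [Perm.notMem_support.1 hy0]
    set K := fixingSubgroup G F with hK
    set zK : K := ⟨⟨z, hz⟩, hzfix⟩
    set zK' : K := ⟨⟨g * z * g⁻¹, mul_mem (mul_mem hg hz) (inv_mem hg)⟩, hz'fix⟩
    have ho : ∀ k : K, orderOf ((k : G) : Perm α) = orderOf k := fun k => by
      rw [Subgroup.orderOf_coe, Subgroup.orderOf_coe]
    have h1 : orderOf zK = p := by rw [← ho]; exact hzp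
    have h2 : orderOf zK' = p := by
      rw [← ho]
      show orderOf (g * z * g⁻¹) = p
      rw [show g * z * g⁻¹ = MulAut.conj g z from rfl, MulEquiv.orderOf_eq, hzp]
    have hsy : ∀ k : K, orderOf k = p → ¬ p ∣ (Subgroup.zpowers k).index := by
      intro k hk hd
      apply hsyl
      rw [← Subgroup.card_mul_index (Subgroup.zpowers k), Nat.card_zpowers, hk, pow_two]
      exact Nat.mul_dvd_mul_left p hd
    let P : Sylow p K := (IsPGroup.of_card (n := 1)
      (by rw [Nat.card_zpowers, h1, pow_one])).toSylow (hsy zK h1)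
    let Q : Sylow p K := (IsPGroup.of_card (n := 1)
      (by rw [Nat.card_zpowers, h2, pow_one])).toSylow (hsy zK' h2)
    obtain ⟨h, hh⟩ := MulAction.exists_smul_eq K Q P
    have hmem : h * zK' * h⁻¹ ∈ (P : Subgroup K) := by
      rw [← hh, Sylow.coe_subgroup_smul]
      exact ⟨zK', Subgroup.mem_zpowers zK', rfl⟩
    obtain ⟨i, hi⟩ := Subgroup.mem_zpowers_iff.1 (show h * zK' * h⁻¹ ∈ Subgroup.zpowers zK from hmem)
    refine ⟨((h : G) : Perm α) * g, mul_mem (h : G).2 hg, fun y hy => ?_, i, ?_⟩
    · rw [Perm.mul_apply]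
      have := (mem_fixingSubgroup_iff G).1 h.2 (g y) (hnot.2 (hFg y hy))
      rw [← hgF y hy]
      exact this
    · have e := congrArg (fun k : K => ((k : G) : Perm α)) hi
      simp only [SubgroupClass.coe_zpow, Subgroup.coe_mul, Subgroup.coe_inv] at e
      rw [e, mul_inv_rev]
      show _ = _ * (g * z * g⁻¹) * _
      group
  obtain ⟨a, haG, haF, i, hai⟩ := hrep u v hu hv
  obtain ⟨b, hbG, hbF, j, hbj⟩ := hrep v w hv hw
  set c := (b * a)⁻¹ * (a * b) with hc
  have hcz : Commute c z := by
    have e1 : a * b * z * (a * b)⁻¹ = (z ^ j) ^ i := by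
      calc a * b * z * (a * b)⁻¹ = a * (b * z * b⁻¹) * a⁻¹ := by group
        _ = (a * z * a⁻¹) ^ j := by rw [hbj, conj_zpow]
        _ = (z ^ j) ^ i := by rw [hai, ← zpow_mul, ← zpow_mul, mul_comm]
    have e2 : b * a * z * (b * a)⁻¹ = (z ^ j) ^ i := by
      calc b * a * z * (b * a)⁻¹ = b * (a * z * a⁻¹) * b⁻¹ := by group
        _ = (b * z * b⁻¹) ^ i := by rw [hai, conj_zpow]
        _ = (z ^ j) ^ i := by rw [hbj]
    show c * z = z * c
    calc c * z = (b * a)⁻¹ * (a * b * z * (a * b)⁻¹) * (a * b) := by rw [hc]; group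
      _ = (b * a)⁻¹ * (b * a * z * (b * a)⁻¹) * (a * b) := by rw [e1, e2]
      _ = z * c := by rw [hc]; group
  set s := Equiv.swap u v with hs
  set t := Equiv.swap v w with ht
  have hpres : ∀ (a b : α), a ∉ z.support → b ∉ z.support → ∀ y ∉ z.support,
      Equiv.swap a b y ∉ z.support := by
    intro a b ha hb y hy
    rcases eq_or_ne y a with rfl | hya
    · rwa [Equiv.swap_apply_left]
    · rcases eq_or_ne y b with rfl | hyb
      · rwa [Equiv.swap_apply_right]
      · rwa [Equiv.swap_apply_of_ne_of_ne hya hyb]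
  have hcF : ∀ y ∉ z.support, c y = (s * t * (s * t)) y := by
    intro y hy
    have h1 : (a * b) y = (s * t) y := by
      rw [Perm.mul_apply, Perm.mul_apply, hbF y hy, haF _ (hpres v w hv hw y hy)]
    have hy2 : (t * (s * t)) y ∉ z.support :=
      hpres v w hv hw _ (hpres u v hu hv _ (hpres v w hv hw y hy))
    have hy3 : (s * t * (s * t)) y ∉ z.support :=
      hpres u v hu hv _ hy2
    have h2 : (b * a) ((s * t * (s * t)) y) = (s * t) y := by
      rw [Perm.mul_apply, haF _ hy3]
      have e : s ((s * t * (s * t)) y) = (t * (s * t)) y := by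
        simp [hs, Perm.mul_apply]
      rw [e, hbF _ hy2]
      simp [ht, Perm.mul_apply]
    rw [hc, Perm.mul_apply, h1, ← h2]
    simp
  have hfix : ∀ y ∈ z.support, (s * t * (s * t)) y = y := by
    intro y hy
    have : ∀ a b : α, a ∉ z.support → b ∉ z.support → Equiv.swap a b y = y := fun a b ha hb =>
      Equiv.swap_apply_of_ne_of_ne (fun h => ha (h ▸ hy)) (fun h => hb (h ▸ hy))
    simp only [Perm.mul_apply]
    rw [ht, hs, this v w hv hw, this u v hu hv, this v w hv hw, this u v hu hv]
  set τ := s * t * (s * t) with hτ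
  have hτF : ∀ (n : ℕ) y, y ∉ z.support → (c ^ n) y = (τ ^ n) y ∧ (τ ^ n) y ∉ z.support := by
    intro n
    induction n with
    | zero => intro y hy; simp [hy]
    | succ n ih =>
      intro y hy
      obtain ⟨h1, h2⟩ := ih y hy
      have e1 : (c ^ (n + 1)) y = (τ ^ (n + 1)) y := by
        rw [pow_succ' c, pow_succ' τ, Perm.mul_apply c (c ^ n), Perm.mul_apply τ (τ ^ n), h1]
        exact hcF _ h2
      refine ⟨e1, ?_⟩
      rw [pow_succ' τ, Perm.mul_apply τ (τ ^ n)]
      exact hpres u v hu hv _ (hpres v w hv hw _ (hpres u v hu hv _ (hpres v w hv hw _ h2)))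
  have hτfix : ∀ (n : ℕ) y, y ∈ z.support → (τ ^ n) y = y := fun n y hy =>
    Perm.pow_apply_eq_self_of_apply_eq_self (hfix y hy) n
  have hcN : c ^ N = τ ^ N := by
    ext y
    by_cases hy : y ∈ z.support
    · rw [hcent c hcz y hy, hτfix N y hy]
    · exact (hτF N y hy).1
  have h3 : τ.IsThreeCycle := by
    have h := (Perm.isThreeCycle_swap_mul_swap_same huv.symm hvw huw).isThreeCycle_sq
    rw [hτ, hs, ht, Equiv.swap_comm u v]
    exact h
  refine ⟨τ, ?_, h3⟩
  have hmem : τ ^ N ∈ G := by
    rw [← hcN]; exact pow_mem (mul_mem (inv_mem (mul_mem hbG haG)) (mul_mem haG hbG)) N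
  obtain ⟨m, hm⟩ := Nat.exists_mul_mod_eq_one_of_coprime hN (by norm_num)
  have : τ = (τ ^ N) ^ m := by
    rw [← pow_mul, ← pow_mod_orderOf, h3.orderOf, hm.2, pow_one]
  rw [this]
  exact pow_mem hmem m

theorem orderOf_of_isCycle {g : Perm α} {p : ℕ} (hg : g.IsCycle) (hc : g.support.card = p) :
    orderOf g = p := by
  rw [hg.orderOf, hc]

theorem zpow_apply_of_isCycle {g c : Perm α} (hg : g.IsCycle) (hc : Commute c g) {y : α}
    (hy : y ∈ g.support) : c y ∈ g.support := by
  rw [Perm.mem_support] at hy ⊢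
  intro h
  apply hy
  have : c (g y) = g (c y) := by
    rw [← Perm.mul_apply, hc.eq, Perm.mul_apply]
  rw [h] at this
  exact c.injective this

/-- A transitive group with a cycle of prime length more than half the degree is primitive. -/
theorem isPreprimitive_of_prime_cycle [IsPretransitive G α] {g : Perm α} (hg : g ∈ G)
    (hgc : g.IsCycle) {q : ℕ} (hq : q.Prime) (hgq : g.support.card = q)
    (hlt : Nat.card α < 2 * q) : IsPreprimitive G α := by
  obtain ⟨a, ha⟩ : ∃ a, a ∈ g.support := by
    rcases hgc with ⟨a, ha, -⟩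
    exact ⟨a, Perm.mem_support.2 ha⟩
  refine IsPreprimitive.of_isTrivialBlock_base a fun {B} haB hB => ?_
  set γ : G := ⟨g, hg⟩
  by_cases hfix : γ • B = B
  · right
    apply hB.eq_univ_of_card_lt
    have hsub : (g.support : Set α) ⊆ B := by
      intro y hy
      obtain ⟨i, rfl⟩ := hgc.exists_zpow_eq (Perm.mem_support.1 ha) (Perm.mem_support.1 hy)
      have hs : γ ^ i ∈ stabilizer G B := zpow_mem (mem_stabilizer_iff.2 hfix) i
      rw [← mem_stabilizer_iff.1 hs]
      exact ⟨a, haB, by simp [γ, Subgroup.smul_def]⟩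
    have := Set.ncard_le_ncard hsub
    rw [Set.ncard_coe_finset, hgq] at this
    omega
  · left
    apply hB.subsingleton_of_card_lt
    have hle : q ≤ (orbit G B).ncard := by
      have hinj : Function.Injective (fun i : Fin q => γ ^ (i : ℕ) • B) := by
        have hord : orderOf γ = q := by
          rw [← Subgroup.orderOf_coe, orderOf_of_isCycle hgc hgq]
        intro i j hij
        by_contra hne
        have key : ∀ n m : ℕ, n < m → m < q → γ ^ n • B ≠ γ ^ m • B := by
          intro n m hnm hm h
          obtain ⟨d, rfl⟩ := Nat.exists_eq_add_of_lt hnm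
          rw [add_assoc, pow_add, mul_smul, smul_left_cancel_iff] at h
          have hd : γ ^ (d + 1) ∈ stabilizer G B := mem_stabilizer_iff.2 h.symm
          apply hfix
          have hcop : Nat.Coprime (d + 1) q :=
            (Nat.coprime_comm.1 (hq.coprime_iff_not_dvd.2 (Nat.not_dvd_of_pos_of_lt (by omega) (by omega))))
          obtain ⟨m', hm'⟩ := Nat.exists_mul_mod_eq_one_of_coprime hcop hq.one_lt
          have : γ = (γ ^ (d + 1)) ^ m' := by
            rw [← pow_mul, ← pow_mod_orderOf, hord, hm'.2, pow_one]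
          rw [this]
          exact mem_stabilizer_iff.1 (pow_mem hd m')
        rcases Nat.lt_or_gt_of_ne (fun h => hne (Fin.ext h)) with h | h
        · exact key i j h j.2 hij
        · exact key j i h i.2 hij.symm
      have : Set.range (fun i : Fin q => γ ^ (i : ℕ) • B) ⊆ orbit G B := by
        rintro _ ⟨i, rfl⟩; exact mem_orbit _ _
      have h2 := Set.ncard_le_ncard this
      rwa [← Nat.card_coe_set_eq, Nat.card_range_of_injective hinj, Nat.card_fin] at h2
    omega

/-- A prime cycle with `k` fixed points in a primitive group: the group is `(k+1)`-transitive. -/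
theorem isMultiplyPretransitive_of_prime_cycle (hG : IsPreprimitive G α) {g : Perm α} (hg : g ∈ G)
    (hgc : g.IsCycle) {p k : ℕ} (hp : p.Prime) (hgp : g.support.card = p)
    (hk : 1 ≤ k) (hcard : Nat.card α = p + k) : IsMultiplyPretransitive G α (k + 1) := by
  obtain ⟨n, rfl⟩ := Nat.exists_eq_add_of_le' hk
  suffices IsMultiplyPreprimitive G α (n + 2) from IsMultiplyPreprimitive.isMultiplyPretransitive ..
  apply hG.isMultiplyPreprimitive (s := (g.supportᶜ : Set α))
  · apply Nat.add_left_cancel
    rw [Set.ncard_add_ncard_compl, Set.ncard_coe_finset, hgp, hcard]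
  · have := hp.two_le; omega
  have := Equiv.Perm.isPretransitive_of_isCycle_mem hgc hg
  apply IsPreprimitive.of_prime_card
  classical
  convert! hp
  rw [Nat.card_eq_fintype_card, Fintype.card_subtype, ← hgp]
  apply congr_arg
  ext x
  simp [SubMulAction.mem_ofFixingSubgroup_iff]

/-- In a highly transitive group the elements can induce transpositions on small sets. -/
theorem exists_swap_on {k : ℕ} [IsMultiplyPretransitive G α k] (S : Finset α) (hS : S.card = k)
    (a b : α) (ha : a ∈ S) (hb : b ∈ S) : ∃ g ∈ G, ∀ y ∈ S, g y = Equiv.swap a b y := by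
  let e : Fin k ↪ α := ((Finset.equivFinOfCardEq hS).symm.toEmbedding).trans (Function.Embedding.subtype _)
  obtain ⟨g, hg⟩ := exists_smul_eq G e (e.trans (Equiv.swap a b).toEmbedding)
  refine ⟨g, g.2, fun y hy => ?_⟩
  have := congrArg (fun f : Fin k ↪ α => f (Finset.equivFinOfCardEq hS ⟨y, hy⟩)) hg
  simpa [e, Subgroup.smul_def] using this

/-- Jordan: a primitive group containing a cycle of prime length with at least three fixed points
contains the alternating group. -/
theorem alternatingGroup_le_of_prime_cycle (hG : IsPreprimitive G α) {g : Perm α} (hg : g ∈ G)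
    (hgc : g.IsCycle) {p : ℕ} (hp : p.Prime) (hgp : g.support.card = p)
    (h3 : p + 3 ≤ Nat.card α) : alternatingGroup α ≤ G := by
  haveI : Fact p.Prime := ⟨hp⟩
  by_cases hp3 : p = 3
  · subst hp3
    exact Equiv.Perm.alternatingGroup_le_of_isPreprimitive_of_isThreeCycle_mem hG
      (card_support_eq_three_iff.1 hgp) hg
  obtain ⟨k, hk⟩ := Nat.exists_eq_add_of_le (show p ≤ Nat.card α by omega)
  haveI := isMultiplyPretransitive_of_prime_cycle hG hg hgc hp hgp (k := k) (by omega) hk
  haveI : IsMultiplyPretransitive G α k :=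
    isMultiplyPretransitive_of_le (G := G) (α := α) (m := k) (n := k + 1) (by omega)
      (by have := hp.two_le; omega)
  have hS : (g.supportᶜ).card = k := by
    rw [Finset.card_compl, hgp, ← Nat.card_eq_fintype_card, hk]; omega
  obtain ⟨u, hu, v, hv, w, hw, huv, huw, hvw⟩ := Finset.two_lt_card.1 (show 2 < (g.supportᶜ).card by omega)
  rw [Finset.mem_compl] at hu hv hw
  have hcent : ∀ c : Perm α, Commute c g → ∀ y ∈ g.support, (c ^ p) y = y := by
    intro c hc y hy
    obtain ⟨i, hi⟩ := hgc.exists_zpow_eq (Perm.mem_support.1 hy)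
      (Perm.mem_support.1 (zpow_apply_of_isCycle hgc hc hy))
    -- `c` agrees with `g ^ i` on the support
    have hagree : ∀ z ∈ g.support, c z = (g ^ i) z := by
      intro z hz
      obtain ⟨j, rfl⟩ := hgc.exists_zpow_eq (Perm.mem_support.1 hy) (Perm.mem_support.1 hz)
      rw [← Perm.mul_apply, (hc.zpow_right j).eq, Perm.mul_apply, ← hi, ← Perm.mul_apply,
        ← Perm.mul_apply, (Commute.zpow_zpow_self g j i).eq]
    have hpow : ∀ n : ℕ, (c ^ n) y = ((g ^ i) ^ n) y ∧ ((g ^ i) ^ n) y ∈ g.support := by
      intro n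
      induction n with
      | zero => simpa using hy
      | succ n ih =>
        rw [pow_succ' c, pow_succ' (g ^ i), Perm.mul_apply c (c ^ n), Perm.mul_apply (g ^ i) ((g ^ i) ^ n),
          ih.1, hagree _ ih.2]
        exact ⟨rfl, Perm.zpow_apply_mem_support.2 ih.2⟩
    rw [(hpow p).1, ← zpow_natCast (g ^ i) p, ← zpow_mul, mul_comm, zpow_mul, zpow_natCast]
    have : g ^ p = 1 := by rw [← orderOf_of_isCycle hgc hgp, pow_orderOf_eq_one]
    simp [this]
  have hsyl : ¬ p ^ 2 ∣ Nat.card (fixingSubgroup G ((g.support : Set α)ᶜ)) := by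
    intro hd
    have hcd : Nat.card (fixingSubgroup G ((g.support : Set α)ᶜ)) ∣ Nat.factorial p := by
      let f : fixingSubgroup G ((g.support : Set α)ᶜ) →*
          Perm (SubMulAction.ofFixingSubgroup G ((g.support : Set α)ᶜ)) := MulAction.toPermHom _ _
      have hf : Function.Injective f := by
        rw [injective_iff_map_eq_one]
        intro x hx
        apply Subtype.ext; apply Subtype.ext
        ext y
        show ((x : G) : Perm α) y = y
        by_cases hy : y ∈ g.support
        · have := congrArg (fun e : Perm (SubMulAction.ofFixingSubgroup G ((g.support : Set α)ᶜ)) =>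
            (e ⟨y, by simpa [SubMulAction.mem_ofFixingSubgroup_iff] using hy⟩ : α)) hx
          exact this
        · exact (mem_fixingSubgroup_iff G).1 x.2 y (by simpa using hy)
      classical
      refine dvd_trans (Subgroup.card_dvd_of_injective f hf) ?_
      rw [Nat.card_perm]
      refine (congrArg Nat.factorial ?_).dvd
      rw [Nat.card_eq_fintype_card, Fintype.card_subtype, ← hgp]
      apply congr_arg
      ext x
      simp [SubMulAction.mem_ofFixingSubgroup_iff]
    have h1 := hd.trans hcd
    rw [pow_two] at h1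
    obtain ⟨m, hm⟩ := Nat.exists_eq_succ_of_ne_zero hp.pos.ne'
    rw [show Nat.factorial p = p * Nat.factorial m by rw [hm, Nat.factorial_succ]] at h1
    have h2 := Nat.dvd_of_mul_dvd_mul_left hp.pos h1
    rw [hp.dvd_factorial] at h2
    omega
  obtain ⟨t, ht, ht3⟩ := exists_threeCycle_of_three_fixed (G := G) g hg
    (orderOf_of_isCycle hgc hgp) p ((Nat.coprime_primes hp Nat.prime_three).2 hp3) hcent hsyl u v w hu hv hw huv huw hvw
    (fun a b ha hb => by
      obtain ⟨x, hx, hx'⟩ := exists_swap_on (G := G) (g.supportᶜ) hS a b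
        (Finset.mem_compl.2 ha) (Finset.mem_compl.2 hb)
      exact ⟨x, hx, fun y hy => hx' y (Finset.mem_compl.2 hy)⟩)
  exact Equiv.Perm.alternatingGroup_le_of_isPreprimitive_of_isThreeCycle_mem hG ht3 ht

end CfsgLib.PGroup
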