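import Mathlib.NumberTheory.Bertrand
import Mathlib.Tactic.Linarith
import Mathlib.Tactic.IntervalCases

/-!
Three primes in `(n, 2n]` for large `n`, and two primes at distance at least four in the upper half
of `[1, m]`.
-/

namespace CfsgLib.PGroup

open Nat Finset

/-- A bound on the central binomial coefficient in terms of the primes in `(n, 2n]`. -/
theorem centralBinom_le_of_card (n : ℕ) (n_large : 2 < n) :
    centralBinom n ≤ (2 * n) ^ sqrt (2 * n) * 4 ^ (2 * n / 3) *
      (2 * n) ^ ((Finset.range (2 * n + 1)).filter fun p => p.Prime ∧ n < p).card := by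
  have n_pos : 0 < n := by omega
  let f x := x ^ n.centralBinom.factorization x
  let S := {p ∈ Finset.range (2 * n / 3 + 1) | Nat.Prime p}
  let T := (Finset.range (2 * n + 1)).filter fun p => p.Prime ∧ n < p
  have hdisj : Disjoint S T := by
    rw [Finset.disjoint_left]
    intro p hp hp'
    simp only [S, T, Finset.mem_filter, Finset.mem_range] at hp hp'
    omega
  have key : centralBinom n = (∏ p ∈ S, f p) * ∏ p ∈ T, f p := by
    rw [← Finset.prod_union hdisj]
    refine (Eq.trans ?_ n.prod_pow_factorization_centralBinom).symm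
    apply Finset.prod_subset
    · intro p hp
      simp only [S, T, Finset.mem_union, Finset.mem_filter, Finset.mem_range] at hp ⊢
      omega
    · intro x hx h2x
      simp only [S, T, Finset.mem_union, Finset.mem_filter, Finset.mem_range, not_or, not_and,
        not_lt] at h2x
      rw [Finset.mem_range] at hx
      by_cases hxp : x.Prime
      · have h1 : x ≤ n := h2x.2 hx hxp
        have h2 : 2 * n / 3 < x := by
          by_contra h
          exact h2x.1 (by omega) hxp
        show x ^ n.centralBinom.factorization x = 1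
        rw [factorization_centralBinom_of_two_mul_self_lt_three_mul n_large h1 (by omega),
          _root_.pow_zero]
      · show x ^ n.centralBinom.factorization x = 1
        rw [factorization_eq_zero_of_not_prime n.centralBinom hxp, _root_.pow_zero]
  rw [key]
  refine Nat.mul_le_mul ?_ ?_
  · rw [← Finset.prod_filter_mul_prod_filter_not S (· ≤ sqrt (2 * n))]
    refine Nat.mul_le_mul ?_ ?_
    · refine (Finset.prod_le_prod' fun p _ => (?_ : f p ≤ 2 * n)).trans ?_
      · exact pow_factorization_choose_le (mul_pos two_pos n_pos)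
      have : (Finset.Icc 1 (sqrt (2 * n))).card = sqrt (2 * n) := by rw [card_Icc, Nat.add_sub_cancel]
      rw [Finset.prod_const]
      refine pow_right_mono₀ (by omega) ((Finset.card_le_card fun x hx => ?_).trans this.le)
      obtain ⟨h1, h2⟩ := Finset.mem_filter.1 hx
      exact Finset.mem_Icc.mpr ⟨(Finset.mem_filter.1 h1).2.one_lt.le, h2⟩
    · refine le_trans ?_ (primorial_le_four_pow (2 * n / 3))
      refine (Finset.prod_le_prod' fun p hp => (?_ : f p ≤ p)).trans ?_
      · obtain ⟨h1, h2⟩ := Finset.mem_filter.1 hp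
        refine (pow_right_mono₀ (Finset.mem_filter.1 h1).2.one_lt.le ?_).trans (pow_one p).le
        exact Nat.factorization_choose_le_one (sqrt_lt'.mp <| not_le.1 h2)
      refine Finset.prod_le_prod_of_subset_of_one_le' (Finset.filter_subset _ _) ?_
      exact fun p hp _ => (Finset.mem_filter.1 hp).2.one_lt.le
  · refine (Finset.prod_le_prod' fun p _ => (?_ : f p ≤ 2 * n)).trans ?_
    · exact pow_factorization_choose_le (mul_pos two_pos n_pos)
    rw [Finset.prod_const]

/-- There are at least three primes in `(n, 2n]` for large `n`. -/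
theorem three_le_card_primes (n : ℕ) (hn : 32768 ≤ n) :
    3 ≤ ((Finset.range (2 * n + 1)).filter fun p => p.Prime ∧ n < p).card := by
  by_contra h
  have h4 : 4 ^ n < n * n.centralBinom := Nat.four_pow_lt_mul_centralBinom n (by omega)
  have hb := centralBinom_le_of_card n (by omega)
  set s := sqrt (2 * n) with hs
  set t := sqrt s with ht
  have hs1 : s * s ≤ 2 * n := Nat.sqrt_le _
  have hs2 : 2 * n < (s + 1) * (s + 1) := Nat.lt_succ_sqrt _
  have ht1 : t * t ≤ s := Nat.sqrt_le _
  have ht2 : s < (t + 1) * (t + 1) := Nat.lt_succ_sqrt _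
  have hs256 : 256 ≤ s := by rw [hs, Nat.le_sqrt]; omega
  have ht16 : 16 ≤ t := by rw [ht, Nat.le_sqrt]; omega
  have h2n : 2 * n ≤ 2 ^ (4 * t) := by
    have h1 : t + 1 ≤ 2 ^ t := Nat.lt_two_pow_self
    have h2 : s + 1 ≤ 2 ^ t * 2 ^ t := le_trans ht2 (Nat.mul_le_mul h1 h1)
    calc 2 * n ≤ (s + 1) * (s + 1) := hs2.le
      _ ≤ (2 ^ t * 2 ^ t) * (2 ^ t * 2 ^ t) := Nat.mul_le_mul h2 h2
      _ = 2 ^ (4 * t) := by rw [← pow_add, ← pow_add]; ring_nf
  have hexp : 12 * t * (s + 3) ≤ 2 * n := by
    have h1 : 12 * (s + 3) ≤ 16 * s := by omega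
    calc 12 * t * (s + 3) = t * (12 * (s + 3)) := by ring
      _ ≤ t * (16 * s) := Nat.mul_le_mul_left t h1
      _ ≤ t * (t * s) := Nat.mul_le_mul_left t (Nat.mul_le_mul_right s ht16)
      _ = t * t * s := by ring
      _ ≤ s * s := Nat.mul_le_mul_right s ht1
      _ ≤ 2 * n := hs1
  have hfin : n * n.centralBinom ≤ 4 ^ n := by
    have hk : ((Finset.range (2 * n + 1)).filter fun p => p.Prime ∧ n < p).card ≤ 2 := by omega
    calc n * n.centralBinom ≤ (2 * n) * ((2 * n) ^ s * 4 ^ (2 * n / 3) * (2 * n) ^ 2) := by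
          refine Nat.mul_le_mul (by omega) (hb.trans ?_)
          exact Nat.mul_le_mul_left _ (Nat.pow_le_pow_right (by omega) hk)
      _ = (2 * n) ^ (s + 3) * 4 ^ (2 * n / 3) := by ring
      _ ≤ (2 ^ (4 * t)) ^ (s + 3) * 4 ^ (2 * n / 3) :=
          Nat.mul_le_mul_right _ (Nat.pow_le_pow_left h2n _)
      _ ≤ 4 ^ (n - 2 * n / 3) * 4 ^ (2 * n / 3) := by
          refine Nat.mul_le_mul_right _ ?_
          rw [← pow_mul, show (4 : ℕ) ^ (n - 2 * n / 3) = 2 ^ (2 * (n - 2 * n / 3)) by
            rw [pow_mul]; norm_num]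
          apply Nat.pow_le_pow_right (by norm_num)
          have : 3 * (4 * t * (s + 3)) ≤ 2 * n := by linarith
          omega
      _ = 4 ^ n := by rw [← pow_add]; congr 1; omega
  omega

/-- Two primes at distance at least four in the upper half. -/
theorem exists_prime_pair (m : ℕ) (hm : 17 ≤ m) :
    ∃ p q : ℕ, p.Prime ∧ q.Prime ∧ m < 2 * p ∧ p + 4 ≤ q ∧ q ≤ m := by
  rcases Nat.lt_or_ge m 86806 with h | h
  · rcases (show m < 26 ∨ (23 ≤ m ∧ m < 38) ∨ (37 ≤ m ∧ m < 62) ∨ (61 ≤ m ∧ m < 106) ∨
        (103 ≤ m ∧ m < 194) ∨ (193 ≤ m ∧ m < 362) ∨ (359 ≤ m ∧ m < 706) ∨ (701 ≤ m ∧ m < 1382) ∨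
        (1381 ≤ m ∧ m < 2746) ∨ (2741 ≤ m ∧ m < 5462) ∨ (5449 ≤ m ∧ m < 10886) ∨
        (10883 ≤ m ∧ m < 21734) ∨ (21727 ≤ m ∧ m < 43426) ∨ (43411 ≤ m ∧ m < 86806) by omega) with
      h | h | h | h | h | h | h | h | h | h | h | h | h | h
    · exact ⟨13, 17, by norm_num, by norm_num, by omega, by norm_num, by omega⟩
    · exact ⟨19, 23, by norm_num, by norm_num, by omega, by norm_num, by omega⟩
    · exact ⟨31, 37, by norm_num, by norm_num, by omega, by norm_num, by omega⟩
    · exact ⟨53, 61, by norm_num, by norm_num, by omega, by norm_num, by omega⟩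
    · exact ⟨97, 103, by norm_num, by norm_num, by omega, by norm_num, by omega⟩
    · exact ⟨181, 193, by norm_num, by norm_num, by omega, by norm_num, by omega⟩
    · exact ⟨353, 359, by norm_num, by norm_num, by omega, by norm_num, by omega⟩
    · exact ⟨691, 701, by norm_num, by norm_num, by omega, by norm_num, by omega⟩
    · exact ⟨1373, 1381, by norm_num, by norm_num, by omega, by norm_num, by omega⟩
    · exact ⟨2731, 2741, by norm_num, by norm_num, by omega, by norm_num, by omega⟩
    · exact ⟨5443, 5449, by norm_num, by norm_num, by omega, by norm_num, by omega⟩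
    · exact ⟨10867, 10883, by norm_num, by norm_num, by omega, by norm_num, by omega⟩
    · exact ⟨21713, 21727, by norm_num, by norm_num, by omega, by norm_num, by omega⟩
    · exact ⟨43403, 43411, by norm_num, by norm_num, by omega, by norm_num, by omega⟩
  · obtain ⟨a, ha, b, hb, c, hc, hab, hac, hbc⟩ :=
      Finset.two_lt_card.1 (three_le_card_primes (m / 2) (by omega))
    simp only [Finset.mem_filter, Finset.mem_range] at ha hb hc
    have odd : ∀ x : ℕ, x.Prime → m / 2 < x → x % 2 = 1 := fun x hx hx' =>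
      Nat.odd_iff.1 (hx.odd_of_ne_two (by omega))
    have oa := odd a ha.2.1 ha.2.2
    have ob := odd b hb.2.1 hb.2.2
    have oc := odd c hc.2.1 hc.2.2
    rcases (show a + 4 ≤ b ∨ b + 4 ≤ a ∨ a + 4 ≤ c ∨ c + 4 ≤ a ∨ b + 4 ≤ c ∨ c + 4 ≤ b by omega) with
      h' | h' | h' | h' | h' | h'
    · exact ⟨a, b, ha.2.1, hb.2.1, by omega, h', by omega⟩
    · exact ⟨b, a, hb.2.1, ha.2.1, by omega, h', by omega⟩
    · exact ⟨a, c, ha.2.1, hc.2.1, by omega, h', by omega⟩
    · exact ⟨c, a, hc.2.1, ha.2.1, by omega, h', by omega⟩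
    · exact ⟨b, c, hb.2.1, hc.2.1, by omega, h', by omega⟩
    · exact ⟨c, b, hc.2.1, hb.2.1, by omega, h', by omega⟩

end CfsgLib.PGroup
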