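import Cfsg.Agent.Lib.PGroup.Basic
import Cfsg.Agent.Lib.PGroup.PiClasses
import Cfsg.Agent.Lib.Coprime.Fitting
import Cfsg.Agent.Lib.Char.Burnside
import Mathlib.GroupTheory.GroupAction.ConjAct

/-!
Class sizes as centralizer indices.
-/

set_option linter.style.haveILetI false

namespace CfsgLib.PGroup

open Subgroup

universe u

variable {G : Type u} [Group G]

theorem ncard_carrier_eq_index (x : G) :
    (ConjClasses.mk x).carrier.ncard = (centralizer ({x} : Set G)).index := by
  rw [← ConjAct.orbit_eq_carrier_conjClasses, ← MulAction.index_stabilizer]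
  rw [ConjAct.stabilizer_eq_centralizer]
  rfl

theorem centralizer_index_subgroup_dvd [Finite G] (N : Subgroup G) [N.Normal] (x : N) :
    (centralizer ({x} : Set N)).index ∣ (centralizer ({(x : G)} : Set G)).index := by
  have h : centralizer ({x} : Set N) = (centralizer ({(x : G)} : Set G)).subgroupOf N := by
    ext y
    rw [mem_subgroupOf, mem_centralizer_singleton_iff, mem_centralizer_singleton_iff, Subtype.ext_iff,
      coe_mul, coe_mul]
  rw [h]
  exact relIndex_dvd_index_normal_right _ N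

theorem centralizer_index_quotient_dvd (N : Subgroup G) [N.Normal] (x : G) :
    (centralizer ({(x : G ⧸ N)} : Set (G ⧸ N))).index ∣ (centralizer ({x} : Set G)).index := by
  refine (index_dvd_of_le ?_).trans (index_map_dvd _ (QuotientGroup.mk'_surjective N))
  rintro _ ⟨y, hy, rfl⟩
  rw [mem_centralizer_singleton_iff]
  exact congrArg (QuotientGroup.mk' N) (mem_centralizer_singleton_iff.1 hy)

/-- A `p'`-element of a quotient is the image of a `p'`-element. -/
theorem exists_coprime_lift [Finite G] (N : Subgroup G) [N.Normal] {p : ℕ} (hp : p.Prime) (g : G)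
    (hg : (orderOf (g : G ⧸ N)).Coprime p) : ∃ y : G, (orderOf y).Coprime p ∧ (y : G ⧸ N) = g := by
  obtain ⟨u, v, hc, huv, ⟨e, hue⟩, -, hv, -⟩ := exists_split g hp
  refine ⟨v, (hp.coprime_iff_not_dvd.2 hv).symm, ?_⟩
  have h1 : (u : G ⧸ N) * (v : G ⧸ N) = g := by rw [← QuotientGroup.mk_mul, huv]
  have hd2 : orderOf (u : G ⧸ N) ∣ orderOf (g : G ⧸ N) * orderOf v := by
    refine orderOf_dvd_of_pow_eq_one ?_
    have h2 : (g : G ⧸ N) ^ (orderOf (g : G ⧸ N) * orderOf v) = 1 := by
      rw [pow_mul, pow_orderOf_eq_one, one_pow]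
    rw [← h1, (show Commute (u : G ⧸ N) (v : G ⧸ N) from hc.map (QuotientGroup.mk' N)).mul_pow] at h2
    have h3 : (v : G ⧸ N) ^ (orderOf (g : G ⧸ N) * orderOf v) = 1 := by
      rw [mul_comm, pow_mul, ← QuotientGroup.mk_pow, pow_orderOf_eq_one, QuotientGroup.mk_one, one_pow]
    rw [h1, h3, mul_one] at h2
    exact h2
  have hu1 : (u : G ⧸ N) = 1 := orderOf_eq_one_iff.1 (Nat.eq_one_of_dvd_coprimes
    ((Nat.Coprime.pow_left e (hg.mul_left (hp.coprime_iff_not_dvd.2 hv).symm).symm))
    ((orderOf_map_dvd (QuotientGroup.mk' N) u).trans hue) hd2)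
  rw [← h1, hu1, one_mul]

/-- Every element of order prime to `p` has a class of `p`-power size. -/
def RegularClassesPrimePow (p : ℕ) (G : Type u) [Group G] : Prop :=
  ∀ x : G, (orderOf x).Coprime p → ∃ k : ℕ, (centralizer ({x} : Set G)).index = p ^ k

theorem RegularClassesPrimePow.subgroup [Finite G] {p : ℕ} (hp : p.Prime)
    (h : RegularClassesPrimePow p G) (N : Subgroup G) [N.Normal] : RegularClassesPrimePow p N := by
  intro x hx
  obtain ⟨k, hk⟩ := h x (by rwa [orderOf_coe])
  obtain ⟨j, -, hj⟩ := (Nat.dvd_prime_pow hp).1 (hk ▸ centralizer_index_subgroup_dvd N x)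
  exact ⟨j, hj⟩

theorem RegularClassesPrimePow.quotient [Finite G] {p : ℕ} (hp : p.Prime)
    (h : RegularClassesPrimePow p G) (N : Subgroup G) [N.Normal] : RegularClassesPrimePow p (G ⧸ N) := by
  intro x hx
  obtain ⟨g, rfl⟩ := QuotientGroup.mk_surjective x
  obtain ⟨y, hy, hyg⟩ := exists_coprime_lift N hp g hx
  obtain ⟨k, hk⟩ := h y hy
  obtain ⟨j, -, hj⟩ := (Nat.dvd_prime_pow hp).1 (hk ▸ centralizer_index_quotient_dvd N y)
  exact ⟨j, hyg ▸ hj⟩

theorem isSolvable_of_regularClassesPrimePow {p : ℕ} (hp : p.Prime) :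
    ∀ (G : Type u) [Group G] [Finite G], RegularClassesPrimePow p G → Group.IsSolvable G := by
  intro G
  induction hn : Nat.card G using Nat.strong_induction_on generalizing G with
  | _ n ih =>
    intro _ _ h
    subst hn
    by_cases hN : ∃ N : Subgroup G, N.Normal ∧ N ≠ ⊥ ∧ N ≠ ⊤
    · obtain ⟨N, hNn, hN1, hN2⟩ := hN
      haveI := hNn
      have e := card_eq_card_quotient_mul_card_subgroup N
      have hc1 : 1 < Nat.card N := (one_lt_card_iff_ne_bot N).2 hN1
      have hc2 : 1 < Nat.card (G ⧸ N) := by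
        rw [← index_eq_card]
        exact lt_of_le_of_ne N.index_ne_zero_of_finite.bot_lt (fun h1 => hN2 (index_eq_one.1 h1.symm))
      haveI := ih (Nat.card N) (by rw [e]; exact lt_mul_left (by omega) hc2) N rfl (h.subgroup hp N)
      haveI := ih (Nat.card (G ⧸ N)) (by rw [e]; exact lt_mul_right (by omega) hc1) (G ⧸ N) rfl
        (h.quotient hp N)
      exact Group.isSolvable_of_ker_le_range N.subtype (QuotientGroup.mk' N)
        (by rw [QuotientGroup.ker_mk', range_subtype])
    · push Not at hN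
      by_cases hG : IsPGroup p G
      · haveI := Fact.mk hp
        haveI := hG.isNilpotent
        infer_instance
      haveI : Nontrivial G := by
        by_contra hnt
        rw [not_nontrivial_iff_subsingleton] at hnt
        exact hG fun g => ⟨0, Subsingleton.elim _ _⟩
      haveI : IsSimpleGroup G := ⟨fun N hNn => or_iff_not_imp_left.2 (hN N hNn)⟩
      obtain ⟨g, hg⟩ : ∃ g : G, ∀ k, orderOf g ≠ p ^ k := by
        by_contra hc
        push Not at hc
        haveI := Fact.mk hp
        exact hG (IsPGroup.iff_orderOf.2 hc)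
      obtain ⟨q, hq, hqd, hqp⟩ : ∃ q, q.Prime ∧ q ∣ orderOf g ∧ q ≠ p := by
        by_contra hc
        push Not at hc
        exact hg _ (Nat.eq_prime_pow_of_unique_prime_dvd (orderOf_pos g).ne' fun {q} hq hd => hc q hq hd)
      have hx : orderOf (g ^ (orderOf g / q)) = q := orderOf_pow_orderOf_div (orderOf_pos g).ne' hqd
      obtain ⟨k, hk⟩ := h (g ^ (orderOf g / q)) (by rw [hx]; exact (Nat.coprime_primes hq hp).2 hqp)
      exact Group.isSolvable_of_comm (CfsgLib.Char.comm_of_class_prime_pow hp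
        (fun h1 => hq.ne_one (by rw [← hx, h1, orderOf_one])) hk)

/-- In a solvable group with `p`-power regular classes and `O_p = 1` all `p'`-elements lie in the
abelian group `O_{p'}`. -/
theorem regular_mem_pPrimeCore [Finite G] {p : ℕ} [hp : Fact p.Prime] [Group.IsSolvable G]
    (h : RegularClassesPrimePow p G) (hcore : Cfsg.pCore p G = ⊥) :
    IsMulCommutative (Cfsg.pPrimeCore p G) ∧
      ∀ y : G, (orderOf y).Coprime p → y ∈ Cfsg.pPrimeCore p G := by
  set F := Cfsg.pPrimeCore p G with hF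
  haveI : F.Characteristic := CfsgLib.Coprime.pPrimeCore_characteristic p
  have hco : (Nat.card F).Coprime p := CfsgLib.Coprime.pPrimeCore_coprime hp.1
  have hFc : ∀ y : G, (orderOf y).Coprime p → F ≤ centralizer ({y} : Set G) := by
    intro y hy
    obtain ⟨k, hk⟩ := h y hy
    obtain ⟨j, -, hj⟩ := (Nat.dvd_prime_pow hp.1).1 (hk ▸ relIndex_dvd_index_normal_right (centralizer {y}) F)
    have h1 : (centralizer ({y} : Set G)).relIndex F ∣ Nat.card F := index_dvd_card _
    rw [hj] at h1
    have : p ^ j = 1 := Nat.eq_one_of_dvd_coprimes (Nat.Coprime.pow_right j hco) h1 dvd_rfl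
    exact relIndex_eq_one.1 (hj.trans this)
  have hFab : IsMulCommutative F := ⟨⟨fun a b => Subtype.ext (mem_centralizer_singleton_iff.1
    (hFc b (hco.coprime_dvd_left (Subgroup.orderOf_dvd_natCard F b.2)) a.2))⟩⟩
  refine ⟨hFab, fun y hy => ?_⟩
  have hyc : y ∈ centralizer (F : Set G) := mem_centralizer_iff.2 fun f hf =>
    mem_centralizer_singleton_iff.1 (hFc y hy hf)
  by_contra hyF
  set C := centralizer (F : Set G) with hC
  haveI : C.Normal := inferInstance
  have hFC : F ≤ C := fun a ha => mem_centralizer_iff.2 fun f hf =>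
    congrArg Subtype.val (mul_comm' (⟨f, hf⟩ : F) ⟨a, ha⟩)
  haveI : (C.map (QuotientGroup.mk' F)).Normal := Normal.map inferInstance _ (QuotientGroup.mk'_surjective F)
  have hne : C.map (QuotientGroup.mk' F) ≠ ⊥ := fun hb => hyF (by
    have := (Subgroup.map_eq_bot_iff _).1 hb hyc
    rwa [QuotientGroup.ker_mk'] at this)
  obtain ⟨M, hMn, hM1, hMC, hmin⟩ := CfsgLib.Coprime.exists_minimal_normal_le hne
  haveI := hMn
  haveI : Group.IsSolvable M := inferInstance
  obtain ⟨hMab, -⟩ := CfsgLib.Coprime.minimal_normal_solvable hM1 hmin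
  haveI : IsMulCommutative M := ⟨⟨fun a b => Subtype.ext (hMab a a.2 b b.2)⟩⟩
  set L := M.comap (QuotientGroup.mk' F) with hL
  have hLC : L ≤ C := (comap_mono hMC).trans (by
    rw [comap_map_eq, QuotientGroup.ker_mk', sup_eq_left.2 hFC])
  let f : L →* M := ((QuotientGroup.mk' F).comp L.subtype).codRestrict M (fun a => a.2)
  haveI : Group.IsNilpotent L := by
    haveI : Group.IsNilpotent M :=
      (Group.isNilpotent_iff _).2 ⟨1, upperCentralSeries_one_eq_top_iff.2 inferInstance⟩
    refine Subgroup.isNilpotent_of_ker_le_center f ?_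
    intro a ha
    rw [mem_center_iff]
    intro b
    refine Subtype.ext ?_
    have haF : (a : G) ∈ F := (QuotientGroup.eq_one_iff (a : G)).1 (congrArg Subtype.val ha)
    exact (mem_centralizer_iff.1 (hLC b.2) a haF).symm
  have hfit : L ≤ F := by
    refine (CfsgLib.Coprime.le_fitting (N := L) inferInstance).trans ?_
    rw [CfsgLib.Coprime.fitting_eq_iSup_pCore]
    simp only [iSup_le_iff]
    intro r
    intros
    by_cases hr : (r : ℕ) = p
    · rw [hr, hcore]; exact bot_le
    · have hrp : (r : ℕ).Prime := by first | exact r.2 | exact Nat.prime_of_mem_primeFactors r.2 | assumption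
      haveI := Fact.mk hrp
      haveI := CfsgLib.Coprime.pCore_normal' (G := G) (r : ℕ)
      obtain ⟨n, hn⟩ := (CfsgLib.Coprime.pCore_isPGroup (G := G) (r : ℕ)).exists_card_eq
      exact CfsgLib.Coprime.le_pPrimeCore (hn ▸ Nat.Coprime.pow_left n ((Nat.coprime_primes hrp hp.1).2 hr))
  refine hM1 ?_
  rw [← map_comap_eq_self_of_surjective (QuotientGroup.mk'_surjective F) M, Subgroup.map_eq_bot_iff,
    QuotientGroup.ker_mk']
  exact hfit

/-- Wielandt for an abelian Hall `p'`-subgroup of `p`-power index. -/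
theorem exists_conj_mem_of_abelian_complement [Finite G] {p : ℕ} (hp : p.Prime) (H : Subgroup G)
    [IsMulCommutative H] {k : ℕ} (hk : H.index = p ^ k) :
    ∀ x : G, (orderOf x).Coprime p → ∀ C : Subgroup G, H ≤ C → x ∈ C → ∃ c ∈ C, c * x * c⁻¹ ∈ H := by
  intro x
  induction hn : orderOf x using Nat.strong_induction_on generalizing x with
  | _ n ih =>
    intro hx C hHC hxC
    subst hn
    by_cases h1 : orderOf x = 1
    · exact ⟨1, one_mem C, by rw [orderOf_eq_one_iff.1 h1]; simp⟩
    obtain ⟨q, hq, hqd⟩ := Nat.exists_prime_and_dvd h1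
    haveI := Fact.mk hq
    have hqp : q ≠ p := fun h => hp.ne_one (Nat.eq_one_of_dvd_coprimes hx (h ▸ hqd) dvd_rfl)
    obtain ⟨a, b, hab, habx, ⟨e, hae⟩, hbd, hbq, had⟩ := exists_split x hq
    have haC : a ∈ C := by
      obtain ⟨m, hm⟩ := exists_pow_eq_self_of_coprime (x := a)
        ((Nat.Coprime.coprime_dvd_left hae (Nat.Coprime.pow_left e (hq.coprime_iff_not_dvd.2 hbq))).symm)
      have : (x ^ orderOf b) = a ^ orderOf b := by
        rw [← habx, hab.mul_pow, pow_orderOf_eq_one, mul_one]
      rw [← hm, ← this]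
      exact pow_mem (pow_mem hxC _) _
    -- a Sylow subgroup of `H` is one of `C`
    let Q : Sylow q H := Classical.arbitrary _
    have hQC : (Q : Subgroup H).map H.subtype ≤ C := (map_subtype_le _).trans hHC
    have hidx : ¬ q ∣ (((Q : Subgroup H).map H.subtype).subgroupOf C).index := by
      intro hd
      have hd2 : q ∣ ((Q : Subgroup H).map H.subtype).index := hd.trans (relIndex_dvd_index_of_le hQC)
      rw [index_map_subtype, hk] at hd2
      rcases hq.dvd_mul.1 hd2 with h2 | h2
      · exact Q.not_dvd_index h2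
      · exact hqp ((Nat.prime_dvd_prime_iff_eq hq hp).1 (hq.dvd_of_dvd_pow h2))
    have hQp : IsPGroup q (((Q : Subgroup H).map H.subtype).subgroupOf C) :=
      (Q.2.map H.subtype).comap_of_injective C.subtype C.subtype_injective
    obtain ⟨j, -, hj⟩ := (Nat.dvd_prime_pow hq).1 hae
    have haz : IsPGroup q (zpowers (⟨a, haC⟩ : C)) :=
      IsPGroup.of_card (by rw [Nat.card_zpowers, Subgroup.orderOf_mk, hj])
    obtain ⟨S, hS⟩ := haz.exists_le_sylow
    obtain ⟨c, hc⟩ := MulAction.exists_smul_eq C S (hQp.toSylow hidx)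
    have hca : (c : G) * a * (c : G)⁻¹ ∈ H := by
      have h2 := Subgroup.smul_mem_pointwise_smul _ (MulAut.conj c) _ (hS (mem_zpowers _))
      rw [← Sylow.coe_subgroup_smul] at h2
      have h3 : (MulAut.conj c • (⟨a, haC⟩ : C) : C) ∈ ((Q : Subgroup H).map H.subtype).subgroupOf C := by
        have hco : ((c • S : Sylow q C) : Subgroup C) = ((Q : Subgroup H).map H.subtype).subgroupOf C := by
          rw [hc]; rfl
        rw [← hco]; exact h2
      exact map_subtype_le _ h3
    set a' := (c : G) * a * (c : G)⁻¹ with ha'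
    set b' := (c : G) * b * (c : G)⁻¹ with hb'
    have hlt : orderOf b' < orderOf x := by
      rw [hb', ← MulAut.conj_apply, MulEquiv.orderOf_eq]
      exact lt_of_le_of_ne (Nat.le_of_dvd (orderOf_pos x) hbd) fun h2 => hbq (h2 ▸ hqd)
    have hbC : b ∈ C := by
      rw [show b = a⁻¹ * x by rw [← habx, inv_mul_cancel_left]]
      exact mul_mem (inv_mem haC) hxC
    obtain ⟨d, hd, hdH⟩ := ih _ hlt b' rfl
      (by rw [hb', ← MulAut.conj_apply, MulEquiv.orderOf_eq]; exact hx.coprime_dvd_left hbd)
      (C ⊓ centralizer ({a'} : Set G))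
      (le_inf hHC fun w hw => mem_centralizer_singleton_iff.2
        (congrArg Subtype.val (mul_comm' (⟨w, hw⟩ : H) ⟨a', hca⟩)))
      (mem_inf.2 ⟨C.mul_mem (C.mul_mem c.2 hbC) (C.inv_mem c.2), mem_centralizer_singleton_iff.2 (by
        show b' * a' = a' * b'
        rw [ha', hb', show (c : G) * b * (c : G)⁻¹ * ((c : G) * a * (c : G)⁻¹) = c * (b * a) * (c : G)⁻¹ by group,
          show (c : G) * a * (c : G)⁻¹ * ((c : G) * b * (c : G)⁻¹) = c * (a * b) * (c : G)⁻¹ by group, hab.eq])⟩)
    refine ⟨d * (c : G), mul_mem hd.1 c.2, ?_⟩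
    rw [show d * (c : G) * x * (d * (c : G))⁻¹ = d * a' * d⁻¹ * (d * b' * d⁻¹) by rw [← habx, ha', hb']; group,
      mul_inv_eq_iff_eq_mul.2 (mem_centralizer_singleton_iff.1 hd.2)]
    exact mul_mem hca hdH

end CfsgLib.PGroup
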