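import Cfsg.Agent.Lib.PGroup.ShortTools
import Mathlib.GroupTheory.Perm.Cycle.Type
import Mathlib.Data.Nat.Factorization.Basic

/-!
# The theorems of Frobenius and P. Hall on the number of solutions of `x ^ n ∈ C`
-/

set_option autoImplicit false
set_option linter.style.haveILetI false
set_option linter.unusedSectionVars false

namespace CfsgLib.PGroup

open Subgroup

section

variable {G : Type*} [Group G] [Finite G]

theorem card_sigma_pow_conj (c : G) (n : ℕ) :
    Nat.card {x : G // IsConj c (x ^ n)} =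
      Nat.card {y : G // IsConj c y} * Nat.card {x : G // x ^ n = c} := by
  classical
  have e : {x : G // IsConj c (x ^ n)} ≃ Σ y : {y : G // IsConj c y}, {x : G // x ^ n = y.1} :=
    { toFun := fun x => ⟨⟨x.1 ^ n, x.2⟩, ⟨x.1, rfl⟩⟩
      invFun := fun s => ⟨s.2.1, by rw [s.2.2]; exact s.1.2⟩
      left_inv := fun _ => rfl
      right_inv := by rintro ⟨⟨y, hy⟩, ⟨x, hx : x ^ n = y⟩⟩; subst hx; rfl }
  haveI := Fintype.ofFinite {y : G // IsConj c y}
  haveI := Fintype.ofFinite G
  rw [Nat.card_congr e, Nat.card_sigma]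
  have h : ∀ y : {y : G // IsConj c y},
      Nat.card {x : G // x ^ n = y.1} = Nat.card {x : G // x ^ n = c} := fun y => by
    obtain ⟨a, ha⟩ := isConj_iff.1 y.2
    refine (Nat.card_congr ((MulAut.conj a).toEquiv.subtypeEquiv fun x => ?_)).symm
    rw [MulEquiv.toEquiv_eq_coe, MulEquiv.coe_toEquiv, ← map_pow, ← ha, ← MulAut.conj_apply,
      (MulAut.conj a).injective.eq_iff]
  rw [Finset.sum_congr rfl fun y _ => h y, Finset.sum_const, smul_eq_mul, Finset.card_univ,
    ← Nat.card_eq_fintype_card]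

/-- Summing over the classes contained in a set closed under conjugation. -/
theorem dvd_card_pow_mem_of_closed (P : G → Prop) (n d : ℕ)
    (hP : ∀ g y, P y → P (g * y * g⁻¹))
    (h : ∀ y, P y → d ∣ Nat.card {x : G // IsConj y (x ^ n)}) :
    d ∣ Nat.card {x : G // P (x ^ n)} := by
  classical
  haveI := Fintype.ofFinite (ConjClasses G)
  rw [← Nat.card_congr (Equiv.sigmaFiberEquiv fun x : {x : G // P (x ^ n)} =>
    ConjClasses.mk (x.1 ^ n)), Nat.card_sigma]
  refine Finset.dvd_sum fun K _ => ?_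
  by_cases hK : Nonempty {x : {x : G // P (x ^ n)} // ConjClasses.mk (x.1 ^ n) = K}
  · obtain ⟨⟨⟨x0, hx0⟩, hK0⟩⟩ := hK
    have hc : ∀ z, IsConj (x0 ^ n) z → P z := fun z hz => by
      obtain ⟨g, rfl⟩ := isConj_iff.1 hz
      exact hP g _ hx0
    have h1 := h _ hx0
    refine h1.trans (dvd_of_eq ?_)
    exact Nat.card_congr
      (α := {x : G // IsConj (x0 ^ n) (x ^ n)})
      (β := {x : {x : G // P (x ^ n)} // ConjClasses.mk (x.1 ^ n) = K})
      { invFun := fun x => ⟨x.1.1, (ConjClasses.mk_eq_mk_iff_isConj.1 (x.2.trans hK0.symm)).symm⟩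
        toFun := fun x => ⟨⟨x.1, hc _ x.2⟩,
          (ConjClasses.mk_eq_mk_iff_isConj.2 x.2.symm).trans hK0⟩
        left_inv := fun _ => rfl
        right_inv := fun _ => rfl }
  · haveI := not_nonempty_iff.1 hK
    simp

theorem isConj_iff_eq_of_central {c : G} (hc : ∀ g, g * c = c * g) (y : G) :
    IsConj c y ↔ y = c := by
  refine ⟨fun h => ?_, fun h => h ▸ IsConj.refl _⟩
  obtain ⟨g, rfl⟩ := isConj_iff.1 h
  rw [hc, mul_inv_cancel_right]

/-- If `p` divides the order of `c`, the `p ^ e`-th roots of `c` come in sets of size `p ^ e`. -/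
theorem pow_dvd_card_roots {p : ℕ} (hp : p.Prime) (e : ℕ) (c : G) (hdvd : p ∣ orderOf c) :
    p ^ e ∣ Nat.card {x : G // x ^ p ^ e = c} := by
  classical
  set n := p ^ e with hn
  set d := orderOf c with hd
  have hdpos : 0 < d := orderOf_pos c
  have hn0 : 0 < n := Nat.pow_pos hp.pos
  have hord : ∀ x : G, x ^ n = c → orderOf x = n * d := by
    intro x hx
    have hdiv : d = orderOf x / (orderOf x).gcd n := by rw [hd, ← hx, orderOf_pow]
    obtain ⟨f, hfe, hg⟩ := (Nat.dvd_prime_pow hp).1 (Nat.gcd_dvd_right (orderOf x) n)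
    rcases hfe.eq_or_lt with rfl | hlt
    · rw [← hn] at hg
      have h1 : n ∣ orderOf x := hg ▸ Nat.gcd_dvd_left _ _
      rw [hdiv, hg, Nat.mul_div_cancel' h1]
    · exfalso
      have h1 : p ^ f ∣ orderOf x := hg ▸ Nat.gcd_dvd_left _ _
      have h2 : p ^ f * p ∣ orderOf x := by
        rw [hdiv, hg] at hdvd
        exact Nat.mul_dvd_of_dvd_div h1 hdvd
      have h3 : p ^ (f + 1) ∣ (orderOf x).gcd n :=
        Nat.dvd_gcd (by rw [pow_succ]; exact h2) (pow_dvd_pow p hlt)
      rw [hg] at h3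
      exact absurd ((Nat.pow_dvd_pow_iff_le_right hp.one_lt).1 h3) (by omega)
  haveI := Fintype.ofFinite (Subgroup G)
  rw [← Nat.card_congr (Equiv.sigmaFiberEquiv fun x : {x : G // x ^ n = c} => zpowers x.1),
    Nat.card_sigma]
  refine Finset.dvd_sum fun K _ => ?_
  by_cases hK : Nonempty {x : {x : G // x ^ n = c} // zpowers x.1 = K}
  · obtain ⟨⟨⟨x0, hx0⟩, hK0⟩⟩ := hK
    have ho := hord x0 hx0
    have hgen : ∀ t : ℕ, (x0 ^ (1 + t * d)) ^ n = c := fun t => by
      rw [← pow_mul, mul_comm, pow_mul, hx0, pow_add, pow_one, mul_comm t, pow_mul,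
        pow_orderOf_eq_one, one_pow, mul_one]
    have hz : ∀ t : ℕ, zpowers (x0 ^ (1 + t * d)) = K := fun t => by
      rw [← hK0]
      refine Subgroup.eq_of_le_of_card_ge (zpowers_le.2 (pow_mem (mem_zpowers x0) _)) ?_
      rw [Nat.card_zpowers, Nat.card_zpowers, hord _ (hgen t), ho]
    let f : Fin n → {x : {x : G // x ^ n = c} // zpowers x.1 = K} :=
      fun t => ⟨⟨x0 ^ (1 + (t : ℕ) * d), hgen t⟩, hz t⟩
    have hf : Function.Bijective f := by
      constructor
      · intro s t hst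
        have h1 : x0 ^ (1 + (s : ℕ) * d) = x0 ^ (1 + (t : ℕ) * d) :=
          congrArg (fun x : {x : {x : G // x ^ n = c} // zpowers x.1 = K} => x.1.1) hst
        rw [pow_eq_pow_iff_modEq, ho] at h1
        have h2 := Nat.ModEq.mul_right_cancel' hdpos.ne' (Nat.ModEq.add_left_cancel' 1 h1)
        exact Fin.ext (Nat.ModEq.eq_of_lt_of_lt h2 s.2 t.2)
      · rintro ⟨⟨y, hy⟩, hyK⟩
        have hmem : y ∈ zpowers x0 := by
          rw [show zpowers x0 = zpowers y from hK0.trans hyK.symm]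
          exact mem_zpowers y
        obtain ⟨j, rfl⟩ := (mem_powers_iff_mem_zpowers).2 hmem
        have hj : j ≡ 1 [MOD d] := by
          rw [← pow_eq_pow_iff_modEq, pow_one]
          conv_rhs => rw [← hy, ← pow_mul, mul_comm, pow_mul, hx0]
        obtain ⟨t, ht⟩ : ∃ t, j + d = 1 + t * d := by
          have h1 : 1 ≤ j + d := by omega
          have h2 : 1 ≡ j + d [MOD d] := hj.symm.trans (Nat.ModEq.symm (by simp [Nat.ModEq]))
          obtain ⟨t, ht⟩ := (Nat.modEq_iff_dvd' h1).1 h2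
          exact ⟨t, by rw [mul_comm t, ← ht]; omega⟩
        have hkey : ∃ t : ℕ, x0 ^ j = x0 ^ (1 + t * d) := by
          refine ⟨t + (n - 1), ?_⟩
          rw [pow_eq_pow_iff_modEq, ho]
          have h3 : 1 + (t + (n - 1)) * d = j + n * d := by
            have h4 : n * d = (n - 1) * d + d := by
              rw [Nat.sub_mul, one_mul, Nat.sub_add_cancel (Nat.le_mul_of_pos_left d hn0)]
            rw [add_mul]; omega
          rw [h3]
          simp [Nat.ModEq]
        obtain ⟨t', ht'⟩ := hkey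
        refine ⟨⟨t' % n, Nat.mod_lt _ hn0⟩, ?_⟩
        refine Subtype.ext (Subtype.ext ?_)
        show x0 ^ (1 + t' % n * d) = x0 ^ j
        rw [ht', pow_eq_pow_iff_modEq, ho]
        exact Nat.ModEq.add_left 1 ((Nat.mod_modEq t' n).mul_right' d)
    rw [← Nat.card_congr (Equiv.ofBijective f hf), Nat.card_fin]
  · haveI := not_nonempty_iff.1 hK
    simp

end

theorem hall_card_roots_aux : ∀ (k : ℕ) (G : Type*) [Group G] [Finite G], Nat.card G = k →
    ∀ (n : ℕ) (c : G),
      Nat.gcd (Nat.card {y : G // IsConj c y} * n) (Nat.card G) ∣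
        Nat.card {x : G // IsConj c (x ^ n)} := by
  intro k
  induction k using Nat.strong_induction_on with
  | _ k ihG =>
  intro G _ _ hk
  have hnc : ∀ (n : ℕ) (c : G), centralizer ({c} : Set G) ≠ ⊤ →
      Nat.gcd (Nat.card {y : G // IsConj c y} * n) (Nat.card G) ∣
        Nat.card {x : G // IsConj c (x ^ n)} := by
    intro n c hc
    rw [card_sigma_pow_conj, card_setOf_isConj]
    set H := centralizer ({c} : Set G) with hH
    have hlt : Nat.card H < k := hk ▸ (Subgroup.card_le_card_group H).lt_of_ne fun h =>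
      hc (H.eq_top_of_card_eq h)
    have hcH : c ∈ H := mem_centralizer_singleton_iff.2 rfl
    have hcen : ∀ g : H, g * ⟨c, hcH⟩ = ⟨c, hcH⟩ * g := fun g =>
      Subtype.ext (mem_centralizer_singleton_iff.1 g.2)
    have ih := ihG _ hlt H rfl n ⟨c, hcH⟩
    simp only [isConj_iff_eq_of_central hcen] at ih
    rw [Nat.card_unique, one_mul] at ih
    have he : Nat.card {x : H // x ^ n = ⟨c, hcH⟩} = Nat.card {x : G // x ^ n = c} :=
      Nat.card_congr
        { toFun := fun x => ⟨x.1.1, by simpa using congrArg Subtype.val x.2⟩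
          invFun := fun x => ⟨⟨x.1, mem_centralizer_singleton_iff.2
            ((congrArg (fun z => x.1 * z = z * x.1) x.2).mp (Commute.self_pow x.1 n).eq)⟩, Subtype.ext (by simpa using x.2)⟩
          left_inv := fun _ => rfl
          right_inv := fun _ => rfl }
    rw [he] at ih
    conv_lhs => rw [← H.index_mul_card, Nat.gcd_mul_left]
    exact Nat.mul_dvd_mul_left _ ih
  intro n
  induction n using Nat.strong_induction_on with
  | _ n ihn =>
  intro c
  classical
  -- trivial values of n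
  rcases Nat.eq_zero_or_pos n with rfl | hnpos
  · simp only [pow_zero, mul_zero, Nat.gcd_zero_left]
    by_cases h1 : IsConj c 1
    · rw [Nat.card_congr (Equiv.subtypeUnivEquiv fun _ => h1)]
    · have h2 : c ≠ 1 := fun e => h1 (by rw [e])
      simp [h2]
  rcases eq_or_lt_of_le (Nat.succ_le_of_lt hnpos) with rfl | hn1
  · simpa using Nat.gcd_dvd_left _ (Nat.card G)
  -- a non-central element
  by_cases hc : centralizer ({c} : Set G) = ⊤
  swap
  · exact hnc n c hc
  -- a central element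
  have hcen : ∀ g, g * c = c * g := fun g =>
    mem_centralizer_singleton_iff.1 (hc.symm ▸ Subgroup.mem_top g)
  simp only [isConj_iff_eq_of_central hcen]
  rw [Nat.card_unique, one_mul]
  -- n is not a prime power
  set p := n.minFac with hp'
  have hp : p.Prime := Nat.minFac_prime (by omega)
  by_cases hpp : ordCompl[p] n = 1
  swap
  · have key : ∀ n₁ n₂ : ℕ, n₁ * n₂ = n → n₂ < n →
        Nat.gcd n₂ (Nat.card G) ∣ Nat.card {x : G // x ^ n = c} := by
      intro n₁ n₂ he hlt
      have h := dvd_card_pow_mem_of_closed (fun y => y ^ n₁ = c) n₂ (Nat.gcd n₂ (Nat.card G))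
        (fun g y (hy : y ^ n₁ = c) => by
          show (g * y * g⁻¹) ^ n₁ = c
          rw [conj_pow, hy, hcen, mul_inv_cancel_right])
        (fun y _ => dvd_trans (Nat.gcd_dvd_gcd_of_dvd_left _ (dvd_mul_left _ _)) (ihn n₂ hlt y))
      simpa only [← pow_mul, mul_comm n₂, he] using h
    set n₁ := ordProj[p] n with hn₁
    set n₂ := ordCompl[p] n with hn₂
    have hmul : n₁ * n₂ = n := Nat.ordProj_mul_ordCompl_eq_self n p
    have hn₁1 : 1 < n₁ := Nat.one_lt_pow (Nat.Prime.factorization_pos_of_dvd hp (by omega)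
      n.minFac_dvd).ne' hp.one_lt
    have hn₂1 : 1 < n₂ := by
      have := Nat.ordCompl_pos p (n := n) (by omega)
      omega
    have h1 := key n₁ n₂ hmul (by nlinarith)
    have h2 := key n₂ n₁ (by rw [mul_comm, hmul]) (by nlinarith)
    have hcop : n₁.Coprime n₂ := (Nat.coprime_ordCompl hp (by omega)).pow_left _
    rw [← hmul, Nat.gcd_comm, hcop.gcd_mul, Nat.gcd_comm _ n₁, Nat.gcd_comm _ n₂]
    refine Nat.Coprime.mul_dvd_of_dvd_of_dvd ?_ ?_ ?_
    · exact (hcop.coprime_dvd_left (Nat.gcd_dvd_left _ _)).coprime_dvd_right (Nat.gcd_dvd_left _ _)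
    · rw [hmul]; exact h2
    · rw [hmul]; exact h1
  obtain ⟨e, hne⟩ : ∃ e, n = p ^ e :=
    ⟨n.factorization p, by
      conv_lhs => rw [← Nat.ordProj_mul_ordCompl_eq_self n p, hpp, mul_one]⟩
  rw [hne]
  haveI : Fact p.Prime := ⟨hp⟩
  by_cases hpd : p ∣ orderOf c
  · exact dvd_trans (Nat.gcd_dvd_left _ _) (pow_dvd_card_roots hp e c hpd)
  -- central of order prime to p
  set M := ordCompl[p] (Nat.card G) with hM
  set d := Nat.gcd (p ^ e) (Nat.card G) with hd
  let Z : Subgroup G :=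
    { carrier := {y | y ∈ center G ∧ y ^ M = 1}
      one_mem' := ⟨one_mem _, one_pow _⟩
      mul_mem' := fun {a b} ha hb => ⟨mul_mem ha.1 hb.1, by
        rw [(show Commute a b from (mem_center_iff.1 hb.1 a)).mul_pow, ha.2, hb.2, one_mul]⟩
      inv_mem' := fun {a} ha => ⟨inv_mem ha.1, by rw [inv_pow, ha.2, inv_one]⟩ }
  have hpM : ¬ p ∣ M := Nat.not_dvd_ordCompl hp Nat.card_pos.ne'
  have hZp : (Nat.card Z).Coprime p := by
    refine Nat.Coprime.symm (hp.coprime_iff_not_dvd.2 fun h => ?_)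
    obtain ⟨z, hz⟩ := exists_prime_orderOf_dvd_card' p h
    exact hpM (hz ▸ orderOf_dvd_of_pow_eq_one (Subtype.ext (by simpa using z.2.2)))
  have hmemZ : ∀ y ∈ center G, ¬ p ∣ orderOf y → y ∈ Z := fun y hy hpy =>
    ⟨hy, orderOf_dvd_iff_pow_eq_one.1
      ((Nat.Coprime.dvd_of_dvd_mul_left (((hp.coprime_iff_not_dvd.2 hpy).pow_left _).symm))
        (by rw [hM, Nat.ordProj_mul_ordCompl_eq_self]; exact orderOf_dvd_natCard y))⟩
  -- roots of a central element of order prime to p
  have hshift : ∀ y ∈ Z, Nat.card {x : G // x ^ p ^ e = y} =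
      Nat.card {x : G // x ^ p ^ e = 1} := by
    intro y hy
    have hcop : (p ^ e).Coprime (orderOf y) :=
      ((hp.coprime_iff_not_dvd.2 hpM).pow_left e).coprime_dvd_right
        (orderOf_dvd_of_pow_eq_one hy.2)
    obtain ⟨j, hj⟩ := exists_pow_eq_self_of_coprime hcop
    have hb : ∀ x : G, Commute x (y ^ j) := fun x =>
      (show Commute x y from mem_center_iff.1 hy.1 x).pow_right j
    refine Nat.card_congr ((Equiv.mulRight (y ^ j)⁻¹).subtypeEquiv fun x => ?_)
    show x ^ p ^ e = y ↔ (x * (y ^ j)⁻¹) ^ p ^ e = 1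
    rw [(hb x).inv_right.mul_pow, inv_pow, ← pow_mul, mul_comm j, pow_mul, hj, mul_inv_eq_one]
  have htot : Nat.card G = Nat.card {x : G // x ^ p ^ e ∈ Z} +
      Nat.card {x : G // ¬ x ^ p ^ e ∈ Z} := by
    rw [← Nat.card_sum]
    exact Nat.card_congr (Equiv.sumCompl _).symm
  have hin : Nat.card {x : G // x ^ p ^ e ∈ Z} =
      Nat.card Z * Nat.card {x : G // x ^ p ^ e = 1} := by
    have e1 : {x : G // x ^ p ^ e ∈ Z} ≃ Σ y : Z, {x : G // x ^ p ^ e = y.1} :=
      { toFun := fun x => ⟨⟨x.1 ^ p ^ e, x.2⟩, ⟨x.1, rfl⟩⟩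
        invFun := fun s => ⟨s.2.1, by rw [s.2.2]; exact s.1.2⟩
        left_inv := fun _ => rfl
        right_inv := by rintro ⟨⟨y, hy⟩, ⟨x, hx : x ^ p ^ e = y⟩⟩; subst hx; rfl }
    haveI := Fintype.ofFinite Z
    haveI := Fintype.ofFinite G
    rw [Nat.card_congr e1, Nat.card_sigma, Finset.sum_congr rfl fun y _ => hshift y.1 y.2,
      Finset.sum_const, smul_eq_mul, Finset.card_univ, ← Nat.card_eq_fintype_card]
  have hout : d ∣ Nat.card {x : G // ¬ x ^ p ^ e ∈ Z} := by
    refine dvd_card_pow_mem_of_closed (fun y => y ∉ Z) (p ^ e) d (fun g y hy hy' => hy ?_)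
      (fun y hy => ?_)
    · have h1 : g * y * g⁻¹ * g = g * (g * y * g⁻¹) := (mem_center_iff.1 hy'.1 g).symm
      rw [inv_mul_cancel_right] at h1
      have h2 : y = g * y * g⁻¹ := mul_left_cancel h1
      rw [h2]; exact hy'
    · by_cases hyc : centralizer ({y} : Set G) = ⊤
      · have hyz : y ∈ center G := mem_center_iff.2 fun g =>
          mem_centralizer_singleton_iff.1 (hyc.symm ▸ Subgroup.mem_top g)
        have hpy : p ∣ orderOf y := by_contra fun h => hy (hmemZ y hyz h)
        simp only [isConj_iff_eq_of_central (fun g => mem_center_iff.1 hyz g)]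
        exact dvd_trans (Nat.gcd_dvd_left _ _) (pow_dvd_card_roots hp e y hpy)
      · exact dvd_trans (Nat.gcd_dvd_gcd_of_dvd_left _ (dvd_mul_left _ _)) (hnc _ y hyc)
  have hcZ : c ∈ Z := hmemZ c (mem_center_iff.2 hcen) hpd
  rw [hshift c hcZ]
  refine Nat.Coprime.dvd_of_dvd_mul_left ((hZp.symm.pow_left e).coprime_dvd_left
    (Nat.gcd_dvd_left _ _)) ?_
  rw [← hin]
  exact (Nat.dvd_add_left hout).1 (htot ▸ Nat.gcd_dvd_right _ _)

end CfsgLib.PGroup
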