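import Cfsg.Agent.Lib.Block.Cyclic.SylowSetup
import Cfsg.Agent.Lib.Block.Cartan
import Cfsg.Agent.Lib.Char.Linear
import Cfsg.Agent.Lib.Coprime.Fitting
import Mathlib.GroupTheory.Transfer
import Mathlib.GroupTheory.PGroup

/-!
The least order of a group whose Sylow `p`-subgroups are not normal, after Brauer and Reynolds: a
non-abelian simple group with a Sylow subgroup of order `p` has order at least `p (p² - 1) / 2`.
-/

set_option linter.style.haveILetI false

namespace CfsgLib.PGroup

open Subgroup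
open scoped Classical commutatorElement

universe u

/-- A perfect group has only one linear character. -/
theorem eq_oneChar_of_degree_one {G : Type u} [Group G] [Fintype G] (hperf : commutator G = ⊤)
    {χ : Cfsg.IrrCharacter G} (h : (χ : G → ℂ) 1 = 1) : χ = Block.oneChar G := by
  have hc := Char.card_linear (G := G)
  rw [hperf, index_top, Nat.card_eq_one_iff_unique] at hc
  haveI := hc.1
  exact congrArg Subtype.val (Subsingleton.elim
    (⟨χ, h⟩ : {χ : Cfsg.IrrCharacter G // (χ : G → ℂ) 1 = 1}) ⟨Block.oneChar G, rfl⟩)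

/-- The Brauer–Reynolds bound. -/
theorem card_ge_of_simple_sylow_prime {p : ℕ} [Fact p.Prime] (hp2 : p ≠ 2) {G : Type u} [Group G]
    [Finite G] [IsSimpleGroup G] (hna : ¬ IsMulCommutative G) (P : Sylow p G)
    (hP : Nat.card P = p) : p * (p ^ 2 - 1) ≤ 2 * Nat.card G := by
  haveI := Fintype.ofFinite G
  haveI := Fintype.ofFinite (Cfsg.IrrCharacter G)
  have hp : p.Prime := Fact.out
  have hp3 : 3 ≤ p := by have := hp.two_le; omega
  by_contra hlt
  push Not at hlt
  -- `G` is perfect and `P` is not normal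
  have hperf : commutator G = ⊤ := by
    rcases IsSimpleGroup.eq_bot_or_eq_top_of_normal (commutator G) inferInstance with h | h
    · exfalso
      refine hna ⟨⟨fun a b => ?_⟩⟩
      have hm : ⁅a, b⁆ ∈ commutator G := commutator_mem_commutator (mem_top a) (mem_top b)
      rw [h, mem_bot, commutatorElement_eq_one_iff_mul_comm] at hm
      exact hm
    · exact h
  have hPne : (P : Subgroup G) ≠ ⊥ := fun h => hp.ne_one (by rw [← hP, h, card_bot])
  have hPnorm : ¬ (P : Subgroup G).Normal := by
    intro h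
    rcases IsSimpleGroup.eq_bot_or_eq_top_of_normal _ h with h1 | h1
    · exact hPne h1
    · refine hna ⟨⟨fun a b => ?_⟩⟩
      haveI : IsCyclic G := isCyclic_of_prime_card (p := p) (by rw [← hP, h1, card_top])
      exact mul_comm' a b
  -- the set-up
  obtain ⟨D₀, hD₀⟩ := Block.Cyclic.exists_cycSetup (Q := (P : Subgroup G)) hP
    (Block.Cyclic.not_sq_dvd_of_sylow hP)
  obtain ⟨Q, x, K, φ₀, hQ, hsq, hx, hx1, hK⟩ := D₀
  cases hD₀
  let D : Block.Cyclic.CycSetup p G :=
    ⟨(P : Subgroup G), x, K, Block.oneChar K, hQ, hsq, hx, hx1, hK⟩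
  let _ : Fintype D.K := Fintype.ofFinite _
  let _ : Fintype (Subgroup.centralizer (D.Q : Set G)) := Fintype.ofFinite _
  obtain ⟨M, hM⟩ := Block.exists_pModular hp
  haveI : M.IsMaximal := hM.2.1
  have htriv : ∀ y, (D.φ : D.K → ℂ) y = 1 := fun y => rfl
  have hB := D.blockData_principal hM (P := P) rfl htriv
  obtain ⟨E⟩ := D.exists_exceptional_family hM hB
  have hstab : D.stab = normalizer ((P : Subgroup G) : Set G) := D.stab_eq_normalizer htriv
  have hsr : D.stab.relIndex (normalizer (D.Q : Set G)) = 1 := by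
    rw [hstab]; exact relIndex_self _
  have hφ1 : Cfsg.charDegree (D.φ : D.K → ℂ) = 1 := by
    have := (Block.charDegree_eq D.φ).1
    rw [htriv] at this
    exact_mod_cast this.symm
  -- the numbers
  set C := centralizer ((P : Subgroup G) : Set G) with hCdef
  set N := normalizer ((P : Subgroup G) : Set G) with hNdef
  set e := Nat.card D.expE with hedef
  have he : e = C.relIndex N := by
    have := D.relIndex_mul
    rw [hsr, mul_one] at this
    exact this
  have hedvd : e ∣ p - 1 := by
    have h := D.expE.card_subgroup_dvd_card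
    rwa [Nat.card_eq_fintype_card (α := (ZMod p)ˣ), ZMod.card_units_eq_totient,
      Nat.totient_prime hp] at h
  have he1 : e ≠ 1 := by
    intro h1
    rw [he] at h1
    have hle : N ≤ C := relIndex_eq_one.1 h1
    haveI := MonoidHom.ker_transferSylow_isComplement' P hle
    have hK := MonoidHom.ker_transferSylow_isComplement' P hle
    rcases IsSimpleGroup.eq_bot_or_eq_top_of_normal (MonoidHom.transferSylow P hle).ker
      inferInstance with h2 | h2
    · rw [h2] at hK
      refine hPnorm ?_
      rw [(Subgroup.isComplement'_bot_left.1 hK)]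
      infer_instance
    · rw [h2] at hK
      exact hPne (Subgroup.isComplement'_top_left.1 hK)
  have hCN : C ≤ N := centralizer_le_normalizer _
  have hPC : (P : Subgroup G) ≤ C := by
    haveI : IsCyclic (P : Subgroup G) := isCyclic_of_prime_card (p := p) hP
    intro a ha
    rw [hCdef, mem_centralizer_iff]
    intro b hb
    exact congrArg Subtype.val (mul_comm' (⟨b, hb⟩ : (P : Subgroup G)) ⟨a, ha⟩)
  obtain ⟨w, hw⟩ : p ∣ Nat.card C := hP ▸ card_dvd_of_le hPC
  have hnp : Nat.card (Sylow p G) = N.index := P.card_eq_index_normalizer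
  obtain ⟨r, hr⟩ : ∃ r, N.index = 1 + p * r := by
    refine ⟨N.index / p, ?_⟩
    have h1 : N.index % p = 1 % p := hnp ▸ card_sylow_modEq_one p G
    rw [Nat.mod_eq_of_lt hp.one_lt] at h1
    have := Nat.div_add_mod N.index p
    omega
  have hr0 : r ≠ 0 := by
    intro h0
    rw [h0, mul_zero, add_zero, index_eq_one] at hr
    exact hPnorm (normalizer_eq_top_iff.1 hr)
  have hcard : Nat.card G = p * (e * w * (1 + p * r)) := by
    have h1 : Nat.card C * C.relIndex N = Nat.card N := by
      rw [← relIndex_bot_left, relIndex_mul_relIndex _ _ _ bot_le hCN, relIndex_bot_left]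
    rw [← N.card_mul_index, ← h1, ← he, hw, hr]
    ring
  set n := e * w * (1 + p * r) with hn
  have hn2 : 2 * n < p ^ 2 - 1 := by
    rw [hcard] at hlt
    have : p * (2 * n) < p * (p ^ 2 - 1) := by linarith
    exact Nat.lt_of_mul_lt_mul_left this
  have hw0 : 1 ≤ w := by
    rcases Nat.eq_zero_or_pos w with h | h
    · rw [h, mul_zero] at hw
      exact absurd hw Nat.card_pos.ne'
    · exact h
  have he2 : 2 ≤ e := by
    have : 0 < e := Nat.card_pos
    omega
  have hp1 : p ^ 2 - 1 = (p - 1) * (p + 1) := by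
    rw [mul_comm, ← Nat.sq_sub_sq, one_pow]
  rw [hp1] at hn2
  have hew : 2 * (e * w) < p - 1 := by
    have h1 : e * w * (p + 1) ≤ n := Nat.mul_le_mul_left _ (by
      have := Nat.le_mul_of_pos_right p (Nat.pos_of_ne_zero hr0)
      omega)
    have h2 : 2 * (e * w) * (p + 1) < (p - 1) * (p + 1) := by rw [mul_assoc]; omega
    exact Nat.lt_of_mul_lt_mul_right h2
  have hep : e < p := by
    have := Nat.le_mul_of_pos_right e hw0
    omega
  -- congruences of degrees
  have hY : ∀ k, ((Cfsg.charDegree (E.Y k : G → ℂ) : ℤ)) ≡ E.δ * (e : ℤ) [ZMOD p] := fun k => by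
    have h := E.charDegree_Y hB k
    rw [hsr, hφ1] at h
    simp only [Nat.cast_one, mul_one] at h
    exact h
  have hX : ∀ χ, E.u χ ≠ 0 → ((Cfsg.charDegree (χ : G → ℂ) : ℤ)) ≡ -(E.u χ) [ZMOD p] := fun χ hχ => by
    have h := E.charDegree_u hB hχ
    rw [hsr, hφ1] at h
    simpa using h
  have hsmall : ∀ z : ℤ, (p : ℤ) ∣ z → -(p : ℤ) < z → z < p → z = 0 := fun z hz h1 h2 =>
    Int.eq_zero_of_abs_lt_dvd hz (abs_lt.2 ⟨h1, h2⟩)
  have hone : Cfsg.charDegree (Block.oneChar G : G → ℂ) = 1 := by
    have h : ((Block.oneChar G : G → ℂ) 1 : ℂ) = 1 := rfl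
    rw [(Block.charDegree_eq _).1] at h
    exact_mod_cast h
  have h1X : E.u (Block.oneChar G) = -1 := by
    rcases (E.mem _).1 Block.one_mem_principalBlock with hu | ⟨k, hk⟩
    · have h := hX _ hu
      rw [hone] at h
      rcases (E.u_cases _).resolve_left hu with e1 | e1
      · rw [e1, Int.modEq_iff_dvd] at h
        have := hsmall _ h (by omega) (by omega)
        omega
      · exact e1
    · exfalso
      have h := hY k
      rw [hk, hone, Int.modEq_iff_dvd] at h
      rcases E.sign with e1 | e1 <;> rw [e1] at h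
      · have := hsmall _ h (by omega) (by omega)
        omega
      · have := Nat.le_mul_of_pos_right e hw0
        have := hsmall _ h (by omega) (by omega)
        omega
  have hdn : ∀ χ : Cfsg.IrrCharacter G, ¬ p ∣ Cfsg.charDegree (χ : G → ℂ) →
      Cfsg.charDegree (χ : G → ℂ) ∣ n := fun χ hχ => by
    have h := Block.charDegree_dvd χ
    rw [hcard] at h
    exact ((hp.coprime_iff_not_dvd.2 hχ).symm).dvd_of_dvd_mul_left h
  have hchi : ∀ χ : Cfsg.IrrCharacter G, E.u χ ≠ 0 → χ ≠ Block.oneChar G →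
      E.u χ = -1 ∧ Cfsg.charDegree (χ : G → ℂ) = 1 + p * r := by
    intro χ hu hne
    set f := Cfsg.charDegree (χ : G → ℂ) with hf
    have hf1 : f ≠ 1 := fun h1 => hne (eq_oneChar_of_degree_one hperf (by
      rw [(Block.charDegree_eq χ).1, ← hf, h1, Nat.cast_one]))
    have hmod : (f : ℤ) ≡ -(E.u χ) [ZMOD p] := hX χ hu
    have hf0 : 0 < f := Nat.pos_of_ne_zero (Block.charDegree_eq χ).2
    have hpf : ¬ p ∣ f := by
      intro hd
      have h2 : (p : ℤ) ∣ -(E.u χ) :=
        Int.modEq_zero_iff_dvd.1 (hmod.symm.trans (Int.modEq_zero_iff_dvd.2 (Int.natCast_dvd_natCast.2 hd)))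
      rcases (E.u_cases χ).resolve_left hu with e1 | e1 <;> rw [e1] at h2 <;>
        · have := hsmall _ h2 (by omega) (by omega)
          omega
    have hfge : p - 1 ≤ f := by
      by_contra hc
      rw [Int.modEq_iff_dvd] at hmod
      rcases (E.u_cases χ).resolve_left hu with e1 | e1 <;> rw [e1] at hmod <;>
        · have := hsmall _ hmod (by omega) (by omega)
          omega
    obtain ⟨k, hk⟩ := hdn χ hpf
    have hk0 : 1 ≤ k := by
      rcases Nat.eq_zero_or_pos k with h | h
      · rw [h, mul_zero, hn] at hk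
        have : 0 < e * w * (1 + p * r) := by positivity
        omega
      · exact h
    have hkp : 2 * k ≤ p := by
      have h1 : (p - 1) * (2 * k) < (p - 1) * (p + 1) := by
        calc (p - 1) * (2 * k) ≤ f * (2 * k) := Nat.mul_le_mul_right _ hfge
          _ = 2 * n := by rw [hk]; ring
          _ < _ := hn2
      have := Nat.lt_of_mul_lt_mul_left h1
      omega
    have hcong : ((e * w : ℕ) : ℤ) ≡ -(E.u χ) * k [ZMOD p] := by
      have h1 : ((e * w : ℕ) : ℤ) ≡ (n : ℤ) [ZMOD p] := by
        rw [hn, Int.modEq_iff_dvd]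
        exact ⟨(e * w * r : ℕ), by push_cast; ring⟩
      refine h1.trans ?_
      rw [hk]
      push_cast
      exact hmod.mul_right _
    rcases (E.u_cases χ).resolve_left hu with e1 | e1
    · exfalso
      rw [e1, Int.modEq_iff_dvd] at hcong
      have := hsmall _ hcong (by omega) (by omega)
      omega
    · refine ⟨e1, ?_⟩
      rw [e1, Int.modEq_iff_dvd] at hcong
      have h2 := hsmall _ hcong (by omega) (by omega)
      have hkew : k = e * w := by omega
      rw [hkew, hn, mul_comm f] at hk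
      exact (Nat.eq_of_mul_eq_mul_left (by positivity) hk).symm
  -- the relation at the identity
  obtain ⟨k₀⟩ : Nonempty ((ZMod p)ˣ ⧸ D.expE) := inferInstance
  set f0 := Cfsg.charDegree (E.Y k₀ : G → ℂ) with hf0def
  have hrel := E.relation k₀ (g := 1) (by rw [orderOf_one]; exact hp.not_dvd_one)
  rw [finsum_mem_eq_toFinset_sum] at hrel
  set X := ({χ : Cfsg.IrrCharacter G | E.u χ ≠ 0}).toFinset with hXdef
  have hXcard : X.card = e := by
    rw [hXdef, Set.toFinset_card, ← Nat.card_eq_fintype_card]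
    exact E.card_u
  have h1mem : Block.oneChar G ∈ X := by
    rw [hXdef, Set.mem_toFinset, Set.mem_ofPred_eq, h1X]; decide
  rw [← Finset.add_sum_erase _ _ h1mem, h1X, (Block.charDegree_eq _).1, hone,
    Finset.sum_congr rfl (g := fun _ => -((1 + p * r : ℕ) : ℂ)) (fun χ hχ => ?_), Finset.sum_const,
    Finset.card_erase_of_mem h1mem, hXcard, (Block.charDegree_eq _).1, ← hf0def, nsmul_eq_mul] at hrel
  swap
  · rw [Finset.mem_erase, hXdef, Set.mem_toFinset] at hχ
    obtain ⟨a, b⟩ := hchi χ hχ.2 hχ.1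
    rw [a, (Block.charDegree_eq χ).1, b]
    push_cast
    ring
  have hint : E.δ * (f0 : ℤ) = 1 + ((e - 1 : ℕ) : ℤ) * ((1 + p * r : ℕ) : ℤ) := by
    have : ((E.δ * (f0 : ℤ) : ℤ) : ℂ) = ((1 + ((e - 1 : ℕ) : ℤ) * ((1 + p * r : ℕ) : ℤ) : ℤ) : ℂ) := by
      push_cast at hrel ⊢
      linear_combination hrel
    exact_mod_cast this
  have hδ : E.δ = 1 := by
    rcases E.sign with h | h
    · exact h
    · rw [h] at hint
      have : (0 : ℤ) ≤ ((e - 1 : ℕ) : ℤ) * ((1 + p * r : ℕ) : ℤ) := by positivity
      have : (0 : ℤ) ≤ (f0 : ℤ) := by positivity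
      omega
  have hf0 : f0 = 1 + (e - 1) * (1 + p * r) := by
    rw [hδ, one_mul] at hint
    exact_mod_cast hint
  have hmodY : (f0 : ℤ) ≡ (e : ℤ) [ZMOD p] := by simpa [hδ] using hY k₀
  have hpf0 : ¬ p ∣ f0 := by
    intro hd
    have h2 : (p : ℤ) ∣ (e : ℤ) :=
      Int.modEq_zero_iff_dvd.1 (hmodY.symm.trans (Int.modEq_zero_iff_dvd.2 (Int.natCast_dvd_natCast.2 hd)))
    have := Nat.le_of_dvd (by omega) (Int.natCast_dvd_natCast.1 h2)
    omega
  obtain ⟨c, hc⟩ := hdn _ hpf0
  -- `c = w`
  have hc2 : c < 2 * w := by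
    have h1 : (e - 1) * (1 + p * r) * c < 2 * w * ((e - 1) * (1 + p * r)) + 1 := by
      have h2 : e * w * (1 + p * r) ≤ 2 * w * ((e - 1) * (1 + p * r)) := by
        rw [← mul_assoc]
        refine Nat.mul_le_mul_right _ ?_
        calc e * w ≤ (2 * (e - 1)) * w := Nat.mul_le_mul_right _ (by omega)
          _ = 2 * w * (e - 1) := by ring
      have h3 : (e - 1) * (1 + p * r) * c ≤ f0 * c := Nat.mul_le_mul_right _ (by rw [hf0]; omega)
      rw [← hc, hn] at h3
      omega
    have hpos : 0 < (e - 1) * (1 + p * r) := Nat.mul_pos (by omega) (by positivity)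
    by_contra hge
    push Not at hge
    have hcne : f0 * c = n := hc.symm
    have h4 : 2 * w * ((e - 1) * (1 + p * r)) + 2 * w ≤ f0 * c := by
      calc 2 * w * ((e - 1) * (1 + p * r)) + 2 * w = f0 * (2 * w) := by rw [hf0]; ring
        _ ≤ f0 * c := Nat.mul_le_mul_left _ hge
    have h2 : e * w * (1 + p * r) ≤ 2 * w * ((e - 1) * (1 + p * r)) := by
      rw [← mul_assoc]
      refine Nat.mul_le_mul_right _ ?_
      calc e * w ≤ (2 * (e - 1)) * w := Nat.mul_le_mul_right _ (by omega)
        _ = 2 * w * (e - 1) := by ring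
    omega
  have hcw : c = w := by
    have hwp : 2 * w < p := by
      have : w ≤ e * w := Nat.le_mul_of_pos_left _ (by omega)
      omega
    have h1 : ((e * w : ℕ) : ℤ) ≡ (e : ℤ) * c [ZMOD p] := by
      have h1 : ((e * w : ℕ) : ℤ) ≡ (n : ℤ) [ZMOD p] := by
        rw [hn, Int.modEq_iff_dvd]
        exact ⟨(e * w * r : ℕ), by push_cast; ring⟩
      refine h1.trans ?_
      rw [hc]
      push_cast
      exact hmodY.mul_right _
    rw [Int.modEq_iff_dvd, show (e : ℤ) * c - ((e * w : ℕ) : ℤ) = (e : ℤ) * ((c : ℤ) - w) by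
      push_cast; ring] at h1
    rcases (Nat.prime_iff_prime_int.1 hp).dvd_or_dvd h1 with h2 | h2
    · have := Nat.le_of_dvd (by omega) (Int.natCast_dvd_natCast.1 h2)
      omega
    · have := hsmall _ h2 (by omega) (by omega)
      omega
  rw [hcw, hn, show e * w * (1 + p * r) = (e * (1 + p * r)) * w by ring] at hc
  have h5 := Nat.eq_of_mul_eq_mul_right hw0 hc
  rw [← hf0def, hf0] at h5
  have h6 : e * (1 + p * r) = (e - 1) * (1 + p * r) + (1 + p * r) := by
    conv_lhs => rw [show e = (e - 1) + 1 by omega]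
    ring
  have : 0 < p * r := Nat.mul_pos hp.pos (Nat.pos_of_ne_zero hr0)
  omega

end CfsgLib.PGroup
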