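import Cfsg.Agent.Lib.Coprime.Action
import Cfsg.Agent.Lib.PGroup.CentralizerCount
import Mathlib.GroupTheory.Sylow
import Mathlib.GroupTheory.GroupAction.ConjAct

/-!
# P. Hall's factorisation of Sylow numbers
-/

set_option autoImplicit false
set_option linter.style.haveILetI false
set_option linter.unusedSectionVars false

namespace CfsgLib.PGroup.SylowNum

open Subgroup CfsgLib.Coprime

variable {G : Type*} [Group G] [Finite G] {p : ℕ} [Fact p.Prime]

theorem relIndex_sup_normal (H N : Subgroup G) [N.Normal] :
    H.relIndex (H ⊔ N) = H.relIndex N := by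
  have h := card_sup_mul_card_inf H N
  have e1 := relIndex_mul_relIndex ⊥ H (H ⊔ N) bot_le le_sup_left
  have e2 := relIndex_mul_relIndex ⊥ (H ⊓ N) N bot_le inf_le_right
  simp only [relIndex_bot_left] at e1 e2
  rw [inf_relIndex_right] at e2
  rw [← e1, ← e2] at h
  refine Nat.eq_of_mul_eq_mul_left (Nat.mul_pos (Nat.card_pos (α := H))
    (Nat.card_pos (α := (H ⊓ N : Subgroup G)))) ?_
  linarith [h]

/-- The number of Sylow subgroups of a subgroup containing `P`. -/
theorem card_sylow_of_le (P : Sylow p G) {X : Subgroup G} (hP : (P : Subgroup G) ≤ X) :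
    Nat.card (Sylow p X) = (normalizer ((P : Subgroup G) : Set G)).relIndex X := by
  rw [(P.subtype hP).card_eq_index_normalizer]
  show (normalizer ((P.subtype hP : Subgroup X) : Set X)).index = _
  rw [Sylow.coe_subtype, ← subgroupOf_normalizer_eq hP]
  rfl

theorem card_sylow_eq (P : Sylow p G) :
    Nat.card (Sylow p G) = (normalizer ((P : Subgroup G) : Set G)).index :=
  P.card_eq_index_normalizer

theorem normalizer_sup_of_normal (P : Sylow p G) (N : Subgroup G) [N.Normal] :
    normalizer (((P : Subgroup G) ⊔ N : Subgroup G) : Set G) =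
      normalizer ((P : Subgroup G) : Set G) ⊔ N := by
  set M := normalizer (((P : Subgroup G) ⊔ N : Subgroup G) : Set G)
  refine le_antisymm ?_ (sup_le ?_ (le_sup_right.trans le_normalizer))
  · intro g hg
    have hle : (P : Subgroup G) ≤ (P : Subgroup G) ⊔ N := le_sup_left
    have hP' : conjBy g (P : Subgroup G) ≤ (P : Subgroup G) ⊔ N :=
      (map_mono hle).trans (le_of_eq (conjBy_eq_self_iff.2 hg))
    let Q : Sylow p ((P : Subgroup G) ⊔ N : Subgroup G) := P.subtype hle
    let R : Sylow p ((P : Subgroup G) ⊔ N : Subgroup G) :=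
      Sylow.ofCard ((conjBy g (P : Subgroup G)).subgroupOf _) (by
        rw [Nat.card_congr (subgroupOfEquivOfLe hP').toEquiv, card_conjBy,
          ← Nat.card_congr (subgroupOfEquivOfLe hle).toEquiv]
        exact Q.card_eq_multiplicity)
    obtain ⟨⟨k, hk⟩, hkR⟩ := MulAction.exists_smul_eq ((P : Subgroup G) ⊔ N : Subgroup G) R Q
    have h1 := congrArg Sylow.toSubgroup hkR
    rw [Sylow.coe_subgroup_smul, ← conjBy_eq_smul] at h1
    have h2 := congrArg (Subgroup.map ((P : Subgroup G) ⊔ N).subtype) h1
    rw [conjBy_map] at h2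
    have h3 : (Q : Subgroup _).map ((P : Subgroup G) ⊔ N).subtype = (P : Subgroup G) :=
      map_subgroupOf_eq_of_le hle
    have h4 : (R : Subgroup _).map ((P : Subgroup G) ⊔ N).subtype = conjBy g (P : Subgroup G) :=
      map_subgroupOf_eq_of_le hP'
    rw [h3, h4, conjBy_conjBy] at h2
    have h5 : k * g ∈ normalizer ((P : Subgroup G) : Set G) := conjBy_eq_self_iff.1 h2
    have h6 : k ∈ normalizer ((P : Subgroup G) : Set G) ⊔ N :=
      sup_le_sup_right le_normalizer N hk
    simpa using mul_mem (inv_mem h6) (mem_sup_left (T := N) h5)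
  · intro g hg
    rw [← conjBy_eq_self_iff, conjBy, Subgroup.map_sup]
    exact congrArg₂ _ (conjBy_eq_self_iff.2 hg)
      (conjBy_eq_self_iff.2 (by rw [normalizer_eq_top]; trivial))

/-- Hall: the Sylow number is multiplicative over a normal subgroup. -/
theorem card_sylow_quotient_mul (P : Sylow p G) (N : Subgroup G) [N.Normal] :
    Nat.card (Sylow p G) =
      Nat.card (Sylow p (G ⧸ N)) * Nat.card (Sylow p ((P : Subgroup G) ⊔ N : Subgroup G)) := by
  have hs := QuotientGroup.mk'_surjective N
  set NP := normalizer ((P : Subgroup G) : Set G)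
  have h1 : Nat.card (Sylow p (G ⧸ N)) = (NP ⊔ N).index := by
    rw [card_sylow_eq (P.mapSurjective hs), Sylow.coe_mapSurjective,
      ← index_comap_of_surjective _ hs, comap_normalizer_eq_of_surjective _ hs, comap_map_eq,
      QuotientGroup.ker_mk', normalizer_sup_of_normal P N]
  have h2 : Nat.card (Sylow p ((P : Subgroup G) ⊔ N : Subgroup G)) = NP.relIndex N := by
    rw [card_sylow_of_le P le_sup_left, ← inf_relIndex_right]
    set H' := NP ⊓ ((P : Subgroup G) ⊔ N)
    have hsup : H' ⊔ N = (P : Subgroup G) ⊔ N :=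
      le_antisymm (sup_le inf_le_right le_sup_right)
        (sup_le ((le_inf le_normalizer le_sup_left).trans le_sup_left) le_sup_right)
    rw [← hsup, relIndex_sup_normal, ← inf_relIndex_right H', inf_assoc,
      inf_eq_right.2 (le_sup_right : N ≤ (P : Subgroup G) ⊔ N), inf_relIndex_right]
  rw [card_sylow_eq P, h1, h2, ← relIndex_mul_index (le_sup_left : NP ≤ NP ⊔ N),
    relIndex_sup_normal, mul_comm]

/-- If `P ⊔ N = ⊤` the Sylow number factors through the normalizer of `P ⊓ N`. -/
theorem card_sylow_inf_mul (P : Sylow p G) (N : Subgroup G) [N.Normal]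
    (htop : (P : Subgroup G) ⊔ N = ⊤) :
    Nat.card (Sylow p G) = Nat.card (Sylow p N) *
      Nat.card (Sylow p (normalizer (((P : Subgroup G) ⊓ N : Subgroup G) : Set G))) := by
  set NQ := normalizer (((P : Subgroup G) ⊓ N : Subgroup G) : Set G)
  have hPQ : (P : Subgroup G) ≤ NQ := by
    intro g hg
    exact Coprime.inf_le_normalizer (A := (P : Subgroup G)) (H := (P : Subgroup G)) (K := N) le_normalizer
      (by rw [normalizer_eq_top]; exact le_top) hg
  have hle : normalizer ((P : Subgroup G) : Set G) ≤ NQ :=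
    Coprime.inf_le_normalizer (H := (P : Subgroup G)) (K := N) le_rfl
      (le_top.trans (normalizer_eq_top N).ge)
  have hN : Nat.card (Sylow p N) = NQ.index := by
    obtain ⟨S, hS⟩ : ∃ S : Sylow p N, (S : Subgroup N) = (P : Subgroup G).subgroupOf N := by
      have hq : IsPGroup p ((P : Subgroup G).subgroupOf N) := P.2.comap_subtype
      obtain ⟨S, hS⟩ := hq.exists_le_sylow
      refine ⟨S, le_antisymm ?_ hS⟩
      obtain ⟨T, hT⟩ := (S.isPGroup'.map N.subtype).exists_le_sylow
      obtain ⟨g, hg⟩ := MulAction.exists_smul_eq G T P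
      -- compare orders through a conjugate
      have hcard : Nat.card (S : Subgroup N) ≤ Nat.card ((P : Subgroup G).subgroupOf N) := by
        have h1 : conjBy g ((S : Subgroup N).map N.subtype) ≤ (P : Subgroup G) ⊓ N := by
          refine le_inf ?_ ?_
          · rw [← congrArg (fun U : Sylow p G => (U : Subgroup G)) hg]
            exact map_mono hT
          · exact (map_mono (map_subtype_le _)).trans
              (le_of_eq (conjBy_eq_self_iff.2 (by rw [normalizer_eq_top]; trivial)))
        have h2 := Nat.card_le_card_of_injective _ (Subgroup.inclusion_injective h1)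
        rw [card_conjBy, card_map_of_injective N.subtype_injective] at h2
        rwa [← card_map_of_injective (K := (P : Subgroup G).subgroupOf N) N.subtype_injective,
          subgroupOf_map_subtype]
      exact (eq_of_le_of_card_ge hS hcard).ge
    have htop2 : NQ ⊔ N = ⊤ := top_unique (htop ▸ sup_le_sup_right hPQ N)
    rw [card_sylow_eq S, hS, ← inf_subgroupOf_right,
      ← subgroupOf_normalizer_eq inf_le_right]
    show NQ.relIndex N = NQ.index
    rw [← relIndex_sup_normal, htop2, relIndex_top_right]
  rw [hN, card_sylow_of_le P hPQ, card_sylow_eq P, ← relIndex_mul_index hle, mul_comm]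

/-- The case of a normal `p'`-subgroup. -/
theorem exists_list_coprime (P : Sylow p G) (N : Subgroup G) [N.Normal]
    (htop : (P : Subgroup G) ⊔ N = ⊤) (hcop : ¬ p ∣ Nat.card N) :
    ∃ l : List ℕ, l.prod = Nat.card (Sylow p G) ∧ ∀ m ∈ l, IsPrimePow m ∧ m % p = 1 := by
  classical
  have hp : p.Prime := Fact.out
  set A : Subgroup G := (P : Subgroup G) with hA
  have hAN : A ≤ normalizer (N : Set G) := by rw [normalizer_eq_top]; exact le_top
  have hco : (Nat.card A).Coprime (Nat.card N) := by
    obtain ⟨k, hk⟩ := IsPGroup.iff_card.1 P.2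
    rw [hk]; exact (hp.coprime_iff_not_dvd.2 hcop).pow_left k
  haveI : Group.IsNilpotent A := P.2.isNilpotent
  have hsolv : Group.IsSolvable A ∨ Group.IsSolvable N := Or.inl inferInstance
  set C := N ⊓ centralizer (A : Set G) with hC
  have hNC : normalizer (A : Set G) ⊓ N = C := by
    refine le_antisymm (fun x hx => ⟨hx.2,
      mem_centralizer_of_mem_normalizer hAN hco hx.2 hx.1⟩) ?_
    exact le_inf (inf_le_right.trans (centralizer_le_normalizer _)) inf_le_left
  have hn : Nat.card C * Nat.card (Sylow p G) = Nat.card N := by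
    rw [card_sylow_eq P]
    have htop2 : normalizer (A : Set G) ⊔ N = ⊤ :=
      top_unique (htop ▸ sup_le_sup_right le_normalizer N)
    rw [← relIndex_top_right (normalizer (A : Set G)), ← htop2, relIndex_sup_normal,
      ← inf_relIndex_right, hNC]
    have := relIndex_mul_relIndex ⊥ C N bot_le inf_le_left
    rwa [relIndex_bot_left, relIndex_bot_left] at this
  set n := Nat.card (Sylow p G) with hnn
  have hn0 : n ≠ 0 := Nat.card_pos.ne'
  have hfac : ∀ q, q.Prime → q ^ n.factorization q % p = 1 := by
    intro q hq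
    haveI : Fact q.Prime := ⟨hq⟩
    have hU := isSylowIn_map (default : Sylow q C)
    set U := ((default : Sylow q C) : Subgroup C).map C.subtype
    have hUc : U ≤ centralizer (A : Set G) := hU.1.trans inf_le_right
    have hUA : A ≤ normalizer (U : Set G) :=
      (le_centralizer_iff.1 hUc).trans (centralizer_le_normalizer _)
    obtain ⟨Q, hQ, hUQ, hQA⟩ :=
      le_invariant_sylow hAN hco hsolv (hU.1.trans inf_le_left) hU.isPGroup hUA
    have hfix : Q ⊓ centralizer (A : Set G) = U := by
      refine (eq_of_le_of_card_ge (le_inf hUQ hUc) ?_).symm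
      have hle : Q ⊓ centralizer (A : Set G) ≤ C := inf_le_inf_right _ hQ.1
      obtain ⟨j, hj⟩ := IsPGroup.iff_card.1 (hQ.isPGroup.to_le inf_le_left :
        IsPGroup q (Q ⊓ centralizer (A : Set G) : Subgroup G))
      rw [hj, hU.2]
      have h1 : q ^ j ∣ Nat.card C := hj ▸ card_dvd_of_le hle
      exact Nat.pow_le_pow_right hq.pos
        ((hq.pow_dvd_iff_le_factorization Nat.card_pos.ne').1 h1)
    letI : MulAction A Q :=
      { smul := fun a x => ⟨(a : G) * x * (a : G)⁻¹, conj_mem_of_le_normalizer hQA a.2 x.2⟩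
        one_smul := fun x => Subtype.ext (show (1 : G) * x * 1⁻¹ = x by group)
        mul_smul := fun a b x => Subtype.ext
          (show ((a : G) * b) * x * ((a : G) * b)⁻¹ = a * (b * x * (b : G)⁻¹) * (a : G)⁻¹ by group) }
    have hmod := P.2.card_modEq_card_fixedPoints (α := Q)
    have e : MulAction.fixedPoints A Q ≃ (Q ⊓ centralizer (A : Set G) : Subgroup G) :=
      { toFun := fun x => ⟨x.1.1, x.1.2, mem_centralizer_iff_conj_eq.2 fun a ha =>
          congrArg Subtype.val (x.2 ⟨a, ha⟩)⟩
        invFun := fun x => ⟨⟨x.1, x.2.1⟩, fun a => Subtype.ext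
          (mem_centralizer_iff_conj_eq.1 x.2.2 a.1 a.2)⟩
        left_inv := fun _ => rfl
        right_inv := fun _ => rfl }
    rw [Nat.card_congr e, hfix, hQ.2, hU.2, ← hn, Nat.factorization_mul Nat.card_pos.ne' hn0,
      Finsupp.add_apply, pow_add] at hmod
    by_cases hqp : q = p
    · subst hqp
      have : n.factorization q = 0 := Nat.factorization_eq_zero_of_not_dvd fun h =>
        hcop (h.trans ⟨_, (mul_comm _ _).trans hn |>.symm⟩)
      rw [this, pow_zero]
      exact Nat.one_mod_eq_one.2 hp.ne_one
    · have h1 : p.gcd (q ^ (Nat.card C).factorization q) = 1 :=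
        ((Nat.coprime_primes hp hq).2 (Ne.symm hqp)).pow_right _
      have h2 : q ^ n.factorization q ≡ 1 [MOD p] :=
        Nat.ModEq.cancel_left_of_coprime h1 (by rwa [mul_one])
      rw [h2, Nat.one_mod_eq_one]
      exact hp.ne_one
  refine ⟨n.primeFactors.toList.map fun q => q ^ n.factorization q, ?_, ?_⟩
  · rw [Finset.prod_map_toList]
    exact Nat.prod_factorization_pow_eq_self hn0
  · intro m hm
    obtain ⟨q, hq, rfl⟩ := List.mem_map.1 hm
    rw [Finset.mem_toList, Nat.mem_primeFactors] at hq
    exact ⟨hq.1.isPrimePow.pow (hq.1.factorization_pos_of_dvd hn0 hq.2.1).ne', hfac q hq.1⟩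

end CfsgLib.PGroup.SylowNum
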