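import Cfsg.Agent.Lib.PGroup.OrbitQuaternion

/-!
# Normal 2-complements from a cyclic subgroup of index two in a Sylow 2-subgroup
-/

set_option autoImplicit false
set_option linter.style.haveILetI false
set_option linter.unusedSectionVars false

namespace CfsgLib.PGroup

open Subgroup

universe u

variable {G : Type u} [Group G] [Finite G]

/-- A group of order prime to 3 whose Sylow 2-subgroup has a cyclic subgroup of index at most two
has a normal 2-complement. -/
theorem hasNormalPComplement_of_cyclic_index_two (P : Sylow 2 G) (C : Subgroup G) [IsCyclic C]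
    (hC : ∀ x ∈ (P : Subgroup G), ∀ y ∈ (P : Subgroup G), x ∉ C → y ∉ C → x⁻¹ * y ∈ C)
    (h3 : ¬ 3 ∣ Nat.card G) : Cfsg.HasNormalPComplement 2 G := by
  classical
  haveI : Fact (Nat.Prime 2) := ⟨Nat.prime_two⟩
  refine Fusion.hasNormalPComplement_of_locallyPNilpotentAction P ?_
  intro T hT g hg hcop
  have hT2 : IsPGroup 2 T := P.2.to_le hT
  set s : MulAut T := T.normalizerMonoidHom ⟨g, hg⟩
  set m := orderOf g with hm
  have hodd : Odd m := Nat.coprime_two_right.1 hcop
  have hs : s ^ m = 1 := by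
    rw [← map_pow,
      show (⟨g, hg⟩ : Subgroup.normalizer (T : Set G)) ^ m = 1 from
        Subtype.ext (pow_orderOf_eq_one g), map_one]
  suffices s = 1 by
    refine Fusion.mem_centralizer_iff'.2 fun x hx => ?_
    exact congrArg Subtype.val (DFunLike.congr_fun this ⟨x, hx⟩)
  set K : Subgroup T := C.subgroupOf T
  let ι : K →* C := MonoidHom.mk' (fun k => ⟨((k : T) : G), k.2⟩) fun _ _ => rfl
  have hιi : Function.Injective ι := fun a b h => by
    refine Subtype.ext (Subtype.ext ?_)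
    exact congrArg (fun x : C => (x : G)) h
  haveI : IsCyclic K := isCyclic_of_injective ι hιi
  by_cases hK : K = ⊤
  · haveI : IsCyclic T :=
      isCyclic_of_surjective K.subtype fun x => ⟨⟨x, hK ▸ Subgroup.mem_top x⟩, rfl⟩
    exact Invol.aut_eq_one_of_cyclic_two_group hT2 s hodd hs
  obtain ⟨q₀, hq₀⟩ : ∃ q₀, q₀ ∉ K := by
    by_contra hcon
    push Not at hcon
    exact hK (eq_top_iff.2 fun x _ => hcon x)
  have hK2 : ∀ x y : T, x ∉ K → y ∉ K → x⁻¹ * y ∈ K := fun x y hx hy =>
    hC x (hT x.2) y (hT y.2) hx hy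
  have hKi : K.index = 2 := by
    refine Subgroup.index_eq_two_iff_exists_notMem_and'.2 ⟨q₀, hq₀, fun b => ?_⟩
    by_cases hb : b ∈ K
    · exact Or.inr hb
    · left
      have h1 := hK2 q₀⁻¹ b (fun h => hq₀ (inv_mem_iff.1 h)) hb
      rwa [inv_inv] at h1
  obtain ⟨k₀, hk₀⟩ := IsCyclic.exists_generator (α := K)
  have hgen : Subgroup.closure ({(k₀ : T), q₀} : Set T) = ⊤ := by
    refine top_le_iff.1 fun x _ => ?_
    have hKle : ∀ y ∈ K, y ∈ Subgroup.closure ({(k₀ : T), q₀} : Set T) := by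
      intro y hy
      obtain ⟨i, hi⟩ := Subgroup.mem_zpowers_iff.1 (hk₀ ⟨y, hy⟩)
      have hy' : y = (k₀ : T) ^ i := by rw [← Subgroup.coe_zpow, hi]
      rw [hy']
      exact zpow_mem (Subgroup.subset_closure (by simp)) i
    by_cases hx : x ∈ K
    · exact hKle x hx
    · have h1 := mul_mem (Subgroup.subset_closure (by simp : q₀ ∈ ({(k₀ : T), q₀} : Set T)))
        (hKle _ (hK2 q₀ x hq₀ hx))
      rwa [mul_inv_cancel_left] at h1
  have hm6 : m.Coprime 6 := by
    rw [show (6 : ℕ) = 2 * 3 from rfl]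
    refine Nat.Coprime.mul_right hodd.coprime_two_right ?_
    exact ((Nat.prime_three.coprime_iff_not_dvd).2
      fun h => h3 (h.trans (orderOf_dvd_natCard g))).symm
  have hfixK := Orbit.map_eq_of_coprime_six s hm6 hs hKi hgen
  let τK : MulAut K := (s.subgroupMap K).trans (MulEquiv.subgroupCongr hfixK)
  have hτK : ∀ (l : ℕ) (k : K), ((τK ^ l) k : T) = (s ^ l) k := by
    intro l
    induction l with
    | zero => intro k; rfl
    | succ l ih =>
      intro k
      rw [pow_succ', pow_succ', MulAut.mul_apply, MulAut.mul_apply, ← ih]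
      rfl
  have hτ1 : τK = 1 := Invol.aut_eq_one_of_cyclic_two_group (hT2.to_subgroup K) τK hodd
    (MulEquiv.ext fun k => Subtype.ext (by rw [hτK, hs]; rfl))
  refine Invol.aut_eq_one_of_fix_index_two hT2 s hodd hs K hK2 fun k hk => ?_
  have := hτK 1 ⟨k, hk⟩
  rw [pow_one, pow_one, hτ1] at this
  exact this.symm

/-- Order form: `|G| = 2 ^ a * n` with an element of order `2 ^ (a - 1)`. -/
theorem exists_normal_card_of_orderOf {a n : ℕ} (hG : Nat.card G = 2 ^ a * n) (hn : Odd n)
    (h3 : ¬ 3 ∣ n) {x : G} (hx : orderOf x = 2 ^ (a - 1)) :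
    ∃ N : Subgroup G, N.Normal ∧ Nat.card N = n := by
  haveI : Fact (Nat.Prime 2) := ⟨Nat.prime_two⟩
  have hp : IsPGroup 2 (Subgroup.zpowers x) :=
    IsPGroup.of_card (n := a - 1) (by rw [Nat.card_zpowers, hx])
  obtain ⟨P, hP⟩ := hp.exists_le_sylow
  have hn2 : ¬ 2 ∣ n := fun h => Nat.not_even_iff_odd.2 hn (even_iff_two_dvd.2 h)
  obtain ⟨j, hj⟩ := IsPGroup.iff_card.1 P.2
  have hcardP : Nat.card (P : Subgroup G) = 2 ^ a := by
    rw [P.card_eq_multiplicity, hG]
    congr 1
    rw [Nat.factorization_mul (by positivity) hn.pos.ne', Finsupp.add_apply,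
      Nat.factorization_pow_self Nat.prime_two, Nat.factorization_eq_zero_of_not_dvd hn2, add_zero]
  have hrel : ((Subgroup.zpowers x).subgroupOf (P : Subgroup G)).index ∣ 2 := by
    have h := ((Subgroup.zpowers x).subgroupOf (P : Subgroup G)).card_mul_index
    rw [Nat.card_congr (subgroupOfEquivOfLe hP).toEquiv, Nat.card_zpowers, hx, hcardP] at h
    rcases Nat.eq_zero_or_pos a with rfl | ha
    · rw [Nat.zero_sub, pow_zero, one_mul] at h
      rw [h]; exact one_dvd 2
    · obtain ⟨b, rfl⟩ : ∃ b, a = b + 1 := ⟨a - 1, by omega⟩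
      rw [Nat.add_sub_cancel, pow_succ] at h
      rw [Nat.eq_of_mul_eq_mul_left (by positivity) h]
  haveI : IsCyclic (Subgroup.zpowers x) := inferInstance
  have h3G : ¬ 3 ∣ Nat.card G := by
    rw [hG, Nat.prime_three.dvd_mul]
    exact not_or.2 ⟨fun h => absurd ((Nat.prime_dvd_prime_iff_eq Nat.prime_three Nat.prime_two).1
      (Nat.prime_three.dvd_of_dvd_pow h)) (by norm_num), h3⟩
  obtain ⟨Q, N, hN, hc⟩ := hasNormalPComplement_of_cyclic_index_two P (Subgroup.zpowers x)
    (fun u hu v hv hu' hv' => by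
      rcases (Nat.dvd_prime Nat.prime_two).1 hrel with h1 | h2
      · exact absurd ((Subgroup.index_eq_one.1 h1).ge (Subgroup.mem_top ⟨u, hu⟩)) hu'
      · have := (Subgroup.mul_mem_iff_of_index_two h2 (a := (⟨u, hu⟩ : (P : Subgroup G))⁻¹)
          (b := ⟨v, hv⟩)).2 (iff_of_false (fun h => hu' (inv_mem_iff.1 h)) hv')
        exact this) h3G
  refine ⟨N, hN, ?_⟩
  have h := hc.card_mul_card
  rw [show Nat.card (Q : Subgroup G) = 2 ^ a by
    rw [Q.card_eq_multiplicity, ← P.card_eq_multiplicity, hcardP], hG, mul_comm] at h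
  exact Nat.eq_of_mul_eq_mul_left (by positivity) h

end CfsgLib.PGroup
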