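import Cfsg.Prelude.Def_SolvableStructure
import Cfsg.Agent.Lib.PGroup.Basic
import Mathlib.GroupTheory.SpecificGroups.Cyclic
import Mathlib.GroupTheory.Solvable

/-!
Counting solutions of `x ^ d = 1` in supersolvable groups; a group with the same counts has a Sylow tower.
-/

set_option linter.style.haveILetI false

namespace CfsgLib.PGroup

open Subgroup

universe u v

/-- `d` is the part of `n` made of its largest primes. -/
def IsTallPart (d n : ℕ) : Prop :=
  d ∣ n ∧ ∀ q r : ℕ, q.Prime → r.Prime → q ∣ d → r ∣ n / d → r < q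

/-- Solution counts as in a group with a Sylow tower of supersolvable type. -/
def HasTallCounts (G : Type u) [Group G] : Prop :=
  ∀ d : ℕ, IsTallPart d (Nat.card G) → Nat.card {x : G // x ^ d = 1} = d

theorem IsTallPart.coprime {d n : ℕ} (h : IsTallPart d n) : d.Coprime (n / d) :=
  Nat.coprime_of_dvd fun r hr h1 h2 => lt_irrefl r (h.2 r r hr hr h1 h2)

theorem IsTallPart.of_same_div {d d' n n' : ℕ} (h : IsTallPart d n) (hd : d' ∣ d) (hn : d' ∣ n')
    (he : n' / d' = n / d) : IsTallPart d' n' :=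
  ⟨hn, fun q r hq hr h1 h2 => h.2 q r hq hr (h1.trans hd) (he ▸ h2)⟩

section
variable {G : Type u} [Group G]

theorem card_quotient_preimage [Finite G] (N : Subgroup G) [N.Normal] (P : G ⧸ N → Prop) :
    Nat.card {x : G // P (x : G ⧸ N)} = Nat.card N * Nat.card {y : G ⧸ N // P y} :=
  QuotientGroup.card_preimage_mk N {y | P y}

theorem pow_eq_one_of_pow_mul {H : Type v} [Group H] [Finite H] {y : H} {a b : ℕ}
    (h : y ^ (a * b) = 1) (hc : (Nat.card H).Coprime a) : y ^ b = 1 := by
  refine orderOf_dvd_iff_pow_eq_one.1 ?_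
  exact ((hc.coprime_dvd_left (orderOf_dvd_natCard y))).dvd_of_dvd_mul_left
    (orderOf_dvd_iff_pow_eq_one.2 h)

/-- An element whose order is prime to `q - 1` centralizes a normal subgroup of prime order `q`. -/
theorem commute_of_prime_order_normal [Finite G] {Q : Subgroup G} [Q.Normal] {q : ℕ} (hq : q.Prime)
    (hQ : Nat.card Q = q) {x : G} {d : ℕ} (hx : x ^ d = 1) (hd : d.Coprime (q - 1))
    {z : G} (hz : z ∈ Q) : x * z = z * x := by
  haveI := Fact.mk hq
  haveI : IsCyclic Q := isCyclic_of_prime_card hQ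
  set φ := MulAut.conjNormal (H := Q) with hφ
  have h1 : orderOf (φ x) ∣ d := orderOf_dvd_iff_pow_eq_one.2 (by rw [← map_pow, hx, map_one])
  have h2 : orderOf (φ x) ∣ q - 1 := by
    have := orderOf_dvd_natCard (φ x)
    rwa [IsCyclic.card_mulAut, hQ, Nat.totient_prime hq] at this
  have h3 : φ x = 1 := orderOf_eq_one_iff.1 (Nat.eq_one_of_dvd_coprimes hd h1 h2)
  have h4 : x * z * x⁻¹ = z := by
    have := congrArg (fun f : MulAut Q => ((f ⟨z, hz⟩ : Q) : G)) h3
    simpa [hφ, MulAut.conjNormal_apply] using this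
  exact mul_inv_eq_iff_eq_mul.1 h4

theorem isSupersolvable_quotient (h : Cfsg.IsSupersolvable G) (N : Subgroup G) [N.Normal] :
    Cfsg.IsSupersolvable (G ⧸ N) := by
  obtain ⟨n, H, h0, h1, hn, hs⟩ := h
  have hsur : Function.Surjective (QuotientGroup.mk' N) := QuotientGroup.mk'_surjective N
  refine ⟨n, fun i => (H i).map (QuotientGroup.mk' N), by simp [h0],
    by simp [h1, ← MonoidHom.range_eq_map, MonoidHom.range_eq_top.2 hsur],
    fun i => (hn i).map _ hsur, fun i => ?_⟩
  obtain ⟨g, hg⟩ := hs i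
  exact ⟨QuotientGroup.mk' N g, by simp only [hg, Subgroup.map_sup, MonoidHom.map_zpowers]⟩

theorem exists_normal_prime_order [Finite G] [Nontrivial G] (h : Cfsg.IsSupersolvable G) :
    ∃ Q : Subgroup G, Q.Normal ∧ (Nat.card Q).Prime := by
  obtain ⟨n, H, h0, h1, hn, hs⟩ := h
  have key : ∃ g : G, g ≠ 1 ∧ (zpowers g).Normal := by
    by_contra hc
    push_neg at hc
    have : ∀ i, H i = ⊥ := by
      intro i
      induction i using Fin.induction with
      | zero => exact h0
      | succ i ih =>
        obtain ⟨g, hg⟩ := hs i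
        rw [ih, bot_sup_eq] at hg
        by_cases hg1 : g = 1
        · simp [hg, hg1]
        · exact absurd (hg ▸ hn i.succ) (hc g hg1)
    exact bot_ne_top (α := Subgroup G) ((this _).symm.trans h1)
  obtain ⟨g, hg1, hgn⟩ := key
  obtain ⟨q, hq, hqd⟩ := Nat.exists_prime_and_dvd (mt orderOf_eq_one_iff.1 hg1)
  refine ⟨zpowers (g ^ (orderOf g / q)), ⟨fun x hx h => ?_⟩, ?_⟩
  · obtain ⟨k, rfl⟩ := mem_zpowers_iff.1 hx
    obtain ⟨m, hm⟩ := mem_zpowers_iff.1 (hgn.conj_mem g (mem_zpowers g) h)
    rw [← conj_zpow, ← conj_pow, ← hm]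
    refine zpow_mem (mem_zpowers_iff.2 ⟨m, ?_⟩) _
    rw [← zpow_natCast, ← zpow_natCast, ← zpow_mul, ← zpow_mul, mul_comm]
  · rw [Nat.card_zpowers, orderOf_pow_of_dvd ?_ (Nat.div_dvd_of_dvd hqd),
      Nat.div_div_self hqd (orderOf_pos g).ne']
    · exact hq
    · exact (Nat.div_pos (Nat.le_of_dvd (orderOf_pos g) hqd) hq.pos).ne'

end

theorem hasTallCounts_of_isSupersolvable : ∀ (G : Type u) [Group G] [Finite G],
    Cfsg.IsSupersolvable G → HasTallCounts G := by
  intro G
  induction hn : Nat.card G using Nat.strong_induction_on generalizing G with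
  | _ n ih =>
    intro _ _ hG d hd
    rcases subsingleton_or_nontrivial G with hs | hs
    · have h1 : d = 1 := Nat.eq_one_of_dvd_one (Nat.card_of_subsingleton (1 : G) ▸ hd.1)
      subst h1
      exact Nat.card_eq_one_iff_unique.2 ⟨inferInstance, ⟨⟨1, by simp⟩⟩⟩
    obtain ⟨Q, hQn, hQp⟩ := exists_normal_prime_order hG
    obtain ⟨q, hQ⟩ : ∃ q, Nat.card Q = q := ⟨_, rfl⟩
    rw [hQ] at hQp
    have hq := hQp
    haveI := Fact.mk hq
    have hmul : Nat.card G = Nat.card (G ⧸ Q) * q := by rw [← hQ]; exact card_eq_card_quotient_mul_card_subgroup Q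
    have hlt : Nat.card (G ⧸ Q) < n := by
      rw [← hn, hmul]; exact lt_mul_of_one_lt_right Nat.card_pos hq.one_lt
    have hK := ih _ hlt (G ⧸ Q) rfl (isSupersolvable_quotient hG Q)
    set m := Nat.card (G ⧸ Q) with hm
    obtain ⟨c, hc⟩ := hd.1
    have hdpos : 0 < d := Nat.pos_of_ne_zero (by rintro rfl; simp [Nat.card_pos.ne'] at hc)
    have hdiv : Nat.card G / d = c := by rw [hc]; exact Nat.mul_div_cancel_left c hdpos
    have hcop : d.Coprime c := hdiv ▸ hd.coprime
    by_cases hqd : q ∣ d
    · obtain ⟨e, rfl⟩ := hqd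
      have hme : m = e * c := by
        apply Nat.eq_of_mul_eq_mul_right hq.pos; rw [← hmul, hc]; ring
      have he : 0 < e := pos_of_mul_pos_right hdpos (Nat.zero_le q)
      have hT : IsTallPart e m := hd.of_same_div (dvd_mul_left e q) (hme ▸ dvd_mul_right e c)
        (by rw [hdiv, hme, Nat.mul_div_cancel_left c he])
      have hiff : ∀ x : G, x ^ (q * e) = 1 ↔ (x : G ⧸ Q) ^ e = 1 := by
        intro x
        constructor
        · intro hx
          refine orderOf_dvd_iff_pow_eq_one.1 ?_
          have h1 : orderOf (x : G ⧸ Q) ∣ q * e :=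
            orderOf_dvd_iff_pow_eq_one.2 (by rw [← QuotientGroup.mk_pow, hx, QuotientGroup.mk_one])
          have h2 : orderOf (x : G ⧸ Q) ∣ e * c := hme ▸ orderOf_dvd_natCard _
          have := Nat.dvd_gcd h1 h2
          rwa [mul_comm q e, Nat.gcd_mul_left,
            Nat.coprime_iff_gcd_eq_one.1 (hcop.coprime_dvd_left (dvd_mul_right q e)), mul_one] at this
        · intro hx
          rw [← QuotientGroup.mk_pow, QuotientGroup.eq_one_iff] at hx
          rw [mul_comm, pow_mul, ← hQ]
          exact orderOf_dvd_iff_pow_eq_one.1 (orderOf_dvd_natCard Q hx)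
      rw [Nat.card_congr (Equiv.subtypeEquivRight hiff),
        card_quotient_preimage Q (fun y => y ^ e = 1), hQ, hK e hT]
    · have hqc : q ∣ c :=
        (hq.dvd_mul.1 (hc ▸ hmul ▸ dvd_mul_left q m)).resolve_left hqd
      obtain ⟨c', rfl⟩ := hqc
      have hmd : m = d * c' := by
        apply Nat.eq_of_mul_eq_mul_right hq.pos; rw [← hmul, hc]; ring
      have hT : IsTallPart d m := ⟨hmd ▸ dvd_mul_right d c', fun q' r hq' hr h1 h2 => hd.2 q' r hq' hr h1
        (by rw [hdiv]; rw [hmd, Nat.mul_div_cancel_left c' hdpos] at h2; exact dvd_mul_of_dvd_right h2 q)⟩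
      have hqlt : ∀ r, r.Prime → r ∣ d → q < r := fun r hr hrd =>
        hd.2 r q hr hq hrd (hdiv ▸ dvd_mul_right q c')
      have hdq1 : d.Coprime (q - 1) := Nat.coprime_of_dvd fun r hr h1 h2 => by
        have := hqlt r hr h1
        have := Nat.le_of_dvd (Nat.sub_pos_of_lt hq.one_lt) h2
        omega
      have hdq : d.Coprime q := ((hq.coprime_iff_not_dvd).2 hqd).symm
      refine Eq.trans (Nat.card_eq_of_bijective
        (fun x : {x : G // x ^ d = 1} => (⟨(x : G), by
          rw [← QuotientGroup.mk_pow, x.2, QuotientGroup.mk_one]⟩ : {y : G ⧸ Q // y ^ d = 1}))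
        ⟨?_, ?_⟩) (hK d hT)
      · rintro ⟨x, hx⟩ ⟨x', hx'⟩ he
        have he' := QuotientGroup.eq.1 (congrArg Subtype.val he)
        have hcomm := commute_of_prime_order_normal hq hQ hx hdq1 he'
        have hz : (x⁻¹ * x') ^ d = 1 := by
          have h5 : x' ^ d = x ^ d * (x⁻¹ * x') ^ d := by
            rw [← Commute.mul_pow hcomm]; simp
          rw [hx, hx', one_mul] at h5
          exact h5.symm
        have hone : orderOf (x⁻¹ * x') = 1 :=
          Nat.eq_one_of_dvd_coprimes hdq (orderOf_dvd_iff_pow_eq_one.2 hz) (hQ ▸ orderOf_dvd_natCard Q he')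
        exact Subtype.ext (inv_mul_eq_one.1 (orderOf_eq_one_iff.1 hone))
      · rintro ⟨y, hy⟩
        obtain ⟨x, rfl⟩ := QuotientGroup.mk_surjective y
        obtain ⟨u, hu⟩ : ∃ u, q * u ≡ 1 [MOD d] := by
          refine ⟨q ^ (d.totient - 1), ?_⟩
          rw [← pow_succ', Nat.sub_add_cancel (Nat.totient_pos.2 hdpos)]
          exact Nat.ModEq.pow_totient hdq.symm
        have hxd : x ^ d ∈ Q := by rwa [← QuotientGroup.eq_one_iff, QuotientGroup.mk_pow]
        refine ⟨⟨x ^ (q * u), ?_⟩, Subtype.ext ?_⟩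
        · rw [← pow_mul, show q * u * d = d * q * u by ring, pow_mul, pow_mul, ← hQ,
            orderOf_dvd_iff_pow_eq_one.1 (orderOf_dvd_natCard Q hxd), one_pow]
        · have hmod : q * u ≡ 1 [MOD orderOf (x : G ⧸ Q)] :=
            hu.of_dvd (orderOf_dvd_iff_pow_eq_one.2 hy)
          simpa [QuotientGroup.mk_pow] using (pow_eq_pow_iff_modEq.2 hmod)

theorem isSolvable_of_hasTallCounts : ∀ (G : Type u) [Group G] [Finite G],
    HasTallCounts G → Group.IsSolvable G := by
  intro G
  induction hn : Nat.card G using Nat.strong_induction_on generalizing G with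
  | _ n ih =>
    intro _ _ hG
    rcases subsingleton_or_nontrivial G with hs | hs
    · infer_instance
    have hne : (Nat.card G).primeFactors.Nonempty :=
      Nat.nonempty_primeFactors.2 Finite.one_lt_card
    set p := (Nat.card G).primeFactors.max' hne with hpdef
    have hp : p.Prime := Nat.prime_of_mem_primeFactors (Finset.max'_mem _ _)
    have hpn : p ∣ Nat.card G := Nat.dvd_of_mem_primeFactors (Finset.max'_mem _ _)
    haveI := Fact.mk hp
    let P : Sylow p G := Classical.arbitrary _
    set d := Nat.card (P : Subgroup G) with hd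
    have hdn : d * (P : Subgroup G).index = Nat.card G := card_mul_index _
    have hdiv : Nat.card G / d = (P : Subgroup G).index := by
      rw [← hdn]; exact Nat.mul_div_cancel_left _ Nat.card_pos
    obtain ⟨k, hk⟩ := IsPGroup.iff_card.1 P.2
    have hTd : IsTallPart d (Nat.card G) := by
      refine ⟨Dvd.intro _ hdn, fun q r hq hr h1 h2 => ?_⟩
      rw [hdiv] at h2
      have hqp : q = p := (Nat.prime_dvd_prime_iff_eq hq hp).1 (hq.dvd_of_dvd_pow (n := k) (by rw [← hk]; exact h1))
      have hrn : r ∈ (Nat.card G).primeFactors :=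
        Nat.mem_primeFactors.2 ⟨hr, h2.trans (hdn ▸ dvd_mul_left _ _), Nat.card_pos.ne'⟩
      rw [hqp]
      refine lt_of_le_of_ne (Finset.le_max' _ r hrn) ?_
      rintro rfl; exact P.not_dvd_index h2
    have hset : ((P : Subgroup G) : Set G) = {x : G | x ^ d = 1} := by
      refine Set.eq_of_subset_of_ncard_le
        (fun x hx => orderOf_dvd_iff_pow_eq_one.1 (orderOf_dvd_natCard (P : Subgroup G) hx)) ?_ (Set.toFinite _)
      rw [← Nat.card_coe_set_eq, ← Nat.card_coe_set_eq]
      exact (hG d hTd).le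
    haveI hPn : (P : Subgroup G).Normal := ⟨fun x hx g => by
      have hx' : x ^ d = 1 := (Set.ext_iff.1 hset x).1 hx
      exact (Set.ext_iff.1 hset _).2 (show (g * x * g⁻¹) ^ d = 1 by rw [conj_pow, hx']; group)⟩
    have hidx : Nat.card (G ⧸ (P : Subgroup G)) = (P : Subgroup G).index := rfl
    have hcop : (Nat.card (G ⧸ (P : Subgroup G))).Coprime d := by
      rw [hidx, ← hdiv]; exact hTd.coprime.symm
    have hlt : Nat.card (G ⧸ (P : Subgroup G)) < n := by
      rw [hidx, ← hn, ← hdn]
      refine lt_mul_of_one_lt_left (Nat.pos_of_ne_zero index_ne_zero_of_finite) ?_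
      exact Nat.lt_of_lt_of_le hp.one_lt (Nat.le_of_dvd Nat.card_pos (P.dvd_card_of_dvd_card hpn))
    have hK : HasTallCounts (G ⧸ (P : Subgroup G)) := by
      intro e he
      rw [hidx] at he
      obtain ⟨c, hc⟩ := he.1
      have hepos : 0 < e :=
        Nat.pos_of_ne_zero (by rintro rfl; simp [index_ne_zero_of_finite] at hc)
      have hdiv2 : Nat.card G / (d * e) = c := by
        rw [← hdn, hc, ← mul_assoc]; exact Nat.mul_div_cancel_left _ (Nat.mul_pos Nat.card_pos hepos)
      have hT : IsTallPart (d * e) (Nat.card G) := by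
        refine ⟨⟨c, by rw [← hdn, hc]; ring⟩, fun q r hq hr h1 h2 => ?_⟩
        rw [hdiv2] at h2
        rcases hq.dvd_mul.1 h1 with h | h
        · exact hTd.2 q r hq hr h (by rw [hdiv, hc]; exact dvd_mul_of_dvd_right h2 e)
        · exact he.2 q r hq hr h (by rw [hc, Nat.mul_div_cancel_left _ hepos]; exact h2)
      have hiff : ∀ x : G, x ^ (d * e) = 1 ↔ (x : G ⧸ (P : Subgroup G)) ^ e = 1 := by
        intro x
        constructor
        · intro hx
          exact pow_eq_one_of_pow_mul (by rw [← QuotientGroup.mk_pow, hx, QuotientGroup.mk_one]) hcop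
        · intro hx
          rw [← QuotientGroup.mk_pow, QuotientGroup.eq_one_iff] at hx
          rw [mul_comm, pow_mul]
          exact orderOf_dvd_iff_pow_eq_one.1 (orderOf_dvd_natCard (P : Subgroup G) hx)
      have h2 := hG (d * e) hT
      rw [Nat.card_congr (Equiv.subtypeEquivRight hiff),
        card_quotient_preimage _ (fun y => y ^ e = 1)] at h2
      exact Nat.eq_of_mul_eq_mul_left Nat.card_pos h2
    haveI := ih _ hlt _ rfl hK
    haveI : Group.IsNilpotent (P : Subgroup G) := P.2.isNilpotent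
    exact Group.isSolvable_of_ker_le_range (P : Subgroup G).subtype
      (QuotientGroup.mk' (P : Subgroup G)) (by simp)

/-- Equal numbers of elements of each order give an order preserving bijection. -/
noncomputable def equivOfSameOrderType {G : Type u} {H : Type v} [Group G] [Finite G] [Group H] [Finite H]
    (hT : ∀ m : ℕ, Nat.card {g : G // orderOf g = m} = Nat.card {h : H // orderOf h = m}) : G ≃ H :=
  Equiv.ofFiberEquiv (f := fun g : G => orderOf g) (g := fun h : H => orderOf h)
    fun m => ((Finite.card_eq.1 (hT m)).some)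

theorem orderOf_equivOfSameOrderType {G : Type u} {H : Type v} [Group G] [Finite G] [Group H] [Finite H]
    (hT : ∀ m : ℕ, Nat.card {g : G // orderOf g = m} = Nat.card {h : H // orderOf h = m}) (g : G) :
    orderOf (equivOfSameOrderType hT g) = orderOf g :=
  Equiv.ofFiberEquiv_map (f := fun g : G => orderOf g) (g := fun h : H => orderOf h) _ g

theorem card_pow_eq_one_eq_of_sameOrderType {G : Type u} {H : Type v} [Group G] [Finite G] [Group H] [Finite H]
    (hT : ∀ m : ℕ, Nat.card {g : G // orderOf g = m} = Nat.card {h : H // orderOf h = m}) (n : ℕ) :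
    Nat.card {g : G // g ^ n = 1} = Nat.card {h : H // h ^ n = 1} :=
  Nat.card_congr (Equiv.subtypeEquiv (equivOfSameOrderType hT) fun g => by
    simp only [← orderOf_dvd_iff_pow_eq_one, orderOf_equivOfSameOrderType])

end CfsgLib.PGroup
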