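import Cfsg.Agent.Lib.PGroup.Basic
import Cfsg.Agent.Lib.Fusion.Hall
import Mathlib.GroupTheory.SchurZassenhaus

/-!
Herstein: a finite group with an abelian maximal subgroup is solvable.
-/

set_option linter.style.haveILetI false

namespace CfsgLib.PGroup

open Subgroup
open CfsgLib.Fusion (conjBy NoExtraFusion)

universe u

variable {G : Type u} [Group G]

theorem isSolvable_of_normal_abelian_coatom (M : Subgroup G) [M.Normal] (hM : IsCoatom M)
    [IsMulCommutative M] : Group.IsSolvable G := by
  obtain ⟨g, hg⟩ : ∃ g, g ∉ M := by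
    by_contra h
    push Not at h
    exact hM.1 (eq_top_iff.2 fun x _ => h x)
  have htop : M ⊔ zpowers g = ⊤ := hM.2 _ (lt_of_le_of_ne le_sup_left fun h =>
    hg (h ▸ (le_sup_right : zpowers g ≤ M ⊔ zpowers g) (mem_zpowers g)))
  have key : ∀ x : G, ∃ k : ℤ, ((g ^ k : G) : G ⧸ M) = (x : G ⧸ M) := by
    intro x
    have hx : x ∈ M ⊔ zpowers g := htop ▸ mem_top x
    rw [mem_sup_of_normal_left] at hx
    obtain ⟨m, hm, y, ⟨k, rfl⟩, rfl⟩ := hx
    exact ⟨k, by rw [QuotientGroup.mk_mul, (QuotientGroup.eq_one_iff m).2 hm, one_mul]⟩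
  haveI : Group.IsSolvable (G ⧸ M) := by
    refine Group.isSolvable_of_comm fun a b => ?_
    obtain ⟨x, rfl⟩ := QuotientGroup.mk_surjective a
    obtain ⟨y, rfl⟩ := QuotientGroup.mk_surjective b
    obtain ⟨i, hi⟩ := key x
    obtain ⟨j, hj⟩ := key y
    rw [← hi, ← hj, ← QuotientGroup.mk_mul, ← QuotientGroup.mk_mul, zpow_mul_comm]
  haveI : Group.IsSolvable M := Group.isSolvable_of_comm fun a b => mul_comm' a b
  exact Group.isSolvable_of_ker_le_range M.subtype (QuotientGroup.mk' M)
    (by rw [QuotientGroup.ker_mk', range_subtype])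

/-- The core-free case: the group is `K ⋊ M` with `K` nilpotent. -/
theorem isSolvable_of_abelian_coatom_corefree [Finite G] (M : Subgroup G) (hM : IsCoatom M)
    [hMc : IsMulCommutative M] (hcore : M.normalCore = ⊥) : Group.IsSolvable G := by
  by_cases hMn : M.Normal
  · exact isSolvable_of_normal_abelian_coatom M hM
  have hself : normalizer (M : Set G) = M := by
    refine ((le_normalizer (H := M)).lt_or_eq.resolve_left fun h => hMn ?_).symm
    exact normalizer_eq_top_iff.1 (hM.2 _ h)
  -- trivial intersection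
  have hTI : ∀ g x : G, x ∈ M → g * x * g⁻¹ ∈ M → x = 1 ∨ g ∈ M := by
    intro g x hx hy
    by_cases hg : g ∈ M
    · exact Or.inr hg
    left
    have hne : conjBy g⁻¹ M ≠ M := fun h => hg (hself ▸ (by
      have := CfsgLib.Fusion.conjBy_eq_iff.1 h
      simpa using inv_mem this))
    have hsup : M ⊔ conjBy g⁻¹ M = ⊤ := by
      refine hM.2 _ (lt_of_le_of_ne le_sup_left fun h => ?_)
      exact hne (CfsgLib.Fusion.conjBy_eq_of_le (le_sup_right.trans h.ge))
    have hxc : conjBy g⁻¹ M ≤ centralizer ({x} : Set G) := by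
      intro a ha
      rw [mem_centralizer_singleton_iff]
      have h2 : x ∈ conjBy g⁻¹ M := CfsgLib.Fusion.mem_conjBy.2 (by simpa using hy)
      haveI : IsMulCommutative (conjBy g⁻¹ M) := map_isMulCommutative _ _
      exact congrArg Subtype.val (mul_comm' (⟨a, ha⟩ : conjBy g⁻¹ M) ⟨x, h2⟩)
    have hxc' : M ≤ centralizer ({x} : Set G) := fun a ha => mem_centralizer_singleton_iff.2
      (congrArg Subtype.val (mul_comm' (⟨a, ha⟩ : M) ⟨x, hx⟩))
    have htop : ∀ a : G, a * x = x * a := fun a =>
      mem_centralizer_singleton_iff.1 (sup_le hxc' hxc (hsup ▸ mem_top a))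
    have : x ∈ M.normalCore := fun a => by rw [htop a, mul_inv_cancel_right]; exact hx
    rwa [hcore, mem_bot] at this
  -- Hall
  have hHall : (Nat.card M).Coprime M.index := by
    refine Nat.coprime_of_dvd fun p hp hd1 hd2 => ?_
    haveI := Fact.mk hp
    let P : Sylow p M := Classical.arbitrary _
    have hPM : (P : Subgroup M).map M.subtype ≤ M := map_subtype_le _
    set P0 := (P : Subgroup M).map M.subtype with hP0
    have hP1 : P0 ≠ ⊥ := by
      rw [hP0, Ne, map_eq_bot_iff_of_injective _ M.subtype_injective]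
      exact P.ne_bot_of_dvd_card hd1
    obtain ⟨x, hxP, hx1⟩ := (bot_or_exists_ne_one P0).resolve_left hP1
    have hN : normalizer (P0 : Set G) = M := by
      refine le_antisymm (fun g hg => ?_) ?_
      · exact (hTI g x (hPM hxP) (hPM ((mem_normalizer_iff.1 hg x).1 hxP))).resolve_left hx1
      · refine le_trans ?_ (centralizer_le_normalizer _)
        exact fun a ha => mem_centralizer_iff.2 fun w hw =>
          congrArg Subtype.val (mul_comm' (⟨w, hPM hw⟩ : M) ⟨a, ha⟩)
    obtain ⟨n, hn⟩ := (P.2.map M.subtype).exists_card_eq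
    have hmod := Sylow.card_quotient_normalizer_modEq_card_quotient hn
    have e : Nat.card (normalizer (P0 : Set G) ⧸ P0.comap (normalizer (P0 : Set G)).subtype)
        = P0.relIndex M := by
      conv_rhs => rw [← hN]
      rfl
    rw [e] at hmod
    have h1 : ¬ p ∣ P0.relIndex M := by
      rw [hP0, relIndex, subgroupOf, comap_map_eq_self_of_injective M.subtype_injective]
      exact P.not_dvd_index
    refine h1 (Nat.modEq_zero_iff_dvd.1 (hmod.trans (Nat.modEq_zero_iff_dvd.2 ?_)))
    exact hd2.trans (index_dvd_of_le hPM)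
  obtain ⟨K, hK, hKM⟩ := CfsgLib.Fusion.exists_normal_complement_of_nilpotent_hall M
    ((Group.isNilpotent_iff _).2 ⟨1, upperCentralSeries_one_eq_top_iff.2 hMc⟩) hHall (by
      rintro x hx y hy ⟨g, rfl⟩
      rcases hTI g x hx hy with h | h
      · exact ⟨1, one_mem _, by simp [h]⟩
      · exact ⟨g, h, rfl⟩)
  have hco : (Nat.card K).Coprime K.index := by
    rw [hKM.symm.index_eq_card, ← hKM.index_eq_card]
    exact hHall.symm
  have hcomm : ∀ a b : G, a * b * a⁻¹ * b⁻¹ ∈ K := by
    intro a b
    have key : ∀ g : G, ∃ x : M, ((x : G) : G ⧸ K) = (g : G ⧸ K) := by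
      intro g
      have hg : g ∈ K ⊔ M := hKM.sup_eq_top ▸ mem_top g
      rw [mem_sup_of_normal_left] at hg
      obtain ⟨n, hn, x, hx, rfl⟩ := hg
      exact ⟨⟨x, hx⟩, by rw [QuotientGroup.mk_mul, (QuotientGroup.eq_one_iff n).2 hn, one_mul]⟩
    obtain ⟨x, hx⟩ := key a
    obtain ⟨y, hy⟩ := key b
    rw [← QuotientGroup.eq_one_iff]
    simp only [QuotientGroup.mk_mul, QuotientGroup.mk_inv, ← hx, ← hy]
    rw [← QuotientGroup.mk_mul, show (x : G) * (y : G) = (y : G) * (x : G) from
      congrArg Subtype.val (mul_comm' x y), QuotientGroup.mk_mul]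
    group
  -- all Sylow subgroups of `K` are normal in `G`
  have hsyl : ∀ q : ℕ, Fact q.Prime → ∀ Q : Sylow q K, ((Q : Subgroup K).map K.subtype).Normal := by
    intro q _ Q
    set Q0 := (Q : Subgroup K).map K.subtype with hQ0
    by_cases hQ1 : Q0 = ⊥
    · rw [hQ1]; infer_instance
    set L := normalizer (Q0 : Set G) with hL
    have hKL : L ⊔ K = ⊤ := Sylow.normalizer_sup_eq_top Q
    haveI : (K.subgroupOf L).Normal := inferInstance
    have hi : (K.subgroupOf L).index = K.index := by
      rw [← relIndex_top_right K, ← hKL, relIndex_sup_right]; rfl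
    obtain ⟨H', hH'⟩ := exists_right_complement'_of_coprime (N := K.subgroupOf L) (by
      rw [hi]
      exact hco.coprime_dvd_left (card_comap_dvd_of_injective K L.subtype L.subtype_injective))
    set H := H'.map L.subtype with hH
    have hHc : Nat.card H = Nat.card M := by
      rw [hH, card_map_of_injective L.subtype_injective, ← hH'.symm.index_eq_card, hi,
        hKM.symm.index_eq_card]
    have hHab : IsMulCommutative H := by
      refine ⟨⟨fun a b => ?_⟩⟩
      have h1 : ((a * b * a⁻¹ * b⁻¹ : H) : G) ∈ K := hcomm a b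
      obtain ⟨w, hw, hwe⟩ := (a * b * a⁻¹ * b⁻¹ : H).2
      have hw1 : w = 1 := disjoint_def.1 hH'.disjoint (show w ∈ K.subgroupOf L by
        rw [mem_subgroupOf]; exact Eq.mpr (congrArg (· ∈ K) hwe) h1) hw
      have h2 : a * b * a⁻¹ * b⁻¹ = 1 := Subtype.ext (hwe.symm.trans (by rw [hw1]; rfl))
      calc a * b = a * b * a⁻¹ * b⁻¹ * (b * a) := by group
        _ = b * a := by rw [h2, one_mul]
    obtain ⟨k, -, hk⟩ := CfsgLib.Fusion.exists_conj_eq_of_abelian_hall (K := ⊤) (A := M) (B := H)
      le_top le_top hMc hHab hHc.symm (by rw [relIndex_top_right]; exact hHall)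
    have hML : M ≤ conjBy k L := hk.symm.le.trans (CfsgLib.Fusion.conjBy_mono (map_subtype_le _))
    rw [hL, CfsgLib.Fusion.conjBy_normalizer] at hML
    have hne : normalizer (conjBy k Q0 : Set G) ≠ M := by
      intro h
      obtain ⟨x, hx, hx1⟩ := (bot_or_exists_ne_one Q0).resolve_left hQ1
      have h1 : k * x * k⁻¹ ∈ M := h ▸ le_normalizer (CfsgLib.Fusion.conj_mem_conjBy hx)
      have h2 : k * x * k⁻¹ ∈ K := hK.conj_mem _ (map_subtype_le _ hx) k
      exact hx1 (conj_eq_one_iff.1 (disjoint_def.1 hKM.disjoint h2 h1))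
    have htop := hM.2 _ (lt_of_le_of_ne hML hne.symm)
    have hn := normalizer_eq_top_iff.1 htop
    have heq : conjBy k Q0 = Q0 := by
      have hback := CfsgLib.Fusion.conjBy_inv_conjBy k Q0
      have h3 : conjBy k⁻¹ (conjBy k Q0) = conjBy k Q0 := CfsgLib.Fusion.conjBy_eq_iff.2 (htop ▸ mem_top _)
      exact h3.symm.trans hback
    exact heq ▸ hn
  haveI : Group.IsNilpotent K := by
    refine ((Group.isNilpotent_of_finite_tfae (G := K)).out 0 3 rfl rfl).2 ?_
    intro q hq Q
    have := hsyl q hq Q
    rw [← comap_map_eq_self_of_injective K.subtype_injective (Q : Subgroup K)]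
    exact Normal.comap this _
  haveI : Group.IsSolvable (G ⧸ K) := by
    refine Group.isSolvable_of_comm fun a b => ?_
    obtain ⟨x, rfl⟩ := QuotientGroup.mk_surjective a
    obtain ⟨y, rfl⟩ := QuotientGroup.mk_surjective b
    rw [← QuotientGroup.mk_mul, ← QuotientGroup.mk_mul, QuotientGroup.eq, ← QuotientGroup.eq_one_iff]
    have := (QuotientGroup.eq_one_iff (N := K) _).2 (hcomm y⁻¹ x⁻¹)
    simpa [mul_assoc] using this
  exact Group.isSolvable_of_ker_le_range K.subtype (QuotientGroup.mk' K)
    (by rw [QuotientGroup.ker_mk', range_subtype])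

/-- A finite group with an abelian maximal subgroup is solvable. -/
theorem isSolvable_of_abelian_coatom [Finite G] (M : Subgroup G) (hM : IsCoatom M)
    [IsMulCommutative M] : Group.IsSolvable G := by
  let C := M.normalCore
  have hCM : C ≤ M := normalCore_le M
  have hcm : (M.map (QuotientGroup.mk' C)).comap (QuotientGroup.mk' C) = M := by
    rw [comap_map_eq, QuotientGroup.ker_mk', sup_eq_left.2 hCM]
  have hcoatom : IsCoatom (M.map (QuotientGroup.mk' C)) := by
    refine ⟨fun h => hM.1 (by rw [← hcm, h, comap_top]), fun L hL => ?_⟩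
    have h1 : M < L.comap (QuotientGroup.mk' C) := by
      exact hcm.symm.le.trans_lt ((comap_lt_comap_of_surjective (QuotientGroup.mk'_surjective C)).2 hL)
    have := congrArg (Subgroup.map (QuotientGroup.mk' C)) (hM.2 _ h1)
    rwa [map_comap_eq_self_of_surjective (QuotientGroup.mk'_surjective C),
      map_top_of_surjective _ (QuotientGroup.mk'_surjective C)] at this
  haveI : IsMulCommutative (M.map (QuotientGroup.mk' C)) := map_isMulCommutative _ _
  haveI : Group.IsSolvable (G ⧸ C) := by
    refine isSolvable_of_abelian_coatom_corefree _ hcoatom ?_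
    haveI := (M.map (QuotientGroup.mk' C)).normalCore_normal
    have h1 : (M.map (QuotientGroup.mk' C)).normalCore.comap (QuotientGroup.mk' C) ≤ C :=
      (normal_le_normalCore).2 ((comap_mono (normalCore_le _)).trans hcm.le)
    rw [eq_bot_iff, ← map_comap_eq_self_of_surjective (QuotientGroup.mk'_surjective C)
      (M.map (QuotientGroup.mk' C)).normalCore]
    exact (map_mono h1).trans ((Subgroup.map_eq_bot_iff _).2 (by rw [QuotientGroup.ker_mk'])).le
  haveI : IsMulCommutative C := ⟨⟨fun a b => by
    have h := congrArg Subtype.val (mul_comm' (⟨a, hCM a.2⟩ : M) ⟨b, hCM b.2⟩)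
    exact Subtype.ext h⟩⟩
  haveI : Group.IsSolvable C := Group.isSolvable_of_comm fun a b => mul_comm' a b
  exact Group.isSolvable_of_ker_le_range C.subtype (QuotientGroup.mk' C)
    (by rw [QuotientGroup.ker_mk', range_subtype])

end CfsgLib.PGroup
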