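import Mathlib.GroupTheory.PGroup
import Mathlib.GroupTheory.OrderOfElement
import Cfsg.Agent.Lib.PGroup.HallHighman

/-!
An operator of prime order without fixed vectors on a group whose image has class two.
-/

set_option autoImplicit false
set_option linter.style.haveILetI false
set_option linter.unusedSectionVars false

namespace CfsgLib.PGroup

universe u v w

variable {k : Type v} [Field k] [IsAlgClosed k] {W : Type w} [AddCommGroup W] [Module k W]
  [FiniteDimensional k W]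

/-- The nondegenerate case. -/
theorem hh_classTwo_nondeg {R : Type u} [Group R] [Finite R] [Nontrivial W]
    (ρ : R →* Module.End k W) (hE : ClassTwo ρ) (hnd : Nondeg ρ) {r q : ℕ} (hr : r.Prime)
    (hRp : IsPGroup r R) (hrk : (r : k) ≠ 0) (hq : q.Prime) (hqk : (q : k) ≠ 0) (hrq : r ≠ q)
    (σ : R ≃* R) (hσq : ∀ x, σ^[q] x = x) (u : Module.End k W) (huq : u ^ q = 1)
    (hu : ∀ x, u * ρ x = ρ (σ x) * u) (hfix : ∀ w, u w = w → w = 0) :
    (∀ x, ρ (σ x) = ρ x) ∨ ∃ n, r = 2 ∧ q = 2 ^ n + 1 ∧ (∃ e, (scalarSub ρ).index = e * e) ∧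
      ∃ E' : Subgroup R, scalarSub ρ ≤ E' ∧ (scalarSub ρ).relIndex E' = 2 ^ (2 * n) ∧
        ∀ x, x⁻¹ * σ x ∈ E' := by
  classical
  haveI : Fact r.Prime := ⟨hr⟩
  haveI := scalarSub_normal ρ
  obtain ⟨j, hj⟩ := IsPGroup.iff_card.1 hRp
  have hcast : ∀ m : ℕ, m ∣ Nat.card R → (m : k) ≠ 0 := by
    intro m hm
    obtain ⟨i, -, rfl⟩ := (Nat.dvd_prime_pow hr).1 (hj ▸ hm)
    rw [Nat.cast_pow]
    exact pow_ne_zero _ hrk
  obtain ⟨v, hv⟩ : ∃ v : Module.End k W, u * v = 1 :=
    ⟨u ^ (q - 1), by rw [← pow_succ', Nat.sub_add_cancel hq.one_le, huq]⟩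
  have hcancel : ∀ {X Y : Module.End k W}, X * u = Y * u → X = Y := fun {X Y} h => by
    have := congrArg (· * v) h
    simpa [mul_assoc, hv] using this
  have hσc : ∀ x (c : k), ρ x = c • 1 → ρ (σ x) = c • 1 := fun x c hc => hcancel (by
    rw [← hu, hc, mul_smul_comm, mul_one, smul_mul_assoc, one_mul])
  have hmap : (scalarSub ρ).map (σ : R →* R) = scalarSub ρ :=
    Subgroup.eq_of_le_of_card_ge
      (Subgroup.map_le_iff_le_comap.2 fun x ⟨c, hc⟩ => ⟨c, hσc x c hc⟩)
      (Subgroup.card_map_of_injective σ.injective).ge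
  letI : CommGroup (R ⧸ scalarSub ρ) :=
    { QuotientGroup.Quotient.group (scalarSub ρ) with
      mul_comm := fun a b => by
        obtain ⟨x, rfl⟩ := QuotientGroup.mk_surjective a
        obtain ⟨y, rfl⟩ := QuotientGroup.mk_surjective b
        refine (QuotientGroup.eq (s := scalarSub ρ)).2 ?_
        rw [show (x * y)⁻¹ * (y * x) = y⁻¹ * x⁻¹ * (y⁻¹)⁻¹ * (x⁻¹)⁻¹ by group]
        exact hE _ _ }
  let π : R →* R ⧸ scalarSub ρ := QuotientGroup.mk' _
  let θ : (R ⧸ scalarSub ρ) →* (R ⧸ scalarSub ρ) :=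
    (QuotientGroup.congr (scalarSub ρ) (scalarSub ρ) σ hmap).toMonoidHom
  have hθ : ∀ x, θ (π x) = π (σ x) := fun x => rfl
  let δ : (R ⧸ scalarSub ρ) →* (R ⧸ scalarSub ρ) := θ / MonoidHom.id _
  have hδ : ∀ a, δ a = θ a / a := fun a => rfl
  let E' : Subgroup R := δ.range.comap π
  have hDE : scalarSub ρ ≤ E' := fun x hx => ⟨1, by
    rw [map_one]; exact ((QuotientGroup.eq_one_iff x).2 hx).symm⟩
  have hσE : ∀ x, x⁻¹ * σ x ∈ E' := fun x => ⟨π x, by
    rw [hδ, hθ, map_mul, map_inv, inv_mul_eq_div]⟩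
  -- the fixed points are orthogonal to `E'`
  have hchiσ : ∀ y c, chi ρ hE (σ y) (σ c) = chi ρ hE y c := by
    intro y c
    refine smul_rep_inj ρ (x := σ y) (hcancel ?_)
    rw [← chi_spec, ← map_inv σ, ← map_mul σ, ← map_mul σ, ← hu, chi_spec ρ hE, mul_smul_comm, hu,
      smul_mul_assoc]
  have hperp : ∀ x ∈ E', ∀ c, c⁻¹ * σ c ∈ scalarSub ρ → chi ρ hE x c = 1 := by
    intro x hx c hc
    obtain ⟨a, ha⟩ := hx
    obtain ⟨y, rfl⟩ := QuotientGroup.mk'_surjective (scalarSub ρ) a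
    have hd : (σ y * y⁻¹)⁻¹ * x ∈ scalarSub ρ := by
      refine (QuotientGroup.eq (s := scalarSub ρ)).1 (Eq.trans ?_ ha)
      show π (σ y * y⁻¹) = δ (π y)
      rw [hδ, hθ, map_mul, map_inv, div_eq_mul_inv]
    have h1 : chi ρ hE (σ y) c = chi ρ hE y c := by
      have h2 := chi_mul_right ρ hE (σ y) c (c⁻¹ * σ c)
      rw [mul_inv_cancel_left, hchiσ, chi_of_mem_right ρ hE _ hc, mul_one] at h2
      exact h2.symm
    have h3 : chi ρ hE (σ y * y⁻¹) c = 1 := by
      have h4 := chi_mul_left ρ hE y y⁻¹ c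
      rw [mul_inv_cancel, chi_one_left] at h4
      rw [chi_mul_left, h1, ← h4]
    have h5 := chi_mul_left ρ hE (σ y * y⁻¹) ((σ y * y⁻¹)⁻¹ * x) c
    rw [mul_inv_cancel_left, h3, chi_of_mem_left ρ hE hd, mul_one] at h5
    exact h5
  -- `R = E' C`
  have hdecomp : ∀ x, ∃ c, c⁻¹ * σ c ∈ scalarSub ρ ∧ x * c⁻¹ ∈ E' := by
    have hcopM : (Nat.card (R ⧸ scalarSub ρ)).Coprime q := by
      obtain ⟨i, -, hi⟩ := (Nat.dvd_prime_pow hr).1 (hj ▸ (scalarSub ρ).card_quotient_dvd_card)
      rw [hi]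
      exact Nat.Coprime.pow_left i ((Nat.coprime_primes hr hq).2 hrq)
    intro x
    obtain ⟨a, ha⟩ := (powCoprime hcopM).surjective (π x)
    have haq : a ^ q = π x := ha
    have hit : ∀ i : ℕ, θ^[i] a / a ∈ δ.range := by
      intro i
      induction i with
      | zero => rw [Function.iterate_zero_apply, div_self']; exact one_mem _
      | succ i ih =>
        rw [Function.iterate_succ_apply', ← div_mul_div_cancel (θ (θ^[i] a)) (θ^[i] a) a]
        exact mul_mem ⟨θ^[i] a, hδ _⟩ ih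
    have hθq : θ^[q] a = a := by
      obtain ⟨y, rfl⟩ := QuotientGroup.mk'_surjective (scalarSub ρ) a
      have : ∀ i, θ^[i] (π y) = π (σ^[i] y) := by
        intro i
        induction i with
        | zero => rfl
        | succ i ih => rw [Function.iterate_succ_apply', Function.iterate_succ_apply', ih, hθ]
      show θ^[q] (π y) = π y
      rw [this, hσq]
    obtain ⟨c, hc⟩ := QuotientGroup.mk'_surjective (scalarSub ρ) (∏ i ∈ Finset.range q, θ^[i] a)
    have hcfix : θ (π c) = π c := by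
      show θ (π c) = π c
      rw [show π c = ∏ i ∈ Finset.range q, θ^[i] a from hc, map_prod]
      have e1 : ∀ i ∈ Finset.range q, θ (θ^[i] a) = θ^[i + 1] a := fun i _ =>
        (Function.iterate_succ_apply' θ i a).symm
      have e2 := Finset.prod_range_succ' (fun i => θ^[i] a) q
      rw [Finset.prod_range_succ, hθq, Function.iterate_zero_apply, mul_left_inj] at e2
      rw [Finset.prod_congr rfl e1]
      exact e2.symm
    refine ⟨c, ?_, ?_⟩
    · rw [hθ] at hcfix
      exact QuotientGroup.eq.1 hcfix.symm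
    · show π (x * c⁻¹) ∈ δ.range
      rw [map_mul, map_inv, ← haq, show π c = ∏ i ∈ Finset.range q, θ^[i] a from hc,
        ← div_eq_mul_inv, show a ^ q = ∏ i ∈ Finset.range q, a by rw [Finset.prod_const, Finset.card_range],
        ← Finset.prod_div_distrib]
      exact prod_mem fun i _ => by
        rw [← inv_div]
        exact inv_mem (hit i)
  have hcentral : ∀ x, (∀ e ∈ E', chi ρ hE x e = 1) → (∀ c, c⁻¹ * σ c ∈ scalarSub ρ → chi ρ hE x c = 1) →
      x ∈ scalarSub ρ := by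
    intro x h1 h2
    refine hnd x fun y => ((chi_eq_one_iff ρ hE x y).1 ?_).symm
    obtain ⟨c, hc, he⟩ := hdecomp y
    have := chi_mul_right ρ hE x (y * c⁻¹) c
    rw [inv_mul_cancel_right, h1 _ he, h2 c hc, one_mul] at this
    exact this
  by_cases hle : E' ≤ scalarSub ρ
  · left
    intro x
    obtain ⟨c, hc⟩ := hle (hσE x)
    have e1 : ρ (σ x) = c • ρ x := by
      rw [show σ x = x * (x⁻¹ * σ x) by group, map_mul, hc, mul_smul_comm, mul_one]
    have e2 : ∀ n, ρ (σ^[n] x) = c ^ n • ρ x := by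
      intro n
      induction n with
      | zero => simp
      | succ n ih =>
        have hd : x⁻¹ * σ^[n] x ∈ scalarSub ρ := ⟨c ^ n, by
          rw [map_mul, ih, mul_smul_comm, ← map_mul, inv_mul_cancel, map_one]⟩
        obtain ⟨d, hd'⟩ := hd
        have hdn : d = c ^ n := smul_rep_inj ρ (x := x) (by
          rw [← ih, ← one_mul (ρ (σ^[n] x)), ← map_one ρ, ← mul_inv_cancel x, map_mul, mul_assoc,
            ← map_mul ρ x⁻¹, hd', mul_smul_comm, mul_one])
        rw [Function.iterate_succ_apply', show σ^[n] x = x * (x⁻¹ * σ^[n] x) by group, map_mul σ,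
          map_mul ρ, e1, hσc _ d hd', hdn, smul_mul_smul_comm, mul_one, ← pow_succ']
    have hcq : c ^ q = 1 := smul_rep_inj ρ (x := x) (by rw [← e2, hσq, one_smul])
    have hcN : c ^ Nat.card R = 1 := by
      refine smul_rep_inj ρ (x := (1 : R)) ?_
      have := congrArg (· ^ Nat.card R) e1
      simp only [smul_pow, ← map_pow, pow_card_eq_one'] at this
      rw [one_smul]
      exact this.symm
    have hc1 : c = 1 := by
      rw [← orderOf_eq_one_iff]
      refine Nat.eq_one_of_dvd_coprimes ?_ (orderOf_dvd_of_pow_eq_one hcq) (orderOf_dvd_of_pow_eq_one hcN)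
      rw [hj]
      exact Nat.Coprime.pow_right j ((Nat.coprime_primes hq hr).2 hrq.symm)
    rw [e1, hc1, one_smul]
  right
  let σE : E' ≃* E' := MulEquiv.ofBijective
    ((σ.toMonoidHom.comp E'.subtype).codRestrict E' fun x => by
      show σ x.1 ∈ E'
      rw [show σ x.1 = x.1 * (x.1⁻¹ * σ x.1) by group]
      exact mul_mem x.2 (hσE _))
    (Finite.injective_iff_bijective.1 fun a b h => Subtype.ext (σ.injective (congrArg Subtype.val h)))
  have hσEv : ∀ x : E', ((σE x : E') : R) = σ x := fun x => rfl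
  let ρE : E' →* Module.End k W := ρ.comp E'.subtype
  have hsE : scalarSub ρE = (scalarSub ρ).subgroupOf E' := rfl
  have hEE : ClassTwo ρE := fun x y => hE (x : R) (y : R)
  have hndE : Nondeg ρE := fun x hx => hcentral x (fun e he => (chi_eq_one_iff ρ hE _ _).2
    (hx ⟨e, he⟩).symm) (fun c hc => hperp x x.2 c hc)
  have hfpfE : ∀ x : E', x⁻¹ * σE x ∈ scalarSub ρE → x ∈ scalarSub ρE := fun x hx =>
    hcentral x (fun e he => by
      have h1 := chi_symm ρ hE (x : R) e
      rwa [hperp e he x hx, mul_one] at h1) (fun c hc => hperp x x.2 c hc)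
  have hmE : (Nat.card (ScalarQuot ρE) : k) ≠ 0 :=
    hcast _ ((scalarSub ρE).card_quotient_dvd_card.trans E'.card_subgroup_dvd_card)
  have hneE : scalarSub ρE ≠ ⊤ := fun h => hle (Subgroup.subgroupOf_eq_top.1 (hsE ▸ h))
  have hσEq : ∀ x : E', σE^[q] x = x := by
    intro x
    have : ∀ n, ((σE^[n] x : E') : R) = σ^[n] x := by
      intro n
      induction n with
      | zero => rfl
      | succ n ih => rw [Function.iterate_succ_apply', Function.iterate_succ_apply', hσEv, ih]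
    exact Subtype.ext ((this q).trans (hσq _))
  obtain ⟨d, hd, hqd⟩ := hh_core ρE hEE hndE hmE hq hqk σE hσEq u huq (fun x => hu x) hfix hfpfE hneE
  obtain ⟨i, -, hi⟩ := (Nat.dvd_prime_pow hr).1 (show d ∣ r ^ j from
    (Dvd.intro d rfl).trans (hd ▸ hj ▸ (scalarSub ρE).card_quotient_dvd_card.trans
      E'.card_subgroup_dvd_card))
  have hi0 : i ≠ 0 := by
    intro h
    apply hneE
    rw [← Subgroup.index_eq_one, Subgroup.index_eq_card]
    rw [hi, h, pow_zero, mul_one] at hd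
    exact hd
  have hr2 : r = 2 := by
    by_contra hne
    have hodd : Odd d := hi ▸ (hr.odd_of_ne_two hne).pow
    have hq2 : q = 2 := (hq.eq_two_or_odd').resolve_right fun h => by
      rw [hqd] at h
      exact (Nat.not_even_iff_odd.2 h) hodd.add_one
    have : 1 < d := hi ▸ Nat.one_lt_pow hi0 hr.one_lt
    omega
  refine ⟨i, hr2, by rw [hqd, hi, hr2], ?_, E', hDE, ?_, hσE⟩
  · obtain ⟨U, hU0, hUinv, hUmin⟩ := exists_irred_sub ρ
    haveI : Nontrivial U := Submodule.nontrivial_iff_ne_bot.2 hU0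
    have hsub := scalarSub_restrictRep ρ hE hnd hUinv hU0
    have hirr : Irred (restrictRep ρ U hUinv) := by
      intro V hV
      rcases hUmin (V.map U.subtype) (Submodule.map_subtype_le _ _) (fun x w hw => by
        obtain ⟨z, hz, rfl⟩ := Submodule.mem_map.1 hw
        exact Submodule.mem_map.2 ⟨restrictRep ρ U hUinv x z, hV x z hz, rfl⟩) with h | h
      · left
        rwa [← Submodule.map_bot U.subtype,
          (Submodule.map_injective_of_injective U.subtype_injective).eq_iff] at h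
      · right
        rw [← Submodule.map_injective_of_injective U.subtype_injective |>.eq_iff, h,
          Submodule.map_subtype_top]
    refine ⟨Module.finrank k U, ?_⟩
    rw [← card_scalarQuot (restrictRep ρ U hUinv) hirr (fun x y => hsub.symm ▸ hE x y)
      (hcast _ (scalarSub (restrictRep ρ U hUinv)).card_quotient_dvd_card), Subgroup.index_eq_card]
    show Nat.card (R ⧸ scalarSub ρ) = Nat.card (R ⧸ scalarSub (restrictRep ρ U hUinv))
    rw [hsub]
  · rw [Subgroup.relIndex, ← hsE, Subgroup.index_eq_card]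
    show Nat.card (ScalarQuot ρE) = _
    rw [hd, hi, hr2, ← pow_add, two_mul]

variable {H : Type u} [Group H]

/-- The elements of `R` whose image commutes with the image of `R`. -/
def centralIn (ρ : H →* Module.End k W) (R : Subgroup H) : Subgroup H where
  carrier := {x | x ∈ R ∧ ∀ y ∈ R, ρ (x * y) = ρ (y * x)}
  one_mem' := ⟨one_mem R, fun y _ => by rw [one_mul, mul_one]⟩
  mul_mem' := fun {a b} ha hb => ⟨mul_mem ha.1 hb.1, fun y hy => by
    rw [mul_assoc, map_mul, hb.2 y hy, ← map_mul, ← mul_assoc, map_mul, ha.2 y hy, ← map_mul, mul_assoc]⟩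
  inv_mem' := fun {a} ha => ⟨inv_mem ha.1, fun y hy => by
    calc ρ (a⁻¹ * y) = ρ a⁻¹ * (ρ (y * a) * ρ a⁻¹) := by
          rw [← map_mul, mul_inv_cancel_right, ← map_mul]
      _ = ρ a⁻¹ * (ρ (a * y) * ρ a⁻¹) := by rw [ha.2 y hy]
      _ = ρ (y * a⁻¹) := by
          rw [← map_mul, ← map_mul]
          congr 1
          group⟩

theorem mem_centralIn {ρ : H →* Module.End k W} {R : Subgroup H} {x : H} :
    x ∈ centralIn ρ R ↔ x ∈ R ∧ ∀ y ∈ R, ρ (x * y) = ρ (y * x) := Iff.rfl

theorem centralIn_le (ρ : H →* Module.End k W) (R : Subgroup H) : centralIn ρ R ≤ R := fun _ h => h.1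

theorem mem_normalizer_centralIn (ρ : H →* Module.End k W) {R : Subgroup H} {g : H}
    (hg : g ∈ Subgroup.normalizer (R : Set H)) :
    g ∈ Subgroup.normalizer (centralIn ρ R : Set H) := by
  have key : ∀ g ∈ Subgroup.normalizer (R : Set H), ∀ x ∈ centralIn ρ R, g * x * g⁻¹ ∈ centralIn ρ R := by
    intro g hg x hx
    refine ⟨(Subgroup.mem_normalizer_iff.1 hg x).1 hx.1, fun y hy => ?_⟩
    have h := hx.2 _ ((Subgroup.mem_normalizer_iff''.1 hg y).1 hy)
    rw [show g * x * g⁻¹ * y = g * (x * (g⁻¹ * y * g)) * g⁻¹ by group,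
      show y * (g * x * g⁻¹) = g * ((g⁻¹ * y * g) * x) * g⁻¹ by group, map_mul, map_mul, h, ← map_mul,
      ← map_mul]
  rw [Subgroup.mem_normalizer_iff]
  refine fun x => ⟨key g hg x, fun h => ?_⟩
  have := key g⁻¹ (inv_mem hg) _ h
  simpa [mul_assoc] using this

/-- Hall-Higman for class two: without fixed vectors a coprime operator of prime order centralizes
the image, except for `r = 2` and `q = 2 ^ n + 1`. -/
theorem hh_classTwo (ρ : H →* Module.End k W) (R : Subgroup H) [Finite R] {r q : ℕ} (hr : r.Prime)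
    (hRp : IsPGroup r R) (hrk : (r : k) ≠ 0) (hq : q.Prime) (hqk : (q : k) ≠ 0) (hrq : r ≠ q)
    (a : H) (haq : a ^ q = 1) (haR : a ∈ Subgroup.normalizer (R : Set H))
    (hcl : ∀ x ∈ R, ∀ y ∈ R, ∃ c : k, ρ (x * y * x⁻¹ * y⁻¹) = c • 1)
    (hfix : ∀ w, ρ a w = w → w = 0) :
    (∀ x ∈ R, ρ (a * x * a⁻¹) = ρ x) ∨ ∃ n, r = 2 ∧ q = 2 ^ n + 1 ∧
      (∃ e, (centralIn ρ R).relIndex R = e * e) ∧
      ∃ E : Subgroup H, centralIn ρ R ≤ E ∧ E ≤ R ∧ (centralIn ρ R).relIndex E = 2 ^ (2 * n) ∧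
        ∀ x ∈ R, x⁻¹ * (a * x * a⁻¹) ∈ E := by
  classical
  haveI : Fact r.Prime := ⟨hr⟩
  set Zp := centralIn ρ R with hZp
  haveI : Finite Zp := Finite.of_injective _ (Subgroup.inclusion_injective (centralIn_le ρ R))
  haveI := Fintype.ofFinite Zp
  have hY : ImgComm ρ Zp := fun y hy z hz => hy.2 z hz.1
  have hk : (Fintype.card Zp : k) ≠ 0 := by
    obtain ⟨i, hi⟩ := IsPGroup.iff_card.1 (hRp.to_le (centralIn_le ρ R))
    rw [← Nat.card_eq_fintype_card, hi, Nat.cast_pow]
    exact pow_ne_zero _ hrk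
  have haZ := mem_normalizer_centralIn ρ haR
  have hRinv : ∀ {x}, x ∈ R → a * x * a⁻¹ ∈ R := fun {x} hx => (Subgroup.mem_normalizer_iff.1 haR x).1 hx
  by_cases hall : ∀ x ∈ R, ρ (a * x * a⁻¹) = ρ x
  · exact Or.inl hall
  push Not at hall
  obtain ⟨x₀, hx₀, hne⟩ := hall
  right
  obtain ⟨χ, w, hw, hw0⟩ : ∃ (χ : Zp →* kˣ) (w : W), IsEigen ρ Zp χ w ∧
      (ρ (a * x₀ * a⁻¹) - ρ x₀) w ≠ 0 := by
    by_contra hc
    push Not at hc
    refine hne (sub_eq_zero.1 (eq_zero_of_forall_eigen ρ hY hk _ (fun z hz v => ?_) hc))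
    rw [LinearMap.sub_apply, LinearMap.sub_apply, map_sub, ← rep_mul_apply, ← rep_mul_apply,
      ← rep_mul_apply, ← rep_mul_apply, hz.2 _ (hRinv hx₀), hz.2 _ hx₀]
  let U : Submodule k W :=
    { carrier := {v | IsEigen ρ Zp χ v}
      add_mem' := fun {a b} ha hb z => by rw [map_add, ha z, hb z, smul_add]
      zero_mem' := fun z => by rw [map_zero, smul_zero]
      smul_mem' := fun c v hv z => by rw [map_smul, hv z, smul_comm] }
  haveI : Nontrivial U := Submodule.nontrivial_iff_ne_bot.2 fun h => hw0 (by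
    have hwU : w ∈ U := hw
    rw [h, Submodule.mem_bot] at hwU
    rw [hwU, map_zero])
  have hUR : ∀ x : R, ∀ v ∈ U, (ρ.comp R.subtype) x v ∈ U := fun x v hv z => by
    show ρ (z : H) (ρ (x : H) v) = _
    rw [← rep_mul_apply, z.2.2 _ x.2, rep_mul_apply, hv z, map_smul]
    rfl
  have hUa : ∀ v ∈ U, ρ a v ∈ U := fun v hv z => by
    rw [← rep_mul_apply, show (z : H) * a = a * (a⁻¹ * z * a) by group, rep_mul_apply,
      rep_conj_eq_of_noFixed ρ hY hk hq haq haZ hfix z.2, hv z, map_smul]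
  let ρ' := restrictRep (ρ.comp R.subtype) U hUR
  let u : Module.End k U := (ρ a).restrict hUa
  have hu' : ∀ (x : R) (v : U), ((ρ' x v : U) : W) = ρ (x : H) (v : W) := fun _ _ => rfl
  have hun : ∀ (n : ℕ) (v : U), (((u ^ n) v : U) : W) = ρ (a ^ n) (v : W) := by
    intro n
    induction n with
    | zero => intro v; rw [pow_zero, pow_zero, map_one]; rfl
    | succ n ih =>
      intro v
      rw [pow_succ', pow_succ', rep_mul_apply, Module.End.mul_apply, ← ih v]
      rfl
  have hE : ClassTwo ρ' := fun x y => by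
    obtain ⟨c, hc⟩ := hcl _ x.2 _ y.2
    exact ⟨c, restrictRep_smul_one _ hc⟩
  have hsc : scalarSub ρ' = Zp.subgroupOf R := by
    refine le_antisymm (fun x hx => ?_) fun x hx => ⟨χ ⟨x, hx⟩, LinearMap.ext fun v => Subtype.ext ?_⟩
    · refine ⟨x.2, fun y hy => ?_⟩
      obtain ⟨c, hc⟩ := hcl _ x.2 _ hy
      have e : ρ ((x : H) * y) = c • ρ (y * x) := by
        rw [show (x : H) * y = x * y * (x : H)⁻¹ * y⁻¹ * (y * x) by group, map_mul, hc, smul_mul_assoc, one_mul]
      obtain ⟨d, hd⟩ := hx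
      have e2 : ρ' (x * ⟨y, hy⟩) = ρ' (⟨y, hy⟩ * x) := by
        rw [map_mul, map_mul, hd, smul_mul_assoc, one_mul, mul_smul_comm, mul_one]
      have hc1 : c = 1 := smul_rep_inj ρ' (x := ⟨y, hy⟩ * x) (LinearMap.ext fun v => Subtype.ext (by
        rw [one_smul]
        conv_rhs => rw [← e2]
        rw [LinearMap.smul_apply, Submodule.coe_smul]
        show c • ρ (y * (x : H)) (v : W) = ρ ((x : H) * y) (v : W)
        rw [e]; rfl))
      show ρ ((x : H) * y) = ρ (y * (x : H))
      rw [e, hc1, one_smul]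
    · rw [hu']
      exact v.2 ⟨x, hx⟩
  have hnd : Nondeg ρ' := by
    intro x hx
    rw [hsc]
    refine ⟨x.2, fun y hy => ?_⟩
    obtain ⟨c, hc⟩ := hcl _ x.2 _ hy
    have e : ρ ((x : H) * y) = c • ρ (y * x) := by
      rw [show (x : H) * y = x * y * (x : H)⁻¹ * y⁻¹ * (y * x) by group, map_mul, hc, smul_mul_assoc, one_mul]
    have hc1 : c = 1 := smul_rep_inj ρ' (x := ⟨y, hy⟩ * x) (LinearMap.ext fun v => Subtype.ext (by
      rw [one_smul]
      conv_rhs => rw [← hx ⟨y, hy⟩]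
      rw [LinearMap.smul_apply, Submodule.coe_smul]
      show c • ρ (y * (x : H)) (v : W) = ρ ((x : H) * y) (v : W)
      rw [e]; rfl))
    show ρ ((x : H) * y) = ρ (y * (x : H))
    rw [e, hc1, one_smul]
  let σ : R ≃* R :=
    { toFun := fun x => ⟨a * x * a⁻¹, hRinv x.2⟩
      invFun := fun x => ⟨a⁻¹ * x * a, (Subgroup.mem_normalizer_iff''.1 haR _).1 x.2⟩
      left_inv := fun x => Subtype.ext (by simp [mul_assoc])
      right_inv := fun x => Subtype.ext (by simp [mul_assoc])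
      map_mul' := fun x y => Subtype.ext (by simp [mul_assoc]) }
  have hσn : ∀ (n : ℕ) (x : R), ((σ^[n] x : R) : H) = a ^ n * x * (a ^ n)⁻¹ := by
    intro n x
    induction n with
    | zero => simp
    | succ n ih =>
      rw [Function.iterate_succ_apply']
      show a * (σ^[n] x : R) * a⁻¹ = _
      rw [ih, pow_succ']
      group
  rcases hh_classTwo_nondeg ρ' hE hnd hr hRp hrk hq hqk hrq σ
      (fun x => Subtype.ext (by rw [hσn, haq, inv_one, mul_one, one_mul])) u
      (LinearMap.ext fun v => Subtype.ext (by rw [hun, haq, map_one]; rfl))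
      (fun x => LinearMap.ext fun v => Subtype.ext (by
        show ρ a (ρ (x : H) (v : W)) = ρ (a * (x : H) * a⁻¹) (ρ a (v : W))
        rw [← rep_mul_apply, ← rep_mul_apply, inv_mul_cancel_right]))
      (fun v hv => Subtype.ext (hfix _ (congrArg Subtype.val hv))) with h | h
  · exfalso
    apply hw0
    rw [LinearMap.sub_apply, sub_eq_zero]
    exact congrArg Subtype.val (LinearMap.congr_fun (h ⟨x₀, hx₀⟩) ⟨w, hw⟩)
  · obtain ⟨n, hr2, hqn, ⟨e, he⟩, E', hDE, hEi, hσE⟩ := h
    refine ⟨n, hr2, hqn, ⟨e, ?_⟩, E'.map R.subtype, ?_, Subgroup.map_subtype_le E', ?_, ?_⟩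
    · rw [← he, hsc]; rfl
    · intro x hx
      exact ⟨⟨x, hx.1⟩, hDE (hsc ▸ hx), rfl⟩
    · rw [← hEi, hsc, ← Subgroup.relIndex_map_map_of_injective (Zp.subgroupOf R) E' R.subtype_injective,
        Subgroup.map_subgroupOf_eq_of_le (centralIn_le ρ R)]
    · exact fun x hx => ⟨⟨x, hx⟩⁻¹ * σ ⟨x, hx⟩, hσE _, rfl⟩

end CfsgLib.PGroup
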