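import Mathlib.Algebra.Module.ZMod
import Mathlib.LinearAlgebra.FreeModule.Finite.Matrix
import Mathlib.FieldTheory.IsAlgClosed.AlgebraicClosure
import Cfsg.Agent.Lib.PGroup.FpfWeights
import Cfsg.Agent.Lib.PGroup.HallHighmanB

/-!
The exceptional case of theorem B cannot occur inside a Frobenius group of operators.
-/

set_option autoImplicit false
set_option linter.style.haveILetI false
set_option linter.unusedSectionVars false

namespace CfsgLib.PGroup

open Subgroup

universe u v w

/-- The contragredient representation on additive functions. -/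
def dRep {N : Type u} [Group N] {V : Type w} [CommGroup V] (k : Type v) [Field k]
    (c : N →* MulAut V) : N →* Module.End k (Additive V →+ k) where
  toFun n :=
    { toFun := fun f => f.comp (MonoidHom.toAdditive ((c n⁻¹ : V ≃* V).toMonoidHom))
      map_add' := fun _ _ => rfl
      map_smul' := fun _ _ => rfl }
  map_one' := LinearMap.ext fun f => AddMonoidHom.ext fun v => by
    show f (Additive.ofMul (c (1 : N)⁻¹ v.toMul)) = f v
    rw [inv_one, map_one]; rfl
  map_mul' m n := LinearMap.ext fun f => AddMonoidHom.ext fun v => by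
    show f (Additive.ofMul (c (m * n)⁻¹ v.toMul)) = f (Additive.ofMul (c n⁻¹ (c m⁻¹ v.toMul)))
    rw [mul_inv_rev, map_mul]; rfl

theorem dRep_apply {N : Type u} [Group N] {V : Type w} [CommGroup V] {k : Type v} [Field k]
    (c : N →* MulAut V) (n : N) (f : Additive V →+ k) (v : V) :
    dRep k c n f (Additive.ofMul v) = f (Additive.ofMul (c n⁻¹ v)) := rfl

/-- The additive functions on an elementary abelian group. -/
theorem finrank_addHom {V : Type w} [CommGroup V] [Finite V] {l : ℕ} [Fact l.Prime]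
    (hV : ∀ v : V, v ^ l = 1) (k : Type v) [Field k] [Algebra (ZMod l) k] :
    FiniteDimensional k (Additive V →+ k) ∧
      Nat.card V = l ^ Module.finrank k (Additive V →+ k) := by
  haveI hM : Module (ZMod l) (Additive V) := AddCommGroup.zmodModule fun x : Additive V => by
    show Additive.ofMul (x.toMul ^ l) = 0
    rw [hV]; rfl
  haveI : Finite (Additive V) := Finite.of_equiv V Additive.ofMul
  haveI : Module.Finite (ZMod l) (Additive V) := Module.Finite.of_finite
  let e : (Additive V →+ k) ≃ₗ[k] (Additive V →ₗ[ZMod l] k) :=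
    { toFun := fun f => f.toZModLinearMap l
      invFun := fun g => g.toAddMonoidHom
      map_add' := fun f g => rfl
      map_smul' := fun c f => rfl
      left_inv := fun f => rfl
      right_inv := fun g => rfl }
  haveI : FiniteDimensional k (Additive V →+ k) := Module.Finite.equiv e.symm
  refine ⟨inferInstance, ?_⟩
  rw [e.finrank_eq, Module.finrank_linearMap (ZMod l) k (Additive V) k, Module.finrank_self, mul_one,
    Nat.card_congr (Additive.ofMul (α := V)), Module.natCard_eq_pow_finrank (K := ZMod l), Nat.card_zmod]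

section OrbitCount

variable {N : Type u} [Group N] {K : Type v} [Field K] [IsAlgClosed K] {U : Type w} [AddCommGroup U]
  [Module K U] [FiniteDimensional K U]

/-- A prime order operator permuting the nontrivial eigencharacters semiregularly. -/
theorem orbit_count (ψ : N →* Module.End K U) (Y : Subgroup N) [Fintype Y] (hY : ImgComm ψ Y)
    (hYK : (Fintype.card Y : K) ≠ 0) {p : ℕ} (hp : p.Prime) (A : N) (hAp : A ^ p = 1)
    (hAY : A ∈ normalizer (Y : Set N)) (hA1 : ∀ χ : Y →* Kˣ, twist Y hAY χ = χ → χ = 1)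
    (hone : ∀ f, IsEigen ψ Y 1 f → f = 0) :
    p * Module.finrank K (LinearMap.ker (ψ A - 1)) ≤ Module.finrank K U ∧
      (Module.finrank K U ≠ 0 → Module.finrank K (LinearMap.ker (ψ A - 1)) ≠ 0) := by
  classical
  haveI := finite_hom_units (k := K) (Y := Y)
  haveI := Fintype.ofFinite (Y →* Kˣ)
  have hpowY : ∀ i : ℕ, A ^ i ∈ normalizer (Y : Set N) := fun i => pow_mem hAY i
  let o : ℕ → (Y →* Kˣ) → (Y →* Kˣ) := fun i χ => twist Y (hpowY i) χ
  have ho_add : ∀ i j χ, o (i + j) χ = o i (o j χ) := by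
    intro i j χ
    exact (twist_congr (pow_add A i j) _ (mul_mem (hpowY i) (hpowY j)) χ).trans
      (twist_twist (hpowY i) (hpowY j) χ).symm
  have ho0 : ∀ χ, o 0 χ = χ := fun χ =>
    (twist_congr (pow_zero A) _ (one_mem _) χ).trans (twist_one _ χ)
  have hop : ∀ χ, o p χ = χ := fun χ => (twist_congr hAp _ (one_mem _) χ).trans (twist_one _ χ)
  have homul : ∀ i m χ, o i χ = χ → o (i * m) χ = χ := by
    intro i m χ h
    induction m with
    | zero => rw [Nat.mul_zero, ho0]
    | succ m ih => rw [Nat.mul_succ, ho_add, h, ih]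
  have homod : ∀ i χ, o (i % p) χ = o i χ := by
    intro i χ
    conv_rhs => rw [← Nat.mod_add_div i p, ho_add, homul p _ χ (hop χ)]
  have ho1 : ∀ i χ, χ ≠ 1 → o i χ ≠ 1 := by
    intro i χ hχ h
    refine hχ (twist_injective (hpowY i) (h.trans ?_))
    exact MonoidHom.ext fun z => by rw [twist_apply, MonoidHom.one_apply, MonoidHom.one_apply]
  have hreg : ∀ χ, χ ≠ 1 → ∀ i, i < p → o i χ = χ → i = 0 := by
    intro χ hχ i hi hfixi
    by_contra hi0
    obtain ⟨m, hm⟩ := Nat.exists_mul_mod_eq_one_of_coprime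
      ((Nat.coprime_of_lt_prime hi0 hi hp).symm) hp.one_lt
    have h1 : o 1 χ = χ := by rw [← hm.2, homod, homul i m χ hfixi]
    exact hχ (hA1 χ ((twist_congr (pow_one A).symm hAY _ χ).trans h1))
  -- representatives of the orbits
  let key : (Y →* Kˣ) → ℕ := fun χ => Fintype.equivFin (Y →* Kˣ) χ
  have hkey : Function.Injective key := fun χ χ' h => (Fintype.equivFin _).injective (Fin.ext h)
  let S : Finset (Y →* Kˣ) :=
    Finset.univ.filter fun χ : Y →* Kˣ => χ ≠ 1 ∧ ∀ i : ℕ, key χ ≤ key (o i χ)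
  have hS : ∀ χ χ' : Y →* Kˣ, χ ∈ S → χ' ∈ S → ∀ i j, i < p → j < p → o i χ = o j χ' → χ = χ' ∧ i = j := by
    intro χ χ' hχ hχ' i j hi hj hij
    obtain ⟨hχ1, hmin⟩ := (Finset.mem_filter.1 hχ).2
    obtain ⟨-, hmin'⟩ := (Finset.mem_filter.1 hχ').2
    have e1 : χ = o (p - i + j) χ' := by
      rw [ho_add, ← hij, ← ho_add, Nat.sub_add_cancel hi.le, hop]
    have e2 : χ' = o (p - j + i) χ := by
      rw [ho_add, hij, ← ho_add, Nat.sub_add_cancel hj.le, hop]
    have h1 := hmin (p - j + i); rw [← e2] at h1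
    have h2 := hmin' (p - i + j); rw [← e1] at h2
    have e := hkey (le_antisymm h1 h2)
    refine ⟨e, ?_⟩
    rw [e] at hij
    rcases le_total i j with hle | hle
    · have h3 : o (j - i) χ' = χ' := by
        apply twist_injective (hpowY i)
        show o i (o (j - i) χ') = o i χ'
        rw [← ho_add, Nat.add_sub_cancel' hle, hij]
      have := hreg χ' (e ▸ hχ1) (j - i) (by omega) h3
      omega
    · have h3 : o (i - j) χ' = χ' := by
        apply twist_injective (hpowY j)
        show o j (o (i - j) χ') = o j χ'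
        rw [← ho_add, Nat.add_sub_cancel' hle, hij]
      have := hreg χ' (e ▸ hχ1) (i - j) (by omega) h3
      omega
  have hrep : ∀ χ : Y →* Kˣ, χ ≠ 1 → ∃ χ₀ ∈ S, ∃ i : Fin p, χ = o i χ₀ := by
    intro χ hχ
    obtain ⟨i, -, hi⟩ := Finset.exists_min_image (Finset.range p) (fun i => key (o i χ))
      ⟨0, Finset.mem_range.2 hp.pos⟩
    refine ⟨o i χ, Finset.mem_filter.2 ⟨Finset.mem_univ _, ho1 i χ hχ, fun j => ?_⟩,
      ⟨(p - i % p) % p, Nat.mod_lt _ hp.pos⟩, ?_⟩
    · rw [← ho_add, ← homod (j + i)]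
      exact hi _ (Finset.mem_range.2 (Nat.mod_lt _ hp.pos))
    · show χ = o ((p - i % p) % p) (o i χ)
      rw [homod, ← homod i, ← ho_add, Nat.sub_add_cancel (Nat.mod_lt i hp.pos).le, hop]
  -- the counting
  let Fx : Submodule K U := LinearMap.ker (ψ A - 1)
  have hFx : ∀ f, f ∈ Fx ↔ ψ A f = f := fun f => by
    simp [Fx, sub_eq_zero]
  let P : Module.End K U := ∑ χ ∈ S, eigProj ψ χ
  let L : (Fin p → Fx) →ₗ[K] U :=
    ∑ i : Fin p, ((ψ (A ^ (i : ℕ))).comp (P.comp Fx.subtype)).comp (LinearMap.proj i)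
  have hL : ∀ x, L x = ∑ i : Fin p, ∑ χ ∈ S, ψ (A ^ (i : ℕ)) (eigProj ψ χ (x i : U)) := by
    intro x
    simp [L, P, LinearMap.sum_apply, map_sum]
  have hLinj : Function.Injective L := by
    refine (injective_iff_map_eq_zero L).2 fun x hx => ?_
    rw [hL] at hx
    funext j
    refine Subtype.ext ?_
    have h1 : ∀ χ₀ ∈ S, eigProj ψ χ₀ (x j : U) = 0 := by
      intro χ₀ hχ₀
      have e := congrArg (eigProj ψ (o j χ₀)) hx
      simp only [map_sum, map_zero] at e
      rw [Finset.sum_eq_single j, Finset.sum_eq_single χ₀] at e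
      · rw [eigProj_self ψ ((isEigen_eigProj ψ χ₀ _).map ψ (hpowY j))] at e
        exact rep_injective ψ (A ^ (j : ℕ))
          (((smul_eq_zero.1 e).resolve_left hYK).trans (map_zero _).symm)
      · intro χ hχ hne
        exact eigProj_ne ψ ((isEigen_eigProj ψ χ _).map ψ (hpowY j))
          fun h => hne (hS χ₀ χ hχ₀ hχ j j j.2 j.2 h).1.symm
      · exact fun h => absurd hχ₀ h
      · intro i _ hne
        exact Finset.sum_eq_zero fun χ hχ => eigProj_ne ψ ((isEigen_eigProj ψ χ _).map ψ (hpowY i))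
          fun h => hne (Fin.ext (hS χ₀ χ hχ₀ hχ j i j.2 i.2 h).2.symm)
      · exact fun h => absurd (Finset.mem_univ j) h
    have h2 : ∀ χ : Y →* Kˣ, eigProj ψ χ (x j : U) = 0 := by
      intro χ
      by_cases hχ : χ = 1
      · exact hone _ (hχ ▸ isEigen_eigProj ψ χ _)
      obtain ⟨χ₀, hχ₀, i, rfl⟩ := hrep χ hχ
      have hfi : ψ (A ^ (i : ℕ)) (x j : U) = x j := by
        induction (i : ℕ) with
        | zero => rw [pow_zero, map_one]; rfl
        | succ m ih => rw [pow_succ, rep_mul_apply, (hFx _).1 (x j).2, ih]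
      have e := congrArg (fun f => eigProj ψ (o i χ₀) (ψ (A ^ (i : ℕ)) f))
        (sum_eigProj ψ hY hYK (x j : U))
      simp only [map_sum, map_smul, hfi] at e
      rw [Finset.sum_eq_single χ₀, h1 χ₀ hχ₀, map_zero, map_zero] at e
      · exact (smul_eq_zero.1 e.symm).resolve_left hYK
      · intro χ _ hne
        exact eigProj_ne ψ ((isEigen_eigProj ψ χ _).map ψ (hpowY i))
          fun h => hne (twist_injective (hpowY i) h).symm
      · exact fun h => absurd (Finset.mem_univ χ₀) h
    have e := sum_eigProj ψ hY hYK (x j : U)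
    rw [Finset.sum_eq_zero fun χ _ => h2 χ] at e
    exact (smul_eq_zero.1 e.symm).resolve_left hYK
  have hlower : p * Module.finrank K Fx ≤ Module.finrank K U := by
    haveI : Module.Free K Fx := Module.Free.of_divisionRing K Fx
    have := LinearMap.finrank_le_finrank_of_injective hLinj
    rwa [Module.finrank_pi_fintype, Finset.sum_const, Finset.card_univ, Fintype.card_fin,
      smul_eq_mul] at this
  refine ⟨hlower, fun hm h => ?_⟩
  obtain ⟨χ, f, -, hf0, hf⟩ := exists_eigen ψ hY (U := (⊤ : Submodule K U))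
    (fun _ _ _ _ => Submodule.mem_top) (fun e => hm (by rw [← finrank_top, e, finrank_bot]))
  set s := ∑ i ∈ Finset.range p, ψ (A ^ i) f with hs
  have hs0 : s = 0 := by
    have hmem : s ∈ Fx := by
      rw [hFx]
      have e1 : ψ A s = ∑ i ∈ Finset.range p, ψ (A ^ (i + 1)) f := by
        rw [hs, map_sum]
        exact Finset.sum_congr rfl fun i _ => by rw [← rep_mul_apply, pow_succ']
      have e2 := Finset.sum_range_succ' (fun i => ψ (A ^ i) f) p
      rw [Finset.sum_range_succ, hAp, pow_zero, ← e1, ← hs, add_left_inj] at e2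
      exact e2.symm
    rwa [show Fx = ⊥ from Submodule.finrank_eq_zero.1 h, Submodule.mem_bot] at hmem
  have hχ1 : χ ≠ 1 := fun e => hf0 (hone f (e ▸ hf))
  have e := congrArg (eigProj ψ χ) hs0
  rw [hs, map_sum, map_zero, Finset.sum_eq_single 0] at e
  · rw [pow_zero, map_one, Module.End.one_apply, eigProj_self ψ hf] at e
    exact hf0 ((smul_eq_zero.1 e).resolve_left hYK)
  · intro i hi hi0
    exact eigProj_ne ψ (hf.map ψ (hpowY i))
      fun h => hi0 (hreg χ hχ1 i (Finset.mem_range.1 hi) h.symm)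
  · intro h
    exact absurd (Finset.mem_range.2 hp.pos) h

end OrbitCount

variable {H : Type u} [Group H] {k : Type v} [Field k] [IsAlgClosed k] {W : Type w} [AddCommGroup W]
  [Module k W] [FiniteDimensional k W]

/-- A prime order operator without fixed vectors, normalizing `R` and inverted into a group `T`
with `R = [R, T]`, centralizes the image of `R`. -/
theorem rep_centralizes_of_frobenius (ρ : H →* Module.End k W) (R T : Subgroup H) [Finite R] [Finite T]
    {r p : ℕ} (hr : r.Prime) (hRp : IsPGroup r R) (hrk : (r : k) ≠ 0) (hp : p.Prime)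
    (hpk : (p : k) ≠ 0) (hrp : r ≠ p) (a : H) (hap : a ^ p = 1)
    (haR : a ∈ normalizer (R : Set H)) (haT : a ∈ normalizer (T : Set H))
    (hTR : T ≤ normalizer (R : Set H)) (hrT : ¬ r ∣ Nat.card T)
    (hTab : ∀ y ∈ T, ∀ z ∈ T, ∀ x ∈ R, Commute (y * z * y⁻¹ * z⁻¹) x)
    (hsurj : ∀ y ∈ T, ∃ z ∈ T, y = z⁻¹ * (a * z * a⁻¹))
    (hRT : R ≤ ⁅R, T⁆)
    (hcl : ∀ x ∈ R, ∀ y ∈ R, ∃ c : k, ρ (x * y * x⁻¹ * y⁻¹) = c • 1)
    (hpow : ∀ x ∈ R, ∃ c : k, ρ (x ^ r) = c • 1)
    (hfix : ∀ w, ρ a w = w → w = 0) : ∀ x ∈ R, ρ (a * x * a⁻¹) = ρ x := by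
  classical
  rcases hh_classTwo ρ R hr hRp hrk hp hpk hrp a hap haR hcl hfix with h | h
  · exact h
  exfalso
  obtain ⟨n, rfl, hpn, ⟨e, he⟩, E, hZE, hER, hEi, haE⟩ := h
  have hn : n ≠ 0 := by
    rintro rfl
    exact hrp (by rw [hpn]; rfl)
  set Zp := centralIn ρ R with hZp
  have hsc : ∀ x ∈ R, ∀ c : k, ρ x = c • 1 → x ∈ Zp := fun x hx c hc => ⟨hx, fun y _ => by
    rw [map_mul, map_mul, hc, smul_mul_assoc, one_mul, mul_smul_comm, mul_one]⟩
  haveI hZn : (Zp.subgroupOf R).Normal := by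
    refine ⟨fun z hz x => ?_⟩
    exact (mem_normalizer_iff.1 (mem_normalizer_centralIn ρ (le_normalizer x.2)) _).1 hz
  let M : Type u := R ⧸ Zp.subgroupOf R
  letI : CommGroup M :=
    { QuotientGroup.Quotient.group (Zp.subgroupOf R) with
      mul_comm := fun a b => by
        obtain ⟨x, rfl⟩ := QuotientGroup.mk_surjective a
        obtain ⟨y, rfl⟩ := QuotientGroup.mk_surjective b
        refine (QuotientGroup.eq (s := Zp.subgroupOf R)).2 ?_
        rw [show (x * y)⁻¹ * (y * x) = y⁻¹ * x⁻¹ * (y⁻¹)⁻¹ * (x⁻¹)⁻¹ by group, mem_subgroupOf]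
        obtain ⟨c, hc⟩ := hcl _ (inv_mem y.2) _ (inv_mem x.2)
        exact hsc _ (mul_mem (mul_mem (mul_mem (inv_mem y.2) (inv_mem x.2)) (inv_mem (inv_mem y.2)))
          (inv_mem (inv_mem x.2))) c hc }
  let π : R →* M := QuotientGroup.mk' _
  have hM2 : ∀ m : M, m ^ 2 = 1 := by
    intro m
    obtain ⟨x, rfl⟩ := QuotientGroup.mk_surjective m
    refine (QuotientGroup.eq_one_iff (x ^ 2)).2 ?_
    obtain ⟨c, hc⟩ := hpow _ x.2
    exact hsc _ (pow_mem x.2 2) c hc
  haveI : Fact (Nat.Prime 2) := ⟨Nat.prime_two⟩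
  haveI : Finite M := Quotient.finite _
  -- the action of the normalizer
  let N : Subgroup H := normalizer (R : Set H)
  let cj : N → R ≃* R := fun g =>
    { toFun := fun x => ⟨g * x * (g : H)⁻¹, (mem_normalizer_iff.1 g.2 _).1 x.2⟩
      invFun := fun x => ⟨(g : H)⁻¹ * x * g, (mem_normalizer_iff''.1 g.2 _).1 x.2⟩
      left_inv := fun x => Subtype.ext (by simp [mul_assoc])
      right_inv := fun x => Subtype.ext (by simp [mul_assoc])
      map_mul' := fun x y => Subtype.ext (by simp [mul_assoc]) }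
  have hcj : ∀ g : N, (Zp.subgroupOf R).map (cj g : R →* R) = Zp.subgroupOf R := by
    intro g
    refine eq_of_le_of_card_ge (map_le_iff_le_comap.2 fun x hx => ?_)
      (card_map_of_injective (cj g).injective).ge
    exact (mem_normalizer_iff.1 (mem_normalizer_centralIn ρ g.2) _).1 hx
  let c : N →* MulAut M :=
    MonoidHom.mk' (fun g => QuotientGroup.congr _ _ (cj g) (hcj g)) fun g h => MulEquiv.ext fun m => by
      obtain ⟨x, rfl⟩ := QuotientGroup.mk_surjective m
      show QuotientGroup.mk (cj (g * h) x) = QuotientGroup.mk (cj g (cj h x))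
      congr 1
      exact Subtype.ext (by simp [cj, mul_assoc])
  have hc : ∀ (g : N) (x : R), c g (π x) = π (cj g x) := fun g x => rfl
  -- the dual module
  let K := AlgebraicClosure (ZMod 2)
  haveI : CharP K 2 := charP_of_injective_algebraMap (algebraMap (ZMod 2) K).injective 2
  obtain ⟨hfd, hcardM⟩ := finrank_addHom (V := M) hM2 K
  let ψ : N →* Module.End K (Additive M →+ K) := dRep K c
  let Y : Subgroup N := T.subgroupOf N
  haveI : Finite Y := Finite.of_equiv T (subgroupOfEquivOfLe hTR).symm.toEquiv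
  haveI := Fintype.ofFinite Y
  haveI := finite_hom_units (k := K) (Y := Y)
  haveI := Fintype.ofFinite (Y →* Kˣ)
  have hY : ImgComm ψ Y := by
    intro y hy z hz
    have hcent : c (y * z * y⁻¹ * z⁻¹) = 1 := by
      refine MulEquiv.ext fun m => ?_
      obtain ⟨x, rfl⟩ := QuotientGroup.mk_surjective m
      show π (cj (y * z * y⁻¹ * z⁻¹) x) = π x
      congr 1
      refine Subtype.ext ?_
      show (y : H) * z * (y : H)⁻¹ * (z : H)⁻¹ * x * ((y : H) * z * (y : H)⁻¹ * (z : H)⁻¹)⁻¹ = x
      exact mul_inv_eq_iff_eq_mul.2 (hTab _ hy _ hz _ x.2).eq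
    have h1 : ψ (y * z * y⁻¹ * z⁻¹) = 1 := LinearMap.ext fun f => AddMonoidHom.ext fun v => by
      show f (Additive.ofMul (c (y * z * y⁻¹ * z⁻¹)⁻¹ v.toMul)) = f v
      rw [map_inv, hcent, inv_one]; rfl
    rw [show y * z = (y * z * y⁻¹ * z⁻¹) * (z * y) by group, map_mul, h1, one_mul]
  have hYK : (Fintype.card Y : K) ≠ 0 := by
    rw [Ne, CharP.cast_eq_zero_iff K 2, ← Nat.card_eq_fintype_card,
      Nat.card_congr (subgroupOfEquivOfLe hTR).toEquiv]
    exact hrT
  -- no fixed functions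
  have hone : ∀ f : Additive M →+ K, IsEigen ψ Y 1 f → f = 0 := by
    intro f hf
    let F : Subgroup H :=
      { carrier := {x | ∃ hx : x ∈ R, f (Additive.ofMul (π ⟨x, hx⟩)) = 0}
        one_mem' := ⟨one_mem R, by
          rw [show (⟨1, one_mem R⟩ : R) = 1 from rfl, map_one, ofMul_one, map_zero]⟩
        mul_mem' := fun {x y} ⟨hx, hx'⟩ ⟨hy, hy'⟩ => ⟨mul_mem hx hy, by
          rw [show (⟨x * y, mul_mem hx hy⟩ : R) = ⟨x, hx⟩ * ⟨y, hy⟩ from rfl, map_mul, ofMul_mul, map_add,
            hx', hy', add_zero]⟩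
        inv_mem' := fun {x} ⟨hx, hx'⟩ => ⟨inv_mem hx, by
          rw [show (⟨x⁻¹, inv_mem hx⟩ : R) = ⟨x, hx⟩⁻¹ from rfl, map_inv, ofMul_inv, map_neg, hx', neg_zero]⟩ }
    have hle : ⁅R, T⁆ ≤ F := by
      rw [commutator_le]
      intro x hx y hy
      rw [commutatorElement_def]
      have hy' : y * x⁻¹ * y⁻¹ ∈ R := (mem_normalizer_iff.1 (hTR hy) _).1 (inv_mem hx)
      have hm : x * y * x⁻¹ * y⁻¹ ∈ R := by
        rw [show x * y * x⁻¹ * y⁻¹ = x * (y * x⁻¹ * y⁻¹) by group]
        exact mul_mem hx hy'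
      refine ⟨hm, ?_⟩
      have h2 := congrArg (fun g : Additive M →+ K => g (Additive.ofMul (π ⟨x, hx⟩)))
        (hf ⟨⟨y⁻¹, hTR (inv_mem hy)⟩, inv_mem hy⟩)
      simp only [MonoidHom.one_apply, Units.val_one, one_smul] at h2
      rw [dRep_apply, hc] at h2
      rw [show (⟨x * y * x⁻¹ * y⁻¹, hm⟩ : R) = ⟨x, hx⟩ * (cj (⟨y⁻¹, hTR (inv_mem hy)⟩ : N)⁻¹ ⟨x, hx⟩)⁻¹ from
        Subtype.ext (by simp [cj, mul_assoc]), map_mul, map_inv, ofMul_mul, map_add, ofMul_inv, map_neg, h2,
        add_neg_cancel]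
    refine AddMonoidHom.ext fun v => ?_
    obtain ⟨x, hx⟩ := QuotientGroup.mk_surjective (Additive.toMul v)
    obtain ⟨hx', h⟩ := hle (hRT x.2)
    rw [show v = Additive.ofMul (π x) from congrArg Additive.ofMul hx.symm]
    exact h
  let A : N := ⟨a, haR⟩
  have hAY : A ∈ normalizer (Y : Set N) := by
    rw [mem_normalizer_iff]
    exact fun y => mem_normalizer_iff.1 haT (y : H)
  have hAp : A ^ p = 1 := Subtype.ext hap
  let Fx : Submodule K (Additive M →+ K) := LinearMap.ker (ψ A - 1)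
  have hFx : ∀ f, f ∈ Fx ↔ ψ A f = f := fun f => by
    simp [Fx, sub_eq_zero]
  have hA1 : ∀ χ : Y →* Kˣ, twist Y hAY χ = χ → χ = 1 := by
    intro χ h1
    refine MonoidHom.ext fun y => ?_
    -- `y` is a commutator with the operator
    obtain ⟨z, hz, hyz⟩ := hsurj _ y.2
    have hz' : a * z * a⁻¹ ∈ T := (mem_normalizer_iff.1 haT z).1 hz
    have h2 := DFunLike.congr_fun h1 (⟨⟨a * z * a⁻¹, hTR hz'⟩, hz'⟩ : Y)
    rw [twist_apply] at h2
    rw [show y = (⟨⟨z, hTR hz⟩, hz⟩ : Y)⁻¹ * ⟨⟨a * z * a⁻¹, hTR hz'⟩, hz'⟩ from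
      Subtype.ext (Subtype.ext hyz), map_mul, map_inv, MonoidHom.one_apply, ← h2,
      inv_mul_eq_one]
    exact congrArg χ (Subtype.ext (Subtype.ext (by simp [A, mul_assoc])))
  obtain ⟨hlower, hD'⟩ := orbit_count ψ Y hY hYK hp A hAp hAY hA1 hone
  -- functions killing the commutators are fixed
  let EM : Subgroup M := (E.subgroupOf R).map π
  have hEM : Nat.card EM = 2 ^ (2 * n) := by
    rw [← hEi, show EM = (E.subgroupOf R).map π from rfl, ← Subgroup.relIndex_ker (K := E.subgroupOf R) π,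
      show π.ker = Zp.subgroupOf R from QuotientGroup.ker_mk' _,
      ← Subgroup.relIndex_map_map_of_injective _ _ R.subtype_injective,
      map_subgroupOf_eq_of_le (centralIn_le ρ R), map_subgroupOf_eq_of_le hER]
  obtain ⟨hfdE, hcardE⟩ := finrank_addHom (V := EM) (fun v => Subtype.ext (hM2 v)) K
  rw [hEM] at hcardE
  have hdimE := (Nat.pow_right_injective le_rfl hcardE).symm
  let res : (Additive M →+ K) →ₗ[K] (Additive EM →+ K) :=
    { toFun := fun f => f.comp (MonoidHom.toAdditive EM.subtype)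
      map_add' := fun _ _ => rfl
      map_smul' := fun _ _ => rfl }
  have hres : LinearMap.ker res ≤ Fx := by
    intro f hf
    rw [hFx]
    refine AddMonoidHom.ext fun v => ?_
    obtain ⟨x, hx⟩ := QuotientGroup.mk_surjective (Additive.toMul v)
    obtain rfl : v = Additive.ofMul (π x) := congrArg Additive.ofMul hx.symm
    rw [dRep_apply, hc]
    set w := cj A⁻¹ x with hw
    have hmem : π (w⁻¹ * x) ∈ EM := by
      refine mem_map_of_mem _ ?_
      rw [mem_subgroupOf]
      have hmem' := haE _ w.2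
      rwa [show a * (w : H) * a⁻¹ = x by simp [hw, cj, A, mul_assoc]] at hmem'
    have h0 : f (Additive.ofMul (π (w⁻¹ * x))) = 0 :=
      DFunLike.congr_fun (LinearMap.mem_ker.1 hf) (Additive.ofMul (⟨_, hmem⟩ : EM))
    rw [map_mul, map_inv, ofMul_mul, map_add, ofMul_inv, map_neg, neg_add_eq_zero] at h0
    exact h0
  have hupper : Module.finrank K (Additive M →+ K) ≤ 2 * n + Module.finrank K Fx := by
    rw [← LinearMap.finrank_range_add_finrank_ker res]
    exact Nat.add_le_add ((Submodule.finrank_le _).trans hdimE.le) (Submodule.finrank_mono hres)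
  -- there is a fixed function
  have hm : Module.finrank K (Additive M →+ K) ≠ 0 := by
    intro h
    rw [h, pow_zero] at hcardM
    have h4 : Nat.card EM ≤ Nat.card M := Subgroup.card_le_card_group EM
    rw [hEM, hcardM] at h4
    exact absurd h4 (not_le.2 (Nat.one_lt_pow (by omega) one_lt_two))
  have hD : Module.finrank K Fx ≠ 0 := hD' hm
  set m := Module.finrank K (Additive M →+ K)
  set D := Module.finrank K Fx
  have hee : e * e = 2 ^ m := by
    rw [← he, ← hcardM]
    exact Subgroup.index_eq_card (Zp.subgroupOf R)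
  obtain ⟨i, -, hi⟩ := (Nat.dvd_prime_pow Nat.prime_two).1 (Dvd.intro e hee)
  rw [hi, ← pow_add] at hee
  have hmi := Nat.pow_right_injective le_rfl hee
  have hnp : 2 * n ≤ 2 ^ n := by
    have h0 : n - 1 < 2 ^ (n - 1) := Nat.lt_two_pow_self
    have h1 : 2 ^ n = 2 * 2 ^ (n - 1) := by rw [← pow_succ', Nat.sub_add_cancel (Nat.one_le_iff_ne_zero.2 hn)]
    omega
  have hD1 : D = 1 := by
    by_contra hne
    have h3 : (p - 1) * D ≤ 2 * n := by rw [Nat.sub_mul, one_mul]; omega
    have h4 : (p - 1) * 2 ≤ (p - 1) * D := Nat.mul_le_mul_left _ (by omega)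
    omega
  rw [hD1, mul_one] at hlower
  obtain ⟨q', hq'⟩ : Odd p := hp.odd_of_ne_two (fun h => hrp h.symm)
  omega

end CfsgLib.PGroup
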