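import Cfsg.Agent.Lib.Coprime.Action
import Cfsg.Agent.Lib.Coprime.Core
import Cfsg.Agent.Lib.Coprime.PGroupFrattini
import Cfsg.Agent.Lib.Fusion.Residual
import Cfsg.Agent.Lib.Fusion.FFPair.Holomorph
import Cfsg.Agent.Lib.PGroup.CommutatorContainment
import Cfsg.Agent.Lib.PGroup.ElementaryBasic

/-!
# Subgroups generated by two conjugates of a `p`-subgroup of a `p`-solvable group
-/

set_option autoImplicit false
set_option linter.style.haveILetI false

open Subgroup
open scoped commutatorElement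

namespace CfsgLib.TwoConjugate

variable {G : Type*} [Group G]

theorem mem_of_zpow_mem {p : ℕ} [hp : Fact p.Prime] {H : Subgroup G} {b : G} (hb : b ^ p = 1)
    {j : ℤ} (hj : ¬ (p : ℤ) ∣ j) (h : b ^ j ∈ H) : b ∈ H := by
  obtain ⟨u, v, huv⟩ := (Nat.prime_iff_prime_int.1 hp.out).coprime_iff_not_dvd.2 hj
  have e : b = (b ^ j) ^ v := by
    conv_lhs => rw [← zpow_one b, ← huv, zpow_add, mul_comm u, zpow_mul, zpow_natCast, hb,
      one_zpow, one_mul, mul_comm v, zpow_mul]
  rw [e]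
  exact zpow_mem h v

theorem zpow_eq_one_of_dvd {p : ℕ} {b : G} (hb : b ^ p = 1) {j : ℤ} (hj : (p : ℤ) ∣ j) :
    b ^ j = 1 := by
  obtain ⟨k, rfl⟩ := hj
  rw [zpow_mul, zpow_natCast, hb, one_zpow]

variable [Finite G] {p : ℕ} [hp : Fact p.Prime]

/-- A minimal subgroup moved by an elementary abelian `p`-group acting on a `p'`-group. -/
theorem exists_minimal_moved {A K : Subgroup G} (hcA : ∀ a ∈ A, ∀ b ∈ A, a * b = b * a)
    (heA : ∀ a ∈ A, a ^ p = 1) (hn : A ≤ normalizer (K : Set G))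
    (hcop : (Nat.card K).Coprime p) (hne : ¬ A ≤ centralizer (K : Set G)) :
    ∃ Q ≤ K, A ≤ normalizer (Q : Set G) ∧ ⁅Q, A⁆ = Q ∧ ¬ A ≤ centralizer (Q : Set G) ∧
      (A ⊓ centralizer (Q : Set G)).relIndex A = p ∧
      ∀ W ≤ Q, A ≤ normalizer (W : Set G) → W ≠ Q → W ≤ centralizer (A : Set G) := by
  haveI hAc : IsMulCommutative A := ⟨⟨fun a b => Subtype.ext (hcA _ a.2 _ b.2)⟩⟩
  have hAp : IsPGroup p A := fun a => ⟨1, Subtype.ext (by simpa using heA _ a.2)⟩
  have hsA : Group.IsSolvable A := CfsgLib.Coprime.isSolvable_of_isMulCommutative hAc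
  have hcopA : ∀ W : Subgroup G, W ≤ K → (Nat.card A).Coprime (Nat.card W) := by
    intro W hW
    obtain ⟨k, hk⟩ := hAp.exists_card_eq
    rw [hk]
    exact ((hcop.coprime_dvd_left (card_dvd_of_le hW)).symm).pow_left k
  obtain ⟨Q, -, hQmin⟩ := Finite.exists_le_minimal (p := fun Q : Subgroup G =>
    Q ≤ K ∧ A ≤ normalizer (Q : Set G) ∧ ¬ A ≤ centralizer (Q : Set G)) (a := K)
    ⟨le_rfl, hn, hne⟩
  obtain ⟨hQK, hQn, hQne⟩ := hQmin.prop
  have hcopQ := hcopA Q hQK
  have hmin : ∀ W ≤ Q, A ≤ normalizer (W : Set G) → W ≠ Q → W ≤ centralizer (A : Set G) := by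
    intro W hW hWn hWQ
    by_contra h
    exact hWQ (le_antisymm hW (hQmin.le_of_le ⟨hW.trans hQK, hWn,
      fun e => h (le_centralizer_iff.1 e)⟩ hW))
  have hQA : ⁅Q, A⁆ = Q := by
    have hle : ⁅Q, A⁆ ≤ Q := by
      rw [commutator_comm]; exact le_normalizer_iff_commutator_le_right.1 hQn
    by_contra h
    exact hQne (CfsgLib.Coprime.le_centralizer_of_le_centralizer_commutator hQn hcopQ (Or.inl hsA)
      (le_centralizer_iff.1 (hmin _ hle
        (CfsgLib.CommContain.le_normalizer_commutator hQn le_normalizer) h)))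
  refine ⟨Q, hQK, hQn, hQA, hQne, ?_, hmin⟩
  set B := A ⊓ centralizer (Q : Set G) with hB
  obtain ⟨a, haA, haB⟩ : ∃ a ∈ A, a ∉ B := by
    by_contra h
    exact hQne fun x hx => (by_contra fun hx' => h ⟨x, hx, hx'⟩ : x ∈ B).2
  have hainf : ∀ i : ℤ, a ^ i ∈ B → a ^ i = 1 := by
    intro i hi
    by_cases hd : (p : ℤ) ∣ i
    · exact zpow_eq_one_of_dvd (heA a haA) hd
    · exact absurd (mem_of_zpow_mem (heA a haA) hd hi) haB
  have hsup : B ⊔ zpowers a = A := by
    refine le_antisymm (sup_le inf_le_left (zpowers_le.2 haA)) fun b hbA => ?_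
    by_contra hb
    set A1 := zpowers a ⊔ zpowers b with hA1
    have hA1A : A1 ≤ A := sup_le (zpowers_le.2 haA) (zpowers_le.2 hbA)
    haveI : IsMulCommutative A1 :=
      ⟨⟨fun x y => Subtype.ext (hcA _ (hA1A x.2) _ (hA1A y.2))⟩⟩
    have hA1B : ∀ c ∈ A1, c ∈ B → c = 1 := by
      intro c hc hcB
      have hnb : zpowers b ≤ normalizer (zpowers a : Set G) := by
        refine (zpowers_le.2 (mem_centralizer_iff.2 fun x hx => ?_)).trans
          (centralizer_le_normalizer _)
        exact hcA _ (zpowers_le.2 haA hx) _ hbA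
      obtain ⟨x, hx, y, hy, rfl⟩ := CfsgLib.Coprime.mem_sup_exists hnb hc
      obtain ⟨i, rfl⟩ := mem_zpowers_iff.1 hx
      obtain ⟨j, rfl⟩ := mem_zpowers_iff.1 hy
      by_cases hd : (p : ℤ) ∣ j
      · rw [zpow_eq_one_of_dvd (heA b hbA) hd, mul_one] at hcB ⊢
        exact hainf i hcB
      · refine absurd (mem_of_zpow_mem (heA b hbA) hd ?_) hb
        have e : b ^ j = (a ^ i)⁻¹ * (a ^ i * b ^ j) := (inv_mul_cancel_left _ _).symm
        rw [e]
        exact mul_mem (inv_mem (mem_sup_right (zpow_mem (mem_zpowers a) i))) (mem_sup_left hcB)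
    have hnc : ¬ IsCyclic A1 := by
      intro h
      obtain ⟨g, hg⟩ := IsCyclic.exists_ofOrder_eq_natCard (α := A1)
      have h1 : Nat.card A1 ≤ p := by
        rw [← hg]
        exact orderOf_le_of_pow_eq_one hp.out.pos (Subtype.ext (by simpa using heA _ (hA1A g.2)))
      have h2 : Nat.card (zpowers a) = p := by
        rw [Nat.card_zpowers]
        exact orderOf_eq_prime (heA a haA) fun e => haB (by rw [e]; exact one_mem B)
      have h3 : zpowers a = A1 := eq_of_le_of_card_ge le_sup_left (h1.trans h2.ge)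
      exact hb (mem_sup_right (h3.ge (mem_sup_right (mem_zpowers b))))
    refine hQne (le_centralizer_iff.1 (CfsgLib.Coprime.le_of_centralizers_le hnc
      (hA1A.trans hQn) (hcopQ.coprime_dvd_left (card_dvd_of_le hA1A)) fun c hc hc1 => ?_))
    have hAc' : A ≤ centralizer {c} := fun x hx => mem_centralizer_iff.2 fun y hy => by
      rw [Set.mem_singleton_iff.1 hy]; exact hcA _ (hA1A hc) _ hx
    refine hmin _ inf_le_left
      (CfsgLib.Coprime.inf_le_normalizer hQn (hAc'.trans le_normalizer)) fun e => hc1 ?_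
    refine hA1B c hc ⟨hA1A hc, mem_centralizer_iff.2 fun q hq => ?_⟩
    have hq' : q ∈ Q ⊓ centralizer {c} := e.ge hq
    exact (mem_centralizer_iff.1 hq'.2 c rfl).symm
  have hinf : B ⊓ zpowers a = ⊥ := by
    rw [eq_bot_iff]
    intro x hx
    obtain ⟨i, rfl⟩ := mem_zpowers_iff.1 (Subgroup.mem_inf.1 hx).2
    exact mem_bot.2 (hainf i (Subgroup.mem_inf.1 hx).1)
  have hBn : B ≤ normalizer (zpowers a : Set G) := fun x hx =>
    centralizer_le_normalizer _ (mem_centralizer_iff.2 fun y hy =>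
      hcA _ (zpowers_le.2 haA hy) _ hx.1)
  have h1 := CfsgLib.EABasic.card_sup_mul_card_inf_of_le_normalizer hBn
  rw [hsup, hinf, card_bot, mul_one, Nat.card_zpowers,
    orderOf_eq_prime (heA a haA) fun e => haB (by rw [e]; exact one_mem B)] at h1
  have h2 := relIndex_mul_relIndex (⊥ : Subgroup G) B A bot_le inf_le_left
  rw [relIndex_bot_left, relIndex_bot_left, h1] at h2
  exact Nat.eq_of_mul_eq_mul_left Nat.card_pos h2

section Main

variable {M : Type*} [Group M] [Finite M]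

/-- The subgroup generated by `A` and its conjugate by `x`. -/
abbrev two (A : Subgroup M) (x : M) : Subgroup M := A ⊔ A.map (MulAut.conj x).toMonoidHom

omit [Finite M] in
theorem two_le {A L : Subgroup M} {x : M} (hA : A ≤ L) (hx : x ∈ L) : two A x ≤ L := by
  refine sup_le hA ?_
  rintro _ ⟨a, ha, rfl⟩
  simpa using mul_mem (mul_mem hx (hA ha)) (inv_mem hx)

theorem main {p : ℕ} [hp : Fact p.Prime] (hM : Cfsg.IsPSolvable p M) (A : Subgroup M)
    (hA : IsPGroup p A) (hΦ : (frattini ↥A).map A.subtype ≤ Cfsg.pCore p M)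
    (hnot : ¬ A ≤ Cfsg.pCore p M) :
    ∃ x ∈ (Cfsg.pPrimeCore p (M ⧸ Cfsg.pCore p M)).comap (QuotientGroup.mk' (Cfsg.pCore p M)),
      x ∈ (Cfsg.pResidual p ↥(two A x)).map (two A x).subtype ∧
      (Cfsg.pResidual p ↥(two A x)).map (two A x).subtype ≤
        (Cfsg.pPrimeCore p (M ⧸ Cfsg.pCore p M)).comap (QuotientGroup.mk' (Cfsg.pCore p M)) ∧
      ⁅(Cfsg.pResidual p ↥(two A x)).map (two A x).subtype, A⁆ =
        (Cfsg.pResidual p ↥(two A x)).map (two A x).subtype ∧
      (A ⊓ (Cfsg.pCore p ↥(two A x)).map (two A x).subtype).relIndex A = p ∧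
      ⁅A ⊓ (Cfsg.pCore p ↥(two A x)).map (two A x).subtype, two A x⁆ ≤ Cfsg.pCore p M := by
  set O := Cfsg.pCore p M with hO
  set π := QuotientGroup.mk' O with hπ
  set K := Cfsg.pPrimeCore p (M ⧸ O) with hK
  set Ab := A.map π with hAb
  have hker : π.ker = O := QuotientGroup.ker_mk' O
  have hπO : ∀ x : M, x ∈ O → π x = 1 := fun x hx => (QuotientGroup.eq_one_iff x).2 hx
  have hcA : ∀ a ∈ Ab, ∀ b ∈ Ab, a * b = b * a := by
    rintro _ ⟨a, ha, rfl⟩ _ ⟨b, hb, rfl⟩
    have h : ⁅(⟨a, ha⟩ : A), (⟨b, hb⟩ : A)⁆ ∈ frattini ↥A :=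
      CfsgLib.Coprime.commutator_le_frattini hA (commutator_mem_commutator (mem_top _) (mem_top _))
    have h1 := hπO _ (hΦ (mem_map_of_mem A.subtype h))
    rw [map_commutatorElement, map_commutatorElement, commutatorElement_eq_one_iff_mul_comm] at h1
    exact h1
  have heA : ∀ a ∈ Ab, a ^ p = 1 := by
    rintro _ ⟨a, ha, rfl⟩
    have h1 := hπO _ (hΦ (mem_map_of_mem A.subtype
      (CfsgLib.Coprime.pow_mem_frattini hA ⟨a, ha⟩)))
    rw [← map_pow]
    simpa using h1
  have hcop : (Nat.card K).Coprime p := CfsgLib.Coprime.pPrimeCore_coprime hp.out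
  have hAK : ∀ a ∈ Ab, a ∈ K → a = 1 := fun a ha haK => orderOf_eq_one_iff.1
    (Nat.eq_one_of_dvd_coprimes hcop (orderOf_dvd_natCard _ haK)
      (orderOf_dvd_of_pow_eq_one (heA a ha)))
  have hnK : Ab ≤ normalizer (K : Set (M ⧸ O)) := by
    haveI := CfsgLib.Coprime.pPrimeCore_characteristic (G := M ⧸ O) p
    rw [normalizer_eq_top]; exact le_top
  have hne : ¬ Ab ≤ centralizer (K : Set (M ⧸ O)) := by
    intro h
    apply hnot
    intro a ha
    have hCK := CfsgLib.FFPair.centralizer_pPrimeCore_le_of_isPSolvable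
      (CfsgLib.PGroup.isPSolvable_quotient hp.out hM O)
      (CfsgLib.Coprime.pCore_quotient_eq_bot (G := M) p)
    exact (QuotientGroup.eq_one_iff a).1
      (hAK _ (mem_map_of_mem π ha) (hCK (h (mem_map_of_mem π ha))))
  obtain ⟨Q, hQK, hQn, hQA, hQne, hindex, hQmin⟩ := exists_minimal_moved hcA heA hnK hcop hne
  set B := Ab ⊓ centralizer (Q : Set (M ⧸ O)) with hB
  -- choose the lift
  set S : Set M := {x | π x ∈ Q ∧ π x ∉ centralizer (Ab : Set (M ⧸ O))} with hS
  have hSne : S.Nonempty := by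
    by_contra h
    apply hQne
    rw [le_centralizer_iff]
    intro q hq
    by_contra hq'
    obtain ⟨x, rfl⟩ := QuotientGroup.mk'_surjective O q
    exact h ⟨x, hq, hq'⟩
  obtain ⟨x, hxS, hxmin⟩ :=
    Set.exists_min_image S (fun x => Nat.card (two A x)) (Set.toFinite S) hSne
  have hmin : ∀ y ∈ S, two A y ≤ two A x → two A y = two A x := fun y hy hle =>
    eq_of_le_of_card_ge hle (hxmin y hy)
  set L := two A x with hL
  set Lb := L.map π with hLb
  have hAL : A ≤ L := le_sup_left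
  have hAbL : Ab ≤ Lb := map_mono hAL
  have hLsup : Lb ≤ Q ⊔ Ab := by
    rw [hLb, hL, two, Subgroup.map_sup]
    refine sup_le le_sup_right ?_
    rintro _ ⟨_, ⟨a, ha, rfl⟩, rfl⟩
    simp only [MulEquiv.coe_toMonoidHom, MulAut.conj_apply, map_mul, map_inv]
    exact mul_mem (mul_mem (mem_sup_left hxS.1) (mem_sup_right (mem_map_of_mem π ha)))
      (inv_mem (mem_sup_left hxS.1))
  have hQL : Q ≤ Lb := by
    by_contra h
    have hW := hQmin (Q ⊓ Lb) inf_le_left
      (CfsgLib.Coprime.inf_le_normalizer hQn (hAbL.trans le_normalizer))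
      (fun e => h (e.ge.trans inf_le_right))
    apply hxS.2
    rw [mem_centralizer_iff]
    intro b hb
    set q := π x with hq
    have hu : q * b * q⁻¹ * b⁻¹ ∈ Q ⊓ Lb := by
      refine Subgroup.mem_inf.2 ⟨?_, ?_⟩
      · rw [show q * b * q⁻¹ * b⁻¹ = q * (b * q⁻¹ * b⁻¹) by group]
        exact mul_mem hxS.1 ((mem_normalizer_iff.1 (hQn hb) _).1 (inv_mem hxS.1))
      · refine mul_mem ?_ (inv_mem (hAbL hb))
        obtain ⟨a, ha, rfl⟩ := hb
        refine ⟨x * a * x⁻¹, ?_, by simp only [map_mul, map_inv]; rfl⟩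
        exact mem_sup_right ⟨a, ha, by simp⟩
    set u := q * b * q⁻¹ * b⁻¹ with hudef
    have hub : Commute u b := (mem_centralizer_iff.1 (hW hu) b hb).symm
    have hup : u ^ p = 1 := by
      have h1 : (u * b) ^ p = 1 := by
        rw [show u * b = MulAut.conj q b by rw [MulAut.conj_apply, hudef]; group, ← map_pow,
          heA b hb, map_one]
      rwa [hub.mul_pow, heA b hb, mul_one] at h1
    have hu1 : u = 1 := orderOf_eq_one_iff.1 (Nat.eq_one_of_dvd_coprimes hcop
      (orderOf_dvd_natCard _ (hQK (Subgroup.mem_inf.1 hu).1)) (orderOf_dvd_of_pow_eq_one hup))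
    calc b * q = u * b * q := by rw [hu1, one_mul]
      _ = q * b := by rw [hudef]; group
  have hLb : Lb = Q ⊔ Ab := le_antisymm hLsup (sup_le hQL hAbL)
  set R := (Cfsg.pResidual p ↥L).map L.subtype with hR
  have hQpow : ∀ q ∈ Q, ∀ k : ℕ, q ∈ zpowers (q ^ p ^ k) := fun q hq k =>
    mem_zpowers_pow_iff.2
      (((hcop.coprime_dvd_left (orderOf_dvd_natCard _ (hQK hq))).pow_right k).symm)
  have hRQ : R.map π = Q := by
    apply le_antisymm
    · rw [hR, Subgroup.map_map, map_le_iff_le_comap]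
      refine (closure_le _).2 fun g hg => ?_
      have h1 : π (g : M) ∈ Q ⊔ Ab := hLsup (mem_map_of_mem π g.2)
      obtain ⟨q, hq, b, hb, e⟩ := CfsgLib.Coprime.mem_sup_exists hQn h1
      obtain ⟨v, hv, hv'⟩ : ∃ v ∈ Q, π (g : M) ^ p = v := by
        refine ⟨_, ?_, rfl⟩
        rw [← e]
        have key : ∀ n : ℕ, ∃ w ∈ Q, (q * b) ^ n = w * b ^ n := by
          intro n
          induction n with
          | zero => exact ⟨1, one_mem Q, by simp⟩
          | succ n ih =>
            obtain ⟨w, hw, e'⟩ := ih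
            refine ⟨w * (b ^ n * q * (b ^ n)⁻¹), mul_mem hw
              ((mem_normalizer_iff.1 (hQn (pow_mem hb n)) q).1 hq), ?_⟩
            rw [pow_succ, e', pow_succ]; group
        obtain ⟨w, hw, e'⟩ := key p
        rwa [e', heA b hb, mul_one]
      have hcg : Nat.Coprime p (orderOf (π (g : M))) := by
        refine (hg.coprime_dvd_left ?_).symm
        exact (orderOf_map_dvd π _).trans (orderOf_coe g).dvd
      obtain ⟨n, hn⟩ := mem_zpowers_iff.1 (mem_zpowers_pow_iff.2 hcg)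
      show π (g : M) ∈ Q
      rw [← hn, hv']
      exact zpow_mem hv n
    · intro q hq
      obtain ⟨l, hl, rfl⟩ := hQL hq
      obtain ⟨k, hk⟩ := CfsgLib.Fusion.exists_pow_p_mem_pResidual (p := p) (⟨l, hl⟩ : L)
      refine zpowers_le.2 ?_ (hQpow _ hq k)
      exact ⟨l ^ p ^ k, ⟨_, hk, rfl⟩, map_pow π l _⟩
  obtain ⟨y, hyR, hyx⟩ := hRQ.ge hxS.1
  have hyS : y ∈ S := by
    rw [hS, Set.mem_setOf_eq, hyx]; exact hxS
  have hRL : R ≤ L := map_subtype_le _
  have hyL : two A y = L := hmin y hyS (two_le hAL (hRL hyR))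
  have hRnL : L ≤ normalizer (R : Set M) := by
    haveI := CfsgLib.Fusion.pResidual_normal (G := L) (p := p)
    intro l hl
    rw [mem_normalizer_iff]
    have key : ∀ l ∈ L, ∀ t ∈ R, l * t * l⁻¹ ∈ R := by
      rintro l hl _ ⟨t, ht, rfl⟩
      exact ⟨⟨l, hl⟩ * t * ⟨l, hl⟩⁻¹, Normal.conj_mem inferInstance t ht _, rfl⟩
    exact fun t => ⟨key l hl t, fun h => by simpa [mul_assoc] using key l⁻¹ (inv_mem hl) _ h⟩
  have hLRA : L ≤ R ⊔ A := by
    rw [← hyL]; exact two_le le_sup_right (mem_sup_left hyR)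
  set N := ⁅R, A⁆ with hN
  have hAR : A ≤ normalizer (R : Set M) := hAL.trans hRnL
  have hNR : N ≤ R := by
    rw [hN, commutator_comm]; exact le_normalizer_iff_commutator_le_right.1 hAR
  have hNn : L ≤ normalizer (N : Set M) := hLRA.trans (sup_le
    (normalizer_commutator_ge_left R A)
    (CfsgLib.CommContain.le_normalizer_commutator hAR le_normalizer))
  have hNQ : N.map π = Q := by rw [hN, Subgroup.map_commutator, hRQ, ← hAb, hQA]
  obtain ⟨z, hzN, hzx⟩ := hNQ.ge hxS.1
  have hzS : z ∈ S := by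
    rw [hS, Set.mem_setOf_eq, hzx]; exact hxS
  have hNAL : N ⊔ A = L := le_antisymm (sup_le (hNR.trans hRL) hAL)
    ((hmin z hzS (two_le hAL (hRL (hNR hzN)))).ge.trans
      (two_le le_sup_right (mem_sup_left hzN)))
  have hRN : R ≤ N := by
    haveI : (N.subgroupOf L).Normal :=
      (normal_subgroupOf_iff_le_normalizer (hNR.trans hRL)).2 hNn
    have hq : IsPGroup p (↥L ⧸ N.subgroupOf L) := by
      intro q
      obtain ⟨l, rfl⟩ := QuotientGroup.mk'_surjective _ q
      obtain ⟨n, hn, a, ha, e⟩ :=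
        CfsgLib.Coprime.mem_sup_exists (hAL.trans hNn) (hNAL.ge l.2)
      obtain ⟨k, hk⟩ := hA ⟨a, ha⟩
      refine ⟨k, ?_⟩
      have el : l = ⟨n, hRL (hNR hn)⟩ * ⟨a, hAL ha⟩ := Subtype.ext e.symm
      have hn1 : QuotientGroup.mk' (N.subgroupOf L) ⟨n, hRL (hNR hn)⟩ = 1 :=
        (QuotientGroup.eq_one_iff _).2 (mem_subgroupOf.2 hn)
      rw [el, map_mul, hn1, one_mul, ← map_pow]
      refine (congrArg _ (Subtype.ext ?_)).trans (map_one _)
      simpa using congrArg Subtype.val hk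
    exact (map_mono (CfsgLib.Fusion.pResidual_le_of_isPGroup_quotient _ hq)).trans
      (map_subgroupOf_eq_of_le (hNR.trans hRL)).le
  have hNeq : N = R := le_antisymm hNR hRN
  set T := (Cfsg.pCore p ↥L).map L.subtype with hT
  have hcB : Lb ≤ centralizer (B : Set (M ⧸ O)) := by
    rw [hLb]
    refine sup_le (le_centralizer_iff.1 inf_le_right) ?_
    exact le_centralizer_iff.1 (inf_le_left.trans
      (fun a ha => mem_centralizer_iff.2 fun b hb => hcA b hb a ha))
  have hAT : A ⊓ T = A ⊓ B.comap π := by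
    apply le_antisymm
    · refine le_inf inf_le_left fun a ha => ?_
      have hTn : L ≤ normalizer (T : Set M) := by
        haveI : (Cfsg.pCore p ↥L).Normal := CfsgLib.Coprime.pCore_normal' p
        intro l hl
        rw [mem_normalizer_iff]
        have key : ∀ l ∈ L, ∀ t ∈ T, l * t * l⁻¹ ∈ T := by
          rintro l hl _ ⟨t, ht, rfl⟩
          exact ⟨⟨l, hl⟩ * t * ⟨l, hl⟩⁻¹, Normal.conj_mem inferInstance t ht _, rfl⟩
        exact fun t => ⟨key l hl t, fun h => by
          simpa [mul_assoc] using key l⁻¹ (inv_mem hl) _ h⟩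
      refine mem_comap.2 (Subgroup.mem_inf.2 ⟨mem_map_of_mem π ha.1, ?_⟩)
      rw [mem_centralizer_iff]
      intro q hq
      obtain ⟨l, hl, rfl⟩ := hQL hq
      have h1 : π l * π a * (π l)⁻¹ * (π a)⁻¹ ∈ T.map π :=
        ⟨l * a * l⁻¹ * a⁻¹, mul_mem ((mem_normalizer_iff.1 (hTn hl) a).1 ha.2) (inv_mem ha.2),
          by simp⟩
      have h2 : π l * π a * (π l)⁻¹ * (π a)⁻¹ ∈ Q := by
        rw [show π l * π a * (π l)⁻¹ * (π a)⁻¹ = π l * (π a * (π l)⁻¹ * (π a)⁻¹) by group]
        exact mul_mem hq ((mem_normalizer_iff.1 (hQn (mem_map_of_mem π ha.1)) _).1 (inv_mem hq))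
      have hTp : IsPGroup p (T.map π) :=
        (((CfsgLib.Coprime.pCore_isPGroup (G := L) p).map L.subtype)).map π
      obtain ⟨k, hk⟩ := hTp ⟨_, h1⟩
      have h3 : π l * π a * (π l)⁻¹ * (π a)⁻¹ = 1 := orderOf_eq_one_iff.1
        (Nat.eq_one_of_dvd_coprimes ((hcop.coprime_dvd_left
          (orderOf_dvd_natCard _ (hQK h2))).pow_right k) dvd_rfl
          (orderOf_dvd_of_pow_eq_one (congrArg Subtype.val hk)))
      calc π l * π a = π l * π a * (π l)⁻¹ * (π a)⁻¹ * (π a * π l) := by group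
        _ = π a * π l := by rw [h3, one_mul]
    · refine le_inf inf_le_left fun a ha => ?_
      set D := L ⊓ B.comap π with hD
      haveI : (D.subgroupOf L).Normal := by
        refine ⟨fun d hd g => ?_⟩
        rw [mem_subgroupOf, hD, Subgroup.mem_inf] at hd ⊢
        refine ⟨(g * d * g⁻¹).2, ?_⟩
        rw [mem_comap, Subgroup.coe_mul, Subgroup.coe_mul, Subgroup.coe_inv, map_mul, map_mul,
          map_inv]
        have := mem_centralizer_iff.1 (hcB (mem_map_of_mem π g.2)) _ hd.2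
        rw [← this, mul_inv_cancel_right]
        exact hd.2
      have hDp : IsPGroup p D := by
        refine IsPGroup.to_le ?_ inf_le_right
        refine IsPGroup.comap_of_ker_isPGroup ?_ π ?_
        · exact fun b => ⟨1, Subtype.ext (by simpa using heA _ b.2.1)⟩
        · rw [hker]; exact CfsgLib.Coprime.pCore_isPGroup p
      exact map_mono (CfsgLib.Coprime.le_pCore
        (hDp.of_equiv (subgroupOfEquivOfLe inf_le_left).symm))
        ((map_subgroupOf_eq_of_le inf_le_left).ge (Subgroup.mem_inf.2 ⟨hAL ha.1, ha.2⟩))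
  refine ⟨y, ?_, ?_⟩
  · exact mem_comap.2 (hQK (hyx ▸ hxS.1))
  rw [hyL]
  refine ⟨hyR, ?_, hNeq, ?_, ?_⟩
  · exact map_le_iff_le_comap.1 (hRQ.le.trans hQK)
  · rw [hAT, inf_comm, inf_relIndex_right, relIndex_comap, ← hAb, hindex]
  · refine le_of_le_of_eq ?_ hker
    rw [hAT, ← MonoidHom.comap_bot, ← map_le_iff_le_comap, Subgroup.map_commutator,
      le_bot_iff, commutator_eq_bot_iff_le_centralizer]
    exact (map_mono inf_le_right).trans ((map_comap_le π B).trans (le_centralizer_iff.1 hcB))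

end Main

end CfsgLib.TwoConjugate
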