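import Cfsg.Prelude.Def_Transfer
import Cfsg.Agent.Lib.Coprime.Action
import Cfsg.Agent.Lib.Coprime.PGroupFrattini
import Cfsg.Agent.Lib.PGroup.FrattiniLe
import Cfsg.Agent.Lib.PGroup.TwoConjugateGeneration
import Mathlib.Data.Nat.Choose.Basic

/-!
# Subgroups with commutators in a central subgroup of order `p`

Pair decompositions give the duality `f = ⁅·, y⁆` and the splitting off of an extraspecial factor.
-/

set_option autoImplicit false
set_option linter.style.haveILetI false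

open Subgroup
open scoped commutatorElement

namespace CfsgLib.SympPairs

variable {G : Type*} [Group G]

/-- All commutators of `W` lie in the central subgroup `⟨z⟩` of order `p`. -/
structure Small (p : ℕ) (z : G) (W : Subgroup G) : Prop where
  pow_z : z ^ p = 1
  ne_one : z ≠ 1
  mem : z ∈ W
  central : ∀ g : G, g * z = z * g
  comm : ∀ x ∈ W, ∀ y ∈ W, ⁅x, y⁆ ∈ zpowers z

namespace Small

variable {p : ℕ} {z : G} {W : Subgroup G} (h : Small p z W)

include h in
theorem mono {V : Subgroup G} (hV : V ≤ W) (hz : z ∈ V) : Small p z V :=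
  ⟨h.pow_z, h.ne_one, hz, h.central, fun x hx y hy => h.comm x (hV hx) y (hV hy)⟩

include h in
theorem central_of_mem {c : G} (hc : c ∈ zpowers z) (g : G) : g * c = c * g := by
  obtain ⟨i, rfl⟩ := mem_zpowers_iff.1 hc
  exact ((show Commute g z from h.central g).zpow_right i).eq

include h in
theorem mul_left {x x' y : G} (_hx : x ∈ W) (hx' : x' ∈ W) (hy : y ∈ W) :
    ⁅x * x', y⁆ = ⁅x, y⁆ * ⁅x', y⁆ := by
  have hc := h.central_of_mem (h.comm x' hx' y hy)
  calc ⁅x * x', y⁆ = (x * ⁅x', y⁆ * x⁻¹) * ⁅x, y⁆ := by simp only [commutatorElement_def]; group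
    _ = ⁅x', y⁆ * ⁅x, y⁆ := by rw [hc x, mul_inv_cancel_right]
    _ = ⁅x, y⁆ * ⁅x', y⁆ := (hc _).symm

include h in
theorem mul_right {x y y' : G} (hx : x ∈ W) (_hy : y ∈ W) (hy' : y' ∈ W) :
    ⁅x, y * y'⁆ = ⁅x, y⁆ * ⁅x, y'⁆ := by
  have hc := h.central_of_mem (h.comm x hx y' hy') y
  calc ⁅x, y * y'⁆ = ⁅x, y⁆ * (y * ⁅x, y'⁆ * y⁻¹) := by simp only [commutatorElement_def]; group
    _ = ⁅x, y⁆ * ⁅x, y'⁆ := by rw [hc, mul_inv_cancel_right]

include h in
theorem zpow_left {x y : G} (hx : x ∈ W) (hy : y ∈ W) (i : ℤ) : ⁅x ^ i, y⁆ = ⁅x, y⁆ ^ i := by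
  induction i using Int.induction_on with
  | zero => simp
  | succ n ih =>
    rw [zpow_add_one, h.mul_left (zpow_mem hx _) hx hy, ih, ← zpow_add_one]
  | pred n ih =>
    have e := h.mul_left (zpow_mem hx (-(n : ℤ) - 1)) hx hy
    rw [← zpow_add_one, sub_add_cancel, ih] at e
    rw [zpow_sub_one ⁅x, y⁆, e, mul_inv_cancel_right]

include h in
theorem zpow_right {x y : G} (hx : x ∈ W) (hy : y ∈ W) (i : ℤ) : ⁅x, y ^ i⁆ = ⁅x, y⁆ ^ i := by
  rw [← commutatorElement_inv, h.zpow_left hy hx, ← inv_zpow, commutatorElement_inv]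

include h in
theorem mul_pow {x y : G} (hx : x ∈ W) (hy : y ∈ W) (j : ℕ) :
    (x * y) ^ j = x ^ j * y ^ j * ⁅y, x⁆ ^ (j.choose 2) := by
  induction j with
  | zero => simp
  | succ j ih =>
    have hc := h.comm y hy x hx
    have hcp : ∀ k : ℕ, ∀ g : G, g * ⁅y, x⁆ ^ k = ⁅y, x⁆ ^ k * g := fun k =>
      h.central_of_mem (pow_mem hc k)
    have e : y ^ j * x = x * y ^ j * ⁅y, x⁆ ^ j := by
      have e1 : ⁅y ^ j, x⁆ = ⁅y, x⁆ ^ j := by
        have := h.zpow_left hy hx (j : ℤ)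
        rwa [zpow_natCast, zpow_natCast] at this
      rw [← e1]
      have hc' := h.central_of_mem (h.comm _ (pow_mem hy j) x hx) (x * y ^ j)
      rw [hc', commutatorElement_def]; group
    calc (x * y) ^ (j + 1) = x ^ j * (y ^ j * (⁅y, x⁆ ^ j.choose 2 * x)) * y := by
          rw [pow_succ, ih]; group
      _ = x ^ j * (y ^ j * x) * (⁅y, x⁆ ^ j.choose 2 * y) := by
          rw [← hcp _ x]; group
      _ = x ^ j * (x * y ^ j * ⁅y, x⁆ ^ j) * (y * ⁅y, x⁆ ^ j.choose 2) := by rw [e, ← hcp _ y]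
      _ = x ^ j * x * (y ^ j * (⁅y, x⁆ ^ j * y)) * ⁅y, x⁆ ^ j.choose 2 := by group
      _ = x ^ (j + 1) * y ^ (j + 1) * (⁅y, x⁆ ^ j * ⁅y, x⁆ ^ j.choose 2) := by
          rw [← hcp _ y, pow_succ, pow_succ]; group
      _ = _ := by rw [← pow_add, Nat.choose_succ_succ' j 1, Nat.choose_one_right]

include h in
theorem comm_pow [Fact p.Prime] {x y : G} (hx : x ∈ W) (hy : y ∈ W) : ⁅x, y⁆ ^ p = 1 := by
  obtain ⟨i, hi⟩ := mem_zpowers_iff.1 (h.comm x hx y hy)
  rw [← hi, ← zpow_natCast, ← zpow_mul, mul_comm, zpow_mul, zpow_natCast, h.pow_z, one_zpow]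

include h in
theorem mul_pow_p [Fact p.Prime] {x y : G} (hx : x ∈ W) (hy : y ∈ W) :
    (x * y) ^ p * (x ^ p * y ^ p)⁻¹ ∈ zpowers z := by
  have hc := pow_mem (h.comm y hy x hx) (p.choose 2)
  rw [h.mul_pow hx hy, show x ^ p * y ^ p * ⁅y, x⁆ ^ p.choose 2 =
    ⁅y, x⁆ ^ p.choose 2 * (x ^ p * y ^ p) from h.central_of_mem hc _, mul_inv_cancel_right]
  exact hc

include h in
/-- A noncommuting pair splits off. -/
theorem exists_pair [Fact p.Prime] (hna : ∃ a ∈ W, ∃ b ∈ W, ⁅a, b⁆ ≠ 1) :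
    ∃ x ∈ W, ∃ y ∈ W, ⁅x, y⁆ = z := by
  obtain ⟨a, ha, b, hb, hab⟩ := hna
  obtain ⟨i, hi⟩ := mem_zpowers_iff.1 (h.comm a ha b hb)
  have hd : ¬ (p : ℤ) ∣ i := fun hd => hab (by
    rw [← hi, CfsgLib.TwoConjugate.zpow_eq_one_of_dvd h.pow_z hd])
  obtain ⟨u, v, huv⟩ :=
    (Nat.prime_iff_prime_int.1 (Fact.out : p.Prime)).coprime_iff_not_dvd.2 hd
  refine ⟨a ^ v, zpow_mem ha v, b, hb, ?_⟩
  rw [h.zpow_left ha hb, ← hi, ← zpow_mul]
  conv_rhs => rw [← zpow_one z, ← huv, zpow_add, mul_comm u, zpow_mul, zpow_natCast, h.pow_z,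
    one_zpow, one_mul]
  rw [mul_comm]

include h in
theorem decomp {x y : G} (hx : x ∈ W) (hy : y ∈ W) (hxy : ⁅x, y⁆ = z) {w : G} (hw : w ∈ W) :
    ∃ i j : ℤ, ∃ w' ∈ W ⊓ centralizer {x} ⊓ centralizer {y}, w = x ^ i * y ^ j * w' := by
  obtain ⟨i, hi⟩ := mem_zpowers_iff.1 (h.comm w hw y hy)
  obtain ⟨j, hj⟩ := mem_zpowers_iff.1 (h.comm w hw x hx)
  refine ⟨i, -j, (x ^ i * y ^ (-j))⁻¹ * w, ?_, by group⟩
  have hm : x ^ i * y ^ (-j) ∈ W := mul_mem (zpow_mem hx _) (zpow_mem hy _)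
  have key : ∀ t ∈ W, ⁅x ^ i * y ^ (-j), t⁆ = ⁅w, t⁆ →
      (x ^ i * y ^ (-j))⁻¹ * w ∈ centralizer {t} := by
    intro t ht e
    have e' := h.mul_left hm (mul_mem (inv_mem hm) hw) ht
    rw [mul_inv_cancel_left, e, left_eq_mul] at e'
    rw [mem_centralizer_singleton_iff]
    exact commutatorElement_eq_one_iff_mul_comm.1 e'
  have hyx : ⁅y, x⁆ = z⁻¹ := by rw [← commutatorElement_inv, hxy]
  refine Subgroup.mem_inf.2 ⟨Subgroup.mem_inf.2 ⟨mul_mem (inv_mem hm) hw, key x hx ?_⟩, key y hy ?_⟩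
  · rw [h.mul_left (zpow_mem hx _) (zpow_mem hy _) hx, h.zpow_left hx hx, h.zpow_left hy hx,
      commutatorElement_self, one_zpow, one_mul, hyx, inv_zpow', neg_neg, hj]
  · rw [h.mul_left (zpow_mem hx _) (zpow_mem hy _) hy, h.zpow_left hx hy, h.zpow_left hy hy,
      commutatorElement_self, one_zpow, mul_one, hxy, hi]

include h in
theorem pair_lt {x y : G} (hx : x ∈ W) (_hy : y ∈ W) (hxy : ⁅x, y⁆ = z) :
    Small p z (W ⊓ centralizer {x} ⊓ centralizer {y}) ∧
      W ⊓ centralizer {x} ⊓ centralizer {y} < W := by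
  refine ⟨h.mono (inf_le_left.trans inf_le_left) ?_, lt_of_le_of_ne
    (inf_le_left.trans inf_le_left) fun e => ?_⟩
  · exact Subgroup.mem_inf.2 ⟨Subgroup.mem_inf.2 ⟨h.mem,
      mem_centralizer_singleton_iff.2 (h.central x).symm⟩,
      mem_centralizer_singleton_iff.2 (h.central y).symm⟩
  · have hm := mem_centralizer_singleton_iff.1 (Subgroup.mem_inf.1 (e.ge hx)).2
    exact h.ne_one (by rw [← hxy, commutatorElement_eq_one_iff_mul_comm.2 hm])

include h in
theorem center_pair {x y : G} (hx : x ∈ W) (hy : y ∈ W) (hxy : ⁅x, y⁆ = z) :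
    (W ⊓ centralizer {x} ⊓ centralizer {y}) ⊓
      centralizer ((W ⊓ centralizer {x} ⊓ centralizer {y} : Subgroup G) : Set G) =
        W ⊓ centralizer (W : Set G) := by
  apply le_antisymm
  · intro c hc
    obtain ⟨hc1, hc2⟩ := Subgroup.mem_inf.1 hc
    obtain ⟨hc0, hcy⟩ := Subgroup.mem_inf.1 hc1
    obtain ⟨hcW, hcx⟩ := Subgroup.mem_inf.1 hc0
    refine Subgroup.mem_inf.2 ⟨hcW, mem_centralizer_iff.2 fun w hw => ?_⟩
    obtain ⟨i, j, w', hw', rfl⟩ := h.decomp hx hy hxy hw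
    exact (((((show Commute x c from (mem_centralizer_singleton_iff.1 hcx).symm).zpow_left i).mul_left
      ((show Commute y c from (mem_centralizer_singleton_iff.1 hcy).symm).zpow_left j))).mul_left
      (show Commute w' c from mem_centralizer_iff.1 hc2 w' hw')).eq
  · intro c hc
    obtain ⟨hcW, hcC⟩ := Subgroup.mem_inf.1 hc
    refine Subgroup.mem_inf.2 ⟨Subgroup.mem_inf.2 ⟨Subgroup.mem_inf.2 ⟨hcW,
      mem_centralizer_singleton_iff.2 (mem_centralizer_iff.1 hcC x hx).symm⟩,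
      mem_centralizer_singleton_iff.2 (mem_centralizer_iff.1 hcC y hy).symm⟩,
      mem_centralizer_iff.2 fun w hw =>
        mem_centralizer_iff.1 hcC w (Subgroup.mem_inf.1 (Subgroup.mem_inf.1 hw).1).1⟩

variable [Finite G] [hp : Fact p.Prime]

omit h in
/-- Every homomorphism into `⟨z⟩` killing the centre is a commutator map. -/
theorem dual (p : ℕ) [Fact p.Prime] (z : G) :
    ∀ W : Subgroup G, Small p z W → ∀ f : G → G, (∀ x ∈ W, ∀ y ∈ W, f (x * y) = f x * f y) →
      (∀ x ∈ W, f x ∈ zpowers z) → (∀ c ∈ W ⊓ centralizer (W : Set G), f c = 1) →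
      ∃ t ∈ W, ∀ x ∈ W, f x = ⁅x, t⁆ := by
  intro W
  induction W using WellFoundedLT.induction with
  | ind W ih =>
  intro h f hf hfz hf0
  by_cases hna : ∃ a ∈ W, ∃ b ∈ W, ⁅a, b⁆ ≠ 1
  · obtain ⟨x, hx, y, hy, hxy⟩ := h.exists_pair hna
    obtain ⟨hV, hlt⟩ := h.pair_lt hx hy hxy
    set V := W ⊓ centralizer {x} ⊓ centralizer {y} with hVdef
    obtain ⟨t', ht', htf⟩ := ih V hlt hV f (fun a ha b hb => hf a (hlt.le ha) b (hlt.le hb))
      (fun a ha => hfz a (hlt.le ha)) (fun c hc => hf0 c ((h.center_pair hx hy hxy).le hc))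
    obtain ⟨i, hi⟩ := mem_zpowers_iff.1 (hfz x hx)
    obtain ⟨j, hj⟩ := mem_zpowers_iff.1 (hfz y hy)
    have htW : t' ∈ W := hlt.le ht'
    obtain ⟨ht0, hty⟩ := Subgroup.mem_inf.1 ht'
    obtain ⟨-, htx⟩ := Subgroup.mem_inf.1 ht0
    refine ⟨y ^ i * x ^ (-j) * t', mul_mem (mul_mem (zpow_mem hy _) (zpow_mem hx _)) htW,
      fun w hw => ?_⟩
    set t := y ^ i * x ^ (-j) * t' with ht
    have htm : t ∈ W := mul_mem (mul_mem (zpow_mem hy _) (zpow_mem hx _)) htW
    have hyx : ⁅y, x⁆ = z⁻¹ := by rw [← commutatorElement_inv, hxy]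
    have hval : ∀ u ∈ W, ⁅u, t⁆ = ⁅u, y⁆ ^ i * ⁅u, x⁆ ^ (-j) * ⁅u, t'⁆ := fun u hu => by
      rw [ht, h.mul_right hu (mul_mem (zpow_mem hy _) (zpow_mem hx _)) htW,
        h.mul_right hu (zpow_mem hy _) (zpow_mem hx _), h.zpow_right hu hy, h.zpow_right hu hx]
    have h1x : ⁅x, t'⁆ = 1 :=
      commutatorElement_eq_one_iff_mul_comm.2 (mem_centralizer_singleton_iff.1 htx).symm
    have h1y : ⁅y, t'⁆ = 1 :=
      commutatorElement_eq_one_iff_mul_comm.2 (mem_centralizer_singleton_iff.1 hty).symm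
    have hfx : f x = ⁅x, t⁆ := by
      rw [hval x hx, hxy, commutatorElement_self, one_zpow, mul_one, h1x, mul_one, hi]
    have hfy : f y = ⁅y, t⁆ := by
      rw [hval y hy, hyx, commutatorElement_self, one_zpow, one_mul, h1y, mul_one, inv_zpow',
        neg_neg, hj]
    -- the difference is multiplicative and kills `x`, `y` and `V`
    let S : Subgroup G :=
      { carrier := {u | u ∈ W ∧ f u = ⁅u, t⁆}
        one_mem' := ⟨one_mem W, by
          have := hf 1 (one_mem W) 1 (one_mem W)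
          rw [mul_one, left_eq_mul] at this
          rw [this, commutatorElement_one_left]⟩
        mul_mem' := fun {a b} ha hb => ⟨mul_mem ha.1 hb.1, by
          rw [hf a ha.1 b hb.1, ha.2, hb.2, h.mul_left ha.1 hb.1 htm]⟩
        inv_mem' := fun {a} ha => ⟨inv_mem ha.1, by
          have h1 := hf a⁻¹ (inv_mem ha.1) a ha.1
          have h0 := hf 1 (one_mem W) 1 (one_mem W)
          rw [mul_one, left_eq_mul] at h0
          rw [inv_mul_cancel, h0, ha.2] at h1
          have h2 := h.mul_left (inv_mem ha.1) ha.1 htm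
          rw [inv_mul_cancel, commutatorElement_one_left] at h2
          exact mul_right_cancel (h1.symm.trans h2)⟩ }
    suffices hS : w ∈ S from hS.2
    obtain ⟨a, b, w', hw', rfl⟩ := h.decomp hx hy hxy hw
    refine mul_mem (mul_mem (zpow_mem (show x ∈ S from ⟨hx, hfx⟩) a)
      (zpow_mem (show y ∈ S from ⟨hy, hfy⟩) b)) ⟨hlt.le hw', ?_⟩
    obtain ⟨hw0, hwy⟩ := Subgroup.mem_inf.1 hw'
    obtain ⟨-, hwx⟩ := Subgroup.mem_inf.1 hw0
    rw [hval w' (hlt.le hw'), htf w' hw',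
      commutatorElement_eq_one_iff_mul_comm.2 (mem_centralizer_singleton_iff.1 hwy),
      commutatorElement_eq_one_iff_mul_comm.2 (mem_centralizer_singleton_iff.1 hwx),
      one_zpow, one_zpow, one_mul, one_mul]
  · push Not at hna
    refine ⟨1, one_mem W, fun x hx => ?_⟩
    rw [commutatorElement_one_right]
    exact hf0 x (Subgroup.mem_inf.2 ⟨hx, mem_centralizer_iff.2 fun y hy =>
      commutatorElement_eq_one_iff_mul_comm.1 (hna y hy x hx)⟩)

omit h in
/-- An extraspecial factor. -/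
theorem exists_factor (p : ℕ) [Fact p.Prime] (z : G) :
    ∀ W : Subgroup G, Small p z W →
      (∀ x ∈ W, ∃ c ∈ W ⊓ centralizer (W : Set G), (x * c) ^ p ∈ zpowers z) →
      ∃ E ≤ W, z ∈ E ∧ (∀ e ∈ E, e ^ p ∈ zpowers z) ∧
        (∀ e ∈ E, e ∈ centralizer (W : Set G) → e ∈ zpowers z) ∧
        ∀ w ∈ W, ∃ e ∈ E, ∃ c ∈ W ⊓ centralizer (W : Set G), w = e * c := by
  intro W
  induction W using WellFoundedLT.induction with
  | ind W ih =>
  intro h hadj
  by_cases hna : ∃ a ∈ W, ∃ b ∈ W, ⁅a, b⁆ ≠ 1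
  · obtain ⟨x₀, hx₀, y₀, hy₀, hxy₀⟩ := h.exists_pair hna
    obtain ⟨cx, hcx, hxp⟩ := hadj x₀ hx₀
    obtain ⟨cy, hcy, hyp⟩ := hadj y₀ hy₀
    obtain ⟨hcxW, hcxC⟩ := Subgroup.mem_inf.1 hcx
    obtain ⟨hcyW, hcyC⟩ := Subgroup.mem_inf.1 hcy
    set x := x₀ * cx with hxdef
    set y := y₀ * cy with hydef
    have hx : x ∈ W := mul_mem hx₀ hcxW
    have hy : y ∈ W := mul_mem hy₀ hcyW
    have hxy : ⁅x, y⁆ = z := by
      have e1 : ∀ u ∈ W, ⁅cx, u⁆ = 1 := fun u hu =>
        commutatorElement_eq_one_iff_mul_comm.2 (mem_centralizer_iff.1 hcxC u hu).symm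
      have e2 : ∀ u ∈ W, ⁅u, cy⁆ = 1 := fun u hu =>
        commutatorElement_eq_one_iff_mul_comm.2 (mem_centralizer_iff.1 hcyC u hu)
      rw [hxdef, h.mul_left hx₀ hcxW hy, e1 y hy, mul_one, hydef, h.mul_right hx₀ hy₀ hcyW,
        e2 x₀ hx₀, mul_one, hxy₀]
    obtain ⟨hV, hlt⟩ := h.pair_lt hx hy hxy
    set V := W ⊓ centralizer {x} ⊓ centralizer {y} with hVdef
    have hcen := h.center_pair hx hy hxy
    obtain ⟨E1, hE1V, hzE1, hE1p, hE1c, hE1s⟩ := ih V hlt hV fun v hv => by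
      obtain ⟨c, hc, hcp⟩ := hadj v (hlt.le hv)
      exact ⟨c, hcen.ge hc, hcp⟩
    set E := closure ({x, y} : Set G) ⊔ E1 with hE
    have hEW : E ≤ W := sup_le ((closure_le _).2 (by rintro u (rfl | rfl) <;> assumption))
      (hE1V.trans hlt.le)
    have hxE : x ∈ E := mem_sup_left (subset_closure (Or.inl rfl))
    have hyE : y ∈ E := mem_sup_left (subset_closure (Or.inr rfl))
    have hzE : z ∈ E := mem_sup_right hzE1
    have hzpE : zpowers z ≤ E := zpowers_le.2 hzE
    -- normal form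
    have hform : ∀ e ∈ E, ∃ a b : ℤ, ∃ e' ∈ E1, e = x ^ a * y ^ b * e' := by
      intro e he
      obtain ⟨a, b, e', he', hee⟩ := h.decomp hx hy hxy (hEW he)
      refine ⟨a, b, e', ?_, hee⟩
      -- the component lies in `E1`
      let T : Subgroup G :=
        { carrier := {u | u ∈ W ∧ ∃ a b : ℤ, ∃ u' ∈ E1, u = x ^ a * y ^ b * u'}
          one_mem' := ⟨one_mem W, 0, 0, 1, one_mem E1, by simp⟩
          mul_mem' := fun {u v} hu hv => by
            obtain ⟨hu, a, b, u', hu', rfl⟩ := hu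
            obtain ⟨hv, c, d, v', hv', rfl⟩ := hv
            refine ⟨mul_mem hu hv, a + c, b + d, ⁅y ^ b, x ^ c⁆ * u' * v', mul_mem (mul_mem
              (zpowers_le.2 hzE1 (h.comm _ (zpow_mem hy _) _ (zpow_mem hx _))) hu') hv', ?_⟩
            obtain ⟨hu0, huy⟩ := Subgroup.mem_inf.1 (hE1V hu')
            obtain ⟨-, hux⟩ := Subgroup.mem_inf.1 hu0
            have e1 : Commute u' (x ^ c * y ^ d) :=
              ((show Commute u' x from mem_centralizer_singleton_iff.1 hux).zpow_right c).mul_right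
                ((show Commute u' y from mem_centralizer_singleton_iff.1 huy).zpow_right d)
            have hc' := h.central_of_mem (h.comm _ (zpow_mem hy b) _ (zpow_mem hx c))
            calc x ^ a * y ^ b * u' * (x ^ c * y ^ d * v')
                = x ^ a * y ^ b * (u' * (x ^ c * y ^ d)) * v' := by group
              _ = x ^ a * (⁅y ^ b, x ^ c⁆ * (x ^ c * y ^ b)) * y ^ d * u' * v' := by
                  rw [e1.eq, commutatorElement_def]; group
              _ = x ^ a * ((x ^ c * y ^ b) * ⁅y ^ b, x ^ c⁆) * y ^ d * u' * v' := by rw [hc']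
              _ = x ^ (a + c) * y ^ b * (⁅y ^ b, x ^ c⁆ * y ^ d) * u' * v' := by
                  rw [zpow_add]; group
              _ = x ^ (a + c) * y ^ b * (y ^ d * ⁅y ^ b, x ^ c⁆) * u' * v' := by rw [hc']
              _ = _ := by rw [zpow_add y]; group
          inv_mem' := fun {u} hu => by
            obtain ⟨hu, a, b, u', hu', rfl⟩ := hu
            refine ⟨inv_mem hu, -a, -b, ⁅y ^ (-b), x ^ (-a)⁆ * u'⁻¹, mul_mem
              (zpowers_le.2 hzE1 (h.comm _ (zpow_mem hy _) _ (zpow_mem hx _))) (inv_mem hu'), ?_⟩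
            obtain ⟨hu0, huy⟩ := Subgroup.mem_inf.1 (hE1V hu')
            obtain ⟨-, hux⟩ := Subgroup.mem_inf.1 hu0
            have e1 : Commute u'⁻¹ (y ^ (-b) * x ^ (-a)) :=
              ((show Commute u' y from mem_centralizer_singleton_iff.1 huy).inv_left.zpow_right
                (-b)).mul_right
              ((show Commute u' x from mem_centralizer_singleton_iff.1 hux).inv_left.zpow_right (-a))
            have hc' := h.central_of_mem (h.comm _ (zpow_mem hy (-b)) _ (zpow_mem hx (-a)))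
            calc (x ^ a * y ^ b * u')⁻¹ = u'⁻¹ * (y ^ (-b) * x ^ (-a)) := by group
              _ = ⁅y ^ (-b), x ^ (-a)⁆ * (x ^ (-a) * y ^ (-b)) * u'⁻¹ := by
                  rw [e1.eq, commutatorElement_def]; group
              _ = x ^ (-a) * y ^ (-b) * ⁅y ^ (-b), x ^ (-a)⁆ * u'⁻¹ := by rw [← hc']
              _ = _ := by group }
      have hET : E ≤ T := by
        refine sup_le ((closure_le _).2 ?_) fun u hu => ⟨hlt.le (hE1V hu), 0, 0, u, hu, by simp⟩
        rintro u (rfl | rfl)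
        · exact ⟨hx, 1, 0, 1, one_mem E1, by simp⟩
        · exact ⟨hy, 0, 1, 1, one_mem E1, by simp⟩
      obtain ⟨-, a', b', u', hu', hee'⟩ := hET he
      -- both normal forms agree up to `⟨z⟩` and the powers
      have hd : u' * e'⁻¹ = (x ^ a' * y ^ b')⁻¹ * (x ^ a * y ^ b) := by
        have e0 : x ^ a' * y ^ b' * u' = x ^ a * y ^ b * e' := hee'.symm.trans hee
        calc u' * e'⁻¹ = (x ^ a' * y ^ b')⁻¹ * (x ^ a' * y ^ b' * u') * e'⁻¹ := by group
          _ = _ := by rw [e0]; group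
      have hq : ∀ t : G, t ∈ W → t ∈ centralizer {x} → t ∈ centralizer {y} →
          ∀ a b : ℤ, t = x ^ a * y ^ b → (p : ℤ) ∣ a ∧ (p : ℤ) ∣ b := by
        intro t _ htx hty a b ht
        have hyx : ⁅y, x⁆ = z⁻¹ := by rw [← commutatorElement_inv, hxy]
        have k1 : ⁅t, x⁆ = z ^ (-b) := by
          rw [ht, h.mul_left (zpow_mem hx _) (zpow_mem hy _) hx, h.zpow_left hx hx, h.zpow_left hy hx,
            commutatorElement_self, one_zpow, one_mul, hyx, inv_zpow']
        have k2 : ⁅t, y⁆ = z ^ a := by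
          rw [ht, h.mul_left (zpow_mem hx _) (zpow_mem hy _) hy, h.zpow_left hx hy, h.zpow_left hy hy,
            commutatorElement_self, one_zpow, mul_one, hxy]
        rw [commutatorElement_eq_one_iff_mul_comm.2 (mem_centralizer_singleton_iff.1 htx)] at k1
        rw [commutatorElement_eq_one_iff_mul_comm.2 (mem_centralizer_singleton_iff.1 hty)] at k2
        have hord : ∀ i : ℤ, z ^ i = 1 → (p : ℤ) ∣ i := fun i hi => by
          rw [← orderOf_eq_prime h.pow_z h.ne_one]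
          exact orderOf_dvd_iff_zpow_eq_one.2 hi
        exact ⟨hord a k2.symm, (dvd_neg).1 (hord _ k1.symm)⟩
      obtain ⟨hu0, huy⟩ := Subgroup.mem_inf.1 (hE1V hu')
      obtain ⟨huW, hux⟩ := Subgroup.mem_inf.1 hu0
      obtain ⟨he0, hey⟩ := Subgroup.mem_inf.1 he'
      obtain ⟨heW, hex⟩ := Subgroup.mem_inf.1 he0
      set t := u' * e'⁻¹ with htdef
      have ht : t = x ^ (a - a') * y ^ (b - b') * ⁅y ^ (-b'), x ^ (a - a')⁆ := by
        have hc' := h.central_of_mem
          (h.comm _ (zpow_mem hy (-b')) _ (zpow_mem hx (a - a'))) (x ^ (a - a') * y ^ (b - b'))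
        rw [hd, hc', commutatorElement_def, sub_eq_add_neg, sub_eq_add_neg, zpow_add, zpow_add]
        group
      have htW : t ∈ W := mul_mem huW (inv_mem heW)
      have hcz := h.comm _ (zpow_mem hy (-b')) _ (zpow_mem hx (a - a'))
      have hts : t * ⁅y ^ (-b'), x ^ (a - a')⁆⁻¹ = x ^ (a - a') * y ^ (b - b') := by
        rw [ht]; group
      have hzin : ∀ u : G, ⁅y ^ (-b'), x ^ (a - a')⁆⁻¹ ∈ centralizer {u} := fun u =>
        mem_centralizer_singleton_iff.2 (h.central_of_mem (inv_mem hcz) u).symm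
      obtain ⟨⟨k, hk⟩, ⟨l, hl⟩⟩ := hq _
        (mul_mem htW (inv_mem (zpowers_le.2 h.mem hcz)))
        (mul_mem (mul_mem hux (inv_mem hex)) (hzin x))
        (mul_mem (mul_mem huy (inv_mem hey)) (hzin y)) _ _ hts
      have htE : t ∈ E1 := by
        rw [ht]
        refine mul_mem (mul_mem ?_ ?_) (zpowers_le.2 hzE1 hcz)
        · rw [hk, zpow_mul, zpow_natCast]
          exact zpow_mem (zpowers_le.2 hzE1 hxp) k
        · rw [hl, zpow_mul, zpow_natCast]
          exact zpow_mem (zpowers_le.2 hzE1 hyp) l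
      have := mul_mem (inv_mem htE) hu'
      rwa [htdef, mul_inv_rev, inv_inv, inv_mul_cancel_right] at this
    refine ⟨E, hEW, hzE, ?_, ?_, ?_⟩
    · intro e he
      obtain ⟨a, b, e', he', rfl⟩ := hform e he
      have hxa : (x ^ a) ^ p ∈ zpowers z := by
        rw [← zpow_natCast, ← zpow_mul, mul_comm, zpow_mul, zpow_natCast]
        exact zpow_mem hxp a
      have hyb : (y ^ b) ^ p ∈ zpowers z := by
        rw [← zpow_natCast, ← zpow_mul, mul_comm, zpow_mul, zpow_natCast]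
        exact zpow_mem hyp b
      have he'W : e' ∈ W := hlt.le (hE1V he')
      have h1 := h.mul_pow_p (zpow_mem hx a) (zpow_mem hy b)
      have h2 : (x ^ a * y ^ b) ^ p ∈ zpowers z := by
        have := mul_mem h1 (mul_mem hxa hyb)
        rwa [inv_mul_cancel_right] at this
      have h3 := h.mul_pow_p (mul_mem (zpow_mem hx a) (zpow_mem hy b)) he'W
      have := mul_mem h3 (mul_mem h2 (hE1p e' he'))
      rwa [inv_mul_cancel_right] at this
    · intro e he hec
      obtain ⟨a, b, e', he', rfl⟩ := hform e he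
      obtain ⟨hu0, huy⟩ := Subgroup.mem_inf.1 (hE1V he')
      obtain ⟨-, hux⟩ := Subgroup.mem_inf.1 hu0
      have he'W : e' ∈ W := hlt.le (hE1V he')
      have hm : x ^ a * y ^ b ∈ W := mul_mem (zpow_mem hx a) (zpow_mem hy b)
      have hyx : ⁅y, x⁆ = z⁻¹ := by rw [← commutatorElement_inv, hxy]
      have hord : ∀ i : ℤ, z ^ i = 1 → (p : ℤ) ∣ i := fun i hi => by
        rw [← orderOf_eq_prime h.pow_z h.ne_one]
        exact orderOf_dvd_iff_zpow_eq_one.2 hi
      have k2 : ⁅x ^ a * y ^ b * e', y⁆ = z ^ a := by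
        rw [h.mul_left hm he'W hy,
          commutatorElement_eq_one_iff_mul_comm.2 (mem_centralizer_singleton_iff.1 huy), mul_one,
          h.mul_left (zpow_mem hx _) (zpow_mem hy _) hy, h.zpow_left hx hy, h.zpow_left hy hy,
          commutatorElement_self, one_zpow, mul_one, hxy]
      have k1 : ⁅x ^ a * y ^ b * e', x⁆ = z ^ (-b) := by
        rw [h.mul_left hm he'W hx,
          commutatorElement_eq_one_iff_mul_comm.2 (mem_centralizer_singleton_iff.1 hux), mul_one,
          h.mul_left (zpow_mem hx _) (zpow_mem hy _) hx, h.zpow_left hx hx, h.zpow_left hy hx,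
          commutatorElement_self, one_zpow, one_mul, hyx, inv_zpow']
      rw [commutatorElement_eq_one_iff_mul_comm.2 (mem_centralizer_iff.1 hec y hy).symm] at k2
      rw [commutatorElement_eq_one_iff_mul_comm.2 (mem_centralizer_iff.1 hec x hx).symm] at k1
      obtain ⟨k, rfl⟩ := hord a k2.symm
      obtain ⟨l, rfl⟩ := (dvd_neg).1 (hord _ k1.symm)
      have hmz : x ^ ((p : ℤ) * k) * y ^ ((p : ℤ) * l) ∈ zpowers z := by
        rw [zpow_mul, zpow_mul, zpow_natCast, zpow_natCast]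
        exact mul_mem (zpow_mem hxp k) (zpow_mem hyp l)
      refine mul_mem hmz (hE1c e' he' (mem_centralizer_iff.2 fun v hv => ?_))
      have hvW : v ∈ W := hlt.le hv
      have e0 := mem_centralizer_iff.1 hec v hvW
      rw [← mul_assoc v, h.central_of_mem hmz v, mul_assoc _ v e', mul_assoc _ e' v] at e0
      exact mul_left_cancel e0
    · intro w hw
      obtain ⟨a, b, w', hw', rfl⟩ := h.decomp hx hy hxy hw
      obtain ⟨e', he', c, hc, rfl⟩ := hE1s w' hw'
      exact ⟨x ^ a * y ^ b * e', mul_mem (mul_mem (zpow_mem hxE a) (zpow_mem hyE b))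
        (mem_sup_right he'), c, hcen.le hc, (mul_assoc _ _ _).symm⟩
  · push Not at hna
    refine ⟨zpowers z, zpowers_le.2 h.mem, mem_zpowers z, fun e he => pow_mem he p,
      fun e he _ => he, fun w hw => ⟨1, one_mem _, w, Subgroup.mem_inf.2 ⟨hw,
        mem_centralizer_iff.2 fun y hy => commutatorElement_eq_one_iff_mul_comm.1 (hna y hy w hw)⟩,
        (one_mul w).symm⟩⟩

end Small

/-- A group with the data of an extraspecial group is extraspecial. -/
theorem isExtraspecial_of_data [Finite G] {p : ℕ} [hp : Fact p.Prime] {z : G} (E : Subgroup G)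
    (hE : IsPGroup p E) (h : Small p z E) (hpow : ∀ e ∈ E, e ^ p ∈ zpowers z)
    (hcen : ∀ e ∈ E, e ∈ centralizer (E : Set G) → e ∈ zpowers z)
    (hna : ∃ a ∈ E, ∃ b ∈ E, ⁅a, b⁆ ≠ 1) : Cfsg.IsExtraspecial p ↥E := by
  set Z := (zpowers z).subgroupOf E with hZ
  have hcenter : center ↥E = Z := by
    ext x
    rw [hZ, mem_subgroupOf, mem_center_iff]
    constructor
    · intro hx
      exact hcen x x.2 (mem_centralizer_iff.2 fun e he => congrArg Subtype.val (hx ⟨e, he⟩))
    · intro hx g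
      exact Subtype.ext (h.central_of_mem hx g)
  have hcard : Nat.card Z = p := by
    rw [hZ, Nat.card_congr (subgroupOfEquivOfLe (zpowers_le.2 h.mem)).toEquiv, Nat.card_zpowers,
      orderOf_eq_prime h.pow_z h.ne_one]
  have hcomm : commutator ↥E ≤ Z := by
    rw [_root_.commutator_def, commutator_le]
    intro a _ b _
    rw [hZ, mem_subgroupOf]
    exact h.comm a a.2 b b.2
  have hcommne : commutator ↥E ≠ ⊥ := by
    obtain ⟨a, ha, b, hb, hab⟩ := hna
    intro e
    have hm : ⁅(⟨a, ha⟩ : E), (⟨b, hb⟩ : E)⁆ ∈ commutator ↥E :=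
      commutator_mem_commutator (mem_top _) (mem_top _)
    rw [e, mem_bot] at hm
    exact hab (congrArg Subtype.val hm)
  have hceq : commutator ↥E = Z := by
    refine eq_of_le_of_card_ge hcomm ?_
    rw [hcard]
    rcases (Nat.dvd_prime hp.out).1 (hcard ▸ card_dvd_of_le hcomm) with h1 | h1
    · exact absurd (card_eq_one.1 h1) hcommne
    · exact h1.ge
  refine ⟨⟨hE, ?_, hceq.trans hcenter.symm⟩, by rw [hcenter]; exact hcard⟩
  rw [hcenter]
  refine le_antisymm (CfsgLib.FrattiniLe.frattini_le_of_pow_of_commutator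
    (fun x => by rw [hZ, mem_subgroupOf]; exact hpow x x.2) hcomm) ?_
  rw [← hceq]
  exact CfsgLib.Coprime.commutator_le_frattini hE

end CfsgLib.SympPairs
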