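import Mathlib
import Cfsg.Agent.Lib.PGroup.StemExtension

/-!
# The universal central extension of a free presentation and the Schur multiplier

For a finite group `G` let `E G = F ⧸ ⁅R, F⁆` where `F` is free on `G` and `R` is the kernel of the
evaluation.  Its kernel over `G`, intersected with the derived subgroup, is the multiplier in the
sense of `Cfsg.HasSchurMultiplier`.
-/

set_option autoImplicit false
open Subgroup
open scoped commutatorElement

namespace CfsgLib.Schur

universe u v w

section General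

variable {Δ : Type u} [Group Δ] {Q : Type v} [Group Q]

theorem sup_center_eq_top {H : Subgroup Δ} {τ : Δ →* Q} (hker : τ.ker ≤ center Δ)
    (h : H.map τ = ⊤) : H ⊔ center Δ = ⊤ := by
  have hsup : H ⊔ τ.ker = ⊤ := by rw [← comap_map_eq, h, comap_top]
  exact top_le_iff.1 (hsup.ge.trans (sup_le_sup_left hker H))

/-- A homomorphism over `Q` into a central extension whose image covers `Q` maps the derived
subgroup onto the derived subgroup. -/
theorem map_commutator_eq {X : Type w} [Group X] {τ : Δ →* Q} (hker : τ.ker ≤ center Δ)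
    (η : X →* Δ) (h : η.range.map τ = ⊤) :
    (_root_.commutator X).map η = _root_.commutator Δ := by
  rw [commutator_eq_of_sup_center (sup_center_eq_top hker h), MonoidHom.range_eq_map,
    _root_.commutator_def, map_commutator]

/-- Two lifts into a central extension differ by a homomorphism, so agree on commutators. -/
theorem eq_on_commutator {X : Type w} [Group X] {τ : Δ →* Q} (hker : τ.ker ≤ center Δ)
    (η η' : X →* Δ) (h : ∀ x, τ (η x) = τ (η' x)) {c : X} (hc : c ∈ _root_.commutator X) :
    η c = η' c := by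
  have hz : ∀ x, (η' x)⁻¹ * η x ∈ center Δ := fun x => hker (by
    rw [MonoidHom.mem_ker, map_mul, map_inv, h x, inv_mul_cancel])
  rw [commutator_eq_closure] at hc
  induction hc using Subgroup.closure_induction with
  | mem c hc =>
    obtain ⟨a, b, rfl⟩ := hc
    obtain ⟨z, hz1, ha⟩ : ∃ z ∈ center Δ, η a = η' a * z := ⟨_, hz a, by group⟩
    obtain ⟨z', hz2, hb⟩ : ∃ z ∈ center Δ, η b = η' b * z := ⟨_, hz b, by group⟩
    rw [map_commutatorElement, map_commutatorElement, ha, hb]
    have hzl : ∀ w, z * w = w * z := fun w => (mem_center_iff.1 hz1 w).symm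
    have hzl' : ∀ w, z' * w = w * z' := fun w => (mem_center_iff.1 hz2 w).symm
    simp only [commutatorElement_def, mul_inv_rev]
    calc η' a * z * (η' b * z') * (z⁻¹ * (η' a)⁻¹) * (z'⁻¹ * (η' b)⁻¹)
        = η' a * (z * (η' b * z')) * z⁻¹ * (η' a)⁻¹ * (z'⁻¹ * (η' b)⁻¹) := by group
      _ = η' a * η' b * (z' * (η' a)⁻¹) * z'⁻¹ * (η' b)⁻¹ := by rw [hzl]; group
      _ = η' a * η' b * (η' a)⁻¹ * (η' b)⁻¹ := by rw [hzl']; group
  | one => simp
  | mul a b _ _ ha hb => rw [map_mul, map_mul, ha, hb]
  | inv a _ ha => rw [map_inv, map_inv, ha]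

end General

variable (G : Type u) [Group G]

/-- The evaluation of the free group on `G`. -/
noncomputable def pres : FreeGroup G →* G := FreeGroup.lift id

/-- The relations modulo which the extension becomes central. -/
noncomputable def relComm : Subgroup (FreeGroup G) := ⁅(pres G).ker, ⊤⁆

instance relComm_normal : (relComm G).Normal := commutator_normal _ _

/-- The universal central extension of the free presentation. -/
abbrev E : Type u := FreeGroup G ⧸ relComm G

theorem relComm_le : relComm G ≤ (pres G).ker := commutator_le_left _ _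

/-- The projection of the universal central extension. -/
noncomputable def proj : E G →* G := QuotientGroup.lift _ (pres G) (relComm_le G)

@[simp] theorem proj_mk (x : FreeGroup G) : proj G (QuotientGroup.mk x) = pres G x := rfl

theorem proj_surjective : Function.Surjective (proj G) :=
  fun g => ⟨QuotientGroup.mk (FreeGroup.of g), by rw [proj_mk, pres, FreeGroup.lift_apply_of]; rfl⟩

theorem ker_le_center : (proj G).ker ≤ center (E G) := by
  intro e he
  obtain ⟨x, rfl⟩ := QuotientGroup.mk'_surjective (relComm G) e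
  refine mem_center_iff.2 fun d => ?_
  obtain ⟨y, rfl⟩ := QuotientGroup.mk'_surjective (relComm G) d
  rw [eq_comm, ← commutatorElement_eq_one_iff_mul_comm, ← map_commutatorElement]
  exact (QuotientGroup.eq_one_iff _).2 (commutator_mem_commutator he (mem_top _))

/-- Lifting through a central extension. -/
theorem exists_lift {H : Type w} [Group H] {Δ : Type v} [Group Δ] (τ : Δ →* H)
    (hsurj : Function.Surjective τ) (hker : τ.ker ≤ center Δ) (γ : G →* H) :
    ∃ η : E G →* Δ, ∀ e, τ (η e) = γ (proj G e) := by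
  choose s hs using hsurj
  let η₀ : FreeGroup G →* Δ := FreeGroup.lift fun g => s (γ g)
  have hcomp : ∀ x, τ (η₀ x) = γ (pres G x) := by
    intro x
    change (τ.comp η₀) x = (γ.comp (pres G)) x
    congr 1
    exact FreeGroup.ext_hom _ _ fun g => by simp [η₀, pres, hs]
  have hle : relComm G ≤ η₀.ker := by
    rw [relComm, commutator_le]
    intro r hr y _
    rw [MonoidHom.mem_ker, map_commutatorElement, commutatorElement_eq_one_iff_mul_comm]
    refine (mem_center_iff.1 (hker ?_) (η₀ y)).symm
    rw [MonoidHom.mem_ker, hcomp, MonoidHom.mem_ker.1 hr, map_one]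
  refine ⟨QuotientGroup.lift _ η₀ hle, fun e => ?_⟩
  obtain ⟨x, rfl⟩ := QuotientGroup.mk'_surjective (relComm G) e
  exact hcomp x

/-- The multiplier as a subgroup of the universal central extension. -/
noncomputable def mult : Subgroup (E G) := (proj G).ker ⊓ _root_.commutator (E G)

theorem mult_le_center : mult G ≤ center (E G) := inf_le_left.trans (ker_le_center G)

noncomputable instance : CommGroup (mult G) :=
  { (inferInstance : Group (mult G)) with
    mul_comm := fun a b => Subtype.ext (mem_center_iff.1 (mult_le_center G b.2) a) }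

variable [Finite G]

instance finiteIndex_center : (center (E G)).FiniteIndex := by
  haveI : (proj G).ker.FiniteIndex := Subgroup.finiteIndex_ker (proj G)
  exact Subgroup.finiteIndex_of_le (ker_le_center G)

instance finite_commutatorSet : Finite (commutatorSet (E G)) := by
  have hf : (commutatorSet (E G)) ⊆ Set.range fun z : (E G ⧸ center (E G)) × (E G ⧸ center (E G)) =>
      ⁅z.1.out, z.2.out⁆ := by
    rintro _ ⟨a, b, rfl⟩
    refine ⟨((a : E G ⧸ center (E G)), (b : E G ⧸ center (E G))), ?_⟩
    obtain ⟨za, hza⟩ := QuotientGroup.mk_out_eq_mul (center (E G)) a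
    obtain ⟨zb, hzb⟩ := QuotientGroup.mk_out_eq_mul (center (E G)) b
    simp only
    rw [hza, hzb]
    have h1 : ∀ x, (za : E G) * x = x * za := fun x => (mem_center_iff.1 za.2 x).symm
    have h2 : ∀ x, (zb : E G) * x = x * zb := fun x => (mem_center_iff.1 zb.2 x).symm
    simp only [commutatorElement_def, mul_inv_rev]
    calc a * za * (b * zb) * ((za : E G)⁻¹ * a⁻¹) * ((zb : E G)⁻¹ * b⁻¹)
        = a * (za * (b * zb)) * (za : E G)⁻¹ * a⁻¹ * ((zb : E G)⁻¹ * b⁻¹) := by group
      _ = a * b * (zb * a⁻¹) * (zb : E G)⁻¹ * b⁻¹ := by rw [h1]; group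
      _ = a * b * a⁻¹ * b⁻¹ := by rw [h2]; group
  exact (Set.toFinite _).subset hf

instance finite_commutator : Finite (_root_.commutator (E G)) := inferInstance

instance finite_mult : Finite (mult G) :=
  Finite.of_injective (Subgroup.inclusion (inf_le_right : mult G ≤ _root_.commutator (E G)))
    (Subgroup.inclusion_injective _)

omit [Finite G] in
/-- A lift onto a central extension carries the multiplier onto the kernel inside the derived subgroup. -/
theorem map_mult {Δ : Type v} [Group Δ] {τ : Δ →* G} (hker : τ.ker ≤ center Δ) (η : E G →* Δ)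
    (hη : ∀ e, τ (η e) = proj G e) : (mult G).map η = τ.ker ⊓ _root_.commutator Δ := by
  have hc := map_commutator_eq hker η (eq_top_iff.2 fun g _ => by
    obtain ⟨e, rfl⟩ := proj_surjective G g
    exact ⟨η e, ⟨e, rfl⟩, hη e⟩)
  refine le_antisymm ?_ ?_
  · rintro _ ⟨e, ⟨he1, he2⟩, rfl⟩
    exact Subgroup.mem_inf.2 ⟨by rw [MonoidHom.mem_ker, hη]; exact he1, hc ▸ mem_map_of_mem η he2⟩
  · rintro z ⟨hz1, hz2⟩
    rw [SetLike.mem_coe, ← hc] at hz2
    obtain ⟨e, he, rfl⟩ := hz2
    exact ⟨e, ⟨show proj G e = 1 by rw [← hη]; exact hz1, he⟩, rfl⟩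

/-- The multiplier maps onto the kernel inside the derived subgroup of any central extension. -/
theorem exists_surjection_inf {Δ : Type v} [Group Δ] {τ : Δ →* G} (hsurj : Function.Surjective τ)
    (hker : τ.ker ≤ center Δ) :
    ∃ π : mult G →* (τ.ker ⊓ _root_.commutator Δ : Subgroup Δ), Function.Surjective π := by
  obtain ⟨η, hη⟩ := exists_lift G τ hsurj hker (MonoidHom.id G)
  have hm := map_mult G hker η hη
  refine ⟨(MulEquiv.subgroupCongr hm).toMonoidHom.comp (η.subgroupMap (mult G)), ?_⟩
  exact (MulEquiv.subgroupCongr hm).surjective.comp (η.subgroupMap_surjective (mult G))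

theorem card_inf_le {Δ : Type v} [Group Δ] {τ : Δ →* G} (hsurj : Function.Surjective τ)
    (hker : τ.ker ≤ center Δ) :
    Nat.card (τ.ker ⊓ _root_.commutator Δ : Subgroup Δ) ≤ Nat.card (mult G) :=
  let ⟨π, hπ⟩ := exists_surjection_inf G hsurj hker
  Nat.card_le_card_of_surjective π hπ

theorem exists_surjection {Δ : Type v} [Group Δ] {τ : Δ →* G} (hτ : Cfsg.IsStemExtension τ) :
    ∃ π : mult G →* τ.ker, Function.Surjective π := by
  obtain ⟨π, hπ⟩ := exists_surjection_inf G hτ.1 hτ.2.1
  have h : τ.ker ⊓ _root_.commutator Δ = τ.ker := inf_eq_left.2 hτ.2.2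
  exact ⟨(MulEquiv.subgroupCongr h).toMonoidHom.comp π, (MulEquiv.subgroupCongr h).surjective.comp hπ⟩

theorem torsionFree_modulo_commutator {α : Type u} {x : FreeGroup α} {k : ℕ} (hk : k ≠ 0)
    (h : x ^ k ∈ _root_.commutator (FreeGroup α)) : x ∈ _root_.commutator (FreeGroup α) := by
  rw [← QuotientGroup.eq_one_iff] at h ⊢
  let a : FreeAbelianGroup α := Additive.ofMul (Abelianization.of x)
  have ha : k • a = 0 := congrArg Additive.ofMul
    (show (Abelianization.of x) ^ k = 1 by rw [← map_pow]; exact h)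
  have h1 : k • FreeAbelianGroup.equivFinsupp α a = 0 := by rw [← map_nsmul, ha, map_zero]
  have h2 : FreeAbelianGroup.equivFinsupp α a = 0 := (smul_eq_zero.1 h1).resolve_left hk
  have h3 : a = 0 := (FreeAbelianGroup.equivFinsupp α).injective (by rw [h2, map_zero])
  exact congrArg Additive.toMul h3

/-- Complements to the derived subgroup inside the kernel, annihilated by a prescribed map.  The map
`f` prescribes the values of the lifting on the free part. -/
theorem exists_section (A : Type v) [CommGroup A] (φ : (proj G).ker →* A)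
    (hφ : ∀ a : A, ∃ e : (proj G).ker, (e : E G) ∈ _root_.commutator (E G) ∧ φ e = a) :
    ∃ L : Subgroup (E G), L ≤ (proj G).ker ∧ L ⊓ _root_.commutator (E G) = ⊥ ∧
      (proj G).ker ≤ L ⊔ mult G ∧ ∀ l (hl : l ∈ (proj G).ker), l ∈ L → φ ⟨l, hl⟩ = 1 := by
  let V := Additive (Abelianization (FreeGroup G))
  letI : CommGroup (proj G).ker :=
    { (inferInstance : Group (proj G).ker) with
      mul_comm := fun a b => Subtype.ext (mem_center_iff.1 (ker_le_center G b.2) a.1) }
  let K := Additive (proj G).ker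
  have hNker : relComm G ≤ (Abelianization.of : FreeGroup G →* Abelianization (FreeGroup G)).ker := by
    rw [Abelianization.ker_of, relComm, _root_.commutator_def]
    exact commutator_mono le_top le_rfl
  let ab : E G →* Abelianization (FreeGroup G) := QuotientGroup.lift _ Abelianization.of hNker
  have hab : ∀ e, ab e = 1 ↔ e ∈ _root_.commutator (E G) := by
    intro e
    obtain ⟨x, rfl⟩ := QuotientGroup.mk'_surjective (relComm G) e
    have hm : (_root_.commutator (FreeGroup G)).map (QuotientGroup.mk' (relComm G)) = _root_.commutator (E G) := by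
      rw [_root_.commutator_def, map_commutator, ← MonoidHom.range_eq_map,
        MonoidHom.range_eq_top.2 (QuotientGroup.mk'_surjective _), ← _root_.commutator_def]
    change Abelianization.of x = 1 ↔ _
    rw [← MonoidHom.mem_ker, Abelianization.ker_of, ← hm]
    refine ⟨fun h => mem_map_of_mem _ h, ?_⟩
    rintro ⟨y, hy, hxy⟩
    have h1 : y⁻¹ * x ∈ relComm G := QuotientGroup.eq.1 hxy
    have h2 : y⁻¹ * x ∈ _root_.commutator (FreeGroup G) := by
      rw [← Abelianization.ker_of]; exact hNker h1
    simpa using mul_mem hy h2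
  let q : K →+ V := MonoidHom.toAdditive (ab.comp (proj G).ker.subtype)
  let eV : V ≃+ (G →₀ ℤ) := FreeAbelianGroup.equivFinsupp G
  let q' : K →ₗ[ℤ] (G →₀ ℤ) := (eV.toAddMonoidHom.comp q).toIntLinearMap
  let I : Submodule ℤ (G →₀ ℤ) := LinearMap.range q'
  haveI : Module.Free ℤ I :=
    let ⟨_, b⟩ := Submodule.basisOfPid (Finsupp.basisSingleOne (ι := G) (R := ℤ)) I
    Module.Free.of_basis b
  let qI : K →ₗ[ℤ] I := q'.rangeRestrict
  -- a linear section of `qI` killed by `φ`
  let b := Module.Free.chooseBasis ℤ I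
  have hlift : ∀ i, ∃ k : K, qI k = b i ∧ φ k.toMul = 1 := by
    intro i
    obtain ⟨k, hk⟩ := LinearMap.surjective_rangeRestrict q' (b i)
    obtain ⟨e, he, hφe⟩ := hφ (φ k.toMul)
    refine ⟨k - Additive.ofMul e, ?_, ?_⟩
    · have h0 : qI (Additive.ofMul e) = 0 := Subtype.ext (by
        change eV (Additive.ofMul (ab (e : E G))) = 0
        rw [(hab _).2 he]; exact map_zero eV)
      rw [map_sub, h0, sub_zero]
      exact hk
    · rw [toMul_sub, map_div, toMul_ofMul, hφe, div_self']
  choose s hs hs' using hlift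
  let S : I →ₗ[ℤ] K := b.constr ℤ s
  have hqS : ∀ x, qI (S x) = x := by
    intro x
    change (qI ∘ₗ S) x = (LinearMap.id : I →ₗ[ℤ] I) x
    congr 1
    exact b.ext fun i => by simp [S, hs i]
  let L : Subgroup (E G) := ((AddMonoidHom.range S.toAddMonoidHom).toSubgroup').map (proj G).ker.subtype
  have hLK : L ≤ (proj G).ker := map_subtype_le _
  have hmemL : ∀ l : (proj G).ker, (l : E G) ∈ L ↔ ∃ x, S x = Additive.ofMul l := by
    intro l
    constructor
    · rintro ⟨l', hl', hll⟩
      obtain rfl : l' = l := Subtype.ext hll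
      exact hl'
    · intro h; exact ⟨l, h, rfl⟩
  refine ⟨L, hLK, ?_, ?_, ?_⟩
  · rw [eq_bot_iff]
    rintro l ⟨hl, hlc⟩
    obtain ⟨x, hx⟩ := (hmemL ⟨l, hLK hl⟩).1 hl
    have h0 : qI (Additive.ofMul ⟨l, hLK hl⟩) = 0 := Subtype.ext (by
      change eV (Additive.ofMul (ab l)) = 0
      rw [(hab l).2 hlc]; exact map_zero eV)
    rw [← hx, hqS] at h0
    rw [h0, map_zero] at hx
    exact mem_bot.2 (congrArg (fun t : K => (t.toMul : E G)) hx.symm)
  · intro e he
    set k : K := Additive.ofMul ⟨e, he⟩ with hk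
    set l := (S (qI k)).toMul with hl
    have hlL : (l : E G) ∈ L := (hmemL l).2 ⟨qI k, rfl⟩
    have hm : (l : E G)⁻¹ * e ∈ mult G := by
      refine Subgroup.mem_inf.2 ⟨mul_mem (inv_mem l.2) he, ?_⟩
      rw [← hab]
      have h1 := congrArg (fun t : I => eV.symm (t : G →₀ ℤ)) (hqS (qI k))
      have h2 : Additive.ofMul (ab (l : E G)) = Additive.ofMul (ab e) := by
        change eV.symm (eV (Additive.ofMul (ab (l : E G)))) = eV.symm (eV (Additive.ofMul (ab e))) at h1
        rwa [eV.symm_apply_apply, eV.symm_apply_apply] at h1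
      rw [map_mul, map_inv, Additive.ofMul.injective h2, inv_mul_cancel]
    have := mul_mem_sup hlL hm
    rwa [mul_inv_cancel_left] at this
  · intro l hl hlL
    obtain ⟨x, hx⟩ := (hmemL ⟨l, hl⟩).1 hlL
    let φa : K →ₗ[ℤ] Additive A := (MonoidHom.toAdditive φ).toIntLinearMap
    have h0 : φa ∘ₗ S = 0 := b.ext fun i => by
      simp only [LinearMap.comp_apply, S, Module.Basis.constr_basis, LinearMap.zero_apply]
      exact congrArg Additive.ofMul (hs' i)
    have h1 := LinearMap.congr_fun h0 x
    rw [LinearMap.comp_apply, hx] at h1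
    exact congrArg Additive.toMul h1

omit [Finite G] in
theorem normal_of_le_ker {L : Subgroup (E G)} (hLK : L ≤ (proj G).ker) : L.Normal :=
  ⟨fun l hl g => by rwa [mem_center_iff.1 (ker_le_center G (hLK hl)) g, mul_inv_cancel_right]⟩

/-- A complement of the multiplier in the kernel gives a cover. -/
theorem cover_of_complement {L : Subgroup (E G)} [L.Normal] (hLK : L ≤ (proj G).ker)
    (hLc : L ⊓ _root_.commutator (E G) = ⊥) (hsup : (proj G).ker ≤ L ⊔ mult G) :
    Cfsg.IsStemExtension (QuotientGroup.lift L (proj G) hLK) ∧ Finite (E G ⧸ L) ∧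
      Nonempty ((QuotientGroup.lift L (proj G) hLK).ker ≃* mult G) := by
  set σ : E G ⧸ L →* G := QuotientGroup.lift L (proj G) hLK
  have hσker : σ.ker = (mult G).map (QuotientGroup.mk' L) := by
    refine le_antisymm ?_ ?_
    · intro q hq
      obtain ⟨e, rfl⟩ := QuotientGroup.mk'_surjective L q
      have he : e ∈ L ⊔ mult G := hsup hq
      rw [← SetLike.mem_coe, Subgroup.normal_mul] at he
      obtain ⟨l, hl, c, hc, rfl⟩ := he
      refine ⟨c, hc, ?_⟩
      rw [map_mul, show QuotientGroup.mk' L l = 1 from (QuotientGroup.eq_one_iff l).2 hl, one_mul]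
    · rintro _ ⟨e, he, rfl⟩
      exact he.1
  have hsurj : Function.Surjective σ := fun g => by
    obtain ⟨e, rfl⟩ := proj_surjective G g; exact ⟨e, rfl⟩
  refine ⟨⟨hsurj, ?_, ?_⟩, ?_, ⟨?_⟩⟩
  · intro q hq
    obtain ⟨e, rfl⟩ := QuotientGroup.mk'_surjective L q
    refine mem_center_iff.2 fun d => ?_
    obtain ⟨d, rfl⟩ := QuotientGroup.mk'_surjective L d
    rw [← map_mul, ← map_mul, mem_center_iff.1 (ker_le_center G hq)]
  · rw [hσker, _root_.commutator_def]
    refine (map_mono inf_le_right).trans ?_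
    rw [_root_.commutator_def, map_commutator]
    exact commutator_mono le_top le_top
  · haveI : Finite σ.ker := by
      rw [hσker]
      exact Finite.of_surjective _ ((QuotientGroup.mk' L).subgroupMap_surjective (mult G))
    haveI : Finite ((E G ⧸ L) ⧸ σ.ker) :=
      Finite.of_equiv _ (QuotientGroup.quotientKerEquivOfSurjective σ hsurj).symm.toEquiv
    exact Finite.of_equiv _ (Subgroup.groupEquivQuotientProdSubgroup (s := σ.ker)).symm
  · let f : mult G →* σ.ker := (MulEquiv.subgroupCongr hσker.symm).toMonoidHom.comp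
      ((QuotientGroup.mk' L).subgroupMap (mult G))
    refine (MulEquiv.ofBijective f ⟨?_, (MulEquiv.subgroupCongr hσker.symm).surjective.comp
      ((QuotientGroup.mk' L).subgroupMap_surjective (mult G))⟩).symm
    rw [injective_iff_map_eq_one]
    intro c hc
    have h1 : (c : E G) ∈ L := (QuotientGroup.eq_one_iff _).1 (congrArg Subtype.val hc)
    have h2 : (c : E G) ∈ L ⊓ _root_.commutator (E G) := Subgroup.mem_inf.2 ⟨h1, c.2.2⟩
    rw [hLc, mem_bot] at h2
    exact Subtype.ext h2

/-- A finite stem extension with kernel the multiplier, mapping to any prescribed stem extension. -/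
theorem exists_cover_over {Δ : Type v} [Group Δ] (τ : Δ →* G) (hτ : Cfsg.IsStemExtension τ) :
    ∃ (Γ : Type u) (_ : Group Γ) (_ : Finite Γ) (σ : Γ →* G), Cfsg.IsStemExtension σ ∧
      Nonempty (σ.ker ≃* mult G) ∧ ∃ β : Γ →* Δ, Function.Surjective β ∧ τ.comp β = σ := by
  obtain ⟨η, hη⟩ := exists_lift G τ hτ.1 hτ.2.1 (MonoidHom.id G)
  haveI : IsMulCommutative τ.ker :=
    ⟨⟨fun a b => Subtype.ext (mem_center_iff.1 (hτ.2.1 b.2) a)⟩⟩
  letI : CommGroup τ.ker := { (inferInstance : Group τ.ker) with mul_comm := fun a b => mul_comm' a b }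
  let φ : (proj G).ker →* τ.ker :=
    (η.comp (proj G).ker.subtype).codRestrict τ.ker fun e => by
      rw [MonoidHom.mem_ker, MonoidHom.comp_apply, hη]; exact e.2
  have hm : (mult G).map η = τ.ker := (map_mult G hτ.2.1 η hη).trans (inf_eq_left.2 hτ.2.2)
  obtain ⟨L, hLK, hLc, hsup, hL1⟩ := exists_section G τ.ker φ fun a => by
    obtain ⟨e, he, hea⟩ := hm.ge a.2
    exact ⟨⟨e, he.1⟩, he.2, Subtype.ext hea⟩
  haveI : L.Normal := normal_of_le_ker G hLK
  obtain ⟨hσ, hfin, hker⟩ := cover_of_complement G hLK hLc hsup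
  let β : E G ⧸ L →* Δ := QuotientGroup.lift L η fun l hl =>
    congrArg Subtype.val (hL1 l (hLK hl) hl)
  refine ⟨E G ⧸ L, inferInstance, hfin, QuotientGroup.lift L (proj G) hLK, hσ, hker, β, ?_, ?_⟩
  · have htop : β.range = ⊤ := eq_top_of_map_eq_top hτ (eq_top_iff.2 fun g _ => by
      obtain ⟨e, rfl⟩ := proj_surjective G g
      exact ⟨η e, ⟨e, rfl⟩, hη e⟩)
    exact MonoidHom.range_eq_top.1 htop
  · refine MonoidHom.ext fun q => ?_
    obtain ⟨e, rfl⟩ := QuotientGroup.mk'_surjective L q
    exact hη e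

theorem isStem_id {H : Type v} [Group H] : Cfsg.IsStemExtension (MonoidHom.id H) := by
  refine ⟨Function.surjective_id, ?_, ?_⟩ <;> rw [MonoidHom.ker_id] <;> exact bot_le

/-- The multiplier satisfies the defining property. -/
theorem hasSchurMultiplier_mult : Cfsg.HasSchurMultiplier G (mult G) := by
  obtain ⟨Γ, _, _, σ, hσ, he, -⟩ := exists_cover_over G (MonoidHom.id G) isStem_id
  exact ⟨⟨Γ, inferInstance, inferInstance, σ, hσ, he⟩, fun Δ _ _ τ hτ => exists_surjection G hτ⟩

variable {G}

/-- Any group with the defining property is the multiplier. -/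
theorem nonempty_equiv_of_hasSchurMultiplier {A : Type v} [CommGroup A]
    (hA : Cfsg.HasSchurMultiplier G A) : Nonempty (A ≃* mult G) := by
  obtain ⟨⟨Γ, _, _, σ, hσ, ⟨e⟩⟩, huniv⟩ := hA
  obtain ⟨Γ', _, _, σ', hσ', ⟨e'⟩, -⟩ := exists_cover_over G (MonoidHom.id G) isStem_id
  haveI : Finite A := Finite.of_equiv _ e.toEquiv
  obtain ⟨π, hπ⟩ := huniv Γ' σ' hσ'
  obtain ⟨π', hπ'⟩ := exists_surjection G hσ
  have h1 := Nat.card_le_card_of_surjective _ hπ
  have h2 := Nat.card_le_card_of_surjective _ hπ'
  rw [Nat.card_congr e'.toEquiv] at h1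
  rw [Nat.card_congr e.toEquiv] at h2
  have hb : Function.Bijective π' := (Nat.bijective_iff_surjective_and_card π').2
    ⟨hπ', by rw [Nat.card_congr e.toEquiv]; omega⟩
  exact ⟨e.symm.trans (MulEquiv.ofBijective π' hb).symm⟩

theorem hasSchurMultiplier_of_equiv {A : Type v} [CommGroup A] (e : A ≃* mult G) :
    Cfsg.HasSchurMultiplier G A := by
  obtain ⟨⟨Γ, _, _, σ, hσ, ⟨f⟩⟩, huniv⟩ := hasSchurMultiplier_mult G
  refine ⟨⟨Γ, inferInstance, inferInstance, σ, hσ, ⟨f.trans e.symm⟩⟩, fun Δ _ _ τ hτ => ?_⟩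
  obtain ⟨π, hπ⟩ := huniv Δ τ hτ
  exact ⟨π.comp e.toMonoidHom, hπ.comp e.surjective⟩

/-- A cover has kernel isomorphic to the multiplier. -/
theorem card_ker_of_cover {A : Type v} [CommGroup A] (hA : Cfsg.HasSchurMultiplier G A)
    {Γ : Type w} [Group Γ] {σ : Γ →* G} (hk : Nonempty (σ.ker ≃* A)) :
    Nat.card σ.ker = Nat.card (mult G) := by
  obtain ⟨k⟩ := hk
  obtain ⟨e⟩ := nonempty_equiv_of_hasSchurMultiplier hA
  exact Nat.card_congr (k.trans e).toEquiv

theorem subsingleton_mult_iff : Subsingleton (mult G) ↔ Cfsg.HasCyclicSchurMultiplier G 1 := by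
  constructor
  · intro h
    exact hasCyclic_one_of_ker_eq_bot fun Γ _ _ σ hσ => by
      obtain ⟨π, hπ⟩ := exists_surjection G hσ
      haveI := hπ.subsingleton
      exact σ.ker.eq_bot_of_subsingleton
  · intro h
    obtain ⟨e⟩ := nonempty_equiv_of_hasSchurMultiplier h
    exact e.symm.injective.subsingleton

end CfsgLib.Schur
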