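import Mathlib

/-!
# Elementary facts on subgroups of dihedral groups
-/

set_option autoImplicit false

open DihedralGroup

namespace CfsgLib.PGroup

variable {n : ℕ}

/-- The subgroup `{r j, sr j : j ∈ A}` of a dihedral group. -/
def dihedralSub (A : AddSubgroup (ZMod n)) : Subgroup (DihedralGroup n) where
  carrier := {x | match x with
    | .r j => j ∈ A
    | .sr j => j ∈ A}
  one_mem' := A.zero_mem
  mul_mem' := by
    rintro (i | i) (j | j) hi hj
    · exact A.add_mem hi hj
    · exact A.sub_mem hj hi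
    · exact A.add_mem hi hj
    · exact A.sub_mem hj hi
  inv_mem' := by
    rintro (i | i) hi
    · exact A.neg_mem hi
    · exact hi

theorem r_mem_dihedralSub {A : AddSubgroup (ZMod n)} {j : ZMod n} :
    r j ∈ dihedralSub A ↔ j ∈ A := Iff.rfl

theorem sr_mem_dihedralSub {A : AddSubgroup (ZMod n)} {j : ZMod n} :
    sr j ∈ dihedralSub A ↔ j ∈ A := Iff.rfl

theorem dihedralSub_nonabelian {A : AddSubgroup (ZMod n)} {a : ZMod n} (ha : a ∈ A)
    (h2 : a + a ≠ 0) : ¬ IsMulCommutative (dihedralSub A) := fun h => by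
  have e := congrArg Subtype.val
    (h.is_comm.comm ⟨r a, ha⟩ ⟨sr 0, (sr_mem_dihedralSub (A := A)).2 A.zero_mem⟩)
  change r a * sr 0 = sr 0 * r a at e
  rw [r_mul_sr, sr_mul_r, sr.injEq, zero_sub, zero_add] at e
  exact h2 (eq_neg_iff_add_eq_zero.1 e.symm)

/-- A subgroup without reflections is cyclic. -/
theorem isCyclic_of_no_sr (H : Subgroup (DihedralGroup n)) (h : ∀ i, sr i ∉ H) : IsCyclic H := by
  have hle : H ≤ Subgroup.zpowers (r 1) := by
    rintro (j | j) hj
    · obtain ⟨z, rfl⟩ := ZMod.intCast_surjective j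
      exact ⟨z, r_one_zpow z⟩
    · exact absurd hj (h j)
  exact (Subgroup.subgroupOfEquivOfLe hle).isCyclic.1 inferInstance

/-- A noncyclic subgroup contains a reflection and a nontrivial rotation. -/
theorem exists_sr_r_of_not_isCyclic (H : Subgroup (DihedralGroup n)) (h : ¬ IsCyclic H) :
    ∃ i a, sr i ∈ H ∧ r a ∈ H ∧ a ≠ 0 := by
  obtain ⟨i, hi⟩ : ∃ i, sr i ∈ H := by
    by_contra hno
    push Not at hno
    exact h (isCyclic_of_no_sr H hno)
  by_contra hno
  push Not at hno
  apply h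
  have hle : H ≤ Subgroup.zpowers (sr i) := by
    rintro (j | j) hj
    · rw [hno i j hi hj, r_zero]; exact one_mem _
    · have h0 : j - i = 0 := hno i (j - i) hi (by rw [← sr_mul_sr]; exact H.mul_mem hi hj)
      rw [sub_eq_zero.1 h0]
      exact Subgroup.mem_zpowers _
  exact (Subgroup.subgroupOfEquivOfLe hle).isCyclic.1 inferInstance

/-- In `ℤ/n` an element killed by two is `0` or `n / 2`. -/
theorem two_torsion_eq {x y : ZMod n} [NeZero n] (hx : x + x = 0) (hy : y + y = 0) (hx0 : x ≠ 0)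
    (hy0 : y ≠ 0) : x = y := by
  have key : ∀ z : ZMod n, z + z = 0 → z ≠ 0 → 2 * z.val = n := fun z hz hz0 => by
    have h1 : ((z.val + z.val : ℕ) : ZMod n) = 0 := by
      rw [Nat.cast_add, ZMod.natCast_zmod_val]; exact hz
    obtain ⟨c, hc⟩ := (ZMod.natCast_eq_zero_iff _ _).1 h1
    have hlt := ZMod.val_lt z
    have hpos : 0 < z.val := Nat.pos_of_ne_zero fun e => hz0 ((ZMod.val_eq_zero z).1 e)
    rcases c with _ | _ | c
    · omega
    · omega
    · rw [Nat.mul_add, Nat.mul_add] at hc; omega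
  refine ZMod.val_injective n ?_
  have := key x hx hx0
  have := key y hy hy0
  omega

theorem eq_zero_of_two_torsion_of_odd (hn : Odd n) {x : ZMod n} (hx : x + x = 0) : x = 0 := by
  obtain ⟨m, rfl⟩ := hn
  have h0 : (((2 * m + 1 : ℕ)) : ZMod (2 * m + 1)) * x = 0 := by rw [ZMod.natCast_self, zero_mul]
  push_cast at h0
  calc x = (2 * (m : ZMod (2 * m + 1)) + 1) * x - (m : ZMod (2 * m + 1)) * (x + x) := by ring
    _ = 0 := by rw [h0, hx, mul_zero, sub_zero]

end CfsgLib.PGroup
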