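import Cfsg.Prelude.Def_LocalEven
import Cfsg.Agent.Lib.Coprime.Action
import Cfsg.Agent.Lib.Coprime.Core
import Cfsg.Agent.Lib.PGroup.TwoConjugateGeneration
import Cfsg.Agent.Lib.Spor.Tri.SmallSymmetric
import Cfsg.Agent.Lib.Fusion.ThompsonComplement

/-!
# Small offenders on an odd order group force a section of type `S₃`
-/

set_option autoImplicit false
set_option linter.style.haveILetI false

open Subgroup
open scoped commutatorElement

namespace CfsgLib.SmallOffender

variable {X : Type*} [Group X]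

theorem involves_perm_three {N : Type*} [Group N] {G : Type*} [Group G] (φ : N →* G) (a b : N)
    (ha : φ a * φ a = 1) (hb : φ b * φ b = 1) (hab : φ b * φ a * φ b = φ a * φ b * φ a)
    (hne : φ a ≠ φ b) (hnc : ¬ Commute (φ a) (φ b)) :
    Cfsg.Involves (Equiv.Perm (Fin 3)) N := by
  obtain ⟨e⟩ := CfsgLib.Spor.Tri.nonempty_equiv_perm_three ha hb hab hne hnc
  set H := closure ({a, b} : Set N) with hH
  have hmap : H.map φ = closure ({φ a, φ b} : Set G) := by
    rw [hH, MonoidHom.map_closure, Set.image_pair]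
  have hself : Cfsg.Involves (Equiv.Perm (Fin 3)) ↥(H.map φ) := by
    refine ⟨⊤, ⊥, ?_, ⟨?_⟩⟩
    · rw [bot_subgroupOf]; infer_instance
    · exact (QuotientGroup.quotientMulEquivOfEq (bot_subgroupOf (⊤ : Subgroup (H.map φ)))).trans
        (QuotientGroup.quotientBot.trans
          (topEquiv.trans ((MulEquiv.subgroupCongr hmap).trans e)))
  exact CfsgLib.Fusion.involves_of_injective H.subtype H.subtype_injective
    (CfsgLib.Fusion.involves_of_surjective (φ.subgroupMap H) (φ.subgroupMap_surjective H) hself)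

theorem exists_pow_fixed {D : Subgroup X} [Finite D] (hD : Nat.card D ≤ 4) {u t : X}
    (h : ∀ n : ℕ, u⁻¹ * (t ^ n * u * (t ^ n)⁻¹) ∈ D) :
    ∃ k : ℕ, k ∣ 12 ∧ t ^ k * u * (t ^ k)⁻¹ = u := by
  classical
  haveI := Fintype.ofFinite D
  have hlt : Fintype.card D < Fintype.card (Fin 5) := by
    rw [Fintype.card_fin, ← Nat.card_eq_fintype_card]; omega
  obtain ⟨i, j, hij, he⟩ :=
    Fintype.exists_ne_map_eq_of_card_lt (fun n : Fin 5 => (⟨_, h n⟩ : D)) hlt
  have key : ∀ i j : Fin 5, (i : ℕ) < j →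
      t ^ (i : ℕ) * u * (t ^ (i : ℕ))⁻¹ = t ^ (j : ℕ) * u * (t ^ (j : ℕ))⁻¹ →
      ∃ k : ℕ, k ∣ 12 ∧ t ^ k * u * (t ^ k)⁻¹ = u := by
    intro i j hlt e
    refine ⟨(j : ℕ) - i, ?_, ?_⟩
    · have h1 := i.isLt
      have h2 := j.isLt
      have : (j : ℕ) - i = 1 ∨ (j : ℕ) - i = 2 ∨ (j : ℕ) - i = 3 ∨ (j : ℕ) - i = 4 := by omega
      rcases this with h | h | h | h <;> rw [h] <;> norm_num
    · have hsplit : t ^ (j : ℕ) = t ^ (i : ℕ) * t ^ ((j : ℕ) - i) := by
        rw [← pow_add]; congr 1; omega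
      rw [hsplit] at e
      have e' := congrArg (fun z => (t ^ (i : ℕ))⁻¹ * z * t ^ (i : ℕ)) e
      simpa [mul_assoc] using e'.symm
  have he' : t ^ (i : ℕ) * u * (t ^ (i : ℕ))⁻¹ = t ^ (j : ℕ) * u * (t ^ (j : ℕ))⁻¹ :=
    mul_left_cancel (congrArg Subtype.val he)
  rcases lt_or_gt_of_ne (fun e => hij (Fin.ext e) : (i : ℕ) ≠ j) with hlt' | hlt'
  · exact key i j hlt' he'
  · exact key j i hlt' he'.symm

variable [Finite X]

/-- An elementary abelian `2`-group acting faithfully on a group of odd order that acts faithfully on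
an elementary abelian `2`-group moves it a lot, unless `S₃` is involved. -/
theorem sq_card_le (M K V : Subgroup X) (hV : Cfsg.IsElementaryAbelian 2 V)
    (hMV : M ≤ normalizer (V : Set X)) (hKM : K ≤ M) (hK : (Nat.card K).Coprime 2)
    (hf : K ⊓ centralizer (V : Set X) = ⊥)
    (hns : ¬ Cfsg.Involves (Equiv.Perm (Fin 3)) ↥M) (n : ℕ) :
    ∀ A : Subgroup X, Nat.card A = n → A ≤ M → Cfsg.IsElementaryAbelian 2 A →
      A ≤ normalizer (K : Set X) → A ⊓ centralizer (K : Set X) = ⊥ →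
      Nat.card A ^ 2 ≤ (V ⊓ centralizer (A : Set X)).relIndex V := by
  haveI : Fact (Nat.Prime 2) := ⟨Nat.prime_two⟩
  induction n using Nat.strongRecOn with
  | ind n ih =>
  intro A hn hAM hA hAK hfA
  by_cases hbot : A = ⊥
  · rw [hbot, card_bot, one_pow]
    exact Nat.pos_of_dvd_of_pos (relIndex_dvd_card _ _) Nat.card_pos
  have hcA : ∀ x ∈ A, ∀ y ∈ A, x * y = y * x := fun x hx y hy =>
    congrArg Subtype.val (hA.1.1.comm ⟨x, hx⟩ ⟨y, hy⟩)
  have hcV : ∀ x ∈ V, ∀ y ∈ V, x * y = y * x := fun x hx y hy =>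
    congrArg Subtype.val (hV.1.1.comm ⟨x, hx⟩ ⟨y, hy⟩)
  have hne : ¬ A ≤ centralizer (K : Set X) := fun h =>
    hbot (by rw [← hfA]; exact (inf_eq_left.2 h).symm)
  obtain ⟨Q, hQK, hQn, hQA, hQne, hindex, -⟩ :=
    CfsgLib.TwoConjugate.exists_minimal_moved hcA hA.2 hAK hK hne
  set B := A ⊓ centralizer (Q : Set X) with hB
  have hBA : B ≤ A := inf_le_left
  have hcardA : Nat.card A = 2 * Nat.card B := by
    have h := relIndex_mul_relIndex (⊥ : Subgroup X) B A bot_le hBA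
    rw [relIndex_bot_left, relIndex_bot_left, hindex] at h
    omega
  have hposB : 0 < Nat.card B := Nat.card_pos
  have hihB := ih (Nat.card B) (by omega) B rfl (hBA.trans hAM)
    ⟨⟨⟨fun x y => Subtype.ext (hcA _ (hBA x.2) _ (hBA y.2))⟩⟩, fun x hx => hA.2 x (hBA hx)⟩
    (hBA.trans hAK) (le_bot_iff.1 ((inf_le_inf_right _ hBA).trans hfA.le))
  set U := V ⊓ centralizer (B : Set X) with hU
  suffices h4 : 4 ≤ (V ⊓ centralizer (A : Set X)).relIndex U by
    have h := relIndex_mul_relIndex (V ⊓ centralizer (A : Set X)) U V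
      (inf_le_inf_left _ (centralizer_le hBA)) inf_le_left
    rw [← h, hcardA, mul_pow]
    exact Nat.mul_le_mul h4 hihB
  by_contra hlt
  obtain ⟨a, haA, haB⟩ : ∃ a ∈ A, a ∉ B := by
    by_contra h
    have he : A ≤ B := fun x hx => by_contra fun hx' => h ⟨x, hx, hx'⟩
    exact hQne (he.trans inf_le_right)
  have hsup : B ⊔ zpowers a = A := by
    refine eq_of_le_of_card_ge (sup_le hBA (zpowers_le.2 haA)) ?_
    have hlt' : B < B ⊔ zpowers a :=
      lt_of_le_of_ne le_sup_left fun e => haB (e.ge (mem_sup_right (mem_zpowers a)))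
    have h := relIndex_mul_relIndex (⊥ : Subgroup X) B (B ⊔ zpowers a) bot_le le_sup_left
    rw [relIndex_bot_left, relIndex_bot_left] at h
    have h1 : B.relIndex (B ⊔ zpowers a) ≠ 1 := fun e => hlt'.not_ge (relIndex_eq_one.1 e)
    have h2 : B.relIndex (B ⊔ zpowers a) ≠ 0 := fun e => by
      rw [e, mul_zero] at h; exact Nat.card_pos.ne h
    rw [hcardA, ← h, mul_comm 2]
    exact Nat.mul_le_mul le_rfl (by omega)
  -- the normalizer of `U`
  have haM : a ∈ M := hAM haA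
  have hQM : Q ≤ M := hQK.trans hKM
  have hcomm : ∀ b ∈ B, ∀ q ∈ Q, q * b = b * q := fun b hb q hq =>
    mem_centralizer_iff.1 (Subgroup.mem_inf.1 hb).2 q hq
  have hnU : A ⊔ Q ≤ normalizer (U : Set X) := by
    refine sup_le ?_ ?_
    · refine CfsgLib.Coprime.inf_le_normalizer (hAM.trans hMV) ?_
      exact (le_centralizer_iff.1 fun x hx => mem_centralizer_iff.2 fun y hy =>
        hcA _ hy _ (hBA hx)).trans (centralizer_le_normalizer _ |>.trans
          (CfsgLib.Coprime.normalizer_le_normalizer_centralizer B))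
    · refine CfsgLib.Coprime.inf_le_normalizer (hQM.trans hMV) ?_
      exact (le_centralizer_iff.1 inf_le_right).trans (centralizer_le_normalizer _ |>.trans
        (CfsgLib.Coprime.normalizer_le_normalizer_centralizer B))
  -- the commutator map of `a` on `U`
  let f : ↥U →* X :=
    { toFun := fun u => (u : X)⁻¹ * (a * u * a⁻¹)
      map_one' := by simp
      map_mul' := fun u v => by
        have hv : a * v * a⁻¹ ∈ V :=
          (mem_normalizer_iff.1 (hMV haM) _).1 (Subgroup.mem_inf.1 v.2).1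
        have hu : a * u * a⁻¹ ∈ V :=
          (mem_normalizer_iff.1 (hMV haM) _).1 (Subgroup.mem_inf.1 u.2).1
        have hu1 := inv_mem (Subgroup.mem_inf.1 u.2).1
        have hv1 := inv_mem (Subgroup.mem_inf.1 v.2).1
        calc ((u * v : ↥U) : X)⁻¹ * (a * ((u * v : ↥U) : X) * a⁻¹)
            = (v : X)⁻¹ * ((u : X)⁻¹ * (a * u * a⁻¹)) * (a * v * a⁻¹) := by
              rw [Subgroup.coe_mul]; group
          _ = (u : X)⁻¹ * (a * u * a⁻¹) * (v : X)⁻¹ * (a * v * a⁻¹) := by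
              rw [hcV _ hv1 _ (mul_mem hu1 hu)]
          _ = (u : X)⁻¹ * (a * u * a⁻¹) * ((v : X)⁻¹ * (a * v * a⁻¹)) := mul_assoc _ _ _ }
  set R := f.range with hR
  have hRU : R ≤ U := by
    rintro _ ⟨u, rfl⟩
    exact mul_mem (inv_mem u.2)
      ((mem_normalizer_iff.1 (hnU (mem_sup_left haA)) _).1 u.2)
  have hRcard : Nat.card R ≤ 2 := by
    have hker : f.ker = (V ⊓ centralizer (A : Set X)).subgroupOf U := by
      ext u
      rw [MonoidHom.mem_ker, mem_subgroupOf]
      constructor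
      · intro h
        have e : a * u * a⁻¹ = u := (inv_mul_eq_one.1 h).symm
        refine Subgroup.mem_inf.2 ⟨(Subgroup.mem_inf.1 u.2).1, ?_⟩
        rw [← hsup, mem_centralizer_iff]
        have hle : B ⊔ zpowers a ≤ centralizer {(u : X)} := by
          refine sup_le (fun b hb => mem_centralizer_iff.2 fun y hy => ?_) (zpowers_le.2 ?_)
          · rw [Set.mem_singleton_iff.1 hy]
            exact (mem_centralizer_iff.1 (Subgroup.mem_inf.1 u.2).2 b hb).symm
          · refine mem_centralizer_iff.2 fun y hy => ?_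
            rw [Set.mem_singleton_iff.1 hy]
            nth_rewrite 1 [← e]
            rw [inv_mul_cancel_right]
        exact fun x hx => (mem_centralizer_iff.1 (hle hx) _ rfl).symm
      · intro h
        show (u : X)⁻¹ * (a * u * a⁻¹) = 1
        rw [mem_centralizer_iff.1 (Subgroup.mem_inf.1 h).2 a haA, mul_inv_cancel_right,
          inv_mul_cancel]
    have hidx : Nat.card R = (V ⊓ centralizer (A : Set X)).relIndex U := by
      rw [hR, ← index_ker, hker]; rfl
    have hp : IsPGroup 2 R := IsPGroup.to_le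
      (fun v => ⟨1, Subtype.ext (by simpa using hV.2 _ v.2)⟩) (hRU.trans inf_le_left)
    obtain ⟨k, hk⟩ := hp.exists_card_eq
    rw [hk]
    have hk' : 2 ^ k < 4 := by omega
    have : k < 2 := (Nat.pow_lt_pow_iff_right one_lt_two).1 (by simpa using hk')
    exact (Nat.pow_le_pow_right two_pos (Nat.lt_succ_iff.1 this)).trans (by norm_num)
  -- some commutator moves `U`
  obtain ⟨q, hq, htU⟩ : ∃ q ∈ Q, q * a * q⁻¹ * a⁻¹ ∉ centralizer (U : Set X) := by
    by_contra h
    have hQU : Q ≤ centralizer (U : Set X) := by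
      rw [← hQA, commutator_le]
      intro q hq x hx
      rw [← hsup] at hx
      obtain ⟨b, hb, y, hy, rfl⟩ := CfsgLib.Coprime.mem_sup_exists
        (show zpowers a ≤ normalizer (B : Set X) from (zpowers_le.2 (centralizer_le_normalizer _
          (mem_centralizer_iff.2 fun b hb => hcA _ (hBA hb) _ haA)))) hx
      obtain ⟨i, rfl⟩ := mem_zpowers_iff.1 hy
      have ha2 : a ^ (2 : ℕ) = 1 := hA.2 a haA
      rw [commutatorElement_def]
      have hqb := hcomm b hb q hq
      by_cases hd : ((2 : ℕ) : ℤ) ∣ i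
      · rw [CfsgLib.TwoConjugate.zpow_eq_one_of_dvd ha2 hd, mul_one]
        rw [hqb, mul_inv_cancel_right, mul_inv_cancel]
        exact one_mem _
      · obtain ⟨m, rfl⟩ : Odd i := Int.not_even_iff_odd.1 fun h => hd h.two_dvd
        rw [zpow_add, zpow_one, CfsgLib.TwoConjugate.zpow_eq_one_of_dvd ha2 (j := 2 * m) ⟨m, rfl⟩,
          one_mul]
        have hu : q * a * q⁻¹ * a⁻¹ ∈ Q := by
          rw [show q * a * q⁻¹ * a⁻¹ = q * (a * q⁻¹ * a⁻¹) by group]
          exact mul_mem hq ((mem_normalizer_iff.1 (hQn haA) _).1 (inv_mem hq))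
        have e : q * (b * a) * q⁻¹ * (b * a)⁻¹ = q * a * q⁻¹ * a⁻¹ :=
          calc q * (b * a) * q⁻¹ * (b * a)⁻¹ = (q * b) * a * q⁻¹ * a⁻¹ * b⁻¹ := by group
            _ = b * (q * a * q⁻¹ * a⁻¹) * b⁻¹ := by rw [hqb]; group
            _ = q * a * q⁻¹ * a⁻¹ := by rw [← hcomm b hb _ hu, mul_inv_cancel_right]
        rw [e]
        exact by_contra fun hc => h ⟨q, hq, hc⟩
    have hBp : IsPGroup 2 B :=
      fun b => ⟨1, Subtype.ext (by simpa using hA.2 _ (hBA b.2))⟩
    have hQV : Q ≤ centralizer (V : Set X) := CfsgLib.Coprime.pq_lemma hBp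
      (hK.coprime_dvd_left (card_dvd_of_le hQK))
      (fun v => ⟨1, Subtype.ext (by simpa using hV.2 _ v.2)⟩) inf_le_right
      ((hBA.trans hAM).trans hMV) (hQM.trans hMV) (le_centralizer_iff.1 hQU)
    apply hQne
    have hQbot : Q = ⊥ := le_bot_iff.1 ((le_inf hQK hQV).trans hf.le)
    rw [hQbot]
    exact fun x _ => mem_centralizer_iff.2 fun y hy => by rw [mem_bot.1 hy]; group
  set a' := q * a * q⁻¹ with ha'
  set t := q * a * q⁻¹ * a⁻¹ with ht
  have hqU : q ∈ normalizer (U : Set X) := hnU (mem_sup_right hq)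
  set D := R ⊔ R.map (MulAut.conj q).toMonoidHom with hD
  have hDU : D ≤ U := by
    refine sup_le hRU ?_
    rintro _ ⟨r, hr, rfl⟩
    exact (mem_normalizer_iff.1 hqU r).1 (hRU hr)
  have hDcard : Nat.card D ≤ 4 := by
    have hn : R ≤ normalizer (R.map (MulAut.conj q).toMonoidHom : Set X) := fun r hr =>
      centralizer_le_normalizer _ (mem_centralizer_iff.2 fun y hy =>
        hcV _ (Subgroup.mem_inf.1 (hDU (mem_sup_right hy))).1 _
          (Subgroup.mem_inf.1 (hRU hr)).1)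
    have h := CfsgLib.EABasic.card_sup_mul_card_inf_of_le_normalizer hn
    have h' : Nat.card (R.map (MulAut.conj q).toMonoidHom) = Nat.card R :=
      card_map_of_injective (MulAut.conj q).injective
    rw [h'] at h
    refine le_trans (Nat.le_mul_of_pos_right _ Nat.card_pos) (h.trans_le ?_)
    exact Nat.mul_le_mul hRcard hRcard
  -- elements moving each point of `U` inside its coset of `D`
  let P : X → Prop := fun x => ∀ w ∈ U, x * w * x⁻¹ ∈ U ∧ w⁻¹ * (x * w * x⁻¹) ∈ D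
  have Pmul : ∀ x y, P x → P y → P (x * y) := by
    intro x y hx hy w hw
    obtain ⟨h1, h2⟩ := hy w hw
    obtain ⟨h3, h4⟩ := hx _ h1
    rw [show x * y * w * (x * y)⁻¹ = x * (y * w * y⁻¹) * x⁻¹ by group]
    refine ⟨h3, ?_⟩
    rw [show w⁻¹ * (x * (y * w * y⁻¹) * x⁻¹) =
      (w⁻¹ * (y * w * y⁻¹)) * ((y * w * y⁻¹)⁻¹ * (x * (y * w * y⁻¹) * x⁻¹)) by group]
    exact mul_mem h2 h4
  have Pa : P a := fun w hw => ⟨(mem_normalizer_iff.1 (hnU (mem_sup_left haA)) _).1 hw,
    mem_sup_left ⟨⟨w, hw⟩, rfl⟩⟩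
  have Pa' : P a' := by
    intro w hw
    have hw1 : q⁻¹ * w * q ∈ U := (mem_normalizer_iff''.1 hqU w).1 hw
    refine ⟨(mem_normalizer_iff.1 ((mul_mem (mul_mem hqU (hnU (mem_sup_left haA)))
      (inv_mem hqU))) _).1 hw, mem_sup_right ?_⟩
    refine ⟨_, ⟨⟨_, hw1⟩, rfl⟩, ?_⟩
    simp only [MulEquiv.coe_toMonoidHom, MulAut.conj_apply, ha']
    show q * ((q⁻¹ * w * q)⁻¹ * (a * (q⁻¹ * w * q) * a⁻¹)) * q⁻¹ = _
    group
  have ha2 : a * a = 1 := by rw [← pow_two]; exact hA.2 a haA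
  have hainv : a⁻¹ = a := inv_eq_of_mul_eq_one_right ha2
  have hta : t = a' * a := by rw [ht, ha', hainv]
  have Pt : ∀ n : ℕ, P (t ^ n) := by
    intro n
    induction n with
    | zero => exact fun w hw => ⟨by simpa using hw, by simp⟩
    | succ n ihn => rw [pow_succ]; exact Pmul _ _ ihn (hta ▸ Pmul _ _ Pa' Pa)
  have ht12 : ∀ w ∈ U, t ^ 12 * w = w * t ^ 12 := by
    intro w hw
    obtain ⟨k, hk, e⟩ := exists_pow_fixed hDcard (fun n => (Pt n w hw).2)
    have hc : Commute (t ^ k) w := mul_inv_eq_iff_eq_mul.1 e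
    obtain ⟨l, hl⟩ := hk
    rw [hl, pow_mul]
    exact hc.pow_left l
  have htQ : t ∈ Q := by
    rw [ht, show q * a * q⁻¹ * a⁻¹ = q * (a * q⁻¹ * a⁻¹) by group]
    exact mul_mem hq ((mem_normalizer_iff.1 (hQn haA) _).1 (inv_mem hq))
  have ht3 : ∀ w ∈ U, t ^ 3 * w = w * t ^ 3 := by
    intro w hw
    have hcop : Nat.Coprime 4 (orderOf (t ^ 3)) := by
      have h2 : Nat.Coprime 2 (orderOf (t ^ 3)) :=
        (hK.coprime_dvd_left (orderOf_dvd_natCard _ (hQK (pow_mem htQ 3)))).symm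
      exact Nat.Coprime.pow_left 2 h2
    obtain ⟨i, hi⟩ := mem_zpowers_iff.1 (mem_zpowers_pow_iff.2 hcop)
    rw [← hi, ← pow_mul]
    exact (show Commute (t ^ (3 * 4)) w from ht12 w hw).zpow_left i
  -- the section
  apply hns
  have hNa : a ∈ normalizer (U : Set X) ⊓ M :=
    Subgroup.mem_inf.2 ⟨hnU (mem_sup_left haA), haM⟩
  have hNq : q ∈ normalizer (U : Set X) ⊓ M := Subgroup.mem_inf.2 ⟨hqU, hQM hq⟩
  set N := normalizer (U : Set X) ⊓ M with hN
  let φ : ↥N →* MulAut ↥U := (U.normalizerMonoidHom).comp (inclusion inf_le_left)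
  have hφ : ∀ g : ↥N, φ g = 1 ↔ (g : X) ∈ centralizer (U : Set X) := by
    intro g
    have h : (inclusion (inf_le_left : N ≤ normalizer (U : Set X)) g) ∈ U.normalizerMonoidHom.ker ↔
        (g : X) ∈ centralizer (U : Set X) := by
      rw [normalizerMonoidHom_ker, mem_subgroupOf]; rfl
    exact h
  set g : ↥N := ⟨a, hNa⟩ with hg
  set g' : ↥N := ⟨q, hNq⟩ * g * (⟨q, hNq⟩ : ↥N)⁻¹ with hg'
  have hgg : g * g = 1 := Subtype.ext ha2
  have hg'g' : g' * g' = 1 := by
    rw [hg', show ∀ x y : ↥N, x * y * x⁻¹ * (x * y * x⁻¹) = x * (y * y) * x⁻¹ from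
      fun x y => by group, hgg, mul_one, mul_inv_cancel]
  have hα : φ g * φ g = 1 := by rw [← map_mul, hgg, map_one]
  have hβ : φ g' * φ g' = 1 := by rw [← map_mul, hg'g', map_one]
  have ht' : ((g' * g : ↥N) : X) = t := by rw [hta]; rfl
  have h3 : φ g' * φ g * (φ g' * φ g) * (φ g' * φ g) = 1 := by
    rw [← map_mul, ← map_mul, ← map_mul, hφ]
    have e : ((g' * g * (g' * g) * (g' * g) : ↥N) : X) = t ^ 3 := by
      rw [Subgroup.coe_mul, Subgroup.coe_mul, ht', pow_three']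
    rw [e, mem_centralizer_iff]
    exact fun w hw => (ht3 w hw).symm
  have h1 : φ g' * φ g ≠ 1 := by
    rw [← map_mul, Ne, hφ, ht']; exact htU
  have hbraid : φ g' * φ g * φ g' = φ g * φ g' * φ g := by
    have i1 : (φ g)⁻¹ = φ g := inv_eq_of_mul_eq_one_right hα
    have i2 : (φ g')⁻¹ = φ g' := inv_eq_of_mul_eq_one_right hβ
    have e : φ g' * φ g * φ g' * (φ g * φ g' * φ g) = 1 := by
      simpa only [mul_assoc] using h3
    rw [eq_inv_of_mul_eq_one_left e, _root_.mul_inv_rev, _root_.mul_inv_rev, i1, i2, mul_assoc]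
  have hne' : φ g ≠ φ g' := fun e => h1 (by rw [← e, hα])
  have hnc : ¬ Commute (φ g) (φ g') := by
    intro hc
    have hsq : φ g' * φ g * (φ g' * φ g) = 1 := by
      calc φ g' * φ g * (φ g' * φ g) = φ g' * (φ g * φ g') * φ g := by group
        _ = φ g' * (φ g' * φ g) * φ g := by rw [hc.eq]
        _ = (φ g' * φ g') * (φ g * φ g) := by group
        _ = 1 := by rw [hα, hβ, one_mul]
    rw [hsq, one_mul] at h3
    exact h1 h3
  exact CfsgLib.Fusion.involves_of_injective (inclusion (inf_le_right : N ≤ M))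
    (inclusion_injective _) (involves_perm_three φ g g' hα hβ hbraid hne' hnc)

theorem main (M V : Subgroup X) (hV : Cfsg.IsElementaryAbelian 2 V)
    (hMV : M ≤ normalizer (V : Set X)) (hfaith : M ⊓ centralizer (V : Set X) = ⊥)
    (hcon : centralizer (Cfsg.pPrimeCore 2 ↥M : Set ↥M) ≤ Cfsg.pPrimeCore 2 ↥M) (A : Subgroup X)
    (hAM : A ≤ M) (hA : Cfsg.IsElementaryAbelian 2 A)
    (hsmall : (V ⊓ centralizer (A : Set X)).relIndex V < Nat.card A ^ 2) :
    Cfsg.Involves (Equiv.Perm (Fin 3)) ↥M := by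
  haveI : Fact (Nat.Prime 2) := ⟨Nat.prime_two⟩
  by_contra hns
  set K0 := Cfsg.pPrimeCore 2 ↥M with hK0
  set K := K0.map M.subtype with hK
  have hKM : K ≤ M := map_subtype_le _
  have hKc : (Nat.card K).Coprime 2 :=
    (CfsgLib.Coprime.pPrimeCore_coprime Nat.prime_two).coprime_dvd_left (card_map_dvd _ _)
  haveI := CfsgLib.Coprime.pPrimeCore_characteristic (G := ↥M) 2
  have hMK : M ≤ normalizer (K : Set X) := by
    intro m hm
    rw [mem_normalizer_iff]
    have key : ∀ m ∈ M, ∀ k ∈ K, m * k * m⁻¹ ∈ K := by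
      rintro m hm _ ⟨k, hk, rfl⟩
      exact ⟨⟨m, hm⟩ * k * ⟨m, hm⟩⁻¹, Normal.conj_mem inferInstance k hk _, rfl⟩
    exact fun t => ⟨key m hm t, fun h => by simpa [mul_assoc] using key m⁻¹ (inv_mem hm) _ h⟩
  have hfA : A ⊓ centralizer (K : Set X) = ⊥ := by
    rw [eq_bot_iff]
    intro x hx
    obtain ⟨hxA, hxK⟩ := Subgroup.mem_inf.1 hx
    have hxK' : x ∈ K := ⟨⟨x, hAM hxA⟩, hcon (mem_centralizer_iff.2 fun y hy =>
      Subtype.ext (mem_centralizer_iff.1 hxK _ (mem_map_of_mem M.subtype hy))), rfl⟩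
    exact orderOf_eq_one_iff.1 (Nat.eq_one_of_dvd_coprimes hKc (orderOf_dvd_natCard _ hxK')
      (orderOf_dvd_of_pow_eq_one (hA.2 x hxA)))
  exact hsmall.not_ge (sq_card_le M K V hV hMV hKM hKc
    (le_bot_iff.1 ((inf_le_inf_right _ hKM).trans hfaith.le)) hns _ A rfl hAM hA
    (hAM.trans hMK) hfA)

end CfsgLib.SmallOffender
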