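import Mathlib.Algebra.Group.Shrink
import Mathlib.Logic.Small.Basic
import Mathlib.GroupTheory.NoncommCoprod
import Cfsg.Prelude.Def_Transfer
import Cfsg.Agent.Lib.Invol.Basic
import Cfsg.Agent.Lib.PGroup.FrattiniLe
import Cfsg.Agent.Lib.PGroup.MetacyclicOmega
import Cfsg.Agent.Lib.Coprime.PGroupFrattini
import Cfsg.Agent.Lib.Fusion.ZJElementary

/-!
# Splitting a generalized extraspecial group with an abelian maximal subgroup of exponent `p`

If the centraliser `C` of `y` is elementary abelian and some `x` outside `C` has `x ^ p = 1`, then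
the group is the product of the group generated by `x`, `y` (of order `p³`) and an elementary
abelian group.
-/

set_option autoImplicit false
set_option linter.style.haveILetI false

open Subgroup
open scoped commutatorElement

namespace CfsgLib.GenExtraspecial

universe u

variable {G : Type u} [Group G] {p : ℕ} [hp : Fact p.Prime]

theorem zpow_eq_one_of_mem {H : Subgroup G} {g : G} (hgp : g ^ p = 1) (hg : g ∉ H) {k : ℤ}
    (h : g ^ k ∈ H) : g ^ k = 1 := by
  by_cases hk : (p : ℤ) ∣ k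
  · obtain ⟨m, rfl⟩ := hk
    rw [zpow_mul, zpow_natCast, hgp, one_zpow]
  · obtain ⟨a, b, hab⟩ := (Prime.coprime_iff_not_dvd (Nat.prime_iff_prime_int.1 hp.out)).2 hk
    refine absurd ?_ hg
    have e : g = (g ^ k) ^ b := by
      rw [← zpow_mul]
      conv_lhs => rw [← zpow_one g, ← hab]
      rw [zpow_add, mul_comm a, zpow_mul, zpow_natCast, hgp, one_zpow, one_mul, mul_comm b]
    rw [e]
    exact zpow_mem h b

theorem mem_zpowers_of_card {H : Subgroup G} (hH : Nat.card H = p) {w x : G} (hw : w ∈ H)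
    (hw1 : w ≠ 1) (hx : x ∈ H) : x ∈ zpowers w := by
  have h : (⟨x, hx⟩ : H) ∈ zpowers (⟨w, hw⟩ : H) :=
    mem_zpowers_of_prime_card hH fun e => hw1 (congrArg Subtype.val e)
  obtain ⟨k, hk⟩ := mem_zpowers_iff.1 h
  exact mem_zpowers_iff.2 ⟨k, by simpa using congrArg Subtype.val hk⟩

/-- A non-abelian group of order `p³` and exponent `p` is extraspecial. -/
theorem isExtraspecial_of_cube [Finite G] (hcard : Nat.card G = p ^ 3) {a b : G}
    (hab : a * b ≠ b * a) (hexp : ∀ g : G, g ^ p = 1) : Cfsg.IsExtraspecial p G := by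
  have hG : IsPGroup p G := IsPGroup.of_card hcard
  have hle : commutator G ≤ center G :=
    CfsgLib.MetacyclicOmega.commutator_le_center_of_card hG hcard
  have hcne : commutator G ≠ ⊥ := fun h => hab <| by
    rw [← commutatorElement_eq_one_iff_mul_comm, ← mem_bot, ← h, commutator_def]
    exact commutator_mem_commutator (mem_top a) (mem_top b)
  obtain ⟨k, hk⟩ := (hG.to_subgroup (center G)).exists_card_eq
  have hk0 : k ≠ 0 := by
    rintro rfl
    exact hcne (eq_bot_iff.2 (hle.trans (eq_bot_of_card_eq _ (by rw [hk, pow_zero])).le))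
  have hk1 : k = 1 := by
    by_contra hk1
    have h1 := card_eq_card_quotient_mul_card_subgroup (center G)
    obtain ⟨j, hj⟩ := (hG.to_quotient (center G)).exists_card_eq
    rw [hcard, hk, hj, ← pow_add] at h1
    have h2 := Nat.pow_right_injective hp.out.two_le h1
    haveI : IsCyclic (G ⧸ center G) := by
      have hj1 : j ≤ 1 := by omega
      rcases Nat.le_one_iff_eq_zero_or_eq_one.1 hj1 with rfl | rfl
      · haveI : Subsingleton (G ⧸ center G) :=
          (Nat.card_eq_one_iff_unique.1 (by rw [hj, pow_zero])).1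
        infer_instance
      · exact isCyclic_of_prime_card (p := p) (by rw [hj, pow_one])
    exact hab (commutative_of_cyclic_center_quotient (QuotientGroup.mk' (center G))
      (QuotientGroup.ker_mk' (center G)).le a b)
  subst hk1
  rw [pow_one] at hk
  have heq : commutator G = center G := by
    refine eq_of_le_of_card_ge hle ?_
    obtain ⟨i, hi⟩ := (hG.to_subgroup (commutator G)).exists_card_eq
    rw [hk, hi]
    refine Nat.le_self_pow ?_ p
    rintro rfl
    exact hcne (eq_bot_of_card_eq _ (by rw [hi, pow_zero]))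
  refine ⟨⟨hG, le_antisymm ?_ ?_, heq⟩, hk⟩
  · exact CfsgLib.FrattiniLe.frattini_le_of_pow_of_commutator
      (fun g => by rw [hexp g]; exact one_mem _) hle
  · exact heq ▸ CfsgLib.Coprime.commutator_le_frattini hG

/-- `b ↦ ⁅b, g⁆` when commutators are central. -/
def commHom (hcen : ∀ a b : G, ⁅a, b⁆ ∈ center G) (g : G) : G →* G :=
  MonoidHom.mk' (fun b => ⁅b, g⁆) fun a b => by
    show ⁅a * b, g⁆ = ⁅a, g⁆ * ⁅b, g⁆
    calc ⁅a * b, g⁆ = a * ⁅b, g⁆ * a⁻¹ * ⁅a, g⁆ := by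
          simp only [commutatorElement_def]; group
      _ = ⁅b, g⁆ * ⁅a, g⁆ := by
          rw [mem_center_iff.1 (hcen b g) a, mul_inv_cancel_right]
      _ = ⁅a, g⁆ * ⁅b, g⁆ := mem_center_iff.1 (hcen a g) _

variable [Finite G] {Z C : Subgroup G} {y x : G}

/-- The splitting. -/
theorem exists_product (hZ : Z ≤ center G) (hZcard : Nat.card Z = p)
    (hcomm : ∀ a b : G, ⁅a, b⁆ ∈ Z) (hC : ∀ b, b ∈ C ↔ Commute b y)
    (habel : ∀ a ∈ C, ∀ b ∈ C, Commute a b) (hexp : ∀ c ∈ C, c ^ p = 1) (hy : y ∉ Z)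
    (hx : x ∉ C) (hxp : x ^ p = 1) :
    ∃ E A : Subgroup G, E = closure ({x, y} : Set G) ∧ Nat.card E = p ^ 3 ∧
      (∀ a ∈ A, a ^ p = 1) ∧ (∀ a ∈ A, ∀ b ∈ A, a * b = b * a) ∧ Nonempty (G ≃* E × A) := by
  classical
  have hcen : ∀ a b : G, ⁅a, b⁆ ∈ center G := fun a b => hZ (hcomm a b)
  have hyC : y ∈ C := (hC y).2 (Commute.refl y)
  have hyp := hexp y hyC
  set w := ⁅x, y⁆ with hw
  have hw1 : w ≠ 1 := fun h => hx ((hC x).2 (commutatorElement_eq_one_iff_mul_comm.1 h))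
  have hZw : ∀ v ∈ Z, v ∈ zpowers w := fun v hv => mem_zpowers_of_card hZcard (hcomm x y) hw1 hv
  have hZC : Z ≤ C := fun v hv => (hC v).2 (mem_center_iff.1 (hZ hv) y).symm
  set Zc := C ⊓ centralizer {x} with hZc
  have hmemZc : ∀ c, c ∈ Zc ↔ c ∈ C ∧ Commute c x := fun c => by
    rw [hZc, mem_inf, mem_centralizer_singleton_iff]
    rfl
  have hZZc : Z ≤ Zc := fun v hv =>
    (hmemZc v).2 ⟨hZC hv, (mem_center_iff.1 (hZ hv) x).symm⟩
  have hyZc : y ∉ Zc := fun h => hx ((hC x).2 ((hmemZc y).1 h).2.symm)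
  obtain ⟨A, ⟨hAZc, hAZ⟩, hmax⟩ :=
    (Set.toFinite {A : Subgroup G | A ≤ Zc ∧ A ⊓ Z = ⊥}).exists_maximal ⟨⊥, bot_le, bot_inf_eq Z⟩
  have hAC : A ≤ C := fun a ha => ((hmemZc a).1 (hAZc ha)).1
  have hsplit : ∀ c ∈ Zc, ∃ a ∈ A, ∃ v ∈ Z, c = a * v := by
    haveI : Z.Normal := ⟨fun n hn g => by
      rw [mem_center_iff.1 (hZ hn) g, mul_inv_cancel_right]; exact hn⟩
    intro c hc
    by_contra hcon
    have hcA : c ∉ A := fun h => hcon ⟨c, h, 1, one_mem _, (mul_one c).symm⟩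
    obtain ⟨v, hv, hv1⟩ : ∃ v ∈ (A ⊔ zpowers c) ⊓ Z, v ≠ 1 := by
      by_contra h
      push Not at h
      exact hcA (hmax ⟨sup_le hAZc (zpowers_le.2 hc), eq_bot_iff.2 fun v hv => mem_bot.2 (h v hv)⟩
        le_sup_left (mem_sup_right (mem_zpowers c)))
    obtain ⟨hvA, hvZ⟩ := mem_inf.1 hv
    have hnorm : zpowers c ≤ normalizer (A : Set G) := by
      refine zpowers_le.2 (mem_normalizer_iff.2 fun a => ?_)
      have key : ∀ b ∈ Zc, c * b * c⁻¹ = b := fun b hb => by
        rw [(habel c ((hmemZc c).1 hc).1 b ((hmemZc b).1 hb).1).eq, mul_inv_cancel_right]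
      constructor
      · intro ha
        rwa [key a (hAZc ha)]
      · intro ha
        have h2 : a = c⁻¹ * (c * a * c⁻¹) * c := by group
        have h3 : a ∈ Zc := h2 ▸ mul_mem (mul_mem (inv_mem hc) (hAZc ha)) hc
        rwa [key a h3] at ha
    rw [← SetLike.mem_coe, coe_mul_of_right_le_normalizer_left A _ hnorm, Set.mem_mul] at hvA
    obtain ⟨a, ha, q, hq, hav⟩ := hvA
    obtain ⟨k, rfl⟩ := mem_zpowers_iff.1 hq
    have hck : c ^ k ∈ A ⊔ Z := by
      have : c ^ k = a⁻¹ * v := by rw [← hav]; group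
      rw [this]
      exact mul_mem (mem_sup_left (inv_mem ha)) (mem_sup_right hvZ)
    by_cases hcAZ : c ∈ A ⊔ Z
    · obtain ⟨a', ha', v', hv', hcv⟩ := mem_sup_of_normal_right.1 hcAZ
      exact hcon ⟨a', ha', v', hv', hcv.symm⟩
    · have := zpow_eq_one_of_mem (hexp c ((hmemZc c).1 hc).1) hcAZ hck
      rw [this, mul_one] at hav
      have hb : v ∈ A ⊓ Z := mem_inf.2 ⟨hav ▸ ha, hvZ⟩
      rw [hAZ] at hb
      exact hv1 (mem_bot.1 hb)
  -- the subgroup generated by `x` and `y`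
  let E₀ : Subgroup G :=
    { carrier := {e | ∃ v ∈ Z, ∃ j k : ℤ, e = v * y ^ j * x ^ k}
      one_mem' := ⟨1, one_mem _, 0, 0, by simp⟩
      mul_mem' := by
        rintro a b ⟨v, hv, j, k, rfl⟩ ⟨v', hv', i, l, rfl⟩
        refine ⟨v * v' * ⁅x ^ k, y ^ i⁆, mul_mem (mul_mem hv hv') (hcomm _ _), j + i, k + l, ?_⟩
        have c1 := mem_center_iff.1 (hZ hv')
        have c2 := mem_center_iff.1 (hcen (x ^ k) (y ^ i))
        calc v * y ^ j * x ^ k * (v' * y ^ i * x ^ l)
            = v * ((y ^ j * x ^ k) * v') * (y ^ i * x ^ l) := by group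
          _ = v * v' * y ^ j * ((x ^ k * y ^ i) * x ^ l) := by rw [c1]; group
          _ = v * v' * (y ^ j * ⁅x ^ k, y ^ i⁆) * y ^ i * x ^ k * x ^ l := by
              simp only [commutatorElement_def]; group
          _ = v * v' * ⁅x ^ k, y ^ i⁆ * y ^ (j + i) * x ^ (k + l) := by rw [c2]; group
      inv_mem' := by
        rintro a ⟨v, hv, j, k, rfl⟩
        refine ⟨⁅x ^ (-k), y ^ (-j)⁆ * v⁻¹, mul_mem (hcomm _ _) (inv_mem hv), -j, -k, ?_⟩
        have c1 := mem_center_iff.1 (hZ (inv_mem hv))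
        calc (v * y ^ j * x ^ k)⁻¹ = x ^ (-k) * y ^ (-j) * v⁻¹ := by group
          _ = v⁻¹ * (⁅x ^ (-k), y ^ (-j)⁆ * y ^ (-j) * x ^ (-k)) := by
              rw [c1]; simp only [commutatorElement_def]; group
          _ = ⁅x ^ (-k), y ^ (-j)⁆ * v⁻¹ * y ^ (-j) * x ^ (-k) := by
              rw [← mul_assoc, ← mul_assoc, ← c1 ⁅x ^ (-k), y ^ (-j)⁆] }
  set E := closure ({x, y} : Set G) with hEdef
  have hxE : x ∈ E := subset_closure (by simp)
  have hyE : y ∈ E := subset_closure (by simp)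
  have hZE : Z ≤ E := by
    intro v hv
    obtain ⟨k, rfl⟩ := mem_zpowers_iff.1 (hZw v hv)
    rw [hw, commutatorElement_def]
    exact zpow_mem (mul_mem (mul_mem (mul_mem hxE hyE) (inv_mem hxE)) (inv_mem hyE)) k
  have hEmem : ∀ e, e ∈ E ↔ ∃ v ∈ Z, ∃ j k : ℤ, e = v * y ^ j * x ^ k := by
    intro e
    constructor
    · intro he
      have : E ≤ E₀ := by
        rw [hEdef, closure_le]
        rintro b (rfl | rfl)
        · exact ⟨1, one_mem _, 0, 1, by simp⟩
        · exact ⟨1, one_mem _, 1, 0, by simp⟩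
      exact this he
    · rintro ⟨v, hv, j, k, rfl⟩
      exact mul_mem (mul_mem (hZE hv) (zpow_mem hyE j)) (zpow_mem hxE k)
  -- uniqueness of the representation
  have huniq : ∀ (v : G) (j k : ℤ), v ∈ Z → v * y ^ j * x ^ k ∈ Zc → x ^ k = 1 ∧ y ^ j = 1 := by
    intro v j k hv h
    have h1 : x ^ k = (v * y ^ j)⁻¹ * (v * y ^ j * x ^ k) := by group
    have hxk : x ^ k = 1 := zpow_eq_one_of_mem hxp hx
      (h1 ▸ mul_mem (inv_mem (mul_mem (hZC hv) (zpow_mem hyC j))) ((hmemZc _).1 h).1)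
    refine ⟨hxk, ?_⟩
    rw [hxk, mul_one] at h
    have h2 : y ^ j = v⁻¹ * (v * y ^ j) := by group
    exact zpow_eq_one_of_mem hyp hyZc (h2 ▸ mul_mem (inv_mem (hZZc hv)) h)
  have hcent : ∀ (e : E) (a : A), Commute (E.subtype e) (A.subtype a) := by
    intro e a
    obtain ⟨v, hv, j, k, he⟩ := (hEmem _).1 e.2
    have haC := (hmemZc _).1 (hAZc a.2)
    show Commute (e : G) (a : G)
    rw [he]
    have hva : Commute v (a : G) := (mem_center_iff.1 (hZ hv) (a : G)).symm
    exact (hva.mul_left (((hC _).1 haC.1).symm.zpow_left j)).mul_left (haC.2.symm.zpow_left k)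
  set φ : E × A →* G := MonoidHom.noncommCoprod E.subtype A.subtype hcent with hφ
  have hinj : Function.Injective φ := by
    rw [← MonoidHom.ker_eq_bot_iff, eq_bot_iff]
    rintro ⟨⟨e, he⟩, ⟨a, ha⟩⟩ h
    have h' : e * a = 1 := MonoidHom.mem_ker.1 h
    have hea : e = a⁻¹ := eq_inv_of_mul_eq_one_left h'
    obtain ⟨v, hv, j, k, he'⟩ := (hEmem e).1 he
    obtain ⟨h1, h2⟩ := huniq v j k hv (by rw [← he', hea]; exact inv_mem (hAZc ha))
    have hev : e = v := by rw [he', h1, h2, mul_one, mul_one]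
    have hb : a ∈ A ⊓ Z := mem_inf.2 ⟨ha, by
      have : a = v⁻¹ := by rw [← hev, hea, inv_inv]
      rw [this]; exact inv_mem hv⟩
    rw [hAZ, mem_bot] at hb
    subst hb
    rw [inv_one] at hea
    subst hea
    rfl
  have hsurj : Function.Surjective φ := by
    intro r
    obtain ⟨k, hk⟩ := mem_zpowers_iff.1 (hZw _ (hcomm r y))
    have hc : r * x ^ (-k) ∈ C := by
      refine (hC _).2 (commutatorElement_eq_one_iff_mul_comm.1 ?_)
      show commHom hcen y (r * x ^ (-k)) = 1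
      rw [map_mul, map_zpow]
      show ⁅r, y⁆ * ⁅x, y⁆ ^ (-k) = 1
      rw [← hk, ← hw]; group
    set c := r * x ^ (-k) with hcdef
    have hw' : ⁅y, x⁆ = w⁻¹ := by rw [hw, commutatorElement_inv]
    obtain ⟨j, hj⟩ := mem_zpowers_iff.1 (hZw _ (hcomm c x))
    have hc' : c * y ^ j ∈ Zc := by
      refine (hmemZc _).2 ⟨mul_mem hc (zpow_mem hyC j), commutatorElement_eq_one_iff_mul_comm.1 ?_⟩
      show commHom hcen x (c * y ^ j) = 1
      rw [map_mul, map_zpow]
      show ⁅c, x⁆ * ⁅y, x⁆ ^ j = 1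
      rw [← hj, hw', inv_zpow, mul_inv_cancel]
    obtain ⟨a, ha, v, hv, hav⟩ := hsplit _ hc'
    have he : v * y ^ (-j) * x ^ k ∈ E := (hEmem _).2 ⟨v, hv, -j, k, rfl⟩
    refine ⟨(⟨_, he⟩, ⟨a, ha⟩), ?_⟩
    show v * y ^ (-j) * x ^ k * a = r
    have hcm : Commute (v * y ^ (-j) * x ^ k) a := hcent ⟨_, he⟩ ⟨a, ha⟩
    rw [hcm.eq,
      show a * (v * y ^ (-j) * x ^ k) = (a * v) * y ^ (-j) * x ^ k by group, ← hav, hcdef]
    group
  -- the order of `E`
  have hEcard : Nat.card E = p ^ 3 := by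
    have hZp := hZcard
    let ψ : Z × zpowers y × zpowers x → E := fun t =>
      ⟨(t.1 : G) * t.2.1 * t.2.2, mul_mem (mul_mem (hZE t.1.2)
        (zpowers_le.2 hyE t.2.1.2)) (zpowers_le.2 hxE t.2.2.2)⟩
    have hb : Function.Bijective ψ := by
      constructor
      · rintro ⟨⟨v, hv⟩, ⟨_, ⟨j, rfl⟩⟩, ⟨_, ⟨k, rfl⟩⟩⟩ ⟨⟨v', hv'⟩, ⟨_, ⟨i, rfl⟩⟩, ⟨_, ⟨l, rfl⟩⟩⟩ h
        have h' : v * y ^ j * x ^ k = v' * y ^ i * x ^ l := congrArg Subtype.val h
        have c1 := mem_center_iff.1 (hZ hv)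
        have hd : y ^ (-i) * v'⁻¹ * v * y ^ j * x ^ (k - l) = 1 := by
          calc y ^ (-i) * v'⁻¹ * v * y ^ j * x ^ (k - l)
              = y ^ (-i) * v'⁻¹ * (v * y ^ j * x ^ k) * x ^ (-l) := by group
            _ = 1 := by rw [h']; group
        have hmem : (v'⁻¹ * v) * y ^ (j - i) * x ^ (k - l) ∈ Zc := by
          have : (v'⁻¹ * v) * y ^ (j - i) * x ^ (k - l) = 1 := by
            have c2 := mem_center_iff.1 (hZ (mul_mem (inv_mem hv') hv)) (y ^ (-i))
            calc (v'⁻¹ * v) * y ^ (j - i) * x ^ (k - l)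
                = ((v'⁻¹ * v) * y ^ (-i)) * y ^ j * x ^ (k - l) := by group
              _ = (y ^ (-i) * (v'⁻¹ * v)) * y ^ j * x ^ (k - l) := by rw [c2]
              _ = 1 := by rw [← hd]; group
          rw [this]; exact one_mem _
        obtain ⟨h1, h2⟩ := huniq _ _ _ (mul_mem (inv_mem hv') hv) hmem
        have hxx : x ^ k = x ^ l := by rwa [zpow_sub, mul_inv_eq_one] at h1
        have hyy : y ^ j = y ^ i := by rwa [zpow_sub, mul_inv_eq_one] at h2
        have hvv : v = v' := by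
          rw [hxx, hyy] at h'
          exact mul_right_cancel (mul_right_cancel h')
        exact Prod.ext (Subtype.ext hvv) (Prod.ext (Subtype.ext hyy) (Subtype.ext hxx))
      · rintro ⟨e, he⟩
        obtain ⟨v, hv, j, k, rfl⟩ := (hEmem e).1 he
        exact ⟨(⟨v, hv⟩, ⟨y ^ j, j, rfl⟩, ⟨x ^ k, k, rfl⟩), rfl⟩
    rw [← Nat.card_congr (Equiv.ofBijective ψ hb), Nat.card_prod, Nat.card_prod, hZp,
      Nat.card_zpowers, Nat.card_zpowers,
      orderOf_eq_prime hyp fun h => hy (h ▸ one_mem Z),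
      orderOf_eq_prime hxp fun h => hx (h ▸ one_mem C)]
    ring
  exact ⟨E, A, rfl, hEcard, fun a ha => hexp a (hAC ha),
    fun a ha b hb => (habel a (hAC ha) b (hAC hb)).eq,
    ⟨(MulEquiv.ofBijective φ ⟨hinj, hsurj⟩).symm⟩⟩

omit hp in
/-- An element outside `C` has order `p` or is replaced by one for `p = 2`. -/
theorem exists_invol_outside (hp2 : p = 2) (hZ : Z ≤ center G) (hZcard : Nat.card Z = p)
    (hcomm : ∀ a b : G, ⁅a, b⁆ ∈ Z) (hpow : ∀ b : G, b ^ p ∈ Z) (hC : ∀ b, b ∈ C ↔ Commute b y)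
    (hexp : ∀ c ∈ C, c ^ p = 1) (hx : x ∉ C) : ∃ x' : G, x' ∉ C ∧ x' ^ p = 1 := by
  subst hp2
  haveI : Fact (Nat.Prime 2) := ⟨Nat.prime_two⟩
  by_cases hx2 : x ^ 2 = 1
  · exact ⟨x, hx, hx2⟩
  have hyC : y ∈ C := (hC y).2 (Commute.refl y)
  refine ⟨x * y, fun h => hx (by simpa using mul_mem h (inv_mem hyC)), ?_⟩
  set w := ⁅x, y⁆ with hw
  have hw1 : w ≠ 1 := fun h => hx ((hC x).2 (commutatorElement_eq_one_iff_mul_comm.1 h))
  have hz : ∀ v ∈ Z, v ≠ 1 → v = x ^ 2 := by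
    intro v hv hv1
    obtain ⟨k, hk⟩ := mem_zpowers_iff.1 (mem_zpowers_of_card hZcard (hpow x) hx2 hv)
    have h4 : (x ^ 2) ^ 2 = 1 := by
      have h := pow_card_eq_one' (G := Z) (x := ⟨x ^ 2, hpow x⟩)
      rw [hZcard] at h
      exact congrArg Subtype.val h
    rcases Int.even_or_odd k with ⟨m, rfl⟩ | ⟨m, rfl⟩
    · rw [← two_mul, zpow_mul, zpow_ofNat, h4, one_zpow] at hk
      exact absurd hk.symm hv1
    · rw [zpow_add, zpow_mul, zpow_ofNat (x ^ 2), h4, one_zpow, one_mul, zpow_one] at hk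
      exact hk.symm
  have hy2 : y * y = 1 := by rw [← sq]; exact hexp y hyC
  have hw2 : w * w = 1 := by
    have h := pow_card_eq_one' (G := Z) (x := ⟨w, hcomm x y⟩)
    rw [hZcard, pow_two] at h
    exact congrArg Subtype.val h
  have hwc : ∀ g, g * w = w * g := mem_center_iff.1 (hZ (hcomm x y))
  have hwx2 : w = x ^ 2 := hz w (hcomm x y) hw1
  clear_value w
  have hxy : x * y = w * (y * x) := by rw [hw, commutatorElement_def]; group
  calc (x * y) ^ 2 = x * (y * x) * y := by rw [sq]; group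
    _ = x * (w⁻¹ * (x * y)) * y := by rw [hxy]; group
    _ = w * x * x * (y * y) := by
        rw [show w⁻¹ = w from inv_eq_of_mul_eq_one_right hw2, ← mul_assoc x, hwc x]; group
    _ = x ^ 2 * x ^ 2 := by rw [hy2, hwx2]; group
    _ = 1 := by rw [← hwx2]; exact hw2

/-- The excluded structures. -/
theorem false_of_split (hZ : Z ≤ center G) (hZcard : Nat.card Z = p)
    (hcomm : ∀ a b : G, ⁅a, b⁆ ∈ Z) (hC : ∀ b, b ∈ C ↔ Commute b y)
    (habel : ∀ a ∈ C, ∀ b ∈ C, Commute a b) (hexp : ∀ c ∈ C, c ^ p = 1) (hy : y ∉ Z)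
    (hx : x ∉ C) (hxp : x ^ p = 1)
    (h2 : p = 2 → ¬ ∃ (A : Type) (_ : CommGroup A), (∀ a : A, a ^ 2 = 1) ∧
      Nonempty (G ≃* DihedralGroup 4 × A))
    (hodd : p ≠ 2 → ¬ ∃ (E : Type) (_ : Group E) (A : Type) (_ : CommGroup A),
      Cfsg.IsExtraspecial p E ∧ Nat.card E = p ^ 3 ∧ Monoid.exponent E = p ∧
      (∀ a : A, a ^ p = 1) ∧ Nonempty (G ≃* E × A)) : False := by
  obtain ⟨E, A, hE, hEcard, hAexp, hAcomm, ⟨e⟩⟩ :=
    exists_product hZ hZcard hcomm hC habel hexp hy hx hxp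
  haveI : IsMulCommutative A := ⟨⟨fun a b => Subtype.ext (hAcomm a a.2 b b.2)⟩⟩
  have hAc : ∀ a b : A, a * b = b * a := fun a b => Subtype.ext (hAcomm a a.2 b b.2)
  let eA : Shrink.{0} A ≃* A := Shrink.mulEquiv
  letI iA : CommGroup (Shrink.{0} A) :=
    { (inferInstance : Group (Shrink.{0} A)) with
      mul_comm := fun a b => eA.injective (by rw [map_mul, map_mul, hAc]) }
  have hAexp' : ∀ a : Shrink.{0} A, a ^ p = 1 := fun a => eA.injective (by
    rw [map_pow, map_one]; exact Subtype.ext (hAexp _ (eA a).2))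
  have hyC : y ∈ C := (hC y).2 (Commute.refl y)
  have hne : x * y ≠ y * x := fun h => hx ((hC x).2 h)
  by_cases hp2 : p = 2
  · subst hp2
    have ox : orderOf x = 2 := orderOf_eq_prime hxp fun h => hx (h ▸ one_mem C)
    have oy : orderOf y = 2 := orderOf_eq_prime (hexp y hyC) fun h => hy (h ▸ one_mem Z)
    have h := CfsgLib.Invol.card_closure_pair ox oy
    rw [← hE, hEcard] at h
    have h4 : orderOf (x * y) = 4 := by omega
    have eD : E ≃* DihedralGroup 4 :=
      (MulEquiv.subgroupCongr hE).trans (h4 ▸ CfsgLib.Invol.dihedralEquiv ox oy)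
    exact h2 rfl ⟨Shrink.{0} A, iA, hAexp', ⟨e.trans (eD.prodCongr eA.symm)⟩⟩
  · let eE : Shrink.{0} E ≃* E := Shrink.mulEquiv
    have hxE : x ∈ E := hE ▸ subset_closure (by simp)
    have hyE : y ∈ E := hE ▸ subset_closure (by simp)
    have hgen : ∀ g ∈ E, g ^ p = 1 := by
      intro g hg
      rw [hE] at hg
      induction hg using closure_induction with
      | mem b hb =>
        rcases hb with rfl | rfl
        · exact hxp
        · exact hexp _ hyC
      | one => exact one_pow p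
      | mul a b _ _ ha hb =>
        rw [CfsgLib.Fusion.mul_pow_eq_of_central_commutator (c := ⁅b, a⁆) hp.out hp2
          (by simp only [commutatorElement_def]; group)
          (mem_center_iff.1 (hZ (hcomm b a)) a).symm (mem_center_iff.1 (hZ (hcomm b a)) b).symm
          ?_, ha, hb, one_mul]
        have h := pow_card_eq_one' (G := Z) (x := ⟨⁅b, a⁆, hcomm b a⟩)
        rw [hZcard] at h
        exact congrArg Subtype.val h
      | inv a _ ha => rw [inv_pow, ha, inv_one]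
    have hexpE : ∀ g : Shrink.{0} E, g ^ p = 1 := fun g => eE.injective (by
      rw [map_pow, map_one]; exact Subtype.ext (hgen _ (eE g).2))
    haveI : Finite (Shrink.{0} E) := Finite.of_equiv E eE.symm.toEquiv
    have hcE : Nat.card (Shrink.{0} E) = p ^ 3 := by rw [Nat.card_congr eE.toEquiv, hEcard]
    have hExt : Cfsg.IsExtraspecial p (Shrink.{0} E) :=
      isExtraspecial_of_cube hcE (a := eE.symm ⟨x, hxE⟩) (b := eE.symm ⟨y, hyE⟩)
        (fun h => hne (by simpa using congrArg (fun t => ((eE t : E) : G)) h)) hexpE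
    have hexpn : Monoid.exponent (Shrink.{0} E) = p := by
      have hd := Monoid.exponent_dvd_of_forall_pow_eq_one hexpE
      rcases (Nat.dvd_prime hp.out).1 hd with h | h
      · exfalso
        haveI := Monoid.exp_eq_one_iff.1 h
        have h3 : Nat.card (Shrink.{0} E) = 1 := Nat.card_eq_one_iff_unique.2 ⟨inferInstance, ⟨1⟩⟩
        rw [hcE] at h3
        exact absurd h3.le (not_le.2 (Nat.one_lt_pow (by norm_num) hp.out.one_lt))
      · exact h
    exact hodd hp2 ⟨Shrink.{0} E, inferInstance, Shrink.{0} A, iA, hExt, hcE, hexpn, hAexp',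
      ⟨e.trans (eE.symm.prodCongr eA.symm)⟩⟩

end CfsgLib.GenExtraspecial
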