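import Cfsg.Agent.Lib.PGroup.Isolated
import Cfsg.Agent.Lib.PGroup.ElementaryBasic
import Cfsg.Prelude.Def_EvenType

/-!
# Equivalent forms of strong `p`-embedding
-/

set_option autoImplicit false
set_option linter.style.haveILetI false

open Subgroup

namespace CfsgLib.PEmb

open CfsgLib.Fusion (conjBy mem_conjBy conj_mem_conjBy conjBy_mono conjBy_conjBy conjBy_one
  conjBy_inv_conjBy conjBy_le_iff conjBy_eq_iff conjBy_eq_of_le card_conjBy isPGroup_conjBy)

variable {G : Type*} [Group G] {p : ℕ}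

/-- `M` contains the normalizers of its nontrivial `p`-subgroups. -/
def NormForm (p : ℕ) (M : Subgroup G) : Prop :=
  ∀ A : Subgroup G, A ≤ M → IsPGroup p A → A ≠ ⊥ → normalizer (A : Set G) ≤ M

/-- `M` meets its other conjugates in groups of order prime to `p`. -/
def ConjForm (p : ℕ) (M : Subgroup G) : Prop :=
  ∀ g : G, g ∉ M → ¬ p ∣ Nat.card ↥(M ⊓ M.map (MulAut.conj g).toMonoidHom)

variable [Finite G] [Fact p.Prime]

theorem dvd_card_of_ne_bot {A : Subgroup G} (hA : IsPGroup p A) (h : A ≠ ⊥) : p ∣ Nat.card A := by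
  obtain ⟨k, hk⟩ := hA.exists_card_eq
  rw [hk]
  refine dvd_pow_self p fun h0 => h ?_
  rw [h0, pow_zero] at hk
  exact Subgroup.card_eq_one.1 hk

theorem ConjForm.normForm {M : Subgroup G} (h : ConjForm p M) : NormForm p M := by
  intro A hAM hA hA1 g hg
  by_contra hgM
  refine h g hgM ((dvd_card_of_ne_bot hA hA1).trans (card_dvd_of_le (le_inf hAM fun a ha => ?_)))
  exact ⟨g⁻¹ * a * g, hAM ((mem_normalizer_iff''.1 hg a).1 ha),
    by simp [MulAut.conj_apply, mul_assoc]⟩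

/-- A `p`-group meeting `M` nontrivially lies in it. -/
theorem NormForm.le_of_inf_ne_bot {M : Subgroup G} (h : NormForm p M) {U : Subgroup G}
    (hU : IsPGroup p U) (hne : U ⊓ M ≠ ⊥) : U ≤ M := by
  haveI := hU.isNilpotent
  by_contra hle
  obtain ⟨x, hxU, hxN, hx⟩ := CfsgLib.Isolated.exists_mem_normalizer_inf
    (inf_le_left : U ⊓ M ≤ U) fun h' => hle (h'.trans inf_le_right)
  exact hx ⟨hxU, h _ inf_le_right (hU.to_le inf_le_left) hne hxN⟩

theorem NormForm.exists_sylow_le {M : Subgroup G} (h : NormForm p M) (hp : p ∣ Nat.card M) :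
    ∃ P : Sylow p G, (P : Subgroup G) ≤ M := by
  obtain ⟨x, hx⟩ := exists_prime_orderOf_dvd_card' (G := M) p hp
  have hxp : IsPGroup p (zpowers (x : G)) :=
    IsPGroup.of_card (n := 1) (by rw [Nat.card_zpowers, Subgroup.orderOf_coe, hx, pow_one])
  obtain ⟨P, hP⟩ := hxp.exists_le_sylow
  refine ⟨P, h.le_of_inf_ne_bot P.2 fun e => ?_⟩
  have h1 : (x : G) ∈ (⊥ : Subgroup G) := e ▸ ⟨hP (mem_zpowers _), x.2⟩
  rw [Subgroup.mem_bot] at h1
  rw [show x = 1 from Subtype.ext h1, orderOf_one] at hx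
  exact (Fact.out : p.Prime).ne_one hx.symm

theorem NormForm.conjForm {M : Subgroup G} (h : NormForm p M) (hp : p ∣ Nat.card M) :
    ConjForm p M := by
  intro g hgM hd
  obtain ⟨P, hP⟩ := h.exists_sylow_le hp
  have hPd : p ∣ Nat.card G := hp.trans (card_subgroup_dvd_card M)
  have hPne : (P : Subgroup G) ≠ ⊥ := P.ne_bot_of_dvd_card hPd
  obtain ⟨y, hy⟩ := exists_prime_orderOf_dvd_card'
    (G := ↥(M ⊓ M.map (MulAut.conj g).toMonoidHom)) p hd
  obtain ⟨hyM, hyg⟩ := y.2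
  have hyp : IsPGroup p (zpowers (y : G)) :=
    IsPGroup.of_card (n := 1) (by rw [Nat.card_zpowers, Subgroup.orderOf_coe, hy, pow_one])
  have hy1 : (y : G) ≠ 1 := fun e => (Fact.out : p.Prime).ne_one (by
    rw [← hy, ← Subgroup.orderOf_coe, e, orderOf_one])
  have hyg' : g⁻¹ * (y : G) * g ∈ M := mem_conjBy.1 hyg
  obtain ⟨U, hU⟩ := hyp.exists_le_sylow
  have hUM : (U : Subgroup G) ≤ M := h.le_of_inf_ne_bot U.2 fun e => hy1 (by
    rw [← Subgroup.mem_bot, ← e]; exact ⟨hU (mem_zpowers _), hyM⟩)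
  have hUg : conjBy g⁻¹ (U : Subgroup G) ≤ M := h.le_of_inf_ne_bot (isPGroup_conjBy _ U.2) fun e => hy1 (by
    have h1 : g⁻¹ * (y : G) * g⁻¹⁻¹ ∈ conjBy g⁻¹ (U : Subgroup G) ⊓ M :=
      ⟨conj_mem_conjBy (hU (mem_zpowers _)), by rwa [inv_inv]⟩
    rw [e, Subgroup.mem_bot, conj_eq_one_iff] at h1
    exact h1)
  have hi : ¬ p ∣ (U : Subgroup G).relIndex M := fun hdd =>
    U.not_dvd_index (hdd.trans (relIndex_dvd_index_of_le hUM))
  obtain ⟨m, hm, hle⟩ := CfsgLib.Fusion.exists_conj_le_of_not_dvd_relIndex U.2 hUM hi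
    (isPGroup_conjBy g⁻¹ U.2) hUg
  rw [conjBy_conjBy] at hle
  have hN : m * g⁻¹ ∈ M := h _ hUM U.2 (U.ne_bot_of_dvd_card hPd)
    (conjBy_eq_iff.1 (conjBy_eq_of_le hle))
  refine hgM ?_
  have h2 := mul_mem (inv_mem hN) hm
  rwa [mul_inv_rev, inv_inv, inv_mul_cancel_right] at h2

theorem NormForm.of_sylow {M : Subgroup G} (P : Sylow p G) (hPM : (P : Subgroup G) ≤ M)
    (h : ∀ A : Subgroup G, A ≤ (P : Subgroup G) → A ≠ ⊥ → normalizer (A : Set G) ≤ M) :
    NormForm p M := by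
  intro A hAM hA hA1 g hg
  have hi : ¬ p ∣ (P : Subgroup G).relIndex M := fun hdd =>
    P.not_dvd_index (hdd.trans (relIndex_dvd_index_of_le hPM))
  obtain ⟨m, hm, hle⟩ := CfsgLib.Fusion.exists_conj_le_of_not_dvd_relIndex P.2 hPM hi hA hAM
  have h1 : m * g * m⁻¹ ∈ M := h _ hle (fun e => hA1 (by
      rw [← conjBy_inv_conjBy m A, e, CfsgLib.Fusion.conjBy, Subgroup.map_bot])) (by
    rw [← CfsgLib.Fusion.conjBy_normalizer]
    exact conj_mem_conjBy hg)
  have := mul_mem (mul_mem (inv_mem hm) h1) hm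
  rwa [show m⁻¹ * (m * g * m⁻¹) * m = g by group] at this

omit [Finite G] in
theorem not_pRankLE_zero {A : Subgroup G} [Finite A] (hA : IsPGroup p A) (hA1 : A ≠ ⊥) :
    ¬ Cfsg.PRankLE p (1 - 1) A := by
  intro hr
  haveI : Nontrivial A := (nontrivial_iff_ne_bot A).2 hA1
  obtain ⟨k, hk, hk'⟩ := hA.nontrivial_iff_card.1 inferInstance
  obtain ⟨a, ha⟩ := exists_prime_orderOf_dvd_card' (G := A) p (by rw [hk']; exact dvd_pow_self p hk.ne')
  have hz := CfsgLib.EABasic.isElementaryAbelian_zpowers (p := p) (x := a) (ha ▸ pow_orderOf_eq_one a)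
  have h1 := hr (zpowers a) hz.1 hz.2
  rw [Nat.card_zpowers, ha, Nat.sub_self, pow_zero] at h1
  exact absurd h1 (not_le.2 (Fact.out : p.Prime).one_lt)

theorem isStronglyPEmbedded_iff {M : Subgroup G} (hM : M ≠ ⊤) (hp : p ∣ Nat.card M) :
    Cfsg.IsStronglyPEmbedded p M ↔ NormForm p M := by
  constructor
  · rintro ⟨hd, -, P, hP⟩
    have hN : ∀ A : Subgroup G, A ≤ (P : Subgroup G) → A ≠ ⊥ → normalizer (A : Set G) ≤ M :=
      fun A hA hA1 => le_trans (le_iSup_of_le (f := fun Q : {Q : Subgroup G //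
        Q ≤ (P : Subgroup G) ∧ ¬ Cfsg.PRankLE p (1 - 1) Q} => normalizer ((Q : Subgroup G) : Set G))
        ⟨A, hA, not_pRankLE_zero (P.2.to_le hA) hA1⟩ le_rfl) hP
    exact NormForm.of_sylow P (le_normalizer.trans (hN _ le_rfl (P.ne_bot_of_dvd_card hd))) hN
  · intro h
    obtain ⟨P, hP⟩ := h.exists_sylow_le hp
    refine ⟨hp.trans (card_subgroup_dvd_card M), hM, P, iSup_le fun ⟨A, hA, hAr⟩ => ?_⟩
    refine h A (hA.trans hP) (P.2.to_le hA) fun e => hAr ?_
    subst e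
    intro B _ _
    rw [Nat.sub_self, pow_zero]
    exact (Subgroup.card_le_card_group B).trans (by rw [Subgroup.card_bot])

end CfsgLib.PEmb
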