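import Cfsg.Agent.Lib.PGroup.MaxClassCubeLayer

/-!
# The action of an endomorphism on the lower central layers of a group of maximal class

If an endomorphism acts as the power `a` on a uniform element and as the power `c` on an element
completing it to a generating pair, it acts as the power `c * a ^ (m - 2)` on the last layer.
-/

set_option autoImplicit false
set_option linter.style.haveILetI false
set_option linter.unusedSectionVars false
set_option maxHeartbeats 1000000

open Subgroup
open scoped commutatorElement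

namespace CfsgLib.MaxClassWeight

open CfsgLib.MaxClassShift (gam gam_normal gam_anti gam_comm)
open CfsgLib.MaxClassUniform (Uniform)
open CfsgLib.MaxClassCube (commutator_zpow mul_card_le eq_sup_zpowers)

universe u

variable {Q : Type u} [Group Q]

theorem map_gam_le (φ : Q →* Q) {i : ℕ} {b : Q} (hb : b ∈ gam Q i) : φ b ∈ gam Q i := by
  have h1 : φ b ∈ (gam Q i).map φ := mem_map_of_mem φ hb
  rw [Subgroup.map_lowerCentralSeries] at h1
  exact Subgroup.lowerCentralSeries_mono _ le_top h1

/-- Bilinearity modulo central error terms. -/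
theorem comm_eq_zpow {R : Type*} [Group R] {A B C K : R} {k a : ℤ} (hc : ∀ r, Commute ⁅A, C⁆ r)
    (hB : Commute B C) (hK : ∀ r, Commute K r) :
    ⁅A ^ k * B, C ^ a * K⁆ = ⁅A, C⁆ ^ (k * a) := by
  rw [commutatorElement_mul_left_eq_conj_mul,
    commutatorElement_eq_one_iff_commute.2 ((hB.zpow_right a).mul_right (hK B).symm),
    mul_one, mul_inv_cancel, one_mul, commutatorElement_mul_right_eq_mul_conj,
    commutatorElement_eq_one_iff_commute.2 (hK _).symm, mul_one, mul_inv_cancel_right,
    commutator_zpow (hc A) (hc C)]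

variable [Finite Q] {p m : ℕ} [Fact p.Prime] {x : Q}

theorem mem_succ_of_comm (hu : Uniform x p m) {k : ℕ} (h2 : 2 ≤ k) (hk : k + 2 ≤ m) {b : Q}
    (hb : b ∈ gam Q k) (hc : ⁅b, x⁆ ∈ gam Q (k + 2)) : b ∈ gam Q (k + 1) :=
  inv_mem_iff.1 (hu.mem_of_comm h2 hk (inv_mem hb) (by rwa [inv_inv]))

/-- The transport of a weight to the next layer. -/
theorem layer_step (hu : Uniform x p m) (φ : Q →* Q) {a k : ℤ} {i : ℕ} (hi : 1 ≤ i)
    (him : i + 1 < m) (hxa : (x ^ a)⁻¹ * φ x ∈ gam Q 2) {A : Q} (hA : A ∈ gam Q i)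
    (hAx : ⁅A, x⁆ ∉ gam Q (i + 2)) (hl : ⁅(A ^ k)⁻¹ * φ A, x⁆ ∈ gam Q (i + 2)) :
    ∀ b ∈ gam Q (i + 1), (b ^ (k * a))⁻¹ * φ b ∈ gam Q (i + 2) := by
  set N := gam Q (i + 2)
  set q := QuotientGroup.mk' N with hqdef
  have hq1 : ∀ {y : Q}, q y = 1 ↔ y ∈ N := QuotientGroup.eq_one_iff _
  have hcent : ∀ {y : Q}, y ∈ gam Q (i + 1) → ∀ r, Commute (q y) r := by
    intro y hy r
    obtain ⟨r, rfl⟩ := QuotientGroup.mk'_surjective N r
    rw [← commutatorElement_eq_one_iff_commute, ← map_commutatorElement, hq1]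
    exact gam_comm (a := i + 1) (by omega) le_rfl hy (mem_top r)
  set w := ⁅A, x⁆ with hw
  have hwg : w ∈ gam Q (i + 1) := gam_comm hi le_rfl hA (mem_top x)
  set K := (x ^ a)⁻¹ * φ x
  set B := (A ^ k)⁻¹ * φ A
  have hK : ∀ r, ⁅K, r⁆ ∈ gam Q 3 := fun r => gam_comm (a := 2) (by omega) le_rfl hxa (mem_top r)
  have hphw : q (φ w) = q w ^ (k * a) := by
    have e1 : φ A = A ^ k * B := (mul_inv_cancel_left _ _).symm
    have e2 : φ x = x ^ a * K := (mul_inv_cancel_left _ _).symm
    have hB : Commute (q B) (q x) := by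
      rw [← commutatorElement_eq_one_iff_commute, ← map_commutatorElement, hq1]
      exact hl
    have hAB : ⁅φ A, K⁆ ∈ N := by
      have h1 := gam_comm hi (by omega : 1 ≤ 2) (map_gam_le φ hA) hxa
      exact h1
    rw [hw, map_commutatorElement φ, e2, map_commutatorElement q, map_mul,
      commutatorElement_mul_right_eq_mul_conj]
    have h3 : ⁅q (φ A), q K⁆ = 1 := by rw [← map_commutatorElement, hq1]; exact hAB
    rw [h3, mul_one, mul_inv_cancel_right, e1, map_mul, map_zpow, map_zpow, map_commutatorElement]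
    have hc : ∀ r, Commute ⁅q A, q x⁆ r := fun r => by
      rw [← map_commutatorElement]; exact hcent hwg r
    have h4 := comm_eq_zpow (k := k) (a := a) hc hB (fun r => Commute.one_left r)
    rwa [mul_one] at h4
  intro b hb
  obtain ⟨j, hj⟩ := CfsgLib.PGroup.MaxClassRank.layer_gen hu.isPGroup hu.card hu.three hu.class_eq
    (by omega) him hwg hAx hb
  have e : q b = q w ^ j := by
    have h1 : q ((w ^ j)⁻¹ * b) = 1 := hq1.2 hj
    rw [map_mul, map_inv, map_zpow, inv_mul_eq_one] at h1
    exact h1.symm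
  have e' : q (φ b) = q (φ w) ^ j := by
    have h1 : q (φ ((w ^ j)⁻¹ * b)) = 1 := hq1.2 (map_gam_le φ hj)
    rw [map_mul, map_inv, map_zpow, map_mul, map_inv, map_zpow, inv_mul_eq_one] at h1
    exact h1.symm
  refine hq1.1 ?_
  rw [map_mul, map_inv, map_zpow, inv_mul_eq_one, e, e', hphw, ← zpow_mul, ← zpow_mul, mul_comm]

/-- The weights along the series. -/
theorem wt_layer (hu : Uniform x p m) (φ : Q →* Q) {a c : ℤ} {v : Q}
    (hv : v ∉ zpowers x ⊔ gam Q 2) (hxa : (x ^ a)⁻¹ * φ x ∈ gam Q 2)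
    (hvc : (v ^ c)⁻¹ * φ v ∈ zpowers x ⊔ gam Q 2) :
    ∀ i, 2 ≤ i → i < m → ∀ b ∈ gam Q i, (b ^ (c * a ^ (i - 1)))⁻¹ * φ b ∈ gam Q (i + 1) := by
  have h3 := hu.three
  have hM : ∀ y ∈ zpowers x ⊔ gam Q 2, ⁅y, x⁆ ∈ gam Q 3 := by
    intro y hy
    set q := QuotientGroup.mk' (gam Q 3)
    have hle : zpowers x ⊔ gam Q 2 ≤ (centralizer ({q x} : Set (Q ⧸ gam Q 3))).comap q := by
      refine sup_le (zpowers_le.2 (mem_comap.2 (mem_centralizer_singleton_iff.2 rfl))) fun z hz => ?_
      rw [mem_comap, mem_centralizer_singleton_iff, ← commutatorElement_eq_one_iff_mul_comm,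
        ← map_commutatorElement]
      exact (QuotientGroup.eq_one_iff _).2 (gam_comm (a := 2) (by omega) le_rfl hz (mem_top x))
    have h1 := mem_centralizer_singleton_iff.1 (mem_comap.1 (hle hy))
    rw [← commutatorElement_eq_one_iff_mul_comm, ← map_commutatorElement] at h1
    exact (QuotientGroup.eq_one_iff _).1 h1
  have hvx : ⁅v, x⁆ ∉ gam Q 3 := by
    intro hc
    have hgen : zpowers x ⊔ gam Q 2 ⊔ zpowers v = ⊤ := by
      have hxlt : gam Q 2 < zpowers x ⊔ gam Q 2 :=
        lt_of_le_of_ne le_sup_right fun e => hu.notMem_gam (e.ge (mem_sup_left (mem_zpowers x)))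
      have hc1 := mul_card_le hu.isPGroup hxlt
      rw [hu.card_gam le_rfl (by omega), ← pow_succ'] at hc1
      refine (eq_sup_zpowers hu.isPGroup le_top ?_ (mem_top v) hv).symm
      rw [card_top, hu.card]
      refine le_trans (le_of_eq ?_) (Nat.mul_le_mul_left p hc1)
      rw [← pow_succ']
      congr 1
      omega
    set q := QuotientGroup.mk' (gam Q 3)
    have hle : zpowers x ⊔ gam Q 2 ⊔ zpowers v ≤ (centralizer ({q x} : Set (Q ⧸ gam Q 3))).comap q := by
      refine sup_le (fun y hy => ?_) (zpowers_le.2 ?_)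
      · rw [mem_comap, mem_centralizer_singleton_iff, ← commutatorElement_eq_one_iff_mul_comm,
          ← map_commutatorElement]
        exact (QuotientGroup.eq_one_iff _).2 (hM y hy)
      · rw [mem_comap, mem_centralizer_singleton_iff, ← commutatorElement_eq_one_iff_mul_comm,
          ← map_commutatorElement]
        exact (QuotientGroup.eq_one_iff _).2 hc
    refine CfsgLib.PGroup.MaxClassRank.gam_succ_lt hu.isPGroup hu.card h3 hu.class_eq (i := 2)
      (by omega) (by omega) (by omega) fun z hz => ?_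
    obtain ⟨g, hg⟩ := hu.exists_conj hz
    have h1 := mem_centralizer_singleton_iff.1 (mem_comap.1 (hle (hgen.ge (mem_top g))))
    rw [← commutatorElement_eq_one_iff_mul_comm, ← map_commutatorElement] at h1
    have h2 := (QuotientGroup.eq_one_iff _).1 h1
    rwa [commutatorElement_def, hg, mul_inv_cancel_right] at h2
  intro i hi
  induction i, hi using Nat.le_induction with
  | base =>
    intro him b hb
    have h := layer_step hu φ (k := c) (i := 1) le_rfl him hxa (mem_top v) hvx (hM _ hvc) b hb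
    simpa using h
  | succ i hi ih =>
    intro him b hb
    obtain ⟨A, hA, hA'⟩ := SetLike.not_le_iff_exists.1 (CfsgLib.PGroup.MaxClassRank.gam_succ_lt
      hu.isPGroup hu.card h3 hu.class_eq (i := i) (by omega) (by omega) (by omega))
    have h := layer_step hu φ (k := c * a ^ (i - 1)) (by omega) him hxa hA
      (fun h => hA' (mem_succ_of_comm hu hi (by omega) hA h))
      (gam_comm (by omega) le_rfl (ih (by omega) A hA) (mem_top x)) b hb
    rwa [mul_assoc, ← pow_succ, show i - 1 + 1 = i + 1 - 1 by omega] at h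

end CfsgLib.MaxClassWeight
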