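import Cfsg.Agent.Lib.PGroup.MaxClassCubeSys
import Cfsg.Agent.Lib.PGroup.MaxClassWeight

/-!
# The weights along the tower of normalizers above `N(E)`

A self-map of `N(E)` with weights `a` on the top section, `a⁻²` on the middle section and
`{1, a⁻¹}` on `cz E`, where `a` has order `p - 1`, cannot exist.
-/

set_option autoImplicit false
set_option linter.style.haveILetI false
set_option linter.unusedSectionVars false
set_option maxHeartbeats 1000000

open Subgroup
open scoped commutatorElement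

namespace CfsgLib.MaxClassCube

open CfsgLib.MaxClassShift (gam gam_normal gam_anti gam_comm)
open CfsgLib.MaxClassUniform (Uniform)

universe u

variable {G : Type u} [Group G] [Finite G] {p n : ℕ} [Fact p.Prime]

theorem img_eq_of_mem {L M : Subgroup G} {f : G → G} (hm : MulOn L f)
    (hi : ∀ x ∈ L, f x = 1 → x = 1) (h : ∀ x ∈ L, f x ∈ M) (hc : Nat.card M ≤ Nat.card L) :
    img L f = M :=
  eq_of_le_of_card_ge (fun y hy => by
    obtain ⟨x, hx, rfl⟩ := hm.mem_img.1 hy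
    exact h x hx) (hc.trans (hm.card_img hi).ge)

/-- A self-map of `L` with the weights of the tower. -/
structure St (σ : Sys G p) (L E : Subgroup G) (f : G → G) (a a' : ℤ) : Prop where
  cube : σ.cube E
  le : normalizer (E : Set G) ≤ L
  cent : L ≤ centralizer ((cz E : Subgroup G) : Set G)
  map : σ.Map L f
  self : ∀ x ∈ L, f x ∈ L
  wK : Wt L (Kd L) f a
  wF : Wt (Fd E) (cz E) f (a' * a')
  wD : ∃ r s : ℤ, Wt (line L E) ⊥ f r ∧ Wt (cz E) (line L E) f s ∧
    (((r : ZMod p) = 1 ∧ (s : ZMod p) = a') ∨ ((r : ZMod p) = a' ∧ (s : ZMod p) = 1))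

variable (hA : Amb G p n) {σ : Sys G p} {a a' : ℤ}
include hA

theorem St.transport {L E : Subgroup G} {f f₀ : G → G} (hst : St σ L E f a a') (h₀ : σ.Map L f₀) :
    ∃ α, St σ (img L f₀) (img E f₀) α a a' := by
  obtain ⟨hE, hNL, hLC, hf, hfL, wK, wF, r, s, wr, ws, hrs⟩ := hst
  obtain ⟨g₀, hg₀, hgi⟩ := σ.inv h₀
  obtain ⟨hE', hNL', hLC', hcz, hK, hF⟩ := CfsgLib.MaxClassCube.transport hA σ hE hNL hLC h₀
  have hD := line_transport hA σ hE hNL hLC h₀
  have hm₀ := σ.mulOn h₀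
  have hcL : Nat.card (img L f₀) = Nat.card L := hm₀.card_img (σ.inj h₀)
  have hgL : ∀ y ∈ img L f₀, g₀ y ∈ L := fun y hy => by
    obtain ⟨x, hx, rfl⟩ := hm₀.mem_img.1 hy
    rwa [hgi x hx]
  have hgimg : img (img L f₀) g₀ = L :=
    img_eq_of_mem (σ.mulOn hg₀) (σ.inj hg₀) hgL hcL.ge
  have h1 : σ.Map (img L f₀) (f ∘ g₀) := σ.comp hg₀ (hgimg.symm ▸ hf)
  have h1img : img (img L f₀) (f ∘ g₀) = L :=
    img_eq_of_mem (σ.mulOn h1) (σ.inj h1) (fun y hy => hfL _ (hgL y hy)) hcL.ge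
  have key : ∀ {A B A' B' : Subgroup G}, A ≤ L → B ≤ A → (∀ x ∈ A, f₀ x ∈ A') → (∀ x ∈ B, f₀ x ∈ B') →
      Nat.card A' ≤ Nat.card A → (∀ x ∈ A, f x ∈ L) → ∀ {r : ℤ}, Wt A B f r →
      Wt A' B' (f₀ ∘ (f ∘ g₀)) r := by
    intro A B A' B' hAL hBA hA1 hB1 hc hfA r hw y hy
    rw [← img_eq_of_mem (hm₀.mono hAL) (fun x hx => σ.inj h₀ x (hAL hx)) hA1 hc] at hy
    obtain ⟨x, hx, rfl⟩ := (hm₀.mono hAL).mem_img.1 hy
    show (f₀ x ^ r)⁻¹ * f₀ (f (g₀ (f₀ x))) ∈ B'
    rw [hgi x (hAL hx), ← hm₀.map_zpow (hAL hx) r, ← hm₀.map_inv (L.zpow_mem (hAL hx) r),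
      ← hm₀ _ (L.inv_mem (L.zpow_mem (hAL hx) r)) _ (hfA x hx)]
    exact hB1 _ (hw x hx)
  have hEc := σ.cubic hE
  have hEc' := σ.cubic hE'
  have hczL : cz E ≤ L := inf_le_left.trans (le_normalizer.trans hNL)
  have hKc : Nat.card (Kd (img L f₀)) ≤ Nat.card (Kd L) :=
    Nat.le_of_mul_le_mul_left (((step_Kd hA hEc' hNL' hLC').card.symm.trans
      (hcL.trans (step_Kd hA hEc hNL hLC).card)).le) (Fact.out : p.Prime).pos
  have hzc : Nat.card (cz (img E f₀)) ≤ Nat.card (cz E) := by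
    rw [(hEc'.card_cz hA).1, (hEc.card_cz hA).1]
  have hFc : Nat.card (Fd (img E f₀)) ≤ Nat.card (Fd E) := by
    rw [(step_Fd hA hEc' hNL' hLC').card, (step_Fd hA hEc hNL hLC).card]
    exact Nat.mul_le_mul_left _ hzc
  refine ⟨f₀ ∘ (f ∘ g₀), hE', hNL', hLC', σ.comp h1 (h1img.symm ▸ h₀),
    fun y hy => hm₀.mem_of_mem (hfL _ (hgL y hy)), 
    key le_rfl inf_le_left (fun x hx => hm₀.mem_of_mem hx) hK hcL.le hfL wK,
    key (inf_le_left.trans hNL) (step_Fd hA hEc hNL hLC).le hF hcz hFc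
      (fun x hx => hfL x (hNL (mem_inf.1 hx).1)) wF, r, s,
    key ((line_le hA σ hE hNL hLC).trans hczL) bot_le hD
      (fun x hx => by rw [mem_bot.1 hx, hm₀.map_one]; exact one_mem _)
      (by rw [card_line hA σ hE' hNL' hLC', card_line hA σ hE hNL hLC])
      (fun x hx => hfL x (hczL (line_le hA σ hE hNL hLC hx))) wr,
    key hczL (line_le hA σ hE hNL hLC) hcz hD hzc (fun x hx => hfL x (hczL hx)) ws, hrs⟩

section Final

variable (ha : (a : ZMod p) * a' = 1) (hord : ∀ j, 0 < j → j < p - 1 → (a : ZMod p) ^ j ≠ 1)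
include ha hord

omit hA in
theorem inv_ne_one (hp : 5 ≤ p) : (a' : ZMod p) ≠ 1 := fun e => by
  refine hord 1 one_pos (by omega) ?_
  rwa [e, mul_one, ← pow_one (a : ZMod p)] at ha

variable {L E : Subgroup G} {ν : G → G} (hp : 5 ≤ p) (hst : St σ L E ν a a')
  (hνm : σ.Map (normalizer ((L : Subgroup G) : Set G)) ν)
  (hνU : ∀ x ∈ normalizer ((L : Subgroup G) : Set G), ν x ∈ normalizer ((L : Subgroup G) : Set G))
include hp hst hνm hνU

/-- If the normalizer centralizes `cz E`, the state passes to it. -/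
theorem St.up (hUC : normalizer ((L : Subgroup G) : Set G) ≤ centralizer ((cz E : Subgroup G) : Set G)) :
    St σ (normalizer ((L : Subgroup G) : Set G)) E ν a a' := by
  obtain ⟨hE, hNL, hLC, hf, hfL, wK, wF, r, s, wr, ws, hrs⟩ := hst
  set U := normalizer ((L : Subgroup G) : Set G)
  have hNU : normalizer (E : Set G) ≤ U := hNL.trans le_normalizer
  have hEc := σ.cubic hE
  obtain ⟨e, he, heg, hez⟩ := exists_notMem hA hEc hNL hLC
  have hse := self_invariant hA σ hE hNU hUC hνm hνU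
  have hstep := step_Kd hA hEc hNU hUC
  refine ⟨hE, hNU, hUC, hνm, hνU, ?_, wF, ?_⟩
  · refine hstep.wt_of_gen (σ.mulOn hνm) hse.2.1 (hNU (le_normalizer he))
      (fun h => heg (mem_inf.1 h).2) ?_ hνU
    have h1 := wK e (hNL (le_normalizer he))
    exact mem_inf.2 ⟨le_normalizer (mem_inf.1 h1).1, (mem_inf.1 h1).2⟩
  · obtain ⟨h1, h2⟩ := step_line hA σ hE hNL hLC
    obtain ⟨h1', h2'⟩ := step_line hA σ hE hNU hUC
    have hzU : cz E ≤ U := inf_le_left.trans (le_normalizer.trans hNU)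
    have hmz := (σ.mulOn hνm).mono hzU
    have hD' := line_self hA σ hE hNU hUC hνm hνU
    have hD := line_self hA σ hE hNL hLC hf hfL
    obtain ⟨r', hr'⟩ := h2'.exists_wt (hmz.mono h1'.le)
      (fun x hx => by rw [mem_bot.1 hx, hmz.map_one]; exact one_mem _) hD'
    obtain ⟨s', hs'⟩ := h1'.exists_wt hmz hD' hse.1
    refine ⟨r', s', hr', hs', ?_⟩
    rcases pair_weights h1 h2 h1' h2' hmz hD hD' hse.1 wr ws hr' hs' with ⟨e1, e2⟩ | ⟨e1, e2⟩
    · rw [← e1, ← e2]; exact hrs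
    · rw [← e1, ← e2]
      rcases hrs with ⟨h3, h4⟩ | ⟨h3, h4⟩
      · exact Or.inr ⟨h4, h3⟩
      · exact Or.inl ⟨h4, h3⟩

omit hA ha hord hp hst hνm hνU in
theorem commute_centralizer_gam (hA : Amb G p n) {y : G} (hy : y ∈ gam G (n - 2)) {l : G}
    (hl : l ∈ gam G 2) : y * l = l * y :=
  hA.commute_of_gam (i := n - 2) (j := 2) (by have := hA.five; omega) (by omega)
    (by have := hA.five; omega) hy hl

/-- The exceptional configuration yields an element of `Fd E` commuting with `Kd L` whose commutator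
with `E` is central. -/
theorem St.exists_special {e : G} (he : e ∈ E) (heg : e ∉ gam G 2)
    (hUC : ¬ normalizer ((L : Subgroup G) : Set G) ≤ centralizer ((cz E : Subgroup G) : Set G))
    (hodd : normalizer ((L : Subgroup G) : Set G) = ⊤ → Odd n) :
    ∃ y ∈ Fd E, y ∉ cz E ∧ (∀ k ∈ Kd L, y * k = k * y) ∧ ⁅y, e⁆ ∈ center G := by
  obtain ⟨hE, hNL, hLC, -⟩ := hst
  have hEc := σ.cubic hE
  have h5 := hA.five
  have hp' := (Fact.out : p.Prime)
  have hez : e ∉ cz E := fun h => heg (hEc.cz_le_gam hA h)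
  set U := normalizer ((L : Subgroup G) : Set G) with hU
  by_cases hg : gam G (n - 2) = cz E
  swap
  · obtain ⟨y, hy, hyz⟩ := SetLike.not_le_iff_exists.1 (fun h : gam G (n - 2) ≤ cz E =>
      hg (eq_of_le_of_card_ge h (by
        rw [(hEc.card_cz hA).1, hA.card_gam (by omega) (by omega), show n - (n - 2) = 2 by omega])))
    have hy2 : y ∈ gam G 2 := gam_anti (by omega) hy
    refine ⟨y, mem_inf.2 ⟨hEc.gam_pred_le_normalizer hA hy, hy2⟩, hyz,
      fun k hk => commute_centralizer_gam hA hy (mem_inf.1 hk).2, ?_⟩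
    rw [hA.center_eq]
    have h1 := gam_comm (b := 1) (by omega) le_rfl hy (mem_top e)
    rwa [show n - 2 + 1 = n - 1 by omega] at h1
  -- `cz E` is normal
  haveI hzn : (cz E).Normal := hg ▸ gam_normal (n - 2)
  set C := centralizer ((cz E : Subgroup G) : Set G) with hC
  have hCL : C = L := by
    by_contra hne
    have hlt : L < C := lt_of_le_of_ne hLC (Ne.symm hne)
    have h1 := CfsgLib.Subnormalizer.lt_inf_normalizer (hA.isP.to_subgroup C) hlt
    have hsU := step_normalizer hA hEc hNL hLC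
    have h2 := mul_card_le hA.isP h1
    have h3 : C ⊓ U = U := eq_of_le_of_card_ge inf_le_right (hsU.card.le.trans h2)
    exact hUC (h3.ge.trans inf_le_left)
  haveI hLn : L.Normal := hCL ▸ (inferInstance : C.Normal)
  have hUtop : U = ⊤ := normalizer_eq_top _
  have hg2L : gam G 2 ≤ L := hCL ▸ fun l hl => mem_centralizer_iff.2 fun z hz =>
    commute_centralizer_gam hA (hg.ge hz) hl
  obtain ⟨y, hy, hyn⟩ := SetLike.not_le_iff_exists.1 (CfsgLib.PGroup.MaxClassRank.gam_succ_lt hA.isP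
    hA.card (by omega) hA.cls (i := n - 3) (by omega) (by omega) (by omega))
  rw [show n - 3 + 1 = n - 2 by omega, hg] at hyn
  have hy2 : y ∈ gam G 2 := gam_anti (by omega) hy
  have hye : ⁅y, e⁆ ∈ cz E := by
    have h1 := gam_comm (b := 1) (by omega) le_rfl hy (mem_top e)
    rw [show n - 3 + 1 = n - 2 by omega] at h1
    exact hg ▸ h1
  have hyN : y ∈ normalizer (E : Set G) := hEc.mem_normalizer hA he hez
    (by rw [normalizer_eq_top]; exact mem_top y) hye
  -- `gam G 2` commutes with `y`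
  have hlay : ∀ i, 2 ≤ i → i + 4 ≤ n → ∀ w ∈ gam G i, w ∉ gam G (i + 1) → ⁅e, w⁆ ∉ gam G (i + 2) := by
    intro i hi hi4 w hw hw' hc
    haveI : ((cz E).subgroupOf U).Normal := inferInstance
    obtain ⟨m, hm, hUc, -⟩ := card_normalizer hA hEc hNL hLC
    have hmn : m + 2 = n := by
      rw [← hU, hUtop, card_top, hA.card] at hUc
      exact (Nat.pow_right_injective hp'.two_le hUc).symm
    obtain ⟨hq, -⟩ := quot_data hA hEc hNL hLC he hez hm hUc
    let r : G →* ↥U ⧸ (cz E).subgroupOf U :=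
      (QuotientGroup.mk' _).comp (MonoidHom.mk' (fun g => (⟨g, hUtop ▸ mem_top g⟩ : U)) fun _ _ => rfl)
    have hr : Function.Surjective r := fun x => by
      obtain ⟨x, rfl⟩ := QuotientGroup.mk_surjective x
      exact ⟨x, rfl⟩
    have hrk : r.ker = cz E := by
      ext g
      rw [MonoidHom.mem_ker, MonoidHom.comp_apply, QuotientGroup.mk'_apply, QuotientGroup.eq_one_iff,
        mem_subgroupOf]
      rfl
    have hrg : ∀ j, (gam G j).map r = gam (↥U ⧸ (cz E).subgroupOf U) j := fun j => by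
      rw [Subgroup.map_lowerCentralSeries, map_top_of_surjective _ hr]
    have h1 : ⁅r w, r e⁆ ∈ gam (↥U ⧸ (cz E).subgroupOf U) (i + 2) := by
      rw [← map_commutatorElement, ← commutatorElement_inv e w, ← hrg]
      exact mem_map_of_mem r (inv_mem hc)
    have hre : r e = QuotientGroup.mk (⟨e, le_normalizer (hNL (le_normalizer he))⟩ : U) := rfl
    rw [hre] at h1
    have h2 := CfsgLib.MaxClassWeight.mem_succ_of_comm hq hi (by omega)
      ((hrg i).le (mem_map_of_mem r hw)) h1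
    rw [← hrg, ← mem_comap, comap_map_eq, hrk, ← hg,
      sup_eq_left.2 (gam_anti (show i + 1 ≤ n - 2 by omega))] at h2
    exact hw' h2
  have hcom : ∀ k ∈ gam G 2, y * k = k * y := fun k hk =>
    (hA.commute_two_of_odd (hodd hUtop) (fun z hz => (mem_centralizer_iff.1
      (hLC (hNL (le_normalizer he))) z (hg ▸ hz)).symm) hlay hk hy).symm
  refine ⟨y, mem_inf.2 ⟨hyN, hy2⟩, hyn, fun k hk => hcom k (mem_inf.1 hk).2, mem_center_iff.2 ?_⟩
  -- the commutator commutes with every element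
  obtain ⟨hzL, hzc⟩ := (mem_cz_iff hA hEc hNL hLC).1 hye
  intro v
  set c := ⁅v, y⁆ with hc
  have hcz : c ∈ cz E := by
    have h1 := gam_comm (a := 1) le_rfl (by omega : 1 ≤ n - 3) (mem_top v) hy
    rw [show 1 + (n - 3) = n - 2 by omega, hg] at h1
    exact h1
  set k := ⁅v, e⁆ with hk
  have hk2 : k ∈ gam G 2 := gam_comm (a := 1) (b := 1) le_rfl le_rfl (mem_top v) (mem_top e)
  have hcc := (mem_cz_iff hA hEc hNL hLC).1 hcz
  have hkL : k ∈ L := hg2L hk2
  have hconj : v * ⁅y, e⁆ * v⁻¹ = ⁅y, e⁆ := by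
    rw [conjugate_commutatorElement, show v * y * v⁻¹ = c * y by rw [hc, commutatorElement_def]; group,
      show v * e * v⁻¹ = k * e by rw [hk, commutatorElement_def]; group,
      commutatorElement_mul_left_eq_conj_mul,
      commutatorElement_eq_one_iff_commute.2 (hcc.2 (k * e) (L.mul_mem hkL (hNL (le_normalizer he)))).symm,
      mul_one, commutatorElement_mul_right_eq_mul_conj,
      commutatorElement_eq_one_iff_mul_comm.2 (hcom k hk2), one_mul, hzc k hkL, mul_inv_cancel_right,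
      (hcc.2 _ hzL).symm, mul_inv_cancel_right]
  exact mul_inv_eq_iff_eq_mul.1 hconj

/-- If the normalizer moves `cz E`, the weights are contradictory. -/
theorem St.final
    (hUC : ¬ normalizer ((L : Subgroup G) : Set G) ≤ centralizer ((cz E : Subgroup G) : Set G)) :
    False := by
  classical
  have hst' := hst
  obtain ⟨hE, hNL, hLC, hf, hfL, wK, wF, r₀, s₀, wr, ws, hrs⟩ := hst
  have hEc := σ.cubic hE
  have h5 := hA.five
  have hp' := (Fact.out : p.Prime)
  set U := normalizer ((L : Subgroup G) : Set G) with hU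
  have hνm' := σ.mulOn hνm
  have hsU := step_normalizer hA hEc hNL hLC
  have hsi := self_invariant hA σ hE hNL hLC hf hfL
  have hzL : cz E ≤ L := inf_le_left.trans (le_normalizer.trans hNL)
  obtain ⟨e, he, heg, hez⟩ := exists_notMem hA hEc hNL hLC
  have heL : e ∈ L := hNL (le_normalizer he)
  -- the fixed line of `U` on `cz E`
  set W := cz E ⊓ centralizer ((U : Subgroup G) : Set G) with hW
  have hZW : center G ≤ W := le_inf (hEc.center_le hA) fun z hz =>
    mem_centralizer_iff.2 fun g _ => mem_center_iff.1 hz g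
  have hcc : Nat.card (center G) = p := by
    rw [hA.center_eq, hA.card_gam (by omega) (by omega), show n - (n - 1) = 1 by omega, pow_one]
  have hWlt : W < cz E := lt_of_le_of_ne inf_le_left fun e1 => hUC fun u hu =>
    mem_centralizer_iff.2 fun z hz => ((mem_centralizer_iff.1 (mem_inf.1 (e1.ge hz)).2) u hu).symm
  have hWc : Nat.card W = p := by
    refine le_antisymm ?_ (hcc ▸ card_le_of_le hZW)
    have h1 := mul_card_le hA.isP hWlt
    rw [(hEc.card_cz hA).1, pow_two] at h1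
    exact Nat.le_of_mul_le_mul_left h1 hp'.pos
  have hWeq : center G = W := eq_of_le_of_card_ge hZW (by rw [hWc, hcc])
  have hsW : Step p (cz E) W := ⟨inf_le_left, by rw [← hWeq, normalizer_eq_top]; exact le_top,
    by rw [hWc, (hEc.card_cz hA).1, pow_two]⟩
  have hsW0 : Step p W ⊥ := ⟨bot_le, by rw [normalizer_eq_top]; exact le_top, by rw [hWc, card_bot, mul_one]⟩
  have hνW : ∀ x ∈ W, ν x ∈ W := fun x hx => by
    have hximg : img U ν = U := img_eq_of_mem hνm' (σ.inj hνm) hνU le_rfl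
    refine mem_inf.2 ⟨hsi.1 x (mem_inf.1 hx).1, mem_centralizer_iff.2 fun u hu => ?_⟩
    rw [← hximg] at hu
    obtain ⟨w, hw, rfl⟩ := hνm'.mem_img.1 hu
    have hxU : x ∈ U := le_normalizer (hzL (mem_inf.1 hx).1)
    rw [← hνm' _ hw _ hxU, ← hνm' _ hxU _ hw, mem_centralizer_iff.1 (mem_inf.1 hx).2 w hw]
  have hνz := hνm'.mono (hzL.trans le_normalizer)
  obtain ⟨r, hr⟩ := hsW0.exists_wt (hνz.mono inf_le_left)
    (fun x hx => by rw [mem_bot.1 hx, hνm'.map_one]; exact one_mem _) hνW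
  obtain ⟨s, hs⟩ := hsW.exists_wt hνz hνW hsi.1
  obtain ⟨c, hc⟩ := hsU.exists_wt hνm' hfL hνU
  -- `r = c * s`
  obtain ⟨v, hv, hvL⟩ := SetLike.not_le_iff_exists.1 hsU.not_le
  obtain ⟨z, hz, hzW⟩ := SetLike.not_le_iff_exists.1 hsW.not_le
  set w := ⁅v, z⁆ with hw
  have hvN : v ∈ normalizer ((cz E : Subgroup G) : Set G) := normalizer_le hA hEc hNL hLC hv
  have hwW : w ∈ W := by
    obtain ⟨k, hk⟩ := hA.isP v
    have hcv : Wt (cz E) W (fun x => v * x * v⁻¹) 1 := by
      refine hsW.wt_one_of_pow (fun x _ y _ => by group) (fun b hb => ?_)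
        (fun y hy => (mem_normalizer_iff.1 hvN y).1 hy) (k := k) fun x _ => ?_
      · rw [mem_centralizer_iff.1 (mem_inf.1 hb).2 v hv, mul_inv_cancel_right]
        exact hb
      · have hit : ∀ j : ℕ, (fun x => v * x * v⁻¹)^[j] x = v ^ j * x * (v ^ j)⁻¹ := fun j => by
          induction j with
          | zero => simp
          | succ j ih => rw [Function.iterate_succ_apply', ih, pow_succ']; group
        rw [hit, hk, one_mul, inv_one, mul_one]
    have h1 : z⁻¹ * (v * z * v⁻¹) ∈ W := by simpa using hcv z hz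
    have h2 : z * (z⁻¹ * (v * z * v⁻¹)) * z⁻¹ ∈ W := by
      rw [← hWeq] at h1 ⊢
      exact (inferInstance : (center G).Normal).conj_mem _ h1 z
    rwa [mul_inv_cancel_left, ← commutatorElement_def] at h2
  have hw1 : w ≠ 1 := fun h => hzW (mem_inf.2 ⟨hz, mem_centralizer_iff.2 fun u hu => by
    obtain ⟨i, hi⟩ := hsU.zpow_eq hv hvL hu
    have hc1 : Commute v z := commutatorElement_eq_one_iff_commute.1 h
    have hc2 : Commute ((v ^ i)⁻¹ * u) z := ((mem_cz_iff hA hEc hNL hLC).1 hz).2 _ hi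
    have h3 := (hc1.zpow_left i).mul_left hc2
    rwa [mul_inv_cancel_left] at h3⟩)
  have hwc : ∀ g, Commute w g := fun g => (mem_center_iff.1 (hWeq.ge hwW) g).symm
  have hzU : z ∈ U := le_normalizer (hzL hz)
  have hrcs : (r : ZMod p) = (c * s : ℤ) := by
    refine hsW0.cast_eq hwW (fun h => hw1 (mem_bot.1 h)) ?_
    have h1 := hr w hwW
    have hνw : ν w = w ^ (c * s) := by
      rw [hw, hνm'.map_comm hv hzU, show ν v = v ^ c * ((v ^ c)⁻¹ * ν v) from (mul_inv_cancel_left _ _).symm,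
        show ν z = z ^ s * ((z ^ s)⁻¹ * ν z) from (mul_inv_cancel_left _ _).symm,
        commutatorElement_mul_left_eq_conj_mul,
        commutatorElement_eq_one_iff_commute.2 (show Commute ((v ^ c)⁻¹ * ν v) (z ^ s * ((z ^ s)⁻¹ * ν z)) by
          rw [mul_inv_cancel_left]
          exact ((mem_cz_iff hA hEc hNL hLC).1 (hsi.1 z hz)).2 _ (hc v hv)),
        mul_one, mul_inv_cancel, one_mul, commutatorElement_mul_right_eq_mul_conj,
        commutatorElement_eq_one_iff_commute.2 (show Commute (v ^ c) ((z ^ s)⁻¹ * ν z) from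
          mem_center_iff.1 (hWeq.ge (hs z hz)) (v ^ c)),
        mul_one, mul_inv_cancel_right, commutator_zpow (hwc v) (hwc z)]
    rwa [hνw] at h1
  -- the pair of weights on `cz E`
  have hrs' : ((r : ZMod p) = 1 ∧ (s : ZMod p) = a') ∨ ((r : ZMod p) = a' ∧ (s : ZMod p) = 1) := by
    obtain ⟨h1, h2⟩ := step_line hA σ hE hNL hLC
    rcases pair_weights h1 h2 hsW hsW0 hνz (line_self hA σ hE hNL hLC hf hfL) hνW hsi.1 wr ws hr hs with
      ⟨e1, e2⟩ | ⟨e1, e2⟩
    · rw [← e1, ← e2]; exact hrs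
    · rw [← e1, ← e2]
      rcases hrs with ⟨h3, h4⟩ | ⟨h3, h4⟩
      · exact Or.inr ⟨h4, h3⟩
      · exact Or.inl ⟨h4, h3⟩
  push_cast at hrcs
  -- the layers of `U / cz E`
  obtain ⟨m, hm, hUc, -⟩ := card_normalizer hA hEc hNL hLC
  have hzU' : cz E ≤ U := hzL.trans le_normalizer
  haveI : ((cz E).subgroupOf U).Normal := (normal_subgroupOf_iff_le_normalizer hzU').2
    (normalizer_le hA hEc hNL hLC)
  obtain ⟨hq, hiff⟩ := quot_data hA hEc hNL hLC he hez hm hUc
  set Z := (cz E).subgroupOf U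
  let νU : U →* U := MonoidHom.mk' (fun x => ⟨ν x, hνU x x.2⟩) fun x y => Subtype.ext (hνm' _ x.2 _ y.2)
  let φ : ↥U ⧸ Z →* ↥U ⧸ Z := QuotientGroup.map Z Z νU fun x hx =>
    mem_comap.2 (mem_subgroupOf.2 (hsi.1 x (mem_subgroupOf.1 hx)))
  set eb : ↥U ⧸ Z := QuotientGroup.mk (⟨e, le_normalizer heL⟩ : U)
  have hxa : (eb ^ a)⁻¹ * φ eb ∈ gam (↥U ⧸ Z) 2 :=
    (hiff (((⟨e, le_normalizer heL⟩ : U) ^ a)⁻¹ * νU ⟨e, le_normalizer heL⟩)).1 (wK e heL)
  have hLb : zpowers eb ⊔ gam (↥U ⧸ Z) 2 ≤ (L.subgroupOf U).map (QuotientGroup.mk' Z) := by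
    refine sup_le (zpowers_le.2 (mem_map_of_mem _ (mem_subgroupOf.2 heL : (⟨e, le_normalizer heL⟩ : U) ∈ _))) fun y hy => ?_
    obtain ⟨y, rfl⟩ := QuotientGroup.mk_surjective y
    exact mem_map_of_mem _ (mem_subgroupOf.2 (mem_inf.1 ((hiff y).2 hy)).1)
  have hvb : (QuotientGroup.mk (⟨v, hv⟩ : U) : ↥U ⧸ Z) ∉ zpowers eb ⊔ gam (↥U ⧸ Z) 2 := fun h => by
    obtain ⟨l, hl, hle⟩ := hLb h
    have h1 := mem_subgroupOf.1 ((QuotientGroup.eq).1 hle)
    have h2 := L.mul_mem (mem_subgroupOf.1 hl) (hzL h1)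
    simp only [Subgroup.coe_mul, Subgroup.coe_inv, mul_inv_cancel_left] at h2
    exact hvL h2
  have hvc : ((QuotientGroup.mk (⟨v, hv⟩ : U) : ↥U ⧸ Z) ^ c)⁻¹ * φ (QuotientGroup.mk (⟨v, hv⟩ : U)) ∈
      zpowers eb ⊔ gam (↥U ⧸ Z) 2 := by
    have hl := hc v hv
    obtain ⟨i, hi⟩ := (step_Kd hA hEc hNL hLC).zpow_eq heL (fun h => heg (mem_inf.1 h).2) hl
    have h1 := (hiff (((⟨e, le_normalizer heL⟩ : U) ^ i)⁻¹ * (((⟨v, hv⟩ : U) ^ c)⁻¹ * νU ⟨v, hv⟩))).1 hi
    have h2 := mul_mem (mem_sup_left (zpow_mem (mem_zpowers eb) i)) (mem_sup_right h1)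
    rwa [QuotientGroup.mk_mul, QuotientGroup.mk_inv, QuotientGroup.mk_zpow, mul_inv_cancel_left,
      QuotientGroup.mk_mul, QuotientGroup.mk_inv, QuotientGroup.mk_zpow] at h2
  have hlast := CfsgLib.MaxClassWeight.wt_layer hq φ hvb hxa hvc (m - 1) (by omega) (by omega)
  obtain ⟨y, hy, hyz⟩ := SetLike.not_le_iff_exists.1 (step_Fd hA hEc hNL hLC).not_le
  have hyU : y ∈ U := le_normalizer (hNL (mem_inf.1 hy).1)
  have hyg : (QuotientGroup.mk (⟨y, hyU⟩ : U) : ↥U ⧸ Z) ∈ gam (↥U ⧸ Z) (m - 1) := by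
    rw [← hq.inf_centralizer]
    refine mem_inf.2 ⟨mem_centralizer_singleton_iff.2 ?_, (hiff _).1 (mem_inf.2 ⟨hNL (mem_inf.1 hy).1, (mem_inf.1 hy).2⟩)⟩
    rw [← commutatorElement_eq_one_iff_mul_comm]
    show ⁅QuotientGroup.mk' Z ⟨y, hyU⟩, QuotientGroup.mk' Z ⟨e, le_normalizer heL⟩⁆ = 1
    rw [← map_commutatorElement]
    refine (QuotientGroup.eq_one_iff _).2 (mem_subgroupOf.2 ?_)
    rw [show ((⁅(⟨y, hyU⟩ : U), ⟨e, le_normalizer heL⟩⁆ : U) : G) = ⁅y, e⁆ from
      map_commutatorElement U.subtype _ _]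
    exact comm_cz hA σ hE hNL hLC hy heL
  have hγ : ((a' * a' : ℤ) : ZMod p) = ((c * a ^ (m - 1 - 1) : ℤ) : ZMod p) := by
    have h1 := hlast _ hyg
    rw [hq.gam_eq_bot (show m ≤ m - 1 + 1 by omega), mem_bot] at h1
    have h2 : (((⟨y, hyU⟩ : U) ^ (c * a ^ (m - 1 - 1)))⁻¹ * νU ⟨y, hyU⟩ : U) ∈ Z :=
      (QuotientGroup.eq_one_iff _).1 h1
    refine (step_Fd hA hEc hNL hLC).cast_eq hy hyz ?_
    have h3 := mul_mem (wF y hy) (inv_mem (mem_subgroupOf.1 h2))
    simp only [Subgroup.coe_mul, Subgroup.coe_inv, Subgroup.coe_zpow, mul_inv_rev, inv_inv] at h3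
    have h4 : ((νU ⟨y, hyU⟩ : U) : G) = ν y := rfl
    rwa [h4, mul_assoc, mul_inv_cancel_left] at h3
  push_cast at hγ
  -- bound on `m`
  have hmp : m + 1 ≤ p := by
    have h1 := card_le_card_group U
    rw [hUc, hA.card] at h1
    have := (Nat.pow_le_pow_iff_right hp'.one_lt).1 h1
    have := hEc.le_succ hA
    omega
  have ha1 : (a' : ZMod p) ≠ 1 := inv_ne_one ha hord hp
  have hpow : ∀ j : ℕ, (a' : ZMod p) ^ j * (a : ZMod p) ^ j = 1 := fun j => by
    rw [← mul_pow, mul_comm (a' : ZMod p), ha, one_pow]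
  rcases hrs' with ⟨hr1, hs1⟩ | ⟨hr1, hs1⟩
  swap
  · -- the weight `a'` on the line
    have hca : (c : ZMod p) = a' := by rw [← hr1, hrcs, hs1, mul_one]
    refine hord (m - 1) (by omega) (by omega) ?_
    rw [hca] at hγ
    have h1 := congrArg (fun t => (a : ZMod p) * t) hγ
    rw [← mul_assoc, ← mul_assoc, ha, one_mul, one_mul] at h1
    rw [show m - 1 = m - 1 - 1 + 1 by omega, pow_succ, ← h1, mul_comm, ha]
  -- the weight `1` on the line
  have hca : (c : ZMod p) = a := by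
    rw [hr1, hs1] at hrcs
    calc (c : ZMod p) = c * (a' * a) := by rw [mul_comm (a' : ZMod p), ha, mul_one]
      _ = a := by rw [← mul_assoc, ← hrcs, one_mul]
  have hm2 : (a : ZMod p) ^ (m + 1) = 1 := by
    rw [hca] at hγ
    calc (a : ZMod p) ^ (m + 1) = (a * a) * ((a : ZMod p) * a ^ (m - 1 - 1)) := by
          rw [show m + 1 = 2 + (m - 1 - 1 + 1) by omega, pow_add, pow_succ _ (m - 1 - 1), pow_two]; ring
      _ = (a * a') * (a * a') := by rw [← hγ]; ring
      _ = 1 := by rw [ha, mul_one]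
  have hmeq : m + 2 = p := by
    by_contra hne
    rcases Nat.lt_or_ge (m + 1) (p - 1) with hlt | hge
    · exact hord (m + 1) (by omega) hlt hm2
    · have hm1 : m + 1 = p := by omega
      rw [hm1, ZMod.pow_card] at hm2
      exact hord 1 one_pos (by omega) (by rwa [pow_one])
  -- the exceptional configuration
  obtain ⟨y', hy', hyz', hyK, hyc⟩ := hst'.exists_special hA ha hord hp hνm hνU he heg hUC (by
    intro htop
    rw [htop, card_top, hA.card] at hUc
    rw [Nat.pow_right_injective hp'.two_le hUc, hmeq]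
    exact hp'.odd_of_ne_two (by omega))
  have hyL : y' ∈ L := hNL (mem_inf.1 hy').1
  set t := ⁅y', e⁆ with ht
  have htc : ∀ g, Commute t g := fun g => (mem_center_iff.1 hyc g).symm
  have hte : t ∈ W := hWeq ▸ hyc
  have ht1 : t ≠ 1 := fun h => Fd_not_commute hA hEc hNL hLC hy' hyz' heL heg
    (commutatorElement_eq_one_iff_mul_comm.1 h)
  have hνt : ν t = t ^ (a' * a' * a) := by
    rw [ht, hνm'.map_comm (le_normalizer hyL) (le_normalizer heL),
      show ν y' = y' ^ (a' * a') * ((y' ^ (a' * a'))⁻¹ * ν y') from (mul_inv_cancel_left _ _).symm,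
      show ν e = e ^ a * ((e ^ a)⁻¹ * ν e) from (mul_inv_cancel_left _ _).symm,
      commutatorElement_mul_left_eq_conj_mul,
      commutatorElement_eq_one_iff_commute.2 (show Commute ((y' ^ (a' * a'))⁻¹ * ν y') (e ^ a * ((e ^ a)⁻¹ * ν e)) by
        rw [mul_inv_cancel_left]
        exact (((mem_cz_iff hA hEc hNL hLC).1 (wF y' hy')).2 _ (hfL e heL)).symm),
      mul_one, mul_inv_cancel, one_mul, commutatorElement_mul_right_eq_mul_conj,
      commutatorElement_eq_one_iff_commute.2 ((show Commute y' ((e ^ a)⁻¹ * ν e) from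
        hyK _ (wK e heL)).zpow_left (a' * a')),
      mul_one, mul_inv_cancel_right, commutator_zpow (htc y') (htc e)]
  have h1 := hr t hte
  rw [hνt] at h1
  have h2 := hsW0.cast_eq hte (fun h => ht1 (mem_bot.1 h)) h1
  push_cast at h2
  rw [hr1, mul_assoc, mul_comm (a' : ZMod p) (a : ZMod p), ha, mul_one] at h2
  exact ha1 h2.symm

end Final

/-- No state exists. -/
theorem no_state (hp : 5 ≤ p) (ha : (a : ZMod p) * a' = 1)
    (hord : ∀ j, 0 < j → j < p - 1 → (a : ZMod p) ^ j ≠ 1) :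
    ∀ (L E : Subgroup G) (f : G → G), ¬ St σ L E f a a' := by
  suffices H : ∀ d, ∀ (L E : Subgroup G) (f : G → G), Nat.card G - Nat.card L = d → ¬ St σ L E f a a' from
    fun L E f => H _ L E f rfl
  intro d
  induction d using Nat.strong_induction_on with
  | _ d ih =>
    intro L E f hd hst
    obtain ⟨f₀, h₀, hext⟩ := σ.ext L
    obtain ⟨α, hst'⟩ := hst.transport hA h₀
    obtain ⟨hE, hNL, hLC, hα, hαL, wK, wF, r, s, wr, ws, hrs⟩ := hst'
    obtain ⟨ν, hν, hνU, hνL, hwt⟩ := hext α hα hαL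
    have hEc := σ.cubic hE
    have hinv := fun β hβ hβL => self_invariant hA σ hE hNL hLC (f := β) hβ hβL
    obtain ⟨hl1, hl2⟩ := step_line hA σ hE hNL hLC
    have hzL : cz (img E f₀) ≤ img L f₀ := inf_le_left.trans (le_normalizer.trans hNL)
    have hnew : St σ (img L f₀) (img E f₀) ν a a' :=
      ⟨hE, hNL, hLC, σ.mono hν le_normalizer, hνL,
        hwt _ _ (step_Kd hA hEc hNL hLC) le_rfl (fun β hβ hβL => ⟨hβL, (hinv β hβ hβL).2.1⟩) a wK,
        hwt _ _ (step_Fd hA hEc hNL hLC) (inf_le_left.trans hNL)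
          (fun β hβ hβL => ⟨(hinv β hβ hβL).2.2, (hinv β hβ hβL).1⟩) _ wF,
        r, s,
        hwt _ _ hl2 (hl2.le.trans (hl1.le.trans hzL) |> fun _ => hl1.le.trans hzL)
          (fun β hβ hβL => ⟨line_self hA σ hE hNL hLC hβ hβL,
            fun x hx => by rw [mem_bot.1 hx, (σ.mulOn hβ).map_one]; exact one_mem _⟩) r wr,
        hwt _ _ hl1 hzL (fun β hβ hβL => ⟨(hinv β hβ hβL).1, line_self hA σ hE hNL hLC hβ hβL⟩) s ws,
        hrs⟩
    by_cases hUC : normalizer ((img L f₀ : Subgroup G) : Set G) ≤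
        centralizer ((cz (img E f₀) : Subgroup G) : Set G)
    · refine ih _ ?_ _ _ ν rfl (hnew.up hA ha hord hp hν hνU hUC)
      have h1 := (step_normalizer hA hEc hNL hLC).card
      have h2 := (σ.mulOn h₀).card_img (σ.inj h₀)
      have h3 := card_le_card_group (normalizer ((img L f₀ : Subgroup G) : Set G))
      have h4 : 0 < Nat.card L := Nat.card_pos
      have h5 : 2 * Nat.card L ≤ Nat.card (normalizer ((img L f₀ : Subgroup G) : Set G)) := by
        rw [h1, h2]; exact Nat.mul_le_mul_right _ (Fact.out : p.Prime).two_le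
      omega
    · exact hnew.final hA ha hord hp hν hνU hUC

/-- No self-map of `N(E)` has the initial weights. -/
theorem no_initial (hp : 5 ≤ p) (ha : (a : ZMod p) * a' = 1)
    (hord : ∀ j, 0 < j → j < p - 1 → (a : ZMod p) ^ j ≠ 1) {E : Subgroup G} (hE : σ.cube E) {f : G → G}
    (hf : σ.Map (normalizer (E : Set G)) f)
    (hfN : ∀ x ∈ normalizer (E : Set G), f x ∈ normalizer (E : Set G))
    (wK : Wt (normalizer (E : Set G)) (Fd E) f a) (wF : Wt (Fd E) (cz E) f (a' * a'))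
    (hfix : ∃ d ∈ cz E, d ≠ 1 ∧ f d = d) : False := by
  classical
  set N := normalizer (E : Set G) with hN
  have hEc := σ.cubic hE
  have hNC : N ≤ centralizer ((cz E : Subgroup G) : Set G) := fun x hx =>
    mem_centralizer_iff.2 fun z hz => (mem_centralizer_iff.1 (mem_inf.1 hz).2 x hx).symm
  obtain ⟨hl1, hl2⟩ := step_line hA σ hE (le_refl N) hNC
  obtain ⟨hcz, -, -⟩ := self_invariant hA σ hE (le_refl N) hNC hf hfN
  have hline := line_self hA σ hE (le_refl N) hNC hf hfN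
  have hzN : cz E ≤ N := inf_le_left.trans le_normalizer
  have hmz := (σ.mulOn hf).mono hzN
  obtain ⟨r, hr⟩ := hl2.exists_wt (hmz.mono hl1.le)
    (fun x hx => by rw [mem_bot.1 hx, hmz.map_one]; exact one_mem _) hline
  obtain ⟨s, hs⟩ := hl1.exists_wt hmz hline hcz
  obtain ⟨y, hy, hyz⟩ := SetLike.not_le_iff_exists.1 (step_Fd hA hEc (le_refl N) hNC).not_le
  obtain ⟨e, he, heg, hez⟩ := exists_notMem hA hEc (le_refl N) hNC
  have heN : e ∈ N := le_normalizer he
  have hyN : y ∈ N := (mem_inf.1 hy).1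
  -- the middle section is abelian
  have hFc : ∀ x ∈ Fd E, ∀ k ∈ Fd E, x * k = k * x := by
    intro x hx k hk
    obtain ⟨i, hi⟩ := (step_Fd hA hEc (le_refl N) hNC).zpow_eq hy hyz hx
    obtain ⟨j, hj⟩ := (step_Fd hA hEc (le_refl N) hNC).zpow_eq hy hyz hk
    have hcx := ((mem_cz_iff hA hEc (le_refl N) hNC).1 hi).2
    have hcj := ((mem_cz_iff hA hEc (le_refl N) hNC).1 hj).2
    have h1 : Commute (y ^ i * ((y ^ i)⁻¹ * x)) (y ^ j * ((y ^ j)⁻¹ * k)) := by
      refine ((Commute.zpow_zpow_self y i j).mul_right (hcj _ (N.zpow_mem hyN i))).mul_left ?_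
      exact (show Commute (y ^ j * ((y ^ j)⁻¹ * k)) ((y ^ i)⁻¹ * x) from hcx _ (by
        rw [mul_inv_cancel_left]; exact (mem_inf.1 hk).1)).symm
    rwa [mul_inv_cancel_left, mul_inv_cancel_left] at h1
  have hline_eq : line N E = ⁅Fd E, N⁆ := by
    have hb : ⁅Fd E, Kd N⁆ = ⊥ := by
      rw [commutator_eq_bot_iff_le_centralizer]
      exact fun x hx => mem_centralizer_iff.2 fun k hk => (hFc x hx k hk).symm
    rw [line, if_pos hb]
  have ht : ⁅y, e⁆ ∈ line N E := hline_eq ▸ commutator_mem_commutator hy heN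
  set t := ⁅y, e⁆ with htdef
  have htz := (mem_cz_iff hA hEc (le_refl N) hNC).1 (hl1.le ht)
  have ht1 : t ≠ 1 := fun h => Fd_not_commute hA hEc (le_refl N) hNC hy hyz heN heg
    (commutatorElement_eq_one_iff_mul_comm.1 h)
  have hft : f t = t ^ (a' * a' * a) := by
    rw [htdef, (σ.mulOn hf).map_comm hyN heN,
      show f y = y ^ (a' * a') * ((y ^ (a' * a'))⁻¹ * f y) from (mul_inv_cancel_left _ _).symm,
      show f e = e ^ a * ((e ^ a)⁻¹ * f e) from (mul_inv_cancel_left _ _).symm,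
      commutatorElement_mul_left_eq_conj_mul,
      commutatorElement_eq_one_iff_commute.2 (show Commute ((y ^ (a' * a'))⁻¹ * f y) (e ^ a * ((e ^ a)⁻¹ * f e)) by
        rw [mul_inv_cancel_left]
        exact (((mem_cz_iff hA hEc (le_refl N) hNC).1 (wF y hy)).2 _ (hfN e heN)).symm),
      mul_one, mul_inv_cancel, one_mul, commutatorElement_mul_right_eq_mul_conj,
      commutatorElement_eq_one_iff_commute.2 ((show Commute y ((e ^ a)⁻¹ * f e) from
        hFc y hy _ (wK e heN)).zpow_left (a' * a')),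
      mul_one, mul_inv_cancel_right,
      commutator_zpow (x := y) (y := e) (htz.2 y hyN).symm (htz.2 e heN).symm]
  have hra : (r : ZMod p) = a' := by
    have h1 := hr t ht
    rw [hft] at h1
    have h2 := hl2.cast_eq ht (fun h => ht1 (mem_bot.1 h)) h1
    push_cast at h2
    rwa [mul_assoc, mul_comm (a' : ZMod p) (a : ZMod p), ha, mul_one] at h2
  have hsa : (s : ZMod p) = 1 := by
    obtain ⟨d, hd, hd1, hfd⟩ := hfix
    by_cases hdl : d ∈ line N E
    · have h1 := hr d hdl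
      rw [hfd] at h1
      have h2 := hl2.cast_eq hdl (fun h => hd1 (mem_bot.1 h)) (show (d ^ r)⁻¹ * d ^ (1 : ℤ) ∈ ⊥ by rwa [zpow_one])
      rw [hra, Int.cast_one] at h2
      exact absurd h2 (inv_ne_one ha hord hp)
    · have h1 := hs d hd
      rw [hfd] at h1
      have h2 := hl1.cast_eq hd hdl (show (d ^ s)⁻¹ * d ^ (1 : ℤ) ∈ line N E by rwa [zpow_one])
      rwa [Int.cast_one] at h2
  exact no_state hA hp ha hord N E f
    ⟨hE, le_rfl, hNC, hf, hfN, wK, wF, r, s, hr, hs, Or.inr ⟨hra, hsa⟩⟩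

end CfsgLib.MaxClassCube
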