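import Cfsg.Agent.Lib.PGroup.NormalRankTwo
import Cfsg.Agent.Lib.PGroup.MaxNormalAbelian
import Cfsg.Prelude.Def_Transfer

/-!
# Normal elementary abelian subgroups of order `p⁴`

Let `A` be a maximal normal elementary abelian subgroup of an odd `p`-group and suppose `|A| ≤ p³`.  An
elementary abelian `E` of order `p⁴` meets `A` in the normal subgroup of order `p²` of a chain below `A`, and
two such groups normal in a common subgroup coincide.
-/

set_option autoImplicit false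

open Subgroup

namespace CfsgLib.PGroup.RankFour

variable {G : Type*} [Group G] [Finite G] {p : ℕ} [hpf : Fact p.Prime]

theorem elem_comm {E : Subgroup G} (hE : Cfsg.IsElementaryAbelian p E) {x y : G} (hx : x ∈ E) (hy : y ∈ E) :
    x * y = y * x :=
  congrArg Subtype.val (hE.1.is_comm.comm (⟨x, hx⟩ : E) ⟨y, hy⟩)

/-- A normal step of index `p` is a central step. -/
theorem central_step (hG : IsPGroup p G) {T T₁ : Subgroup G} [hT : T.Normal] [hT₁ : T₁.Normal] (hle : T ≤ T₁)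
    (hrel : T.relIndex T₁ = p) (g : G) {t : G} (ht : t ∈ T₁) : t⁻¹ * (g * t * g⁻¹) ∈ T := by
  haveI := (hG.to_quotient T).isNilpotent
  set π := QuotientGroup.mk' T
  have hπs : Function.Surjective π := QuotientGroup.mk'_surjective T
  haveI := Subgroup.Normal.map hT₁ π hπs
  have hcard : Nat.card (T₁.map π) = p := by
    have h1 := relIndex_comap (⊥ : Subgroup (G ⧸ T)) π T₁
    rw [MonoidHom.comap_bot, QuotientGroup.ker_mk', relIndex_bot_left] at h1
    rw [← h1, hrel]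
  have hne : T₁.map π ≠ ⊥ := fun e => by
    rw [e, card_bot] at hcard
    exact hpf.out.ne_one hcard.symm
  have hne' := CfsgLib.Coprime.nilpotent_inf_center_ne_bot (T₁.map π) hne
  have h2 : T₁.map π ⊓ center (G ⧸ T) = T₁.map π := by
    have h3 := card_dvd_of_le (inf_le_left : T₁.map π ⊓ center (G ⧸ T) ≤ _)
    rw [hcard, Nat.dvd_prime hpf.out] at h3
    rcases h3 with h3 | h3
    · exact absurd (card_eq_one.1 h3) hne'
    · exact eq_of_le_of_card_ge inf_le_left (by rw [h3, hcard])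
  have h4 : π t ∈ center (G ⧸ T) := ((h2.ge : _ ≤ _) (mem_map_of_mem π ht)).2
  refine (QuotientGroup.eq_one_iff _).1 ?_
  show π (t⁻¹ * (g * t * g⁻¹)) = 1
  rw [map_mul, map_mul, map_mul, map_inv, map_inv, mem_center_iff.1 h4 (π g)]
  group

theorem exists_normal_card (hG : IsPGroup p G) {A : Subgroup G} [hA : A.Normal] :
    ∀ k, p ^ k ≤ Nat.card A → ∃ T : Subgroup G, T.Normal ∧ T ≤ A ∧ Nat.card T = p ^ k := by
  intro k
  induction k with
  | zero => exact fun _ => ⟨⊥, inferInstance, bot_le, by rw [card_bot, pow_zero]⟩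
  | succ k ih =>
    intro hk
    obtain ⟨T, hTn, hTA, hTc⟩ := ih ((Nat.pow_le_pow_right hpf.out.pos (Nat.le_succ k)).trans hk)
    have hlt : T < A := lt_of_le_of_ne hTA fun e => by
      rw [← e, hTc] at hk
      exact absurd hk (not_le.2 (Nat.pow_lt_pow_succ hpf.out.one_lt))
    obtain ⟨T₁, hT₁n, hTT₁, hT₁A, hrel⟩ := exists_normal_step hG hlt
    refine ⟨T₁, hT₁n, hT₁A, ?_⟩
    have h1 := relIndex_mul_index (bot_le : (⊥ : Subgroup G) ≤ T)
    rw [pow_succ, ← hTc, ← hrel, mul_comm, ← relIndex_bot_left T, ← relIndex_bot_left T₁, mul_comm]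
    exact (relIndex_mul_relIndex ⊥ T T₁ bot_le hTT₁.le).symm

/-- The data: a maximal normal elementary abelian subgroup of order `p³` with a chain below it. -/
structure Frame (p : ℕ) (G : Type*) [Group G] where
  A : Subgroup G
  A₁ : Subgroup G
  A₂ : Subgroup G
  hA : A.Normal
  hA₂ : A₂.Normal
  elem : Cfsg.IsElementaryAbelian p A
  le₁ : A₁ ≤ A₂
  le₂ : A₂ ≤ A
  card₁ : Nat.card A₁ = p
  card₂ : Nat.card A₂ = p ^ 2
  card₃ : Nat.card A = p ^ 3
  fix₁ : ∀ g : G, ∀ t ∈ A₁, g * t * g⁻¹ = t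
  step₁ : ∀ g : G, ∀ t ∈ A₂, t⁻¹ * (g * t * g⁻¹) ∈ A₁
  step₂ : ∀ g : G, ∀ t ∈ A, t⁻¹ * (g * t * g⁻¹) ∈ A₂
  omega : ∀ x ∈ centralizer (A : Set G), x ^ p = 1 → x ∈ A

theorem exists_frame (hG : IsPGroup p G) (hp : p ≠ 2) {E : Subgroup G} (hE : Cfsg.IsElementaryAbelian p E)
    (hE4 : Nat.card E = p ^ 4) :
    (∃ B : Subgroup G, B.Normal ∧ Cfsg.IsElementaryAbelian p B ∧ Nat.card B = p ^ 4) ∨
      Nonempty (Frame p G) := by
  obtain ⟨A, ⟨hAn, hAe⟩, hmax⟩ := (Set.toFinite {B : Subgroup G | B.Normal ∧ Cfsg.IsElementaryAbelian p B}).exists_maximal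
    ⟨⊥, inferInstance, isMulCommutative_iff.2 fun a b => Subsingleton.elim _ _,
      fun a ha => by rw [mem_bot.1 ha, one_pow]⟩
  haveI := hAn
  have homega : ∀ x ∈ centralizer (A : Set G), x ^ p = 1 → x ∈ A := fun x hx hxp =>
    CfsgLib.PGroup.mem_of_maximal_abelian_exponent hG (n := 1) (by rw [pow_one]; exact hp) hAe.1
      (fun a ha => by rw [pow_one]; exact hAe.2 a ha)
      (fun B hB hBc hBe hAB => le_antisymm (hmax ⟨hB, hBc, fun b hb => by simpa using hBe b hb⟩ hAB) hAB) hx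
      (by rw [pow_one]; exact hxp)
  obtain ⟨k, hk⟩ := (hG.to_subgroup A).exists_card_eq
  rcases Nat.lt_or_ge k 4 with hk4 | hk4
  swap
  · obtain ⟨T, hTn, hTA, hTc⟩ := exists_normal_card hG (A := A) 4 (hk ▸ Nat.pow_le_pow_right hpf.out.pos hk4)
    exact Or.inl ⟨T, hTn, ⟨isMulCommutative_iff.2 fun a b =>
      Subtype.ext (elem_comm hAe (hTA a.2) (hTA b.2)), fun a ha => hAe.2 a (hTA ha)⟩, hTc⟩
  -- elements of `E` centralizing `A` lie in `A`
  have hEC : E ⊓ centralizer (A : Set G) ≤ E ⊓ A := fun x hx => ⟨hx.1, homega x hx.2 (hE.2 x hx.1)⟩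
  by_cases hk3 : k = 3
  · subst hk3
    obtain ⟨A₂, hA₂n, hA₂A, hA₂c⟩ := exists_normal_card hG (A := A) 2
      (hk ▸ Nat.pow_le_pow_right hpf.out.pos (by norm_num))
    haveI := hA₂n
    obtain ⟨A₁, hA₁n, hA₁A, hA₁c⟩ := exists_normal_card hG (A := A₂) 1
      (hA₂c ▸ Nat.pow_le_pow_right hpf.out.pos (by norm_num))
    haveI := hA₁n
    have rel : ∀ {T T₁ : Subgroup G}, T ≤ T₁ → ∀ i, Nat.card T = p ^ i → Nat.card T₁ = p ^ (i + 1) →
        T.relIndex T₁ = p := by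
      intro T T₁ hle i h1 h2
      have h3 := relIndex_mul_relIndex ⊥ T T₁ bot_le hle
      rw [relIndex_bot_left, relIndex_bot_left, h1, h2, pow_succ] at h3
      exact Nat.eq_of_mul_eq_mul_left (pow_pos hpf.out.pos i) h3
    exact Or.inr ⟨⟨A, A₁, A₂, hAn, hA₂n, hAe, hA₁A, hA₂A, by rw [hA₁c, pow_one], hA₂c, hk,
      fun g t ht => by
        have h1 := central_step hG (T := ⊥) bot_le (by rw [relIndex_bot_left, hA₁c, pow_one]) g ht
        rw [mem_bot, inv_mul_eq_one] at h1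
        exact h1.symm,
      fun g t ht => central_step hG hA₁A (rel hA₁A 1 hA₁c hA₂c) g ht,
      fun g t ht => central_step hG hA₂A (rel hA₂A 2 hA₂c hk) g ht, homega⟩⟩
  · exfalso
    have hk2 : k ≤ 2 := by omega
    obtain ⟨B, hBn, hBA, hBc⟩ := exists_normal_card hG (A := A) (k - 1)
      (hk ▸ Nat.pow_le_pow_right hpf.out.pos (Nat.sub_le k 1))
    haveI := hBn
    have hrelB : B.relIndex A ≤ p := by
      have h3 := relIndex_mul_relIndex ⊥ B A bot_le hBA
      rw [relIndex_bot_left, relIndex_bot_left, hBc, hk] at h3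
      rcases Nat.eq_zero_or_pos k with rfl | hpos
      · rw [Nat.zero_sub, pow_zero, one_mul] at h3
        rw [h3]; exact hpf.out.one_lt.le
      · rw [show k = k - 1 + 1 by omega, Nat.add_sub_cancel, pow_succ] at h3
        exact (Nat.eq_of_mul_eq_mul_left (pow_pos hpf.out.pos _) h3).le
    -- `B` is central
    have hBz : ∀ g : G, ∀ t ∈ B, g * t * g⁻¹ = t := by
      intro g t ht
      rcases (show k - 1 = 0 ∨ k - 1 = 1 by omega) with h | h
      · rw [h, pow_zero, card_eq_one] at hBc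
        rw [hBc, mem_bot] at ht
        subst ht; simp
      · have h1 := central_step hG (T := ⊥) (T₁ := B) bot_le
          (by rw [relIndex_bot_left, hBc, h, pow_one]) g ht
        rw [mem_bot, inv_mul_eq_one] at h1
        exact h1.symm
    -- a single element of `A` detects the kernel
    obtain ⟨b, hb, hgen⟩ : ∃ b ∈ A, ∀ g : G, g * b * g⁻¹ = b → g ∈ centralizer (A : Set G) := by
      by_cases hBA' : B = A
      · exact ⟨1, one_mem A, fun g _ => mem_centralizer_iff.2 fun a ha =>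
          (mul_inv_eq_iff_eq_mul.1 (hBz g a (hBA' ▸ ha))).symm⟩
      · obtain ⟨b, hb, hbB⟩ := SetLike.exists_of_lt (lt_of_le_of_ne hBA hBA')
        refine ⟨b, hb, fun g hg => mem_centralizer_iff.2 fun a ha => ?_⟩
        have htop : B ⊔ zpowers b = A := by
          refine eq_of_le_of_card_ge (sup_le hBA (zpowers_le.2 hb)) ?_
          have h3 := relIndex_mul_relIndex B (B ⊔ zpowers b) A le_sup_left (sup_le hBA (zpowers_le.2 hb))
          have h4 : B.relIndex (B ⊔ zpowers b) ≠ 1 := fun e =>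
            hbB (relIndex_eq_one.1 e (mem_sup_right (mem_zpowers b)))
          have h5 : (B ⊔ zpowers b).relIndex A = 1 := by
            have hp1 : B.relIndex A = p := by
              refine ((Nat.dvd_prime hpf.out).1 ?_).resolve_left fun e => hBA' (le_antisymm hBA (relIndex_eq_one.1 e))
              obtain ⟨i, hi, e⟩ := (Nat.dvd_prime_pow hpf.out).1
                (hk ▸ (relIndex_bot_left A ▸ Dvd.intro_left _ (relIndex_mul_relIndex ⊥ B A bot_le hBA)) :
                  B.relIndex A ∣ p ^ k)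
              rw [e] at hrelB ⊢
              have : i ≤ 1 := by
                by_contra h
                have := Nat.pow_lt_pow_right hpf.out.one_lt (show 1 < i by omega)
                rw [pow_one] at this
                omega
              simpa using pow_dvd_pow p this
            rw [hp1] at h3
            rcases (Nat.dvd_prime hpf.out).1 (Dvd.intro _ h3) with e | e
            · exact absurd e h4
            · exact Nat.eq_of_mul_eq_mul_left hpf.out.pos (by rw [mul_one]; rwa [e] at h3)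
          have h6 := relIndex_mul_relIndex ⊥ (B ⊔ zpowers b) A bot_le (sup_le hBA (zpowers_le.2 hb))
          rw [h5, mul_one, relIndex_bot_left, relIndex_bot_left] at h6
          exact h6.ge
        rw [← htop] at ha
        obtain ⟨u, hu, v, hv, rfl⟩ := mem_sup_of_normal_left.1 ha
        obtain ⟨i, rfl⟩ := mem_zpowers_iff.1 hv
        refine (mul_inv_eq_iff_eq_mul.1 ?_).symm
        rw [show g * (u * b ^ i) * g⁻¹ = (g * u * g⁻¹) * (g * b * g⁻¹) ^ i by rw [conj_zpow]; group,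
          hBz g u hu, hg]
    let f : E → A ⧸ (⊥ : Subgroup A) := fun e => QuotientGroup.mk ⟨e.1 * b * e.1⁻¹, hAn.conj_mem b hb _⟩
    have hindex : (E ⊓ centralizer (A : Set G)).relIndex E ≤ p := by
      have hstep : ∀ e : E, b⁻¹ * (e.1 * b * e.1⁻¹) ∈ B := fun e => by
        rcases eq_or_lt_of_le hBA with heq | hlt
        · exact heq ▸ mul_mem (inv_mem hb) (hAn.conj_mem b hb _)
        · refine central_step hG hBA ?_ e.1 hb
          have h3 := relIndex_mul_relIndex ⊥ B A bot_le hBA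
          rw [relIndex_bot_left, relIndex_bot_left, hBc, hk] at h3
          have hpos : 0 < k := by
            by_contra h
            have hk0 : k = 0 := by omega
            rw [hk0, pow_zero, card_eq_one] at hk
            exact hlt.ne (le_antisymm hBA (hk ▸ bot_le))
          rw [show k = k - 1 + 1 by omega, Nat.add_sub_cancel, pow_succ] at h3
          exact Nat.eq_of_mul_eq_mul_left (pow_pos hpf.out.pos _) h3
      have hinj : Function.Injective fun q : E ⧸ (E ⊓ centralizer (A : Set G)).subgroupOf E =>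
          (Quotient.liftOn' q (fun e => (⟨b⁻¹ * (e.1 * b * e.1⁻¹), hstep e⟩ : B)) fun e₁ e₂ h => by
            rw [QuotientGroup.leftRel_apply, mem_subgroupOf] at h
            have h1 := mem_centralizer_iff.1 h.2 b hb
            refine Subtype.ext ?_
            show b⁻¹ * (e₁.1 * b * e₁.1⁻¹) = b⁻¹ * (e₂.1 * b * e₂.1⁻¹)
            rw [show (e₂ : G) = e₁.1 * (e₁⁻¹ * e₂ : E).1 by simp]
            have h2 : (e₁⁻¹ * e₂ : E).1 * b * (e₁⁻¹ * e₂ : E).1⁻¹ = b := by rw [← h1, mul_inv_cancel_right]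
            rw [show e₁.1 * (e₁⁻¹ * e₂ : E).1 * b * (e₁.1 * (e₁⁻¹ * e₂ : E).1)⁻¹ =
              e₁.1 * ((e₁⁻¹ * e₂ : E).1 * b * (e₁⁻¹ * e₂ : E).1⁻¹) * e₁.1⁻¹ by group, h2]) := by
        rintro ⟨e₁⟩ ⟨e₂⟩ h
        have h1 : e₁.1 * b * e₁.1⁻¹ = e₂.1 * b * e₂.1⁻¹ := mul_left_cancel (congrArg Subtype.val h)
        refine QuotientGroup.eq.2 (mem_subgroupOf.2 ⟨(e₁⁻¹ * e₂).2, hgen _ ?_⟩)
        show e₁.1⁻¹ * e₂.1 * b * (e₁.1⁻¹ * e₂.1)⁻¹ = b
        rw [show e₁.1⁻¹ * e₂.1 * b * (e₁.1⁻¹ * e₂.1)⁻¹ = e₁.1⁻¹ * (e₂.1 * b * e₂.1⁻¹) * e₁.1 by group, ← h1]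
        group
      have h1 := Nat.card_le_card_of_injective _ hinj
      refine h1.trans (le_trans ?_ (le_of_eq (pow_one p)))
      rw [hBc]
      exact Nat.pow_le_pow_right hpf.out.pos (by omega)
    have h1 := relIndex_mul_relIndex ⊥ (E ⊓ centralizer (A : Set G)) E bot_le inf_le_left
    rw [relIndex_bot_left, relIndex_bot_left, hE4] at h1
    have h2 : Nat.card (E ⊓ centralizer (A : Set G) : Subgroup G) ≤ p ^ 2 :=
      ((card_le_of_le hEC).trans (card_le_of_le inf_le_right)).trans (hk ▸ Nat.pow_le_pow_right hpf.out.pos hk2)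
    have h3 := Nat.mul_le_mul h2 hindex
    rw [h1, ← pow_succ] at h3
    exact absurd h3 (not_le.2 (Nat.pow_lt_pow_succ hpf.out.one_lt))

variable (F : Frame p G) {E : Subgroup G}

theorem fix_all {g : G} {b c : G} (hb : b ∈ F.A₂) (hb₁ : b ∉ F.A₁) (hc : c ∈ F.A) (hc₂ : c ∉ F.A₂)
    (hgb : g * b * g⁻¹ = b) (hgc : g * c * g⁻¹ = c) : g ∈ centralizer (F.A : Set G) := by
  haveI := F.hA₂
  let H : Subgroup G := { (F.A : Subgroup G) ⊓ centralizer ({g} : Set G) with }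
  have hb' : b ∈ centralizer ({g} : Set G) := mem_centralizer_singleton_iff.2 (mul_inv_eq_iff_eq_mul.1 hgb).symm
  have hc' : c ∈ centralizer ({g} : Set G) := mem_centralizer_singleton_iff.2 (mul_inv_eq_iff_eq_mul.1 hgc).symm
  have h2 : F.A₂ ≤ F.A ⊓ centralizer ({g} : Set G) := by
    have h1 : F.A₁ < F.A₂ ⊓ centralizer ({g} : Set G) := by
      refine lt_of_le_of_ne (le_inf F.le₁ fun t ht => mem_centralizer_singleton_iff.2
        (mul_inv_eq_iff_eq_mul.1 (F.fix₁ g t ht)).symm) fun e => hb₁ (e.ge ⟨hb, hb'⟩)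
    have h3 := card_dvd_of_le (inf_le_left : F.A₂ ⊓ centralizer ({g} : Set G) ≤ _)
    rw [F.card₂] at h3
    obtain ⟨i, hi, e⟩ := (Nat.dvd_prime_pow hpf.out).1 h3
    have h4 : p < p ^ i := by
      rw [← e]
      refine lt_of_le_of_ne ((le_of_eq F.card₁.symm).trans (card_le_of_le h1.le)) fun e' => h1.ne
        (eq_of_le_of_card_ge h1.le (by rw [← e', F.card₁]))
    have hi2 : i = 2 := by
      by_contra h
      have := Nat.pow_le_pow_right hpf.out.pos (show i ≤ 1 by omega)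
      rw [pow_one] at this
      omega
    have h5 : F.A₂ ⊓ centralizer ({g} : Set G) = F.A₂ := eq_of_le_of_card_ge inf_le_left (by rw [e, hi2, F.card₂])
    exact le_inf F.le₂ (inf_eq_left.1 h5)
  have h6 : F.A ⊓ centralizer ({g} : Set G) = F.A := by
    refine eq_of_le_of_card_ge inf_le_left ?_
    have h3 := card_dvd_of_le (inf_le_left : F.A ⊓ centralizer ({g} : Set G) ≤ _)
    rw [F.card₃] at h3
    obtain ⟨i, hi, e⟩ := (Nat.dvd_prime_pow hpf.out).1 h3
    have h4 : p ^ 2 < p ^ i := by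
      rw [← e]
      refine lt_of_le_of_ne (F.card₂ ▸ card_le_of_le h2) fun e' => hc₂ ?_
      rw [eq_of_le_of_card_ge h2 (by rw [← e', F.card₂])]
      exact ⟨hc, hc'⟩
    have := (Nat.pow_lt_pow_iff_right hpf.out.one_lt).1 h4
    rw [F.card₃, e]
    exact Nat.pow_le_pow_right hpf.out.pos (by omega)
  exact mem_centralizer_iff.2 fun a ha => mem_centralizer_singleton_iff.1 ((inf_eq_left.1 h6) ha)

theorem exists_gens : (∃ b ∈ F.A₂, b ∉ F.A₁) ∧ ∃ c ∈ F.A, c ∉ F.A₂ := by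
  constructor
  · refine SetLike.exists_of_lt (lt_of_le_of_ne F.le₁ fun e => ?_)
    have h := F.card₁
    rw [e, F.card₂] at h
    exact absurd h (ne_of_gt (by calc p = p ^ 1 := (pow_one p).symm
                                   _ < p ^ 2 := Nat.pow_lt_pow_succ hpf.out.one_lt))
  · refine SetLike.exists_of_lt (lt_of_le_of_ne F.le₂ fun e => ?_)
    have h := F.card₂
    rw [e, F.card₃] at h
    exact absurd h (ne_of_gt (Nat.pow_lt_pow_succ hpf.out.one_lt))

variable (hE : Cfsg.IsElementaryAbelian p E) (hE4 : Nat.card E = p ^ 4)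
include hE hE4

theorem inf_centralizer_eq : E ⊓ centralizer (F.A : Set G) = E ⊓ F.A := by
  refine le_antisymm (fun x hx => ⟨hx.1, F.omega x hx.2 (hE.2 x hx.1)⟩) (fun x hx => ⟨hx.1, ?_⟩)
  exact mem_centralizer_iff.2 fun a ha => elem_comm F.elem ha hx.2

theorem inf_eq : E ⊓ F.A = F.A₂ := by
  classical
  obtain ⟨⟨b, hb, hb₁⟩, c, hc, hc₂⟩ := exists_gens F
  have hcA : F.A₂ ≤ F.A := F.le₂
  -- the injective invariant of a coset
  have hinj : ∀ e₁ e₂ : E, e₁.1 * b * e₁.1⁻¹ = e₂.1 * b * e₂.1⁻¹ → e₁.1 * c * e₁.1⁻¹ = e₂.1 * c * e₂.1⁻¹ →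
      e₁⁻¹ * e₂ ∈ (E ⊓ F.A).subgroupOf E := by
    intro e₁ e₂ h1 h2
    refine mem_subgroupOf.2 ((inf_centralizer_eq F hE hE4).le ?_)
    refine ⟨(e₁⁻¹ * e₂).2, fix_all F hb hb₁ hc hc₂ ?_ ?_⟩
    · show e₁.1⁻¹ * e₂.1 * b * (e₁.1⁻¹ * e₂.1)⁻¹ = b
      rw [show e₁.1⁻¹ * e₂.1 * b * (e₁.1⁻¹ * e₂.1)⁻¹ = e₁.1⁻¹ * (e₂.1 * b * e₂.1⁻¹) * e₁.1 by group, ← h1]
      group
    · show e₁.1⁻¹ * e₂.1 * c * (e₁.1⁻¹ * e₂.1)⁻¹ = c
      rw [show e₁.1⁻¹ * e₂.1 * c * (e₁.1⁻¹ * e₂.1)⁻¹ = e₁.1⁻¹ * (e₂.1 * c * e₂.1⁻¹) * e₁.1 by group, ← h2]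
      group
  have hmul := relIndex_mul_relIndex ⊥ (E ⊓ F.A) E bot_le inf_le_left
  rw [relIndex_bot_left, relIndex_bot_left, hE4] at hmul
  let f : E ⧸ (E ⊓ F.A).subgroupOf E → F.A₁ × F.A₂ := fun q =>
    (⟨b⁻¹ * (q.out.1 * b * q.out.1⁻¹), F.step₁ _ b hb⟩, ⟨c⁻¹ * (q.out.1 * c * q.out.1⁻¹), F.step₂ _ c hc⟩)
  have hf : Function.Injective f := by
    intro q₁ q₂ h
    have h' := QuotientGroup.eq.2 (hinj q₁.out q₂.out
      (mul_left_cancel (congrArg Subtype.val (Prod.ext_iff.1 h).1))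
      (mul_left_cancel (congrArg Subtype.val (Prod.ext_iff.1 h).2)))
    rwa [QuotientGroup.out_eq', QuotientGroup.out_eq'] at h'
  have hle : E ⊓ F.A ≤ F.A₂ := by
    by_contra hnot
    obtain ⟨w, hw, hw₂⟩ := SetLike.not_le_iff_exists.1 hnot
    have hfw : ∀ e : E, e.1 * w * e.1⁻¹ = w := fun e => by
      rw [elem_comm hE e.2 hw.1, mul_inv_cancel_right]
    let f' : E ⧸ (E ⊓ F.A).subgroupOf E → F.A₁ := fun q =>
      ⟨b⁻¹ * (q.out.1 * b * q.out.1⁻¹), F.step₁ _ b hb⟩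
    have hf' : Function.Injective f' := by
      intro q₁ q₂ h
      have hb' := mul_left_cancel (congrArg Subtype.val h)
      have h' : (q₁.out⁻¹ * q₂.out : E) ∈ (E ⊓ F.A).subgroupOf E := by
        refine mem_subgroupOf.2 ((inf_centralizer_eq F hE hE4).le ?_)
        refine ⟨(q₁.out⁻¹ * q₂.out).2, fix_all F hb hb₁ hw.2 hw₂ ?_ (hfw _)⟩
        show q₁.out.1⁻¹ * q₂.out.1 * b * (q₁.out.1⁻¹ * q₂.out.1)⁻¹ = b
        rw [show q₁.out.1⁻¹ * q₂.out.1 * b * (q₁.out.1⁻¹ * q₂.out.1)⁻¹ =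
          q₁.out.1⁻¹ * (q₂.out.1 * b * q₂.out.1⁻¹) * q₁.out.1 by group, ← hb']
        group
      have h'' := QuotientGroup.eq.2 h'
      rwa [QuotientGroup.out_eq', QuotientGroup.out_eq'] at h''
    have h1 : (E ⊓ F.A).relIndex E ≤ p := (Nat.card_le_card_of_injective f' hf').trans F.card₁.le
    have h2 : Nat.card (E ⊓ F.A : Subgroup G) ≤ p ^ 3 := (card_le_of_le inf_le_right).trans F.card₃.le
    have h3 : E ⊓ F.A = F.A := by
      refine eq_of_le_of_card_ge inf_le_right ?_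
      rw [F.card₃]
      refine Nat.le_of_mul_le_mul_right ?_ hpf.out.pos
      rw [← pow_succ, ← hmul]
      exact Nat.mul_le_mul_left _ h1
    have h4 : E ≤ F.A := fun e he => by
      refine F.omega e (mem_centralizer_iff.2 fun a ha => ?_) (hE.2 e he)
      exact elem_comm hE (h3.ge ha).1 he
    have h5 := card_le_of_le h4
    rw [hE4, F.card₃] at h5
    exact absurd h5 (not_le.2 (Nat.pow_lt_pow_succ hpf.out.one_lt))
  refine eq_of_le_of_card_ge hle ?_
  by_contra hlt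
  rw [not_le] at hlt
  -- all the pairs occur
  have hbij : Function.Bijective f := by
    haveI : Finite (E ⧸ (E ⊓ F.A).subgroupOf E) := inferInstance
    refine hf.bijective_of_nat_card_le ?_
    rw [Nat.card_prod, F.card₁, F.card₂]
    obtain ⟨i, -, e⟩ := (Nat.dvd_prime_pow hpf.out).1 (F.card₂ ▸ card_dvd_of_le hle)
    have hi : i ≤ 1 := by
      rw [e, F.card₂, Nat.pow_lt_pow_iff_right hpf.out.one_lt] at hlt
      omega
    have h1 : p * p ^ 2 * p ^ i ≤ (E ⊓ F.A).relIndex E * p ^ i := by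
      rw [← e, mul_comm _ (Nat.card (E ⊓ F.A : Subgroup G)), mul_comm ((E ⊓ F.A).relIndex E), hmul, e]
      calc p ^ i * (p * p ^ 2) ≤ p ^ 1 * (p * p ^ 2) := Nat.mul_le_mul_right _ (Nat.pow_le_pow_right hpf.out.pos hi)
        _ = p ^ 4 := by ring
    exact Nat.le_of_mul_le_mul_right h1 (pow_pos hpf.out.pos i)
  have hb₁' : b ≠ 1 := fun e => hb₁ (e ▸ one_mem _)
  obtain ⟨a₁, ha₁, ha₁'⟩ : ∃ a ∈ F.A₁, a ≠ 1 := by
    refine (bot_or_exists_ne_one F.A₁).resolve_left fun e => ?_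
    have h := F.card₁
    rw [e, card_bot] at h
    exact hpf.out.ne_one h.symm
  obtain ⟨q₁, hq₁⟩ := hbij.2 (⟨a₁, ha₁⟩, 1)
  obtain ⟨q₂, hq₂⟩ := hbij.2 (1, ⟨b, hb⟩)
  have e1 : q₁.out.1 * b * q₁.out.1⁻¹ = b * a₁ := inv_mul_eq_iff_eq_mul.1 (congrArg Subtype.val (Prod.ext_iff.1 hq₁).1)
  have e2 : q₁.out.1 * c * q₁.out.1⁻¹ = c := by
    have := inv_mul_eq_iff_eq_mul.1 (congrArg Subtype.val (Prod.ext_iff.1 hq₁).2)
    rwa [OneMemClass.coe_one, mul_one] at this
  have e3 : q₂.out.1 * c * q₂.out.1⁻¹ = c * b := inv_mul_eq_iff_eq_mul.1 (congrArg Subtype.val (Prod.ext_iff.1 hq₂).2)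
  have h1 : q₁.out.1 * q₂.out.1 * c * (q₁.out.1 * q₂.out.1)⁻¹ = c * (b * a₁) := by
    rw [show q₁.out.1 * q₂.out.1 * c * (q₁.out.1 * q₂.out.1)⁻¹ =
      q₁.out.1 * (q₂.out.1 * c * q₂.out.1⁻¹) * q₁.out.1⁻¹ by group, e3,
      show q₁.out.1 * (c * b) * q₁.out.1⁻¹ = (q₁.out.1 * c * q₁.out.1⁻¹) * (q₁.out.1 * b * q₁.out.1⁻¹) by group,
      e1, e2]
  rw [elem_comm hE q₁.out.2 q₂.out.2, show q₂.out.1 * q₁.out.1 * c * (q₂.out.1 * q₁.out.1)⁻¹ =
    q₂.out.1 * (q₁.out.1 * c * q₁.out.1⁻¹) * q₂.out.1⁻¹ by group, e2, e3, mul_right_inj, left_eq_mul] at h1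
  exact ha₁' h1

theorem centralize {x t : G} (hx : x ∈ E) (ht : t ∈ F.A₂) : x * t * x⁻¹ = t := by
  rw [← inf_eq F hE hE4] at ht
  rw [elem_comm hE hx ht.1, mul_inv_cancel_right]

omit hE hE4

theorem pow_mul_of_central {x u z : G} (hz : u * x = x * u * z) (hzx : Commute z x) (hzu : Commute z u) :
    ∀ n : ℕ, (x * u) ^ n = x ^ n * u ^ n * z ^ n.choose 2 := by
  have hcomm : ∀ n : ℕ, u ^ n * x = x * u ^ n * z ^ n := by
    intro n
    induction n with
    | zero => simp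
    | succ n ih =>
      rw [pow_succ, mul_assoc, hz, ← mul_assoc, ← mul_assoc, ih, pow_succ z]
      calc x * u ^ n * z ^ n * u * z = x * u ^ n * (z ^ n * u) * z := by group
        _ = x * u ^ n * (u * z ^ n) * z := by rw [(hzu.pow_left n).eq]
        _ = x * (u ^ n * u) * (z ^ n * z) := by simp only [mul_assoc]
  intro n
  induction n with
  | zero => simp
  | succ n ih =>
    rw [pow_succ, ih, Nat.choose_succ_succ, Nat.choose_one_right]
    calc x ^ n * u ^ n * z ^ n.choose 2 * (x * u) = x ^ n * u ^ n * (z ^ n.choose 2 * (x * u)) := by simp only [mul_assoc]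
      _ = x ^ n * u ^ n * ((x * u) * z ^ n.choose 2) := by rw [((hzx.mul_right hzu).pow_left _).eq]
      _ = x ^ n * (u ^ n * x) * u * z ^ n.choose 2 := by simp only [mul_assoc]
      _ = x ^ n * (x * u ^ n * z ^ n) * u * z ^ n.choose 2 := by rw [hcomm]
      _ = x ^ n * x * u ^ n * (z ^ n * u) * z ^ n.choose 2 := by simp only [mul_assoc]
      _ = x ^ n * x * u ^ n * (u * z ^ n) * z ^ n.choose 2 := by rw [(hzu.pow_left n).eq]
      _ = x ^ (n + 1) * u ^ (n + 1) * z ^ (n + n.choose 2) := by simp only [pow_succ, pow_add, mul_assoc]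

include hE hE4

include F in
/-- Two elementary abelian subgroups of order `p⁴` normalized by each other coincide. -/
theorem unique (hp : p ≠ 2) {E' : Subgroup G} (hE' : Cfsg.IsElementaryAbelian p E') (hE'4 : Nat.card E' = p ^ 4)
    (hn : E' ≤ normalizer (E : Set G)) : E' = E := by
  classical
  haveI := F.hA
  obtain ⟨⟨b, hb, hb₁⟩, c, hc, hc₂⟩ := exists_gens F
  have hW := inf_eq F hE hE4
  have hW' := inf_eq F hE' hE'4
  have hC := inf_centralizer_eq F hE hE4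
  -- `e ↦ [e, c]` is a bijection of `E / A₂` onto `A₂`
  let f : E ⧸ F.A₂.subgroupOf E → F.A₂ := fun q => ⟨c⁻¹ * (q.out.1 * c * q.out.1⁻¹), F.step₂ _ c hc⟩
  have hf : Function.Injective f := by
    intro q₁ q₂ h
    have h1 := mul_left_cancel (congrArg Subtype.val h)
    have h2 : (q₁.out⁻¹ * q₂.out : E) ∈ F.A₂.subgroupOf E := by
      refine mem_subgroupOf.2 (hW.le (hC.le ?_))
      refine ⟨(q₁.out⁻¹ * q₂.out).2, fix_all F hb hb₁ hc hc₂
        (centralize F hE hE4 (q₁.out⁻¹ * q₂.out).2 hb) ?_⟩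
      show q₁.out.1⁻¹ * q₂.out.1 * c * (q₁.out.1⁻¹ * q₂.out.1)⁻¹ = c
      rw [show q₁.out.1⁻¹ * q₂.out.1 * c * (q₁.out.1⁻¹ * q₂.out.1)⁻¹ =
        q₁.out.1⁻¹ * (q₂.out.1 * c * q₂.out.1⁻¹) * q₁.out.1 by group, ← h1]
      group
    have h3 := QuotientGroup.eq.2 h2
    rwa [QuotientGroup.out_eq', QuotientGroup.out_eq'] at h3
  have hbij : Function.Bijective f := by
    refine hf.bijective_of_nat_card_le ?_
    have h := relIndex_mul_relIndex ⊥ F.A₂ E bot_le (hW ▸ inf_le_left)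
    rw [relIndex_bot_left, relIndex_bot_left, F.card₂, hE4, show p ^ 4 = p ^ 2 * p ^ 2 by ring] at h
    rw [F.card₂]
    exact (Nat.eq_of_mul_eq_mul_left (pow_pos hpf.out.pos 2) h).ge
  have hlift : ∀ x' ∈ E', ∃ x ∈ E, x⁻¹ * x' ∈ F.A := by
    intro x' hx'
    obtain ⟨q, hq⟩ := hbij.2 ⟨c⁻¹ * (x' * c * x'⁻¹), F.step₂ x' c hc⟩
    obtain ⟨x, rfl⟩ : ∃ x, q.out = x := ⟨_, rfl⟩
    have hxc : q.out.1 * c * q.out.1⁻¹ = x' * c * x'⁻¹ := mul_left_cancel (congrArg Subtype.val hq)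
    refine ⟨q.out.1, q.out.2, ?_⟩
    obtain ⟨x, hxdef⟩ : ∃ x, x = q.out.1 := ⟨_, rfl⟩
    have hx : x ∈ E := hxdef ▸ q.out.2
    rw [← hxdef] at hxc ⊢
    obtain ⟨u, hu⟩ : ∃ u, u = x⁻¹ * x' := ⟨_, rfl⟩
    have huC : u ∈ centralizer (F.A : Set G) := by
      refine fix_all F hb hb₁ hc hc₂ ?_ ?_
      · rw [hu, show x⁻¹ * x' * b * (x⁻¹ * x')⁻¹ = x⁻¹ * (x' * b * x'⁻¹) * x by group,
          centralize F hE' hE'4 hx' hb]
        have := centralize F hE hE4 (inv_mem hx) hb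
        rwa [inv_inv] at this
      · rw [hu, show x⁻¹ * x' * c * (x⁻¹ * x')⁻¹ = x⁻¹ * (x' * c * x'⁻¹) * x by group, ← hxc]
        group
    have huN : u ∈ normalizer (E : Set G) := hu ▸ mul_mem (inv_mem (le_normalizer hx)) (hn hx')
    obtain ⟨z, hz⟩ : ∃ z, z = u⁻¹ * x⁻¹ * u * x := ⟨_, rfl⟩
    have hzA : z ∈ F.A₂ := by
      rw [← hW, ← hC]
      refine Subgroup.mem_inf.2 ⟨hz ▸ mul_mem ?_ hx, hz ▸ ?_⟩
      · have := (mem_normalizer_iff.1 (inv_mem huN) x⁻¹).1 (inv_mem hx)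
        rwa [inv_inv] at this
      · rw [mul_assoc, mul_assoc]
        refine mul_mem (inv_mem huC) ?_
        rw [← mul_assoc]
        have hCn : (centralizer (F.A : Set G)).Normal := inferInstance
        have := hCn.conj_mem u huC x⁻¹
        rwa [inv_inv] at this
    have hzx : Commute z x := (mul_inv_eq_iff_eq_mul.1 (centralize F hE hE4 hx hzA)).symm
    have hzu : Commute z u := mem_centralizer_iff.1 huC z (F.le₂ hzA)
    have h1 := pow_mul_of_central (x := x) (u := u) (z := z) (by rw [hz]; group) hzx hzu p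
    rw [show x * u = x' by rw [hu, mul_inv_cancel_left], hE'.2 x' hx', hE.2 x hx, one_mul] at h1
    have hzp : z ^ p.choose 2 = 1 := by
      obtain ⟨j, hj⟩ := hpf.out.dvd_choose_self two_ne_zero (lt_of_le_of_ne hpf.out.two_le hp.symm)
      rw [hj, pow_mul, F.elem.2 z (F.le₂ hzA), one_pow]
    rw [hzp, mul_one] at h1
    exact hu ▸ F.omega u huC h1.symm
  refine eq_of_le_of_card_ge (fun x' hx' => ?_) (by rw [hE4, hE'4])
  obtain ⟨x, hx, ha⟩ := hlift x' hx'
  obtain ⟨a, hadef⟩ : ∃ a, a = x⁻¹ * x' := ⟨_, rfl⟩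
  rw [← hadef] at ha
  have hx'e : x' = x * a := by rw [hadef, mul_inv_cancel_left]
  by_cases ha₂ : a ∈ F.A₂
  · rw [hx'e]; exact mul_mem hx ((hW.ge ha₂).1)
  exfalso
  -- all the commutators of `a` would lie in a cyclic group
  obtain ⟨δ, hδdef⟩ : ∃ δ, δ = c⁻¹ * (x * c * x⁻¹) := ⟨_, rfl⟩
  have hδA : δ ∈ F.A₂ := hδdef ▸ F.step₂ x c hc
  have hsup : F.A₂ ⊔ zpowers c = F.A := by
    refine eq_of_le_of_card_ge (sup_le F.le₂ (zpowers_le.2 hc)) ?_
    have h3 := card_dvd_of_le (sup_le F.le₂ (zpowers_le.2 hc))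
    rw [F.card₃] at h3
    obtain ⟨i, hi, e⟩ := (Nat.dvd_prime_pow hpf.out).1 h3
    have h4 : p ^ 2 < p ^ i := by
      rw [← e]
      refine lt_of_le_of_ne (F.card₂ ▸ card_le_of_le le_sup_left) fun e' => hc₂ ?_
      rw [eq_of_le_of_card_ge (le_sup_left : F.A₂ ≤ F.A₂ ⊔ zpowers c) (by rw [← e', F.card₂])]
      exact mem_sup_right (mem_zpowers c)
    have := (Nat.pow_lt_pow_iff_right hpf.out.one_lt).1 h4
    rw [F.card₃, e]
    exact Nat.pow_le_pow_right hpf.out.pos (by omega)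
  have hmove : ∀ t ∈ F.A, x * t * x⁻¹ * t⁻¹ ∈ zpowers δ := by
    intro t ht
    haveI := F.hA₂
    rw [← hsup] at ht
    obtain ⟨s, hs, v, hv, rfl⟩ := mem_sup_of_normal_left.1 ht
    obtain ⟨i, rfl⟩ := mem_zpowers_iff.1 hv
    rw [show x * (s * c ^ i) * x⁻¹ = (x * s * x⁻¹) * (x * c * x⁻¹) ^ i by rw [conj_zpow]; group,
      centralize F hE hE4 hx hs, show x * c * x⁻¹ = c * δ by rw [hδdef, mul_inv_cancel_left],
      (show Commute c δ from elem_comm F.elem hc (F.le₂ hδA)).mul_zpow,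
      show s * (c ^ i * δ ^ i) * (s * c ^ i)⁻¹ = (s * c ^ i) * δ ^ i * (s * c ^ i)⁻¹ by group,
      elem_comm F.elem (mul_mem (F.le₂ hs) (zpow_mem hc i)) (zpow_mem (F.le₂ hδA) i), mul_inv_cancel_right]
    exact zpow_mem (mem_zpowers δ) i
  let g : E' ⧸ F.A₂.subgroupOf E' → zpowers δ := fun q =>
    ⟨q.out.1 * a * q.out.1⁻¹ * a⁻¹, by
      obtain ⟨y, hy, hbA⟩ := hlift q.out.1 q.out.2
      obtain ⟨b', hb'⟩ : ∃ b', b' = y⁻¹ * q.out.1 := ⟨_, rfl⟩
      rw [← hb'] at hbA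
      have hye : q.out.1 = y * b' := by rw [hb', mul_inv_cancel_left]
      have hc1 := elem_comm hE' q.out.2 hx'
      rw [hye, hx'e] at hc1
      have h5 : x * b' * x⁻¹ * b'⁻¹ = y * a * y⁻¹ * a⁻¹ := by
        have h6 : y * b' * (x * a) * (x * y)⁻¹ = x * a * (y * b') * (x * y)⁻¹ := by rw [hc1]
        rw [show y * b' * (x * a) * (x * y)⁻¹ = y * x * (x⁻¹ * b' * x) * a * (y * x)⁻¹ by
            rw [elem_comm hE hx hy]; group,
          show x * a * (y * b') * (x * y)⁻¹ = x * y * (y⁻¹ * a * y) * b' * (x * y)⁻¹ by group,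
          elem_comm hE hy hx, mul_left_inj, mul_assoc (x * y), mul_assoc (x * y), mul_right_inj] at h6
        have k1 : x⁻¹ * b' * x ∈ F.A := by simpa using F.hA.conj_mem b' hbA x⁻¹
        have k2 : y⁻¹ * a * y ∈ F.A := by simpa using F.hA.conj_mem a ha y⁻¹
        have h7 : x * y * (x⁻¹ * b' * x * a) * (x * y)⁻¹ = x * y * (y⁻¹ * a * y * b') * (x * y)⁻¹ := by rw [h6]
        rw [show x * y * (x⁻¹ * b' * x * a) * (x * y)⁻¹ =
            (x * y * x⁻¹) * b' * (x * y * x⁻¹)⁻¹ * ((x * y) * a * (x * y)⁻¹) by group,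
          show x * y * x⁻¹ = y by rw [elem_comm hE hx hy, mul_inv_cancel_right],
          show x * y * (y⁻¹ * a * y * b') * (x * y)⁻¹ = x * a * x⁻¹ * ((x * y) * b' * (x * y)⁻¹) by group] at h7
        have m1 : ∀ {w t : G}, t ∈ F.A → ∃ d ∈ F.A₂, w * t * w⁻¹ = t * d := fun {w t} ht =>
          ⟨_, F.step₂ w t ht, (mul_inv_cancel_left t _).symm⟩
        obtain ⟨d1, hd1, e1⟩ := m1 (w := y) hbA
        obtain ⟨d2, hd2, e2⟩ := m1 (w := x) ha
        obtain ⟨d3, hd3, e3⟩ := m1 (w := y) ha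
        obtain ⟨d4, hd4, e4⟩ := m1 (w := x) hbA
        have n1 : x * y * a * (x * y)⁻¹ = a * d2 * d3 := by
          rw [show x * y * a * (x * y)⁻¹ = x * (y * a * y⁻¹) * x⁻¹ by group, e3,
            show x * (a * d3) * x⁻¹ = (x * a * x⁻¹) * (x * d3 * x⁻¹) by group, e2, centralize F hE hE4 hx hd3]
        have n2 : x * y * b' * (x * y)⁻¹ = b' * d4 * d1 := by
          rw [show x * y * b' * (x * y)⁻¹ = x * (y * b' * y⁻¹) * x⁻¹ by group, e1,
            show x * (b' * d1) * x⁻¹ = (x * b' * x⁻¹) * (x * d1 * x⁻¹) by group, e4, centralize F hE hE4 hx hd1]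
        rw [n1, n2, e1, e2] at h7
        have hcA : ∀ {s t : G}, s ∈ F.A → t ∈ F.A → s * t = t * s := fun hs ht => elem_comm F.elem hs ht
        have hd : d3 = d4 := by
          let B : F.A := ⟨b', hbA⟩
          let A' : F.A := ⟨a, ha⟩
          let D1 : F.A := ⟨d1, F.le₂ hd1⟩
          let D2 : F.A := ⟨d2, F.le₂ hd2⟩
          let D3 : F.A := ⟨d3, F.le₂ hd3⟩
          let D4 : F.A := ⟨d4, F.le₂ hd4⟩
          haveI := F.elem.1
          letI : CommGroup F.A := { toGroup := inferInstance, mul_comm := fun u v => Subtype.ext (hcA u.2 v.2) }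
          have h8 : B * D1 * (A' * D2 * D3) = A' * D2 * (B * D4 * D1) := Subtype.ext h7
          have h9 : B * D1 * A' * D2 * D3 = B * D1 * A' * D2 * D4 := by
            calc B * D1 * A' * D2 * D3 = B * D1 * (A' * D2 * D3) := by simp only [mul_assoc]
              _ = A' * D2 * (B * D4 * D1) := h8
              _ = B * D1 * A' * D2 * D4 := by ac_rfl
          exact congrArg Subtype.val (mul_left_cancel h9)
        rw [e4, e3, hd, hcA hbA (F.le₂ hd4), mul_inv_cancel_right, hcA ha (F.le₂ hd4), mul_inv_cancel_right]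
      have h10 : q.out.1 * a * q.out.1⁻¹ = y * a * y⁻¹ := by
        rw [hye, show y * b' * a * (y * b')⁻¹ = y * (b' * a * b'⁻¹) * y⁻¹ by group, elem_comm F.elem hbA ha,
          mul_inv_cancel_right]
      rw [h10, ← h5]
      exact hmove b' hbA⟩
  have hg : Function.Injective g := by
    intro q₁ q₂ h
    have h1 := mul_right_cancel (congrArg Subtype.val h)
    have h2 : (q₁.out⁻¹ * q₂.out : E') ∈ F.A₂.subgroupOf E' := by
      refine mem_subgroupOf.2 (hW'.le ((inf_centralizer_eq F hE' hE'4).le ?_))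
      refine ⟨(q₁.out⁻¹ * q₂.out).2, fix_all F hb hb₁ ha ha₂
        (centralize F hE' hE'4 (q₁.out⁻¹ * q₂.out).2 hb) ?_⟩
      show q₁.out.1⁻¹ * q₂.out.1 * a * (q₁.out.1⁻¹ * q₂.out.1)⁻¹ = a
      rw [show q₁.out.1⁻¹ * q₂.out.1 * a * (q₁.out.1⁻¹ * q₂.out.1)⁻¹ =
        q₁.out.1⁻¹ * (q₂.out.1 * a * q₂.out.1⁻¹) * q₁.out.1 by group, ← h1]
      group
    have h3 := QuotientGroup.eq.2 h2
    rwa [QuotientGroup.out_eq', QuotientGroup.out_eq'] at h3
  have h1 : F.A₂.relIndex E' ≤ Nat.card (zpowers δ) := Nat.card_le_card_of_injective g hg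
  rw [Nat.card_zpowers] at h1
  have h2 := relIndex_mul_relIndex ⊥ F.A₂ E' bot_le (hW' ▸ inf_le_left)
  rw [relIndex_bot_left, relIndex_bot_left, F.card₂, hE'4, show p ^ 4 = p ^ 2 * p ^ 2 by ring] at h2
  rw [Nat.eq_of_mul_eq_mul_left (pow_pos hpf.out.pos 2) h2] at h1
  have h3 : orderOf δ ≤ p := Nat.le_of_dvd hpf.out.pos (orderOf_dvd_of_pow_eq_one (F.elem.2 δ (F.le₂ hδA)))
  have h4 : p ^ 1 < p ^ 2 := Nat.pow_lt_pow_succ hpf.out.one_lt
  rw [pow_one] at h4
  omega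

omit hE hE4

/-- Konvisser's theorem in rank four. -/
theorem exists_normal : ∀ (n : ℕ) (G : Type*) [Group G] [Finite G] (_ : IsPGroup p G) (_ : p ≠ 2)
    (E : Subgroup G) (_ : Cfsg.IsElementaryAbelian p E) (_ : Nat.card E = p ^ 4) (_ : Nat.card G = n),
    ∃ A : Subgroup G, A.Normal ∧ Cfsg.IsElementaryAbelian p A ∧ Nat.card A = p ^ 4 := by
  intro n
  induction n using Nat.strong_induction_on with
  | _ n ih =>
    intro G _ _ hG hp E hE hE4 hn
    rcases exists_frame hG hp hE hE4 with h | ⟨⟨F⟩⟩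
    · exact h
    by_cases htop : E = ⊤
    · exact ⟨E, htop ▸ inferInstance, hE, hE4⟩
    obtain ⟨M, hM, hEM⟩ := (eq_top_or_exists_le_coatom E).resolve_left htop
    haveI := hG.isNilpotent
    haveI hMn : M.Normal := (Group.normalizerCondition_of_isNilpotent).normal_of_coatom M hM
    have hlt : Nat.card M < n := by
      rw [← hn]
      exact lt_of_le_of_ne (Subgroup.card_le_card_group M) fun e => hM.1 (eq_top_of_card_eq M e)
    obtain ⟨E₁, hE₁n, hE₁, hE₁4⟩ := ih (Nat.card M) hlt M (hG.to_subgroup M) hp (E.subgroupOf M)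
      ⟨isMulCommutative_iff.2 fun a b => Subtype.ext (Subtype.ext (elem_comm hE a.2 b.2)),
        fun a ha => Subtype.ext (by rw [SubmonoidClass.coe_pow]; exact hE.2 a.1 ha)⟩
      (by rw [Nat.card_congr (subgroupOfEquivOfLe hEM).toEquiv, hE4]) rfl
    refine ⟨E₁.map M.subtype, ⟨fun x hx g => ?_⟩, ⟨isMulCommutative_iff.2 ?_, ?_⟩, ?_⟩
    swap
    · rintro ⟨_, a, ha, rfl⟩ ⟨_, b, hb, rfl⟩
      exact Subtype.ext (congrArg M.subtype (elem_comm hE₁ ha hb))
    swap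
    · rintro _ ⟨a, ha, rfl⟩
      rw [← map_pow, hE₁.2 a ha, map_one]
    swap
    · rw [card_map_of_injective M.subtype_injective, hE₁4]
    have hel : ∀ (k : G), Cfsg.IsElementaryAbelian p ((E₁.map M.subtype).map (MulAut.conj k).toMonoidHom) ∧
        Nat.card ((E₁.map M.subtype).map (MulAut.conj k).toMonoidHom) = p ^ 4 := by
      intro k
      refine ⟨⟨isMulCommutative_iff.2 ?_, ?_⟩, ?_⟩
      · rintro ⟨_, _, ⟨a, ha, rfl⟩, rfl⟩ ⟨_, _, ⟨b, hb, rfl⟩, rfl⟩
        refine Subtype.ext ?_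
        show (MulAut.conj k) (M.subtype a) * (MulAut.conj k) (M.subtype b) = _
        rw [← map_mul, ← map_mul, elem_comm hE₁ ha hb, map_mul, map_mul]
        rfl
      · rintro _ ⟨_, ⟨a, ha, rfl⟩, rfl⟩
        rw [← map_pow, ← map_pow, hE₁.2 a ha, map_one, map_one]
      · rw [card_map_of_injective (MulAut.conj k).injective, card_map_of_injective M.subtype_injective, hE₁4]
    have heq := unique F (E := E₁.map M.subtype) (E' := (E₁.map M.subtype).map (MulAut.conj g).toMonoidHom)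
      ⟨isMulCommutative_iff.2 (by
          rintro ⟨_, a, ha, rfl⟩ ⟨_, b, hb, rfl⟩
          exact Subtype.ext (congrArg M.subtype (elem_comm hE₁ ha hb))),
        (by rintro _ ⟨a, ha, rfl⟩; rw [← map_pow, hE₁.2 a ha, map_one])⟩
      (by rw [card_map_of_injective M.subtype_injective, hE₁4]) hp (hel g).1 (hel g).2
      (by
        rintro _ ⟨_, ⟨a, ha, rfl⟩, rfl⟩
        have hmem : g * a.1 * g⁻¹ ∈ M := hMn.conj_mem _ a.2 g
        refine mem_normalizer_iff.2 fun y => ⟨?_, ?_⟩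
        · rintro ⟨y, hy, rfl⟩
          exact ⟨⟨_, hmem⟩ * y * ⟨_, hmem⟩⁻¹, hE₁n.conj_mem y hy _, rfl⟩
        · rintro ⟨y', hy', e⟩
          refine ⟨⟨_, hmem⟩⁻¹ * y' * ⟨_, hmem⟩, by simpa using hE₁n.conj_mem y' hy' ⟨_, hmem⟩⁻¹, ?_⟩
          simp only [map_mul, map_inv, coe_subtype] at e ⊢
          rw [e]
          show (g * a.1 * g⁻¹)⁻¹ * (g * a.1 * g⁻¹ * y * (g * a.1 * g⁻¹)⁻¹) * (g * a.1 * g⁻¹) = y
          group)
    exact heq ▸ mem_map_of_mem _ hx

end CfsgLib.PGroup.RankFour
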