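import Cfsg.Agent.Lib.PGroup.MaxClassCubeLayer

/-!
# Systems of maps on a group of maximal class with a class of cubic subgroups

The data of a fusion system used for the cubic subgroups: maps on subgroups, the class of `E`,
and extension of self-maps of a subgroup to its normalizer up to maps of weight one.
-/

set_option autoImplicit false
set_option linter.style.haveILetI false
set_option linter.unusedSectionVars false
set_option maxHeartbeats 1000000

open Subgroup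
open scoped commutatorElement

namespace CfsgLib.MaxClassCube

open CfsgLib.MaxClassShift (gam gam_normal gam_anti gam_comm)
open CfsgLib.Fusion (conjBy conjBy_le_iff conjBy_eq_iff card_conjBy)

universe u

variable {G : Type u} [Group G]

/-- The subgroup generated by `f '' L`. -/
def img (L : Subgroup G) (f : G → G) : Subgroup G := closure (f '' (L : Set G))

section Img

variable {L : Subgroup G} {f : G → G} (hf : MulOn L f)
include hf

theorem MulOn.map_one : f 1 = 1 := by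
  have h := hf 1 L.one_mem 1 L.one_mem
  rw [mul_one] at h
  exact mul_eq_left.1 h.symm

theorem MulOn.map_inv {x : G} (hx : x ∈ L) : f x⁻¹ = (f x)⁻¹ := by
  refine eq_inv_of_mul_eq_one_left ?_
  rw [← hf _ (L.inv_mem hx) _ hx, inv_mul_cancel, hf.map_one]

/-- The homomorphism given by `f` on `L`. -/
def MulOn.toHom : L →* G := MonoidHom.mk' (fun x => f x) fun x y => hf _ x.2 _ y.2

theorem MulOn.map_zpow {x : G} (hx : x ∈ L) (r : ℤ) : f (x ^ r) = f x ^ r :=
  _root_.map_zpow hf.toHom (⟨x, hx⟩ : L) r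

theorem MulOn.map_comm {x y : G} (hx : x ∈ L) (hy : y ∈ L) : f ⁅x, y⁆ = ⁅f x, f y⁆ :=
  map_commutatorElement hf.toHom (⟨x, hx⟩ : L) ⟨y, hy⟩

theorem MulOn.img_eq_range : img L f = hf.toHom.range := by
  refine le_antisymm ((closure_le _).2 ?_) ?_
  · rintro _ ⟨x, hx, rfl⟩
    exact ⟨⟨x, hx⟩, rfl⟩
  · rintro _ ⟨x, rfl⟩
    exact subset_closure ⟨x, x.2, rfl⟩

theorem MulOn.mem_img {y : G} : y ∈ img L f ↔ ∃ x ∈ L, f x = y := by
  rw [hf.img_eq_range]
  exact ⟨fun ⟨x, hx⟩ => ⟨x, x.2, hx⟩, fun ⟨x, hx, e⟩ => ⟨⟨x, hx⟩, e⟩⟩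

theorem MulOn.mem_of_mem {x : G} (hx : x ∈ L) : f x ∈ img L f := hf.mem_img.2 ⟨x, hx, rfl⟩

theorem MulOn.card_img (hi : ∀ x ∈ L, f x = 1 → x = 1) : Nat.card (img L f) = Nat.card L := by
  rw [hf.img_eq_range]
  refine (Nat.card_congr (MonoidHom.ofInjective ?_).toEquiv).symm
  rw [injective_iff_map_eq_one]
  exact fun x hx => Subtype.ext (hi _ x.2 hx)

theorem MulOn.mono {K : Subgroup G} (h : K ≤ L) : MulOn K f := fun x hx y hy => hf x (h hx) y (h hy)

theorem MulOn.comm_le {A B A' B' : Subgroup G} (hA : A ≤ L) (hB : B ≤ L)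
    (hfA : ∀ x ∈ A, f x ∈ A') (hfB : ∀ x ∈ B, f x ∈ B') {x : G} (hx : x ∈ ⁅A, B⁆) :
    x ∈ L ∧ f x ∈ ⁅A', B'⁆ := by
  have hle : ⁅A, B⁆ ≤ ((⁅A', B'⁆ : Subgroup G).comap hf.toHom).map L.subtype := by
    rw [commutator_le]
    intro a ha b hb
    refine ⟨⁅(⟨a, hA ha⟩ : L), ⟨b, hB hb⟩⁆, mem_comap.2 ?_, map_commutatorElement L.subtype _ _⟩
    rw [map_commutatorElement]
    exact commutator_mem_commutator (hfA a ha) (hfB b hb)
  obtain ⟨z, hz, rfl⟩ := hle hx
  exact ⟨z.2, hz⟩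

end Img

/-- The maps and the class. -/
structure Sys (G : Type u) [Group G] (p : ℕ) where
  Map : Subgroup G → (G → G) → Prop
  cube : Subgroup G → Prop
  mulOn : ∀ {L f}, Map L f → MulOn L f
  inj : ∀ {L f}, Map L f → ∀ x ∈ L, f x = 1 → x = 1
  mono : ∀ {L K f}, Map L f → K ≤ L → Map K f
  conj : ∀ (L : Subgroup G) (g : G), Map L fun x => g * x * g⁻¹
  comp : ∀ {L f g}, Map L f → Map (img L f) g → Map L (g ∘ f)
  inv : ∀ {L f}, Map L f → ∃ g, Map (img L f) g ∧ ∀ x ∈ L, g (f x) = x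
  cubic : ∀ {E}, cube E → Cubic p E
  cube_map : ∀ {E f}, cube E → Map E f → cube (img E f)
  ext : ∀ L, ∃ f, Map L f ∧ ∀ α, Map (img L f) α → (∀ x ∈ img L f, α x ∈ img L f) →
    ∃ ν, Map (normalizer ((img L f : Subgroup G) : Set G)) ν ∧
      (∀ x ∈ normalizer ((img L f : Subgroup G) : Set G), ν x ∈ normalizer ((img L f : Subgroup G) : Set G)) ∧
      (∀ x ∈ img L f, ν x ∈ img L f) ∧
      ∀ A B : Subgroup G, Step p A B → A ≤ img L f →
        (∀ β, Map (img L f) β → (∀ x ∈ img L f, β x ∈ img L f) →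
          (∀ x ∈ A, β x ∈ A) ∧ ∀ x ∈ B, β x ∈ B) →
        ∀ r : ℤ, Wt A B α r → Wt A B ν r

variable [Finite G] {p n : ℕ} [Fact p.Prime] {E L : Subgroup G} (hA : Amb G p n) (σ : Sys G p)
  (hE : σ.cube E) (hNL : normalizer (E : Set G) ≤ L)
  (hLC : L ≤ centralizer ((cz E : Subgroup G) : Set G))
include hA hE hNL hLC

theorem transport {f : G → G} (hf : σ.Map L f) :
    σ.cube (img E f) ∧ normalizer ((img E f : Subgroup G) : Set G) ≤ img L f ∧
      img L f ≤ centralizer ((cz (img E f) : Subgroup G) : Set G) ∧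
      (∀ x ∈ cz E, f x ∈ cz (img E f)) ∧ (∀ x ∈ Kd L, f x ∈ Kd (img L f)) ∧
      ∀ x ∈ Fd E, f x ∈ Fd (img E f) := by
  have hEc := σ.cubic hE
  have hm := σ.mulOn hf
  have hEL : E ≤ L := le_normalizer.trans hNL
  have hmE := hm.mono hEL
  have hE' : σ.cube (img E f) := σ.cube_map hE (σ.mono hf hEL)
  have hEc' := σ.cubic hE'
  -- the normalizer
  have hN : img (normalizer (E : Set G)) f = normalizer ((img E f : Subgroup G) : Set G) := by
    refine eq_of_le_of_card_ge (fun y hy => ?_) ?_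
    · obtain ⟨x, hx, rfl⟩ := (hm.mono hNL).mem_img.1 hy
      refine conjBy_eq_iff.1 (CfsgLib.Fusion.conjBy_eq_of_le (conjBy_le_iff.2 fun z hz => ?_))
      obtain ⟨w, hw, rfl⟩ := hmE.mem_img.1 hz
      rw [← hm _ (hNL hx) _ (hEL hw), ← hm.map_inv (hNL hx),
        ← hm _ (L.mul_mem (hNL hx) (hEL hw)) _ (L.inv_mem (hNL hx))]
      exact hmE.mem_of_mem ((mem_normalizer_iff.1 hx w).1 hw)
    · rw [hEc'.norm, (hm.mono hNL).card_img (fun x hx => σ.inj hf x (hNL hx)), hEc.norm]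
  have hNL' : normalizer ((img E f : Subgroup G) : Set G) ≤ img L f := by
    rw [← hN]
    exact fun y hy => by
      obtain ⟨x, hx, rfl⟩ := (hm.mono hNL).mem_img.1 hy
      exact hm.mem_of_mem (hNL hx)
  have hzL : cz E ≤ L := inf_le_left.trans hEL
  have hcz : ∀ x ∈ cz E, f x ∈ cz (img E f) := fun x hx => by
    refine hEc'.mem_cz hA (hN ▸ (hm.mono hNL).mem_of_mem (le_normalizer (mem_inf.1 hx).1)) fun y hy => ?_
    rw [← hN] at hy
    obtain ⟨w, hw, rfl⟩ := (hm.mono hNL).mem_img.1 hy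
    rw [← hm _ (hNL hw) _ (hzL hx), ← hm _ (hzL hx) _ (hNL hw),
      mem_centralizer_iff.1 (mem_inf.1 hx).2 w hw]
  have hczimg : img (cz E) f = cz (img E f) := by
    refine eq_of_le_of_card_ge (fun y hy => ?_) ?_
    · obtain ⟨x, hx, rfl⟩ := (hm.mono hzL).mem_img.1 hy
      exact hcz x hx
    · rw [(hEc'.card_cz hA).1, (hm.mono hzL).card_img (fun x hx => σ.inj hf x (hzL hx)), (hEc.card_cz hA).1]
  have hLC' : img L f ≤ centralizer ((cz (img E f) : Subgroup G) : Set G) := fun y hy =>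
    mem_centralizer_iff.2 fun z hz => by
      obtain ⟨x, hx, rfl⟩ := hm.mem_img.1 hy
      rw [← hczimg] at hz
      obtain ⟨w, hw, rfl⟩ := (hm.mono hzL).mem_img.1 hz
      rw [← hm _ (hzL hw) _ hx, ← hm _ hx _ (hzL hw), mem_centralizer_iff.1 (hLC hx) w hw]
  -- the derived part
  have hKL : Kd L ≤ L := inf_le_left
  have hK : ∀ x ∈ Kd L, f x ∈ Kd (img L f) := by
    have hcK := (step_Kd hA hEc hNL hLC).card
    have hle : img (Kd L) f ≤ img L f := fun y hy => by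
      obtain ⟨x, hx, rfl⟩ := (hm.mono hKL).mem_img.1 hy
      exact hm.mem_of_mem (hKL hx)
    have hzK : cz (img E f) ≤ img (Kd L) f := by
      rw [← hczimg]
      intro y hy
      obtain ⟨x, hx, rfl⟩ := (hm.mono hzL).mem_img.1 hy
      exact (hm.mono hKL).mem_of_mem (mem_inf.2 ⟨hzL hx, hEc.cz_le_gam hA hx⟩)
    intro x hx
    by_contra hne
    obtain ⟨g, hg, hgM⟩ := exists_conj_le hA hEc' hNL' hLC' hle hzK
      (by rw [hm.card_img (σ.inj hf), (hm.mono hKL).card_img (fun z hz => σ.inj hf z (hKL hz)), hcK])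
      (fun e => hne (e ▸ (hm.mono hKL).mem_of_mem hx))
    obtain ⟨h, hh, hhi⟩ := σ.inv (σ.mono hf hKL)
    have hconj : img (img E f) (fun z => g * z * g⁻¹) = conjBy g (img E f) := by
      have hc : MulOn (img E f) (fun z => g * z * g⁻¹) := fun a _ b _ => by group
      ext y
      rw [hc.mem_img, CfsgLib.Fusion.mem_conjBy]
      refine ⟨fun ⟨z, hz, e⟩ => by subst e; simpa [mul_assoc] using hz, fun hy => ⟨_, hy, by group⟩⟩
    have hcu := σ.cube_map hE' (σ.conj (img E f) g)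
    rw [hconj] at hcu
    have hcu2 := σ.cube_map hcu (σ.mono hh hgM)
    refine (σ.cubic hcu2).not_le_gam hA fun y hy => ?_
    obtain ⟨z, hz, rfl⟩ := ((σ.mulOn hh).mono hgM).mem_img.1 hy
    obtain ⟨w, hw, rfl⟩ := (hm.mono hKL).mem_img.1 (hgM hz)
    rw [hhi w hw]
    exact (mem_inf.1 hw).2
  refine ⟨hE', hNL', hLC', hcz, hK, fun x hx => ?_⟩
  obtain ⟨hxK, hxc⟩ := (mem_Fd_iff hA hEc hNL hLC).1 hx
  refine (mem_Fd_iff hA hEc' hNL' hLC').2 ⟨hK x hxK, fun l hl => ?_⟩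
  obtain ⟨w, hw, rfl⟩ := hm.mem_img.1 hl
  rw [← hm.map_comm (hKL hxK) hw]
  exact hcz _ (hxc w hw)

/-- A self-map of `L` preserves the characteristic subgroups. -/
theorem self_invariant {f : G → G} (hf : σ.Map L f) (hfL : ∀ x ∈ L, f x ∈ L) :
    (∀ x ∈ cz E, f x ∈ cz E) ∧ (∀ x ∈ Kd L, f x ∈ Kd L) ∧ ∀ x ∈ Fd E, f x ∈ Fd E := by
  obtain ⟨hE', hNL', hLC', hcz, hK, hF⟩ := transport hA σ hE hNL hLC hf
  have hL : img L f = L := eq_of_le_of_card_ge (fun y hy => by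
    obtain ⟨x, hx, rfl⟩ := (σ.mulOn hf).mem_img.1 hy
    exact hfL x hx) ((σ.mulOn hf).card_img (σ.inj hf)).ge
  rw [hL] at hNL' hLC' hK
  have hEc := σ.cubic hE
  have hEc' := σ.cubic hE'
  have hz : ∀ x, x ∈ cz (img E f) ↔ x ∈ cz E := fun x =>
    (mem_cz_iff hA hEc' hNL' hLC').trans (mem_cz_iff hA hEc hNL hLC).symm
  refine ⟨fun x hx => (hz _).1 (hcz x hx), hK, fun x hx => ?_⟩
  obtain ⟨h1, h2⟩ := (mem_Fd_iff hA hEc' hNL' hLC').1 (hF x hx)
  exact (mem_Fd_iff hA hEc hNL hLC).2 ⟨h1, fun l hl => (hz _).1 (h2 l hl)⟩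

/-! ### The invariant line -/

omit hA hE hNL hLC in
/-- The invariant line of `cz E`. -/
noncomputable def line (L E : Subgroup G) : Subgroup G :=
  open Classical in if ⁅Fd E, Kd L⁆ = ⊥ then ⁅Fd E, L⁆ else ⁅Fd E, Kd L⁆

theorem comm_cz {y l : G} (hy : y ∈ Fd E) (hl : l ∈ L) : ⁅y, l⁆ ∈ cz E :=
  ((mem_Fd_iff hA (σ.cubic hE) hNL hLC).1 hy).2 l hl

theorem line_le : line L E ≤ cz E := by
  have h : ∀ M ≤ L, ⁅Fd E, M⁆ ≤ cz E := fun M hM =>
    commutator_le.2 fun y hy l hl => comm_cz hA σ hE hNL hLC hy (hM hl)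
  rw [line]
  split
  · exact h L le_rfl
  · exact h _ inf_le_left

theorem comm_zpow_mul {y l : G} (hy : y ∈ Fd E) (hl : l ∈ L) {z : G} (hz : z ∈ cz E) (i : ℤ) :
    ⁅y ^ i * z, l⁆ = ⁅y, l⁆ ^ i := by
  have hEc := σ.cubic hE
  have hzc := (mem_cz_iff hA hEc hNL hLC).1 hz
  have hc := (mem_cz_iff hA hEc hNL hLC).1 (comm_cz hA σ hE hNL hLC hy hl)
  rw [commutatorElement_mul_left_eq_conj_mul,
    commutatorElement_eq_one_iff_commute.2 (hzc.2 l hl).symm, mul_one, mul_inv_cancel, one_mul]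
  have h1 := commutator_zpow (x := y) (y := l) (hc.2 y (hNL (mem_inf.1 hy).1)).symm (hc.2 l hl).symm i 1
  rwa [zpow_one, mul_one] at h1

theorem card_line : Nat.card (line L E) = p := by
  classical
  have hp := (Fact.out : p.Prime)
  have hEc := σ.cubic hE
  obtain ⟨y, hy, hyz⟩ := SetLike.not_le_iff_exists.1 (step_Fd hA hEc hNL hLC).not_le
  have hyL : y ∈ L := hNL (mem_inf.1 hy).1
  let ψ : L →* cz E := MonoidHom.mk' (fun l => ⟨⁅y, (l : G)⁆, comm_cz hA σ hE hNL hLC hy l.2⟩) fun a b => by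
    apply Subtype.ext
    show ⁅y, (a : G) * b⁆ = ⁅y, (a : G)⁆ * ⁅y, (b : G)⁆
    rw [commutatorElement_mul_right_eq_mul_conj, mul_assoc ⁅y, (a : G)⁆,
      ((mem_cz_iff hA hEc hNL hLC).1 (comm_cz hA σ hE hNL hLC hy b.2)).2 a a.2, mul_assoc,
      mul_inv_cancel_right]
  have himg : ∀ M ≤ L, ⁅Fd E, M⁆ = ((M.subgroupOf L).map ψ).map (cz E).subtype := by
    intro M hM
    refine le_antisymm (commutator_le.2 fun y' hy' l hl => ?_) ?_
    · obtain ⟨i, hi⟩ := (step_Fd hA hEc hNL hLC).zpow_eq hy hyz hy'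
      rw [show y' = y ^ i * ((y ^ i)⁻¹ * y') from (mul_inv_cancel_left _ _).symm,
        comm_zpow_mul hA σ hE hNL hLC hy (hM hl) hi i]
      exact zpow_mem ((⟨ψ ⟨l, hM hl⟩, mem_map_of_mem ψ (mem_subgroupOf.2 hl), rfl⟩ :
        ⁅y, l⁆ ∈ ((M.subgroupOf L).map ψ).map (cz E).subtype)) i
    · rintro _ ⟨_, ⟨l, hl, rfl⟩, rfl⟩
      exact commutator_mem_commutator hy (mem_subgroupOf.1 hl)
  have hker : ψ.ker ≤ (Kd L).subgroupOf L := fun l hl => mem_subgroupOf.2 (mem_inf.2 ⟨l.2, by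
    by_contra hlg
    exact Fd_not_commute hA hEc hNL hLC hy hyz l.2 hlg
      (commutatorElement_eq_one_iff_mul_comm.1 (congrArg Subtype.val hl))⟩)
  have hK := (step_Kd hA hEc hNL hLC).card
  have hcK : Nat.card ((Kd L).subgroupOf L) = Nat.card (Kd L) :=
    Nat.card_congr (subgroupOfEquivOfLe inf_le_left).toEquiv
  have eK := card_map_mul_card_inf_ker' ψ ((Kd L).subgroupOf L)
  rw [inf_eq_right.2 hker, hcK] at eK
  have eL := card_map_mul_card_inf_ker' ψ (⊤ : Subgroup L)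
  rw [top_inf_eq, card_top, hK, ← eK, ← mul_assoc] at eL
  have eL' := Nat.eq_of_mul_eq_mul_right Nat.card_pos eL
  have hcard : ∀ A : Subgroup (cz E), Nat.card (A.map (cz E).subtype) = Nat.card A := fun A =>
    card_map_of_injective (cz E).subtype_injective
  rw [line]
  split
  next h =>
    rw [himg _ le_rfl, subgroupOf_self, hcard, eL']
    have h1 : Nat.card (((Kd L).subgroupOf L).map ψ) = 1 := by
      rw [← hcard, ← himg _ inf_le_left, h, card_bot]
    rw [h1, mul_one]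
  next h =>
    rw [himg _ inf_le_left, hcard]
    have h2 : Nat.card ((⊤ : Subgroup L).map ψ) ≤ p ^ 2 := by
      rw [← (hEc.card_cz hA).1]
      exact card_le_card_group _
    rw [eL', pow_two] at h2
    refine le_antisymm (Nat.le_of_mul_le_mul_left h2 hp.pos) ?_
    have hne : ((Kd L).subgroupOf L).map ψ ≠ ⊥ := fun e => h (by rw [himg _ inf_le_left, e, Subgroup.map_bot])
    have h3 := mul_card_le (G := ↥(cz E)) (hA.isP.to_subgroup _) (bot_lt_iff_ne_bot.2 hne)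
    rwa [card_bot, mul_one] at h3

theorem step_line : Step p (cz E) (line L E) ∧ Step p (line L E) ⊥ := by
  have hEc := σ.cubic hE
  refine ⟨⟨line_le hA σ hE hNL hLC, fun x hx => ?_, ?_⟩, ⟨bot_le, ?_, ?_⟩⟩
  · refine conjBy_eq_iff.1 (CfsgLib.Fusion.conjBy_eq_of_le (conjBy_le_iff.2 fun z hz => ?_))
    have h1 := ((mem_cz_iff hA hEc hNL hLC).1 hx).2 z
      (hNL (le_normalizer (mem_inf.1 (line_le hA σ hE hNL hLC hz)).1))
    rwa [← h1, mul_inv_cancel_right]
  · rw [(hEc.card_cz hA).1, card_line hA σ hE hNL hLC, pow_two]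
  · rw [normalizer_eq_top]; exact le_top
  · rw [card_bot, card_line hA σ hE hNL hLC, mul_one]

theorem line_transport {f : G → G} (hf : σ.Map L f) :
    ∀ x ∈ line L E, f x ∈ line (img L f) (img E f) := by
  classical
  obtain ⟨hE', hNL', hLC', hcz, hK, hF⟩ := transport hA σ hE hNL hLC hf
  have hm := σ.mulOn hf
  have hFL : Fd E ≤ L := inf_le_left.trans hNL
  have hF' : Fd (img E f) ≤ img L f := inf_le_left.trans hNL'
  intro x hx
  rw [line] at hx
  have hiff : ⁅Fd E, Kd L⁆ = ⊥ ↔ ⁅Fd (img E f), Kd (img L f)⁆ = ⊥ := by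
    have hKi : img (Kd L) f = Kd (img L f) := by
      refine eq_of_le_of_card_ge (fun y hy => ?_) ?_
      · obtain ⟨z, hz, rfl⟩ := (hm.mono inf_le_left).mem_img.1 hy
        exact hK z hz
      · rw [(hm.mono inf_le_left).card_img (fun z hz => σ.inj hf z (mem_inf.1 hz).1)]
        have h1 := (step_Kd hA (σ.cubic hE') hNL' hLC').card
        have h2 := (step_Kd hA (σ.cubic hE) hNL hLC).card
        rw [hm.card_img (σ.inj hf), h2] at h1
        exact (Nat.eq_of_mul_eq_mul_left (Fact.out : p.Prime).pos h1).ge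
    have hFi : img (Fd E) f = Fd (img E f) := by
      refine eq_of_le_of_card_ge (fun y hy => ?_) ?_
      · obtain ⟨z, hz, rfl⟩ := (hm.mono hFL).mem_img.1 hy
        exact hF z hz
      · rw [(hm.mono hFL).card_img (fun z hz => σ.inj hf z (hFL hz)),
          (step_Fd hA (σ.cubic hE') hNL' hLC').card, (step_Fd hA (σ.cubic hE) hNL hLC).card,
          ((σ.cubic hE').card_cz hA).1, ((σ.cubic hE).card_cz hA).1]
    constructor
    · intro h
      rw [eq_bot_iff, commutator_le, ← hKi, ← hFi]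
      intro a ha b hb
      obtain ⟨a, ha', rfl⟩ := (hm.mono hFL).mem_img.1 ha
      obtain ⟨b, hb', rfl⟩ := (hm.mono inf_le_left).mem_img.1 hb
      have h1 : ⁅a, b⁆ = 1 := mem_bot.1 (h ▸ commutator_mem_commutator ha' hb')
      rw [mem_bot, ← hm.map_comm (hFL ha') (mem_inf.1 hb').1, h1, hm.map_one]
    · intro h
      rw [eq_bot_iff]
      intro z hz
      obtain ⟨hzL, hz'⟩ := hm.comm_le hFL inf_le_left hF hK hz
      rw [h, mem_bot] at hz'
      exact mem_bot.2 (σ.inj hf z hzL hz')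
  rw [line]
  split at hx
  next h =>
    rw [if_pos (hiff.1 h)]
    exact (hm.comm_le hFL le_rfl hF (fun z hz => hm.mem_of_mem hz) hx).2
  next h =>
    rw [if_neg (fun e => h (hiff.2 e))]
    exact (hm.comm_le hFL inf_le_left hF hK hx).2

theorem line_self {f : G → G} (hf : σ.Map L f) (hfL : ∀ x ∈ L, f x ∈ L) :
    ∀ x ∈ line L E, f x ∈ line L E := by
  classical
  obtain ⟨-, hK, hF⟩ := self_invariant hA σ hE hNL hLC hf hfL
  have hm := σ.mulOn hf
  intro x hx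
  rw [line] at hx ⊢
  split at hx
  next h =>
    rw [if_pos h]
    exact (hm.comm_le (inf_le_left.trans hNL) le_rfl hF hfL hx).2
  next h =>
    rw [if_neg h]
    exact (hm.comm_le (inf_le_left.trans hNL) inf_le_left hF hK hx).2

omit hA hE hNL hLC in
/-- Two invariant lines in a group of order `p²` carry the same pair of weights. -/
theorem pair_weights {Z D D' : Subgroup G} {f : G → G} (h1 : Step p Z D) (h2 : Step p D ⊥)
    (h1' : Step p Z D') (h2' : Step p D' ⊥) (hm : MulOn Z f) (hD : ∀ x ∈ D, f x ∈ D)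
    (hD' : ∀ x ∈ D', f x ∈ D') (hZ : ∀ x ∈ Z, f x ∈ Z) {r s r' s' : ℤ} (hr : Wt D ⊥ f r)
    (hs : Wt Z D f s) (hr' : Wt D' ⊥ f r') (hs' : Wt Z D' f s') :
    ((r : ZMod p) = r' ∧ (s : ZMod p) = s') ∨ ((r : ZMod p) = s' ∧ (s : ZMod p) = r') := by
  by_cases e : D = D'
  · subst e
    exact Or.inl ⟨h2.wt_unique hr hr', h1.wt_unique hs hs'⟩
  have key : ∀ {D D' : Subgroup G}, Step p Z D → Step p D ⊥ → Step p Z D' → Step p D' ⊥ → D ≠ D' →
      ∀ {r : ℤ}, Wt D ⊥ f r → (∀ x ∈ D', f x ∈ D') → Wt Z D' f r := by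
    intro D D' h1 h2 h1' h2' e r hr hD'
    have hnle : ¬ D ≤ D' := fun h => e (eq_of_le_of_card_ge h (by
      rw [h2.card, h2'.card]))
    obtain ⟨x, hx, hx'⟩ := SetLike.not_le_iff_exists.1 hnle
    exact h1'.wt_of_gen hm hD' (h1.le hx) hx' ((mem_bot.1 (hr x hx)).symm ▸ D'.one_mem) hZ
  exact Or.inr ⟨h1'.wt_unique (key h1 h2 h1' h2' e hr hD') hs',
    h1.wt_unique hs (key h1' h2' h1 h2 (Ne.symm e) hr' hD)⟩

end CfsgLib.MaxClassCube
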