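import Mathlib.GroupTheory.Nilpotent
import Mathlib.GroupTheory.QuotientGroup.Basic

/-!
# Iterated commutators with a normal subgroup

The three subgroups lemma relative to a normal subgroup, and its consequence that the lower
central series of `B` moves down any chain which `B` moves down one step at a time.
-/

set_option autoImplicit false
set_option linter.style.haveILetI false

namespace CfsgLib.PGroup

open Subgroup

variable {G : Type*} [Group G]

/-- The three subgroups lemma modulo a normal subgroup. -/
theorem commutator_commutator_le_of_rotate_normal {H₁ H₂ H₃ N : Subgroup G} [N.Normal]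
    (h1 : ⁅⁅H₂, H₃⁆, H₁⁆ ≤ N) (h2 : ⁅⁅H₃, H₁⁆, H₂⁆ ≤ N) : ⁅⁅H₁, H₂⁆, H₃⁆ ≤ N := by
  have key : ∀ X : Subgroup G, X ≤ N ↔ X.map (QuotientGroup.mk' N) = ⊥ := fun X => by
    rw [Subgroup.map_eq_bot_iff, QuotientGroup.ker_mk']
  rw [key, map_commutator, map_commutator] at h1 h2 ⊢
  exact commutator_commutator_eq_bot_of_rotate h1 h2

/-- The iterated commutators `[A, B, …, B]`. -/
def iterComm (A B : Subgroup G) : ℕ → Subgroup G
  | 0 => A
  | n + 1 => ⁅iterComm A B n, B⁆

theorem iterComm_succ (A B : Subgroup G) (n : ℕ) : iterComm A B (n + 1) = ⁅iterComm A B n, B⁆ :=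
  rfl

theorem iterComm_succ' (A B : Subgroup G) (n : ℕ) :
    iterComm A B (n + 1) = iterComm ⁅A, B⁆ B n := by
  induction n with
  | zero => rfl
  | succ n ih => rw [iterComm_succ, ih, iterComm_succ]

theorem iterComm_normal (A B : Subgroup G) [A.Normal] [B.Normal] (n : ℕ) :
    (iterComm A B n).Normal := by
  induction n with
  | zero => assumption
  | succ n ih => rw [iterComm_succ]; infer_instance

/-- If each term of a chain of normal subgroups is moved into the next by `B`, then the term of
the lower central series of `B` with index `j` moves it `j + 1` steps. -/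
theorem commutator_lowerCentralSeries_le_chain {D : ℕ → Subgroup G} (hn : ∀ i, (D i).Normal)
    {B : Subgroup G} (h : ∀ i, ⁅D i, B⁆ ≤ D (i + 1)) (j : ℕ) :
    ∀ i, ⁅D i, B.lowerCentralSeries j⁆ ≤ D (i + j + 1) := by
  induction j with
  | zero => exact h
  | succ j ih =>
    intro i
    haveI := hn (i + (j + 1) + 1)
    rw [Subgroup.lowerCentralSeries_succ, commutator_comm]
    refine commutator_commutator_le_of_rotate_normal ?_ ?_
    · refine le_trans (commutator_mono ?_ le_rfl) ((ih (i + 1)).trans (le_of_eq ?_))
      · rw [commutator_comm]; exact h i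
      · congr 1; omega
    · exact le_trans (commutator_mono (ih i) le_rfl) (h (i + j + 1))

theorem commutator_lowerCentralSeries_le_iterComm (A B : Subgroup G) [A.Normal] [B.Normal]
    (j : ℕ) : ⁅A, B.lowerCentralSeries j⁆ ≤ iterComm A B (j + 1) := by
  have h := commutator_lowerCentralSeries_le_chain (fun i => iterComm_normal A B i)
    (fun _ => le_rfl) (B := B) j 0
  simpa [iterComm] using h

/-- A subgroup contained in its commutator with a nilpotent subgroup modulo `V` lies in `V`. -/
theorem le_of_le_commutator_sup {F U V : Subgroup G} [V.Normal] [F.Normal] {m : ℕ}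
    (hF : F.lowerCentralSeries m = ⊥) (h : U ≤ ⁅U, F⁆ ⊔ V) : U ≤ V := by
  let f := QuotientGroup.mk' V
  have hV : V.map f = ⊥ := by rw [Subgroup.map_eq_bot_iff, QuotientGroup.ker_mk']
  haveI : (F.map f).Normal := Normal.map ‹_› f (QuotientGroup.mk'_surjective V)
  have h1 : U.map f ≤ ⁅U.map f, F.map f⁆ := by
    have := map_mono (f := f) h
    rwa [Subgroup.map_sup, map_commutator, hV, sup_bot_eq] at this
  have h2 : ∀ j, U.map f ≤ (F.map f).lowerCentralSeries j := by
    intro j
    induction j with
    | zero => exact h1.trans (commutator_le_right _ _)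
    | succ j ih => exact h1.trans (commutator_mono ih le_rfl)
  have h3 := h2 m
  rw [← map_lowerCentralSeries, hF, Subgroup.map_bot, le_bot_iff, Subgroup.map_eq_bot_iff,
    QuotientGroup.ker_mk'] at h3
  exact h3

end CfsgLib.PGroup
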