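import Mathlib.GroupTheory.Commutator.Basic
import Mathlib.Data.Nat.Choose.Dvd
import Mathlib.Tactic.Group

/-!
# Polynomial sequences in a filtered group

For a central filtration `G`, the sequences whose `m`-th differences lie in `G (a + m)` form a
group (Lazard, Leibman).  This gives the Hall–Petrescu congruence
`(b x) ^ p = b ^ p * [b, x, …, x] * x ^ p` in the first layer where it is nontrivial.
-/

set_option autoImplicit false

open Subgroup
open scoped commutatorElement

namespace CfsgLib.PolySeq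

variable {M : Type*} [Group M]

/-- A descending central filtration with trivial term `G N`. -/
structure Filt (G : ℕ → Subgroup M) (N : ℕ) : Prop where
  anti : ∀ a b, 1 ≤ a → a ≤ b → G b ≤ G a
  comm : ∀ a b, 1 ≤ a → 1 ≤ b → ∀ x ∈ G a, ∀ y ∈ G b, ⁅x, y⁆ ∈ G (a + b)
  bot : G N = ⊥

/-- The difference sequence. -/
def dif (u : ℕ → M) : ℕ → M := fun n => (u n)⁻¹ * u (n + 1)

/-- The sequence `n ↦ c ^ (n choose k)`. -/
def bseq (c : M) (k : ℕ) : ℕ → M := fun n => c ^ n.choose k

theorem dif_one : dif (1 : ℕ → M) = 1 := funext fun n => by simp [dif]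

theorem iterate_dif_one (m : ℕ) : dif^[m] (1 : ℕ → M) = 1 := Function.iterate_fixed dif_one m

theorem dif_mul (u v : ℕ → M) : dif (u * v) = ⁅v⁻¹, dif u⁆ * (dif u * dif v) := funext fun n => by
  simp only [dif, commutatorElement_def, Pi.mul_apply, Pi.inv_apply]
  group

theorem dif_inv (u : ℕ → M) : dif u⁻¹ = ⁅u, (dif u)⁻¹⁆ * (dif u)⁻¹ := funext fun n => by
  simp only [dif, commutatorElement_def, Pi.mul_apply, Pi.inv_apply]
  group

theorem dif_comm (u v : ℕ → M) : dif ⁅u, v⁆ =
    v * (u * (⁅v⁻¹, dif u⁆ * ⁅dif u, dif v⁆) * u⁻¹ * ⁅u, dif v⁆) * v⁻¹ := funext fun n => by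
  simp only [dif, commutatorElement_def, Pi.mul_apply, Pi.inv_apply]
  group

theorem dif_bseq (c : M) (k : ℕ) : dif (bseq c (k + 1)) = bseq c k := funext fun n => by
  simp only [dif, bseq, Nat.choose_succ_succ']
  rw [add_comm (n.choose k), pow_add, inv_mul_cancel_left]

theorem iterate_dif_bseq {c : M} : ∀ {k m : ℕ}, k < m → dif^[m] (bseq c k) = 1
  | 0, 0, h => absurd h (lt_irrefl 0)
  | 0, m + 1, _ => by
    rw [Function.iterate_succ_apply,
      show dif (bseq c 0) = 1 from funext fun n => by simp [dif, bseq], iterate_dif_one]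
  | k + 1, 0, h => absurd h (by omega)
  | k + 1, m + 1, h => by
    rw [Function.iterate_succ_apply, dif_bseq]
    exact iterate_dif_bseq (by omega)

theorem iterate_dif_of_vanish {u : ℕ → M} {k : ℕ} (h : ∀ j < k, u j = 1) :
    ∀ m n, (n + m < k → dif^[m] u n = 1) ∧ (n + m = k → dif^[m] u n = u k) := by
  intro m
  induction m with
  | zero => exact fun n => ⟨fun hn => h n hn, fun hn => by rw [← hn]; rfl⟩
  | succ m ih =>
    intro n
    have e : dif^[m + 1] u n = (dif^[m] u n)⁻¹ * dif^[m] u (n + 1) := by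
      rw [Function.iterate_succ_apply']
      rfl
    constructor
    · intro hn
      rw [e, (ih n).1 (by omega), (ih (n + 1)).1 (by omega), inv_one, one_mul]
    · intro hn
      rw [e, (ih n).1 (by omega), (ih (n + 1)).2 (by omega), inv_one, one_mul]

/-- The sequences of degree at least `a`. -/
def InW (G : ℕ → Subgroup M) (a : ℕ) (u : ℕ → M) : Prop := ∀ m n, dif^[m] u n ∈ G (a + m)

variable {G : ℕ → Subgroup M} {N : ℕ}

theorem inW_iff {a : ℕ} {u : ℕ → M} :
    InW G a u ↔ (∀ n, u n ∈ G a) ∧ InW G (a + 1) (dif u) := by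
  constructor
  · refine fun h => ⟨fun n => h 0 n, fun m n => ?_⟩
    rw [← Function.iterate_succ_apply, show a + 1 + m = a + (m + 1) by omega]
    exact h (m + 1) n
  · rintro ⟨h1, h2⟩ m n
    cases m with
    | zero => exact h1 n
    | succ m =>
      rw [Function.iterate_succ_apply, show a + (m + 1) = a + 1 + m by omega]
      exact h2 m n

theorem inW_one (a : ℕ) : InW G a (1 : ℕ → M) := fun m n => by
  rw [iterate_dif_one]
  exact one_mem _

theorem InW.dif {a : ℕ} {u : ℕ → M} (h : InW G a u) : InW G (a + 1) (dif u) := (inW_iff.1 h).2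

theorem InW.mem {a : ℕ} {u : ℕ → M} (h : InW G a u) (n : ℕ) : u n ∈ G a := h 0 n

variable (hG : Filt G N)
include hG

theorem Filt.conj_mem {a b : ℕ} (ha : 1 ≤ a) (hb : 1 ≤ b) {z v : M} (hz : z ∈ G a) (hv : v ∈ G b) :
    v * z * v⁻¹ ∈ G a := by
  rw [show v * z * v⁻¹ = ⁅v, z⁆ * z by rw [commutatorElement_def]; group]
  exact mul_mem (hG.anti a (b + a) ha (by omega) (hG.comm b a hb ha v hv z hz)) hz

theorem InW.mono {a b : ℕ} (ha : 1 ≤ a) (hab : a ≤ b) {u : ℕ → M} (h : InW G b u) : InW G a u :=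
  fun m n => hG.anti (a + m) (b + m) (by omega) (by omega) (h m n)

theorem inW_eq_one {a : ℕ} (ha : N ≤ a) (hN : 1 ≤ N) {u : ℕ → M} (h : InW G a u) : u = 1 :=
  funext fun n => Subgroup.mem_bot.1 (hG.bot ▸ hG.anti N a hN ha (h.mem n))

omit hG

/-- The sequences of degree `a` form a group. -/
def Lv (G : ℕ → Subgroup M) (a : ℕ) : Prop :=
  (∀ u v : ℕ → M, InW G a u → InW G a v → InW G a (u * v)) ∧
    ∀ u : ℕ → M, InW G a u → InW G a u⁻¹

/-- Commutators add degrees. -/
def Cm (G : ℕ → Subgroup M) (a b : ℕ) : Prop :=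
  ∀ u v : ℕ → M, InW G a u → InW G b v → InW G (a + b) ⁅u, v⁆

include hG

theorem cm_step {a b : ℕ} (ha : 1 ≤ a) (hb : 1 ≤ b) (hab : Lv G (a + b + 1))
    (hbinv : ∀ v : ℕ → M, InW G b v → InW G b v⁻¹) (h1 : Cm G b (a + 1))
    (h2 : Cm G (a + 1) (b + 1)) (h3 : Cm G a (b + 1)) (h4 : Cm G a (a + b + 1))
    (h5 : Cm G b (a + b + 1)) : Cm G a b := by
  intro u v hu hv
  refine inW_iff.2 ⟨fun n => hG.comm a b ha hb _ (hu.mem n) _ (hv.mem n), ?_⟩
  rw [dif_comm]
  have hz : InW G (a + b + 1) (⁅v⁻¹, dif u⁆ * ⁅dif u, dif v⁆) :=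
    hab.1 _ _ ((h1 _ _ (hbinv v hv) hu.dif).mono hG (by omega) (by omega))
      ((h2 _ _ hu.dif hv.dif).mono hG (by omega) (by omega))
  set z := ⁅v⁻¹, dif u⁆ * ⁅dif u, dif v⁆
  have hw : InW G (a + b + 1) (u * z * u⁻¹ * ⁅u, dif v⁆) := by
    refine hab.1 _ _ ?_ ((h3 _ _ hu hv.dif).mono hG (by omega) (by omega))
    rw [show u * z * u⁻¹ = ⁅u, z⁆ * z by rw [commutatorElement_def]; group]
    exact hab.1 _ _ ((h4 _ _ hu hz).mono hG (by omega) (by omega)) hz
  set w := u * z * u⁻¹ * ⁅u, dif v⁆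
  rw [show v * w * v⁻¹ = ⁅v, w⁆ * w by rw [commutatorElement_def]; group]
  exact hab.1 _ _ ((h5 _ _ hv hw).mono hG (by omega) (by omega)) hw

/-- The group property. -/
theorem lazard (hN : 1 ≤ N) : ∀ t a, 1 ≤ a → N ≤ a + t →
    (∀ b, a ≤ b → Lv G b) ∧ ∀ b c, a ≤ b → a ≤ c → Cm G b c := by
  intro t
  induction t with
  | zero =>
    intro a _ hNa
    refine ⟨fun b hb => ⟨fun u v hu hv => ?_, fun u hu => ?_⟩, fun b c hb _ u v hu _ => ?_⟩
    · rw [inW_eq_one hG (by omega) hN hu, inW_eq_one hG (by omega) hN hv, mul_one]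
      exact inW_one b
    · rw [inW_eq_one hG (by omega) hN hu, inv_one]
      exact inW_one b
    · rw [inW_eq_one hG (by omega) hN hu, commutatorElement_one_left]
      exact inW_one _
  | succ t ih =>
    intro a ha hNa
    obtain ⟨hL, hC⟩ := ih (a + 1) (by omega) (by omega)
    have step1 : ∀ k b, a + 1 ≤ b → N ≤ b + k → Cm G a b := by
      intro k
      induction k with
      | zero =>
        intro b _ hNb u v _ hv
        rw [inW_eq_one hG (by omega) hN hv, commutatorElement_one_right]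
        exact inW_one _
      | succ k ihk =>
        intro b hb hNb
        exact cm_step hG ha (by omega) (hL _ (by omega)) (hL b hb).2 (hC _ _ hb le_rfl)
          (hC _ _ le_rfl (by omega)) (ihk _ (by omega) (by omega)) (ihk _ (by omega) (by omega))
          (hC _ _ hb (by omega))
    have hab : ∀ b, a + 1 ≤ b → Cm G a b := fun b hb => step1 N b hb (by omega)
    have hba : ∀ b, a + 1 ≤ b → Cm G b a := fun b hb u v hu hv => by
      rw [← commutatorElement_inv v u, add_comm b a]
      exact (hL (a + b) (by omega)).2 _ (hab b hb v u hv hu)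
    have hinv : ∀ u : ℕ → M, InW G a u → InW G a u⁻¹ := fun u hu => by
      refine inW_iff.2 ⟨fun n => inv_mem (hu.mem n), ?_⟩
      rw [dif_inv]
      exact (hL (a + 1) le_rfl).1 _ _
        ((hab _ le_rfl _ _ hu ((hL _ le_rfl).2 _ hu.dif)).mono hG (by omega) (by omega))
        ((hL _ le_rfl).2 _ hu.dif)
    have hmul : ∀ u v : ℕ → M, InW G a u → InW G a v → InW G a (u * v) := fun u v hu hv => by
      refine inW_iff.2 ⟨fun n => mul_mem (hu.mem n) (hv.mem n), ?_⟩
      rw [dif_mul]
      exact (hL (a + 1) le_rfl).1 _ _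
        ((hab _ le_rfl _ _ (hinv v hv) hu.dif).mono hG (by omega) (by omega))
        ((hL _ le_rfl).1 _ _ hu.dif hv.dif)
    have haa : Cm G a a := cm_step hG ha ha (hL _ (by omega)) hinv (hab _ le_rfl)
      (hC _ _ le_rfl le_rfl) (hab _ le_rfl) (hab _ (by omega)) (hab _ (by omega))
    refine ⟨fun b hb => ?_, fun b c hb hc => ?_⟩
    · rcases Nat.eq_or_lt_of_le hb with rfl | hb'
      · exact ⟨hmul, hinv⟩
      · exact hL b hb'
    · rcases Nat.eq_or_lt_of_le hb with rfl | hb' <;> rcases Nat.eq_or_lt_of_le hc with rfl | hc'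
      · exact haa
      · exact hab c hc'
      · exact hba b hb'
      · exact hC b c hb' hc'

theorem InW.mul (hN : 1 ≤ N) {a : ℕ} (ha : 1 ≤ a) {u v : ℕ → M} (hu : InW G a u) (hv : InW G a v) :
    InW G a (u * v) :=
  ((lazard hG hN N a ha (by omega)).1 a le_rfl).1 u v hu hv

theorem inW_bseq {c : M} : ∀ {k a : ℕ}, 1 ≤ a → c ∈ G (a + k) → InW G a (bseq c k)
  | 0, a, _, hc => inW_iff.2 ⟨fun n => pow_mem hc _, by
      rw [show dif (bseq c 0) = 1 from funext fun n => by simp [dif, bseq]]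
      exact inW_one _⟩
  | k + 1, a, ha, hc => inW_iff.2 ⟨fun n => pow_mem (hG.anti a _ ha (by omega) hc) _, by
      rw [dif_bseq]
      exact inW_bseq (by omega) (show c ∈ G (a + 1 + k) by rwa [show a + 1 + k = a + (k + 1) by omega])⟩

/-- The differences are multiplicative modulo the next term. -/
theorem exists_iterate_dif_mul (hN : 1 ≤ N) : ∀ (m a : ℕ), 1 ≤ a → ∀ u v : ℕ → M,
    InW G a u → InW G a v → ∀ n, ∃ z ∈ G (a + m + 1),
      dif^[m] (u * v) n = z * (dif^[m] u n * dif^[m] v n) := by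
  intro m
  induction m with
  | zero => exact fun a _ u v _ _ n => ⟨1, one_mem _, by simp⟩
  | succ m ih =>
    intro a ha u v hu hv n
    obtain ⟨hL, hC⟩ := lazard hG hN N a ha (by omega)
    set e := ⁅v⁻¹, dif u⁆
    have he : InW G (a + 2) e :=
      (hC a (a + 1) le_rfl (by omega) _ _ ((hL a le_rfl).2 v hv) hu.dif).mono hG (by omega) (by omega)
    have he1 : InW G (a + 1) e := he.mono hG (by omega) (by omega)
    have hw : InW G (a + 1) (dif u * dif v) := (hL _ (by omega)).1 _ _ hu.dif hv.dif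
    obtain ⟨z₁, hz₁, e1⟩ := ih (a + 1) (by omega) e _ he1 hw n
    obtain ⟨z₂, hz₂, e2⟩ := ih (a + 1) (by omega) _ _ hu.dif hv.dif n
    have heq : a + (m + 1) + 1 = a + 1 + m + 1 := by omega
    refine ⟨z₁ * dif^[m] e n * z₂, ?_, ?_⟩
    · rw [heq]
      refine mul_mem (mul_mem hz₁ ?_) hz₂
      rw [show a + 1 + m + 1 = a + 2 + m by omega]
      exact he m n
    · rw [Function.iterate_succ_apply, dif_mul, e1, e2, Function.iterate_succ_apply,
        Function.iterate_succ_apply]
      group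

/-- The Hall–Petrescu congruence. -/
theorem mul_pow_prime {p : ℕ} (hp : p.Prime) {i : ℕ} (hi : 2 ≤ i) (hN : N = i + p) {b x : M}
    (hb : b ∈ G i) (hx : x ∈ G 1) (hpow : ∀ y ∈ G (i + 1), y ^ p = 1) :
    (b * x) ^ p * (x ^ p)⁻¹ = b ^ p * (fun y => ⁅y⁻¹, x⁆)^[p - 1] b := by
  have hN1 : 1 ≤ N := by omega
  have hp2 := hp.two_le
  set dl : M → M := fun y => ⁅y⁻¹, x⁆
  set f : ℕ → M := fun n => x ^ n * b * (x ^ n)⁻¹ with hf
  set g : ℕ → M := fun n => (b * x) ^ n * (x ^ n)⁻¹ with hg
  have hdl : ∀ m, dl^[m] b ∈ G (i + m) := by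
    intro m
    induction m with
    | zero => exact hb
    | succ m ih =>
      rw [Function.iterate_succ_apply']
      exact hG.comm (i + m) 1 (by omega) le_rfl _ (inv_mem ih) x hx
  have hdf : ∀ m, dif^[m] f = fun n => x ^ n * dl^[m] b * (x ^ n)⁻¹ := by
    intro m
    induction m with
    | zero => rfl
    | succ m ih =>
      rw [Function.iterate_succ_apply', ih]
      funext n
      rw [Function.iterate_succ_apply']
      simp only [dif, dl, commutatorElement_def, pow_succ]
      group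
  have hfW : InW G i f := fun m n => by
    rw [hdf m]
    exact hG.conj_mem (by omega) le_rfl (hdl m) (pow_mem hx n)
  have hdg : dif g = f := funext fun n => by
    simp only [dif, hg, hf, pow_succ]
    group
  set a := i - 1 with ha
  have ha1 : 1 ≤ a := by omega
  have hgW : InW G a g := by
    refine inW_iff.2 ⟨fun n => hG.anti a i ha1 (by omega) ?_, by
      rw [hdg, show a + 1 = i by omega]; exact hfW⟩
    induction n with
    | zero => simp [hg]
    | succ n ihn =>
      rw [show g (n + 1) = g n * f n by rw [← hdg]; simp [dif]]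
      exact mul_mem ihn (hfW.mem n)
  have hlin : ∀ u v : ℕ → M, InW G a u → InW G a v →
      dif^[p] (u * v) 0 = dif^[p] u 0 * dif^[p] v 0 := fun u v hu hv => by
    obtain ⟨z, hz, e⟩ := exists_iterate_dif_mul hG hN1 p a ha1 u v hu hv 0
    rw [show a + p + 1 = N by omega, hG.bot, Subgroup.mem_bot] at hz
    rw [e, hz, one_mul]
  -- subtract the binomial sequences
  have loop : ∀ k, 2 ≤ k → k ≤ p → ∃ h : ℕ → M, InW G a h ∧ (∀ j < k, h j = 1) ∧
      h p = (b ^ p)⁻¹ * g p ∧ dif^[p] h 0 = dif^[p] g 0 := by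
    intro k hk
    induction k, hk using Nat.le_induction with
    | base =>
      intro _
      have hb1 : InW G a (bseq b⁻¹ 1) :=
        inW_bseq hG ha1 (by rw [show a + 1 = i by omega]; exact inv_mem hb)
      refine ⟨bseq b⁻¹ 1 * g, hb1.mul hG hN1 ha1 hgW, fun j hj => ?_, ?_, ?_⟩
      · rcases (show j = 0 ∨ j = 1 by omega) with rfl | rfl <;> simp [bseq, hg]
      · simp [bseq]
      · rw [hlin _ _ hb1 hgW, iterate_dif_bseq (show 1 < p by omega)]
        exact one_mul _
    | succ k hk ihk =>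
      intro hkp
      obtain ⟨h, hW, hv, hhp, hhd⟩ := ihk (by omega)
      have hc : h k ∈ G (a + k) := by
        have := hW k 0
        rwa [(iterate_dif_of_vanish hv k 0).2 (zero_add k)] at this
      have hcW : InW G a (bseq (h k)⁻¹ k) := inW_bseq hG ha1 (inv_mem hc)
      refine ⟨bseq (h k)⁻¹ k * h, hcW.mul hG hN1 ha1 hW, fun j hj => ?_, ?_, ?_⟩
      · rcases Nat.lt_succ_iff_lt_or_eq.1 hj with hj' | rfl
        · simp [bseq, Nat.choose_eq_zero_of_lt hj', hv j hj']
        · simp [bseq]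
      · obtain ⟨q, hq⟩ := hp.dvd_choose_self (show k ≠ 0 by omega) (show k < p by omega)
        show (h k)⁻¹ ^ p.choose k * h p = _
        rw [hq, pow_mul, hpow _ (inv_mem (hG.anti (i + 1) (a + k) (by omega) (by omega) hc)),
          one_pow, one_mul, hhp]
      · rw [hlin _ _ hcW hW, iterate_dif_bseq (show k < p by omega), hhd]
        exact one_mul _
  obtain ⟨h, -, hv, hhp, hhd⟩ := loop p hp2 le_rfl
  rw [(iterate_dif_of_vanish hv p 0).2 (zero_add p), hhp, show p = p - 1 + 1 by omega,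
    Function.iterate_succ_apply, hdg, hdf, ← show p = p - 1 + 1 by omega] at hhd
  simp only [pow_zero, one_mul, inv_one, mul_one] at hhd
  show g p = _
  rw [← hhd, mul_inv_cancel_left]

end CfsgLib.PolySeq
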