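import Cfsg.Agent.Lib.PGroup.MaxClassRecog
import Cfsg.Agent.Lib.PGroup.CommutatorChain
import Cfsg.Agent.Lib.PGroup.PolySeq

/-!
# `p`-groups with an element of order `p` whose centralizer has order `p²`

Such a group has maximal class, the `p`-th power moves the lower central series down exactly
`p - 1` steps, and every subgroup is generated by at most `p` elements.
-/

set_option autoImplicit false
set_option linter.style.haveILetI false
set_option linter.unusedSectionVars false

open Subgroup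
open scoped commutatorElement

namespace CfsgLib.MaxClassShift

open CfsgLib.PolySeq

universe u

variable {G : Type u} [Group G] {p n : ℕ} {x : G}

/-- The lower central series, numbered from one. -/
abbrev gam (G : Type u) [Group G] (k : ℕ) : Subgroup G :=
  (⊤ : Subgroup G).lowerCentralSeries (k - 1)

/-- An element of order `p` with centralizer of order `p²` in a group of order `p ^ n`. -/
structure Small (x : G) (p n : ℕ) : Prop where
  card : Nat.card G = p ^ n
  pow : x ^ p = 1
  cent : Nat.card (centralizer ({x} : Set G)) = p ^ 2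
  three : 3 ≤ n

variable [Finite G] [Fact p.Prime]

theorem gam_normal (k : ℕ) : (gam G k).Normal := inferInstance

theorem gam_anti {a b : ℕ} (h : a ≤ b) : gam G b ≤ gam G a :=
  Subgroup.lowerCentralSeries_antitone _ (by omega)

theorem gam_one : gam G 1 = ⊤ := rfl

theorem gam_comm {a b : ℕ} (ha : 1 ≤ a) (hb : 1 ≤ b) {y z : G} (hy : y ∈ gam G a)
    (hz : z ∈ gam G b) : ⁅y, z⁆ ∈ gam G (a + b) := by
  have h := CfsgLib.PGroup.commutator_lowerCentralSeries_le_chain
    (D := fun i => (⊤ : Subgroup G).lowerCentralSeries i) (fun i => gam_normal (i + 1))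
    (B := ⊤) (fun i => le_rfl) (b - 1) (a - 1)
  have h2 := h (commutator_mem_commutator hy hz)
  show _ ∈ (⊤ : Subgroup G).lowerCentralSeries (a + b - 1)
  rwa [show a + b - 1 = a - 1 + (b - 1) + 1 by omega]

variable (h : Small x p n)
include h

theorem Small.isPGroup : IsPGroup p G := IsPGroup.of_card h.card

theorem Small.class_eq : Group.nilpotencyClass G = n - 1 := by
  refine CfsgLib.PGroup.maximalClass_of_selfCentralizing n G h.card
    (centralizer ({x} : Set G)) h.cent ?_
  haveI : IsMulCommutative (centralizer ({x} : Set G)) :=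
    IsPGroup.isMulCommutative_of_card_eq_prime_sq h.cent
  refine le_antisymm (centralizer_le (Set.singleton_subset_iff.2
    (mem_centralizer_iff.2 fun y hy => by rw [Set.mem_singleton_iff.1 hy]))) fun y hy => ?_
  exact mem_centralizer_iff.2 fun z hz => congrArg Subtype.val
    (isMulCommutative_iff.1 ‹IsMulCommutative (centralizer ({x} : Set G))› ⟨z, hz⟩ ⟨y, hy⟩)

theorem Small.index_gam {k : ℕ} (h2 : 2 ≤ k) (hk : k ≤ n) : (gam G k).index = p ^ k := by
  have := CfsgLib.PGroup.index_lowerCentralSeries_of_maximal h.isPGroup h.card h.three h.class_eq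
    (k - 1) (by omega) (by omega)
  rwa [show k - 1 + 1 = k by omega] at this

theorem Small.card_gam {k : ℕ} (h2 : 2 ≤ k) (hk : k ≤ n) : Nat.card (gam G k) = p ^ (n - k) := by
  have e := (gam G k).card_mul_index
  rw [h.index_gam h2 hk, h.card, show p ^ n = p ^ (n - k) * p ^ k by
    rw [← pow_add]; congr 1; omega] at e
  exact Nat.eq_of_mul_eq_mul_right (pow_pos (Fact.out : p.Prime).pos k) e

theorem Small.gam_eq_bot {k : ℕ} (hk : n ≤ k) : gam G k = ⊥ := by
  refine le_bot_iff.1 ((gam_anti hk).trans (le_of_eq ?_))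
  apply Subgroup.eq_bot_of_card_eq
  rw [h.card_gam (by have := h.three; omega) le_rfl, Nat.sub_self, pow_zero]

theorem Small.lowerCentralSeries_ne_bot : (⊤ : Subgroup G).lowerCentralSeries (n - 2) ≠ ⊥ := by
  intro hb
  have := h.three
  have h1 := h.card_gam (k := n - 1) (by omega) (by omega)
  rw [show n - (n - 1) = 1 by omega, pow_one,
    show gam G (n - 1) = (⊤ : Subgroup G).lowerCentralSeries (n - 2) from rfl, hb,
    Subgroup.card_bot] at h1
  exact (Fact.out : p.Prime).ne_one h1.symm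

/-- Every element of `γ₂ x` is a conjugate of `x`. -/
theorem Small.exists_conj {c : G} (hc : c ∈ gam G 2) : ∃ g, g * x * g⁻¹ = c * x := by
  set C := centralizer ({x} : Set G)
  have hcard : Nat.card (G ⧸ C) = Nat.card (gam G 2) := by
    rw [← index_eq_card, h.card_gam le_rfl (by have := h.three; omega)]
    have e := C.card_mul_index
    rw [h.cent, h.card, show p ^ n = p ^ 2 * p ^ (n - 2) by
      rw [← pow_add]; congr 1; have := h.three; omega] at e
    exact Nat.eq_of_mul_eq_mul_left (pow_pos (Fact.out : p.Prime).pos 2) e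
  let φ : G ⧸ C → gam G 2 := fun q =>
    ⟨⁅q.out, x⁆, gam_comm (a := 1) (b := 1) le_rfl le_rfl (mem_top _) (mem_top _)⟩
  have hinj : Function.Injective φ := fun q r hqr => by
    have e : q.out * x * q.out⁻¹ * x⁻¹ = r.out * x * r.out⁻¹ * x⁻¹ := congrArg Subtype.val hqr
    have e2 := mul_right_cancel e
    rw [← QuotientGroup.out_eq' q, ← QuotientGroup.out_eq' r, QuotientGroup.eq]
    refine mem_centralizer_iff.2 fun y hy => ?_
    rw [Set.mem_singleton_iff.1 hy]
    calc x * (q.out⁻¹ * r.out) = q.out⁻¹ * (q.out * x * q.out⁻¹) * r.out := by group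
      _ = q.out⁻¹ * r.out * x := by rw [e2]; group
  haveI := Fintype.ofFinite (G ⧸ C)
  haveI := Fintype.ofFinite (gam G 2)
  have hsurj : Function.Surjective φ :=
    ((Fintype.bijective_iff_injective_and_card φ).2
      ⟨hinj, by rw [← Nat.card_eq_fintype_card, ← Nat.card_eq_fintype_card, hcard]⟩).2
  obtain ⟨q, hq⟩ := hsurj ⟨c, hc⟩
  refine ⟨q.out, ?_⟩
  rw [← show q.out * x * q.out⁻¹ * x⁻¹ = c from congrArg Subtype.val hq, inv_mul_cancel_right]

theorem Small.pow_mul_x {c : G} (hc : c ∈ gam G 2) : (c * x) ^ p = 1 := by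
  obtain ⟨g, hg⟩ := h.exists_conj hc
  rw [← hg, conj_pow, h.pow, mul_one, mul_inv_cancel]

theorem Small.notMem_gam : x ∉ gam G 2 := by
  intro hx
  have hp := (Fact.out : p.Prime)
  have := h.three
  -- all conjugates would lie in `γ₃ x`
  have hle : gam G 2 ≤ gam G 3 := by
    intro c hc
    obtain ⟨g, hg⟩ := h.exists_conj hc
    have h1 : ⁅g, x⁆ ∈ gam G (1 + 2) := gam_comm le_rfl (by omega) (mem_top g) hx
    rwa [commutatorElement_def, hg, mul_inv_cancel_right] at h1
  have h2 := Subgroup.card_le_of_le hle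
  rw [h.card_gam le_rfl (by omega), h.card_gam (by omega) this] at h2
  have := (Nat.pow_le_pow_iff_right hp.one_lt).1 h2
  omega

theorem Small.inf_centralizer : centralizer ({x} : Set G) ⊓ gam G 2 = gam G (n - 1) := by
  have hp := (Fact.out : p.Prime)
  have h3 := h.three
  refine (eq_of_le_of_card_ge (le_inf (fun z hz => mem_centralizer_iff.2 fun y hy => ?_)
    (gam_anti (by omega))) ?_).symm
  · have h1 : ⁅z, x⁆ ∈ gam G (n - 1 + 1) := gam_comm (by omega) le_rfl hz (mem_top x)
    rw [show n - 1 + 1 = n by omega, h.gam_eq_bot le_rfl, mem_bot,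
      commutatorElement_eq_one_iff_mul_comm] at h1
    rw [Set.mem_singleton_iff.1 hy]
    exact h1.symm
  · rw [h.card_gam (k := n - 1) (by omega) (by omega), show n - (n - 1) = 1 by omega, pow_one]
    set C := centralizer ({x} : Set G)
    obtain ⟨i, hi2, hi⟩ := (Nat.dvd_prime_pow hp).1
      (h.cent ▸ card_dvd_of_le (inf_le_left : C ⊓ gam G 2 ≤ C))
    rw [hi]
    have hi1 : i ≠ 2 := fun e => h.notMem_gam <| by
      have hC : C ⊓ gam G 2 = C := eq_of_le_of_card_ge inf_le_left (by rw [hi, e, h.cent])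
      exact (inf_eq_left.1 hC) (mem_centralizer_iff.2 fun y hy => by rw [Set.mem_singleton_iff.1 hy])
    exact (Nat.pow_le_pow_right hp.pos (show i ≤ 1 by omega)).trans (pow_one p).le

/-- `y ↦ [y⁻¹, x]` moves each layer to the next one. -/
theorem Small.mem_of_comm {k : ℕ} (h2 : 2 ≤ k) (hk : k + 2 ≤ n) {b : G} (hb : b ∈ gam G k)
    (hc : ⁅b⁻¹, x⁆ ∈ gam G (k + 2)) : b ∈ gam G (k + 1) := by
  have hp := (Fact.out : p.Prime)
  have h3 := h.three
  set Z := (gam G (n - 1)).subgroupOf (gam G (k + 1))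
  let φ : gam G (k + 1) ⧸ Z → gam G (k + 2) := fun q =>
    ⟨⁅((q.out : gam G (k + 1)) : G)⁻¹, x⁆,
      gam_comm (a := k + 1) (by omega) le_rfl (inv_mem q.out.2) (mem_top x)⟩
  have key : ∀ c d : G, c ∈ gam G 2 → d ∈ gam G 2 → ⁅c⁻¹, x⁆ = ⁅d⁻¹, x⁆ →
      c * d⁻¹ ∈ gam G (n - 1) := by
    intro c d hc hd e
    rw [← h.inf_centralizer]
    refine mem_inf.2 ⟨mem_centralizer_iff.2 fun y hy => ?_, mul_mem hc (inv_mem hd)⟩
    rw [Set.mem_singleton_iff.1 hy]
    rw [commutatorElement_def, commutatorElement_def, inv_inv, inv_inv] at e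
    have e2 := mul_right_cancel e
    calc x * (c * d⁻¹) = c * (c⁻¹ * x * c) * d⁻¹ := by group
      _ = c * d⁻¹ * x := by rw [e2]; group
  have hinj : Function.Injective φ := fun q r hqr => by
    have e := key _ _ (gam_anti (by omega) q.out.2) (gam_anti (by omega) r.out.2)
      (congrArg Subtype.val hqr)
    rw [← QuotientGroup.out_eq' q, ← QuotientGroup.out_eq' r, QuotientGroup.eq, mem_subgroupOf]
    have h1 := inv_mem ((gam_normal (G := G) (n - 1)).conj_mem _ e (q.out : G)⁻¹)
    simpa [mul_assoc] using h1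
  have hcard : Nat.card (gam G (k + 1) ⧸ Z) = Nat.card (gam G (k + 2)) := by
    rw [h.card_gam (k := k + 2) (by omega) hk]
    have e := Z.card_mul_index
    rw [Nat.card_congr (subgroupOfEquivOfLe (gam_anti (show k + 1 ≤ n - 1 by omega))).toEquiv,
      h.card_gam (k := n - 1) (by omega) (by omega), h.card_gam (k := k + 1) (by omega) (by omega),
      show n - (k + 1) = n - (n - 1) + (n - (k + 2)) by omega, pow_add, index_eq_card] at e
    exact Nat.eq_of_mul_eq_mul_left (pow_pos hp.pos _) e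
  haveI := Fintype.ofFinite (gam G (k + 1) ⧸ Z)
  haveI := Fintype.ofFinite (gam G (k + 2))
  obtain ⟨q, hq⟩ := ((Fintype.bijective_iff_injective_and_card φ).2
      ⟨hinj, by rw [← Nat.card_eq_fintype_card, ← Nat.card_eq_fintype_card, hcard]⟩).2 ⟨_, hc⟩
  have e := key b _ (gam_anti h2 hb) (gam_anti (by omega) q.out.2) (congrArg Subtype.val hq).symm
  have h1 := mul_mem (gam_anti (show k + 1 ≤ n - 1 by omega) e) q.out.2
  rwa [inv_mul_cancel_right] at h1

theorem Small.iterate_comm {k : ℕ} (h2 : 2 ≤ k) {b : G} (hb : b ∈ gam G k) :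
    ∀ m, (fun y => ⁅y⁻¹, x⁆)^[m] b ∈ gam G (k + m) ∧
      (b ∉ gam G (k + 1) → k + m < n → (fun y => ⁅y⁻¹, x⁆)^[m] b ∉ gam G (k + m + 1)) := by
  intro m
  induction m with
  | zero => exact ⟨hb, fun hn _ => hn⟩
  | succ m ih =>
    rw [Function.iterate_succ_apply']
    refine ⟨gam_comm (a := k + m) (by omega) le_rfl (inv_mem ih.1) (mem_top x), fun hn hlt hmem => ?_⟩
    exact ih.2 hn (by omega) (h.mem_of_comm (k := k + m) (by omega) (by omega) ih.1 hmem)

/-- The `p`-th power moves the series down exactly `p - 1` steps. -/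
theorem Small.pow_shift : ∀ t k, 2 ≤ k → n ≤ k + t → ∀ b ∈ gam G k,
    b ^ p ∈ gam G (k + p - 1) ∧
      (b ∉ gam G (k + 1) → k + p - 1 < n → b ^ p ∉ gam G (k + p)) := by
  have hp := (Fact.out : p.Prime)
  intro t
  induction t with
  | zero =>
    intro k _ hk b hb
    rw [h.gam_eq_bot (by omega), mem_bot] at hb
    subst hb
    exact ⟨by simp, fun hn _ => absurd (one_mem _) hn⟩
  | succ t ih =>
    intro k h2 hk b hb
    set N := gam G (k + p)
    haveI : N.Normal := gam_normal _
    set q := QuotientGroup.mk' N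
    have hF : Filt (fun j => (gam G j).map q) (k + p) := by
      refine ⟨fun a b _ hab => map_mono (gam_anti hab), fun a b ha hb y hy z hz => ?_, ?_⟩
      · obtain ⟨y, hy, rfl⟩ := hy
        obtain ⟨z, hz, rfl⟩ := hz
        rw [← map_commutatorElement]
        exact mem_map_of_mem q (gam_comm ha hb hy hz)
      · show N.map q = ⊥
        rw [Subgroup.map_eq_bot_iff, QuotientGroup.ker_mk']
    have hform := mul_pow_prime hF hp h2 rfl (mem_map_of_mem q hb)
      (mem_map_of_mem q (show x ∈ gam G 1 from mem_top x)) (by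
        rintro _ ⟨y, hy, rfl⟩
        rw [← map_pow, ← MonoidHom.mem_ker, QuotientGroup.ker_mk']
        have h1 := (ih (k + 1) (by omega) (by omega) y hy).1
        rwa [show k + 1 + p - 1 = k + p by omega] at h1)
    rw [← map_mul, ← map_pow, h.pow_mul_x (gam_anti h2 hb), ← map_pow q x, h.pow, map_one,
      inv_one, one_mul] at hform
    have hsemi : Function.Semiconj q (fun y => ⁅y⁻¹, x⁆) (fun y => ⁅y⁻¹, q x⁆) := fun y => by
      rw [map_commutatorElement, map_inv]
    rw [← (hsemi.iterate_right (p - 1)).eq, ← map_pow, ← map_mul, eq_comm, ← MonoidHom.mem_ker,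
      QuotientGroup.ker_mk'] at hform
    obtain ⟨h1, h3⟩ := h.iterate_comm h2 hb (p - 1)
    rw [show k + (p - 1) = k + p - 1 by have := hp.two_le; omega] at h1 h3
    rw [show k + p - 1 + 1 = k + p by have := hp.two_le; omega] at h3
    constructor
    · have h4 := mul_mem (gam_anti (show k + p - 1 ≤ k + p by omega) hform) (inv_mem h1)
      rwa [mul_inv_cancel_right] at h4
    · intro hn hlt hmem
      refine h3 hn hlt ?_
      have h4 := mul_mem (inv_mem hmem) hform
      rwa [inv_mul_cancel_left] at h4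

theorem Small.pow_iterate {k : ℕ} (h2 : 2 ≤ k) {b : G} (hb : b ∈ gam G k)
    (hn : b ∉ gam G (k + 1)) :
    ∀ t, k + t * (p - 1) < n →
      b ^ p ^ t ∈ gam G (k + t * (p - 1)) ∧ b ^ p ^ t ∉ gam G (k + t * (p - 1) + 1) := by
  have hp := (Fact.out : p.Prime).two_le
  intro t
  induction t with
  | zero => simpa using fun _ => And.intro hb hn
  | succ t ih =>
    intro hlt
    rw [Nat.succ_mul, ← add_assoc] at hlt ⊢
    obtain ⟨h1, h3⟩ := ih (by omega)
    obtain ⟨h4, h5⟩ := h.pow_shift n (k + t * (p - 1)) (by omega) (by omega) _ h1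
    rw [pow_succ, pow_mul]
    rw [show k + t * (p - 1) + p - 1 = k + t * (p - 1) + (p - 1) by omega] at h4 h5
    refine ⟨h4, ?_⟩
    rw [show k + t * (p - 1) + (p - 1) + 1 = k + t * (p - 1) + p by omega]
    exact h5 h3 (by omega)

/-- Subgroups of `γ₂` are generated by `p - 1` elements. -/
theorem Small.exists_gen_le {H : Subgroup G} (hH : H ≤ gam G 2) :
    ∃ T : Finset G, T.card ≤ p - 1 ∧ closure (T : Set G) = H := by
  classical
  have hp := (Fact.out : p.Prime)
  have hq : 0 < p - 1 := by have := hp.two_le; omega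
  let P : ℕ → ℕ → Prop := fun r i =>
    2 ≤ i ∧ i < n ∧ i % (p - 1) = r ∧ ∃ y ∈ H, y ∈ gam G i ∧ y ∉ gam G (i + 1)
  let e : ℕ → G := fun r =>
    if hr : ∃ i, P r i then (Nat.find_spec hr).2.2.2.choose else 1
  have heH : ∀ r, e r ∈ H := fun r => by
    by_cases hr : ∃ i, P r i
    · simp only [e, dif_pos hr]
      exact (Nat.find_spec hr).2.2.2.choose_spec.1
    · simp only [e, dif_neg hr]
      exact one_mem H
  refine ⟨(Finset.range (p - 1)).image e, Finset.card_image_le.trans (by simp), ?_⟩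
  set K := closure (((Finset.range (p - 1)).image e : Finset G) : Set G)
  have hKH : K ≤ H := (closure_le H).2 fun y hy => by
    obtain ⟨r, -, rfl⟩ := Finset.mem_image.1 (Finset.mem_coe.1 hy)
    exact heH r
  refine le_antisymm hKH ?_
  suffices key : ∀ t k, 2 ≤ k → n ≤ k + t → H ⊓ gam G k ≤ K from
    fun y hy => key n 2 le_rfl (by omega) (mem_inf.2 ⟨hy, hH hy⟩)
  intro t
  induction t with
  | zero =>
    intro k _ hk y hy
    have h1 : y ∈ gam G k := hy.2
    rw [h.gam_eq_bot (by omega), mem_bot] at h1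
    subst h1
    exact one_mem K
  | succ t ih =>
    intro k h2 hk y hy
    by_cases hy1 : y ∈ gam G (k + 1)
    · exact ih (k + 1) (by omega) (by omega) (mem_inf.2 ⟨hy.1, hy1⟩)
    have hkn : k < n := by
      by_contra hkn
      have h1 : y ∈ gam G k := hy.2
      rw [h.gam_eq_bot (by omega), mem_bot] at h1
      exact hy1 (h1 ▸ one_mem _)
    have hr : ∃ i, P (k % (p - 1)) i := ⟨k, h2, hkn, rfl, y, hy.1, hy.2, hy1⟩
    set i := Nat.find hr
    obtain ⟨hi2, hin, hir, hex⟩ := Nat.find_spec hr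
    obtain ⟨-, hwi, hwi'⟩ := hex.choose_spec
    have hik : i ≤ k := Nat.find_min' hr ⟨h2, hkn, rfl, y, hy.1, hy.2, hy1⟩
    have hwK : hex.choose ∈ K := by
      refine subset_closure (Finset.mem_coe.2 (Finset.mem_image.2
        ⟨k % (p - 1), Finset.mem_range.2 (Nat.mod_lt _ hq), ?_⟩))
      simp only [e, dif_pos hr]
    obtain ⟨s, hs⟩ : ∃ s, k = i + s * (p - 1) := by
      obtain ⟨c, hc⟩ := (Nat.modEq_iff_dvd' hik).1 hir
      exact ⟨c, by rw [mul_comm] at hc; omega⟩
    obtain ⟨hv, hv'⟩ := h.pow_iterate hi2 hwi hwi' s (by omega)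
    rw [← hs] at hv hv'
    set v := hex.choose ^ p ^ s
    have hvK : v ∈ K := pow_mem hwK _
    set L := (gam G (k + 1)).subgroupOf (gam G k)
    haveI : L.Normal := inferInstance
    have hL : Nat.card (gam G k ⧸ L) = p := by
      have e1 := L.card_mul_index
      rw [Nat.card_congr (subgroupOfEquivOfLe (gam_anti (Nat.le_succ k))).toEquiv,
        h.card_gam (k := k + 1) (by omega) hkn, h.card_gam h2 hkn.le,
        show n - k = n - (k + 1) + 1 by omega, pow_succ, index_eq_card] at e1
      exact Nat.eq_of_mul_eq_mul_left (pow_pos hp.pos _) e1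
    obtain ⟨j, hj⟩ := mem_zpowers_iff.1 (mem_zpowers_of_prime_card hL
      (g := QuotientGroup.mk' L ⟨v, hv⟩)
      (fun e1 => hv' (mem_subgroupOf.1 ((QuotientGroup.eq_one_iff _).1 e1)))
      (g' := QuotientGroup.mk' L ⟨y, hy.2⟩))
    rw [← map_zpow, QuotientGroup.mk'_apply, QuotientGroup.mk'_apply, QuotientGroup.eq,
      mem_subgroupOf] at hj
    simp only [Subgroup.coe_mul, Subgroup.coe_inv, Subgroup.coe_zpow] at hj
    have h1 : (v ^ j)⁻¹ * y ∈ K := ih (k + 1) (by omega) (by omega)
      (mem_inf.2 ⟨mul_mem (inv_mem (zpow_mem (hKH hvK) j)) hy.1, hj⟩)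
    have h3 := mul_mem (zpow_mem hvK j) h1
    rwa [mul_inv_cancel_left] at h3

omit h

/-- A group of order at most `p²` is generated by two elements. -/
theorem exists_pair_gen {Q : Type*} [Group Q] [Finite Q] {m : ℕ} (hQ : Nat.card Q = p ^ m)
    (hm : m ≤ 2) (a : Q) (ha : a ≠ 1 ∨ m = 0) :
    ∃ b, closure ({a, b} : Set Q) = ⊤ := by
  by_cases htop : zpowers a = ⊤
  · refine ⟨a, top_unique (htop.ge.trans (zpowers_le.2 (subset_closure (by simp))))⟩
  obtain ⟨b, -, hb⟩ := SetLike.exists_of_lt (lt_top_iff_ne_top.2 htop)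
  refine ⟨b, eq_top_of_card_eq _ ?_⟩
  set K := closure ({a, b} : Set Q)
  have hp := (Fact.out : p.Prime)
  obtain ⟨i, hi, hiK⟩ := (Nat.dvd_prime_pow hp).1 (hQ ▸ K.card_subgroup_dvd_card)
  have hlt : Nat.card (zpowers a) < Nat.card K := by
    refine lt_of_le_of_ne (card_le_of_le (zpowers_le.2 (subset_closure (by simp)))) fun e => ?_
    have h1 := eq_of_le_of_card_ge (zpowers_le.2 (subset_closure (by simp) : a ∈ K)) e.ge
    exact hb (h1 ▸ subset_closure (by simp))
  obtain ⟨j, hj, hja⟩ := (Nat.dvd_prime_pow hp).1 (hQ ▸ (zpowers a).card_subgroup_dvd_card)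
  rw [hiK, hja] at hlt
  have hji := (Nat.pow_lt_pow_iff_right hp.one_lt).1 hlt
  rw [hiK, hQ]
  rcases ha with ha | hm0
  · have hj0 : j ≠ 0 := fun e => ha (orderOf_eq_one_iff.1 (by
      rw [← Nat.card_zpowers, hja, e, pow_zero]))
    rw [show i = m by omega]
  · omega

include h

/-- Every subgroup is generated by `p` elements. -/
theorem Small.exists_gen (H : Subgroup G) :
    ∃ T : Finset G, T.card ≤ p ∧ closure (T : Set G) = H := by
  classical
  have hp := (Fact.out : p.Prime)
  haveI := gam_normal (G := G) 2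
  obtain ⟨T, hT, hTH⟩ := h.exists_gen_le (H := H ⊓ gam G 2) inf_le_right
  by_cases hH : H ≤ gam G 2
  · exact ⟨T, hT.trans (by omega), hTH.trans (inf_eq_left.2 hH)⟩
  have hidx := h.index_gam (k := 2) le_rfl (by have := h.three; omega)
  obtain ⟨i, hi, hri⟩ := (Nat.dvd_prime_pow hp).1
    (hidx ▸ relIndex_dvd_index_of_normal (gam G 2) H)
  obtain ⟨a, haH, ha⟩ := SetLike.not_le_iff_exists.1 hH
  have hi0 : i ≠ 0 := fun e => hH (relIndex_eq_one.1 (by rw [hri, e, pow_zero]))
  rcases (show i = 1 ∨ i = 2 by omega) with rfl | rfl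
  · refine ⟨insert a T, (Finset.card_insert_le a T).trans (by have := hp.two_le; omega), ?_⟩
    rw [Finset.coe_insert, Set.insert_eq, Subgroup.closure_union, hTH]
    refine le_antisymm (sup_le (zpowers_eq_closure a ▸ zpowers_le.2 haH) inf_le_left) fun y hy => ?_
    set L := (gam G 2).subgroupOf H
    have hL : Nat.card (H ⧸ L) = p := by
      rw [← index_eq_card]
      exact hri.trans (pow_one p)
    obtain ⟨j, hj⟩ := mem_zpowers_iff.1 (mem_zpowers_of_prime_card hL
      (g := QuotientGroup.mk' L ⟨a, haH⟩)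
      (fun e1 => ha (mem_subgroupOf.1 ((QuotientGroup.eq_one_iff _).1 e1)))
      (g' := QuotientGroup.mk' L ⟨y, hy⟩))
    rw [← map_zpow, QuotientGroup.mk'_apply, QuotientGroup.mk'_apply, QuotientGroup.eq,
      mem_subgroupOf] at hj
    simp only [Subgroup.coe_mul, Subgroup.coe_inv, Subgroup.coe_zpow] at hj
    rw [← mul_inv_cancel_left (a ^ j) y]
    exact mul_mem_sup (zpowers_eq_closure a ▸ zpow_mem (mem_zpowers a) j)
      (mem_inf.2 ⟨mul_mem (inv_mem (zpow_mem haH j)) hy, hj⟩)
  · -- `H` is everything, and two elements generate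
    set q := QuotientGroup.mk' (gam G 2)
    have hQ : Nat.card (G ⧸ gam G 2) = p ^ 2 := (index_eq_card _).symm.trans hidx
    obtain ⟨b', hb'⟩ := exists_pair_gen hQ le_rfl (q a)
      (Or.inl fun e1 => ha ((QuotientGroup.eq_one_iff _).1 e1))
    obtain ⟨b, rfl⟩ := QuotientGroup.mk'_surjective (gam G 2) b'
    have hgen : ∀ K : Subgroup G, K.map q = ⊤ → K = ⊤ := fun K hK => by
      refine frattini_nongenerating (top_unique fun y _ => ?_)
      obtain ⟨w, hw, hwe⟩ : q y ∈ K.map q := hK ▸ mem_top _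
      rw [← mul_inv_cancel_left w y]
      refine mul_mem_sup hw (CfsgLib.Coprime.commutator_le_frattini h.isPGroup ?_)
      have h1 : w⁻¹ * y ∈ gam G 2 := (QuotientGroup.eq).1 hwe
      rw [← Subgroup.top_lowerCentralSeries_one]
      exact h1
    have hH' : H = ⊤ := hgen H (eq_top_of_card_eq _ (by
      rw [← relIndex_ker, QuotientGroup.ker_mk', hri, hQ]))
    refine ⟨{a, b}, (Finset.card_le_two).trans hp.two_le, ?_⟩
    rw [hH']
    refine hgen _ ?_
    rw [MonoidHom.map_closure, Finset.coe_insert, Finset.coe_singleton, Set.image_insert_eq,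
      Set.image_singleton]
    exact hb'

end CfsgLib.MaxClassShift
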