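import Cfsg.Agent.Lib.PGroup.MaxClassUniform
import Cfsg.Agent.Lib.Fusion.Tate
import Cfsg.Agent.Lib.Coprime.Core

/-!
# Fusion of uniform elements in groups with Sylow subgroups of maximal class

A uniform element is either fully centralized or conjugate to an element of the derived subgroup of
the Sylow subgroup.
-/

set_option autoImplicit false
set_option linter.style.haveILetI false
set_option linter.unusedSectionVars false

open Subgroup
open scoped commutatorElement

namespace CfsgLib.MaxClassFusion

open CfsgLib.MaxClassShift (gam gam_normal gam_anti gam_comm)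
open CfsgLib.MaxClassUniform

universe u

variable {p : ℕ} [hp : Fact p.Prime]

theorem le_factorization {G : Type u} [Group G] [Finite G] {H : Subgroup G} {k : ℕ}
    (h : p ^ k ∣ Nat.card H) : k ≤ (Nat.card H).factorization p :=
  (Nat.Prime.pow_dvd_iff_le_factorization hp.out Nat.card_pos.ne').1 h

/-- A `p`-element normalizing a subgroup of order `p` centralizes it. -/
theorem conj_eq_self_of_mem {G : Type u} [Group G] {t z : G} {k : ℕ} (ht : t ^ p ^ k = 1)
    (hz : orderOf z = p) {b : ℤ} (h : t * z * t⁻¹ = z ^ b) : t * z * t⁻¹ = z := by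
  have hi : ∀ i : ℕ, t ^ i * z * (t ^ i)⁻¹ = z ^ (b ^ i) := by
    intro i
    induction i with
    | zero => simp
    | succ i ih =>
      rw [pow_succ', show t * t ^ i * z * (t * t ^ i)⁻¹ = t * (t ^ i * z * (t ^ i)⁻¹) * t⁻¹ by group,
        ih, ← conj_zpow, h, ← zpow_mul, ← pow_succ']
  have h1 := hi (p ^ k)
  rw [ht, one_mul, inv_one, mul_one] at h1
  conv_lhs at h1 => rw [← zpow_one z]
  rw [zpow_eq_zpow_iff_modEq, hz, ← ZMod.intCast_eq_intCast_iff, Int.cast_one, Int.cast_pow,
    ZMod.pow_card_pow] at h1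
  rw [h]
  conv_rhs => rw [← zpow_one z]
  rw [zpow_eq_zpow_iff_modEq, hz, ← ZMod.intCast_eq_intCast_iff, Int.cast_one]
  exact h1.symm

/-- Uniform elements: fully centralized or fused into the derived subgroup. -/
theorem fused_or_central : ∀ (n : ℕ) (G P : Type u) [Group G] [Finite G] [Group P] [Finite P]
    (ι : P →* G), Function.Injective ι → (Nat.card G).factorization p = n → IsPGroup p P →
    Nat.card P = p ^ n → 2 ≤ n → Group.nilpotencyClass P = n - 1 →
    ∀ s : P, Nat.card (centralizer ({s} : Set P)) = p ^ 2 →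
      (Nat.card (centralizer ({ι s} : Set G))).factorization p = 2 ∨
        ∃ g : G, ∃ y ∈ gam P 2, g * ι s * g⁻¹ = ι y := by
  intro n
  induction n with
  | zero => intro G P _ _ _ _ ι _ _ _ _ h2; omega
  | succ m ih =>
    intro G P _ _ _ _ ι hι hG hP hcard h2 hcl s hs
    set S := ι s with hSdef
    set C := centralizer ({S} : Set G) with hCdef
    set A := (centralizer ({s} : Set P)).map ι with hAdef
    have hAcard : Nat.card A = p ^ 2 := by rw [hAdef, card_map_of_injective hι, hs]
    have hAC : A ≤ C := by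
      rintro _ ⟨a, ha, rfl⟩
      rw [hCdef, mem_centralizer_singleton_iff, hSdef, ← map_mul, ← map_mul,
        mem_centralizer_singleton_iff.1 ha]
    have h2C : 2 ≤ (Nat.card C).factorization p :=
      le_factorization (hAcard ▸ card_dvd_of_le hAC)
    have hCG : (Nat.card C).factorization p ≤ m + 1 := hG ▸
      (Nat.factorization_le_iff_dvd Nat.card_pos.ne' Nat.card_pos.ne').2
        (card_subgroup_dvd_card C) p
    by_cases hC2 : (Nat.card C).factorization p = 2
    · exact Or.inl hC2
    have h3 : 3 ≤ m + 1 := by omega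
    have hp1 := hp.out.one_lt
    have hu : Uniform s p (m + 1) := ⟨hcard, hs, h3⟩
    -- a larger `p`-subgroup of the centralizer
    obtain ⟨K, hKcard, hAK, hKC⟩ :
        ∃ K : Subgroup G, Nat.card K = p ^ 3 ∧ A ≤ K ∧ K ≤ C := by
      have hd : p ^ 3 ∣ Nat.card C :=
        (Nat.Prime.pow_dvd_iff_le_factorization hp.out Nat.card_pos.ne').2 (by omega)
      obtain ⟨K, hK, hAK⟩ := Sylow.exists_subgroup_card_pow_succ (p := p) (n := 2) hd
        (H := A.subgroupOf C) (by rw [Nat.card_congr (subgroupOfEquivOfLe hAC).toEquiv, hAcard])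
      refine ⟨K.map C.subtype, by rw [card_map_of_injective C.subtype_injective, hK],
        fun a ha => ⟨⟨a, hAC ha⟩, hAK (by rwa [mem_subgroupOf]), rfl⟩, map_subtype_le _⟩
    haveI : Group.IsNilpotent K := (IsPGroup.of_card hKcard).isNilpotent
    obtain ⟨t, htK, htA, htN⟩ : ∃ t ∈ K, t ∉ A ∧ ∀ a ∈ A, t * a * t⁻¹ ∈ A := by
      have hlt : A.subgroupOf K < ⊤ := by
        refine lt_top_iff_ne_top.2 fun e => ?_
        have h1 := Subgroup.card_le_of_le (subgroupOf_eq_top.1 e)
        rw [hKcard, hAcard] at h1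
        exact absurd h1 (Nat.pow_lt_pow_right hp1 (by omega)).not_ge
      obtain ⟨t, ht, htA⟩ := SetLike.exists_of_lt (normalizerCondition_of_isNilpotent _ hlt)
      refine ⟨t, t.2, fun h => htA (mem_subgroupOf.2 h), fun a ha => ?_⟩
      exact mem_subgroupOf.1 ((mem_normalizer_iff.1 ht ⟨a, hAK ha⟩).1 (mem_subgroupOf.2 ha))
    have hKgen : K ≤ A ⊔ zpowers t := by
      obtain ⟨i, hi, hic⟩ := (Nat.dvd_prime_pow hp.out).1
        (hKcard ▸ card_dvd_of_le (sup_le hAK (zpowers_le.2 htK)))
      refine (eq_of_le_of_card_ge (sup_le hAK (zpowers_le.2 htK)) ?_).ge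
      rw [hic, hKcard]
      refine Nat.pow_le_pow_right hp.out.pos ?_
      by_contra hlt
      refine htA ?_
      rw [eq_of_le_of_card_ge (le_sup_left : A ≤ A ⊔ zpowers t)
        (by rw [hic, hAcard]; exact Nat.pow_le_pow_right hp.out.pos (by omega))]
      exact mem_sup_right (mem_zpowers t)
    -- the central element
    haveI := gam_normal (G := P) (m + 1 - 1)
    have hZc : Nat.card (gam P (m + 1 - 1)) = p := card_gam_pred hP hcard h3 hcl
    obtain ⟨z, hz, hz1⟩ : ∃ z ∈ gam P (m + 1 - 1), z ≠ 1 := by
      by_contra hcon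
      push Not at hcon
      rw [(eq_bot_iff_forall _).2 hcon, Subgroup.card_bot] at hZc
      exact hp.out.ne_one hZc.symm
    have hzord : orderOf z = p := by
      rcases (Nat.dvd_prime hp.out).1 (hZc ▸ orderOf_dvd_natCard _ hz) with h | h
      · exact absurd (orderOf_eq_one_iff.1 h) hz1
      · exact h
    have hzcen : ∀ g : P, Commute z g := fun g => by
      have h1 : ⁅z, g⁆ ∈ gam P (m + 1 - 1 + 1) := gam_comm (by omega) le_rfl hz (mem_top g)
      rw [gam_last_eq_bot hP hcard h3 hcl (by omega), mem_bot,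
        commutatorElement_eq_one_iff_mul_comm] at h1
      exact h1
    have hzgen : zpowers z = gam P (m + 1 - 1) :=
      eq_of_le_of_card_ge (zpowers_le.2 hz) (by rw [hZc, Nat.card_zpowers, hzord])
    obtain ⟨a, ha, hat⟩ : ∃ a ∈ centralizer ({s} : Set P), t * ι z * t⁻¹ = ι a := by
      obtain ⟨a, ha, e⟩ := htN (ι z) (mem_map_of_mem ι
        (mem_centralizer_singleton_iff.2 (hzcen s).eq))
      exact ⟨a, ha, e.symm⟩
    by_cases haZ : a ∈ gam P (m + 1 - 1)
    swap
    · -- the centre is moved
      have hsa : ∃ e : ℤ, s * a ^ e ∈ gam P (m + 1 - 1) := by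
        set Cs := centralizer ({s} : Set P)
        set Z := (gam P (m + 1 - 1)).subgroupOf Cs
        haveI : Z.Normal := inferInstance
        have hle : gam P (m + 1 - 1) ≤ Cs := fun w hw => by
          rw [← hzgen] at hw
          obtain ⟨i, rfl⟩ := mem_zpowers_iff.1 hw
          exact zpow_mem (mem_centralizer_singleton_iff.2 (hzcen s).eq) i
        have hq : Nat.card (Cs ⧸ Z) = p := by
          have h1 := Z.card_eq_card_quotient_mul_card_subgroup
          rw [hs, Nat.card_congr (subgroupOfEquivOfLe hle).toEquiv, hZc, pow_two] at h1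
          exact (Nat.eq_of_mul_eq_mul_right hp.out.pos h1).symm
        obtain ⟨e, he⟩ := mem_zpowers_iff.1 (mem_zpowers_of_prime_card hq
          (g := QuotientGroup.mk' Z ⟨a, ha⟩)
          (fun h => haZ (mem_subgroupOf.1 ((QuotientGroup.eq_one_iff _).1 h)))
          (g' := (QuotientGroup.mk' Z ⟨s, mem_centralizer_singleton_iff.2 rfl⟩)⁻¹))
        refine ⟨e, ?_⟩
        rw [← map_zpow, eq_inv_iff_mul_eq_one, ← map_mul] at he
        have h2 := mem_subgroupOf.1 ((QuotientGroup.eq_one_iff _).1 he)
        have hcom : Commute s (a ^ e) := Commute.zpow_right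
          ((mem_centralizer_singleton_iff.1 ha).symm : Commute s a) e
        rw [hcom.eq]
        simpa using h2
      obtain ⟨e, he⟩ := hsa
      obtain ⟨g₀, hg₀⟩ := hu.exists_conj (c := z ^ e) (gam_anti (by omega) (zpow_mem hz e))
      refine Or.inr ⟨t * ι g₀, s * a ^ e, gam_anti (by omega) he, ?_⟩
      rw [show t * ι g₀ * S * (t * ι g₀)⁻¹ = t * (ι g₀ * S * (ι g₀)⁻¹) * t⁻¹ by group,
        hSdef, ← map_inv ι g₀, ← map_mul, ← map_mul, hg₀, map_mul, map_zpow,
        show t * ((ι z) ^ e * ι s) * t⁻¹ = (t * (ι z) ^ e * t⁻¹) * (t * ι s * t⁻¹) by group,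
        ← conj_zpow, hat, ← map_zpow,
        show t * ι s * t⁻¹ = ι s by
          rw [mem_centralizer_singleton_iff.1 (hKC htK), mul_inv_cancel_right],
        ← map_mul]
      have hcom : Commute s (a ^ e) := Commute.zpow_right
        ((mem_centralizer_singleton_iff.1 ha).symm : Commute s a) e
      rw [hcom.eq]
    -- the centre is fixed
    obtain ⟨k, htk⟩ : ∃ k, t ^ p ^ k = 1 := by
      obtain ⟨k, hk⟩ := (IsPGroup.of_card hKcard) ⟨t, htK⟩
      exact ⟨k, congrArg Subtype.val hk⟩
    have htz : t * ι z * t⁻¹ = ι z := by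
      obtain ⟨b, hb⟩ := mem_zpowers_iff.1 (hzgen.ge haZ)
      refine conj_eq_self_of_mem htk ((orderOf_injective ι hι z).trans hzord) (b := b) ?_
      rw [hat, ← hb, map_zpow]
    set X := centralizer ({ι z} : Set G) with hXdef
    have hPX : ι.range ≤ X := by
      rintro _ ⟨g, rfl⟩
      exact mem_centralizer_singleton_iff.2 (by rw [← map_mul, ← map_mul, (hzcen g).eq])
    have hKX : K ≤ X := hKgen.trans (sup_le ((map_le_range ι _).trans hPX)
      (zpowers_le.2 (mem_centralizer_singleton_iff.2 (mul_inv_eq_iff_eq_mul.1 htz))))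
    set ιX : P →* X := ι.codRestrict X (fun g => hPX ⟨g, rfl⟩) with hιX
    set Zp := (zpowers (ι z)).subgroupOf X with hZp
    haveI hZn : Zp.Normal := ⟨fun w hw g => by
      have hc : (g : G) * w * (g : G)⁻¹ = w := by
        obtain ⟨i, hi⟩ := mem_zpowers_iff.1 (mem_subgroupOf.1 hw)
        have h1 : Commute (g : G) ((ι z) ^ i) :=
          Commute.zpow_right (mem_centralizer_singleton_iff.1 g.2) i
        rw [← hi, h1.eq, mul_inv_cancel_right]
      rwa [show g * w * g⁻¹ = w from Subtype.ext hc]⟩
    set π := QuotientGroup.mk' Zp with hπ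
    let ι' : P ⧸ gam P (m + 1 - 1) →* X ⧸ Zp := QuotientGroup.lift _ (π.comp ιX) fun w hw => by
      rw [← hzgen] at hw
      obtain ⟨i, rfl⟩ := mem_zpowers_iff.1 hw
      refine (QuotientGroup.eq_one_iff _).2 (mem_subgroupOf.2 ?_)
      show ι (z ^ i) ∈ zpowers (ι z)
      rw [map_zpow]
      exact zpow_mem (mem_zpowers _) i
    have hι' : Function.Injective ι' := by
      rw [injective_iff_map_eq_one]
      intro w hw
      induction w using QuotientGroup.induction_on with
      | _ w =>
        have h1 : ι w ∈ zpowers (ι z) := mem_subgroupOf.1 ((QuotientGroup.eq_one_iff _).1 hw)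
        obtain ⟨i, hi⟩ := mem_zpowers_iff.1 h1
        rw [← map_zpow] at hi
        exact (QuotientGroup.eq_one_iff w).2 (hι hi ▸ zpow_mem hz i)
    have hZpc : Nat.card Zp = p := by
      rw [Nat.card_congr (subgroupOfEquivOfLe (zpowers_le.2 (hPX ⟨z, rfl⟩))).toEquiv,
        Nat.card_zpowers, orderOf_injective ι hι, hzord]
    have hXf : (Nat.card X).factorization p = m + 1 := by
      refine le_antisymm (hG ▸ (Nat.factorization_le_iff_dvd Nat.card_pos.ne' Nat.card_pos.ne').2
        (card_subgroup_dvd_card X) p) ?_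
      refine le_factorization ?_
      rw [← hcard, Nat.card_congr (MonoidHom.ofInjective hι).toEquiv]
      exact card_dvd_of_le hPX
    have hXq : (Nat.card (X ⧸ Zp)).factorization p = m := by
      have h1 := Zp.card_eq_card_quotient_mul_card_subgroup
      rw [h1, hZpc, Nat.factorization_mul Nat.card_pos.ne' hp.out.ne_zero, Finsupp.add_apply,
        hp.out.factorization_self] at hXf
      omega
    obtain ⟨hqc, hqcl⟩ : Nat.card (P ⧸ gam P (m + 1 - 1)) = p ^ m ∧
        Group.nilpotencyClass (P ⧸ gam P (m + 1 - 1)) = m - 1 := by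
      rcases (show m + 1 = 3 ∨ 4 ≤ m + 1 by omega) with hm | h4
      · have hc : Nat.card (P ⧸ gam P (m + 1 - 1)) = p ^ m := by
          rw [← index_eq_card, PGroup.MaxClassRank.index_gam hP hcard h3 hcl (by omega) (by omega)]
          congr 1
        refine ⟨hc, ?_⟩
        haveI := (hP.to_quotient (gam P (m + 1 - 1))).isNilpotent
        refine le_antisymm (CfsgLib.PGroup.nilpotencyClass_le_pred (hP.to_quotient _) hc (by omega)) ?_
        rw [show m - 1 = 1 by omega, Nat.one_le_iff_ne_zero]
        intro h0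
        haveI := Group.nilpotencyClass_zero_iff_subsingleton.1 h0
        rw [Nat.card_unique] at hc
        exact absurd hc (Nat.one_lt_pow (by omega) hp1).ne
      · obtain ⟨h1, h2⟩ := nilpotencyClass_quotient hP hcard hcl h4
        exact ⟨by rw [h1]; congr 1, by rw [h2]; omega⟩
    have hsq : Nat.card (centralizer ({(s : P ⧸ gam P (m + 1 - 1))} : Set _)) = p ^ 2 := by
      set N := gam P (m + 1 - 1)
      set q := QuotientGroup.mk' N
      set D := centralizer ({q s} : Set (P ⧸ N))
      have hconj : ∀ c : (gam P 2).map q, ∃ g : P, q (g * s * g⁻¹) = c * q s := by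
        rintro ⟨_, c, hc, rfl⟩
        obtain ⟨g, hg⟩ := hu.exists_conj hc
        exact ⟨g, by rw [hg, map_mul]⟩
      choose f hf using hconj
      have hinj : Nat.card ((gam P 2).map q) ≤ D.index := by
        rw [index_eq_card]
        refine Nat.card_le_card_of_injective (fun c => ((q (f c) : P ⧸ N) : (P ⧸ N) ⧸ D)) ?_
        intro c d e
        have e1 : (q (f c))⁻¹ * q (f d) ∈ D := QuotientGroup.eq.1 e
        rw [mem_centralizer_singleton_iff] at e1
        refine Subtype.ext (mul_right_cancel (b := q s) ?_)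
        rw [← hf c, ← hf d, map_mul, map_mul, map_inv, map_mul, map_mul, map_inv]
        calc q (f c) * q s * (q (f c))⁻¹
            = q (f c) * (q s * ((q (f c))⁻¹ * q (f d))) * (q (f d))⁻¹ := by group
          _ = _ := by rw [← e1]; group
      have hmap : Nat.card ((gam P 2).map q) = p ^ (m - 2) := by
        have h1 : ((gam P 2).map q).index = p ^ 2 := by
          rw [Subgroup.index_map_eq (gam P 2) (QuotientGroup.mk'_surjective N)
            (by rw [QuotientGroup.ker_mk']; exact gam_anti (by omega)),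
            PGroup.MaxClassRank.index_gam hP hcard h3 hcl le_rfl (by omega)]
        have h2 := ((gam P 2).map q).card_mul_index
        rw [h1, hqc, show p ^ m = p ^ (m - 2) * p ^ 2 by rw [← pow_add]; congr 1; omega] at h2
        exact Nat.eq_of_mul_eq_mul_right (pow_pos hp.out.pos 2) h2
      obtain ⟨j, hj⟩ := ((hP.to_quotient N).to_subgroup D).exists_card_eq
      have hjm : j ≤ 2 := by
        have h2 := D.card_mul_index
        rw [hqc, hj] at h2
        have h5 : p ^ j * p ^ (m - 2) ≤ p ^ m :=
          h2 ▸ Nat.mul_le_mul le_rfl (hmap ▸ hinj)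
        rw [← pow_add] at h5
        have := (Nat.pow_le_pow_iff_right hp1).1 h5
        omega
      rcases (show m = 2 ∨ 3 ≤ m by omega) with hm | hm
      · haveI := IsPGroup.isMulCommutative_of_card_eq_prime_sq (hm ▸ hqc)
        show Nat.card D = p ^ 2
        rw [show D = ⊤ from eq_top_iff.2 fun g _ =>
          mem_centralizer_singleton_iff.2 (mul_comm' _ _), card_top, hqc, hm]
      have hs2 : q s ∉ gam (P ⧸ N) 2 := by
        rw [← map_gam hP N]
        rintro ⟨w, hw, e⟩
        refine hu.notMem_gam ?_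
        have h1 : w⁻¹ * s ∈ gam P 2 := gam_anti (by omega) (QuotientGroup.eq.1 e)
        simpa using mul_mem hw h1
      have hZle : gam (P ⧸ N) (m - 1) ≤ D ⊓ gam (P ⧸ N) 2 := by
        refine le_inf (fun v hv => mem_centralizer_singleton_iff.2 ?_) (gam_anti (by omega))
        have h1 : ⁅v, q s⁆ ∈ gam (P ⧸ N) (m - 1 + 1) :=
          gam_comm (by omega) le_rfl hv (mem_top _)
        rw [gam_last_eq_bot (hP.to_quotient N) hqc hm hqcl (by omega), mem_bot,
          commutatorElement_eq_one_iff_mul_comm] at h1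
        exact h1
      have hlt : p < p ^ j := by
        rw [← hj, ← card_gam_pred (hP.to_quotient N) hqc hm hqcl]
        refine lt_of_le_of_ne (Subgroup.card_le_of_le (hZle.trans inf_le_left)) fun e => hs2 ?_
        have h1 := eq_of_le_of_card_ge (hZle.trans inf_le_left) e.ge
        exact gam_anti (by omega) (h1.ge (mem_centralizer_singleton_iff.2 rfl))
      have : j = 2 := by
        have h1 : 1 < j := (Nat.pow_lt_pow_iff_right hp1).1 ((pow_one p).symm ▸ hlt)
        omega
      show Nat.card D = p ^ 2
      rw [hj, this]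
    rcases ih (X ⧸ Zp) (P ⧸ gam P (m + 1 - 1)) ι' hι' hXq (hP.to_quotient _) hqc (by omega) hqcl
        (s : P ⧸ gam P (m + 1 - 1)) hsq with h | ⟨g, y, hy, hg⟩
    · exfalso
      set X₁ := (centralizer ({π (ιX s)} : Set (X ⧸ Zp))).comap π with hX₁
      have hcen : ∀ w ∈ Zp, ∀ g : X, Commute w g := fun w hw g => by
        obtain ⟨i, hi⟩ := mem_zpowers_iff.1 (mem_subgroupOf.1 hw)
        refine Subtype.ext ?_
        show (w : G) * g = g * w
        rw [← hi]
        exact ((Commute.zpow_right (mem_centralizer_singleton_iff.1 g.2 : Commute (g : G) (ι z)) i).symm).eq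
      have hval : ∀ c ∈ X₁, ⁅c, ιX s⁆ ∈ Zp := fun c hc => by
        rw [← QuotientGroup.eq_one_iff, ← QuotientGroup.mk'_apply, map_commutatorElement,
          commutatorElement_eq_one_iff_mul_comm]
        exact mem_centralizer_singleton_iff.1 hc
      let φ : X₁ →* X := MonoidHom.mk' (fun c => ⁅(c : X), ιX s⁆) fun c d => by
        rw [Subgroup.coe_mul, show ⁅(c : X) * d, ιX s⁆ =
          (c : X) * ⁅(d : X), ιX s⁆ * (c : X)⁻¹ * ⁅(c : X), ιX s⁆ by
            simp only [commutatorElement_def]; group,
          ← (hcen _ (hval d d.2) c).eq, mul_inv_cancel_right]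
        exact (hcen _ (hval d d.2) _).eq
      have hX₁f : (Nat.card X₁).factorization p = 3 := by
        have h1 := relIndex_mul_relIndex (⊥ : Subgroup X) π.ker X₁ bot_le (ker_le_comap π _)
        have hkc : Nat.card π.ker = p := by rw [hπ, QuotientGroup.ker_mk', hZpc]
        rw [relIndex_bot_left, relIndex_bot_left, hkc] at h1
        have h2 : π.ker.relIndex X₁ = Nat.card (centralizer ({π (ιX s)} : Set (X ⧸ Zp))) := by
          rw [Subgroup.relIndex_ker, hX₁,
            map_comap_eq_self_of_surjective (QuotientGroup.mk'_surjective Zp)]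
        rw [← h1, h2, Nat.factorization_mul hp.out.ne_zero Nat.card_pos.ne', Finsupp.add_apply,
          hp.out.factorization_self, show π (ιX s) = ι' (s : P ⧸ gam P (m + 1 - 1)) from rfl, h]
      obtain ⟨g₀, hg₀⟩ := hu.exists_conj (c := z) (gam_anti (by omega) hz)
      have hg₁ : ⁅ιX g₀, ιX s⁆ = ιX z := by
        rw [← map_commutatorElement, commutatorElement_def, hg₀, mul_inv_cancel_right]
      have hzX : ιX z ∈ Zp := mem_subgroupOf.2 (mem_zpowers _)
      have hg₀X : ιX g₀ ∈ X₁ := by
        refine mem_centralizer_singleton_iff.2 ?_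
        rw [← commutatorElement_eq_one_iff_mul_comm, ← map_commutatorElement, hg₁]
        exact (QuotientGroup.eq_one_iff _).2 hzX
      have hrange : Nat.card φ.range = p := by
        have hle : φ.range ≤ Zp := by rintro _ ⟨c, rfl⟩; exact hval c c.2
        rcases (Nat.dvd_prime hp.out).1 (hZpc ▸ card_dvd_of_le hle) with h1 | h1
        · exfalso
          have h2 : φ ⟨ιX g₀, hg₀X⟩ = 1 := by
            rw [← mem_bot, ← Subgroup.card_eq_one.1 h1]
            exact ⟨_, rfl⟩
          have h3 : ιX z = 1 := hg₁ ▸ h2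
          exact hz1 (hι ((congrArg Subtype.val h3).trans (map_one ι).symm))
        · exact h1
      have hkf : (Nat.card φ.ker).factorization p = 2 := by
        have h1 := φ.ker.card_mul_index
        rw [index_ker, hrange] at h1
        rw [← h1, Nat.factorization_mul Nat.card_pos.ne' hp.out.ne_zero, Finsupp.add_apply,
          hp.out.factorization_self] at hX₁f
        omega
      have hcomm : ∀ k : K, ⁅(⟨k, hKX k.2⟩ : X), ιX s⁆ = 1 := fun k => by
        rw [commutatorElement_eq_one_iff_mul_comm]
        exact Subtype.ext (mem_centralizer_singleton_iff.1 (hKC k.2))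
      have hKX₁ : ∀ k : K, (⟨k, hKX k.2⟩ : X) ∈ X₁ := fun k => by
        refine mem_centralizer_singleton_iff.2 ?_
        rw [← map_mul, ← map_mul, commutatorElement_eq_one_iff_mul_comm.1 (hcomm k)]
      let j : K →* φ.ker := MonoidHom.mk' (fun k => ⟨⟨⟨k, hKX k.2⟩, hKX₁ k⟩, hcomm k⟩)
        fun a b => rfl
      have hj : Function.Injective j := fun a b e =>
        Subtype.ext (congrArg (fun w : φ.ker => ((w.1.1 : X) : G)) e :)
      have h4 := le_factorization (p := p) (k := 3) (H := φ.ker)
        (hKcard ▸ Subgroup.card_dvd_of_injective j hj)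
      omega
    · induction g using QuotientGroup.induction_on with
      | _ g =>
        obtain ⟨w, hw, rfl⟩ : ∃ w ∈ gam P 2, (w : P ⧸ gam P (m + 1 - 1)) = y := by
          rw [← map_gam hP] at hy
          obtain ⟨w, hw, e⟩ := hy
          exact ⟨w, hw, e⟩
        have h1 : (g * ιX s * g⁻¹)⁻¹ * ιX w ∈ Zp := QuotientGroup.eq.1 hg
        obtain ⟨i, hi⟩ := mem_zpowers_iff.1 (mem_subgroupOf.1 h1)
        refine Or.inr ⟨(g : G), w * z ^ (-i), mul_mem hw (gam_anti (by omega) (zpow_mem hz _)), ?_⟩
        rw [map_mul, map_zpow, zpow_neg, hi]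
        show (g : G) * ι s * (g : G)⁻¹ = ι w * (((g : G) * ι s * (g : G)⁻¹)⁻¹ * ι w)⁻¹
        group

/-- **The dichotomy for Sylow subgroups of maximal class.** -/
theorem dichotomy {G : Type u} [Group G] [Finite G] (P : Sylow p G) {n : ℕ}
    (hP : Nat.card P = p ^ n) (hn : 2 ≤ n)
    (hmax : Group.nilpotencyClass ↥(P : Subgroup G) = n - 1)
    (hcore : Cfsg.pPrimeCore p G = ⊥)
    (hres : ∀ N : Subgroup G, N.Normal → (N.index).Coprime p → N = ⊤)
    (hnone : ∀ x ∈ (P : Subgroup G),
      (Nat.card (centralizer ({x} : Set G))).factorization p ≠ 2) :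
    ∃ Q : Subgroup G, Q.Normal ∧ Q ≤ center G ∧ Nat.card Q ≤ p ∧ Q ≠ ⊤ ∧
      ¬ IsMulCommutative (G ⧸ center G) ∧ ∀ K : Subgroup G, K.Normal → K ≠ ⊤ → K ≤ Q := by
  have hPfac : (Nat.card G).factorization p = n := by
    have h := Sylow.card_eq_multiplicity P
    rw [hP] at h
    exact (Nat.pow_right_injective hp.out.two_le h).symm
  have hP' : IsPGroup p (P : Subgroup G) := P.2
  have hn3 : 3 ≤ n := by
    by_contra h
    refine hnone 1 (one_mem _) ?_
    rw [show centralizer ({(1 : G)} : Set G) = ⊤ from eq_top_iff.2 fun g _ =>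
      mem_centralizer_singleton_iff.2 (by simp), card_top, hPfac]
    omega
  set D := gam (P : Subgroup G) 2
  -- uniform elements are fused into the derived subgroup
  have hfuse : ∀ s : (P : Subgroup G), Uniform s p n → ∃ g : G, ∃ y ∈ D,
      g * (s : G) * g⁻¹ = (y : G) := fun s hs =>
    (fused_or_central n G (P : Subgroup G) (P : Subgroup G).subtype
      (P : Subgroup G).subtype_injective hPfac hP' hP hn hmax s hs.cent).resolve_left
      (hnone s s.2)
  have hidx : D.index = p ^ 2 :=
    PGroup.MaxClassRank.index_gam hP' hP hn3 hmax le_rfl (by omega)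
  -- proper normal subgroups meet `P` in the derived subgroup
  have hsmall : ∀ K : Subgroup G, K.Normal → K ≠ ⊤ → K.subgroupOf P ≤ D := by
    intro K hK hKtop
    haveI := hK
    set M := K.subgroupOf (P : Subgroup G)
    obtain ⟨r, hr⟩ := hP'.index M
    rcases (show r = 0 ∨ r = 1 ∨ 2 ≤ r by omega) with rfl | rfl | hr2
    · refine absurd (hres K hK ?_) hKtop
      rw [pow_zero, index_eq_one, subgroupOf_eq_top] at hr
      exact Nat.Coprime.coprime_dvd_left (index_dvd_of_le hr)
        ((hp.out.coprime_iff_not_dvd.2 P.not_dvd_index).symm)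
    · obtain ⟨s, hs, hsM⟩ := exists_uniform n (P : Subgroup G) hP' hP hn3 hmax M (fun e => by
        rw [e, index_top, pow_one] at hr
        exact hp.out.ne_one hr.symm)
      obtain ⟨g, y, hy, hg⟩ := hfuse s hs
      haveI : M.Normal := inferInstance
      have hDM : D ≤ M := by
        rw [show D = commutator _ from Subgroup.top_lowerCentralSeries_one]
        haveI : IsCyclic ((P : Subgroup G) ⧸ M) :=
          isCyclic_of_prime_card (p := p) (by rw [← index_eq_card, hr, pow_one])
        letI := IsCyclic.commGroup (α := (P : Subgroup G) ⧸ M)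
        exact Subgroup.Normal.quotient_commutative_iff_commutator_le.1 inferInstance
      refine absurd (mem_subgroupOf.2 ?_) hsM
      rw [show (s : G) = g⁻¹ * (y : G) * g⁻¹⁻¹ by rw [← hg]; group]
      exact hK.conj_mem _ (mem_subgroupOf.1 (hDM hy)) g⁻¹
    · have hle : gam (P : Subgroup G) r ≤ M :=
        CfsgLib.PGroup.lowerCentralSeries_le_of_index hP' hr2 hr
      have hrn : r ≤ n :=
        (Nat.pow_dvd_pow_iff_le_right hp.out.one_lt).1 (hr ▸ hP ▸ index_dvd_card M)
      refine le_trans (eq_of_le_of_card_ge hle (le_of_eq ?_)).ge (gam_anti hr2)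
      have h1 := M.card_mul_index
      have h2 := (gam (P : Subgroup G) r).card_mul_index
      rw [hr, hP] at h1
      rw [PGroup.MaxClassRank.index_gam hP' hP hn3 hmax hr2 hrn, hP, ← h1] at h2
      exact (Nat.eq_of_mul_eq_mul_right (pow_pos hp.out.pos r) h2).symm
  have hPnt : (P : Subgroup G) ≠ ⊤ := by
    intro e
    obtain ⟨s, hs, -⟩ := exists_uniform n (P : Subgroup G) hP' hP hn3 hmax ⊥ (fun h => by
      have h1 := card_top (G := (P : Subgroup G))
      rw [← h, Subgroup.card_bot, hP] at h1
      exact absurd h1.symm (Nat.one_lt_pow (by omega) hp.out.one_lt).ne')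
    refine hnone s s.2 ?_
    have hc : centralizer ({(s : G)} : Set G) = (centralizer ({s} : Set (P : Subgroup G))).map
        (P : Subgroup G).subtype := by
      ext g
      constructor
      · intro hg
        exact ⟨⟨g, e ▸ mem_top g⟩,
          mem_centralizer_singleton_iff.2 (Subtype.ext (mem_centralizer_singleton_iff.1 hg)), rfl⟩
      · rintro ⟨g, hg, rfl⟩
        exact mem_centralizer_singleton_iff.2
          (congrArg Subtype.val (mem_centralizer_singleton_iff.1 hg))
    rw [hc, card_map_of_injective (P : Subgroup G).subtype_injective, hs.cent,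
      hp.out.factorization_pow, Finsupp.single_eq_same]
  -- hence they are `p`-groups, by Tate
  set Q := Cfsg.pCore p G with hQdef
  have hQn : Q.Normal := Coprime.pCore_normal' p
  have hQp : IsPGroup p Q := Coprime.pCore_isPGroup p
  have hle : ∀ K : Subgroup G, K.Normal → K ≠ ⊤ → K ≤ Q := by
    intro K hK hKtop
    haveI := hK
    obtain ⟨S, N, hNn, hNS⟩ := Fusion.hasNormalPComplement_of_inf_le_frattini P K (by
      rintro g ⟨hgK, hgP⟩
      refine ⟨⟨g, hgP⟩, ?_, rfl⟩
      have h1 : (⟨g, hgP⟩ : (P : Subgroup G)) ∈ D := hsmall K hK hKtop (mem_subgroupOf.2 hgK)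
      rw [show D = commutator _ from Subgroup.top_lowerCentralSeries_one] at h1
      exact CfsgLib.Coprime.commutator_le_frattini hP' h1)
    have hidx' : N.index = Nat.card S := hNS.symm.index_eq_card
    have hcop : (Nat.card N).Coprime p := by
      have h1 := hNS.index_eq_card
      rw [← h1]
      exact (hp.out.coprime_iff_not_dvd.2 S.not_dvd_index).symm
    haveI : N.Characteristic := by
      haveI := hNn
      refine Subgroup.characteristic_iff_map_le.2 fun σ => ?_
      haveI : (N.map σ.toMonoidHom).Normal := hNn.map _ σ.surjective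
      obtain ⟨k, hk⟩ := S.2.exists_card_eq
      set N' := N.map σ.toMonoidHom
      have hN' : Nat.card N' = Nat.card N := card_map_of_injective (f := σ.toMonoidHom) σ.injective
      refine fun w hw => (QuotientGroup.eq_one_iff w).1 ?_
      rw [← orderOf_eq_one_iff]
      refine Nat.Coprime.eq_one_of_dvd ((hcop.pow_right k).coprime_dvd_left ?_) ?_
      · exact hN' ▸ (orderOf_map_dvd (QuotientGroup.mk' N) w).trans
          (Subgroup.orderOf_dvd_natCard N' hw)
      · rw [← hk, ← hidx', index_eq_card]
        exact orderOf_dvd_natCard _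
    have hNbot : N.map K.subtype = ⊥ := by
      refine le_bot_iff.1 ((Coprime.le_pPrimeCore (p := p) ?_).trans hcore.le)
      rwa [card_map_of_injective K.subtype_injective]
    have hN : N = ⊥ := (Subgroup.map_eq_bot_iff_of_injective _ K.subtype_injective).1 hNbot
    refine Coprime.le_pCore ?_
    obtain ⟨k, hk⟩ := S.2.exists_card_eq
    exact IsPGroup.of_card (n := k) (by rw [← hk, ← hidx', hN, index_bot])
  have hQP : Q ≤ (P : Subgroup G) := by
    obtain ⟨R, hR⟩ := hQp.exists_le_sylow
    obtain ⟨g, rfl⟩ := MulAction.exists_smul_eq G R P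
    intro q hq
    rw [Sylow.smul_def, Sylow.pointwise_smul_def, Subgroup.mem_pointwise_smul_iff_inv_smul_mem]
    show (MulAut.conj g)⁻¹ q ∈ (R : Subgroup G)
    rw [MulAut.conj_inv_apply]
    refine hR ?_
    have := hQn.conj_mem q hq g⁻¹
    rwa [inv_inv] at this
  have hQtop : Q ≠ ⊤ := fun e => hPnt (top_le_iff.1 (e.ge.trans hQP))
  have hperf : commutator G = ⊤ := by
    by_contra hne
    obtain ⟨M, hM, hcM⟩ := (IsCoatomic.eq_top_or_exists_le_coatom (commutator G)).resolve_left hne
    have hMn : M.Normal := ⟨fun x hx g => by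
      rw [show g * x * g⁻¹ = ⁅g, x⁆ * x by rw [commutatorElement_def]; group]
      exact mul_mem (hcM (commutator_mem_commutator (mem_top g) (mem_top x))) hx⟩
    haveI := hMn
    haveI : (P : Subgroup G).Normal := ⟨fun x hx g => by
      rw [show g * x * g⁻¹ = ⁅g, x⁆ * x by rw [commutatorElement_def]; group]
      exact mul_mem (hQP ((hcM.trans (hle M hMn hM.1))
        (commutator_mem_commutator (mem_top g) (mem_top x)))) hx⟩
    exact hPnt (hres P inferInstance (hp.out.coprime_iff_not_dvd.2 P.not_dvd_index).symm)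
  -- the core is small, hence central
  have hQcard : Nat.card Q ≤ p := by
    by_contra hbig
    set M := Q.subgroupOf (P : Subgroup G)
    haveI := hQn
    obtain ⟨r, hr⟩ := hP'.index M
    have hMD : M ≤ D := hsmall Q hQn hQtop
    have hr2 : 2 ≤ r := by
      have h1 := Nat.le_of_dvd (Nat.pos_of_ne_zero Subgroup.index_ne_zero_of_finite)
        (index_dvd_of_le hMD)
      rw [hidx, hr] at h1
      exact (Nat.pow_le_pow_iff_right hp.out.one_lt).1 h1
    have hMcard : Nat.card M = Nat.card Q := Nat.card_congr (subgroupOfEquivOfLe hQP).toEquiv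
    have hrn : r ≤ n :=
      (Nat.pow_dvd_pow_iff_le_right hp.out.one_lt).1 (hr ▸ hP ▸ index_dvd_card M)
    have hcM := M.card_mul_index
    rw [hr, hP] at hcM
    have hMgam : gam (P : Subgroup G) r = M := by
      refine eq_of_le_of_card_ge (CfsgLib.PGroup.lowerCentralSeries_le_of_index hP' hr2 hr)
        (le_of_eq ?_)
      have h2 := (gam (P : Subgroup G) r).card_mul_index
      rw [PGroup.MaxClassRank.index_gam hP' hP hn3 hmax hr2 hrn, hP, ← hcM] at h2
      exact (Nat.eq_of_mul_eq_mul_right (pow_pos hp.out.pos r) h2).symm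
    have hr2n : r + 2 ≤ n := by
      by_contra hlt
      refine hbig ?_
      rw [← hMcard]
      refine Nat.le_of_mul_le_mul_right ?_ (pow_pos hp.out.pos r)
      rw [hcM, ← pow_succ']
      exact Nat.pow_le_pow_right hp.out.pos (by omega)
    obtain ⟨s, hs, -⟩ := exists_uniform n (P : Subgroup G) hP' hP hn3 hmax ⊥ (fun h => by
      have h1 := card_top (G := (P : Subgroup G))
      rw [← h, Subgroup.card_bot, hP] at h1
      exact absurd h1.symm (Nat.one_lt_pow (by omega) hp.out.one_lt).ne')
    obtain ⟨g, y, hy, hg⟩ := hfuse s hs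
    -- few elements of the core centralize `s`
    have h1 : Nat.card ↥(M ⊓ centralizer ({s} : Set (P : Subgroup G))) ≤ p := by
      refine le_trans (Subgroup.card_le_of_le ?_) (le_of_eq (card_gam_pred hP' hP hn3 hmax))
      rw [← hs.inf_centralizer, inf_comm M]
      exact inf_le_inf_left _ hMD
    -- many elements centralize `y`
    have h2 : p ^ 2 ≤ Nat.card ↥(M ⊓ centralizer ({y} : Set (P : Subgroup G))) := by
      let f : M → gam (P : Subgroup G) (r + 2) := fun q => ⟨⁅(q : (P : Subgroup G)), y⁆,
        gam_comm (by omega) (by omega) (hMgam.ge q.2) hy⟩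
      classical
      let rep : gam (P : Subgroup G) (r + 2) → (P : Subgroup G) := fun w =>
        if h : ∃ q : M, f q = w then ((h.choose : M) : (P : Subgroup G)) else 1
      have hrep : ∀ q : M, ∃ q' : M, rep (f q) = q' ∧ f q' = f q := fun q =>
        ⟨(⟨q, rfl⟩ : ∃ q', f q' = f q).choose, dif_pos ⟨q, rfl⟩,
          (⟨q, rfl⟩ : ∃ q', f q' = f q).choose_spec⟩
      have hbound : Nat.card M ≤ Nat.card (gam (P : Subgroup G) (r + 2) ×
          ↥(M ⊓ centralizer ({y} : Set (P : Subgroup G)))) := by
        refine Nat.card_le_card_of_injective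
          (fun q => (f q, ⟨(rep (f q))⁻¹ * (q : (P : Subgroup G)), ?_⟩)) ?_
        · obtain ⟨q', hq', he⟩ := hrep q
          refine mem_inf.2 ⟨mul_mem (inv_mem (hq' ▸ q'.2)) q.2, mem_centralizer_singleton_iff.2 ?_⟩
          rw [hq']
          have e1 : ⁅(q' : (P : Subgroup G)), y⁆ = ⁅(q : (P : Subgroup G)), y⁆ :=
            congrArg Subtype.val he
          rw [commutatorElement_def, commutatorElement_def, mul_left_inj] at e1
          generalize (q' : (P : Subgroup G)) = a at e1
          generalize (q : (P : Subgroup G)) = b at e1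
          calc a⁻¹ * b * y = a⁻¹ * (b * y * b⁻¹) * b := by group
            _ = y * (a⁻¹ * b) := by rw [← e1]; group
        · intro a b e
          simp only [Prod.mk.injEq, Subtype.mk.injEq] at e
          obtain ⟨e1, e2⟩ := e
          rw [e1] at e2
          exact Subtype.ext (mul_left_cancel e2)
      rw [Nat.card_prod] at hbound
      have h5 := (gam (P : Subgroup G) (r + 2)).card_mul_index
      rw [PGroup.MaxClassRank.index_gam hP' hP hn3 hmax (by omega) hr2n, hP, ← hcM] at h5
      refine Nat.le_of_mul_le_mul_left ?_ (Nat.card_pos (α := gam (P : Subgroup G) (r + 2)))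
      refine le_trans (le_of_eq ?_) hbound
      refine Nat.eq_of_mul_eq_mul_right (pow_pos hp.out.pos r) ?_
      rw [← h5, pow_add]
      ring
    have h3 : Nat.card ↥(M ⊓ centralizer ({y} : Set (P : Subgroup G))) ≤
        Nat.card ↥(M ⊓ centralizer ({s} : Set (P : Subgroup G))) := by
      have hconj : ∀ q : ↥(M ⊓ centralizer ({y} : Set (P : Subgroup G))),
          g⁻¹ * ((q : (P : Subgroup G)) : G) * g ∈ Q := fun q => by
        have := hQn.conj_mem _ (mem_subgroupOf.1 (mem_inf.1 q.2).1) g⁻¹
        rwa [inv_inv] at this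
      refine Nat.card_le_card_of_injective (fun q => ⟨⟨_, hQP (hconj q)⟩,
        mem_inf.2 ⟨mem_subgroupOf.2 (hconj q), mem_centralizer_singleton_iff.2 (Subtype.ext ?_)⟩⟩) ?_
      · show g⁻¹ * ((q : (P : Subgroup G)) : G) * g * (s : G) =
          (s : G) * (g⁻¹ * ((q : (P : Subgroup G)) : G) * g)
        have hq := congrArg Subtype.val (mem_centralizer_singleton_iff.1 (mem_inf.1 q.2).2)
        simp only [Subgroup.coe_mul] at hq
        generalize ((q : (P : Subgroup G)) : G) = a at hq
        rw [show (s : G) = g⁻¹ * (y : G) * g by rw [← hg]; group]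
        calc g⁻¹ * a * g * (g⁻¹ * (y : G) * g) = g⁻¹ * (a * (y : G)) * g := by group
          _ = _ := by rw [hq]; group
      · intro a b e
        have e' : g⁻¹ * ((a : (P : Subgroup G)) : G) * g = g⁻¹ * ((b : (P : Subgroup G)) : G) * g :=
          congrArg (fun w : ↥(M ⊓ centralizer ({s} : Set (P : Subgroup G))) =>
            ((w : (P : Subgroup G)) : G)) e
        exact Subtype.ext (Subtype.ext (mul_left_cancel (mul_right_cancel e')))
    have h4 : p < p ^ 2 := by
      rw [pow_two]
      exact lt_mul_self hp.out.one_lt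
    omega
  have hQc : Q ≤ center G := by
    haveI := hQn
    obtain ⟨k, hk⟩ := hQp.exists_card_eq
    haveI : IsCyclic Q := by
      rcases (show k = 0 ∨ k = 1 by
        have := (Nat.pow_le_pow_iff_right hp.out.one_lt).1 ((hk ▸ hQcard).trans (pow_one p).ge)
        omega) with rfl | rfl
      · haveI : Subsingleton Q := Finite.card_le_one_iff_subsingleton.1 (hk.le.trans (pow_zero p).le)
        exact isCyclic_of_subsingleton
      · exact isCyclic_of_prime_card (p := p) (hk.trans (pow_one p))
    let c : G →* MulAut Q := MulAut.conjNormal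
    have hcomm : ∀ a b : MulAut Q, a * b = b * a := by
      intro a b
      refine MulEquiv.ext fun x => ?_
      obtain ⟨i, hi⟩ := MonoidHom.map_cyclic (a : Q ≃* Q).toMonoidHom
      obtain ⟨j, hj⟩ := MonoidHom.map_cyclic (b : Q ≃* Q).toMonoidHom
      show a (b x) = b (a x)
      have ha : ∀ w, a w = w ^ i := hi
      have hb : ∀ w, b w = w ^ j := hj
      rw [hb x, ha x, map_zpow, map_zpow, ha x, hb x, ← zpow_mul, ← zpow_mul, mul_comm]
    have hker : commutator G ≤ c.ker := by
      rw [_root_.commutator_def, commutator_le]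
      intro a _ b _
      rw [MonoidHom.mem_ker, map_commutatorElement, commutatorElement_eq_one_iff_mul_comm]
      exact hcomm _ _
    intro q hq
    rw [mem_center_iff]
    intro g
    have h1 : c g = 1 := MonoidHom.mem_ker.1 (hker (hperf ▸ mem_top g))
    have h2 : ((c g ⟨q, hq⟩ : Q) : G) = q := by rw [h1]; rfl
    rw [MulAut.conjNormal_apply] at h2
    exact mul_inv_eq_iff_eq_mul.1 h2
  refine ⟨Q, hQn, hQc, hQcard, hQtop, fun hcom => ?_, hle⟩
  have hc' : commutator G ≤ center G :=
    Subgroup.Normal.quotient_commutative_iff_commutator_le.1 hcom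
  rw [hperf] at hc'
  haveI : (P : Subgroup G).Normal := ⟨fun x hx g => by
    rw [mem_center_iff.1 (hc' (mem_top x)) g, mul_inv_cancel_right]
    exact hx⟩
  exact hPnt (hres P inferInstance (hp.out.coprime_iff_not_dvd.2 P.not_dvd_index).symm)

end CfsgLib.MaxClassFusion
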