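import Cfsg.Agent.Lib.PGroup.MaxClassCube
import Cfsg.Agent.Lib.PGroup.MaxClassFusion

/-!
# The subgroups between `N(E)` and the centralizer of `cz E`; steps and weights

For a cubic subgroup `E` and `N(E) ≤ L ≤ C(cz E)` the group `N(L) / cz E` has maximal class with
`E` uniform.  A self-map of a section of order `p` acts as a power, its weight.
-/

set_option autoImplicit false
set_option linter.style.haveILetI false
set_option linter.unusedSectionVars false
set_option maxHeartbeats 1000000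

open Subgroup
open scoped commutatorElement

namespace CfsgLib.MaxClassCube

open CfsgLib.MaxClassShift (gam gam_normal gam_anti gam_comm)
open CfsgLib.MaxClassUniform (Uniform)
open CfsgLib.Fusion (conjBy conjBy_le_iff conjBy_eq_iff mem_conjBy card_conjBy conj_mem_conjBy)

universe u

variable {G : Type u} [Group G] [Finite G] {p n : ℕ} [Fact p.Prime]

/-! ### Steps of order `p` -/

theorem card_map_mul_card_inf_ker' {H K : Type*} [Group H] [Group K] (f : H →* K) (A : Subgroup H) :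
    Nat.card (A.map f) * Nat.card (A ⊓ f.ker : Subgroup H) = Nat.card A := by
  have h1 := (f.comp A.subtype).ker.card_mul_index
  rw [Subgroup.index_ker, MonoidHom.range_comp, Subgroup.range_subtype] at h1
  rw [mul_comm]
  refine Eq.trans ?_ h1
  congr 1
  exact Nat.card_congr ((Subgroup.equivMapOfInjective _ A.subtype A.subtype_injective).toEquiv.trans
    (Equiv.subtypeEquivRight (fun x => by
      simp only [Subgroup.mem_map, MonoidHom.mem_ker, MonoidHom.coe_comp, Subgroup.coe_subtype,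
        Function.comp_apply, Subgroup.mem_inf]
      exact ⟨fun ⟨a, ha, hax⟩ => hax ▸ ⟨a.2, ha⟩, fun ⟨hxA, hx⟩ => ⟨⟨x, hxA⟩, hx, rfl⟩⟩))).symm

/-- `B` is a normal subgroup of index `p` of `A`. -/
structure Step (p : ℕ) (A B : Subgroup G) : Prop where
  le : B ≤ A
  norm : A ≤ normalizer (B : Set G)
  card : Nat.card A = p * Nat.card B

/-- `f` is multiplicative on `A`. -/
def MulOn (A : Subgroup G) (f : G → G) : Prop := ∀ x ∈ A, ∀ y ∈ A, f (x * y) = f x * f y

/-- `f` acts on `A / B` as the power `r`. -/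
def Wt (A B : Subgroup G) (f : G → G) (r : ℤ) : Prop := ∀ x ∈ A, (x ^ r)⁻¹ * f x ∈ B

theorem commutator_zpow {H : Type*} [Group H] {x y : H} (hx : Commute ⁅x, y⁆ x)
    (hy : Commute ⁅x, y⁆ y) (r s : ℤ) : ⁅x ^ r, y ^ s⁆ = ⁅x, y⁆ ^ (r * s) := by
  set c := ⁅x, y⁆ with hc
  have h1 : x * y * x⁻¹ = c * y := by rw [hc, commutatorElement_def]; group
  have h2 : x * y ^ s * x⁻¹ = c ^ s * y ^ s := by
    rw [← conj_zpow, h1, hy.mul_zpow]
  have h3 : y ^ s * x * (y ^ s)⁻¹ = c ^ (-s) * x := by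
    calc y ^ s * x * (y ^ s)⁻¹ = (x * y ^ s * x⁻¹ * (y ^ s)⁻¹)⁻¹ * x := by group
      _ = (c ^ s)⁻¹ * x := by rw [h2, mul_inv_cancel_right]
      _ = c ^ (-s) * x := by rw [zpow_neg]
  rw [commutatorElement_def]
  calc x ^ r * y ^ s * (x ^ r)⁻¹ * (y ^ s)⁻¹ = x ^ r * (y ^ s * (x ^ (-r)) * (y ^ s)⁻¹) := by
        rw [zpow_neg]; group
    _ = x ^ r * (c ^ (-s) * x) ^ (-r) := by rw [← h3, conj_zpow]
    _ = x ^ r * (c ^ (r * s) * x ^ (-r)) := by
        rw [(hx.zpow_left _).mul_zpow, ← zpow_mul, show -s * -r = r * s by ring]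
    _ = c ^ (r * s) := by
        rw [← mul_assoc, ((hx.zpow_left (r * s)).zpow_right r).eq.symm, mul_assoc, ← zpow_add,
          add_neg_cancel, zpow_zero, mul_one]

theorem zpow_cast {x : G} (hx : x ^ p = 1) {r s : ℤ} (h : (r : ZMod p) = s) : x ^ r = x ^ s := by
  have h1 : (orderOf x : ℤ) ∣ (p : ℤ) := Int.natCast_dvd_natCast.2 (orderOf_dvd_of_pow_eq_one hx)
  exact orderOf_dvd_sub_iff_zpow_eq_zpow.1 (h1.trans ((ZMod.intCast_eq_intCast_iff_dvd_sub _ _ _).1 h.symm))

section StepFacts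

variable {A B : Subgroup G} (h : Step p A B)
include h

theorem Step.not_le : ¬ A ≤ B := fun hle => by
  have h1 := card_le_of_le hle
  rw [h.card] at h1
  have h2 : 0 < Nat.card B := Nat.card_pos
  have := (Fact.out : p.Prime).two_le
  nlinarith

theorem Step.quot : ∃ (_ : (B.subgroupOf A).Normal), Nat.card (↥A ⧸ B.subgroupOf A) = p := by
  haveI := (normal_subgroupOf_iff_le_normalizer h.le).2 h.norm
  refine ⟨inferInstance, ?_⟩
  have e := (B.subgroupOf A).card_mul_index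
  rw [Nat.card_congr (subgroupOfEquivOfLe h.le).toEquiv, h.card, index_eq_card, mul_comm p] at e
  exact Nat.eq_of_mul_eq_mul_left Nat.card_pos e

theorem Step.pow_mem {x : G} (hx : x ∈ A) : x ^ p ∈ B := by
  obtain ⟨_, hq⟩ := h.quot
  have h1 : QuotientGroup.mk' (B.subgroupOf A) (⟨x, hx⟩ ^ p) = 1 := by
    rw [map_pow, ← hq, pow_card_eq_one']
  exact mem_subgroupOf.1 ((QuotientGroup.eq_one_iff _).1 h1)

theorem Step.comm_mem {x y : G} (hx : x ∈ A) (hy : y ∈ A) : ⁅x, y⁆ ∈ B := by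
  obtain ⟨_, hq⟩ := h.quot
  haveI := isCyclic_of_prime_card hq
  haveI : IsMulCommutative (↥A ⧸ B.subgroupOf A) := IsCyclic.commutative
  have h1 : QuotientGroup.mk' (B.subgroupOf A) ⁅(⟨x, hx⟩ : A), ⟨y, hy⟩⁆ = 1 := by
    rw [map_commutatorElement, commutatorElement_eq_one_iff_mul_comm]
    exact mul_comm' _ _
  exact mem_subgroupOf.1 ((QuotientGroup.eq_one_iff _).1 h1)

theorem Step.zpow_eq {x y : G} (hx : x ∈ A) (hxB : x ∉ B) (hy : y ∈ A) :
    ∃ i : ℤ, (x ^ i)⁻¹ * y ∈ B := by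
  obtain ⟨_, hq⟩ := h.quot
  obtain ⟨i, hi⟩ := mem_zpowers_iff.1 (mem_zpowers_of_prime_card hq
    (g := QuotientGroup.mk' (B.subgroupOf A) ⟨x, hx⟩)
    (fun e1 => hxB (mem_subgroupOf.1 ((QuotientGroup.eq_one_iff _).1 e1)))
    (g' := QuotientGroup.mk' (B.subgroupOf A) ⟨y, hy⟩))
  rw [← map_zpow, QuotientGroup.mk'_apply, QuotientGroup.mk'_apply, QuotientGroup.eq, mem_subgroupOf] at hi
  simp only [Subgroup.coe_mul, Subgroup.coe_inv, Subgroup.coe_zpow] at hi
  exact ⟨i, hi⟩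

theorem Step.cast_eq {x : G} (hx : x ∈ A) (hxB : x ∉ B) {r s : ℤ} (hrs : (x ^ r)⁻¹ * x ^ s ∈ B) :
    (r : ZMod p) = s := by
  obtain ⟨_, hq⟩ := h.quot
  by_contra hne
  have hd : ¬ (p : ℤ) ∣ s - r := fun hd => hne ((ZMod.intCast_eq_intCast_iff_dvd_sub _ _ _).2 hd)
  obtain ⟨u, v, huv⟩ : IsCoprime (p : ℤ) (s - r) :=
    (Nat.prime_iff_prime_int.1 (Fact.out : p.Prime)).coprime_iff_not_dvd.2 hd
  refine hxB ?_
  have h1 : x ^ ((s - r) * v) ∈ B := by
    rw [zpow_mul]
    refine zpow_mem ?_ v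
    rwa [sub_eq_neg_add, zpow_add, zpow_neg]
  have h2 : x ^ ((p : ℤ) * u) ∈ B := by
    rw [zpow_mul, zpow_natCast]
    exact zpow_mem (h.pow_mem hx) u
  have h3 := mul_mem h2 h1
  rwa [← zpow_add, show (p : ℤ) * u + (s - r) * v = 1 by linear_combination huv, zpow_one] at h3

theorem Step.wt_cast {f : G → G} {r s : ℤ} (hw : Wt A B f r) (hrs : (r : ZMod p) = s) : Wt A B f s := by
  intro x hx
  obtain ⟨q, hq⟩ := (ZMod.intCast_eq_intCast_iff_dvd_sub _ _ _).1 hrs
  have h1 := mul_mem (inv_mem (zpow_mem (h.pow_mem hx) q)) (hw x hx)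
  rw [← zpow_natCast x p, ← zpow_mul, ← hq] at h1
  rwa [← mul_assoc, ← mul_inv_rev, ← zpow_add, show r + (s - r) = s by ring] at h1

theorem Step.wt_unique {f : G → G} {r s : ℤ} (hr : Wt A B f r) (hs : Wt A B f s) :
    (r : ZMod p) = s := by
  obtain ⟨x, hx, hxB⟩ := SetLike.not_le_iff_exists.1 h.not_le
  refine h.cast_eq hx hxB ?_
  have h1 := mul_mem (hr x hx) (inv_mem (hs x hx))
  rwa [mul_inv_rev, inv_inv, mul_assoc, mul_inv_cancel_left] at h1

theorem Step.wt_of_gen {f : G → G} (hf : MulOn A f) (hB : ∀ b ∈ B, f b ∈ B) {x : G} (hx : x ∈ A)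
    (hxB : x ∉ B) {r : ℤ} (hxr : (x ^ r)⁻¹ * f x ∈ B) (hfA : ∀ y ∈ A, f y ∈ A) : Wt A B f r := by
  obtain ⟨_, hq⟩ := h.quot
  haveI := isCyclic_of_prime_card hq
  haveI : IsMulCommutative (↥A ⧸ B.subgroupOf A) := IsCyclic.commutative
  let q := QuotientGroup.mk' (B.subgroupOf A)
  let φ : A →* ↥A ⧸ B.subgroupOf A :=
    MonoidHom.mk' (fun y => q ⟨f y, hfA _ y.2⟩) fun y z => by
      rw [← map_mul]; exact congrArg q (Subtype.ext (hf _ y.2 _ z.2))
  let ψ : A →* ↥A ⧸ B.subgroupOf A :=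
    MonoidHom.mk' (fun y => q y ^ r) fun y z => by
      rw [map_mul]; exact Commute.mul_zpow (mul_comm' _ _) r
  intro y hy
  obtain ⟨i, hi⟩ := h.zpow_eq hx hxB hy
  have hker : ∀ b : A, (b : G) ∈ B → φ b = 1 ∧ ψ b = 1 := fun b hb =>
    ⟨(QuotientGroup.eq_one_iff _).2 (mem_subgroupOf.2 (hB _ hb)), by
      show q b ^ r = 1
      rw [show q b = 1 from (QuotientGroup.eq_one_iff _).2 (mem_subgroupOf.2 hb), one_zpow]⟩
  have hxx : φ ⟨x, hx⟩ = ψ ⟨x, hx⟩ := by
    show q ⟨f x, hfA x hx⟩ = q ⟨x, hx⟩ ^ r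
    rw [← map_zpow]
    refine ((QuotientGroup.eq).2 (mem_subgroupOf.2 ?_)).symm
    simpa using hxr
  let b : A := ⟨(x ^ i)⁻¹ * y, A.mul_mem (A.inv_mem (A.zpow_mem hx i)) hy⟩
  have hsplit : (⟨y, hy⟩ : A) = ⟨x, hx⟩ ^ i * b := Subtype.ext (by simp [b])
  have hb : (b : G) ∈ B := hi
  have hyy : φ ⟨y, hy⟩ = ψ ⟨y, hy⟩ := by
    rw [hsplit, map_mul, map_mul, map_zpow, map_zpow, hxx, (hker b hb).1, (hker b hb).2]
  have h1 : q ⟨f y, hfA y hy⟩ = q (⟨y, hy⟩ ^ r) := by rw [map_zpow]; exact hyy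
  have h2 := mem_subgroupOf.1 ((QuotientGroup.eq).1 h1.symm)
  simpa using h2

theorem Step.exists_wt {f : G → G} (hf : MulOn A f) (hB : ∀ b ∈ B, f b ∈ B) (hfA : ∀ y ∈ A, f y ∈ A) :
    ∃ r : ℤ, Wt A B f r := by
  obtain ⟨x, hx, hxB⟩ := SetLike.not_le_iff_exists.1 h.not_le
  obtain ⟨r, hr⟩ := h.zpow_eq hx hxB (hfA x hx)
  exact ⟨r, h.wt_of_gen hf hB hx hxB hr hfA⟩

theorem Step.wt_comp {f g : G → G} {r s : ℤ} (hf : Wt A B f r) (hg : Wt A B g s) (hgm : MulOn A g)
    (hgB : ∀ b ∈ B, g b ∈ B) : Wt A B (g ∘ f) (r * s) := by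
  intro x hx
  have hr := hf x hx
  have hxr := A.zpow_mem hx r
  have h1 := hg _ hxr
  rw [← zpow_mul] at h1
  show (x ^ (r * s))⁻¹ * g (f x) ∈ B
  rw [show f x = x ^ r * ((x ^ r)⁻¹ * f x) by group, hgm _ hxr _ (h.le hr), ← mul_assoc]
  exact mul_mem h1 (hgB _ hr)

theorem Step.wt_id : Wt A B id 1 := fun x _ => by simp [zpow_one]

/-- A map of `p`-power order acts trivially on a section of order `p`. -/
theorem Step.wt_one_of_pow {f : G → G} (hf : MulOn A f) (hB : ∀ b ∈ B, f b ∈ B)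
    (hfA : ∀ y ∈ A, f y ∈ A) {k : ℕ} (hk : ∀ x ∈ A, f^[p ^ k] x = x) : Wt A B f 1 := by
  obtain ⟨r, hr⟩ := h.exists_wt hf hB hfA
  have hit : ∀ j : ℕ, Wt A B f^[j] (r ^ j) := by
    intro j
    induction j with
    | zero => rw [pow_zero, Function.iterate_zero]; exact h.wt_id
    | succ j ih =>
      rw [Function.iterate_succ', pow_succ]
      exact h.wt_comp ih hr hf hB
  refine h.wt_cast hr ?_
  have h1 : Wt A B f^[p ^ k] 1 := fun x hx => by rw [hk x hx]; simp
  have h2 := h.wt_unique (hit (p ^ k)) h1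
  rw [Int.cast_pow, ZMod.pow_card_pow] at h2
  exact h2

end StepFacts

/-! ### The layers above the normalizer -/

/-- The part of `L` in the derived subgroup. -/
abbrev Kd (L : Subgroup G) : Subgroup G := L ⊓ gam G 2

/-- The part of `N(E)` in the derived subgroup. -/
abbrev Fd (E : Subgroup G) : Subgroup G := normalizer (E : Set G) ⊓ gam G 2

section Layer

variable {E L : Subgroup G} (hA : Amb G p n) (hE : Cubic p E)
  (hNL : normalizer (E : Set G) ≤ L) (hLC : L ≤ centralizer ((cz E : Subgroup G) : Set G))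
include hA hE hNL hLC

theorem mem_cz_iff {x : G} : x ∈ cz E ↔ x ∈ L ∧ ∀ l ∈ L, l * x = x * l := by
  refine ⟨fun hx => ⟨hNL (le_normalizer (mem_inf.1 hx).1), fun l hl => ?_⟩, fun hx =>
    hE.mem_cz hA ?_ fun y hy => hx.2 y (hNL hy)⟩
  · exact (mem_centralizer_iff.1 (hLC hl) x hx).symm
  · refine conjBy_eq_iff.1 (CfsgLib.Fusion.conjBy_eq_of_le (conjBy_le_iff.2 fun y hy => ?_))
    rwa [← hx.2 y (hNL (le_normalizer hy)), mul_inv_cancel_right]

theorem normalizer_le : normalizer ((L : Subgroup G) : Set G) ≤ normalizer ((cz E : Subgroup G) : Set G) := by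
  intro g hg
  refine conjBy_eq_iff.1 (CfsgLib.Fusion.conjBy_eq_of_le (conjBy_le_iff.2 fun x hx => ?_))
  obtain ⟨hxL, hxc⟩ := (mem_cz_iff hA hE hNL hLC).1 hx
  refine (mem_cz_iff hA hE hNL hLC).2 ⟨(mem_normalizer_iff.1 hg x).1 hxL, fun l hl => ?_⟩
  have h1 := hxc (g⁻¹ * l * g) ((mem_normalizer_iff.1 hg _).2 (by simpa [mul_assoc] using hl))
  calc l * (g * x * g⁻¹) = g * (g⁻¹ * l * g * x) * g⁻¹ := by group
    _ = g * x * g⁻¹ * l := by rw [h1]; group

theorem lt_normalizer : L < normalizer ((L : Subgroup G) : Set G) := by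
  have hlt : L < ⊤ := lt_top_iff_ne_top.2 fun e => hE.cz_ne_bot_center hA fun x hx =>
    mem_center_iff.2 fun g => ((mem_cz_iff hA hE hNL hLC).1 hx).2 g (e ▸ mem_top g)
  have h1 := CfsgLib.Subnormalizer.lt_inf_normalizer (hA.isP.to_subgroup ⊤) hlt
  rwa [top_inf_eq] at h1

theorem exists_notMem : ∃ e ∈ E, e ∉ gam G 2 ∧ e ∉ cz E := by
  obtain ⟨e, he, heg⟩ := SetLike.not_le_iff_exists.1 (hE.not_le_gam hA)
  exact ⟨e, he, heg, fun h => heg (hE.cz_le_gam hA h)⟩

theorem card_normalizer : ∃ m, 3 ≤ m ∧ Nat.card (normalizer ((L : Subgroup G) : Set G)) = p ^ (m + 2) ∧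
    Nat.card L = p ^ (m + 1) := by
  have hp := (Fact.out : p.Prime)
  set U := normalizer ((L : Subgroup G) : Set G) with hU
  obtain ⟨l, hl⟩ := exists_exp hA.isP L
  obtain ⟨k, hk⟩ := exists_exp hA.isP U
  have hlt := mul_card_le hA.isP (lt_normalizer hA hE hNL hLC)
  rw [← hU, hl, hk, ← pow_succ'] at hlt
  have hlk := (Nat.pow_le_pow_iff_right hp.one_lt).1 hlt
  have h4 : 4 ≤ l := by
    have := card_le_of_le hNL
    rw [hE.norm, hl] at this
    exact (Nat.pow_le_pow_iff_right hp.one_lt).1 this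
  refine ⟨k - 2, by omega, by rw [hk]; congr 1; omega, ?_⟩
  have hNU : normalizer (E : Set G) ≤ U := hNL.trans le_normalizer
  haveI : ((cz E).subgroupOf U).Normal := (normal_subgroupOf_iff_le_normalizer
    (inf_le_left.trans (le_normalizer.trans hNU))).2 (normalizer_le hA hE hNL hLC)
  obtain ⟨e, he, heg, hez⟩ := exists_notMem hA hE hNL hLC
  have hu := hE.uniform_quot hA hNU (normalizer_le hA hE hNL hLC) (m := k - 2) (by omega)
    (by rw [hk]; congr 1; omega) he hez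
  set Z := (cz E).subgroupOf U
  haveI : (L.subgroupOf U).Normal := (normal_subgroupOf_iff_le_normalizer le_normalizer).2 le_rfl
  haveI : ((L.subgroupOf U).map (QuotientGroup.mk' Z)).Normal :=
    (inferInstance : (L.subgroupOf U).Normal).map _ (QuotientGroup.mk'_surjective _)
  set Lb := (L.subgroupOf U).map (QuotientGroup.mk' Z) with hLb
  set eb : ↥U ⧸ Z := QuotientGroup.mk ⟨e, hNU (le_normalizer he)⟩
  have heb : eb ∈ Lb := mem_map_of_mem _ (mem_subgroupOf.2 (hNL (le_normalizer he)) :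
    (⟨e, hNU (le_normalizer he)⟩ : U) ∈ L.subgroupOf U)
  have hle : gam (↥U ⧸ Z) 2 ≤ Lb := fun c hc => by
    obtain ⟨g, hg⟩ := hu.exists_conj hc
    have h1 : g * eb * g⁻¹ ∈ Lb := Subgroup.Normal.conj_mem inferInstance _ heb g
    rw [hg] at h1
    exact (Lb.mul_mem_cancel_right heb).1 h1
  have h1 := mul_card_le hu.isPGroup (lt_of_le_of_ne hle fun e1 => hu.notMem_gam (e1.ge heb))
  rw [hu.card_gam le_rfl (by omega)] at h1
  have hZL : cz E ≤ L := fun x hx => ((mem_cz_iff hA hE hNL hLC).1 hx).1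
  have h2 : Nat.card Lb * p ^ 2 = Nat.card L := by
    have e1 := card_map_mul_card_inf_ker' (QuotientGroup.mk' Z) (L.subgroupOf U)
    rw [QuotientGroup.ker_mk', inf_eq_right.2 (fun x hx => mem_subgroupOf.2 (hZL (mem_subgroupOf.1 hx)) :
      Z ≤ L.subgroupOf U), Nat.card_congr (subgroupOfEquivOfLe (hZL.trans le_normalizer)).toEquiv,
      (hE.card_cz hA).1, Nat.card_congr (subgroupOfEquivOfLe le_normalizer).toEquiv] at e1
    exact e1
  rw [hl]
  refine le_antisymm (Nat.pow_le_pow_right hp.pos (by omega)) ?_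
  rw [← hl, ← h2]
  refine le_trans ?_ (Nat.mul_le_mul_right _ h1)
  rw [← pow_succ', ← pow_add]
  exact Nat.pow_le_pow_right hp.pos (by omega)

theorem step_normalizer : Step p (normalizer ((L : Subgroup G) : Set G)) L := by
  obtain ⟨m, -, h1, h2⟩ := card_normalizer hA hE hNL hLC
  exact ⟨le_normalizer, le_rfl, by rw [h1, h2, ← pow_succ']⟩

theorem step_Kd : Step p L (Kd L) := by
  have hp := (Fact.out : p.Prime)
  have hne : L ≠ ⊤ := fun e => (lt_normalizer hA hE hNL hLC).not_ge (e ▸ le_top)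
  obtain ⟨e, he, heg, -⟩ := exists_notMem hA hE hNL hLC
  refine ⟨inf_le_left, fun x hx => ?_, ?_⟩
  · refine conjBy_eq_iff.1 (CfsgLib.Fusion.conjBy_eq_of_le (conjBy_le_iff.2 fun y hy => ?_))
    exact mem_inf.2 ⟨L.mul_mem (L.mul_mem hx (mem_inf.1 hy).1) (L.inv_mem hx),
      (gam_normal 2).conj_mem _ (mem_inf.1 hy).2 x⟩
  · have h5 := hA.five
    have h1 := card_inf_of_index hA.isP (le_sup_right : gam G 2 ≤ L ⊔ gam G 2)
      (le_sup_left : L ≤ L ⊔ gam G 2) ((hA.card_sup_gam hne).trans (by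
        rw [hA.card_gam le_rfl (by omega), ← pow_succ']
        exact Nat.pow_le_pow_right hp.pos (by omega)))
      (fun h => heg (h (hNL (le_normalizer he)))) (by rw [normalizer_eq_top]; exact le_top)
    rw [inf_comm] at h1
    exact h1.symm

theorem step_Fd : Step p (Fd E) (cz E) := by
  have hp := (Fact.out : p.Prime)
  refine ⟨le_inf (inf_le_left.trans le_normalizer) (hE.cz_le_gam hA),
    inf_le_left.trans (hE.le_normalizer_cz hA), ?_⟩
  have h1 := (step_Kd hA hE le_rfl (hNL.trans hLC)).card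
  rw [hE.norm, show p ^ 4 = p * p ^ 3 by rw [← pow_succ']] at h1
  rw [← Nat.eq_of_mul_eq_mul_left hp.pos h1, (hE.card_cz hA).1, ← pow_succ']

/-- The data of the quotient `N(L) / cz E`. -/
theorem quot_data [((cz E).subgroupOf (normalizer ((L : Subgroup G) : Set G))).Normal] {e : G} (he : e ∈ E)
    (hez : e ∉ cz E) {m : ℕ} (hm : 3 ≤ m)
    (hU : Nat.card (normalizer ((L : Subgroup G) : Set G)) = p ^ (m + 2)) :
    Uniform (QuotientGroup.mk (⟨e, le_normalizer (hNL (le_normalizer he))⟩ :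
        normalizer ((L : Subgroup G) : Set G)) :
      ↥(normalizer ((L : Subgroup G) : Set G)) ⧸ (cz E).subgroupOf (normalizer ((L : Subgroup G) : Set G))) p m ∧
    ∀ u : normalizer ((L : Subgroup G) : Set G), ((u : G) ∈ Kd L ↔
      (QuotientGroup.mk u : ↥(normalizer ((L : Subgroup G) : Set G)) ⧸
        (cz E).subgroupOf (normalizer ((L : Subgroup G) : Set G))) ∈ gam _ 2) := by
  have hp := (Fact.out : p.Prime)
  set U := normalizer ((L : Subgroup G) : Set G)
  have hNU : normalizer (E : Set G) ≤ U := hNL.trans le_normalizer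
  have hu := hE.uniform_quot hA hNU (normalizer_le hA hE hNL hLC) hm hU he hez
  refine ⟨hu, ?_⟩
  set Z := (cz E).subgroupOf U
  have hZK : cz E ≤ Kd L := le_inf (fun x hx => ((mem_cz_iff hA hE hNL hLC).1 hx).1) (hE.cz_le_gam hA)
  have hKU : Kd L ≤ U := inf_le_left.trans le_normalizer
  have hle : (gam (↥U ⧸ Z) 2).comap (QuotientGroup.mk' Z) ≤ (Kd L).subgroupOf U := by
    rw [← CfsgLib.MaxClassUniform.map_gam (hA.isP.to_subgroup U) Z 2, comap_map_eq, QuotientGroup.ker_mk']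
    refine sup_le ?_ (fun x hx => mem_subgroupOf.2 (hZK (mem_subgroupOf.1 hx)))
    rw [show gam (↥U) 2 = commutator ↥U from Subgroup.top_lowerCentralSeries_one, commutator_def, commutator_le]
    intro a _ b _
    rw [mem_subgroupOf, show ((⁅a, b⁆ : ↥U) : G) = ⁅(a : G), (b : G)⁆ from map_commutatorElement U.subtype a b]
    exact mem_inf.2 ⟨(step_normalizer hA hE hNL hLC).comm_mem a.2 b.2,
      gam_comm (a := 1) (b := 1) le_rfl le_rfl (mem_top (a : G)) (mem_top (b : G))⟩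
  have heq : (gam (↥U ⧸ Z) 2).comap (QuotientGroup.mk' Z) = (Kd L).subgroupOf U := by
    refine eq_of_le_of_card_ge hle ?_
    obtain ⟨m', -, h1, h2⟩ := card_normalizer hA hE hNL hLC
    have hmm : m' = m := by
      have := Nat.pow_right_injective hp.two_le (h1.symm.trans hU)
      omega
    subst hmm
    have h3 := (step_Kd hA hE hNL hLC).card
    rw [h2, pow_succ'] at h3
    rw [Nat.card_congr (subgroupOfEquivOfLe hKU).toEquiv, ← Nat.eq_of_mul_eq_mul_left hp.pos h3]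
    have e1 := card_map_mul_card_inf_ker' (QuotientGroup.mk' Z) ((gam (↥U ⧸ Z) 2).comap (QuotientGroup.mk' Z))
    rw [map_comap_eq_self_of_surjective (QuotientGroup.mk'_surjective _), QuotientGroup.ker_mk',
      inf_eq_right.2 (fun x hx => mem_comap.2 (by
        rw [show QuotientGroup.mk' Z x = 1 from (QuotientGroup.eq_one_iff x).2 hx]; exact one_mem _)),
      Nat.card_congr (subgroupOfEquivOfLe (hZK.trans hKU)).toEquiv, (hE.card_cz hA).1,
      hu.card_gam le_rfl (by omega), ← pow_add, show m' - 2 + 2 = m' by omega] at e1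
    exact e1.le
  intro u
  rw [← mem_subgroupOf, ← heq, mem_comap, QuotientGroup.mk'_apply]

/-- Any element of `L` outside `gam G 2` is a power of a conjugate of `e` modulo `cz E`. -/
theorem exists_conj_elt {e u : G} (he : e ∈ E) (heg : e ∉ gam G 2) (hu : u ∈ L) (hug : u ∉ gam G 2) :
    ∃ g ∈ normalizer ((L : Subgroup G) : Set G), ∃ j : ℤ, (u ^ j)⁻¹ * (g * e * g⁻¹) ∈ cz E := by
  set U := normalizer ((L : Subgroup G) : Set G)
  haveI : ((cz E).subgroupOf U).Normal := (normal_subgroupOf_iff_le_normalizer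
    (inf_le_left.trans (le_normalizer.trans (hNL.trans le_normalizer)))).2 (normalizer_le hA hE hNL hLC)
  obtain ⟨m, hm, hU, -⟩ := card_normalizer hA hE hNL hLC
  obtain ⟨hq, hiff⟩ := quot_data hA hE hNL hLC he (fun h => heg (hE.cz_le_gam hA h)) hm hU
  obtain ⟨j, hj⟩ := (step_Kd hA hE hNL hLC).zpow_eq hu (fun h => hug (mem_inf.1 h).2) (hNL (le_normalizer he))
  -- `e = u ^ j * k` with `k` in `Kd L`
  set k := (u ^ j)⁻¹ * e with hk
  have hk' : u ^ j * e⁻¹ ∈ Kd L := by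
    have h1 := inv_mem hj
    rw [hk, mul_inv_rev, inv_inv] at h1
    have h2 : e * (e⁻¹ * u ^ j) * e⁻¹ ∈ Kd L := mem_inf.2
      ⟨L.mul_mem (L.mul_mem (hNL (le_normalizer he)) (mem_inf.1 h1).1) (L.inv_mem (hNL (le_normalizer he))),
        (gam_normal 2).conj_mem _ (mem_inf.1 h1).2 e⟩
    rwa [mul_inv_cancel_left] at h2
  obtain ⟨g, hg⟩ := hq.exists_conj ((hiff ⟨u ^ j * e⁻¹, le_normalizer (mem_inf.1 hk').1⟩).1 hk')
  obtain ⟨g, rfl⟩ := QuotientGroup.mk_surjective g
  refine ⟨g, g.2, j, ?_⟩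
  rw [← QuotientGroup.mk_inv, ← QuotientGroup.mk_mul, ← QuotientGroup.mk_mul, ← QuotientGroup.mk_mul] at hg
  have h2 := mem_subgroupOf.1 ((QuotientGroup.eq).1 hg.symm)
  simpa using h2

/-- A subgroup of index `p` in `L` other than `Kd L` contains a conjugate of `E`. -/
theorem exists_conj_le {M : Subgroup G} (hM : M ≤ L) (hZ : cz E ≤ M) (hMc : Nat.card L = p * Nat.card M)
    (hne : M ≠ Kd L) : ∃ g ∈ normalizer ((L : Subgroup G) : Set G), conjBy g E ≤ M := by
  have hnle : ¬ M ≤ Kd L := fun h => hne (eq_of_le_of_card_ge h (Nat.le_of_mul_le_mul_left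
    ((step_Kd hA hE hNL hLC).card.symm.trans hMc).le (Fact.out : p.Prime).pos))
  obtain ⟨u, hu, huK⟩ := SetLike.not_le_iff_exists.1 hnle
  obtain ⟨e, he, heg, hez⟩ := exists_notMem hA hE hNL hLC
  obtain ⟨g, hg, j, hj⟩ := exists_conj_elt hA hE hNL hLC he heg (hM hu)
    fun h => huK (mem_inf.2 ⟨hM hu, h⟩)
  refine ⟨g, hg, ?_⟩
  rw [hE.eq_cz_sup hA he hez, show conjBy g (cz E ⊔ zpowers e) = conjBy g (cz E) ⊔ conjBy g (zpowers e) from
    Subgroup.map_sup _ _ _, conjBy_eq_iff.2 (normalizer_le hA hE hNL hLC hg)]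
  refine sup_le hZ ?_
  rw [show conjBy g (zpowers e) = zpowers (g * e * g⁻¹) from MonoidHom.map_zpowers _ _]
  have h1 := mul_mem (zpow_mem hu j) (hZ hj)
  rw [mul_inv_cancel_left] at h1
  exact zpowers_le.2 h1

theorem mem_Fd_iff {x : G} : x ∈ Fd E ↔ x ∈ Kd L ∧ ∀ l ∈ L, ⁅x, l⁆ ∈ cz E := by
  obtain ⟨e, he, heg, hez⟩ := exists_notMem hA hE hNL hLC
  refine ⟨fun hx => ?_, fun hx => mem_inf.2 ⟨hE.mem_normalizer hA he hez ?_ (hx.2 e (hNL (le_normalizer he))),
    (mem_inf.1 hx.1).2⟩⟩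
  · have hxK : x ∈ Kd L := mem_inf.2 ⟨hNL (mem_inf.1 hx).1, (mem_inf.1 hx).2⟩
    refine ⟨hxK, fun l hl => ?_⟩
    set U := normalizer ((L : Subgroup G) : Set G)
    haveI : ((cz E).subgroupOf U).Normal := (normal_subgroupOf_iff_le_normalizer
      (inf_le_left.trans (le_normalizer.trans (hNL.trans le_normalizer)))).2 (normalizer_le hA hE hNL hLC)
    obtain ⟨m, hm, hU, -⟩ := card_normalizer hA hE hNL hLC
    obtain ⟨hq, hiff⟩ := quot_data hA hE hNL hLC he hez hm hU
    set x' : U := ⟨x, le_normalizer (mem_inf.1 hxK).1⟩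
    set l' : U := ⟨l, le_normalizer hl⟩
    have hxg : (QuotientGroup.mk x' : ↥U ⧸ (cz E).subgroupOf U) ∈ gam (↥U ⧸ (cz E).subgroupOf U) (m - 1) := by
      rw [← hq.inf_centralizer]
      refine mem_inf.2 ⟨mem_centralizer_singleton_iff.2 ?_, (hiff x').1 hxK⟩
      rw [← commutatorElement_eq_one_iff_mul_comm, ← QuotientGroup.mk'_apply, ← QuotientGroup.mk'_apply,
        ← map_commutatorElement]
      refine (QuotientGroup.eq_one_iff _).2 (mem_subgroupOf.2 ?_)
      rw [show ((⁅x', _⁆ : ↥U) : G) = ⁅x, e⁆ from map_commutatorElement U.subtype x' _]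
      exact hE.comm_mem_cz hA he (mem_inf.1 hx).1
    have h1 : ⁅(QuotientGroup.mk x' : ↥U ⧸ (cz E).subgroupOf U), QuotientGroup.mk l'⁆ ∈
        gam (↥U ⧸ (cz E).subgroupOf U) (m - 1 + 1) := gam_comm (by omega) le_rfl hxg (mem_top _)
    rw [hq.gam_eq_bot (by omega), mem_bot, ← QuotientGroup.mk'_apply, ← QuotientGroup.mk'_apply,
      ← map_commutatorElement] at h1
    have h2 := mem_subgroupOf.1 ((QuotientGroup.eq_one_iff _).1 h1)
    rwa [show ((⁅x', l'⁆ : ↥U) : G) = ⁅x, l⁆ from map_commutatorElement U.subtype x' l'] at h2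
  · exact normalizer_le hA hE hNL hLC (le_normalizer (mem_inf.1 hx.1).1)

/-- An element of `Fd E` outside `cz E` commutes with no element of `L` outside `gam G 2`. -/
theorem Fd_not_commute {y u : G} (hy : y ∈ Fd E) (hyz : y ∉ cz E) (hu : u ∈ L) (hug : u ∉ gam G 2) :
    y * u ≠ u * y := by
  intro hc
  obtain ⟨e, he, heg, hez⟩ := exists_notMem hA hE hNL hLC
  obtain ⟨g, hg, j, hj⟩ := exists_conj_elt hA hE hNL hLC he heg hu hug
  have hgz := normalizer_le hA hE hNL hLC hg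
  obtain ⟨hyK, hyc⟩ := (mem_Fd_iff hA hE hNL hLC).1 hy
  have hy' : g⁻¹ * y * g ∈ Fd E := by
    refine (mem_Fd_iff hA hE hNL hLC).2 ⟨mem_inf.2 ⟨?_, ?_⟩, fun l hl => ?_⟩
    · exact (mem_normalizer_iff''.1 hg y).1 (mem_inf.1 hyK).1
    · have := (gam_normal (G := G) 2).conj_mem _ (mem_inf.1 hyK).2 g⁻¹
      simpa using this
    · have h1 := hyc (g * l * g⁻¹) ((mem_normalizer_iff.1 hg l).1 hl)
      have h2 := (mem_normalizer_iff''.1 hgz _).1 h1
      rwa [show g⁻¹ * ⁅y, g * l * g⁻¹⁆ * g = ⁅g⁻¹ * y * g, l⁆ by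
        simp only [commutatorElement_def]; group] at h2
  -- it commutes with `E`
  have hce : Commute y (g * e * g⁻¹) := by
    have h1 : Commute y (u ^ j) := Commute.zpow_right hc j
    have h2 : Commute y ((u ^ j)⁻¹ * (g * e * g⁻¹)) :=
      ((mem_cz_iff hA hE hNL hLC).1 hj).2 y (mem_inf.1 hyK).1
    have := h1.mul_right h2
    rwa [mul_inv_cancel_left] at this
  have hE' : g⁻¹ * y * g ∈ centralizer (E : Set G) := by
    have hle : E ≤ centralizer ({g⁻¹ * y * g} : Set G) := by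
      rw [hE.eq_cz_sup hA he hez]
      refine sup_le (fun z hz => mem_centralizer_singleton_iff.2 ?_) (zpowers_le.2 (mem_centralizer_singleton_iff.2 ?_))
      · exact (((mem_cz_iff hA hE hNL hLC).1 hz).2 _ (hNL (mem_inf.1 hy').1)).symm
      · calc e * (g⁻¹ * y * g) = g⁻¹ * (g * e * g⁻¹ * y) * g := by group
          _ = g⁻¹ * y * g * e := by rw [← hce.eq]; group
    exact mem_centralizer_iff.2 fun z hz => mem_centralizer_singleton_iff.1 (hle hz)
  have h3 : g⁻¹ * y * g ∈ E ⊓ gam G 2 := mem_inf.2 ⟨hE.cent hE', (mem_inf.1 hy').2⟩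
  have h4 : E ⊓ gam G 2 ≤ cz E := by
    have hlt : E ⊓ gam G 2 < E := lt_of_le_of_ne inf_le_left fun h => hE.not_le_gam hA (inf_eq_left.1 h)
    have h5 := mul_card_le hA.isP hlt
    rw [hE.card, show p ^ 3 = p * p ^ 2 by rw [← pow_succ']] at h5
    refine (eq_of_le_of_card_ge (le_inf inf_le_left (hE.cz_le_gam hA)) ?_).ge
    rw [(hE.card_cz hA).1]
    exact Nat.le_of_mul_le_mul_left h5 (Fact.out : p.Prime).pos
  refine hyz ?_
  have h6 := (mem_normalizer_iff''.1 hgz y).2 (h4 h3)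
  exact h6

end Layer

/-! ### Parity -/

/-- For odd `n` a uniform-modulo-`gam G (n - 2)` element centralizing `gam G (n - 2)` forces
`gam G 2` to centralize `gam G (n - 3)`. -/
theorem Amb.commute_two_of_odd (hA : Amb G p n) (hodd : Odd n) {e : G}
    (hce : ∀ z ∈ gam G (n - 2), e * z = z * e)
    (hlay : ∀ i, 2 ≤ i → i + 4 ≤ n → ∀ w ∈ gam G i, w ∉ gam G (i + 1) → ⁅e, w⁆ ∉ gam G (i + 2))
    {u v : G} (hu : u ∈ gam G 2) (hv : v ∈ gam G (n - 3)) : u * v = v * u := by
  have h5 := hA.five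
  have h3 : 3 ≤ n := by omega
  obtain ⟨i₀, hi₀⟩ := hodd
  suffices H : ∀ t i, 2 ≤ i → i + t = i₀ → ∀ u ∈ gam G i, ∀ v ∈ gam G (n - 1 - i), u * v = v * u by
    exact H (i₀ - 2) 2 le_rfl (by omega) u hu v (by rwa [show n - 1 - 2 = n - 3 by omega])
  intro t
  induction t with
  | zero =>
    intro i h2 hi u hu v hv
    rw [show n - 1 - i = i by omega] at hv
    by_cases hv' : v ∈ gam G (i + 1)
    · exact hA.commute_of_gam (by omega) (by omega) (by omega) hu hv'
    · obtain ⟨j, hj⟩ := CfsgLib.PGroup.MaxClassRank.layer_gen hA.isP hA.card h3 hA.cls h2 (by omega) hv hv' hu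
      have h1 : Commute ((v ^ j)⁻¹ * u) v := hA.commute_of_gam (i := i + 1) (j := i) (by omega) (by omega) (by omega) hj hv
      have h4 := (Commute.zpow_left (Commute.refl v) j).mul_left h1
      rw [mul_inv_cancel_left] at h4
      exact h4.eq
  | succ t ih =>
    intro i h2 hi u hu v hv
    have hprev := ih (i + 1) (by omega) (by omega)
    have hj2 : 2 ≤ n - 2 - i := by omega
    obtain ⟨w, hw, hw'⟩ : ∃ w ∈ gam G (n - 2 - i), w ∉ gam G (n - 2 - i + 1) :=
      SetLike.not_le_iff_exists.1 (CfsgLib.PGroup.MaxClassRank.gam_succ_lt hA.isP hA.card h3 hA.cls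
        (by omega) (by omega) (by omega))
    set β := ⁅e, w⁆ with hβ
    have hb : β ∈ gam G (n - 1 - i) := by
      have := gam_comm (a := 1) le_rfl (by omega) (mem_top e) hw
      rwa [show 1 + (n - 2 - i) = n - 1 - i by omega] at this
    have hb' : β ∉ gam G (n - 1 - i + 1) := by
      have := hlay (n - 2 - i) hj2 (by omega) w hw hw'
      rwa [show n - 2 - i + 2 = n - 1 - i + 1 by omega] at this
    obtain ⟨j, hj⟩ := CfsgLib.PGroup.MaxClassRank.layer_gen hA.isP hA.card h3 hA.cls (by omega) (by omega) hb hb' hv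
    set α := ⁅e, u⁆ with hα
    have ha : α ∈ gam G (i + 1) := by
      have := gam_comm (a := 1) le_rfl (by omega) (mem_top e) hu
      rwa [add_comm] at this
    have hc : ⁅u, w⁆ ∈ gam G (n - 2) := by
      have := gam_comm (by omega) (by omega) hu hw
      rwa [show i + (n - 2 - i) = n - 2 by omega] at this
    have hfix : ⁅α * u, β * w⁆ = ⁅u, w⁆ := by
      rw [show α * u = e * u * e⁻¹ by rw [hα, commutatorElement_def]; group,
        show β * w = e * w * e⁻¹ by rw [hβ, commutatorElement_def]; group,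
        show ⁅e * u * e⁻¹, e * w * e⁻¹⁆ = e * ⁅u, w⁆ * e⁻¹ by simp only [commutatorElement_def]; group,
        hce _ hc, mul_inv_cancel_right]
    have hab : Commute α β := hA.commute_of_gam (by omega) (by omega) (by omega) ha hb
    have haw : Commute α w := hprev α ha w (by rwa [show n - 1 - (i + 1) = n - 2 - i by omega])
    have hac : Commute α ⁅u, w⁆ := hA.commute_of_gam (j := n - 2) (by omega) (by omega) (by omega) ha hc
    have hbc : Commute β ⁅u, w⁆ := hA.commute_of_gam (j := n - 2) (by omega) (by omega) (by omega) hb hc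
    have hub : ⁅u, β⁆ ∈ center G := by
      rw [hA.center_eq]
      have := gam_comm (by omega) (by omega) hu hb
      rwa [show i + (n - 1 - i) = n - 1 by omega] at this
    have h1 : ⁅α * u, β * w⁆ = ⁅u, β⁆ * ⁅u, w⁆ := by
      have e1 : ⁅u, β * w⁆ = ⁅u, β⁆ * ⁅u, w⁆ := by
        rw [show ⁅u, β * w⁆ = ⁅u, β⁆ * (β * ⁅u, w⁆ * β⁻¹) by simp only [commutatorElement_def]; group,
          hbc.eq, mul_inv_cancel_right]
      rw [show ⁅α * u, β * w⁆ = α * ⁅u, β * w⁆ * α⁻¹ * ⁅α, β * w⁆ by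
        simp only [commutatorElement_def]; group, commutatorElement_eq_one_iff_commute.2 (hab.mul_right haw),
        mul_one, e1, ((show Commute α ⁅u, β⁆ from (mem_center_iff.1 hub α)).mul_right hac).eq,
        mul_inv_cancel_right]
    rw [hfix, eq_comm, mul_eq_right] at h1
    have hcu : Commute u β := commutatorElement_eq_one_iff_commute.1 h1
    have hcr : Commute u ((β ^ j)⁻¹ * v) := hA.commute_of_gam (by omega) (by omega) (by omega) hu hj
    have h4 := (hcu.zpow_right j).mul_right hcr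
    rw [mul_inv_cancel_left] at h4
    exact h4.eq

end CfsgLib.MaxClassCube
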