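import Cfsg.Agent.Lib.PGroup.MaxClassShift
import Cfsg.Prelude.Def_CaseTheorems
import Mathlib.Data.Nat.Choose.Dvd
import Mathlib.Algebra.Ring.GeomSum

/-!
# A `p`-group of maximal class has a large elementary abelian section

If `|S| = p ^ n` has maximal class, `1 ≤ k`, `k + 2 ≤ p` and `2k < n`, then some section of `S`
is elementary abelian of order `p ^ (k + 1)`.
-/

set_option autoImplicit false
set_option linter.style.haveILetI false
set_option linter.unusedSectionVars false

open Subgroup Finset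
open scoped commutatorElement

namespace CfsgLib.PGroup.MaxClassRank

open CfsgLib.MaxClassShift (gam)

universe u

variable {G : Type u} [Group G] [Finite G] {p n : ℕ} [hpf : Fact p.Prime]

/-- The elements centralizing `γᵢ / γᵢ₊₂`. -/
def twoStepAt (G : Type u) [Group G] (i : ℕ) : Subgroup G where
  carrier := {g | ∀ v ∈ gam G i, ⁅g, v⁆ ∈ gam G (i + 2)}
  one_mem' := fun v _ => by rw [commutatorElement_one_left]; exact one_mem _
  mul_mem' := fun {a b} ha hb v hv => by
    rw [show ⁅a * b, v⁆ = a * ⁅b, v⁆ * a⁻¹ * ⁅a, v⁆ by simp only [commutatorElement_def]; group]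
    exact mul_mem ((inferInstance : (gam G (i + 2)).Normal).conj_mem _ (hb v hv) a) (ha v hv)
  inv_mem' := fun {a} ha v hv => by
    rw [show ⁅a⁻¹, v⁆ = a⁻¹ * ⁅a, v⁆⁻¹ * a⁻¹⁻¹ by simp only [commutatorElement_def]; group]
    exact (inferInstance : (gam G (i + 2)).Normal).conj_mem _ (inv_mem (ha v hv)) a⁻¹

theorem gam_anti' {a b : ℕ} (h : a ≤ b) : gam G b ≤ gam G a :=
  Subgroup.lowerCentralSeries_antitone _ (by omega)

theorem gam_comm' {a b : ℕ} (ha : 1 ≤ a) (hb : 1 ≤ b) {y z : G} (hy : y ∈ gam G a)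
    (hz : z ∈ gam G b) : ⁅y, z⁆ ∈ gam G (a + b) := by
  have h := CfsgLib.PGroup.commutator_lowerCentralSeries_le_chain
    (D := fun i => (⊤ : Subgroup G).lowerCentralSeries i)
    (fun i => inferInstance) (B := ⊤) (fun i => le_rfl) (b - 1) (a - 1)
  have h2 := h (commutator_mem_commutator hy hz)
  show _ ∈ (⊤ : Subgroup G).lowerCentralSeries (a + b - 1)
  rwa [show a + b - 1 = a - 1 + (b - 1) + 1 by omega]

/-- A union of at most `p` proper subgroups is not the whole `p`-group. -/
theorem exists_notMem_of_card_le (hG : IsPGroup p G) {ι : Type*} (s : Finset ι) (H : ι → Subgroup G)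
    (hs : s.card ≤ p) (hH : ∀ i ∈ s, H i ≠ ⊤) (hG1 : p ≤ Nat.card G) : ∃ g : G, ∀ i ∈ s, g ∉ H i := by
  classical
  haveI := Fintype.ofFinite G
  rcases s.eq_empty_or_nonempty with rfl | hne
  · exact ⟨1, by simp⟩
  by_contra hcon
  push Not at hcon
  have hsub : (univ : Finset G).erase 1 ⊆ s.biUnion fun i => (univ.filter (· ∈ H i)).erase 1 := by
    intro g hg
    obtain ⟨i, hi, hgi⟩ := hcon g
    exact mem_biUnion.2 ⟨i, hi, by simp [ne_of_mem_erase hg, hgi]⟩
  have h1 := (card_le_card hsub).trans card_biUnion_le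
  have h2 : ∀ i ∈ s, ((univ.filter (· ∈ H i)).erase 1).card ≤ Nat.card G / p - 1 := by
    intro i hi
    rw [card_erase_of_mem (by simp)]
    refine Nat.sub_le_sub_right ?_ 1
    rw [Nat.le_div_iff_mul_le hpf.out.pos, ← Fintype.card_subtype,
      show Fintype.card {g : G // g ∈ H i} = Nat.card (H i) from Nat.card_eq_fintype_card.symm,
      ← (H i).card_mul_index]
    refine Nat.mul_le_mul_left _ ?_
    obtain ⟨e, he⟩ := hG.index (H i)
    rcases Nat.eq_zero_or_pos e with rfl | he0
    · exact absurd (index_eq_one.1 (by rw [he, pow_zero])) (hH i hi)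
    · rw [he]; exact Nat.le_self_pow he0.ne' p
  have h3 := h1.trans (sum_le_card_nsmul _ _ _ h2)
  rw [card_erase_of_mem (mem_univ _), card_univ, ← Nat.card_eq_fintype_card, smul_eq_mul] at h3
  have h4 : s.card * (Nat.card G / p - 1) ≤ p * (Nat.card G / p - 1) := Nat.mul_le_mul_right _ hs
  have h5 : p * (Nat.card G / p) ≤ Nat.card G := Nat.mul_div_le _ _
  have h6 : p * (Nat.card G / p - 1) = p * (Nat.card G / p) - p := by rw [Nat.mul_sub, mul_one]
  have := hpf.out.two_le
  have : 1 ≤ Nat.card G / p := Nat.div_pos hG1 hpf.out.pos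
  have : p ≤ p * (Nat.card G / p) := Nat.le_mul_of_pos_right _ this
  omega

theorem geom_sum_add_one {R : Type*} [Semiring R] (T : R) : ∀ m : ℕ,
    ∑ i ∈ range m, (T + 1) ^ i = ∑ i ∈ range m, (m.choose (i + 1) : R) * T ^ i
  | 0 => by simp
  | m + 1 => by
    rw [geom_sum_succ, geom_sum_add_one T m]
    have h1 : ∑ i ∈ range (m + 1), ((m + 1).choose (i + 1) : R) * T ^ i =
        (∑ i ∈ range (m + 1), (m.choose i : R) * T ^ i) +
          ∑ i ∈ range (m + 1), (m.choose (i + 1) : R) * T ^ i := by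
      rw [← sum_add_distrib]
      refine sum_congr rfl fun i _ => ?_
      rw [← add_mul, Nat.choose_succ_succ', Nat.cast_add]
    rw [h1, sum_range_succ' (fun i => (m.choose i : R) * T ^ i),
      sum_range_succ (fun i => (m.choose (i + 1) : R) * T ^ i), Nat.choose_succ_self]
    simp only [Nat.cast_zero, zero_mul, add_zero, Nat.choose_zero_right, Nat.cast_one, pow_zero, mul_one]
    rw [add_mul, one_mul, mul_sum]
    rw [sum_congr rfl fun i _ => show T * ((m.choose (i + 1) : R) * T ^ i) =
        (m.choose (i + 1) : R) * T ^ (i + 1) by rw [← mul_assoc, (Nat.cast_commute _ T).eq.symm,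
          mul_assoc, ← pow_succ']]
    abel

variable (hG : IsPGroup p G) (hn : Nat.card G = p ^ n) (h3 : 3 ≤ n)
  (hcl : Group.nilpotencyClass G = n - 1)
include hG hn h3 hcl

theorem index_gam {i : ℕ} (h2 : 2 ≤ i) (hi : i ≤ n) : (gam G i).index = p ^ i := by
  have := CfsgLib.PGroup.index_lowerCentralSeries_of_maximal hG hn h3 hcl (i - 1) (by omega) (by omega)
  rwa [show i - 1 + 1 = i by omega] at this

theorem layer_gen {i : ℕ} (h2 : 2 ≤ i) (hi : i < n) {v : G} (hv : v ∈ gam G i)
    (hv' : v ∉ gam G (i + 1)) {y : G} (hy : y ∈ gam G i) :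
    ∃ j : ℤ, (v ^ j)⁻¹ * y ∈ gam G (i + 1) := by
  set L := (gam G (i + 1)).subgroupOf (gam G i)
  haveI : L.Normal := inferInstance
  have hL : Nat.card (gam G i ⧸ L) = p := by
    rw [← index_eq_card]
    have e1 := relIndex_mul_index (gam_anti' (G := G) (Nat.le_succ i))
    rw [index_gam hG hn h3 hcl h2 hi.le, index_gam hG hn h3 hcl (by omega) hi, pow_succ'] at e1
    exact Nat.eq_of_mul_eq_mul_right (pow_pos hpf.out.pos _) e1
  obtain ⟨j, hj⟩ := mem_zpowers_iff.1 (mem_zpowers_of_prime_card hL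
    (g := QuotientGroup.mk' L ⟨v, hv⟩)
    (fun e1 => hv' (mem_subgroupOf.1 ((QuotientGroup.eq_one_iff _).1 e1)))
    (g' := QuotientGroup.mk' L ⟨y, hy⟩))
  rw [← map_zpow, QuotientGroup.mk'_apply, QuotientGroup.mk'_apply, QuotientGroup.eq,
    mem_subgroupOf] at hj
  simp only [Subgroup.coe_mul, Subgroup.coe_inv, Subgroup.coe_zpow] at hj
  exact ⟨j, hj⟩

theorem gam_succ_lt {i : ℕ} (hi1 : 1 ≤ i) (hi : i < n) (h2 : 2 ≤ i + 1) :
    ¬ gam G i ≤ gam G (i + 1) := by
  intro h
  have h1 := le_antisymm h (gam_anti' (Nat.le_succ i))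
  rcases (show i = 1 ∨ 2 ≤ i by omega) with rfl | hi2
  · have h4 := index_gam hG hn h3 hcl (i := 2) le_rfl (by omega)
    rw [← h1, show gam G 1 = ⊤ from rfl, index_top] at h4
    exact absurd h4.symm (Nat.one_lt_pow two_ne_zero hpf.out.one_lt).ne'
  · have h4 := index_gam hG hn h3 hcl hi2 hi.le
    rw [h1, index_gam hG hn h3 hcl h2 hi] at h4
    have := Nat.pow_right_injective hpf.out.two_le h4
    omega

theorem twoStepAt_ne_top {i : ℕ} (h1 : 1 ≤ i) (hi : i + 2 ≤ n) : twoStepAt G i ≠ ⊤ := by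
  intro he
  refine gam_succ_lt hG hn h3 hcl (i := i + 1) (by omega) (by omega) (by omega) ?_
  have h2 : gam G (i + 1) = ⁅gam G i, (⊤ : Subgroup G)⁆ := by
    show (⊤ : Subgroup G).lowerCentralSeries (i + 1 - 1) = _
    rw [show i + 1 - 1 = i - 1 + 1 by omega]
    rfl
  rw [h2, commutator_le]
  intro v hv g _
  rw [← commutatorElement_inv]
  exact inv_mem ((he.ge (mem_top g)) v hv)

theorem pow_mem_succ {i : ℕ} (h2 : 2 ≤ i) (hi : i + 2 ≤ n) {g : G} (hg : g ∉ twoStepAt G i)
    (hp : g ^ p ∈ gam G i) : g ^ p ∈ gam G (i + 1) := by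
  by_contra hp'
  refine hg fun w hw => ?_
  obtain ⟨t, ht⟩ := layer_gen hG hn h3 hcl h2 (by omega) hp hp' hw
  rw [show ⁅g, w⁆ = (g ^ p) ^ t * ⁅g, ((g ^ p) ^ t)⁻¹ * w⁆ * ((g ^ p) ^ t)⁻¹ by
    have hc : Commute g ((g ^ p) ^ t) := ((Commute.refl g).pow_right p).zpow_right t
    simp only [commutatorElement_def]
    generalize (g ^ p) ^ t = a at hc ⊢
    calc g * w * g⁻¹ * w⁻¹ = g * a * (a⁻¹ * w) * g⁻¹ * w⁻¹ := by group
      _ = a * g * (a⁻¹ * w) * g⁻¹ * w⁻¹ := by rw [hc.eq]
      _ = _ := by group]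
  exact (inferInstance : (gam G (i + 2)).Normal).conj_mem _
    (show ⁅g, ((g ^ p) ^ t)⁻¹ * w⁆ ∈ gam G (i + 2) by
      have := gam_comm' (a := 1) (b := i + 1) le_rfl (by omega) (mem_top g) ht
      rwa [show 1 + (i + 1) = i + 2 by omega] at this) _

theorem pow_mem_two (g : G) : g ^ p ∈ gam G 2 := by
  have hidx := index_gam hG hn h3 hcl (i := 2) le_rfl (by omega)
  haveI : (gam G 2).Normal := inferInstance
  rw [← QuotientGroup.eq_one_iff, QuotientGroup.mk_pow]
  have hQ : Nat.card (G ⧸ gam G 2) = p ^ 2 := by rw [← index_eq_card, hidx]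
  have hnc : ¬ IsCyclic (G ⧸ gam G 2) := by
    intro hc
    have hc' : IsCyclic (G ⧸ commutator G) := by
      have e : gam G 2 = commutator G := Subgroup.top_lowerCentralSeries_one
      obtain ⟨z, hz⟩ := hc.exists_generator
      refine ⟨⟨QuotientGroup.quotientMulEquivOfEq e z, fun x => ?_⟩⟩
      obtain ⟨k, hk⟩ := hz ((QuotientGroup.quotientMulEquivOfEq e).symm x)
      exact ⟨k, by simp only at hk ⊢; rw [← map_zpow, hk, MulEquiv.apply_symm_apply]⟩
    haveI := CfsgLib.PGroup.isCyclic_of_cyclic_abelianization hG hc'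
    letI := IsCyclic.commGroup (α := G)
    have := CommGroup.nilpotencyClass_le_one (G := G)
    omega
  set q : G ⧸ gam G 2 := (g : G ⧸ gam G 2)
  refine orderOf_dvd_iff_pow_eq_one.1 ?_
  obtain ⟨e, he, he'⟩ := (Nat.dvd_prime_pow hpf.out).1 (hQ ▸ orderOf_dvd_natCard q)
  rw [he']
  interval_cases e
  · simp
  · simp
  · exact absurd (isCyclic_of_orderOf_eq_card q (he'.trans hQ.symm)) hnc

theorem comm_mem {k : ℕ} (hk : 2 ≤ k) (hkn : 2 * k + 1 ≤ n) {a b : G} (ha : a ∈ gam G k)
    (hb : b ∈ gam G k) : ⁅a, b⁆ ∈ gam G (2 * k + 1) := by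
  obtain ⟨v, hv, hv'⟩ := SetLike.not_le_iff_exists.1 (gam_succ_lt hG hn h3 hcl (i := k) (by omega) (by omega) (by omega))
  obtain ⟨i, hi⟩ := layer_gen hG hn h3 hcl hk (by omega) hv hv' ha
  obtain ⟨j, hj⟩ := layer_gen hG hn h3 hcl hk (by omega) hv hv' hb
  set q := QuotientGroup.mk' (gam G (2 * k + 1))
  have h23 : ∀ c d : G, c ∈ gam G k → d ∈ gam G (k + 1) → Commute (q c) (q d) := fun c d hc hd => by
    rw [← commutatorElement_eq_one_iff_commute, ← map_commutatorElement]
    refine (QuotientGroup.eq_one_iff _).2 ?_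
    have := gam_comm' (by omega) (by omega) hc hd
    rwa [show k + (k + 1) = 2 * k + 1 by omega] at this
  refine (QuotientGroup.eq_one_iff _).1 ?_
  show q ⁅a, b⁆ = 1
  rw [map_commutatorElement, commutatorElement_eq_one_iff_commute,
    show a = v ^ i * ((v ^ i)⁻¹ * a) by group, show b = v ^ j * ((v ^ j)⁻¹ * b) by group,
    map_mul _ (v ^ i), map_mul _ (v ^ j), map_zpow, map_zpow]
  refine Commute.mul_left ((Commute.zpow_zpow (Commute.refl _) i j).mul_right ?_)
    (Commute.mul_right ?_ ?_)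
  · rw [← map_zpow]
    exact h23 _ _ (zpow_mem hv i) hj
  · rw [← map_zpow]
    exact (h23 _ _ (zpow_mem hv j) hi).symm
  · exact h23 _ _ (gam_anti' (Nat.le_succ k) hi) hj

theorem pow_mem_top {k : ℕ} (hk : 2 ≤ k) (hkn : 2 * k + 1 ≤ n) (hkp : k + 2 ≤ p) :
    ∀ y ∈ gam G k, y ^ p ∈ gam G (2 * k + 1) := by
  suffices ∀ d j, k ≤ j → 2 * k + 1 ≤ j + d → ∀ y ∈ gam G j, y ^ p ∈ gam G (2 * k + 1) from
    this (2 * k + 1) k le_rfl (Nat.le_add_left _ _)
  intro d
  induction d with
  | zero => exact fun j _ hj y hy => pow_mem (gam_anti' hj hy) p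
  | succ d ih =>
    intro j hkj hj y hy
    by_cases hj' : 2 * k + 1 ≤ j
    · exact pow_mem (gam_anti' hj' hy) p
    have ihj := ih (j + 1) (by omega) (by omega)
    -- a suitable element
    obtain ⟨g, hg⟩ := exists_notMem_of_card_le hG (insert (j - 1) (Icc 2 (2 * k + 1 - j))) (twoStepAt G)
      (by
        refine (card_insert_le _ _).trans ?_
        rw [Nat.card_Icc]
        omega)
      (by
        intro i hi
        rw [mem_insert, mem_Icc] at hi
        exact twoStepAt_ne_top hG hn h3 hcl (by omega) (by omega))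
      (hn ▸ Nat.le_self_pow (by omega) p)
    have hgp : ∀ m, 2 ≤ m → m ≤ 2 * k + 2 - j → g ^ p ∈ gam G m := by
      intro m hm
      induction m, hm using Nat.le_induction with
      | base => exact fun _ => pow_mem_two hG hn h3 hcl g
      | succ m hm ihm =>
        intro hle
        exact pow_mem_succ hG hn h3 hcl hm (by omega)
          (hg m (mem_insert_of_mem (mem_Icc.2 ⟨hm, by omega⟩))) (ihm (by omega))
    obtain ⟨b, hb, hgb⟩ : ∃ b ∈ gam G (j - 1), ⁅g, b⁆ ∉ gam G (j + 1) := by
      by_contra hcon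
      push Not at hcon
      refine hg (j - 1) (mem_insert_self _ _) fun v hv => ?_
      rw [show j - 1 + 2 = j + 1 by omega]
      exact hcon v hv
    obtain ⟨u, hu⟩ : ∃ u, u = ⁅b, g⁆ := ⟨_, rfl⟩
    have huj : u ∈ gam G j := by
      have := gam_comm' (a := j - 1) (b := 1) (by omega) le_rfl hb (mem_top g)
      rwa [show j - 1 + 1 = j by omega, ← hu] at this
    have huj' : u ∉ gam G (j + 1) := fun h => hgb (by
      rw [← commutatorElement_inv, ← hu]
      exact inv_mem h)
    -- pass to the quotient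
    set N := gam G (2 * k + 1) with hN
    set q := QuotientGroup.mk' N with hq
    set A := (gam G k).map q with hA
    haveI hAn : A.Normal := (inferInstance : (gam G k).Normal).map q (QuotientGroup.mk'_surjective N)
    haveI : IsMulCommutative A := ⟨⟨fun x z => by
      obtain ⟨a, ha, ea⟩ := x.2
      obtain ⟨c, hc, ec⟩ := z.2
      apply Subtype.ext
      show (x : G ⧸ N) * z = z * x
      rw [← ea, ← ec]
      refine commutatorElement_eq_one_iff_commute.1 ?_
      rw [← map_commutatorElement]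
      exact (QuotientGroup.eq_one_iff _).2 (comm_mem hG hn h3 hcl hk hkn ha hc)⟩⟩
    letI : CommGroup A := { (inferInstance : Group A) with mul_comm := fun x z => mul_comm' x z }
    let c : AddMonoid.End (Additive A) :=
      MonoidHom.toAdditive (MulAut.conjNormal (H := A) (q g)).toMonoidHom
    set T : AddMonoid.End (Additive A) := c - 1 with hT
    have hTval : ∀ x : Additive A, ((T x).toMul : G ⧸ N) = ⁅q g, ((x.toMul : A) : G ⧸ N)⁆ := by
      intro x
      rw [commutatorElement_def, ← div_eq_mul_inv]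
      rfl
    have hTi : ∀ (i m : ℕ) (x : Additive A), k ≤ m → ((x.toMul : A) : G ⧸ N) ∈ (gam G m).map q →
        (((T ^ i) x).toMul : G ⧸ N) ∈ (gam G (m + i)).map q := by
      intro i
      induction i with
      | zero => intro m x _ hx; rw [pow_zero]; exact hx
      | succ i ihi =>
        intro m x hm hx
        rw [pow_succ', show ((T * T ^ i) x) = T ((T ^ i) x) from rfl, hTval]
        obtain ⟨a, ha, ea⟩ := ihi m x hm hx
        rw [← ea, ← map_commutatorElement]
        refine mem_map_of_mem q ?_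
        have := gam_comm' (a := 1) (b := m + i) le_rfl (by omega) (mem_top g) ha
        rwa [show 1 + (m + i) = m + (i + 1) by omega] at this
    have hprod : ∀ (m : ℕ) (x : Additive A),
        (((x.toMul : A) : G ⧸ N) * q g) ^ m =
          (((∑ i ∈ range m, c ^ i) x).toMul : G ⧸ N) * q g ^ m := by
      intro m
      induction m with
      | zero => intro x; simp
      | succ m ihm =>
        intro x
        rw [pow_succ', ihm, geom_sum_succ, pow_succ' (q g)]
        have key : ∀ (t s : G ⧸ N), Commute t (q g * s * (q g)⁻¹) →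
            t * q g * (s * q g ^ m) = q g * s * (q g)⁻¹ * t * (q g * q g ^ m) := fun t s h => by
          rw [← h.eq]; group
        exact key _ _ (congrArg Subtype.val
          (mul_comm (x.toMul : A) ((c * ∑ i ∈ range m, c ^ i) x).toMul))
    obtain ⟨x, hx⟩ : ∃ x : Additive A, x = Additive.ofMul ⟨q u, mem_map_of_mem q (gam_anti' hkj huj)⟩ := ⟨_, rfl⟩
    have hxv : ((x.toMul : A) : G ⧸ N) = q u := by rw [hx]; rfl
    have hcomm : Commute (q b) (q g ^ p) := by
      rw [← map_pow, ← commutatorElement_eq_one_iff_commute, ← map_commutatorElement]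
      refine (QuotientGroup.eq_one_iff _).2 ?_
      have := gam_comm' (a := j - 1) (b := 2 * k + 2 - j) (by omega) (by omega) hb (hgp _ (by omega) le_rfl)
      rwa [show j - 1 + (2 * k + 2 - j) = 2 * k + 1 by omega] at this
    have hsum : (∑ i ∈ range p, c ^ i) x = 0 := by
      have h1 := hprod p x
      rw [hxv, hu, map_commutatorElement, commutatorElement_def, inv_mul_cancel_right, conj_pow,
        hcomm.eq, mul_inv_cancel_right] at h1
      have h2 := (mul_eq_right.1 h1.symm)
      apply Additive.toMul.injective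
      apply Subtype.ext
      rw [h2]; rfl
    let ev : AddMonoid.End (Additive A) →+ Additive A :=
      { toFun := fun f => f x, map_zero' := rfl, map_add' := fun _ _ => rfl }
    rw [show c = T + 1 by rw [hT, sub_add_cancel], geom_sum_add_one] at hsum
    replace hsum : ev (∑ i ∈ range p, ((p.choose (i + 1) : ℕ) : AddMonoid.End (Additive A)) * T ^ i) = 0 := hsum
    rw [map_sum, Finset.sum_congr rfl (fun i _ =>
      show ev (((p.choose (i + 1) : ℕ) : AddMonoid.End (Additive A)) * T ^ i) =
        p.choose (i + 1) • ((T ^ i) x) from AddMonoid.End.natCast_apply _ _)] at hsum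
    have hterm : ∀ i ∈ range p, i ≠ 0 → p.choose (i + 1) • ((T ^ i) x) = 0 := by
      intro i hi hi0
      rcases (show i + 1 = p ∨ i + 1 < p by have := mem_range.1 hi; omega) with e | e
      · have h1 := hTi i j x hkj (by rw [hxv]; exact mem_map_of_mem q huj)
        have h2 : ((T ^ i) x) = 0 := by
          apply Additive.toMul.injective
          apply Subtype.ext
          obtain ⟨a, ha, ea⟩ := h1
          rw [← ea]
          exact (QuotientGroup.eq_one_iff _).2 (gam_anti' (show 2 * k + 1 ≤ j + i by omega) ha)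
        rw [h2, smul_zero]
      · have h1 := hTi i j x hkj (by rw [hxv]; exact mem_map_of_mem q huj)
        obtain ⟨a, ha, ea⟩ := h1
        have h2 : p • ((T ^ i) x) = 0 := by
          apply Additive.toMul.injective
          apply Subtype.ext
          show (((T ^ i) x).toMul : G ⧸ N) ^ p = 1
          rw [← ea, ← map_pow]
          exact (QuotientGroup.eq_one_iff _).2 (ihj a (gam_anti' (by omega) ha))
        obtain ⟨r, hr⟩ := hpf.out.dvd_choose_self (Nat.succ_ne_zero i) e
        rw [hr, mul_comm p r, mul_smul, h2, smul_zero]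
    rw [sum_eq_single 0 hterm (fun h => absurd (mem_range.2 hpf.out.pos) h), zero_add,
      Nat.choose_one_right, pow_zero] at hsum
    have hup : u ^ p ∈ N := by
      refine (QuotientGroup.eq_one_iff _).1 ?_
      show q (u ^ p) = 1
      rw [map_pow, ← hxv]
      exact congrArg (fun z : Additive A => ((z.toMul : A) : G ⧸ N)) hsum
    obtain ⟨t, ht⟩ := layer_gen hG hn h3 hcl (show 2 ≤ j by omega) (by omega) huj huj' hy
    refine (QuotientGroup.eq_one_iff _).1 ?_
    show q (y ^ p) = 1
    rw [show y = u ^ t * ((u ^ t)⁻¹ * y) by group, map_pow, map_mul]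
    have hc2 : Commute (q (u ^ t)) (q ((u ^ t)⁻¹ * y)) := by
      rw [← commutatorElement_eq_one_iff_commute, ← map_commutatorElement]
      exact (QuotientGroup.eq_one_iff _).2 (comm_mem hG hn h3 hcl hk hkn
        (gam_anti' hkj (zpow_mem huj t)) (gam_anti' (show k ≤ j + 1 by omega) ht))
    rw [hc2.mul_pow, ← map_pow, ← map_pow, show q ((((u ^ t)⁻¹ * y)) ^ p) = 1 from
      (QuotientGroup.eq_one_iff _).2 (ihj _ ht), mul_one, ← zpow_natCast, zpow_comm, zpow_natCast,
      map_zpow, show q (u ^ p) = 1 from (QuotientGroup.eq_one_iff _).2 hup, one_zpow]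

/-- The order of a group of maximal class is bounded by the sectional rank. -/
theorem card_le_of_rank {k : ℕ} (hk : 1 ≤ k) (hkp : k + 2 ≤ p) (hr : Cfsg.SectionalPRankLE p k G) :
    n ≤ 2 * k := by
  by_contra hlt
  have hkn : 2 * k + 1 ≤ n := by omega
  rcases (show k = 1 ∨ 2 ≤ k by omega) with rfl | hk2
  · have hidx := index_gam hG hn h3 hcl (i := 2) le_rfl (by omega)
    set N := (gam G 2).subgroupOf ⊤
    haveI : N.Normal := inferInstance
    have hN : Nat.card ((⊤ : Subgroup G) ⧸ N) = p ^ 2 := by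
      rw [← index_eq_card, ← hidx]; exact relIndex_top_right _
    have hcom : IsMulCommutative ((⊤ : Subgroup G) ⧸ N) :=
      IsPGroup.isMulCommutative_of_card_eq_prime_sq hN
    have h1 := hr ⊤ N ⊤ ⟨⟨fun a b => Subtype.ext (mul_comm' (a : (⊤ : Subgroup G) ⧸ N) b)⟩⟩ fun a _ => by
      obtain ⟨⟨a, ha⟩, rfl⟩ := QuotientGroup.mk_surjective a
      rw [← QuotientGroup.mk_pow, QuotientGroup.eq_one_iff, mem_subgroupOf]
      exact pow_mem_two hG hn h3 hcl a
    rw [card_top, hN] at h1
    have := (Nat.pow_le_pow_iff_right hpf.out.one_lt).1 h1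
    omega
  · set N := (gam G (2 * k + 1)).subgroupOf (gam G k)
    haveI : N.Normal := inferInstance
    have hN : Nat.card (gam G k ⧸ N) = p ^ (k + 1) := by
      rw [← index_eq_card]
      have e1 := relIndex_mul_index (gam_anti' (G := G) (show k ≤ 2 * k + 1 by omega))
      rw [index_gam hG hn h3 hcl hk2 (by omega), index_gam hG hn h3 hcl (by omega) hkn,
        show p ^ (2 * k + 1) = p ^ (k + 1) * p ^ k by rw [← pow_add]; congr 1; omega] at e1
      exact Nat.eq_of_mul_eq_mul_right (pow_pos hpf.out.pos _) e1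
    have hcom : ∀ a b : gam G k ⧸ N, a * b = b * a := by
      intro a b
      obtain ⟨⟨a, ha⟩, rfl⟩ := QuotientGroup.mk_surjective a
      obtain ⟨⟨b, hb⟩, rfl⟩ := QuotientGroup.mk_surjective b
      refine commutatorElement_eq_one_iff_commute.1 ?_
      rw [← QuotientGroup.mk'_apply, ← QuotientGroup.mk'_apply, ← map_commutatorElement]
      exact (QuotientGroup.eq_one_iff _).2 (comm_mem hG hn h3 hcl hk2 hkn ha hb)
    have h1 := hr (gam G k) N ⊤ ⟨⟨fun a b => Subtype.ext (hcom a b)⟩⟩ fun a _ => by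
      obtain ⟨⟨a, ha⟩, rfl⟩ := QuotientGroup.mk_surjective a
      rw [← QuotientGroup.mk_pow, QuotientGroup.eq_one_iff, mem_subgroupOf]
      exact pow_mem_top hG hn h3 hcl hk2 hkn hkp a ha
    rw [card_top, hN] at h1
    have := (Nat.pow_le_pow_iff_right hpf.out.one_lt).1 h1
    omega

end CfsgLib.PGroup.MaxClassRank
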