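import Cfsg.Agent.Lib.Fusion.System.LineTorus
import Cfsg.Agent.Lib.PGroup.MaxClassShift
import Cfsg.Agent.Lib.PGroup.MaxClassRank
import Cfsg.Agent.Lib.PGroup.NormalRankFour
import Cfsg.Agent.Lib.PGroup.MaxClassCubeLayer

/-!
# Groups of order `p⁵` without an abelian subgroup of index `p`: weights of automorphisms

Two configurations are studied: a normal maximal subgroup `M` with centre `R` of order `p²` and
derived subgroup `⟨τ⟩`, on whose quotient by `R` the group acts non-trivially; and an element `x`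
with centralizer of order `p²`.
-/

set_option autoImplicit false
set_option linter.style.haveILetI false
set_option linter.unusedSectionVars false

open Subgroup
open scoped commutatorElement

namespace CfsgLib.PGroup.OrderFifth

open CfsgLib.Fusion.LineTorus (zpow_congr cast_of_zpow_eq exists_gen)
open CfsgLib.MaxClassShift (gam Small gam_comm gam_anti gam_normal)

universe u

variable {G : Type u} [Group G] [Finite G] {p : ℕ} [Fact p.Prime]

/-- No abelian subgroup of index `p` in a group of order `p⁵`. -/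
def NoAb (p : ℕ) (G : Type u) [Group G] : Prop :=
  ∀ A : Subgroup G, Nat.card A = p ^ 4 → ¬ ∀ a ∈ A, ∀ b ∈ A, a * b = b * a

theorem mk_commute {W : Subgroup G} [W.Normal] {a b : G} (h : ⁅a, b⁆ ∈ W) :
    Commute (a : G ⧸ W) (b : G ⧸ W) := by
  refine commutatorElement_eq_one_iff_commute.1 ?_
  rw [← QuotientGroup.mk'_apply, ← QuotientGroup.mk'_apply, ← map_commutatorElement,
    QuotientGroup.mk'_apply, QuotientGroup.eq_one_iff]
  exact h

/-- The weight of an automorphism on a commutator. -/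
theorem comm_wt {W : Subgroup G} [W.Normal] (α : MulAut G) {x y u v : G} {r s : ℤ}
    (hx : α x = x ^ r * u) (hy : α y = y ^ s * v) (h1 : ⁅x, v⁆ ∈ W) (h2 : ⁅u, y⁆ ∈ W)
    (h3 : ⁅u, v⁆ ∈ W) (h4 : ⁅⁅x, y⁆, x⁆ ∈ W) (h5 : ⁅⁅x, y⁆, y⁆ ∈ W) :
    ((α ⁅x, y⁆ : G) : G ⧸ W) = ((⁅x, y⁆ : G) : G ⧸ W) ^ (r * s) := by
  set π := QuotientGroup.mk' W
  show π (α ⁅x, y⁆) = π ⁅x, y⁆ ^ (r * s)
  rw [map_commutatorElement α, hx, hy, map_commutatorElement π, map_commutatorElement π, map_mul π,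
    map_mul π, map_zpow π, map_zpow π]
  have c1 : Commute (π x) (π v) := mk_commute h1
  have c2 : Commute (π u) (π y) := mk_commute h2
  have c3 : Commute (π u) (π v) := mk_commute h3
  have c4 : Commute ⁅π x, π y⁆ (π x) := by
    rw [← map_commutatorElement]; exact mk_commute h4
  have c5 : Commute ⁅π x, π y⁆ (π y) := by
    rw [← map_commutatorElement]; exact mk_commute h5
  rw [← CfsgLib.MaxClassCube.commutator_zpow c4 c5]
  generalize π x = X, π y = Y, π u = U, π v = V at c1 c2 c3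
  have e1 : U * (Y ^ s * V) * U⁻¹ = Y ^ s * V := by
    rw [((c2.zpow_right s).mul_right c3).eq, mul_inv_cancel_right]
  have e2 : V * (X ^ r)⁻¹ * V⁻¹ = (X ^ r)⁻¹ := by
    rw [((c1.zpow_left r).symm.inv_right).eq, mul_inv_cancel_right]
  calc ⁅X ^ r * U, Y ^ s * V⁆
      = X ^ r * (U * (Y ^ s * V) * U⁻¹) * (X ^ r)⁻¹ * V⁻¹ * (Y ^ s)⁻¹ := by
        simp only [commutatorElement_def]; group
    _ = X ^ r * Y ^ s * (V * (X ^ r)⁻¹ * V⁻¹) * (Y ^ s)⁻¹ := by rw [e1]; group
    _ = ⁅X ^ r, Y ^ s⁆ := by rw [e2, commutatorElement_def]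

theorem wt_eq {W : Subgroup G} [W.Normal] {c : G} (hc : c ∉ W) (hp : (c : G ⧸ W) ^ p = 1) {r s : ℤ}
    (h : (c : G ⧸ W) ^ r = (c : G ⧸ W) ^ s) : (r : ZMod p) = s :=
  cast_of_zpow_eq hp (fun e => hc ((QuotientGroup.eq_one_iff _).1 e)) h

/-- A step of order `p` with a given generator. -/
theorem gen_step {U N : Subgroup G} [N.Normal] (hle : N ≤ U) (hc : Nat.card U = p * Nat.card N)
    {v : G} (hv : v ∈ U) (hvN : v ∉ N) :
    (v : G ⧸ N) ^ p = 1 ∧
      ∀ y ∈ U, ∃ j : ℤ, (v ^ j)⁻¹ * y ∈ N ∧ (y : G ⧸ N) = (v : G ⧸ N) ^ j := by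
  obtain ⟨x₀, -, -, hp0, hgen⟩ := exists_gen hle hc
  obtain ⟨i, hi⟩ := hgen v hv
  have hi0 : (i : ZMod p) ≠ 0 := fun e => hvN ((QuotientGroup.eq_one_iff _).1 (by
    rw [hi, zpow_congr hp0 (s := 0) (by simpa using e), zpow_zero]))
  refine ⟨by rw [hi, ← zpow_natCast, ← zpow_mul, mul_comm, zpow_mul, zpow_natCast, hp0, one_zpow],
    fun y hy => ?_⟩
  obtain ⟨j, hj⟩ := hgen y hy
  have e : (y : G ⧸ N) = (v : G ⧸ N) ^ (j * (((i : ZMod p)⁻¹).val : ℤ)) := by
    rw [hi, ← zpow_mul, hj]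
    refine zpow_congr hp0 ?_
    push_cast
    rw [ZMod.natCast_zmod_val]
    field_simp
  refine ⟨_, ?_, e⟩
  rw [← QuotientGroup.eq, QuotientGroup.mk_zpow, e]

/-- A normal step of order `p` is centralized. -/
theorem step_comm (hG : IsPGroup p G) {U V : Subgroup G} [U.Normal] [V.Normal] (hle : U ≤ V)
    (hc : Nat.card V = p * Nat.card U) (g : G) {x : G} (hx : x ∈ V) : ⁅g, x⁆ ∈ U := by
  have hrel : U.relIndex V = p := by
    have e := relIndex_mul_relIndex ⊥ U V bot_le hle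
    rw [relIndex_bot_left, relIndex_bot_left, hc, mul_comm p] at e
    exact Nat.eq_of_mul_eq_mul_left Nat.card_pos e
  have h1 := CfsgLib.PGroup.RankFour.central_step hG hle hrel g hx
  have h2 := ‹U.Normal›.conj_mem _ h1 x
  have e : ⁅g, x⁆ = x * (x⁻¹ * (g * x * g⁻¹)) * x⁻¹ := by rw [commutatorElement_def]; group
  rw [e]; exact h2

/-- `[G, M] N < M`. -/
theorem comm_sup_lt (hG : IsPGroup p G) {N M : Subgroup G} [N.Normal] [M.Normal] (hlt : N < M) :
    ⁅(⊤ : Subgroup G), M⁆ ⊔ N < M := by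
  haveI : Group.IsNilpotent G := hG.isNilpotent
  refine lt_of_le_of_ne (sup_le (commutator_le_right _ _) hlt.le) fun e => hlt.not_ge ?_
  obtain ⟨n, hn⟩ := Subgroup.nilpotent_iff_lowerCentralSeries.1 (inferInstance : Group.IsNilpotent G)
  have key : ∀ k, M ≤ (⊤ : Subgroup G).lowerCentralSeries k ⊔ N := by
    intro k
    induction k with
    | zero => simp
    | succ k ih =>
      refine e.ge.trans (sup_le ?_ le_sup_right)
      refine commutator_le.2 fun g _ m hm => ?_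
      obtain ⟨a, ha, b, hb, rfl⟩ := mem_sup_of_normal_left.1 (ih hm)
      rw [show ⁅g, a * b⁆ = ⁅g, a⁆ * (a * ⁅g, b⁆ * a⁻¹) by simp only [commutatorElement_def]; group]
      refine mul_mem (mem_sup_left ?_) (mem_sup_right (‹N.Normal›.conj_mem _ ?_ a))
      · rw [← commutatorElement_inv]
        exact inv_mem (commutator_mem_commutator ha (mem_top g))
      · rw [commutatorElement_def]
        exact mul_mem (‹N.Normal›.conj_mem b hb g) (inv_mem hb)
  have := key n
  rwa [hn, bot_sup_eq] at this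

theorem card_normal_sub {U V : Subgroup G} (hG : IsPGroup p G) (hlt : U < V) {k : ℕ}
    (hV : Nat.card V = p ^ (k + 1)) : Nat.card U ≤ p ^ k := by
  have h1 := CfsgLib.MaxClassCube.mul_card_le hG hlt
  rw [hV, pow_succ'] at h1
  exact Nat.le_of_mul_le_mul_left h1 (Fact.out : p.Prime).pos

/-! ### A maximal subgroup with centre of order `p²` -/

/-- The configuration of a maximal subgroup. -/
structure Mid (p : ℕ) (M R : Subgroup G) (τ : G) : Prop where
  cardG : Nat.card G = p ^ 5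
  cardM : Nat.card M = p ^ 4
  normalM : M.Normal
  normalR : R.Normal
  leM : R ≤ M
  cardR : Nat.card R = p ^ 2
  central : ∀ r ∈ R, ∀ m ∈ M, r * m = m * r
  centre : ∀ m ∈ M, (∀ m' ∈ M, m * m' = m' * m) → m ∈ R
  tau_mem : τ ∈ R
  tau_ne : τ ≠ 1
  tau_pow : τ ^ p = 1
  tau_normal : (zpowers τ).Normal
  comm : ∀ a ∈ M, ∀ b ∈ M, ⁅a, b⁆ ∈ zpowers τ
  self : ∀ g : G, (∀ m ∈ M, g * m = m * g) → g ∈ M

variable {M R : Subgroup G} {τ : G}

/-- The line `[G, M] R`. -/
def line (M R : Subgroup G) : Subgroup G := ⁅(⊤ : Subgroup G), M⁆ ⊔ R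

section Facts

variable (h : Mid p M R τ)
include h

theorem Mid.isP : IsPGroup p G := IsPGroup.of_card h.cardG

theorem Mid.card_tau : Nat.card (zpowers τ) = p := by
  rw [Nat.card_zpowers, orderOf_eq_prime h.tau_pow h.tau_ne]

theorem Mid.tau_le : zpowers τ ≤ R := zpowers_le.2 h.tau_mem

theorem Mid.step_tau : Nat.card R = p * Nat.card (zpowers τ) := by
  rw [h.card_tau, h.cardR, pow_two]

theorem Mid.tau_central (g : G) : ∀ t ∈ zpowers τ, g * t = t * g := by
  intro t ht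
  haveI := h.tau_normal
  have h1 := step_comm (p := p) h.isP (U := (⊥ : Subgroup G)) (V := zpowers τ) bot_le
    (by rw [h.card_tau, card_bot, mul_one]) g ht
  rw [mem_bot, commutatorElement_eq_one_iff_mul_comm] at h1
  exact h1

theorem Mid.comm_R (g : G) {r : G} (hr : r ∈ R) : ⁅g, r⁆ ∈ zpowers τ := by
  haveI := h.tau_normal
  haveI := h.normalR
  exact step_comm h.isP h.tau_le h.step_tau g hr

variable {g x : G} (hx : x ∈ M) (hm : ⁅g, x⁆ ∉ R)
include hx hm

theorem Mid.g_notMem : g ∉ M := fun hg => hm (h.tau_le (h.comm g hg x hx))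

theorem Mid.m_mem : ⁅g, x⁆ ∈ line M R :=
  mem_sup_left (commutator_mem_commutator (mem_top g) hx)

theorem Mid.line_spec : (line M R).Normal ∧ R ≤ line M R ∧ line M R ≤ M ∧
    Nat.card (line M R) = p ^ 3 := by
  haveI := h.normalR
  haveI := h.normalM
  have hRlt : R < M := lt_of_le_of_ne h.leM fun e => by
    have h1 := h.cardM
    rw [← e, h.cardR] at h1
    exact absurd (Nat.pow_right_injective (Fact.out : p.Prime).two_le h1) (by omega)
  have hlt := comm_sup_lt h.isP hRlt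
  refine ⟨inferInstanceAs (⁅(⊤ : Subgroup G), M⁆ ⊔ R).Normal, le_sup_right, hlt.le, le_antisymm ?_ ?_⟩
  · exact card_normal_sub h.isP hlt h.cardM
  · have h1 : R < line M R := lt_of_le_of_ne le_sup_right fun e => hm (e ▸ h.m_mem hx hm)
    have h2 := CfsgLib.MaxClassCube.mul_card_le h.isP h1
    rwa [h.cardR, ← pow_succ'] at h2

theorem Mid.line_step : Nat.card (line M R) = p * Nat.card R ∧
    Nat.card M = p * Nat.card (line M R) ∧ Nat.card (⊤ : Subgroup G) = p * Nat.card M := by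
  obtain ⟨-, -, -, hc⟩ := h.line_spec hx hm
  rw [hc, h.cardR, h.cardM, card_top, h.cardG]
  exact ⟨by ring, by ring, by ring⟩

theorem Mid.comm_line (g' : G) {c : G} (hc : c ∈ line M R) : ⁅g', c⁆ ∈ R := by
  haveI := h.normalR
  haveI := (h.line_spec hx hm).1
  exact step_comm h.isP (h.line_spec hx hm).2.1 (h.line_step hx hm).1 g' hc

theorem Mid.x_notMem : x ∉ line M R := fun hxC => hm (h.comm_line hx hm g hxC)

theorem Mid.line_comm {a b : G} (ha : a ∈ line M R) (hb : b ∈ line M R) : a * b = b * a := by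
  haveI := h.normalR
  obtain ⟨-, hRC, hCM, -⟩ := h.line_spec hx hm
  obtain ⟨-, hgen⟩ := gen_step hRC (h.line_step hx hm).1 (h.m_mem hx hm) hm
  obtain ⟨i, hi, -⟩ := hgen a ha
  obtain ⟨j, hj, -⟩ := hgen b hb
  set m := ⁅g, x⁆
  have e1 : a = m ^ i * ((m ^ i)⁻¹ * a) := by group
  have e2 : b = m ^ j * ((m ^ j)⁻¹ * b) := by group
  have hmM : m ∈ M := hCM (h.m_mem hx hm)
  have c1 : ∀ k : ℤ, ∀ r ∈ R, Commute (m ^ k) r := fun k r hr =>
    (h.central r hr _ (zpow_mem hmM k)).symm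
  rw [e1, e2]
  exact ((((Commute.zpow_zpow (Commute.refl m) i j).mul_right (c1 i _ hj)).mul_left
    ((c1 j _ hi).symm.mul_right (h.central _ hi _ (h.leM hj))))).eq

theorem Mid.xm_ne : ⁅x, ⁅g, x⁆⁆ ≠ 1 := by
  intro e
  haveI := (h.line_spec hx hm).1
  obtain ⟨-, hgen⟩ := gen_step (h.line_spec hx hm).2.2.1 (h.line_step hx hm).2.1 hx (h.x_notMem hx hm)
  refine hm (h.centre _ ((h.line_spec hx hm).2.2.1 (h.m_mem hx hm)) fun y hy => ?_)
  obtain ⟨j, hj, -⟩ := hgen y hy
  have c1 : Commute ⁅g, x⁆ (x ^ j) := ((commutatorElement_eq_one_iff_commute.1 e).symm).zpow_right j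
  have c2 : Commute ⁅g, x⁆ ((x ^ j)⁻¹ * y) := h.line_comm hx hm (h.m_mem hx hm) hj
  have := c1.mul_right c2
  rwa [mul_inv_cancel_left] at this

/-- The weights of an automorphism of `M` extended to the whole group. -/
theorem Mid.key (α : MulAut G) {a b : ℤ}
    (hxa : (x ^ a)⁻¹ * α x ∈ line M R) (hτ : α τ = τ ^ b) (hR : ∀ r ∈ R, r⁻¹ * α r ∈ zpowers τ) :
    ∃ σ : ℤ, (a : ZMod p) * σ * a = b ∧
      (⁅g, ⁅g, x⁆⁆ ∉ zpowers τ → (σ : ZMod p) * σ * a = 1) ∧
      ((∃ r ∈ R, ⁅g, r⁆ ≠ 1) → (σ : ZMod p) = b) := by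
  haveI := h.normalR
  haveI := h.normalM
  haveI := h.tau_normal
  obtain ⟨hCn, hRC, hCM, -⟩ := h.line_spec hx hm
  obtain ⟨hs1, hs2, hs3⟩ := h.line_step hx hm
  haveI := hCn
  set m := ⁅g, x⁆ with hmdef
  have hmC := h.m_mem hx hm
  have hmM := hCM hmC
  obtain ⟨σ, hσ, -⟩ := (gen_step le_top hs3 (mem_top g) (h.g_notMem hx hm)).2 (α g) (mem_top _)
  set v := (g ^ σ)⁻¹ * α g with hv
  have hαg : α g = g ^ σ * v := by rw [hv, mul_inv_cancel_left]
  set u := (x ^ a)⁻¹ * α x with hu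
  have hαx : α x = x ^ a * u := by rw [hu, mul_inv_cancel_left]
  have hT : ∀ {a' b' : G}, a' ∈ M → b' ∈ M → ⁅a', b'⁆ ∈ zpowers τ := fun ha hb => h.comm _ ha _ hb
  have htR : ∀ {t : G}, t ∈ zpowers τ → t ∈ R := fun ht => h.tau_le ht
  have cc : ∀ {t : G} (y : G), t ∈ zpowers τ → ⁅t, y⁆ = 1 := fun {t} y ht =>
    commutatorElement_eq_one_iff_mul_comm.2 (h.tau_central y t ht).symm
  -- `m` modulo `R`
  have hm1 := comm_wt (W := R) α hαg hαx (h.comm_line hx hm g hxa) (htR (hT hσ hx))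
    (htR (hT hσ (hCM hxa)))
    (by rw [← commutatorElement_inv]; exact inv_mem (h.comm_line hx hm g hmC))
    (htR (hT hmM hx))
  rw [← QuotientGroup.mk_zpow] at hm1
  set r := (m ^ (σ * a))⁻¹ * α m with hr
  have hrR : r ∈ R := by rw [hr]; exact QuotientGroup.eq.1 hm1.symm
  have hαm : α m = m ^ (σ * a) * r := by rw [hr, mul_inv_cancel_left]
  have hb : ∀ {c : G}, c ∈ zpowers τ → α c = c ^ b := by
    intro c hc
    obtain ⟨k, rfl⟩ := mem_zpowers_iff.1 hc
    rw [map_zpow, hτ, ← zpow_mul, ← zpow_mul, mul_comm]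
  have hcp : ∀ {c : G}, c ∈ zpowers τ → (c : G ⧸ (⊥ : Subgroup G)) ^ p = 1 := by
    intro c hc
    obtain ⟨k, rfl⟩ := mem_zpowers_iff.1 hc
    rw [← QuotientGroup.mk_pow, ← zpow_natCast, ← zpow_mul, mul_comm, zpow_mul, zpow_natCast,
      h.tau_pow, one_zpow, QuotientGroup.mk_one]
  have one_bot : ∀ {y : G}, y = 1 → y ∈ (⊥ : Subgroup G) := fun hy => mem_bot.2 hy
  refine ⟨σ, ?_, fun hgm => ?_, fun ⟨r', hr', hne⟩ => ?_⟩
  · have hcT : ⁅x, m⁆ ∈ zpowers τ := hT hx hmM
    have e := comm_wt (W := (⊥ : Subgroup G)) α hαx hαm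
      (one_bot (commutatorElement_eq_one_iff_mul_comm.2 (h.central r hrR x hx).symm))
      (one_bot (commutatorElement_eq_one_iff_mul_comm.2 (h.line_comm hx hm hxa hmC)))
      (one_bot (commutatorElement_eq_one_iff_mul_comm.2 (h.line_comm hx hm hxa (hRC hrR))))
      (one_bot (cc x hcT)) (one_bot (cc m hcT))
    rw [hb hcT, QuotientGroup.mk_zpow] at e
    have := wt_eq (p := p) (fun e1 => h.xm_ne hx hm (mem_bot.1 e1)) (hcp hcT) e
    push_cast at this
    rw [this]; ring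
  · have hcR : ⁅g, m⁆ ∈ R := h.comm_line hx hm g hmC
    have e := comm_wt (W := zpowers τ) α hαg hαm (h.comm_R g hrR) (hT hσ hmM)
      (hT hσ (h.leM hrR))
      (by rw [← commutatorElement_inv]; exact inv_mem (h.comm_R g hcR))
      (hT (h.leM hcR) hmM)
    rw [← QuotientGroup.eq.2 (hR _ hcR), ← zpow_one ((⁅g, m⁆ : G) : G ⧸ zpowers τ), ← zpow_mul,
      one_mul] at e
    have := wt_eq (p := p) hgm (gen_step h.tau_le h.step_tau hcR hgm).1 e
    push_cast at this
    rw [← mul_assoc] at this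
    exact this.symm
  · have hcT : ⁅g, r'⁆ ∈ zpowers τ := h.comm_R g hr'
    have ht := hR r' hr'
    have hαr : α r' = r' ^ (1 : ℤ) * (r'⁻¹ * α r') := by rw [zpow_one, mul_inv_cancel_left]
    have e := comm_wt (W := (⊥ : Subgroup G)) α hαg hαr
      (one_bot (commutatorElement_eq_one_iff_mul_comm.2 (h.tau_central g _ ht)))
      (one_bot (commutatorElement_eq_one_iff_mul_comm.2 (h.central r' hr' v hσ).symm))
      (one_bot (commutatorElement_eq_one_iff_mul_comm.2 (h.tau_central v _ ht)))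
      (one_bot (cc g hcT)) (one_bot (cc r' hcT))
    rw [hb hcT, QuotientGroup.mk_zpow] at e
    have := wt_eq (p := p) (fun e1 => hne (mem_bot.1 e1)) (hcp hcT) e
    push_cast at this
    rw [this]; ring

theorem Mid.adjust (hn : NoAb p G) (hgm : ⁅g, ⁅g, x⁆⁆ ∈ zpowers τ) :
    ∃ g' : G, ⁅g', x⁆ = ⁅g, x⁆ ∧ ⁅g', ⁅g, x⁆⁆ = 1 ∧ g' ∉ M ∧
      (∃ r ∈ R, ⁅g', r⁆ ≠ 1) ∧ ∃ r ∈ R, ⁅g, r⁆ ≠ 1 := by
  set m := ⁅g, x⁆ with hmdef
  obtain ⟨-, hRC, hCM, hCc⟩ := h.line_spec hx hm
  have hmC := h.m_mem hx hm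
  have hcT : ⁅x, m⁆ ∈ zpowers τ := h.comm x hx m (hCM hmC)
  obtain ⟨k, hk⟩ := mem_zpowers_iff.1 hgm
  obtain ⟨l, hl⟩ := mem_zpowers_iff.1 hcT
  have hl0 : (l : ZMod p) ≠ 0 := fun e => h.xm_ne hx hm (by
    rw [← hl, zpow_congr h.tau_pow (s := 0) (by simpa using e), zpow_zero])
  obtain ⟨i, hi⟩ : ∃ i : ℤ, (k : ZMod p) + i * l = 0 :=
    ⟨((-(k : ZMod p) / l).val : ℤ), by push_cast; rw [ZMod.natCast_zmod_val]; field_simp; ring⟩
  have hxc : ∀ r ∈ R, ⁅x ^ i, r⁆ = 1 := fun r hr =>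
    commutatorElement_eq_one_iff_mul_comm.2 (h.central r hr _ (zpow_mem hx i)).symm
  have hsplit : ∀ y : G, ⁅g * x ^ i, y⁆ = g * ⁅x ^ i, y⁆ * g⁻¹ * ⁅g, y⁆ := fun y => by
    simp only [commutatorElement_def]; group
  have hxi : ⁅x ^ i, m⁆ = ⁅x, m⁆ ^ i := by
    have := CfsgLib.MaxClassCube.commutator_zpow (x := x) (y := m) (h.tau_central x _ hcT).symm
      (h.tau_central m _ hcT).symm i 1
    simpa using this
  have h1 : ⁅g * x ^ i, x⁆ = m := by
    rw [hsplit, commutatorElement_eq_one_iff_commute.2 ((Commute.refl x).zpow_left i)]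
    simp [hmdef]
  have h2 : ⁅g * x ^ i, m⁆ = 1 := by
    rw [hsplit, hxi, h.tau_central g _ (zpow_mem hcT i), mul_inv_cancel_right, ← hk, ← hl, ← zpow_mul,
      ← zpow_add]
    rw [zpow_congr h.tau_pow (s := 0) (by push_cast; linear_combination hi), zpow_zero]
  have hg' : g * x ^ i ∉ M := fun hmem => h.g_notMem hx hm
    (by simpa using mul_mem hmem (inv_mem (zpow_mem hx i)))
  have hr : ∀ r ∈ R, ⁅g * x ^ i, r⁆ = ⁅g, r⁆ := fun r hr => by
    rw [hsplit, hxc r hr]; simp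
  have hex : ∃ r ∈ R, ⁅g * x ^ i, r⁆ ≠ 1 := by
    by_contra hcon
    push Not at hcon
    set s := insert (g * x ^ i) (line M R : Set G)
    have hgc : ∀ c ∈ line M R, Commute (g * x ^ i) c := by
      intro c hc
      haveI := h.normalR
      obtain ⟨j, hj, -⟩ := (gen_step hRC (h.line_step hx hm).1 hmC hm).2 c hc
      have c1 := ((commutatorElement_eq_one_iff_commute.1 h2).zpow_right j).mul_right
        (commutatorElement_eq_one_iff_commute.1 (hcon _ hj))
      rwa [mul_inv_cancel_left] at c1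
    have hs : ∀ a ∈ s, ∀ b ∈ s, a * b = b * a := by
      rintro a (rfl | ha) b (rfl | hb)
      · rfl
      · exact (hgc b hb).eq
      · exact (hgc a ha).symm.eq
      · exact h.line_comm hx hm ha hb
    have hK : ∀ a ∈ closure s, ∀ b ∈ closure s, a * b = b * a := by
      intro a ha b hb
      exact congrArg Subtype.val (isMulCommutative_iff.1 (Subgroup.isMulCommutative_closure hs) ⟨a, ha⟩ ⟨b, hb⟩)
    have hlt : line M R < closure s := lt_of_le_of_ne (fun y hy => subset_closure (Or.inr hy))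
      fun e => hg' (hCM (e.ge (subset_closure (Or.inl rfl))))
    have hK4 := CfsgLib.MaxClassCube.mul_card_le h.isP hlt
    rw [hCc, ← pow_succ'] at hK4
    obtain ⟨e, he, hce⟩ := (Nat.dvd_prime_pow (Fact.out : p.Prime)).1
      (h.cardG ▸ card_subgroup_dvd_card (closure s))
    rw [hce] at hK4
    have he4 := (Nat.pow_le_pow_iff_right (Fact.out : p.Prime).one_lt).1 hK4
    rcases (show e = 4 ∨ e = 5 by omega) with rfl | rfl
    · exact hn _ hce hK
    · have htop : closure s = ⊤ := eq_of_le_of_card_ge le_top (by rw [card_top, h.cardG, hce])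
      exact h.xm_ne hx hm (commutatorElement_eq_one_iff_mul_comm.2
        (hK x (htop ▸ mem_top x) m (htop ▸ mem_top m)))
  obtain ⟨r, hr', hne⟩ := hex
  exact ⟨g * x ^ i, h1, h2, hg', ⟨r, hr', hne⟩, r, hr', hr r hr' ▸ hne⟩

theorem Mid.center_eq (hn : NoAb p G) (hgm : ⁅g, ⁅g, x⁆⁆ ∈ zpowers τ) :
    center G = zpowers τ := by
  refine le_antisymm (fun z hz => ?_) fun t ht => mem_center_iff.2 fun y => h.tau_central y t ht
  obtain ⟨-, -, -, -, -, r, hr, hne⟩ := h.adjust hx hm hn hgm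
  have hzc := mem_center_iff.1 hz
  have hzM : z ∈ M := h.self z fun m _ => (hzc m).symm
  have hzR : z ∈ R := h.centre z hzM fun m' _ => (hzc m').symm
  haveI := h.tau_normal
  by_contra hzt
  obtain ⟨j, hj, -⟩ := (gen_step h.tau_le h.step_tau hzR hzt).2 r hr
  refine hne (commutatorElement_eq_one_iff_mul_comm.2 ?_)
  have c : Commute g (z ^ j * ((z ^ j)⁻¹ * r)) :=
    ((show Commute g z from hzc g).zpow_right j).mul_right (h.tau_central g _ hj)
  rwa [mul_inv_cancel_left] at c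

theorem Mid.derived (hn : NoAb p G) (hgm : ⁅g, ⁅g, x⁆⁆ ∈ zpowers τ) :
    commutator G = zpowers τ ⊔ zpowers ⁅g, x⁆ ∧ Nat.card (commutator G) = p ^ 2 ∧
      ∀ y : G, ⁅y, ⁅g, x⁆⁆ ∈ zpowers τ := by
  set m := ⁅g, x⁆ with hmdef
  haveI := h.tau_normal
  haveI := h.normalR
  haveI := h.normalM
  obtain ⟨hCn, hRC, hCM, -⟩ := h.line_spec hx hm
  haveI := hCn
  obtain ⟨hs1, hs2, hs3⟩ := h.line_step hx hm
  have hmC := h.m_mem hx hm
  obtain ⟨-, hgenC⟩ := gen_step hRC hs1 hmC hm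
  obtain ⟨-, hgenM⟩ := gen_step hCM hs2 hx (h.x_notMem hx hm)
  obtain ⟨-, hgenG⟩ := gen_step (le_top (a := M)) hs3 (mem_top g) (h.g_notMem hx hm)
  set π := QuotientGroup.mk' (zpowers τ)
  have hmz : ∀ y : G, Commute (π m) (π y) := by
    intro y
    obtain ⟨i, hi, -⟩ := hgenG y (mem_top y)
    have c1 : Commute (π m) (π g) := by
      refine (mk_commute ?_).symm
      exact hgm
    have c2 : Commute (π m) (π ((g ^ i)⁻¹ * y)) := mk_commute (h.comm m (hCM hmC) _ hi)
    have := (c1.zpow_right i).mul_right c2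
    rwa [← map_zpow, ← map_mul, mul_inv_cancel_left] at this
  have hmem : ∀ y : G, ⁅y, m⁆ ∈ zpowers τ := fun y => by
    rw [← QuotientGroup.eq_one_iff, ← QuotientGroup.mk'_apply, map_commutatorElement]
    exact commutatorElement_eq_one_iff_commute.2 (hmz y).symm
  set N0 := zpowers τ ⊔ zpowers m
  haveI hN0 : N0.Normal := ⟨fun n hn y => by
    obtain ⟨t, ht, w, hw, rfl⟩ := mem_sup_of_normal_left.1 hn
    obtain ⟨k, rfl⟩ := mem_zpowers_iff.1 hw
    rw [← conj_mul, ← conj_zpow]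
    refine mul_mem (mem_sup_left (h.tau_normal.conj_mem t ht y)) (zpow_mem ?_ k)
    rw [show y * m * y⁻¹ = ⁅y, m⁆ * m by rw [commutatorElement_def]; group]
    exact mul_mem_sup (hmem y) (mem_zpowers m)⟩
  set ρ := QuotientGroup.mk' N0
  have hT : ∀ {t : G}, t ∈ zpowers τ → t ∈ N0 := fun ht => mem_sup_left ht
  have hC0 : ∀ c ∈ line M R, ∀ y : G, Commute (ρ c) (ρ y) := by
    intro c hc y
    obtain ⟨j, hj, -⟩ := hgenC c hc
    have c1 : Commute (ρ m) (ρ y) := (mk_commute (hT (hmem y))).symm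
    have c2 : Commute (ρ ((m ^ j)⁻¹ * c)) (ρ y) := (mk_commute (hT (h.comm_R y hj))).symm
    have := (c1.zpow_left j).mul_left c2
    rwa [← map_zpow, ← map_mul, mul_inv_cancel_left] at this
  have hgx : Commute (ρ g) (ρ x) := mk_commute (show m ∈ N0 from mem_sup_right (mem_zpowers m))
  have hM0 : ∀ y ∈ M, Commute (ρ g) (ρ y) ∧ Commute (ρ x) (ρ y) := by
    intro y hy
    obtain ⟨j, hj, -⟩ := hgenM y hy
    have a1 := (hgx.zpow_right j).mul_right (hC0 _ hj g).symm
    have a2 := ((Commute.refl (ρ x)).zpow_right j).mul_right (hC0 _ hj x).symm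
    rw [← map_zpow, ← map_mul, mul_inv_cancel_left] at a1 a2
    exact ⟨a1, a2⟩
  have hM1 : ∀ y ∈ M, ∀ z : G, Commute (ρ y) (ρ z) := by
    intro y hy z
    obtain ⟨i, hi, -⟩ := hgenG z (mem_top z)
    have hMM : Commute (ρ y) (ρ ((g ^ i)⁻¹ * z)) := mk_commute (hT (h.comm y hy _ hi))
    have := ((hM0 y hy).1.symm.zpow_right i).mul_right hMM
    rwa [← map_zpow, ← map_mul, mul_inv_cancel_left] at this
  have hall : ∀ y z : G, ⁅y, z⁆ ∈ N0 := by
    intro y z
    obtain ⟨i, hi, -⟩ := hgenG y (mem_top y)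
    obtain ⟨j, hj, -⟩ := hgenG z (mem_top z)
    have c1 : Commute (ρ g) (ρ z) := by
      have := ((Commute.refl (ρ g)).zpow_right j).mul_right (hM0 _ hj).1
      rwa [← map_zpow, ← map_mul, mul_inv_cancel_left] at this
    have c2 := (c1.zpow_left i).mul_left (hM1 _ hi z)
    rw [← map_zpow, ← map_mul, mul_inv_cancel_left] at c2
    rw [← QuotientGroup.eq_one_iff, ← QuotientGroup.mk'_apply, map_commutatorElement]
    exact commutatorElement_eq_one_iff_commute.2 c2
  have hcT : ⁅x, m⁆ ∈ zpowers τ := h.comm x hx m (hCM hmC)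
  have hcomm : ∀ y z : G, ⁅y, z⁆ ∈ commutator G := fun y z =>
    commutator_def G ▸ commutator_mem_commutator (mem_top y) (mem_top z)
  have hle : N0 ≤ commutator G := by
    refine sup_le ?_ (zpowers_le.2 (hcomm g x))
    obtain ⟨k, hk⟩ := mem_zpowers_iff.1 hcT
    have hk0 : (k : ZMod p) ≠ 0 := fun e => h.xm_ne hx hm (by
      rw [← hk, zpow_congr h.tau_pow (s := 0) (by simpa using e), zpow_zero])
    refine zpowers_le.2 ?_
    have e : τ = ⁅x, m⁆ ^ (((k : ZMod p)⁻¹).val : ℤ) := by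
      rw [← hk, ← zpow_mul]
      conv_lhs => rw [← zpow_one τ]
      refine zpow_congr h.tau_pow ?_
      push_cast; rw [ZMod.natCast_zmod_val]; field_simp
    rw [e]; exact zpow_mem (hcomm x m) _
  have heq : commutator G = N0 := le_antisymm (commutator_def G ▸ commutator_le.2
    fun y _ z _ => hall y z) hle
  refine ⟨heq, ?_, hmem⟩
  -- the order
  have hmp : (m : G ⧸ zpowers τ) ^ p = 1 := by
    obtain ⟨g', -, hg'm, -, ⟨r, hr, hne⟩, -⟩ := h.adjust hx hm hn hgm
    rw [← QuotientGroup.mk_pow, QuotientGroup.eq_one_iff]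
    by_contra hmt
    have hmR : m ^ p ∈ R := by
      rw [← QuotientGroup.eq_one_iff, QuotientGroup.mk_pow]
      exact (gen_step hRC hs1 hmC hm).1
    obtain ⟨j, hj, -⟩ := (gen_step h.tau_le h.step_tau hmR hmt).2 r hr
    refine hne (commutatorElement_eq_one_iff_mul_comm.2 ?_)
    have c : Commute g' ((m ^ p) ^ j * (((m ^ p) ^ j)⁻¹ * r)) :=
      (((commutatorElement_eq_one_iff_commute.1 hg'm).pow_right p).zpow_right j).mul_right
        (h.tau_central g' _ hj)
    rwa [mul_inv_cancel_left] at c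
  have hmt : m ∉ zpowers τ := fun e => hm (h.tau_le e)
  have e := CfsgLib.MaxClassCube.card_map_mul_card_inf_ker' π N0
  rw [Subgroup.map_sup, (Subgroup.map_eq_bot_iff _).2 (QuotientGroup.ker_mk' _).ge, bot_sup_eq,
    MonoidHom.map_zpowers, QuotientGroup.ker_mk', inf_eq_right.2 le_sup_left, h.card_tau,
    Nat.card_zpowers, show π m = (m : G ⧸ zpowers τ) from rfl, orderOf_eq_prime hmp (fun e => hmt ((QuotientGroup.eq_one_iff _).1 e))] at e
  rw [heq, ← e, pow_two]

/-- The element `m` and the quotient `C / G'` for `p = 3`: every automorphism is trivial on it. -/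
theorem Mid.fix_line (hn : NoAb p G) (hgm : ⁅g, ⁅g, x⁆⁆ ∈ zpowers τ) (hp3 : p = 3) (α : MulAut G) :
    ∀ c ∈ line M R, c⁻¹ * α c ∈ commutator G := by
  set m := ⁅g, x⁆ with hmdef
  haveI := h.tau_normal
  haveI := h.normalR
  haveI := h.normalM
  obtain ⟨hCn, hRC, hCM, hCc⟩ := h.line_spec hx hm
  haveI := hCn
  obtain ⟨hs1, hs2, hs3⟩ := h.line_step hx hm
  have hmC := h.m_mem hx hm
  obtain ⟨hD, hDc, hmz⟩ := h.derived hx hm hn hgm
  obtain ⟨g', hg'x, hg'm, hg'M, ⟨r₀, hr₀, hne⟩, -⟩ := h.adjust hx hm hn hgm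
  haveI : (commutator G).Normal := inferInstance
  have hZ := h.center_eq hx hm hn hgm
  have hcc : ∀ {t : G} (y : G), t ∈ zpowers τ → ⁅t, y⁆ = 1 := fun {t} y ht =>
    commutatorElement_eq_one_iff_mul_comm.2 (h.tau_central y t ht).symm
  have one_bot : ∀ {y : G}, y = 1 → y ∈ (⊥ : Subgroup G) := fun hy => mem_bot.2 hy
  have htp : ∀ {c : G}, c ∈ zpowers τ → (c : G ⧸ (⊥ : Subgroup G)) ^ p = 1 := by
    intro c hc
    obtain ⟨k, rfl⟩ := mem_zpowers_iff.1 hc
    rw [← QuotientGroup.mk_pow, ← zpow_natCast, ← zpow_mul, mul_comm, zpow_mul, zpow_natCast,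
      h.tau_pow, one_zpow, QuotientGroup.mk_one]
  -- the line is the second centre
  set ρ := QuotientGroup.mk' (zpowers τ)
  have hmid : ∀ y : G, y ∈ line M R ↔ ∀ z : G, ⁅y, z⁆ ∈ zpowers τ := by
    intro y
    constructor
    · intro hy z
      obtain ⟨j, hj, -⟩ := (gen_step hRC hs1 hmC hm).2 y hy
      have c1 : Commute (ρ m) (ρ z) := (mk_commute (hmz z)).symm
      have c2 : Commute (ρ ((m ^ j)⁻¹ * y)) (ρ z) := (mk_commute (h.comm_R z hj)).symm
      have := (c1.zpow_left j).mul_left c2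
      rw [← map_zpow, ← map_mul, mul_inv_cancel_left] at this
      rw [← QuotientGroup.eq_one_iff, ← QuotientGroup.mk'_apply, map_commutatorElement]
      exact commutatorElement_eq_one_iff_commute.2 this
    · intro hy
      have hyM : y ∈ M := by
        by_contra hyM
        obtain ⟨j, hj, -⟩ := (gen_step (le_top (a := M)) hs3 (mem_top y) hyM).2 g' (mem_top _)
        refine hm ?_
        have c1 : Commute (ρ y) (ρ x) := mk_commute (hy x)
        have c2 : Commute (ρ ((y ^ j)⁻¹ * g')) (ρ x) := mk_commute (h.comm _ hj x hx)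
        have := (c1.zpow_left j).mul_left c2
        rw [← map_zpow, ← map_mul, mul_inv_cancel_left] at this
        rw [hmdef, ← hg'x]
        refine h.tau_le ?_
        rw [← QuotientGroup.eq_one_iff, ← QuotientGroup.mk'_apply, map_commutatorElement]
        exact commutatorElement_eq_one_iff_commute.2 this
      by_contra hyC
      obtain ⟨j, hj, -⟩ := (gen_step hCM hs2 hyM hyC).2 x hx
      refine hm ?_
      set ρR := QuotientGroup.mk' R
      have c1 : Commute (ρR y) (ρR g) := mk_commute (h.tau_le (hy g))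
      have c2 : Commute (ρR ((y ^ j)⁻¹ * x)) (ρR g) :=
        (mk_commute (h.comm_line hx hm g hj)).symm
      have := (c1.zpow_left j).mul_left c2
      rw [← map_zpow, ← map_mul, mul_inv_cancel_left] at this
      rw [← QuotientGroup.eq_one_iff, ← QuotientGroup.mk'_apply, map_commutatorElement]
      exact commutatorElement_eq_one_iff_commute.2 this.symm
  have hατ : ∀ t, t ∈ zpowers τ ↔ α t ∈ zpowers τ := fun t => by
    rw [← hZ, mem_center_iff, mem_center_iff]
    constructor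
    · intro ht y
      obtain ⟨z, rfl⟩ := α.surjective y
      rw [← map_mul, ← map_mul, ht]
    · intro ht y
      exact α.injective (by rw [map_mul, map_mul, ht])
  have hαC : ∀ y, y ∈ line M R ↔ α y ∈ line M R := fun y => by
    rw [hmid, hmid]
    constructor
    · intro hy z
      obtain ⟨w, rfl⟩ := α.surjective z
      rw [← map_commutatorElement]
      exact (hατ _).1 (hy w)
    · intro hy z
      rw [hατ, map_commutatorElement]
      exact hy _
  -- the centralizer of `m`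
  set K := centralizer ({m} : Set G) with hKdef
  have hmemK : ∀ y, y ∈ K ↔ y * m = m * y := fun y => mem_centralizer_singleton_iff
  have hxK : x ∉ K := fun e => h.xm_ne hx hm
    (commutatorElement_eq_one_iff_mul_comm.2 ((hmemK x).1 e))
  have hCK : line M R ≤ K := fun y hy => (hmemK y).2 (h.line_comm hx hm hy hmC)
  have hg'K : g' ∈ K := (hmemK g').2 (commutatorElement_eq_one_iff_mul_comm.1 hg'm)
  have hg'C : g' ∉ line M R := fun e => hg'M (hCM e)
  haveI hKn : K.Normal := ⟨fun n hn y => by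
    rw [hmemK]
    have h1 : ⁅y⁻¹, m⁆ ∈ zpowers τ := hmz y⁻¹
    have e : y⁻¹ * m * y = ⁅y⁻¹, m⁆ * m := by rw [commutatorElement_def]; group
    have c : Commute n (y⁻¹ * m * y) := by
      rw [e]; exact (h.tau_central n _ h1).symm.symm |> fun e1 => Commute.mul_right e1 ((hmemK n).1 hn)
    calc y * n * y⁻¹ * m = y * (n * (y⁻¹ * m * y)) * y⁻¹ := by group
      _ = y * ((y⁻¹ * m * y) * n) * y⁻¹ := by rw [c.eq]
      _ = m * (y * n * y⁻¹) := by group⟩
  obtain ⟨hKc, hGK⟩ : Nat.card K = p * Nat.card (line M R) ∧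
      Nat.card (⊤ : Subgroup G) = p * Nat.card K := by
    have h1 := CfsgLib.MaxClassCube.mul_card_le h.isP
      (lt_of_le_of_ne hCK fun e => hg'C (e ▸ hg'K))
    have hlt : K < ⊤ := lt_top_iff_ne_top.2 fun e => hxK (e ▸ mem_top x)
    have h2 := CfsgLib.MaxClassCube.mul_card_le h.isP hlt
    rw [card_top, h.cardG] at h2
    have hK4 : Nat.card K ≤ p ^ 4 := card_normal_sub h.isP hlt (by rw [card_top, h.cardG])
    rw [hCc, ← pow_succ'] at h1
    have : Nat.card K = p ^ 4 := le_antisymm hK4 h1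
    rw [this, hCc, card_top, h.cardG]
    exact ⟨by ring, by ring⟩
  have hαD : ∀ y ∈ commutator G, α y ∈ commutator G := fun y hy =>
    (Subgroup.characteristic_iff_le_comap.1 inferInstance α) hy
  obtain ⟨μ, hμ⟩ : ∃ μ : ℤ, (m ^ μ)⁻¹ * α m ∈ zpowers τ := by
    have h1 := hαD m (hD.ge (mem_sup_right (mem_zpowers m)))
    rw [hD] at h1
    obtain ⟨t, ht, w, hw, e⟩ := mem_sup_of_normal_left.1 h1
    obtain ⟨k, rfl⟩ := mem_zpowers_iff.1 hw
    refine ⟨k, ?_⟩
    rw [← e]
    have := h.tau_normal.conj_mem t ht (m ^ k)⁻¹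
    simpa [mul_assoc] using this
  have hαK : ∀ y, y ∈ K → α y ∈ K := by
    intro y hy
    rw [hmemK]
    set w := (m ^ μ)⁻¹ * α m with hw
    have hmp : (m : G ⧸ zpowers τ) ^ p = 1 := (gen_step (U := commutator G) (hD ▸ le_sup_left)
      (by rw [hDc, h.card_tau, pow_two]) (hD.ge (mem_sup_right (mem_zpowers m)))
      (fun e => hm (h.tau_le e))).1
    have hμ0 : (μ : ZMod p) ≠ 0 := fun e0 => by
      have h1 : m ^ μ ∈ zpowers τ := by
        rw [← QuotientGroup.eq_one_iff, QuotientGroup.mk_zpow, zpow_congr hmp (s := 0)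
          (by simpa using e0), zpow_zero]
      have h2 := mul_mem h1 hμ
      rw [hw, mul_inv_cancel_left, ← hατ] at h2
      exact hm (h.tau_le h2)
    have c0 : Commute (α y) (α m) := by
      show α y * α m = α m * α y
      rw [← map_mul, ← map_mul, (hmemK y).1 hy]
    have c1 : Commute (α y) (m ^ μ) := by
      have := c0.mul_right ((h.tau_central (α y) _ (inv_mem hμ)))
      simpa [hw] using this
    obtain ⟨ν, hν⟩ : ∃ ν : ℤ, (μ : ZMod p) * ν = 1 :=
      ⟨(((μ : ZMod p)⁻¹).val : ℤ), by push_cast; rw [ZMod.natCast_zmod_val, mul_inv_cancel₀ hμ0]⟩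
    have h3 : m ^ (μ * ν - 1) ∈ zpowers τ := by
      rw [← QuotientGroup.eq_one_iff, QuotientGroup.mk_zpow, zpow_congr hmp (s := 0)
        (by push_cast; rw [hν, sub_self]), zpow_zero]
    have c2 := (c1.zpow_right ν).mul_right (h.tau_central (α y) _ (inv_mem h3))
    rw [← zpow_mul, ← zpow_neg, ← zpow_add, show μ * ν + -(μ * ν - 1) = 1 by ring, zpow_one] at c2
    exact c2.eq
  obtain ⟨β, hβ, -⟩ := (gen_step hCK hKc hg'K hg'C).2 _ (hαK g' hg'K)
  obtain ⟨A, hA, -⟩ := (gen_step (le_top (a := K)) hGK (mem_top x) hxK).2 _ (mem_top (α x))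
  set c := (g' ^ β)⁻¹ * α g' with hc
  set k := (x ^ A)⁻¹ * α x with hk
  have eg : α g' = g' ^ β * c := by rw [hc, mul_inv_cancel_left]
  have ex : α x = x ^ A * k := by rw [hk, mul_inv_cancel_left]
  have hA0 : (A : ZMod p) ≠ 0 := fun e0 => by
    have hxp := (gen_step (le_top (a := K)) hGK (mem_top x) hxK).1
    have h1 : x ^ A ∈ K := by
      rw [← QuotientGroup.eq_one_iff, QuotientGroup.mk_zpow, zpow_congr hxp (s := 0)
        (by simpa using e0), zpow_zero]
    have h2 : α x ∈ K := ex ▸ mul_mem h1 hA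
    have hle : K.map α.toMonoidHom = K := eq_of_le_of_card_ge
      (by rintro _ ⟨y, hy, rfl⟩; exact hαK y hy)
      (card_map_of_injective (f := α.toMonoidHom) α.injective).ge
    obtain ⟨y, hy, hyx⟩ := hle.ge h2
    exact hxK (α.injective hyx ▸ hy)
  have hβ0 : (β : ZMod p) ≠ 0 := fun e0 => by
    have hgp := (gen_step hCK hKc hg'K hg'C).1
    have h1 : g' ^ β ∈ line M R := by
      rw [← QuotientGroup.eq_one_iff, QuotientGroup.mk_zpow, zpow_congr hgp (s := 0)
        (by simpa using e0), zpow_zero]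
    exact hg'C ((hαC g').2 (eg ▸ mul_mem h1 hβ))
  have hCt : ∀ {c' : G} (y : G), c' ∈ line M R → ⁅c', y⁆ ∈ zpowers τ := fun y hc' => (hmid _).1 hc' y
  have hxmT : ⁅x, m⁆ ∈ zpowers τ := h.comm x hx m (hCM hmC)
  have hgk : ⁅g', k⁆ ∈ zpowers τ := by
    obtain ⟨i, hi, -⟩ := (gen_step hCK hKc hg'K hg'C).2 k hA
    have c1 : Commute (ρ g') (ρ ((g' ^ i)⁻¹ * k)) := (mk_commute (hCt g' hi)).symm
    have := ((Commute.refl (ρ g')).zpow_right i).mul_right c1
    rw [← map_zpow, ← map_mul, mul_inv_cancel_left] at this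
    rw [← QuotientGroup.eq_one_iff, ← QuotientGroup.mk'_apply, map_commutatorElement]
    exact commutatorElement_eq_one_iff_commute.2 this
  -- weight on `m`
  have e1 := comm_wt (W := zpowers τ) α eg ex hgk (hCt x hβ) (hCt k hβ)
    (by rw [hg'x, ← commutatorElement_inv]; exact inv_mem (hmz g'))
    (by rw [hg'x, ← commutatorElement_inv]; exact inv_mem (hmz x))
  rw [hg'x, ← hmdef, ← QuotientGroup.mk_zpow] at e1
  set t := (m ^ (β * A))⁻¹ * α m with ht
  have htT : t ∈ zpowers τ := QuotientGroup.eq.1 e1.symm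
  have em : α m = m ^ (β * A) * t := by rw [ht, mul_inv_cancel_left]
  have e2 := comm_wt (W := (⊥ : Subgroup G)) α ex em
    (one_bot (by rw [← commutatorElement_inv, hcc x htT, inv_one]))
    (one_bot (commutatorElement_eq_one_iff_mul_comm.2 ((hmemK k).1 hA)))
    (one_bot (by rw [← commutatorElement_inv, hcc k htT, inv_one]))
    (one_bot (hcc x hxmT)) (one_bot (hcc m hxmT))
  -- weight on `τ`
  obtain ⟨l, hl⟩ := mem_zpowers_iff.1 hxmT
  have hl0 : (l : ZMod p) ≠ 0 := fun e => h.xm_ne hx hm (by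
    rw [← hl, zpow_congr h.tau_pow (s := 0) (by simpa using e), zpow_zero])
  obtain ⟨s, hs⟩ := mem_zpowers_iff.1 ((hατ τ).1 (mem_zpowers τ))
  have hsw : ∀ {y : G}, y ∈ zpowers τ → α y = y ^ s := by
    intro y hy
    obtain ⟨j, rfl⟩ := mem_zpowers_iff.1 hy
    rw [map_zpow, ← hs, ← zpow_mul, ← zpow_mul, mul_comm]
  rw [hsw hxmT, QuotientGroup.mk_zpow] at e2
  have w2 := wt_eq (p := p) (fun e => h.xm_ne hx hm (mem_bot.1 e)) (htp hxmT) e2
  intro y hy
  by_cases hyD : y ∈ commutator G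
  · exact mul_mem (inv_mem hyD) (hαD y hyD)
  have hDC : commutator G ≤ line M R := hD ▸ sup_le (h.tau_le.trans hRC) (zpowers_le.2 hmC)
  obtain ⟨hyp, hgenD⟩ := gen_step hDC (by rw [hCc, hDc]; ring) hy hyD
  obtain ⟨δ, hδ, hδ'⟩ := hgenD _ ((hαC y).1 hy)
  -- an element moved by `g'`
  have hgy : ⁅g', y⁆ ∈ zpowers τ ∧ ⁅g', y⁆ ≠ 1 := by
    refine ⟨by rw [← commutatorElement_inv]; exact inv_mem (hCt g' hy), fun e => hne ?_⟩
    obtain ⟨j, hj, -⟩ := hgenD r₀ (hRC hr₀)
    refine commutatorElement_eq_one_iff_mul_comm.2 ?_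
    have c1 : Commute g' ((y ^ j)⁻¹ * r₀) := by
      rw [hD] at hj
      obtain ⟨t', ht', w', hw', e'⟩ := mem_sup_of_normal_left.1 hj
      obtain ⟨i, rfl⟩ := mem_zpowers_iff.1 hw'
      rw [← e']
      exact Commute.mul_right (h.tau_central g' _ ht')
        ((commutatorElement_eq_one_iff_commute.1 hg'm).zpow_right i)
    have := ((commutatorElement_eq_one_iff_commute.1 e).zpow_right j).mul_right c1
    rwa [mul_inv_cancel_left] at this
  set n := (y ^ δ)⁻¹ * α y with hn'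
  have ey : α y = y ^ δ * n := by rw [hn', mul_inv_cancel_left]
  have hng : ∀ z ∈ K, ⁅z, n⁆ ∈ (⊥ : Subgroup G) := by
    intro z hz
    rw [hD] at hδ
    obtain ⟨t', ht', w', hw', e'⟩ := mem_sup_of_normal_left.1 hδ
    obtain ⟨i, rfl⟩ := mem_zpowers_iff.1 hw'
    refine one_bot (commutatorElement_eq_one_iff_mul_comm.2 ?_)
    rw [← e']
    exact (Commute.mul_right (h.tau_central z _ ht')
      ((show Commute z m from (hmemK z).1 hz).zpow_right i)).eq
  have e3 := comm_wt (W := (⊥ : Subgroup G)) α eg ey (hng g' hg'K)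
    (one_bot (commutatorElement_eq_one_iff_mul_comm.2 (h.line_comm hx hm hβ hy)))
    (hng c (hCK hβ)) (one_bot (hcc g' hgy.1)) (one_bot (hcc y hgy.1))
  rw [hsw hgy.1, QuotientGroup.mk_zpow] at e3
  have w3 := wt_eq (p := p) (fun e => hgy.2 (mem_bot.1 e)) (htp hgy.1) e3
  push_cast at w2 w3
  have hA2 : (A : ZMod p) * A = 1 := by
    have key : ∀ z : ZMod 3, z ≠ 0 → z * z = 1 := by decide
    subst hp3
    exact key _ hA0
  have hδ1 : (δ : ZMod p) = 1 := by
    refine mul_left_cancel₀ hβ0 ?_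
    rw [← w3, w2]
    linear_combination (β : ZMod p) * hA2
  rw [← QuotientGroup.eq, hδ', zpow_congr hyp (s := 1) (by simpa using hδ1), zpow_one]

omit hx hm in
/-- One element in the line commutes modulo `⟨τ⟩` with the whole group, so all do. -/
theorem Mid.comm_tau_of_line (hx : x ∈ M) (hm : ⁅g, x⁆ ∉ R) (hgm : ⁅g, ⁅g, x⁆⁆ ∈ zpowers τ)
    {c : G} (hc : c ∈ line M R) : ⁅g, c⁆ ∈ zpowers τ := by
  haveI := h.normalR
  haveI := h.tau_normal
  obtain ⟨-, hRC, -, -⟩ := h.line_spec hx hm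
  obtain ⟨j, hj, -⟩ := (gen_step hRC (h.line_step hx hm).1 (h.m_mem hx hm) hm).2 c hc
  set ρ := QuotientGroup.mk' (zpowers τ)
  have c1 : Commute (ρ g) (ρ ⁅g, x⁆) := mk_commute hgm
  have c2 : Commute (ρ g) (ρ ((⁅g, x⁆ ^ j)⁻¹ * c)) := mk_commute (h.comm_R g hj)
  have := (c1.zpow_right j).mul_right c2
  rw [← map_zpow, ← map_mul, mul_inv_cancel_left] at this
  rw [← QuotientGroup.eq_one_iff, ← QuotientGroup.mk'_apply, map_commutatorElement]
  exact commutatorElement_eq_one_iff_commute.2 this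

end Facts

end CfsgLib.PGroup.OrderFifth
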