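import Cfsg.Prelude.Def_PLocal
import Cfsg.Agent.Lib.Coprime.PGroupFrattini

/-!
# Power subgroups of regular `p`-groups
-/

set_option autoImplicit false
set_option linter.style.haveILetI false

open Subgroup
open scoped commutatorElement

namespace CfsgLib.RegularPowers

universe u

variable {G : Type u} [Group G] {p : ℕ}

/-- The defining congruence at exponent `p ^ n`. -/
def PowRule (G : Type u) [Group G] (p n : ℕ) : Prop :=
  ∀ a b : G, ∃ c ∈ Cfsg.powerClosure p n ⁅closure ({a, b} : Set G), closure ({a, b} : Set G)⁆,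
    (a * b) ^ (p ^ n) = a ^ (p ^ n) * b ^ (p ^ n) * c

theorem powerClosure_mono {n : ℕ} {H K : Subgroup G} (h : H ≤ K) :
    Cfsg.powerClosure p n H ≤ Cfsg.powerClosure p n K :=
  closure_mono (by rintro _ ⟨x, hx, rfl⟩; exact ⟨x, h hx, rfl⟩)

theorem pow_mem_powerClosure {n : ℕ} {H : Subgroup G} {x : G} (hx : x ∈ H) :
    x ^ (p ^ n) ∈ Cfsg.powerClosure p n H :=
  subset_closure ⟨x, hx, rfl⟩

theorem closure_pair_le {H : Subgroup G} {a b : G} (ha : a ∈ H) (hb : b ∈ H) :
    closure ({a, b} : Set G) ≤ H := (closure_le H).2 (by rintro z (rfl | rfl) <;> assumption)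

variable [Finite G] [Fact p.Prime]

/-- The product of two powers is a power. -/
theorem exists_pow_eq (hG : IsPGroup p G) {n : ℕ} (h : PowRule G p n) (m : ℕ) : ∀ H : Subgroup G,
    Nat.card H = m → ∀ x ∈ H, ∀ y ∈ H, ∃ z ∈ H, x ^ (p ^ n) * y ^ (p ^ n) = z ^ (p ^ n) := by
  induction m using Nat.strong_induction_on with
  | _ m ih =>
  intro H hm x hx y hy
  set K := closure ({x, y} : Set G) with hK
  have hxK : x ∈ K := subset_closure (Or.inl rfl)
  have hyK : y ∈ K := subset_closure (Or.inr rfl)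
  have hKH : K ≤ H := closure_pair_le hx hy
  obtain ⟨c, hc, hce⟩ := h x y
  by_cases hab : ⁅K, K⁆ = ⊥
  · refine ⟨x * y, mul_mem hx hy, ?_⟩
    rw [(show Commute x y from commutatorElement_eq_one_iff_mul_comm.1
      (mem_bot.1 (hab ▸ commutator_mem_commutator hxK hyK))).mul_pow]
  -- a proper subgroup
  set K₁ := zpowers (x * y) ⊔ ⁅K, K⁆ with hK₁
  have hD : ⁅K, K⁆ ≤ K := by
    rw [commutator_le]
    intro a ha b hb
    rw [commutatorElement_def]
    exact mul_mem (mul_mem (mul_mem ha hb) (inv_mem ha)) (inv_mem hb)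
  have hK₁K : K₁ ≤ K := sup_le (zpowers_le.2 (mul_mem hxK hyK)) hD
  have hne : K₁ ≠ K := by
    intro e
    set t : K := ⟨x * y, mul_mem hxK hyK⟩
    have htop : zpowers t ⊔ frattini K = ⊤ := by
      refine eq_top_iff.2 (le_trans ?_ (sup_le_sup_left (CfsgLib.Coprime.commutator_le_frattini
        (hG.to_subgroup K)) _))
      refine (map_le_map_iff_of_injective K.subtype_injective).1 ?_
      rw [← MonoidHom.range_eq_map, range_subtype, Subgroup.map_sup, MonoidHom.map_zpowers,
        _root_.commutator_def, map_commutator, ← MonoidHom.range_eq_map, range_subtype]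
      exact e.ge
    have htop' := frattini_nongenerating htop
    refine hab ((commutator_eq_bot_iff_le_centralizer).2 fun a ha => mem_centralizer_iff.2 fun b hb => ?_)
    obtain ⟨i, hi⟩ := mem_zpowers_iff.1 (htop'.ge (mem_top (⟨a, ha⟩ : K)))
    obtain ⟨j, hj⟩ := mem_zpowers_iff.1 (htop'.ge (mem_top (⟨b, hb⟩ : K)))
    have h1 := congrArg Subtype.val (((Commute.refl t).zpow_zpow j i).eq)
    rw [hi, hj] at h1
    exact h1
  have hlt : Nat.card K₁ < m := hm ▸ lt_of_lt_of_le
    (lt_of_le_of_ne (card_le_of_le hK₁K) fun e => hne (eq_of_le_of_card_ge hK₁K e.ge))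
    (card_le_of_le hKH)
  -- the correction is a single power
  have hpow : ∀ w ∈ Cfsg.powerClosure p n ⁅K, K⁆, ∃ d ∈ ⁅K, K⁆, w = d ^ (p ^ n) := by
    intro w hw
    unfold Cfsg.powerClosure at hw
    induction hw using Subgroup.closure_induction with
    | mem w hw => exact hw
    | one => exact ⟨1, one_mem _, (one_pow _).symm⟩
    | mul u v _ _ ihu ihv =>
        obtain ⟨d, hd, rfl⟩ := ihu
        obtain ⟨d', hd', rfl⟩ := ihv
        exact ih _ (lt_of_le_of_lt (card_le_of_le (le_sup_right : ⁅K, K⁆ ≤ K₁)) hlt) _ rfl d hd d' hd'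
    | inv u _ ihu =>
        obtain ⟨d, hd, rfl⟩ := ihu
        exact ⟨d⁻¹, inv_mem hd, (inv_pow _ _).symm⟩
  obtain ⟨d, hd, rfl⟩ := hpow c hc
  obtain ⟨z, hz, hze⟩ := ih _ hlt K₁ rfl (x * y) (mem_sup_left (mem_zpowers _)) d⁻¹
    (inv_mem (mem_sup_right hd))
  refine ⟨z, hKH (hK₁K hz), ?_⟩
  rw [← hze, hce, inv_pow, mul_inv_cancel_right]

/-- The power closure consists of powers. -/
theorem powerClosure_eq (hG : IsPGroup p G) {n : ℕ} (h : PowRule G p n) (H : Subgroup G) :
    {y : G | ∃ x ∈ H, y = x ^ (p ^ n)} = (Cfsg.powerClosure p n H : Set G) := by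
  refine Set.Subset.antisymm subset_closure fun w hw => ?_
  have hw' : w ∈ Cfsg.powerClosure p n H := hw
  unfold Cfsg.powerClosure at hw'
  clear hw
  induction hw' using Subgroup.closure_induction with
  | mem w hw => exact hw
  | one => exact ⟨1, one_mem _, (one_pow _).symm⟩
  | mul u v _ _ ihu ihv =>
      obtain ⟨d, hd, rfl⟩ := ihu
      obtain ⟨d', hd', rfl⟩ := ihv
      exact exists_pow_eq hG h _ H rfl d hd d' hd'
  | inv u _ ihu =>
      obtain ⟨d, hd, rfl⟩ := ihu
      exact ⟨d⁻¹, inv_mem hd, (inv_pow _ _).symm⟩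

/-- Commutators of powers are powers in the derived subgroup. -/
theorem commutator_powerClosure_le (hG : IsPGroup p G) {n : ℕ} (h : PowRule G p n) (H : Subgroup G) :
    ⁅Cfsg.powerClosure p n H, Cfsg.powerClosure p n H⁆ ≤ Cfsg.powerClosure p n ⁅H, H⁆ := by
  rw [commutator_le]
  intro u hu v hv
  rw [← SetLike.mem_coe, ← powerClosure_eq hG h H] at hu hv
  obtain ⟨x, hx, rfl⟩ := hu
  obtain ⟨y, hy, rfl⟩ := hv
  set q := p ^ n
  set w := y ^ q * x⁻¹ * (y ^ q)⁻¹ with hw
  have hwH : w ∈ H := mul_mem (mul_mem (pow_mem hy _) (inv_mem hx)) (inv_mem (pow_mem hy _))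
  obtain ⟨c, hc, hce⟩ := h x w
  have e : ⁅x ^ q, y ^ q⁆ = (x * w) ^ q * c⁻¹ := by
    rw [hce, mul_inv_cancel_right, hw, conj_pow, inv_pow, commutatorElement_def]
    simp only [q, mul_assoc]
  rw [e]
  refine mul_mem (pow_mem_powerClosure ?_) (inv_mem (powerClosure_mono
    (commutator_mono (closure_pair_le hx hwH) (closure_pair_le hx hwH)) hc))
  rw [hw, show x * (y ^ q * x⁻¹ * (y ^ q)⁻¹) = ⁅x, y ^ q⁆ by rw [commutatorElement_def]; group]
  exact commutator_mem_commutator hx (pow_mem hy _)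

/-- The congruence at exponent `p` with a single correcting power gives all of them. -/
theorem powRule_of_one (hG : IsPGroup p G)
    (h : ∀ a b : G, ∃ c ∈ ⁅closure ({a, b} : Set G), closure ({a, b} : Set G)⁆,
      (a * b) ^ p = a ^ p * b ^ p * c ^ p) : ∀ n, PowRule G p n := by
  have h1 : PowRule G p 1 := fun a b => by
    obtain ⟨c, hc, hce⟩ := h a b
    exact ⟨c ^ (p ^ 1), pow_mem_powerClosure hc, by simpa using hce⟩
  intro n
  induction n with
  | zero => exact fun a b => ⟨1, one_mem _, by simp⟩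
  | succ n ih =>
      intro a b
      set H := closure ({a, b} : Set G) with hH
      have haH : a ∈ H := subset_closure (Or.inl rfl)
      have hbH : b ∈ H := subset_closure (Or.inr rfl)
      obtain ⟨c, hc, hce⟩ := h a b
      have hcH : c ∈ H := by
        refine (commutator_le.2 fun u hu v hv => ?_ : ⁅H, H⁆ ≤ H) hc
        rw [commutatorElement_def]
        exact mul_mem (mul_mem (mul_mem hu hv) (inv_mem hu)) (inv_mem hv)
      set K := Cfsg.powerClosure p 1 H with hK
      have haK : a ^ p ∈ K := by simpa [hK] using pow_mem_powerClosure (p := p) (n := 1) haH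
      have hbK : b ^ p ∈ K := by simpa [hK] using pow_mem_powerClosure (p := p) (n := 1) hbH
      have hcK : c ^ p ∈ K := by simpa [hK] using pow_mem_powerClosure (p := p) (n := 1) hcH
      have hKK : Cfsg.powerClosure p n ⁅K, K⁆ ≤ Cfsg.powerClosure p (n + 1) ⁅H, H⁆ := by
        refine (powerClosure_mono (commutator_powerClosure_le hG h1 H)).trans ((closure_le _).2 ?_)
        rintro _ ⟨u, hu, rfl⟩
        rw [← SetLike.mem_coe, ← powerClosure_eq hG h1 ⁅H, H⁆] at hu
        obtain ⟨d, hd, rfl⟩ := hu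
        rw [pow_one, ← pow_mul, ← pow_succ']
        exact pow_mem_powerClosure hd
      obtain ⟨e₁, he₁, hee₁⟩ := ih (a ^ p) (b ^ p)
      obtain ⟨e₂, he₂, hee₂⟩ := ih (a ^ p * b ^ p) (c ^ p)
      have he₁' := hKK (powerClosure_mono (commutator_mono (closure_pair_le haK hbK)
        (closure_pair_le haK hbK)) he₁)
      have he₂' := hKK (powerClosure_mono (commutator_mono (closure_pair_le (mul_mem haK hbK) hcK)
        (closure_pair_le (mul_mem haK hbK) hcK)) he₂)
      refine ⟨e₁ * (c ^ (p ^ (n + 1)) * e₂), mul_mem he₁' (mul_mem (pow_mem_powerClosure hc) he₂'), ?_⟩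
      rw [pow_succ', pow_mul, hce, hee₂, hee₁, ← pow_mul, ← pow_mul, ← pow_mul]
      group

end CfsgLib.RegularPowers
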