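import Mathlib
import Cfsg.Agent.Lib.PGroup.RegularPowers

/-!
# Odd `p`-groups with cyclic derived subgroup are regular
-/

set_option autoImplicit false
open Subgroup
open scoped commutatorElement

namespace CfsgLib.RegularPowers

universe u
variable {G : Type u} [Group G] [Finite G] {p : ℕ} [hp : Fact p.Prime]

omit [Finite G] hp in
theorem normal_zpowers_of_mem_cyclic {N : Subgroup G} [hN : N.Normal] [IsCyclic N] {d : G}
    (hd : d ∈ N) : (zpowers d).Normal := by
  refine ⟨fun x hx g => ?_⟩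
  obtain ⟨m, hm⟩ := MonoidHom.map_cyclic (MulAut.conjNormal g : MulAut N).toMonoidHom
  obtain ⟨i, rfl⟩ := hx
  have h : g * d ^ i * g⁻¹ = (d ^ i) ^ m := congrArg Subtype.val (hm ⟨d ^ i, zpow_mem hd i⟩)
  exact ⟨i * m, by rw [h, ← zpow_mul]⟩

/-- Conjugation on a cyclic normal subgroup is by exponents congruent to one. -/
theorem exists_conj_exponent (hG : IsPGroup p G) {d : G} (hd : (zpowers d).Normal) (g : G) :
    ∃ s : ℤ, (s : ZMod p) = 1 ∧ g * d * g⁻¹ = d ^ s := by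
  obtain ⟨k, hk⟩ := IsPGroup.iff_orderOf.1 hG d
  rcases Nat.eq_zero_or_pos k with rfl | hk0
  · rw [pow_zero, orderOf_eq_one_iff] at hk
    exact ⟨1, by simp, by simp [hk]⟩
  obtain ⟨s, hs⟩ := hd.conj_mem d (mem_zpowers d) g
  refine ⟨s, ?_, hs.symm⟩
  obtain ⟨e, he⟩ := hG g
  have hit : ∀ i : ℕ, g ^ i * d * (g ^ i)⁻¹ = d ^ s ^ i := by
    intro i
    induction i with
    | zero => simp
    | succ i ih =>
      calc g ^ (i + 1) * d * (g ^ (i + 1))⁻¹ = g * (g ^ i * d * (g ^ i)⁻¹) * g⁻¹ := by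
            rw [pow_succ']; group
        _ = (g * d * g⁻¹) ^ s ^ i := by rw [ih, conj_zpow]
        _ = d ^ s ^ (i + 1) := by
            rw [show g * d * g⁻¹ = d ^ s from hs.symm, ← zpow_mul, pow_succ' s i]
  have h1 := hit (p ^ e)
  rw [he, one_mul, inv_one, mul_one] at h1
  have h2 : (orderOf d : ℤ) ∣ s ^ (p ^ e) - 1 := by
    rw [orderOf_dvd_iff_zpow_eq_one, zpow_sub, zpow_one, ← h1, mul_inv_cancel]
  rw [hk, Nat.cast_pow] at h2
  have h3 := (ZMod.intCast_zmod_eq_zero_iff_dvd _ p).2 ((dvd_pow_self (p : ℤ) hk0.ne').trans h2)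
  rw [Int.cast_sub, Int.cast_one, Int.cast_pow, sub_eq_zero, ZMod.pow_card_pow] at h3
  exact h3

/-- An odd `p`-group with cyclic derived subgroup is regular. -/
theorem isRegular_of_isCyclic_commutator (hp2 : p ≠ 2) (hG : IsPGroup p G)
    (hc : IsCyclic (_root_.commutator G)) : Cfsg.IsRegularPGroup p G := by
  refine ⟨hG, fun a b n => powRule_of_one hG (fun a b => ?_) n a b⟩
  haveI := hc
  set d := ⁅b⁻¹, a⁻¹⁆ with hd
  have hdH : d ∈ ⁅closure ({a, b} : Set G), closure ({a, b} : Set G)⁆ :=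
    commutator_mem_commutator (inv_mem (subset_closure (Or.inr rfl))) (inv_mem (subset_closure (Or.inl rfl)))
  have hdn : (zpowers d).Normal := normal_zpowers_of_mem_cyclic (N := _root_.commutator G)
    (commutator_mem_commutator (mem_top _) (mem_top _))
  have hba : b * a = a * b * d := by rw [hd, commutatorElement_def]; group
  have hc' : ∀ (g : G) (e : ℤ), ∃ e' : ℤ, (e' : ZMod p) = e ∧ g⁻¹ * d ^ e * g = d ^ e' := by
    intro g e
    obtain ⟨s, hs, hse⟩ := exists_conj_exponent hG hdn g⁻¹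
    rw [inv_inv] at hse
    refine ⟨s * e, by rw [Int.cast_mul, hs, one_mul], ?_⟩
    rw [zpow_mul, ← hse]
    have := conj_zpow (i := e) (a := g⁻¹) (b := d)
    rw [inv_inv] at this
    exact this.symm
  have hP : ∀ k : ℕ, ∃ f : ℤ, (f : ZMod p) = k ∧ b ^ k * a = a * b ^ k * d ^ f := by
    intro k
    induction k with
    | zero => exact ⟨0, by simp, by simp⟩
    | succ k ih =>
      obtain ⟨f, hf, hfe⟩ := ih
      obtain ⟨u, hu, hue⟩ := hc' (b ^ k) 1
      refine ⟨u + f, by rw [Int.cast_add, hu, hf, Int.cast_one, Nat.cast_add, Nat.cast_one, add_comm], ?_⟩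
      calc b ^ (k + 1) * a = b * (b ^ k * a) := by rw [pow_succ']; group
        _ = (b * a) * b ^ k * d ^ f := by rw [hfe]; group
        _ = a * b * b ^ k * ((b ^ k)⁻¹ * d ^ (1 : ℤ) * b ^ k) * d ^ f := by rw [hba, zpow_one]; group
        _ = a * b ^ (k + 1) * d ^ (u + f) := by rw [hue, zpow_add, pow_succ']; group
  have hQ : ∀ k : ℕ, ∃ e : ℤ, (2 * e : ZMod p) = (k : ZMod p) * ((k : ZMod p) - 1) ∧
      (a * b) ^ k = a ^ k * b ^ k * d ^ e := by
    intro k
    induction k with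
    | zero => exact ⟨0, by simp, by simp⟩
    | succ k ih =>
      obtain ⟨e, he, hee⟩ := ih
      obtain ⟨f, hf, hfe⟩ := hP k
      obtain ⟨e₁, he₁, he₁e⟩ := hc' a e
      obtain ⟨e₂, he₂, he₂e⟩ := hc' b (f + e₁)
      refine ⟨e₂, ?_, ?_⟩
      · rw [he₂, Int.cast_add, hf, he₁, mul_add, he, Nat.cast_add, Nat.cast_one]; ring
      · calc (a * b) ^ (k + 1) = a ^ k * (b ^ k * a) * (a⁻¹ * d ^ e * a) * b := by
              rw [pow_succ, hee]; group
          _ = a ^ k * a * b ^ k * b * (b⁻¹ * (d ^ f * d ^ e₁) * b) := by rw [hfe, he₁e]; group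
          _ = a ^ (k + 1) * b ^ (k + 1) * d ^ e₂ := by
              rw [← zpow_add, he₂e, pow_succ, pow_succ]; group
  obtain ⟨e, he, hee⟩ := hQ p
  have hpe : (p : ℤ) ∣ e := by
    rw [← ZMod.intCast_zmod_eq_zero_iff_dvd]
    rw [ZMod.natCast_self, zero_mul] at he
    refine (mul_eq_zero.1 he).resolve_left fun h2 => hp2 ?_
    have h2' : ((2 : ℕ) : ZMod p) = 0 := by exact_mod_cast h2
    rw [ZMod.natCast_eq_zero_iff] at h2'
    exact (Nat.prime_dvd_prime_iff_eq hp.out Nat.prime_two).1 h2'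
  obtain ⟨e', rfl⟩ := hpe
  exact ⟨d ^ e', zpow_mem hdH e', by rw [hee, mul_comm (p : ℤ), zpow_mul, zpow_natCast]⟩

end CfsgLib.RegularPowers
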