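import Cfsg.Agent.Lib.PGroup.MetacyclicRecog
import Cfsg.Agent.Lib.PGroup.NormalRankTwo
import Cfsg.Agent.Lib.PGroup.MetacyclicOmega
import Cfsg.Agent.Lib.Coprime.PGroupFrattini
import Cfsg.Agent.Lib.PGroup.CyclicDerivedRegular

/-!
# Metacyclic `3`-groups and groups whose maximal subgroups are metacyclic
-/

set_option autoImplicit false
set_option linter.style.haveILetI false
set_option linter.unusedSectionVars false

open Subgroup
open scoped commutatorElement

namespace CfsgLib.RankTwoThree

universe u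

variable {p : ℕ} [hpf : Fact p.Prime]

/-- If a quotient by a central subgroup `Z` of order `p` inside the derived group is metacyclic, then
the group is metacyclic or its derived group is `Z`. -/
theorem metacyclic_or_commutator_le {R : Type u} [Group R] [Finite R] (hR : IsPGroup p R) {z₀ : R}
    (hzo : orderOf z₀ = p) (hzc : z₀ ∈ center R) (hzd : z₀ ∈ commutator R) [(zpowers z₀).Normal]
    (hm : Cfsg.IsMetacyclic (R ⧸ zpowers z₀)) :
    Cfsg.IsMetacyclic R ∨ commutator R ≤ zpowers z₀ := by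
  classical
  have hpr := (Fact.out : p.Prime)
  set Z := zpowers z₀ with hZ
  have hZc : Z ≤ center R := zpowers_le.2 hzc
  have hZR : Z ≤ commutator R := zpowers_le.2 hzd
  have hZcard : Nat.card Z = p := by rw [hZ, Nat.card_zpowers, hzo]
  set π := QuotientGroup.mk' Z with hπdef
  have hπ : Function.Surjective π := QuotientGroup.mk'_surjective Z
  obtain ⟨N', hN'n, hN'c, hN'q⟩ := hm
  haveI := hN'n
  obtain ⟨⟨a', ha'N⟩, ha'⟩ := hN'c.exists_generator
  obtain ⟨a, rfl⟩ := hπ a'
  obtain ⟨b', hb'⟩ := hN'q.exists_generator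
  obtain ⟨b'', rfl⟩ := QuotientGroup.mk_surjective b'
  obtain ⟨b, rfl⟩ := hπ b''
  set N := N'.comap π with hN
  have hNel : ∀ w ∈ N, ∃ i : ℤ, ∃ t ∈ Z, w = a ^ i * t := by
    intro w hw
    obtain ⟨i, hi⟩ := ha' ⟨π w, hw⟩
    have hi' : π a ^ i = π w := congrArg Subtype.val hi
    rw [← map_zpow] at hi'
    exact ⟨i, (a ^ i)⁻¹ * w, QuotientGroup.eq.1 hi', by group⟩
  have haN : a ∈ N := ha'N
  have hgenR : ∀ g : R, ∃ j : ℤ, ∃ w ∈ N, g = b ^ j * w := by
    intro g
    obtain ⟨j, hj⟩ := hb' (π g : (R ⧸ Z) ⧸ N')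
    have hj' : ((π b ^ j : R ⧸ Z) : (R ⧸ Z) ⧸ N') = π g := (QuotientGroup.mk_zpow _ _ _).trans hj
    refine ⟨j, (b ^ j)⁻¹ * g, ?_, by group⟩
    have h1 := QuotientGroup.eq.1 hj'
    rwa [← map_zpow, ← map_inv, ← map_mul] at h1
  by_cases hza : z₀ ∈ zpowers a
  · -- `N` is cyclic
    have hNeq : zpowers a = N := le_antisymm (zpowers_le.2 haN) fun w hw => by
      obtain ⟨i, t, ht, rfl⟩ := hNel w hw
      exact mul_mem (zpow_mem (mem_zpowers a) i) ((zpowers_le.2 hza) ht)
    haveI hnN : (zpowers a).Normal := hNeq ▸ (inferInstance : (N'.comap π).Normal)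
    refine Or.inl ⟨zpowers a, hnN, inferInstance, ⟨(b : R ⧸ zpowers a), fun q => ?_⟩⟩
    obtain ⟨g, rfl⟩ := QuotientGroup.mk_surjective q
    obtain ⟨j, w, hw, rfl⟩ := hgenR g
    refine ⟨j, ?_⟩
    show (b : R ⧸ zpowers a) ^ j = _
    rw [QuotientGroup.mk_mul, (QuotientGroup.eq_one_iff w).2 (hNeq ▸ hw), mul_one, QuotientGroup.mk_zpow]
  -- the derived group has order `p`
  have hZa : ∀ t ∈ Z, t ∈ zpowers a → t = 1 := by
    intro t ht hta
    by_contra ht1
    obtain ⟨i, hi⟩ := mem_zpowers_iff.1 (mem_zpowers_of_prime_card hZcard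
      (fun e => ht1 (congrArg Subtype.val e) : (⟨t, ht⟩ : Z) ≠ 1) (g' := ⟨z₀, mem_zpowers z₀⟩))
    have hi' : t ^ i = z₀ := congrArg Subtype.val hi
    exact hza (hi' ▸ zpow_mem hta i)
  have hNc : ∀ w ∈ N, Commute a w := fun w hw => by
    obtain ⟨i, t, ht, rfl⟩ := hNel w hw
    exact (Commute.self_zpow a i).mul_right (mem_center_iff.1 (hZc ht) a)
  set c := ⁅b, a⁆ with hc
  have hcN : c ∈ N := by
    rw [hc, commutatorElement_def]
    exact mul_mem ((inferInstance : (N'.comap π).Normal).conj_mem a haN b) (inv_mem haN)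
  obtain ⟨k', t', ht', hce⟩ := hNel c hcN
  have hbn : b ∈ normalizer ((zpowers c : Subgroup R) : Set R) := mem_normalizer_fintype fun w hw => by
    obtain ⟨i, rfl⟩ := mem_zpowers_iff.1 hw
    show b * c ^ i * b⁻¹ ∈ zpowers c
    rw [← conj_zpow]
    refine zpow_mem ?_ i
    have e1 : b * a * b⁻¹ = c * a := by rw [hc, commutatorElement_def]; group
    have e2 : b * c * b⁻¹ = c ^ k' * c := by
      calc b * c * b⁻¹ = (b * a ^ k' * b⁻¹) * (b * t' * b⁻¹) := by rw [hce]; group
        _ = (c * a) ^ k' * t' := by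
          rw [← conj_zpow, e1, mem_center_iff.1 (hZc ht') b, mul_inv_cancel_right]
        _ = c ^ k' * (a ^ k' * t') := by rw [(hNc c hcN).symm.mul_zpow, mul_assoc]
        _ = c ^ k' * c := by rw [← hce]
    rw [e2]
    exact mul_mem (zpow_mem (mem_zpowers c) k') (mem_zpowers c)
  have hCn : ∀ g : R, g ∈ normalizer ((zpowers c : Subgroup R) : Set R) := fun g => by
    obtain ⟨j, w, hw, rfl⟩ := hgenR g
    refine mul_mem (zpow_mem hbn j) (centralizer_le_normalizer _ (mem_centralizer_iff.2 fun v hv => ?_))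
    obtain ⟨i, rfl⟩ := mem_zpowers_iff.1 hv
    obtain ⟨l, t, ht, rfl⟩ := hNel w hw
    exact ((((hNc c hcN).symm).zpow_left i).zpow_right l).mul_right (mem_center_iff.1 (hZc ht) (c ^ i)) |>.eq
  haveI hCn' : (zpowers c).Normal := normalizer_eq_top_iff.1 (eq_top_iff.2 fun g _ => hCn g)
  have hcab : commutator R ≤ zpowers c := by
    set ρ := QuotientGroup.mk' (zpowers c)
    have hab' : Commute (ρ b) (ρ a) := by
      refine (commutatorElement_eq_one_iff_mul_comm.1 ?_ : ρ b * ρ a = ρ a * ρ b)
      rw [← map_commutatorElement]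
      exact (QuotientGroup.eq_one_iff _).2 (mem_zpowers c)
    have hcom : ∀ g : R, Commute (ρ g) (ρ a) ∧ Commute (ρ g) (ρ b) := fun g => by
      obtain ⟨j, w, hw, rfl⟩ := hgenR g
      obtain ⟨l, t, ht, rfl⟩ := hNel w hw
      have htc : ∀ h : R, Commute (ρ t) (ρ h) := fun h => Commute.map (mem_center_iff.1 (hZc ht) h).symm ρ
      constructor
      · rw [map_mul, map_mul, map_zpow, map_zpow]
        exact (hab'.zpow_left j).mul_left (((Commute.refl (ρ a)).zpow_left l).mul_left (htc a))
      · rw [map_mul, map_mul, map_zpow, map_zpow]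
        exact ((Commute.refl (ρ b)).zpow_left j).mul_left ((hab'.symm.zpow_left l).mul_left (htc b))
    rw [_root_.commutator_def, commutator_le]
    intro g _ h _
    rw [← QuotientGroup.eq_one_iff]
    show ρ ⁅g, h⁆ = 1
    rw [map_commutatorElement, commutatorElement_eq_one_iff_mul_comm]
    obtain ⟨j, w, hw, rfl⟩ := hgenR h
    obtain ⟨l, t, ht, rfl⟩ := hNel w hw
    have htc : Commute (ρ g) (ρ t) := Commute.map (mem_center_iff.1 (hZc ht) g) ρ
    rw [map_mul, map_mul, map_zpow, map_zpow]
    exact (((hcom g).2.zpow_right j).mul_right (((hcom g).1.zpow_right l).mul_right htc)).eq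
  obtain ⟨m, hm⟩ := mem_zpowers_iff.1 (hcab (hZR (mem_zpowers z₀)))
  have hak : a ^ k' = 1 := by
    rw [hce, (show Commute (a ^ k') t' from mem_center_iff.1 (hZc ht') (a ^ k')).mul_zpow, ← zpow_mul] at hm
    have h1 : a ^ (k' * m) = 1 := hZa _ (by
      rw [eq_mul_inv_of_mul_eq hm]; exact mul_mem (mem_zpowers z₀) (inv_mem (zpow_mem ht' m)))
      (zpow_mem (mem_zpowers a) _)
    have hpm : ¬ (p : ℤ) ∣ m := fun hd => by
      rw [h1, one_mul] at hm
      have ht'p : orderOf t' ∣ p := hZcard ▸ orderOf_dvd_natCard Z ht'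
      rw [orderOf_dvd_iff_zpow_eq_one.1 ((Int.natCast_dvd_natCast.2 ht'p).trans hd)] at hm
      rw [← hm, orderOf_one] at hzo
      exact hpr.ne_one hzo.symm
    obtain ⟨e, he⟩ := IsPGroup.iff_orderOf.1 hR a
    rw [← orderOf_dvd_iff_zpow_eq_one, he, mul_comm] at h1
    rw [← orderOf_dvd_iff_zpow_eq_one, he]
    push_cast at h1 ⊢
    exact IsCoprime.dvd_of_dvd_mul_left (((Int.prime_iff_natAbs_prime.2 (by simpa using hpr)).coprime_iff_not_dvd.2 hpm).pow_left) h1
  exact Or.inr (hcab.trans (zpowers_le.2 (by rw [hce, hak, one_mul]; exact ht')))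

/-- At most `p²` solutions of `x ^ p = 1`. -/
def FewRoots (p : ℕ) (R : Type u) [Group R] : Prop := Nat.card {x : R // x ^ p = 1} ≤ p ^ 2

theorem FewRoots.subgroup {R : Type u} [Group R] [Finite R] (h : FewRoots p R) (H : Subgroup R) :
    FewRoots p H :=
  le_trans (Nat.card_le_card_of_injective
    (fun x : {x : H // x ^ p = 1} => (⟨(x.1 : R), by rw [← coe_pow, x.2]; rfl⟩ : {x : R // x ^ p = 1}))
    fun x y e => Subtype.ext (Subtype.ext (congrArg Subtype.val e :))) h

theorem normal_of_index {R : Type u} [Group R] [Finite R] (hR : IsPGroup p R) {H : Subgroup R}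
    (hH : H.index = p) : H.Normal := by
  refine normal_of_index_eq_minFac_card ?_
  rw [hH]
  obtain ⟨k, hk⟩ := hR.exists_card_eq
  rcases Nat.eq_zero_or_pos k with rfl | hk0
  · exfalso
    have := H.index_dvd_card
    rw [hH, hk, pow_zero, Nat.dvd_one] at this
    exact hpf.out.ne_one this
  · rw [hk, Nat.Prime.pow_minFac hpf.out (by omega)]

theorem metacyclic_of_index_le {R : Type u} [Group R] [Finite R] (hR : IsPGroup p R) {x : R}
    (hx : (zpowers x).index ≤ p) : Cfsg.IsMetacyclic R := by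
  obtain ⟨k, hk⟩ := hR.index (zpowers x)
  have hk1 : k ≤ 1 := (Nat.pow_le_pow_iff_right hpf.out.one_lt).1 (by rw [pow_one, ← hk]; exact hx)
  rcases Nat.le_one_iff_eq_zero_or_eq_one.1 hk1 with rfl | rfl
  · rw [pow_zero, index_eq_one] at hk
    haveI : (zpowers x).Normal := by rw [hk]; infer_instance
    haveI : Subsingleton (R ⧸ zpowers x) := (Nat.card_eq_one_iff_unique.1 (by
      rw [← index_eq_card, hk, index_top])).1
    exact ⟨zpowers x, inferInstance, inferInstance, isCyclic_of_subsingleton⟩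
  · rw [pow_one] at hk
    haveI := normal_of_index hR hk
    exact ⟨zpowers x, inferInstance, inferInstance, isCyclic_of_prime_card (p := p) (by rw [← index_eq_card, hk])⟩

/-- Groups of order at most `p^3` with few roots are metacyclic. -/
theorem metacyclic_of_card_le {R : Type u} [Group R] [Finite R] (hR : IsPGroup p R)
    (hf : FewRoots p R) (hc : Nat.card R ≤ p ^ 3) : Cfsg.IsMetacyclic R := by
  have hpr := hpf.out
  obtain ⟨x, hx⟩ : ∃ x : R, (zpowers x).index ≤ p := by
    by_cases hall : ∀ x : R, x ^ p = 1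
    · have h2 : Nat.card R ≤ p ^ 2 := by
        rw [← Nat.card_congr (Equiv.subtypeUnivEquiv hall)]
        exact hf
      by_cases h1 : ∀ x : R, x = 1
      · haveI : Subsingleton R := ⟨fun a b => by rw [h1 a, h1 b]⟩
        exact ⟨1, le_trans (Nat.le_of_dvd Nat.one_pos (by
          rw [show (1 : ℕ) = Nat.card R from (Nat.card_unique (α := R)).symm]
          exact index_dvd_card _)) hpr.one_lt.le⟩
      · push Not at h1
        obtain ⟨x, hx⟩ := h1
        refine ⟨x, Nat.le_of_mul_le_mul_left ?_ hpr.pos⟩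
        have h3 := (zpowers x).card_mul_index
        rw [Nat.card_zpowers, orderOf_eq_prime (hall x) hx] at h3
        rw [h3, ← pow_two]; exact h2
    · push Not at hall
      obtain ⟨x, hx⟩ := hall
      obtain ⟨k, hk⟩ := IsPGroup.iff_orderOf.1 hR x
      have hk2 : 2 ≤ k := by
        by_contra h
        exact hx (orderOf_dvd_iff_pow_eq_one.1 (hk ▸ (pow_dvd_pow p (by omega : k ≤ 1)).trans (pow_one p).dvd))
      refine ⟨x, Nat.le_of_mul_le_mul_left ?_ (pow_pos hpr.pos 2)⟩
      have h3 := (zpowers x).card_mul_index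
      rw [Nat.card_zpowers, hk] at h3
      calc p ^ 2 * (zpowers x).index ≤ p ^ k * (zpowers x).index :=
            Nat.mul_le_mul_right _ (Nat.pow_le_pow_right hpr.pos hk2)
        _ = Nat.card R := h3
        _ ≤ p ^ 2 * p := by rw [← pow_succ]; exact hc
  exact metacyclic_of_index_le hR hx

/-- The `p`th power map when the derived group is central of exponent `p`. -/
theorem mul_pow_of_small {R : Type u} [Group R] (hp : p ≠ 2) (hcl : commutator R ≤ center R)
    (he : ∀ c ∈ commutator R, c ^ p = 1) (x y : R) : (x * y) ^ p = x ^ p * y ^ p := by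
  have hc : ⁅y⁻¹, x⁻¹⁆ ∈ commutator R := commutator_mem_commutator (mem_top _) (mem_top _)
  have D : CfsgLib.PGroup.ClassThreeData x y ⁅y⁻¹, x⁻¹⁆ 1 1 :=
    { yx := by rw [commutatorElement_def]; group
      cx := by rw [mul_one]; exact (mem_center_iff.1 (hcl hc) x).symm
      cy := by rw [mul_one]; exact (mem_center_iff.1 (hcl hc) y).symm
      hu := fun _ => Commute.one_left _
      hv := fun _ => Commute.one_left _ }
  exact D.mul_pow_prime hpf.out hp (he _ hc) (Or.inr ⟨rfl, rfl⟩)

/-- A small derived group and few roots give a metacyclic group. -/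
theorem metacyclic_of_small_derived {R : Type u} [Group R] [Finite R] (hR : IsPGroup p R) (hp : p ≠ 2)
    (hd : Nat.card (commutator R) ≤ p) (hf : FewRoots p R) : Cfsg.IsMetacyclic R := by
  classical
  have hpr := hpf.out
  haveI := hR.isNilpotent
  by_cases hcyc : IsCyclic R
  · obtain ⟨x, hx⟩ := hcyc.exists_generator
    exact metacyclic_of_index_le hR (x := x) (by
      rw [(eq_top_iff.2 fun g _ => hx g : zpowers x = ⊤), index_top]; exact hpr.one_lt.le)
  have hcl : commutator R ≤ center R := CfsgLib.MetacyclicOmega.le_center_of_card_le hR _ hd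
  have he : ∀ c ∈ commutator R, c ^ p = 1 := fun c hc => by
    obtain ⟨k, hk⟩ := (hR.to_subgroup (commutator R)).exists_card_eq
    have hk1 : k ≤ 1 := (Nat.pow_le_pow_iff_right hpr.one_lt).1 (by rw [pow_one, ← hk]; exact hd)
    refine orderOf_dvd_iff_pow_eq_one.1 ((Subgroup.orderOf_dvd_natCard _ hc).trans ?_)
    rw [hk]
    exact (pow_dvd_pow p hk1).trans (pow_one p).dvd
  let f : R →* R := MonoidHom.mk' (fun g => g ^ p) (mul_pow_of_small hp hcl he)
  have hidx : f.range.index ≤ p ^ 2 := by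
    refine Nat.le_of_mul_le_mul_left ?_ (Nat.card_pos (α := f.range))
    rw [card_mul_index, ← f.ker.card_mul_index, index_ker, mul_comm]
    exact Nat.mul_le_mul_left _ hf
  have hPF : f.range ≤ frattini R := by
    rintro _ ⟨g, rfl⟩
    exact CfsgLib.Coprime.pow_mem_frattini hR g
  have hfr2 : p ^ 2 ≤ (frattini R).index := by
    obtain ⟨e, he'⟩ := hR.index (frattini R)
    rw [he']
    refine Nat.pow_le_pow_right hpr.pos (Nat.le_of_not_lt fun h => hcyc ?_)
    exact CfsgLib.RankTwoOmega.isCyclic_of_index_frattini hR (he' ▸ (Nat.pow_le_pow_right hpr.pos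
      (Nat.le_of_lt_succ h)).trans_eq (pow_one p))
  have hPeq : f.range = frattini R := by
    refine eq_of_le_of_card_ge hPF ?_
    refine Nat.le_of_mul_le_mul_right ?_ (Nat.pos_of_ne_zero (index_ne_zero_of_finite (H := frattini R)))
    rw [card_mul_index, ← f.range.card_mul_index]
    exact Nat.mul_le_mul_left _ (hidx.trans hfr2)
  have hidx2 : (frattini R).index = p ^ 2 := le_antisymm (hPeq ▸ hidx) hfr2
  -- a generator spanning a normal subgroup
  obtain ⟨x, hxF, hxn⟩ : ∃ x : R, x ∉ frattini R ∧ ∀ g w : R, w ∈ zpowers x → g * w * g⁻¹ ∈ zpowers x := by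
    by_cases hab : commutator R = ⊥
    · obtain ⟨x, hx⟩ := SetLike.exists_not_mem_of_ne_top (frattini R) (fun e => by
        rw [e, index_top] at hfr2
        exact absurd hfr2 (not_le.2 (Nat.one_lt_pow two_ne_zero hpr.one_lt)))
      refine ⟨x, hx, fun g w hw => ?_⟩
      have h1 : ⁅g, w⁆ = 1 := mem_bot.1 (hab ▸ commutator_mem_commutator (mem_top g) (mem_top w))
      rw [commutatorElement_eq_one_iff_mul_comm.1 h1, mul_inv_cancel_right]
      exact hw
    obtain ⟨z₀, hz0d, hz0⟩ := (commutator R).bot_or_exists_ne_one.resolve_left hab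
    have hzo : orderOf z₀ = p := orderOf_eq_prime (he z₀ hz0d) hz0
    have hgen : commutator R ≤ zpowers z₀ := fun w hw => by
      have h1 : zpowers z₀ = commutator R := eq_of_le_of_card_ge (zpowers_le.2 hz0d)
        (by rw [Nat.card_zpowers, hzo]; exact hd)
      rw [h1]; exact hw
    obtain ⟨g₀, hg₀⟩ : z₀ ∈ f.range := hPeq ▸ CfsgLib.Coprime.commutator_le_frattini hR hz0d
    obtain ⟨x, ⟨e, hxe⟩, hxmax⟩ := Set.exists_max_image {x : R | ∃ e : ℕ, x ^ p ^ e = z₀} orderOf
      (Set.toFinite _) ⟨g₀, 1, by rw [pow_one]; exact hg₀⟩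
    refine ⟨x, fun hxF => ?_, fun g w hw => ?_⟩
    · obtain ⟨y, rfl⟩ := hPeq.ge hxF
      have hle := hxmax y ⟨e + 1, by rw [pow_succ', pow_mul]; exact hxe⟩
      have hy1 : y ≠ 1 := by
        rintro rfl
        rw [map_one, one_pow] at hxe
        exact hz0 hxe.symm
      have h2 : orderOf (f y) < orderOf y := by
        show orderOf (y ^ p) < _
        rw [orderOf_pow' _ hpr.ne_zero, Nat.gcd_eq_right (hR.dvd_orderOf hy1)]
        exact Nat.div_lt_self (orderOf_pos y) hpr.one_lt
      omega
    · rw [show g * w * g⁻¹ = ⁅g, w⁆ * w by rw [commutatorElement_def]; group]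
      refine mul_mem ?_ hw
      exact (zpowers_le.2 (hxe ▸ pow_mem (mem_zpowers x) _)) (hgen (commutator_mem_commutator (mem_top g) (mem_top w)))
  haveI : (zpowers x).Normal := ⟨fun w hw g => hxn g w hw⟩
  set M := frattini R ⊔ zpowers x with hM
  have hMc : Nat.card M = p * Nat.card (frattini R) :=
    CfsgLib.Coprime.card_sup_zpowers_of_frattini_le hR le_rfl hxF
  have hMi : M.index = p := by
    have h1 := M.card_mul_index
    rw [hMc, ← (frattini R).card_mul_index, hidx2] at h1
    have h2 : Nat.card (frattini R) * (p * M.index) = Nat.card (frattini R) * (p * p) := by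
      rw [← pow_two, ← h1]; ring
    exact Nat.eq_of_mul_eq_mul_left hpr.pos (Nat.eq_of_mul_eq_mul_left Nat.card_pos h2)
  obtain ⟨y, hy⟩ := SetLike.exists_not_mem_of_ne_top M (fun e => by
    rw [e, index_top] at hMi; exact hpr.ne_one hMi.symm)
  have htop : (zpowers x ⊔ zpowers y) ⊔ frattini R = ⊤ := by
    have h3 := CfsgLib.Coprime.card_sup_zpowers_of_frattini_le hR (le_sup_left : frattini R ≤ M) hy
    have h4 : M ⊔ zpowers y = ⊤ := by
      rw [← Subgroup.card_eq_iff_eq_top, h3, ← hMi, mul_comm, card_mul_index]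
    rw [← h4, hM]
    ac_rfl
  have hgen := frattini_nongenerating htop
  refine ⟨zpowers x, inferInstance, inferInstance, ⟨(y : R ⧸ zpowers x), fun q => ?_⟩⟩
  obtain ⟨g, rfl⟩ := QuotientGroup.mk_surjective q
  have hg : g ∈ zpowers x ⊔ zpowers y := hgen.ge (mem_top g)
  obtain ⟨w, hw, v, hv, rfl⟩ := mem_sup_of_normal_left.1 hg
  obtain ⟨i, rfl⟩ := mem_zpowers_iff.1 hv
  exact ⟨i, by
    show (y : R ⧸ zpowers x) ^ i = _
    rw [QuotientGroup.mk_mul, (QuotientGroup.eq_one_iff w).2 hw, one_mul, QuotientGroup.mk_zpow]⟩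

/-- A metacyclic group of exponent `p` has order at most `p²`. -/
theorem card_le_of_metacyclic {R : Type u} [Group R] [Finite R] (hm : Cfsg.IsMetacyclic R)
    (K : Subgroup R) (hK : ∀ x ∈ K, x ^ p = 1) : Nat.card K ≤ p ^ 2 := by
  obtain ⟨N, hN, hNc, hNq⟩ := hm
  haveI := hN
  haveI := hNc
  haveI := hNq
  have h1 : Nat.card (K ⊓ N : Subgroup R) ≤ p :=
    CfsgLib.MetacyclicOmega.card_pow_eq_one_le _ inf_le_right fun x hx => hK x hx.1
  haveI : IsCyclic (⊤ : Subgroup (R ⧸ N)) := Subgroup.topEquiv.isCyclic.2 hNq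
  have h2 : Nat.card (K.map (QuotientGroup.mk' N)) ≤ p :=
    CfsgLib.MetacyclicOmega.card_pow_eq_one_le (A := (⊤ : Subgroup (R ⧸ N))) _ le_top fun x hx => by
      obtain ⟨y, hy, rfl⟩ := hx
      rw [← map_pow, hK y hy, map_one]
  have h3 : Nat.card K = Nat.card (K ⊓ N : Subgroup R) * Nat.card (K.map (QuotientGroup.mk' N)) := by
    have e1 := ((QuotientGroup.mk' N).comp K.subtype).ker.card_mul_index
    rw [index_ker, MonoidHom.range_comp, range_subtype] at e1
    rw [← e1]
    congr 1
    have e2 : ((QuotientGroup.mk' N).comp K.subtype).ker = (K ⊓ N).subgroupOf K := by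
      ext ⟨z, hz⟩
      simp [mem_subgroupOf, hz]
    rw [e2]
    exact Nat.card_congr (subgroupOfEquivOfLe inf_le_left).toEquiv
  rw [h3, pow_two]
  exact Nat.mul_le_mul h1 h2

/-- The maximal subgroups are metacyclic and the derived group is small. -/
theorem metacyclic_of_maximal_small {R : Type u} [Group R] [Finite R] (hR : IsPGroup p R) (hp : p ≠ 2)
    (hmax : ∀ M : Subgroup R, IsCoatom M → Cfsg.IsMetacyclic M) (hd : Nat.card (commutator R) ≤ p)
    (hc : p ^ 4 ≤ Nat.card R) : Cfsg.IsMetacyclic R := by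
  have hpr := hpf.out
  have hcl : commutator R ≤ center R := CfsgLib.MetacyclicOmega.le_center_of_card_le hR _ hd
  have he : ∀ c ∈ commutator R, c ^ p = 1 := fun c hc => by
    obtain ⟨k, hk⟩ := (hR.to_subgroup (commutator R)).exists_card_eq
    have hk1 : k ≤ 1 := (Nat.pow_le_pow_iff_right hpr.one_lt).1 (by rw [pow_one, ← hk]; exact hd)
    refine orderOf_dvd_iff_pow_eq_one.1 ((Subgroup.orderOf_dvd_natCard _ hc).trans ?_)
    rw [hk]
    exact (pow_dvd_pow p hk1).trans (pow_one p).dvd
  let f : R →* R := MonoidHom.mk' (fun g => g ^ p) (mul_pow_of_small hp hcl he)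
  refine metacyclic_of_small_derived hR hp hd ?_
  show Nat.card f.ker ≤ p ^ 2
  have bound : ∀ (M : Subgroup R), IsCoatom M → ∀ K : Subgroup R, K ≤ M → (∀ x ∈ K, x ^ p = 1) →
      Nat.card K ≤ p ^ 2 := fun M hM K hKM hK => by
    rw [← Nat.card_congr (subgroupOfEquivOfLe hKM).toEquiv]
    exact card_le_of_metacyclic (hmax M hM) _ fun x hx => Subtype.ext (hK x hx)
  rcases eq_top_or_exists_le_coatom f.ker with h | ⟨M, hM, hle⟩
  · exfalso
    obtain ⟨k, hk⟩ := hR.exists_card_eq
    obtain ⟨M, hMi⟩ := Sylow.exists_subgroup_card_pow_prime p (n := 3) (G := R)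
      ((pow_dvd_pow p (show 3 ≤ k by
        have := (Nat.pow_le_pow_iff_right hpr.one_lt).1 (hk ▸ hc); omega)).trans hk.symm.dvd)
    rcases eq_top_or_exists_le_coatom M with hM | ⟨M', hM', hle⟩
    · have : p ^ 4 ≤ p ^ 3 := by rw [← hMi, hM, card_top]; exact hc
      exact absurd ((Nat.pow_le_pow_iff_right hpr.one_lt).1 this) (by norm_num)
    · have := bound M' hM' M hle fun x _ => (h ▸ mem_top x : x ∈ f.ker)
      rw [hMi] at this
      exact absurd ((Nat.pow_le_pow_iff_right hpr.one_lt).1 this) (by norm_num)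
  · exact bound M hM _ hle fun x hx => hx

/-- Quotients of metacyclic groups are metacyclic. -/
theorem metacyclic_of_surjective {R S : Type u} [Group R] [Group S] (f : R →* S)
    (hf : Function.Surjective f) (hm : Cfsg.IsMetacyclic R) : Cfsg.IsMetacyclic S := by
  obtain ⟨N, hN, hNc, hNq⟩ := hm
  haveI := hN
  haveI := hNc
  haveI := hNq
  haveI := Subgroup.Normal.map hN f hf
  refine ⟨N.map f, inferInstance, isCyclic_of_surjective (f.subgroupMap N) (f.subgroupMap_surjective N), ?_⟩
  exact isCyclic_of_surjective (QuotientGroup.map N (N.map f) f (le_comap_map f N))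
    (QuotientGroup.map_surjective_of_surjective _ _ _ ((QuotientGroup.mk'_surjective _).comp hf) _)

/-- A metacyclic group of order `81` has class at most two. -/
theorem classTwo_of_metacyclic {R : Type u} [Group R] [Finite R] (hc : Nat.card R = 81)
    (hm : Cfsg.IsMetacyclic R) : commutator R ≤ center R := by
  haveI : Fact (Nat.Prime 3) := ⟨Nat.prime_three⟩
  have hR : IsPGroup 3 R := IsPGroup.of_card (n := 4) (by rw [hc]; norm_num)
  obtain ⟨N, hN, hNc, hNq⟩ := hm
  haveI := hN
  haveI := hNc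
  haveI := hNq
  obtain ⟨⟨a, haN⟩, ha⟩ := IsCyclic.exists_generator (α := N)
  have hNa : N = zpowers a := le_antisymm (fun x hx => by
    obtain ⟨i, hi⟩ := ha ⟨x, hx⟩
    exact ⟨i, congrArg Subtype.val hi⟩) (zpowers_le.2 haN)
  haveI : (zpowers a).Normal := hNa ▸ hN
  obtain ⟨b', hb'⟩ := hNq.exists_generator
  obtain ⟨b, rfl⟩ := QuotientGroup.mk_surjective b'
  have hel : ∀ g : R, ∃ i j : ℤ, g = b ^ j * a ^ i := fun g => by
    obtain ⟨j, hj⟩ := hb' (g : R ⧸ N)
    have hj' : ((b ^ j : R) : R ⧸ N) = g := (QuotientGroup.mk_zpow _ _ _).trans hj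
    obtain ⟨i, hi⟩ := mem_zpowers_iff.1 (hNa.le (QuotientGroup.eq.1 hj'))
    exact ⟨i, j, by rw [hi]; group⟩
  obtain ⟨s, hs, hsb⟩ := CfsgLib.RegularPowers.exists_conj_exponent hR (d := a) inferInstance b
  obtain ⟨k, hk⟩ : (3 : ℤ) ∣ s - 1 := by
    have := (ZMod.intCast_eq_intCast_iff_dvd_sub 1 s 3).1 (by simpa using hs.symm)
    simpa using this
  obtain ⟨l, hl⟩ := IsPGroup.iff_orderOf.1 hR a
  have hl4 : l ≤ 4 := by
    have h1 : 3 ^ l ∣ 3 ^ 4 := by
      rw [← hl, show (3 : ℕ) ^ 4 = Nat.card R by rw [hc]; norm_num]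
      exact orderOf_dvd_natCard a
    exact (Nat.pow_dvd_pow_iff_le_right (by norm_num)).1 h1
  -- `3` divides `k` when `a` has order `27`
  have hk3 : (3 : ℤ) ^ l ∣ (s - 1) * 3 ∧ (3 : ℤ) ^ l ∣ (s - 1) * (s - 1) ∨ l = 4 := by
    interval_cases l
    · exact Or.inl ⟨by simp, by simp⟩
    · exact Or.inl ⟨⟨s - 1, by ring⟩, ⟨3 * k * k, by rw [hk]; ring⟩⟩
    · exact Or.inl ⟨⟨k, by rw [hk]; ring⟩, ⟨k * k, by rw [hk]; ring⟩⟩
    · have hb3 : b ^ 3 ∈ N := by
        have hcq : Nat.card (R ⧸ N) = 3 := by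
          have h1 := N.card_eq_card_quotient_mul_card_subgroup
          rw [hc, hNa, Nat.card_zpowers, hl] at h1
          rw [hNa]; omega
        have := pow_card_eq_one' (x := (b : R ⧸ N))
        rw [hcq, ← QuotientGroup.mk_pow] at this
        exact (QuotientGroup.eq_one_iff _).1 this
      have hcomm : b ^ 3 * a * (b ^ 3)⁻¹ = a := by
        obtain ⟨i, hi⟩ := mem_zpowers_iff.1 (hNa.le hb3)
        rw [← hi, ((Commute.refl a).zpow_left i).eq, mul_inv_cancel_right]
      have hs3 : b ^ 3 * a * (b ^ 3)⁻¹ = a ^ (s * s * s) := by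
        calc b ^ 3 * a * (b ^ 3)⁻¹ = b * (b * (b * a * b⁻¹) * b⁻¹) * b⁻¹ := by
              simp only [pow_succ, pow_zero, one_mul, mul_inv_rev, mul_assoc]
          _ = b * (b * a * b⁻¹) ^ s * b⁻¹ := by rw [hsb, ← conj_zpow, hsb]
          _ = b * a ^ (s * s) * b⁻¹ := by rw [hsb, ← zpow_mul]
          _ = a ^ (s * s * s) := by rw [← conj_zpow, hsb, ← zpow_mul, mul_assoc]
      rw [hcomm] at hs3
      have h27 : (27 : ℤ) ∣ s * s * s - 1 := by
        have h2 : a ^ (s * s * s - 1) = 1 := by rw [zpow_sub, ← hs3, zpow_one, mul_inv_cancel]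
        have := orderOf_dvd_iff_zpow_eq_one.2 h2
        rw [hl] at this
        simpa using this
      obtain ⟨q, hq⟩ : (3 : ℤ) ∣ k := by
        rw [show s = 1 + 3 * k by omega] at h27
        obtain ⟨t, ht⟩ := h27
        exact ⟨t - k * k - k * k * k, by nlinarith [ht]⟩
      exact Or.inl ⟨⟨q, by rw [hk, hq]; ring⟩, ⟨3 * q * q, by rw [hk, hq]; ring⟩⟩
    · exact Or.inr rfl
  rcases hk3 with ⟨h3, hsq⟩ | rfl
  swap
  · -- `R` is cyclic
    have htop : zpowers a = ⊤ := by
      rw [← Subgroup.card_eq_iff_eq_top, Nat.card_zpowers, hl, hc]; norm_num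
    intro x _
    refine mem_center_iff.2 fun g => ?_
    obtain ⟨i, rfl⟩ := mem_zpowers_iff.1 (htop ▸ mem_top x)
    obtain ⟨j, rfl⟩ := mem_zpowers_iff.1 (htop ▸ mem_top g)
    exact zpow_mul_comm a j i
  -- the derived group is generated by `a ^ (s - 1)`
  set w := a ^ (s - 1) with hw
  have hwc : w ∈ center R := by
    refine mem_center_iff.2 fun g => ?_
    obtain ⟨i, j, rfl⟩ := hel g
    have hbw : b * w * b⁻¹ = w := by
      rw [hw, ← conj_zpow, hsb, ← zpow_mul]
      have h4 : a ^ (s * (s - 1) - (s - 1)) = 1 := by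
        rw [← orderOf_dvd_iff_zpow_eq_one, hl]
        push_cast
        rw [show s * (s - 1) - (s - 1) = (s - 1) * (s - 1) by ring]
        exact hsq
      rwa [zpow_sub, mul_inv_eq_one] at h4
    have hc1 : Commute b w := mul_inv_eq_iff_eq_mul.1 hbw
    have hc2 : Commute a w := (Commute.self_zpow a (s - 1))
    exact ((hc1.zpow_left j).mul_left (hc2.zpow_left i)).eq
  haveI : (zpowers w).Normal := ⟨fun v hv g => by
    obtain ⟨i, rfl⟩ := mem_zpowers_iff.1 hv
    rw [mem_center_iff.1 (zpow_mem hwc i) g, mul_inv_cancel_right]; exact hv⟩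
  refine le_trans ?_ (zpowers_le.2 hwc)
  set ρ := QuotientGroup.mk' (zpowers w)
  have hab : Commute (ρ b) (ρ a) := by
    have h1 : ρ (b * a * b⁻¹) = ρ a := by
      rw [hsb, show s = (s - 1) + 1 by ring, zpow_add, map_mul, zpow_one,
        (show ρ (a ^ (s - 1)) = 1 from (QuotientGroup.eq_one_iff _).2 (mem_zpowers w)), one_mul]
    rw [map_mul, map_mul, map_inv] at h1
    exact mul_inv_eq_iff_eq_mul.1 h1
  rw [_root_.commutator_def, commutator_le]
  intro g _ h _
  rw [← QuotientGroup.eq_one_iff]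
  show ρ ⁅g, h⁆ = 1
  rw [map_commutatorElement, commutatorElement_eq_one_iff_mul_comm]
  obtain ⟨i, j, rfl⟩ := hel g
  obtain ⟨i', j', rfl⟩ := hel h
  simp only [map_mul, map_zpow]
  exact ((((Commute.refl (ρ b)).zpow_zpow j j').mul_right (hab.zpow_zpow j i')).mul_left
    ((hab.symm.zpow_zpow i j').mul_right ((Commute.refl (ρ a)).zpow_zpow i i'))).eq

/-- A subgroup of prime index is maximal. -/
theorem isCoatom_of_index {R : Type u} [Group R] [Finite R] {M : Subgroup R} (hM : M.index = p) :
    IsCoatom M := by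
  refine ⟨fun h => hpf.out.ne_one (by rw [← hM, h, index_top]), fun K hK => ?_⟩
  rcases (Nat.dvd_prime hpf.out).1 (hM ▸ index_dvd_of_le hK.le) with h | h
  · exact index_eq_one.1 h
  · refine absurd (eq_of_le_of_card_ge hK.le ?_) hK.ne
    refine Nat.le_of_mul_le_mul_right ?_ hpf.out.pos
    conv_lhs => rw [← h, card_mul_index, ← M.card_mul_index, hM]

theorem index_of_isCoatom {R : Type u} [Group R] [Finite R] (hR : IsPGroup p R) {M : Subgroup R}
    (hM : IsCoatom M) : M.Normal ∧ M.index = p := by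
  obtain ⟨a, b⟩ := CfsgLib.Coprime.coatom_data_of_pGroup hR hM
  exact ⟨a, b⟩

theorem conj_cube_fixed {R : Type u} [Group R] {g c D : R} (h1 : g * c * g⁻¹ = D * c)
    (h2 : g * D * g⁻¹ = D) : g ^ 3 * c * (g ^ 3)⁻¹ = D ^ 3 * c := by
  have e : ∀ x : R, g * (D * x) * g⁻¹ = D * (g * x * g⁻¹) := fun x => by
    calc g * (D * x) * g⁻¹ = (g * D * g⁻¹) * (g * x * g⁻¹) := by group
      _ = _ := by rw [h2]
  calc g ^ 3 * c * (g ^ 3)⁻¹ = g * (g * (g * c * g⁻¹) * g⁻¹) * g⁻¹ := by
        simp only [pow_succ, pow_zero, one_mul, mul_inv_rev, mul_assoc]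
    _ = D ^ 3 * c := by
      rw [h1, e, h1, e, e, h1]; simp only [pow_succ, pow_zero, one_mul, mul_assoc]

theorem conj_cube_left {R : Type u} [Group R] {a b c u : R} (h1 : a * b * a⁻¹ = c * b)
    (h2 : a * c * a⁻¹ = u * c) (h3 : a * u * a⁻¹ = u) (h4 : Commute u c) :
    a ^ 3 * b * (a ^ 3)⁻¹ = u ^ 3 * c ^ 3 * b := by
  have e : ∀ x y : R, a * (x * y) * a⁻¹ = (a * x * a⁻¹) * (a * y * a⁻¹) := fun x y => by group
  calc a ^ 3 * b * (a ^ 3)⁻¹ = a * (a * (a * b * a⁻¹) * a⁻¹) * a⁻¹ := by
        simp only [pow_succ, pow_zero, one_mul, mul_inv_rev, mul_assoc]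
    _ = u * (u * c) * ((u * c) * (c * b)) := by
        rw [h1, e c b, h2, h1, e (u * c) (c * b), e u c, e c b, h3, h2, h1]
    _ = u * u * (c * u) * (c * (c * b)) := by group
    _ = u * u * (u * c) * (c * (c * b)) := by rw [h4.eq]
    _ = u ^ 3 * c ^ 3 * b := by simp only [pow_succ, pow_zero, one_mul, mul_assoc]

theorem conj_cube_right {R : Type u} [Group R] {a b c v : R} (h1 : a * b * a⁻¹ = c * b)
    (h2 : b * c * b⁻¹ = v * c) (h3 : b * v * b⁻¹ = v) (h4 : Commute v c) :
    a * b ^ 3 * a⁻¹ = v ^ 3 * c ^ 3 * b ^ 3 := by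
  have e1 : ∀ x : R, b * (v * x) = v * (b * x) := fun x => by
    rw [← mul_assoc, mul_inv_eq_iff_eq_mul.1 h3, mul_assoc]
  have e2 : ∀ x : R, b * (c * x) = v * (c * (b * x)) := fun x => by
    rw [← mul_assoc, mul_inv_eq_iff_eq_mul.1 h2, mul_assoc, mul_assoc]
  have e3 : ∀ x : R, c * (v * x) = v * (c * x) := fun x => by
    rw [← mul_assoc, h4.symm.eq, mul_assoc]
  calc a * b ^ 3 * a⁻¹ = (a * b * a⁻¹) * (a * b * a⁻¹) * (a * b * a⁻¹) := by
        simp only [pow_succ, pow_zero, one_mul, mul_assoc, inv_mul_cancel_left]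
    _ = _ := by
        rw [h1]; simp only [pow_succ, pow_zero, one_mul, mul_assoc, e1, e2, e3]

/-- The exceptional order `243`. -/
theorem false_of_derived_twentyseven {R : Type u} [Group R] [Finite R] (hR : IsPGroup 3 R)
    (hmax : ∀ M : Subgroup R, IsCoatom M → Cfsg.IsMetacyclic M) (hc : Nat.card R = 243)
    (hd : Nat.card (commutator R) = 27) : False := by
  classical
  haveI : Fact (Nat.Prime 3) := ⟨Nat.prime_three⟩
  haveI := hR.isNilpotent
  set G' := commutator R with hG'
  have hGi : G'.index = 9 := by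
    have h := G'.card_mul_index
    rw [hd, hc] at h
    omega
  have hncyc : ¬ IsCyclic R := fun h => by
    obtain ⟨x, hx⟩ := h.exists_generator
    have hb : G' = ⊥ := by
      rw [hG', _root_.commutator_def, eq_bot_iff, commutator_le]
      intro g _ k _
      obtain ⟨i, rfl⟩ := mem_zpowers_iff.1 (hx g)
      obtain ⟨j, rfl⟩ := mem_zpowers_iff.1 (hx k)
      rw [mem_bot, commutatorElement_eq_one_iff_mul_comm]
      exact zpow_mul_comm x i j
    rw [hb, card_bot] at hd
    omega
  have hΦ : frattini R = G' := by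
    refine (eq_of_le_of_card_ge (CfsgLib.Coprime.commutator_le_frattini hR) ?_).symm
    refine Nat.le_of_mul_le_mul_right ?_ (show 0 < 9 by norm_num)
    obtain ⟨e, he⟩ := hR.index (frattini R)
    have he2 : 2 ≤ e := Nat.le_of_not_lt fun h => hncyc
      (CfsgLib.RankTwoOmega.isCyclic_of_index_frattini hR (he ▸ (Nat.pow_le_pow_right (by norm_num)
        (Nat.le_of_lt_succ h)).trans_eq (pow_one 3)))
    calc Nat.card (frattini R) * 9 ≤ Nat.card (frattini R) * (frattini R).index :=
          Nat.mul_le_mul_left _ (by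
            rw [he]
            exact (Nat.pow_le_pow_right (show 0 < 3 by norm_num) he2).trans' (by norm_num))
      _ = Nat.card R := card_mul_index _
      _ = Nat.card G' * 9 := by rw [← hGi, card_mul_index]
  have hG3 : ∀ g : R, g ^ 3 ∈ G' := fun g => hΦ ▸ CfsgLib.Coprime.pow_mem_frattini hR g
  have hM : ∀ g : R, ∃ M : Subgroup R, IsCoatom M ∧ G' ≤ M ∧ g ∈ M ∧ Nat.card M = 81 := by
    intro g
    rcases eq_top_or_exists_le_coatom (G' ⊔ zpowers g) with h | ⟨M, hM, hle⟩
    · exfalso
      rw [← hΦ, sup_comm] at h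
      exact hncyc ⟨g, fun y => (frattini_nongenerating h).ge (mem_top y)⟩
    · refine ⟨M, hM, le_sup_left.trans hle, hle (mem_sup_right (mem_zpowers g)), ?_⟩
      have h := M.card_mul_index
      rw [(index_of_isCoatom hR hM).2, hc] at h
      omega
  -- the derived group is abelian
  have hab : ∀ x ∈ G', ∀ y ∈ G', Commute x y := by
    obtain ⟨D₁, hD₁n, hlt, hD₁G, hD₁c⟩ := CfsgLib.PGroup.exists_normal_step hR
      (T := (⊥ : Subgroup R)) (S := G') (bot_lt_iff_ne_bot.2 fun h => by rw [h, card_bot] at hd; omega)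
    rw [relIndex_bot_left] at hD₁c
    obtain ⟨D, hDn, hlt2, hDG, hDrel⟩ := CfsgLib.PGroup.exists_normal_step hR (T := D₁) (S := G')
      (lt_of_le_of_ne hD₁G fun h => by rw [h, hd] at hD₁c; omega)
    have hDc : Nat.card D = 3 ^ 2 := by
      rw [← relIndex_bot_left, ← relIndex_mul_relIndex ⊥ D₁ D bot_le hlt2.le, relIndex_bot_left,
        hD₁c, hDrel]
      norm_num
    have hDm : IsMulCommutative D := ⟨⟨IsPGroup.commutative_of_card_eq_prime_sq hDc⟩⟩
    have hidx := CfsgLib.PGroup.index_centralizer_le_pow hR 2 D hDm hDc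
    have hGC : G' ≤ centralizer (D : Set R) := by
      rcases eq_top_or_exists_le_coatom (centralizer (D : Set R)) with h | ⟨M, hM, hle⟩
      · rw [h]; exact le_top
      · have h1 := (index_of_isCoatom hR hM)
        have h2 : centralizer (D : Set R) = M := by
          refine eq_of_le_of_card_ge hle (Nat.le_of_mul_le_mul_right ?_ (show 0 < 3 by norm_num))
          calc Nat.card M * 3 = Nat.card R := by rw [← h1.2, card_mul_index]
            _ = Nat.card (centralizer (D : Set R)) * (centralizer (D : Set R)).index :=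
                (card_mul_index _).symm
            _ ≤ Nat.card (centralizer (D : Set R)) * 3 := Nat.mul_le_mul_left _ (by simpa using hidx)
        rw [h2, ← hΦ]
        exact iInf₂_le _ hM
    obtain ⟨e, he⟩ : ∃ e, e ∈ G' ∧ e ∉ D := by
      by_contra h
      push Not at h
      have := card_le_of_le (show G' ≤ D from h)
      omega
    have hsup : D ⊔ zpowers e = G' := by
      refine eq_of_le_of_card_ge (sup_le hDG (zpowers_le.2 he.1)) ?_
      obtain ⟨k, hk⟩ := (hR.to_subgroup (D ⊔ zpowers e)).exists_card_eq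
      have h1 : Nat.card D < Nat.card (D ⊔ zpowers e : Subgroup R) := by
        refine lt_of_le_of_ne (card_le_of_le le_sup_left) fun h => he.2 ?_
        rw [eq_of_le_of_card_ge (le_sup_left : D ≤ D ⊔ zpowers e) h.ge]
        exact mem_sup_right (mem_zpowers e)
      rw [hDc, hk] at h1
      rw [hd, hk]
      exact le_trans (by norm_num) (Nat.pow_le_pow_right (show 0 < 3 by norm_num)
        ((Nat.pow_lt_pow_iff_right (by norm_num)).1 h1))
    intro x hx y hy
    have hle : G' ≤ centralizer (G' : Set R) := by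
      conv_lhs => rw [← hsup]
      refine sup_le (le_centralizer_iff.1 hGC) (zpowers_le.2 (mem_centralizer_iff.2 fun w hw => ?_))
      rw [SetLike.mem_coe, ← hsup] at hw
      obtain ⟨d, hd', t, ht, rfl⟩ := mem_sup_of_normal_left.1 hw
      obtain ⟨i, rfl⟩ := mem_zpowers_iff.1 ht
      exact (Commute.mul_left (mem_centralizer_iff.1 (hGC he.1) d hd' : Commute d e)
        ((Commute.refl e).zpow_left i)).eq
    exact (mem_centralizer_iff.1 (hle hy) x hx)
  -- every element commutes with its commutators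
  have hg2 : ∀ g : R, ∀ w ∈ G', g * ⁅g, w⁆ * g⁻¹ = ⁅g, w⁆ := by
    intro g w hw
    obtain ⟨M, hM1, hGM, hgM, hMc⟩ := hM g
    have h1 := classTwo_of_metacyclic hMc (hmax M hM1)
    have h2 : ⁅(⟨g, hgM⟩ : M), ⟨w, hGM hw⟩⁆ ∈ center M :=
      h1 (commutator_mem_commutator (mem_top _) (mem_top _))
    have h3 := congrArg Subtype.val (mem_center_iff.1 h2 ⟨g, hgM⟩)
    simp only [coe_mul] at h3
    exact mul_inv_eq_iff_eq_mul.2 h3
  have hmem : ∀ g : R, ∀ w ∈ G', ⁅g, w⁆ ∈ G' := fun g w _ =>
    commutator_mem_commutator (mem_top _) (mem_top _)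
  have hconj : ∀ g w : R, g * w * g⁻¹ = ⁅g, w⁆ * w := fun g w => by rw [commutatorElement_def]; group
  -- double commutators vanish
  have hW : ∀ a b w : R, w ∈ G' → ⁅a, ⁅b, w⁆⁆ = 1 := by
    intro a b w hw
    set X := ⁅b, w⁆ with hX
    set Y := ⁅a, w⁆ with hY
    set W := ⁅a, X⁆ with hWdef
    set Z := ⁅b, Y⁆ with hZdef
    have hXm : X ∈ G' := hmem b w hw
    have hYm : Y ∈ G' := hmem a w hw
    have hWm : W ∈ G' := hmem a X hXm
    have hZm : Z ∈ G' := hmem b Y hYm
    have e1 : a * b * w * (a * b)⁻¹ = W * X * (Y * w) := by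
      calc a * b * w * (a * b)⁻¹ = (a * (b * w * b⁻¹) * a⁻¹) := by group
        _ = (a * X * a⁻¹) * (a * w * a⁻¹) := by rw [hconj b w, ← hX]; group
        _ = W * X * (Y * w) := by rw [hconj a X, hconj a w]
    have e2 : b * a * w * (b * a)⁻¹ = Z * Y * (X * w) := by
      calc b * a * w * (b * a)⁻¹ = (b * (a * w * a⁻¹) * b⁻¹) := by group
        _ = (b * Y * b⁻¹) * (b * w * b⁻¹) := by rw [hconj a w, ← hY]; group
        _ = Z * Y * (X * w) := by rw [hconj b Y, hconj b w]
    have hd12 : ⁅a, b⁆ ∈ G' := commutator_mem_commutator (mem_top _) (mem_top _)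
    have e3 : a * b * w * (a * b)⁻¹ = b * a * w * (b * a)⁻¹ := by
      have h1 : b * a * w * (b * a)⁻¹ ∈ G' :=
        (inferInstance : (commutator R).Normal).conj_mem w hw (b * a)
      calc a * b * w * (a * b)⁻¹ = ⁅a, b⁆ * (b * a * w * (b * a)⁻¹) * ⁅a, b⁆⁻¹ := by
            simp only [commutatorElement_def]; group
        _ = _ := by rw [(hab _ hd12 _ h1).eq, mul_inv_cancel_right]
    have hWZ : W = Z := by
      rw [e1, e2] at e3
      rw [show W * X * (Y * w) = W * (X * Y) * w by group, show Z * Y * (X * w) = Z * (Y * X) * w by group,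
        (hab X hXm Y hYm).eq] at e3
      exact mul_right_cancel (mul_right_cancel e3)
    have haX : a * X * a⁻¹ = W * X := hconj a X
    have haY : a * Y * a⁻¹ = Y := hg2 a w hw
    have haW : a * W * a⁻¹ = W := hg2 a X hXm
    have hbX : b * X * b⁻¹ = X := hg2 b w hw
    have hbW : b * W * b⁻¹ = W := by rw [hWZ]; exact hg2 b Y hYm
    have hbY : b * Y * b⁻¹ = W * Y := by rw [hWZ]; exact hconj b Y
    have hab' : a * b * (W * X * Y) * (a * b)⁻¹ = W * X * Y := by
      have h := hg2 (a * b) w hw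
      have e : ⁅a * b, w⁆ = W * X * Y := by
        rw [commutatorElement_def, e1]; group
      rwa [e] at h
    have e4 : a * b * (W * X * Y) * (a * b)⁻¹ = W * (W * X) * (W * Y) := by
      calc a * b * (W * X * Y) * (a * b)⁻¹
          = a * ((b * W * b⁻¹) * (b * X * b⁻¹) * (b * Y * b⁻¹)) * a⁻¹ := by group
        _ = (a * W * a⁻¹) * (a * X * a⁻¹) * ((a * W * a⁻¹) * (a * Y * a⁻¹)) := by
              rw [hbW, hbX, hbY]; group
        _ = W * (W * X) * (W * Y) := by rw [haW, haX, haY]
    rw [e4] at hab'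
    have h2 : W ^ 2 = 1 := by
      have : W * (W * X) * (W * Y) = W * W * (W * X * Y) := by
        rw [show W * (W * X) * (W * Y) = W * W * ((X * W) * Y) by group, (hab X hXm W hWm).eq]
      rw [this] at hab'
      rw [pow_two]
      exact mul_eq_right.1 hab'
    obtain ⟨k, hk⟩ := hR W
    exact orderOf_eq_one_iff.1 (Nat.eq_one_of_dvd_coprimes
      (Nat.Coprime.pow_right k (by norm_num : Nat.Coprime 2 3))
      (orderOf_dvd_of_pow_eq_one h2) (orderOf_dvd_of_pow_eq_one hk))
  have hcen : ∀ b w : R, w ∈ G' → ⁅b, w⁆ ∈ center R := fun b w hw => mem_center_iff.2 fun a =>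
    (commutatorElement_eq_one_iff_mul_comm.1 (hW a b w hw))
  -- two generators
  obtain ⟨a, ha⟩ := SetLike.exists_not_mem_of_ne_top G' (fun e => by rw [e, index_top] at hGi; omega)
  obtain ⟨b, hb⟩ := SetLike.exists_not_mem_of_ne_top (G' ⊔ zpowers a) (fun e => hncyc ⟨a, fun y => by
    rw [← hΦ, sup_comm] at e
    exact (frattini_nongenerating e).ge (mem_top y)⟩)
  have hgen : closure ({a, b} : Set R) = ⊤ := by
    refine frattini_nongenerating ?_
    rw [hΦ, sup_comm]
    have hfr : frattini R ≤ G' ⊔ zpowers a := hΦ.le.trans le_sup_left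
    have h1 := CfsgLib.Coprime.card_sup_zpowers_of_frattini_le hR hfr hb
    have h2 := CfsgLib.Coprime.card_sup_zpowers_of_frattini_le hR hΦ.le ha
    rw [hd] at h2
    rw [h2] at h1
    have h3 : (G' ⊔ zpowers a) ⊔ zpowers b = ⊤ := by
      rw [← Subgroup.card_eq_iff_eq_top, h1, hc]
    rw [eq_top_iff, ← h3]
    refine sup_le (sup_le le_sup_left ?_) ?_ <;> refine zpowers_le.2 (mem_sup_right (subset_closure ?_))
    · exact Or.inl rfl
    · exact Or.inr rfl
  set c := ⁅a, b⁆ with hcdef
  have hcm : c ∈ G' := commutator_mem_commutator (mem_top _) (mem_top _)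
  set u := ⁅a, c⁆ with hu
  set v := ⁅b, c⁆ with hv
  have huc : u ∈ center R := hcen a c hcm
  have hvc : v ∈ center R := hcen b c hcm
  have hac : a * c * a⁻¹ = u * c := hconj a c
  have hbc : b * c * b⁻¹ = v * c := hconj b c
  set K := closure ({c, u, v} : Set R) with hK
  have hKG : K ≤ G' := (closure_le _).2 (by
    rintro x (rfl | rfl | rfl)
    exacts [hcm, hmem a c hcm, hmem b c hcm])
  have hKc : c ∈ K := subset_closure (Or.inl rfl)
  have hKu : u ∈ K := subset_closure (Or.inr (Or.inl rfl))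
  have hKv : v ∈ K := subset_closure (Or.inr (Or.inr rfl))
  have hnor : ∀ g : R, (g = a ∨ g = b) → g ∈ normalizer (K : Set R) := fun g hg => by
    refine mem_normalizer_fintype fun w hw => ?_
    have : (K : Set R) ⊆ ((K.comap (MulAut.conj g).toMonoidHom : Subgroup R) : Set R) := by
      rw [SetLike.coe_subset_coe]
      refine (closure_le _).2 ?_
      rintro x (rfl | rfl | rfl) <;> rw [SetLike.mem_coe, mem_comap] <;> show g * _ * g⁻¹ ∈ K
      · rcases hg with rfl | rfl
        · rw [hac]; exact mul_mem hKu hKc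
        · rw [hbc]; exact mul_mem hKv hKc
      · rw [mem_center_iff.1 huc g, mul_inv_cancel_right]; exact hKu
      · rw [mem_center_iff.1 hvc g, mul_inv_cancel_right]; exact hKv
    exact this hw
  haveI hKn : K.Normal := normalizer_eq_top_iff.1 (eq_top_iff.2 (hgen ▸ (closure_le _).2 (by
    rintro x (rfl | rfl)
    exacts [hnor _ (Or.inl rfl), hnor _ (Or.inr rfl)])))
  have hGK : G' ≤ K := by
    set ρ := QuotientGroup.mk' K
    have hab2 : Commute (ρ a) (ρ b) := by
      refine (commutatorElement_eq_one_iff_mul_comm.1 ?_ : ρ a * ρ b = ρ b * ρ a)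
      rw [← map_commutatorElement]
      exact (QuotientGroup.eq_one_iff _).2 hKc
    have hall : ∀ g : R, Commute (ρ g) (ρ a) ∧ Commute (ρ g) (ρ b) := fun g => by
      have hg : g ∈ closure ({a, b} : Set R) := hgen.ge (mem_top g)
      induction hg using closure_induction with
      | mem x hx =>
        rcases hx with rfl | rfl
        · exact ⟨Commute.refl _, hab2⟩
        · exact ⟨hab2.symm, Commute.refl _⟩
      | one => rw [map_one]; exact ⟨Commute.one_left _, Commute.one_left _⟩
      | mul x y _ _ hx hy => rw [map_mul]; exact ⟨hx.1.mul_left hy.1, hx.2.mul_left hy.2⟩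
      | inv x _ hx => rw [map_inv]; exact ⟨hx.1.inv_left, hx.2.inv_left⟩
    rw [hG', _root_.commutator_def, commutator_le]
    intro g _ h _
    rw [← QuotientGroup.eq_one_iff]
    show ρ ⁅g, h⁆ = 1
    rw [map_commutatorElement, commutatorElement_eq_one_iff_mul_comm]
    have hh : h ∈ closure ({a, b} : Set R) := hgen.ge (mem_top h)
    induction hh using closure_induction with
    | mem x hx => rcases hx with rfl | rfl; exacts [(hall g).1.eq, (hall g).2.eq]
    | one => simp
    | mul x y _ _ hx hy =>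
      rw [map_mul]
      exact ((show Commute (ρ g) (ρ x) from hx (mem_top _)).mul_right (hy (mem_top _))).eq
    | inv x _ hx => rw [map_inv]; exact (show Commute (ρ g) (ρ x) from hx (mem_top _)).inv_right.eq
  have hcube : ∀ g : R, g * c * g⁻¹ = ⁅g, c⁆ * c := fun g => hconj g c
  have hpow3 : ∀ g : R, g ^ 3 * c * (g ^ 3)⁻¹ = ⁅g, c⁆ ^ 3 * c := fun g =>
    conj_cube_fixed (hcube g) (hg2 g c hcm)
  have hv3 : ∀ g : R, ⁅g, c⁆ ^ 3 = 1 := fun g => by
    have h := hpow3 g
    rw [(hab _ (hG3 g) c hcm).eq, mul_inv_cancel_right] at h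
    exact mul_eq_right.1 h.symm
  have hu3 : u ^ 3 = 1 := hv3 a
  have hv3' : v ^ 3 = 1 := hv3 b
  have hdec : ∀ g : R, ∃ i : ℤ, ∃ z ∈ center R, g ^ 3 = c ^ i * z := fun g => by
    have h1 : g ^ 3 ∈ zpowers c ⊔ center R := by
      refine ((closure_le _).2 ?_ : K ≤ zpowers c ⊔ center R) (hGK (hG3 g))
      rintro x (rfl | rfl | rfl)
      exacts [mem_sup_left (mem_zpowers _), mem_sup_right huc, mem_sup_right hvc]
    obtain ⟨x, hx, z, hz, e⟩ := mem_sup_of_normal_right.1 h1
    obtain ⟨i, rfl⟩ := mem_zpowers_iff.1 hx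
    exact ⟨i, z, hz, e.symm⟩
  have hc3 : c ^ 3 = 1 := by
    by_cases hu1 : u = 1
    · obtain ⟨i, z, hz, e⟩ := hdec b
      have hca : Commute a c := by
        refine commutatorElement_eq_one_iff_mul_comm.1 ?_
        rw [← hu]; exact hu1
      have hfix : a * b ^ 3 * a⁻¹ = b ^ 3 := by
        rw [e, ((hca.zpow_right i).mul_right (mem_center_iff.1 hz a)).eq, mul_inv_cancel_right]
      have hbv : b * v * b⁻¹ = v := hg2 b c hcm
      have hexp : a * b ^ 3 * a⁻¹ = v ^ 3 * c ^ 3 * b ^ 3 :=
        conj_cube_right (hconj a b) hbc hbv (mem_center_iff.1 hvc c).symm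
      rw [hfix, hv3', one_mul] at hexp
      exact mul_eq_right.1 hexp.symm
    · obtain ⟨i, z, hz, e⟩ := hdec a
      have hau : a * u * a⁻¹ = u := hg2 a c hcm
      have hucom : Commute u c := (mem_center_iff.1 huc c).symm
      have hi : u ^ i = 1 := by
        have h1 : a * (c ^ i * z) * a⁻¹ = c ^ i * z := by
          rw [← e]; group
        rw [show a * (c ^ i * z) * a⁻¹ = (a * c * a⁻¹) ^ i * (a * z * a⁻¹) by rw [conj_zpow]; group,
          hac, mem_center_iff.1 hz a, mul_inv_cancel_right, hucom.mul_zpow] at h1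
        exact mul_eq_right.1 (mul_right_cancel h1)
      have h3i : (3 : ℤ) ∣ i := by
        have h := orderOf_dvd_iff_zpow_eq_one.2 hi
        rwa [orderOf_eq_prime hu3 hu1] at h
      have hvi : v ^ i = 1 := by
        rw [← orderOf_dvd_iff_zpow_eq_one]
        exact (Int.natCast_dvd_natCast.2 (orderOf_dvd_of_pow_eq_one hv3')).trans h3i
      have hbi : Commute b (c ^ i) := by
        have h1 : b * c ^ i * b⁻¹ = c ^ i := by
          rw [← conj_zpow, hbc, (show Commute v c from (mem_center_iff.1 hvc c).symm).mul_zpow, hvi, one_mul]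
        exact mul_inv_eq_iff_eq_mul.1 h1
      have hexp : a ^ 3 * b * (a ^ 3)⁻¹ = u ^ 3 * c ^ 3 * b :=
        conj_cube_left (hconj a b) hac hau hucom
      have hfix : a ^ 3 * b * (a ^ 3)⁻¹ = b := by
        rw [e, ← (hbi.mul_right (mem_center_iff.1 hz b)).eq, mul_inv_cancel_right]
      rw [hfix, hu3, one_mul] at hexp
      exact mul_eq_right.1 hexp.symm
  -- exponent three inside a metacyclic maximal subgroup
  have hexp3 : ∀ w ∈ K, w ^ 3 = 1 := fun w hw => by
    induction hw using closure_induction with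
    | mem x hx => rcases hx with rfl | rfl | rfl; exacts [hc3, hu3, hv3']
    | one => exact one_pow 3
    | mul x y hxm hym hx hy => rw [(hab x (hKG hxm) y (hKG hym)).mul_pow, hx, hy, one_mul]
    | inv x _ hx => rw [inv_pow, hx, inv_one]
  obtain ⟨M, hM1, hGM, -, -⟩ := hM 1
  have h := card_le_of_metacyclic (p := 3) (hmax M hM1) (G'.subgroupOf M)
    fun x hx => Subtype.ext (hexp3 _ (hGK hx))
  rw [Nat.card_congr (subgroupOfEquivOfLe hGM).toEquiv, hd] at h
  norm_num at h

/-- Minimal non-metacyclic `3`-groups have order at most `81`. -/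
theorem metacyclic_of_maximal (n : ℕ) : ∀ (R : Type u) [Group R] [Finite R], Nat.card R = n →
    IsPGroup 3 R → (∀ M : Subgroup R, IsCoatom M → Cfsg.IsMetacyclic M) → 243 ≤ n →
    Cfsg.IsMetacyclic R := by
  haveI : Fact (Nat.Prime 3) := ⟨Nat.prime_three⟩
  induction n using Nat.strong_induction_on with
  | _ n ih =>
  intro R _ _ hn hR hmax hge
  classical
  haveI := hR.isNilpotent
  by_cases hsmall : Nat.card (commutator R) ≤ 3
  · exact metacyclic_of_maximal_small hR (by norm_num) hmax hsmall (by rw [hn]; exact le_trans (by norm_num) hge)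
  have hne : commutator R ≠ ⊥ := fun h => hsmall (by rw [h, card_bot]; norm_num)
  obtain ⟨k, hk⟩ := (hR.to_subgroup (commutator R ⊓ center R)).exists_card_eq
  have hk0 : k ≠ 0 := fun e =>
    CfsgLib.Coprime.nilpotent_inf_center_ne_bot (commutator R) hne (card_eq_one.1 (by rw [hk, e, pow_zero]))
  obtain ⟨⟨z, hzd, hzc⟩, hz⟩ := exists_prime_orderOf_dvd_card' (G := ↥(commutator R ⊓ center R)) 3
    (hk ▸ dvd_pow_self 3 hk0)
  replace hz : orderOf z = 3 := (Subgroup.orderOf_coe _).trans hz
  haveI : (zpowers z).Normal := ⟨fun t ht g => by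
    rw [mem_center_iff.1 ((zpowers_le.2 hzc) ht) g, mul_inv_cancel_right]; exact ht⟩
  set π := QuotientGroup.mk' (zpowers z) with hπ
  have hπs : Function.Surjective π := QuotientGroup.mk'_surjective _
  have hQc : Nat.card (R ⧸ zpowers z) * 3 = n := by
    rw [← hn, (zpowers z).card_eq_card_quotient_mul_card_subgroup, Nat.card_zpowers, hz]
  have hQ := hR.to_quotient (zpowers z)
  have hQmax : ∀ M : Subgroup (R ⧸ zpowers z), IsCoatom M → Cfsg.IsMetacyclic M := by
    intro M hM
    have hi : (M.comap π).index = 3 := by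
      rw [index_comap_of_surjective _ hπs, (index_of_isCoatom hQ hM).2]
    exact metacyclic_of_surjective (π.subgroupComap M)
      (fun ⟨y, hy⟩ => by
        obtain ⟨x, rfl⟩ := hπs y
        exact ⟨⟨x, hy⟩, rfl⟩) (hmax _ (isCoatom_of_index hi))
  by_cases hQm : Cfsg.IsMetacyclic (R ⧸ zpowers z)
  · rcases metacyclic_or_commutator_le hR hz hzc hzd hQm with h | h
    · exact h
    · exact absurd ((card_le_of_le h).trans (by rw [Nat.card_zpowers, hz])) hsmall
  exfalso
  obtain ⟨m, hm⟩ := hR.exists_card_eq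
  obtain ⟨j, hj⟩ := hQ.exists_card_eq
  have hj4 : j = 4 := by
    have h5 : Nat.card (R ⧸ zpowers z) < 243 := by
      by_contra h
      exact hQm (ih _ (by omega) _ rfl hQ hQmax (not_lt.1 h))
    have h4 : (3 : ℕ) ^ 4 ≤ 3 ^ j := by rw [← hj]; norm_num; omega
    have h6 : (3 : ℕ) ^ j < 3 ^ 5 := by rw [← hj]; norm_num; omega
    have := (Nat.pow_le_pow_iff_right (show 1 < 3 by norm_num)).1 h4
    have := (Nat.pow_lt_pow_iff_right (show 1 < 3 by norm_num)).1 h6
    omega
  rw [hj4] at hj
  have hn243 : Nat.card R = 243 := by rw [hn, ← hQc, hj]; norm_num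
  have hQd : ¬ Nat.card (commutator (R ⧸ zpowers z)) ≤ 3 := fun h =>
    hQm (metacyclic_of_maximal_small hQ (by norm_num) hQmax h (by rw [hj]))
  have hmapd : (commutator R).map π = commutator (R ⧸ zpowers z) := by
    rw [_root_.commutator_def, _root_.commutator_def, map_commutator, map_top_of_surjective _ hπs]
  refine false_of_derived_twentyseven hR hmax hn243 ?_
  obtain ⟨d, hd⟩ := (hR.to_subgroup (commutator R)).exists_card_eq
  obtain ⟨d', hd'⟩ := (hQ.to_subgroup (commutator (R ⧸ zpowers z))).exists_card_eq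
  have hker : Nat.card (commutator R) = 3 * Nat.card (commutator (R ⧸ zpowers z)) := by
    rw [← hmapd]
    have e1 := (π.comp (commutator R).subtype).ker.card_mul_index
    rw [index_ker, MonoidHom.range_comp, range_subtype] at e1
    rw [← e1]
    congr 1
    have e2 : (π.comp (commutator R).subtype).ker = (zpowers z).subgroupOf (commutator R) := by
      ext x
      simp [π, mem_subgroupOf]
    rw [e2, Nat.card_congr (subgroupOfEquivOfLe (zpowers_le.2 hzd)).toEquiv, Nat.card_zpowers, hz]
  have hd2 : 2 ≤ d' := by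
    by_contra h
    apply hQd
    rw [hd']
    exact (Nat.pow_le_pow_right (show 0 < 3 by norm_num) (show d' ≤ 1 by omega)).trans (by norm_num)
  have hidx : 9 ≤ (commutator R).index := by
    obtain ⟨e, he⟩ := hR.index (commutator R)
    rw [he]
    refine le_trans (by norm_num) (Nat.pow_le_pow_right (show 0 < 3 by norm_num) (show 2 ≤ e from ?_))
    refine Nat.le_of_not_lt fun h => hne ?_
    refine CfsgLib.RankTwoOmega.commutator_eq_bot_of_index_frattini (p := 3) hR ?_
    refine le_trans (Nat.le_of_dvd (Nat.pos_of_ne_zero index_ne_zero_of_finite)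
      (index_dvd_of_le (CfsgLib.Coprime.commutator_le_frattini hR))) ?_
    rw [he]
    exact (Nat.pow_le_pow_right (show 0 < 3 by norm_num) (Nat.le_of_lt_succ h)).trans_eq (pow_one 3)
  have h9 : 9 ≤ Nat.card (commutator (R ⧸ zpowers z)) := by
    rw [hd']
    exact le_trans (by norm_num) (Nat.pow_le_pow_right (show 0 < 3 by norm_num) hd2)
  have h1 := (commutator R).card_mul_index
  rw [hn243] at h1
  have h27 : Nat.card (commutator R) ≤ 27 := by
    have : Nat.card (commutator R) * 9 ≤ 243 := h1 ▸ Nat.mul_le_mul_left _ hidx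
    omega
  omega

/-- Few roots in a `3`-group: metacyclic, or some element has centralizer of order `9`. -/
theorem metacyclic_or_centralizer_nine (n : ℕ) : ∀ (R : Type u) [Group R] [Finite R],
    Nat.card R = n → IsPGroup 3 R → FewRoots 3 R →
    Cfsg.IsMetacyclic R ∨ ∃ u : R, Nat.card (centralizer ({u} : Set R)) = 9 := by
  haveI : Fact (Nat.Prime 3) := ⟨Nat.prime_three⟩
  induction n using Nat.strong_induction_on with
  | _ n ih =>
  intro R _ _ hn hR hf
  classical
  haveI := hR.isNilpotent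
  by_cases hsmall : Nat.card R ≤ 3 ^ 3
  · exact Or.inl (metacyclic_of_card_le hR hf hsmall)
  have h81 : 81 ≤ Nat.card R := by
    obtain ⟨k, hk⟩ := hR.exists_card_eq
    rw [hk] at hsmall ⊢
    exact le_trans (by norm_num) (Nat.pow_le_pow_right (show 0 < 3 by norm_num)
      (show 4 ≤ k from Nat.le_of_not_lt fun h => hsmall (Nat.pow_le_pow_right (by norm_num) (by omega))))
  by_cases hcyc : IsCyclic R
  · obtain ⟨x, hx⟩ := hcyc.exists_generator
    exact Or.inl (metacyclic_of_index_le hR (x := x) (p := 3)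
      (by rw [(eq_top_iff.2 fun g _ => hx g : zpowers x = ⊤), index_top]; norm_num))
  obtain ⟨E, -, hEn, hEe, hEc⟩ := CfsgLib.PGroup.exists_normal_rank_two hR (by norm_num) (⊤ : Subgroup R)
    (fun h => hcyc (Subgroup.topEquiv.isCyclic.1 h))
  haveI := hEn
  have hroots : ∀ x : R, x ^ 3 = 1 → x ∈ E := by
    intro x hx
    by_contra hxE
    have hlt : Nat.card E < Nat.card {x : R // x ^ 3 = 1} := by
      haveI := Fintype.ofFinite R
      rw [Nat.card_eq_fintype_card, Nat.card_eq_fintype_card]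
      exact Fintype.card_lt_of_injective_of_notMem
        (fun e : E => (⟨(e : R), hEe.2 e e.2⟩ : {x : R // x ^ 3 = 1}))
        (fun a b h => Subtype.ext (congrArg Subtype.val h :)) (b := ⟨x, hx⟩)
        (fun ⟨e, he⟩ => hxE (by rw [show x = (e : R) from (congrArg Subtype.val he).symm]; exact e.2))
    rw [hEc] at hlt
    exact absurd hf (not_le.2 hlt)
  set C := centralizer (E : Set R) with hC
  have hEC : E ≤ C := fun x hx => mem_centralizer_iff.2 fun y hy =>
    congrArg Subtype.val (isMulCommutative_iff.1 hEe.1 ⟨y, hy⟩ ⟨x, hx⟩)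
  have hCi : C.index ≤ 3 := by
    have h := CfsgLib.PGroup.index_centralizer_le_pow hR 2 E hEe.1 hEc
    simpa using h
  by_cases hsol : ∃ u : R, Nat.card (centralizer ({u} : Set R)) = 9
  · exact Or.inr hsol
  left
  push Not at hsol
  -- elements outside `C` have order at least `27`
  have hout : ∀ u : R, u ∉ C → 27 ≤ orderOf u := by
    intro u hu
    have hu3 : u ^ 3 ≠ 1 := fun h => hu (hEC (hroots u h))
    obtain ⟨k, hk⟩ := IsPGroup.iff_orderOf.1 hR u
    rcases Nat.lt_or_ge k 3 with hk3 | hk3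
    swap
    · rw [hk]; exact le_trans (by norm_num) (Nat.pow_le_pow_right (show 0 < 3 by norm_num) hk3)
    exfalso
    have hk2 : k = 2 := by
      by_contra hne
      exact hu3 (orderOf_dvd_iff_pow_eq_one.1 (hk ▸ (pow_dvd_pow 3 (show k ≤ 1 by omega)).trans (pow_one 3).dvd))
    subst hk2
    set D := centralizer ({u} : Set R) with hD
    have huD : u ∈ D := mem_centralizer_singleton_iff.2 rfl
    have hDroots : ∀ x y : D, x ^ 3 = 1 → y ^ 3 = 1 → x ≠ 1 → y ∈ zpowers x := by
      intro x y hx hy hx1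
      have hx' : (x : R) ∈ E := hroots _ (by rw [← coe_pow, hx]; rfl)
      have hy' : (y : R) ∈ E := hroots _ (by rw [← coe_pow, hy]; rfl)
      have hDE : Nat.card (D ⊓ E : Subgroup R) ≤ 3 := by
        obtain ⟨j, hj⟩ := (hR.to_subgroup (D ⊓ E)).exists_card_eq
        have hj2 : j ≠ 2 := fun h2 => hu (mem_centralizer_iff.2 fun w hw => by
          have : w ∈ D ⊓ E := by
            rw [eq_of_le_of_card_ge (inf_le_right : D ⊓ E ≤ E) (by rw [hEc, hj, h2])]
            exact hw
          exact mem_centralizer_singleton_iff.1 this.1)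
        have hj3 : j ≤ 2 := (Nat.pow_le_pow_iff_right (show 1 < 3 by norm_num)).1
          (hj ▸ hEc ▸ card_le_of_le inf_le_right)
        rw [hj]
        exact (Nat.pow_le_pow_right (show 0 < 3 by norm_num) (show j ≤ 1 by omega)).trans_eq (pow_one 3)
      have hz : zpowers (x : R) = D ⊓ E := by
        refine eq_of_le_of_card_ge (zpowers_le.2 ⟨x.2, hx'⟩) ?_
        rw [Nat.card_zpowers, orderOf_eq_prime (by rw [← coe_pow, hx]; rfl) (fun e => hx1 (Subtype.ext e))]
        exact hDE
      obtain ⟨i, hi⟩ := mem_zpowers_iff.1 (hz.ge ⟨y.2, hy'⟩)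
      exact ⟨i, Subtype.ext (by simpa using hi)⟩
    haveI := CfsgLib.Coprime.isCyclic_of_unique_odd (by norm_num) (hR.to_subgroup D) hDroots
    obtain ⟨⟨v, hv⟩, hvg⟩ := IsCyclic.exists_generator (α := D)
    obtain ⟨i, hi⟩ := hvg ⟨u, huD⟩
    have hi' : v ^ i = u := congrArg Subtype.val hi
    have hvo : orderOf v = Nat.card D := by
      have := orderOf_eq_card_of_forall_mem_zpowers hvg
      rwa [← Subgroup.orderOf_coe] at this
    obtain ⟨d, hd⟩ := (hR.to_subgroup D).exists_card_eq
    have hd2 : 2 ≤ d := by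
      have h1 : 3 ^ 2 ≤ 3 ^ d := by
        rw [← hd, ← hk]
        exact Nat.le_of_dvd Nat.card_pos (Subgroup.orderOf_dvd_natCard D huD)
      exact (Nat.pow_le_pow_iff_right (show 1 < 3 by norm_num)).1 h1
    have hd3 : 3 ≤ d := Nat.lt_of_le_of_ne hd2 fun h => hsol u (by rw [← hD, hd, ← h]; norm_num)
    -- `u` is then a cube
    have h3i : (3 : ℤ) ∣ i := by
      by_contra hnd
      have hco : IsCoprime i ((orderOf v : ℕ) : ℤ) := by
        rw [hvo, hd]; push_cast
        exact ((Int.prime_three.coprime_iff_not_dvd.2 hnd).symm.pow_right)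
      obtain ⟨e1, e2, he⟩ := hco
      have hv' : v ∈ zpowers u := ⟨e1, by
        show u ^ e1 = v
        rw [← hi', ← zpow_mul, mul_comm]
        calc v ^ (e1 * i) = v ^ (e1 * i + e2 * (orderOf v : ℤ)) := by
              rw [zpow_add, zpow_mul' v e2, zpow_natCast, pow_orderOf_eq_one, one_zpow, mul_one]
          _ = v := by rw [he, zpow_one]⟩
      have h1 : 3 ^ d ≤ 3 ^ 2 := by
        rw [← hd, ← hvo, ← hk, ← Nat.card_zpowers v, ← Nat.card_zpowers u]
        exact card_le_of_le (zpowers_le.2 hv')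
      have := (Nat.pow_le_pow_iff_right (show 1 < 3 by norm_num)).1 h1
      omega
    obtain ⟨q, rfl⟩ := h3i
    apply hu
    rw [← hi', zpow_mul]
    refine zpow_mem ?_ q
    rw [show v ^ (3 : ℤ) = v ^ 3 from zpow_ofNat v 3]
    rcases (show C.index = 1 ∨ C.index = 3 by
      obtain ⟨e, he⟩ := hR.index C
      rw [he] at hCi ⊢
      rcases Nat.lt_or_ge e 2 with h | h
      · interval_cases e <;> simp
      · exact absurd ((Nat.pow_le_pow_right (show 0 < 3 by norm_num) h).trans hCi) (by norm_num)) with h | h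
    · rw [index_eq_one.1 h]; trivial
    · haveI := normal_of_index hR h
      rw [← h]; exact pow_index_mem C v
  -- order `81`
  by_cases h243 : 243 ≤ Nat.card R
  · refine metacyclic_of_maximal _ R rfl hR (fun M hM => ?_) h243
    obtain ⟨hMn, hMi⟩ := index_of_isCoatom hR hM
    have hMc : Nat.card M * 3 = Nat.card R := by rw [← hMi, card_mul_index]
    by_cases hMcyc : IsCyclic M
    · obtain ⟨x, hx⟩ := hMcyc.exists_generator
      exact metacyclic_of_index_le (p := 3) (hR.to_subgroup M) (x := x)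
        (by rw [(eq_top_iff.2 fun g _ => hx g : zpowers x = ⊤), index_top]; norm_num)
    rcases ih _ (by omega) M rfl (hR.to_subgroup M) (hf.subgroup M) with h | ⟨u, hu⟩
    · exact h
    exfalso
    have hEM : E ≤ M := by
      obtain ⟨E', -, -, hE'e, hE'c⟩ := CfsgLib.PGroup.exists_normal_rank_two (hR.to_subgroup M)
        (by norm_num) (⊤ : Subgroup M) (fun h => hMcyc (Subgroup.topEquiv.isCyclic.1 h))
      have h1 : E'.map M.subtype = E := by
        refine eq_of_le_of_card_ge ?_ (by rw [hEc, card_map_of_injective M.subtype_injective, hE'c])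
        rintro _ ⟨y, hy, rfl⟩
        exact hroots _ (by rw [← map_pow, hE'e.2 y hy, map_one])
      exact h1 ▸ map_subtype_le _
    by_cases huC : (u : R) ∈ C
    · -- the centralizer is too large
      have hle : ∀ (H : Subgroup R), H ≤ M → (∀ w ∈ H, Commute w (u : R)) → Nat.card H ≤ 9 :=
        fun H hH hcomm => by
          rw [← hu, ← Nat.card_congr (subgroupOfEquivOfLe hH).toEquiv]
          exact card_le_of_le fun w hw => mem_centralizer_singleton_iff.2 (Subtype.ext (hcomm _ hw).eq)
      by_cases huE : (u : R) ∈ E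
      · have h1 := hle (C ⊓ M) inf_le_right fun w hw =>
          (mem_centralizer_iff.1 hw.1 _ huE).symm
        have h2 : Nat.card R ≤ Nat.card (C ⊓ M : Subgroup R) * (3 * 3) := by
          calc Nat.card R = Nat.card (C ⊓ M : Subgroup R) * (C ⊓ M).index := (card_mul_index _).symm
            _ ≤ _ := Nat.mul_le_mul_left _ ((index_inf_le (H := C) (K := M)).trans
                (Nat.mul_le_mul hCi hMi.le))
        omega
      · have h1 := hle (E ⊔ zpowers (u : R)) (sup_le hEM (zpowers_le.2 u.2)) fun w hw => by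
          have hle' : E ⊔ zpowers (u : R) ≤ centralizer ({(u : R)} : Set R) :=
            sup_le (fun e he => mem_centralizer_singleton_iff.2 (mem_centralizer_iff.1 huC e he))
              (zpowers_le.2 (mem_centralizer_singleton_iff.2 rfl))
          exact mem_centralizer_singleton_iff.1 (hle' hw)
        have h2 : E = E ⊔ zpowers (u : R) := eq_of_le_of_card_ge le_sup_left (by rw [hEc]; exact h1)
        exact huE (h2.ge (mem_sup_right (mem_zpowers _)))
    · have h1 : orderOf (u : R) ≤ 9 := by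
        rw [Subgroup.orderOf_coe, ← hu]
        exact Nat.le_of_dvd Nat.card_pos
          (Subgroup.orderOf_dvd_natCard _ (mem_centralizer_singleton_iff.2 rfl))
      have := hout _ huC
      omega
  · by_cases h27 : ∃ u : R, 27 ≤ orderOf u
    · obtain ⟨u, hu⟩ := h27
      refine metacyclic_of_index_le (p := 3) hR (x := u) ?_
      have h1 := (zpowers u).card_mul_index
      rw [Nat.card_zpowers] at h1
      have h2 : 27 * (zpowers u).index ≤ Nat.card R := h1 ▸ Nat.mul_le_mul_right _ hu
      obtain ⟨k, hk⟩ := hR.exists_card_eq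
      have hk5 : k < 5 := (Nat.pow_lt_pow_iff_right (show 1 < 3 by norm_num)).1 (by rw [← hk]; norm_num; omega)
      have hk81 : Nat.card R ≤ 81 := by
        rw [hk]; exact (Nat.pow_le_pow_right (show 0 < 3 by norm_num) (show k ≤ 4 by omega)).trans (by norm_num)
      omega
    push Not at h27
    have hCtop : C = ⊤ := eq_top_iff.2 fun x _ => by
      by_contra hx
      exact (hout x hx).not_gt (h27 x)
    have hEz : E ≤ center R := fun e he => mem_center_iff.2 fun g => by
      have hg : g ∈ C := hCtop ▸ mem_top g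
      exact (mem_centralizer_iff.1 hg e he).symm
    obtain ⟨k, hk⟩ := hR.exists_card_eq
    have hk4 : Nat.card R = 81 := by
      have hk5 : k < 5 := (Nat.pow_lt_pow_iff_right (show 1 < 3 by norm_num)).1 (by rw [← hk]; norm_num; omega)
      have hk4' : 4 ≤ k := (Nat.pow_le_pow_iff_right (show 1 < 3 by norm_num)).1 (by rw [← hk]; norm_num; omega)
      rw [hk, show k = 4 by omega]; norm_num
    have hQc : Nat.card (R ⧸ E) = 3 ^ 2 := by
      have h := E.card_eq_card_quotient_mul_card_subgroup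
      rw [hk4, hEc] at h
      omega
    have hQcomm := IsPGroup.commutative_of_card_eq_prime_sq hQc
    have hdE : commutator R ≤ E := by
      rw [_root_.commutator_def, commutator_le]
      intro g _ h _
      rw [← QuotientGroup.eq_one_iff]
      show QuotientGroup.mk' E ⁅g, h⁆ = 1
      rw [map_commutatorElement, commutatorElement_eq_one_iff_mul_comm]
      exact hQcomm _ _
    refine metacyclic_of_small_derived hR (by norm_num) ?_ hf
    by_contra hbig
    have hdeq : commutator R = E := by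
      refine eq_of_le_of_card_ge hdE ?_
      obtain ⟨j, hj⟩ := (hR.to_subgroup (commutator R)).exists_card_eq
      rw [hEc, hj]
      refine Nat.pow_le_pow_right (by norm_num) (Nat.le_of_not_lt fun h => hbig ?_)
      rw [hj]
      exact (Nat.pow_le_pow_right (show 0 < 3 by norm_num) (Nat.le_of_lt_succ h)).trans_eq (pow_one 3)
    have hΦidx : (frattini R).index = 3 ^ 2 := by
      obtain ⟨e, he⟩ := hR.index (frattini R)
      rw [he]
      have he2 : 2 ≤ e := Nat.le_of_not_lt fun h => hcyc
        (CfsgLib.RankTwoOmega.isCyclic_of_index_frattini hR (he ▸ (Nat.pow_le_pow_right (by norm_num)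
          (Nat.le_of_lt_succ h)).trans_eq (pow_one 3)))
      have hle : (3 : ℕ) ^ e ≤ 3 ^ 2 := by
        rw [← he, ← hQc, ← index_eq_card]
        exact Nat.le_of_dvd (Nat.pos_of_ne_zero index_ne_zero_of_finite)
          (index_dvd_of_le (hdeq ▸ CfsgLib.Coprime.commutator_le_frattini hR))
      rw [show e = 2 from le_antisymm ((Nat.pow_le_pow_iff_right (show 1 < 3 by norm_num)).1 hle) he2]
    -- two generators and a central derived group give a cyclic derived group
    obtain ⟨a, ha⟩ := SetLike.exists_not_mem_of_ne_top (frattini R) (fun e => by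
      rw [e, index_top] at hΦidx; norm_num at hΦidx)
    have hMc := CfsgLib.Coprime.card_sup_zpowers_of_frattini_le hR le_rfl ha
    have hΦc : Nat.card (frattini R) = 9 := by
      have h := (frattini R).card_mul_index
      rw [hΦidx, hk4] at h
      omega
    obtain ⟨b, hb⟩ := SetLike.exists_not_mem_of_ne_top (frattini R ⊔ zpowers a) (fun e => by
      rw [e, card_top, hk4, hΦc] at hMc; omega)
    have h3 := CfsgLib.Coprime.card_sup_zpowers_of_frattini_le hR (le_sup_left : frattini R ≤ _) hb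
    have hgen : closure ({a, b} : Set R) = ⊤ := by
      refine frattini_nongenerating ?_
      have h4 : (frattini R ⊔ zpowers a) ⊔ zpowers b = ⊤ := by
        rw [← Subgroup.card_eq_iff_eq_top, h3, hMc, hΦc, hk4]
      rw [eq_top_iff, ← h4]
      refine sup_le (sup_le le_sup_right ?_) ?_ <;> refine zpowers_le.2 (mem_sup_left (subset_closure ?_))
      · exact Or.inl rfl
      · exact Or.inr rfl
    have hcl : ∀ g h : R, ⁅g, h⁆ ∈ center R := fun g h =>
      hEz (hdE (commutator_mem_commutator (mem_top g) (mem_top h)))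
    set c := ⁅a, b⁆
    haveI : (zpowers c).Normal := ⟨fun t ht g => by
      rw [mem_center_iff.1 ((zpowers_le.2 (hcl a b)) ht) g, mul_inv_cancel_right]; exact ht⟩
    have hdc : commutator R ≤ zpowers c := by
      set ρ := QuotientGroup.mk' (zpowers c)
      have hab2 : Commute (ρ a) (ρ b) := by
        refine (commutatorElement_eq_one_iff_mul_comm.1 ?_ : ρ a * ρ b = ρ b * ρ a)
        rw [← map_commutatorElement]
        exact (QuotientGroup.eq_one_iff _).2 (mem_zpowers c)
      have hall : ∀ g : R, Commute (ρ g) (ρ a) ∧ Commute (ρ g) (ρ b) := fun g => by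
        have hg : g ∈ closure ({a, b} : Set R) := hgen.ge (mem_top g)
        induction hg using closure_induction with
        | mem x hx =>
          rcases hx with rfl | rfl
          · exact ⟨Commute.refl _, hab2⟩
          · exact ⟨hab2.symm, Commute.refl _⟩
        | one => rw [map_one]; exact ⟨Commute.one_left _, Commute.one_left _⟩
        | mul x y _ _ hx hy => rw [map_mul]; exact ⟨hx.1.mul_left hy.1, hx.2.mul_left hy.2⟩
        | inv x _ hx => rw [map_inv]; exact ⟨hx.1.inv_left, hx.2.inv_left⟩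
      rw [_root_.commutator_def, commutator_le]
      intro g _ h _
      rw [← QuotientGroup.eq_one_iff]
      show ρ ⁅g, h⁆ = 1
      rw [map_commutatorElement, commutatorElement_eq_one_iff_mul_comm]
      have hh : h ∈ closure ({a, b} : Set R) := hgen.ge (mem_top h)
      induction hh using closure_induction with
      | mem x hx => rcases hx with rfl | rfl; exacts [(hall g).1.eq, (hall g).2.eq]
      | one => simp
      | mul x y _ _ hx hy =>
      rw [map_mul]
      exact ((show Commute (ρ g) (ρ x) from hx (mem_top _)).mul_right (hy (mem_top _))).eq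
      | inv x _ hx => rw [map_inv]; exact (show Commute (ρ g) (ρ x) from hx (mem_top _)).inv_right.eq
    refine hbig ((card_le_of_le hdc).trans ?_)
    rw [Nat.card_zpowers]
    exact Nat.le_of_dvd (by norm_num) (orderOf_dvd_of_pow_eq_one
      (hEe.2 _ (hdE (commutator_mem_commutator (mem_top a) (mem_top b)))))

end CfsgLib.RankTwoThree
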