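import Cfsg.Agent.Lib.PGroup.OrderFifth

/-!
# Groups of order `p⁵` with an element with centralizer of order `p²` and no abelian subgroup of
index `p`

With `K₁` the centralizer of `γ₃`, the weights `a`, `η`, `b` of an automorphism on `G / K₁`,
`K₁ / γ₂` and `γ₄` satisfy `a³η = b` and `aη² = b`.
-/

set_option autoImplicit false
set_option linter.style.haveILetI false
set_option linter.unusedSectionVars false

open Subgroup
open scoped commutatorElement

namespace CfsgLib.PGroup.OrderFifth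

open CfsgLib.Fusion.LineTorus (zpow_congr cast_of_zpow_eq)
open CfsgLib.MaxClassShift (gam Small gam_comm gam_anti gam_normal)

universe u

variable {G : Type u} [Group G] [Finite G] {p : ℕ} [Fact p.Prime] {x : G}

/-- The centralizer of `γ₃`. -/
def upK (G : Type u) [Group G] : Subgroup G := centralizer (gam G 3 : Set G)

theorem mem_upK {g : G} : g ∈ upK G ↔ ∀ w ∈ gam G 3, w * g = g * w := mem_centralizer_iff

theorem upK_normal : (upK G).Normal := ⟨fun n hn g => mem_upK.2 fun w hw => by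
  have h1 := mem_upK.1 hn _ ((gam_normal (G := G) 3).conj_mem w hw g⁻¹)
  calc w * (g * n * g⁻¹) = g * (g⁻¹ * w * g⁻¹⁻¹ * n) * g⁻¹ := by group
    _ = g * (n * (g⁻¹ * w * g⁻¹⁻¹)) * g⁻¹ := by rw [h1]
    _ = g * n * g⁻¹ * w := by group⟩

theorem map_gam (α : MulAut G) (k : ℕ) {g : G} (hg : g ∈ gam G k) : α g ∈ gam G k := by
  haveI : (gam G k).Characteristic := inferInstance
  exact (characteristic_iff_le_comap.1 inferInstance α) hg

theorem map_upK (α : MulAut G) {g : G} (hg : g ∈ upK G) : α g ∈ upK G := mem_upK.2 fun w hw => by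
  obtain ⟨v, rfl⟩ := α.surjective w
  have hv : v ∈ gam G 3 := by
    have := map_gam α⁻¹ 3 hw
    rwa [MulAut.inv_apply_self] at this
  rw [← map_mul, ← map_mul, mem_upK.1 hg v hv]

variable (h : Small x p 5)
include h

theorem card_derived : Nat.card (commutator G) = p ^ 3 := by
  have e : gam G 2 = commutator G := rfl
  rw [← e, h.card_gam le_rfl (by norm_num)]

theorem gam_four_central (g : G) {z : G} (hz : z ∈ gam G 4) : ⁅g, z⁆ = 1 := by
  have h1 := gam_comm (a := 1) (b := 4) le_rfl (by norm_num) (mem_top g) hz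
  rwa [h.gam_eq_bot le_rfl, mem_bot] at h1

theorem gam_two_three {c w : G} (hc : c ∈ gam G 2) (hw : w ∈ gam G 3) : ⁅c, w⁆ = 1 := by
  have h1 := gam_comm (a := 2) (b := 3) (by norm_num) (by norm_num) hc hw
  rwa [h.gam_eq_bot le_rfl, mem_bot] at h1

theorem gam_two_le_upK : gam G 2 ≤ upK G := fun _ hc => mem_upK.2 fun _ hw =>
  (commutatorElement_eq_one_iff_mul_comm.1 (gam_two_three h hc hw)).symm

theorem step_gam {k : ℕ} (h2 : 2 ≤ k) (h4 : k ≤ 4) :
    Nat.card (gam G k) = p * Nat.card (gam G (k + 1)) := by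
  rw [h.card_gam h2 (by omega), h.card_gam (by omega) (by omega), ← pow_succ']
  congr 1; omega

theorem comm_x_notMem {k : ℕ} (h2 : 2 ≤ k) (hk : k + 2 ≤ 5) {b : G} (hb : b ∈ gam G k)
    (hb' : b ∉ gam G (k + 1)) : ⁅x, b⁆ ∉ gam G (k + 2) := fun hc => hb' (by
  refine h.mem_of_comm h2 hk hb ?_
  have h1 := (gam_normal (G := G) (k + 2)).conj_mem _ hc b⁻¹
  rwa [show b⁻¹ * ⁅x, b⁆ * b⁻¹⁻¹ = ⁅b⁻¹, x⁆ by simp only [commutatorElement_def]; group] at h1)

theorem x_notMem_upK : x ∉ upK G := fun hx => by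
  obtain ⟨y3, hy3, hy3'⟩ : ∃ y3 ∈ gam G 3, y3 ∉ gam G 4 := by
    obtain ⟨y, h1, h2, -⟩ := CfsgLib.Fusion.LineTorus.exists_gen (p := p) (gam_anti (G := G) (show 3 ≤ 4 by norm_num))
      (step_gam h (by norm_num) (by norm_num))
    exact ⟨y, h1, h2⟩
  refine comm_x_notMem h (by norm_num) le_rfl hy3 hy3' ?_
  rw [commutatorElement_eq_one_iff_mul_comm.2 (mem_upK.1 hx y3 hy3).symm]
  exact one_mem _

theorem card_upK : Nat.card (upK G) = p ^ 4 := by
  have hp := (Fact.out : p.Prime)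
  obtain ⟨y3, hy3, hy3'⟩ : ∃ y3 ∈ gam G 3, y3 ∉ gam G 4 := by
    obtain ⟨y, h1, h2, -⟩ := CfsgLib.Fusion.LineTorus.exists_gen (p := p) (gam_anti (G := G) (show 3 ≤ 4 by norm_num))
      (step_gam h (by norm_num) (by norm_num))
    exact ⟨y, h1, h2⟩
  haveI := gam_normal (G := G) 4
  obtain ⟨-, hgen⟩ := gen_step (gam_anti (G := G) (show 3 ≤ 4 by norm_num))
    (step_gam h (by norm_num) (by norm_num)) hy3 hy3'
  let f : G →* gam G 4 := MonoidHom.mk'
    (fun g => ⟨⁅g, y3⁆, gam_comm (a := 1) (b := 3) le_rfl (by norm_num) (mem_top g) hy3⟩)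
    fun a b => Subtype.ext (by
      show ⁅a * b, y3⁆ = ⁅a, y3⁆ * ⁅b, y3⁆
      have hc : ∀ g : G, g * ⁅b, y3⁆ = ⁅b, y3⁆ * g := fun g => commutatorElement_eq_one_iff_mul_comm.1
        (gam_four_central h g (gam_comm (a := 1) (b := 3) le_rfl (by norm_num) (mem_top b) hy3))
      calc ⁅a * b, y3⁆ = a * ⁅b, y3⁆ * y3 * a⁻¹ * y3⁻¹ := by simp only [commutatorElement_def]; group
        _ = ⁅b, y3⁆ * a * y3 * a⁻¹ * y3⁻¹ := by rw [hc a]
        _ = ⁅b, y3⁆ * ⁅a, y3⁆ := by simp only [commutatorElement_def]; group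
        _ = ⁅a, y3⁆ * ⁅b, y3⁆ := (hc _).symm)
  have hker : f.ker ≤ upK G := fun g hg => mem_upK.2 fun w hw => by
    have hgy : Commute g y3 :=
      commutatorElement_eq_one_iff_commute.1 (congrArg Subtype.val (MonoidHom.mem_ker.1 hg))
    obtain ⟨j, hj, -⟩ := hgen w hw
    have := (hgy.zpow_right j).mul_right
      (commutatorElement_eq_one_iff_commute.1 (gam_four_central h g hj))
    rw [mul_inv_cancel_left] at this
    exact this.eq.symm
  refine le_antisymm ?_ ?_
  · refine card_normal_sub h.isPGroup (show upK G < ⊤ from lt_top_iff_ne_top.2 fun e =>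
      x_notMem_upK h (e ▸ mem_top x)) (by rw [card_top, h.card])
  · refine le_trans ?_ (Subgroup.card_le_of_le hker)
    have e := f.ker.card_mul_index
    rw [index_ker, h.card] at e
    have h1 : Nat.card f.range ≤ p := (Subgroup.card_le_card_group f.range).trans
      (by rw [h.card_gam (k := 4) (by norm_num) (by norm_num)]; norm_num)
    refine Nat.le_of_mul_le_mul_left ?_ hp.pos
    calc p * p ^ 4 = Nat.card f.ker * Nat.card f.range := by rw [e]; ring
      _ ≤ Nat.card f.ker * p := Nat.mul_le_mul_left _ h1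
      _ = p * Nat.card f.ker := mul_comm _ _

theorem upK_steps : Nat.card (upK G) = p * Nat.card (gam G 2) ∧
    Nat.card (⊤ : Subgroup G) = p * Nat.card (upK G) := by
  rw [card_upK h, h.card_gam le_rfl (by norm_num), card_top, h.card]
  exact ⟨by ring, by ring⟩

/-- The elements `y`, `[x, y]`, `[y, [x, y]]`. -/
theorem upK_data (hn : NoAb p G) {y : G} (hy : y ∈ upK G) (hy2 : y ∉ gam G 2) :
    ⁅x, y⁆ ∈ gam G 2 ∧ ⁅x, y⁆ ∉ gam G 3 ∧ ⁅y, ⁅x, y⁆⁆ ∈ gam G 4 ∧ ⁅y, ⁅x, y⁆⁆ ≠ 1 ∧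
      (∀ c ∈ gam G 2, ∀ d ∈ gam G 2, c * d = d * c) ∧
      ∀ u ∈ upK G, ∀ v ∈ upK G, ⁅u, v⁆ ∈ gam G 4 := by
  obtain ⟨hK2, hKG⟩ := upK_steps h
  haveI := upK_normal (G := G)
  haveI := gam_normal (G := G) 2
  haveI := gam_normal (G := G) 3
  haveI := gam_normal (G := G) 4
  obtain ⟨-, hgenK⟩ := gen_step (gam_two_le_upK h) hK2 hy hy2
  obtain ⟨-, hgenG⟩ := gen_step (le_top (a := upK G)) hKG (mem_top x) (x_notMem_upK h)
  set y2 := ⁅x, y⁆ with hy2def
  have hy2g : y2 ∈ gam G 2 := gam_comm (a := 1) (b := 1) le_rfl le_rfl (mem_top x) (mem_top y)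
  have hy23 : y2 ∉ gam G 3 := by
    intro hc
    have hle : gam G 2 ≤ gam G 3 := by
      set π := QuotientGroup.mk' (gam G 3)
      have h2c : ∀ w ∈ gam G 2, ∀ g : G, Commute (π w) (π g) := fun w hw g =>
        mk_commute (gam_comm (a := 2) (b := 1) (by norm_num) le_rfl hw (mem_top g))
      have hxy : Commute (π x) (π y) := mk_commute hc
      have hKc : ∀ u ∈ upK G, Commute (π x) (π u) ∧ Commute (π y) (π u) := fun u hu => by
        obtain ⟨i, hi, -⟩ := hgenK u hu
        have a1 := (hxy.zpow_right i).mul_right (h2c _ hi x).symm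
        have a2 := ((Commute.refl (π y)).zpow_right i).mul_right (h2c _ hi y).symm
        rw [← map_zpow, ← map_mul, mul_inv_cancel_left] at a1 a2
        exact ⟨a1, a2⟩
      have hKK : ∀ u ∈ upK G, ∀ v ∈ upK G, Commute (π u) (π v) := fun u hu v hv => by
        obtain ⟨i, hi, -⟩ := hgenK u hu
        have := ((hKc v hv).2.zpow_left i).mul_left (h2c _ hi v)
        rwa [← map_zpow, ← map_mul, mul_inv_cancel_left] at this
      have hall : ∀ a b : G, Commute (π a) (π b) := fun a b => by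
        obtain ⟨i, hi, -⟩ := hgenG a (mem_top a)
        obtain ⟨j, hj, -⟩ := hgenG b (mem_top b)
        have c1 : Commute (π x) (π b) := by
          have := ((Commute.refl (π x)).zpow_right j).mul_right (hKc _ hj).1
          rwa [← map_zpow, ← map_mul, mul_inv_cancel_left] at this
        have c2 : Commute (π ((x ^ i)⁻¹ * a)) (π b) := by
          have := ((hKc _ hi).1.symm.zpow_right j).mul_right (hKK _ hi _ hj)
          rwa [← map_zpow, ← map_mul, mul_inv_cancel_left] at this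
        have := (c1.zpow_left i).mul_left c2
        rwa [← map_zpow, ← map_mul, mul_inv_cancel_left] at this
      show ⁅(⊤ : Subgroup G), ⊤⁆ ≤ gam G 3
      refine commutator_le.2 fun a _ b _ => ?_
      rw [← QuotientGroup.eq_one_iff, ← QuotientGroup.mk'_apply, map_commutatorElement]
      exact commutatorElement_eq_one_iff_commute.2 (hall a b)
    have h1 := Subgroup.card_le_of_le hle
    rw [h.card_gam le_rfl (by norm_num), h.card_gam (k := 3) (by norm_num) (by norm_num)] at h1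
    exact absurd ((Nat.pow_le_pow_iff_right (Fact.out : p.Prime).one_lt).1 h1) (by norm_num)
  obtain ⟨-, hgen2⟩ := gen_step (gam_anti (G := G) (show 2 ≤ 3 by norm_num))
    (step_gam h le_rfl (by norm_num)) hy2g hy23
  have h22 : ∀ c ∈ gam G 2, ∀ d ∈ gam G 2, Commute c d := by
    intro c hc d hd
    obtain ⟨i, hi, -⟩ := hgen2 c hc
    obtain ⟨j, hj, -⟩ := hgen2 d hd
    have c3 : ∀ w ∈ gam G 2, ∀ v ∈ gam G 3, Commute w v := fun w hw v hv =>
      commutatorElement_eq_one_iff_commute.1 (gam_two_three h hw hv)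
    have a1 : Commute y2 d := by
      have := ((Commute.refl y2).zpow_right j).mul_right (c3 y2 hy2g _ hj)
      rwa [mul_inv_cancel_left] at this
    have := (a1.zpow_left i).mul_left (c3 d hd _ hi).symm
    rwa [mul_inv_cancel_left] at this
  -- `[y, y₂]` is centralized by `x`
  set w := ⁅y, y2⁆ with hw
  have hw2 : w ∈ gam G 2 := gam_comm (a := 1) (b := 1) le_rfl le_rfl (mem_top y) (mem_top y2)
  set y3 := ⁅x, y2⁆ with hy3def
  have hy3 : y3 ∈ gam G 3 := gam_comm (a := 1) (b := 2) le_rfl (by norm_num) (mem_top x) hy2g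
  have hyy3 : Commute y y3 := (mem_upK.1 hy y3 hy3).symm
  have h23 : Commute y2 y3 := h22 _ hy2g _ (gam_anti (by norm_num) hy3)
  have e1 : ⁅y, y3 * y2⁆ = w := by
    calc ⁅y, y3 * y2⁆ = ⁅y, y3⁆ * (y3 * w * y3⁻¹) := by
          simp only [hw, commutatorElement_def]; group
      _ = w := by
        rw [commutatorElement_eq_one_iff_commute.2 hyy3, one_mul,
          (h22 _ (gam_anti (by norm_num) hy3) _ hw2).eq, mul_inv_cancel_right]
  have hxw : Commute x w := by
    have e : x * w * x⁻¹ = ⁅y2 * y, y3 * y2⁆ := by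
      simp only [hw, hy2def, hy3def, commutatorElement_def]; group
    have e2 : ⁅y2 * y, y3 * y2⁆ = w := by
      calc ⁅y2 * y, y3 * y2⁆ = y2 * ⁅y, y3 * y2⁆ * y2⁻¹ * ⁅y2, y3 * y2⁆ := by
            simp only [commutatorElement_def]; group
        _ = w := by
          rw [e1, commutatorElement_eq_one_iff_commute.2 (h23.mul_right (Commute.refl y2)), mul_one,
            (h22 _ hy2g _ hw2).eq, mul_inv_cancel_right]
    have := e.trans e2
    exact mul_inv_eq_iff_eq_mul.1 this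
  have hw4 : w ∈ gam G 4 := by
    have : w ∈ centralizer ({x} : Set G) ⊓ gam G 2 :=
      ⟨mem_centralizer_singleton_iff.2 hxw.symm.eq, hw2⟩
    rwa [h.inf_centralizer] at this
  have hyc3 : ∀ v ∈ gam G 3, Commute y v := fun v hv => (mem_upK.1 hy v hv).symm
  refine ⟨hy2g, hy23, hw4, fun hw1 => hn _ (card_upK h) fun a ha b hb => ?_,
    fun c hc d hd => (h22 c hc d hd).eq, fun u hu v hv => ?_⟩
  · have hy2c : ∀ d ∈ gam G 2, Commute y d := fun d hd => by
      obtain ⟨j, hj, -⟩ := hgen2 d hd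
      have := ((commutatorElement_eq_one_iff_commute.1 hw1).zpow_right j).mul_right (hyc3 _ hj)
      rwa [mul_inv_cancel_left] at this
    obtain ⟨i, hi, -⟩ := hgenK a ha
    obtain ⟨j, hj, -⟩ := hgenK b hb
    have a1 : Commute y b := by
      have := ((Commute.refl y).zpow_right j).mul_right (hy2c _ hj)
      rwa [mul_inv_cancel_left] at this
    have a2 : Commute ((y ^ i)⁻¹ * a) b := by
      have := ((hy2c _ hi).symm.zpow_right j).mul_right (h22 _ hi _ hj)
      rwa [mul_inv_cancel_left] at this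
    have := (a1.zpow_left i).mul_left a2
    rw [mul_inv_cancel_left] at this
    exact this.eq
  · set π := QuotientGroup.mk' (gam G 4)
    have hy2c : ∀ d ∈ gam G 2, Commute (π y) (π d) := fun d hd => by
      obtain ⟨j, hj, -⟩ := hgen2 d hd
      have hc : Commute (π y) (π y2) := mk_commute hw4
      have := (hc.zpow_right j).mul_right ((hyc3 _ hj).map π)
      rwa [← map_zpow, ← map_mul, mul_inv_cancel_left] at this
    obtain ⟨i, hi, -⟩ := hgenK u hu
    obtain ⟨j, hj, -⟩ := hgenK v hv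
    have a1 : Commute (π y) (π v) := by
      have := ((Commute.refl (π y)).zpow_right j).mul_right (hy2c _ hj)
      rwa [← map_zpow, ← map_mul, mul_inv_cancel_left] at this
    have a2 : Commute (π ((y ^ i)⁻¹ * u)) (π v) := by
      have := ((hy2c _ hi).symm.zpow_right j).mul_right ((h22 _ hi _ hj).map π)
      rwa [← map_zpow, ← map_mul, mul_inv_cancel_left] at this
    have := (a1.zpow_left i).mul_left a2
    rw [← map_zpow, ← map_mul, mul_inv_cancel_left] at this
    rw [← QuotientGroup.eq_one_iff, ← QuotientGroup.mk'_apply, map_commutatorElement]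
    exact commutatorElement_eq_one_iff_commute.2 this

/-- The weights of an automorphism. -/
theorem weights (hn : NoAb p G) (α : MulAut G) {a b : ℤ} (hxa : (x ^ a)⁻¹ * α x ∈ upK G)
    (hb : ∀ z ∈ gam G 4, α z = z ^ b) {y : G} (hy : y ∈ upK G) (hy2 : y ∉ gam G 2) :
    ∃ η : ℤ, (y ^ η)⁻¹ * α y ∈ gam G 2 ∧ (a : ZMod p) * a * a * η = b ∧
      (a : ZMod p) * η * η = b := by
  obtain ⟨hy2g, hy23, hw4, hwne, h22, hKK⟩ := upK_data h hn hy hy2
  obtain ⟨hK2, -⟩ := upK_steps h
  haveI := gam_normal (G := G) 2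
  haveI := gam_normal (G := G) 3
  haveI := gam_normal (G := G) 4
  obtain ⟨η, hη, -⟩ := (gen_step (gam_two_le_upK h) hK2 hy hy2).2 _ (map_upK α hy)
  refine ⟨η, hη, ?_⟩
  set y2 := ⁅x, y⁆ with hy2def
  set y3 := ⁅x, y2⁆ with hy3def
  have hy3 : y3 ∈ gam G 3 := gam_comm (a := 1) (b := 2) le_rfl (by norm_num) (mem_top x) hy2g
  have hy34 : y3 ∉ gam G 4 := comm_x_notMem h le_rfl (by norm_num) hy2g hy23
  set z := ⁅x, y3⁆ with hzdef
  have hz : z ∈ gam G 4 := gam_comm (a := 1) (b := 3) le_rfl (by norm_num) (mem_top x) hy3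
  have hz1 : z ≠ 1 := fun e => comm_x_notMem h (by norm_num) le_rfl hy3 hy34 (by
    rw [← hzdef, e]; exact one_mem _)
  set u := (x ^ a)⁻¹ * α x with hu
  have ex : α x = x ^ a * u := by rw [hu, mul_inv_cancel_left]
  set v := (y ^ η)⁻¹ * α y with hv
  have ey : α y = y ^ η * v := by rw [hv, mul_inv_cancel_left]
  have k2 := gam_two_le_upK h
  have t14 : gam G 4 ≤ gam G 3 := gam_anti (by norm_num)
  have c1 : ∀ (g : G) {c : G}, c ∈ gam G 2 → ⁅g, c⁆ ∈ gam G 3 := fun g _ hc =>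
    gam_comm (a := 1) (b := 2) le_rfl (by norm_num) (mem_top g) hc
  have c1' : ∀ (g : G) {c : G}, c ∈ gam G 2 → ⁅c, g⁆ ∈ gam G 3 := fun g _ hc =>
    gam_comm (a := 2) (b := 1) (by norm_num) le_rfl hc (mem_top g)
  have c2 : ∀ (g : G) {c : G}, c ∈ gam G 3 → ⁅g, c⁆ ∈ gam G 4 := fun g _ hc =>
    gam_comm (a := 1) (b := 3) le_rfl (by norm_num) (mem_top g) hc
  have c2' : ∀ (g : G) {c : G}, c ∈ gam G 3 → ⁅c, g⁆ ∈ gam G 4 := fun g _ hc =>
    gam_comm (a := 3) (b := 1) (by norm_num) le_rfl hc (mem_top g)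
  have one_bot : ∀ {t : G}, t = 1 → t ∈ (⊥ : Subgroup G) := fun ht => mem_bot.2 ht
  have cK : ∀ {g c : G}, g ∈ upK G → c ∈ gam G 3 → ⁅g, c⁆ = 1 := fun hg hc =>
    commutatorElement_eq_one_iff_mul_comm.2 (mem_upK.1 hg _ hc).symm
  have cen : ∀ (g : G) {c : G}, c ∈ gam G 4 → ⁅c, g⁆ = 1 := fun g c hc => by
    rw [← commutatorElement_inv, gam_four_central h g hc, inv_one]
  -- `y₂` modulo `γ₃`
  have e2 := comm_wt (W := gam G 3) α ex ey (c1 x hη) (t14 (hKK u hxa y hy))
    (t14 (hKK u hxa v (k2 hη))) (c1' x hy2g) (c1' y hy2g)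
  rw [← hy2def, ← QuotientGroup.mk_zpow] at e2
  set v2 := (y2 ^ (a * η))⁻¹ * α y2 with hv2
  have hv2m : v2 ∈ gam G 3 := QuotientGroup.eq.1 e2.symm
  have ey2 : α y2 = y2 ^ (a * η) * v2 := by rw [hv2, mul_inv_cancel_left]
  -- `y₃` modulo `γ₄`
  have e3 := comm_wt (W := gam G 4) α ex ey2 (c2 x hv2m) (hKK u hxa y2 (k2 hy2g))
    (hKK u hxa v2 (k2 (gam_anti (by norm_num) hv2m))) (c2' x hy3) (c2' y2 hy3)
  rw [← hy3def, ← QuotientGroup.mk_zpow] at e3
  set v3 := (y3 ^ (a * (a * η)))⁻¹ * α y3 with hv3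
  have hv3m : v3 ∈ gam G 4 := QuotientGroup.eq.1 e3.symm
  have ey3 : α y3 = y3 ^ (a * (a * η)) * v3 := by rw [hv3, mul_inv_cancel_left]
  have hzp : ∀ {c : G}, c ∈ gam G 4 → (c : G ⧸ (⊥ : Subgroup G)) ^ p = 1 := fun {c} hc => by
    have h1 := pow_card_eq_one' (x := (⟨c, hc⟩ : gam G 4))
    rw [h.card_gam (k := 4) (by norm_num) (by norm_num)] at h1
    norm_num at h1
    rw [← QuotientGroup.mk_pow, QuotientGroup.eq_one_iff]
    exact one_bot h1
  constructor
  · have e4 := comm_wt (W := (⊥ : Subgroup G)) α ex ey3 (one_bot (gam_four_central h x hv3m))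
      (one_bot (cK hxa hy3)) (one_bot (gam_four_central h u hv3m))
      (one_bot (cen x hz)) (one_bot (cen y3 hz))
    rw [← hzdef, hb z hz, QuotientGroup.mk_zpow] at e4
    have := wt_eq (p := p) (fun e => hz1 (mem_bot.1 e)) (hzp hz) e4
    push_cast at this
    rw [this]; ring
  · have e5 := comm_wt (W := (⊥ : Subgroup G)) α ey ey2 (one_bot (cK hy hv2m))
      (one_bot (commutatorElement_eq_one_iff_mul_comm.2 (h22 v hη y2 hy2g)))
      (one_bot (gam_two_three h hη hv2m)) (one_bot (cen y hw4)) (one_bot (cen y2 hw4))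
    rw [hb _ hw4, QuotientGroup.mk_zpow] at e5
    have := wt_eq (p := p) (fun e => hwne (mem_bot.1 e)) (hzp hw4) e5
    push_cast at this
    rw [this]; ring

theorem exists_mem_upK : ∃ y ∈ upK G, y ∉ gam G 2 := by
  haveI := gam_normal (G := G) 2
  obtain ⟨y, h1, h2, -⟩ := CfsgLib.Fusion.LineTorus.exists_gen (p := p) (gam_two_le_upK h)
    (upK_steps h).1
  exact ⟨y, h1, h2⟩

/-- For `p = 3` every automorphism is trivial on `K₁ / γ₂`. -/
theorem fix_upK (hn : NoAb p G) (hp3 : p = 3) (α : MulAut G) {y : G} (hy : y ∈ upK G)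
    (hy2 : y ∉ gam G 2) : y⁻¹ * α y ∈ gam G 2 := by
  haveI := upK_normal (G := G)
  haveI := gam_normal (G := G) 2
  haveI := gam_normal (G := G) 4
  obtain ⟨hKG, hxp⟩ : Nat.card (⊤ : Subgroup G) = p * Nat.card (upK G) ∧ True :=
    ⟨(upK_steps h).2, trivial⟩
  obtain ⟨hxq, hgenG⟩ := gen_step (le_top (a := upK G)) hKG (mem_top x) (x_notMem_upK h)
  obtain ⟨a, ha, -⟩ := hgenG (α x) (mem_top _)
  have ha0 : (a : ZMod p) ≠ 0 := fun e0 => by
    have h1 : x ^ a ∈ upK G := by
      rw [← QuotientGroup.eq_one_iff, QuotientGroup.mk_zpow, zpow_congr hxq (s := 0)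
        (by simpa using e0), zpow_zero]
    have h2 : α x ∈ upK G := by
      have := mul_mem h1 ha
      rwa [mul_inv_cancel_left] at this
    have h3 := map_upK α⁻¹ h2
    rw [MulAut.inv_apply_self] at h3
    exact x_notMem_upK h h3
  have hz4 : Nat.card (gam G 4) = p := by
    rw [h.card_gam (k := 4) (by norm_num) (by norm_num), show 5 - 4 = 1 from rfl, pow_one]
  obtain ⟨z, hz, hz1, -⟩ := CfsgLib.Fusion.LineTorus.exists_gen (p := p) (bot_le : ⊥ ≤ gam G 4)
    (by rw [hz4, card_bot, mul_one])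
  obtain ⟨-, hgen4⟩ := gen_step (bot_le : ⊥ ≤ gam G 4) (by rw [hz4, card_bot, mul_one]) hz hz1
  obtain ⟨b, hb, -⟩ := hgen4 (α z) (map_gam α 4 hz)
  have hbz : ∀ c ∈ gam G 4, α c = c ^ b := by
    intro c hc
    obtain ⟨j, hj, -⟩ := hgen4 c hc
    rw [mem_bot, inv_mul_eq_one] at hj hb
    rw [← hj, map_zpow, ← hb, ← zpow_mul, ← zpow_mul, mul_comm]
  obtain ⟨η, hη, h1, h2⟩ := weights h hn α ha hbz hy hy2
  have hη1 : (η : ZMod p) = 1 := by
    have hb0 : (b : ZMod p) ≠ 0 := fun e0 => by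
      rw [mem_bot, inv_mul_eq_one] at hb
      have hzp : z ^ p = 1 := by
        have e := pow_card_eq_one' (x := (⟨z, hz⟩ : gam G 4))
        rw [hz4] at e
        exact congrArg Subtype.val e
      rw [zpow_congr hzp (s := 0) (by simpa using e0), zpow_zero] at hb
      exact hz1 (mem_bot.2 (α.injective (hb.symm.trans (map_one α).symm)))
    have hη0 : (η : ZMod p) ≠ 0 := fun e => hb0 (by rw [← h2, e]; ring)
    have key : ∀ a η b : ZMod 3, a ≠ 0 → η ≠ 0 → a * a * a * η = b → a * η * η = b → η = 1 := by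
      decide
    subst hp3
    exact key _ _ _ ha0 hη0 h1 h2
  obtain ⟨hyp, -⟩ := gen_step (gam_two_le_upK h) (upK_steps h).1 hy hy2
  have e : ((α y : G) : G ⧸ gam G 2) = (y : G ⧸ gam G 2) ^ η := by
    rw [← QuotientGroup.mk_zpow]; exact (QuotientGroup.eq.2 hη).symm
  rw [← QuotientGroup.eq, e, zpow_congr hyp (s := 1) (by simpa using hη1), zpow_one]

/-- The exponents `2` and `1 / 2` occur only for `p = 3` and `p = 7`. -/
theorem no_torus (hn : NoAb p G) (α : MulAut G) {a b : ℤ} (ha : (a : ZMod p) = 2)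
    (hab : (a : ZMod p) * b = 1) (hxa : (x ^ a)⁻¹ * α x ∈ upK G)
    (hb : ∀ z ∈ gam G 4, α z = z ^ b) (hp3 : p ≠ 3) (hp7 : p ≠ 7) : False := by
  obtain ⟨y, hy, hy2⟩ := exists_mem_upK h
  obtain ⟨η, -, h1, h2⟩ := weights h hn α hxa hb hy hy2
  rw [ha] at h1 h2 hab
  have hp := (Fact.out : p.Prime)
  have e1 : (16 : ZMod p) * η = 1 := by linear_combination (2 : ZMod p) * h1 + hab
  have e2 : (4 : ZMod p) * η * η = 1 := by linear_combination (2 : ZMod p) * h2 + hab
  have e3 : ((63 : ℕ) : ZMod p) = 0 := by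
    push_cast
    linear_combination -(64 : ZMod p) * e2 + (16 * (η : ZMod p) + 1) * e1
  rw [ZMod.natCast_eq_zero_iff] at e3
  rw [show 63 = 3 * (3 * 7) from rfl] at e3
  rcases hp.dvd_mul.1 e3 with e | e
  · exact hp3 ((Nat.prime_dvd_prime_iff_eq hp Nat.prime_three).1 e)
  rcases hp.dvd_mul.1 e with e | e
  · exact hp3 ((Nat.prime_dvd_prime_iff_eq hp Nat.prime_three).1 e)
  · exact hp7 ((Nat.prime_dvd_prime_iff_eq hp (by norm_num)).1 e)

end CfsgLib.PGroup.OrderFifth
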