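import Mathlib
import Cfsg.Agent.Lib.PGroup.SchurUniversal

/-!
# The exponent of the multiplier

A linear character of a central (indeed invariant) subgroup of a finite nilpotent group extends to a
subgroup of small index; transfer then bounds the order of a central commutator element.
-/

set_option autoImplicit false
open Subgroup
open scoped commutatorElement

namespace CfsgLib.Schur

universe u v

theorem normal_le_center {P : Type u} [Group P] {H : Subgroup P} (h : H ≤ center P) : H.Normal :=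
  ⟨fun n hn g => by rwa [mem_center_iff.1 (h hn) g, mul_inv_cancel_right]⟩

/-- An invariant linear character of a normal subgroup `Z` of a finite nilpotent group extends to a
subgroup `H` with `[P : H]² ≤ [P : Z]`. -/
theorem exists_extension_small_index : ∀ (k : ℕ) (P : Type u) [Group P] [Finite P]
    [Group.IsNilpotent P] (Z : Subgroup P) [Z.Normal] (lam : Z →* ℂˣ), Z.index = k →
    (∀ (g : P) (z : Z) (h : g * z * g⁻¹ ∈ Z), lam ⟨g * z * g⁻¹, h⟩ = lam z) →
    ∃ (H : Subgroup P) (hle : Z ≤ H) (ψ : H →* ℂˣ),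
      (∀ z : Z, ψ ⟨z, hle z.2⟩ = lam z) ∧ H.index ^ 2 ≤ Z.index := by
  intro k
  induction k using Nat.strong_induction_on with
  | _ k ih =>
    intro P _ _ _ Z hN lam hk hinv
    by_cases htop : Z = ⊤
    · subst htop
      exact ⟨⊤, le_rfl, lam, fun z => rfl, by simp⟩
    haveI : Nontrivial (P ⧸ Z) := QuotientGroup.nontrivial_iff.2 htop
    haveI : Nontrivial (center (P ⧸ Z)) := (Subgroup.nontrivial_iff_ne_bot _).2 (Group.IsNilpotent.center_ne_bot _)
    obtain ⟨⟨xb, hxb⟩, hne⟩ := exists_ne (1 : center (P ⧸ Z))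
    obtain ⟨x, rfl⟩ := QuotientGroup.mk'_surjective Z xb
    have hxZ : x ∉ Z := fun h => hne (Subtype.ext ((QuotientGroup.eq_one_iff x).2 h))
    have hcom : ∀ g, ⁅x, g⁆ ∈ Z := fun g => by
      rw [← QuotientGroup.eq_one_iff]
      change QuotientGroup.mk' Z ⁅x, g⁆ = 1
      rw [map_commutatorElement, commutatorElement_eq_one_iff_mul_comm]
      exact (mem_center_iff.1 hxb _).symm
    have hinv' : ∀ (g : P) (w : P) (hw : w ∈ Z),
        lam ⟨g * w * g⁻¹, hN.conj_mem w hw g⟩ = lam ⟨w, hw⟩ := fun g w hw => hinv g ⟨w, hw⟩ _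
    -- the character `g ↦ lam ⁅x, g⁆`
    let φ : P →* ℂˣ := MonoidHom.mk' (fun g => lam ⟨⁅x, g⁆, hcom g⟩) fun a b => by
      rw [← hinv' a _ (hcom b), ← map_mul]
      refine congrArg lam (Subtype.ext ?_)
      change ⁅x, a * b⁆ = ⁅x, a⁆ * (a * ⁅x, b⁆ * a⁻¹)
      simp only [commutatorElement_def]; group
    set C := φ.ker
    set Z1 : Subgroup P := Z ⊔ zpowers x
    have hmem1 : ∀ w ∈ Z1, ∃ z ∈ Z, ∃ i : ℤ, w = z * x ^ i := by
      intro w hw
      have hw' : w ∈ ((Z ⊔ zpowers x : Subgroup P) : Set P) := hw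
      rw [Subgroup.normal_mul] at hw'
      obtain ⟨z, hz, _, ⟨i, rfl⟩, rfl⟩ := hw'
      exact ⟨z, hz, i, rfl⟩
    have hZ1n : Z1.Normal := by
      have e0 : Z1 = (Z1.map (QuotientGroup.mk' Z)).comap (QuotientGroup.mk' Z) := by
        rw [QuotientGroup.comap_map_mk', sup_eq_right.2 le_sup_left]
      rw [e0]
      have hc : Z1.map (QuotientGroup.mk' Z) ≤ center (P ⧸ Z) := by
        rw [Subgroup.map_sup, QuotientGroup.map_mk'_self, bot_sup_eq, MonoidHom.map_zpowers, zpowers_le]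
        exact hxb
      haveI : (Z1.map (QuotientGroup.mk' Z)).Normal := normal_le_center hc
      exact Normal.comap inferInstance _
    -- the number of values of `φ` is at most `[Z1 : Z]`
    set m' := Z.relIndex Z1 with hm'
    have hxm : x ^ m' ∈ Z := by
      haveI : (Z.subgroupOf Z1).Normal := Normal.subgroupOf hN Z1
      have := Subgroup.pow_index_mem (Z.subgroupOf Z1) ⟨x, mem_sup_right (mem_zpowers x)⟩
      rwa [Subgroup.mem_subgroupOf] at this
    have hm0 : m' ≠ 0 := by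
      rw [hm', Subgroup.relIndex]
      exact Subgroup.index_ne_zero_of_finite
    have hφpow : ∀ g, φ g ^ m' = 1 := by
      intro g
      have hiter : ∀ j : ℕ, ∀ (h : ⁅x ^ j, g⁆ ∈ Z), lam ⟨⁅x ^ j, g⁆, h⟩ = φ g ^ j := by
        intro j
        induction j with
        | zero =>
          intro h
          rw [show (⟨⁅x ^ 0, g⁆, h⟩ : Z) = 1 from Subtype.ext (by simp), map_one, pow_zero]
        | succ j ihj =>
          intro h
          have hj : ⁅x ^ j, g⁆ ∈ Z := by
            rw [← QuotientGroup.eq_one_iff]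
            change QuotientGroup.mk' Z ⁅x ^ j, g⁆ = 1
            rw [map_commutatorElement, map_pow, commutatorElement_eq_one_iff_mul_comm]
            exact (mem_center_iff.1 (pow_mem hxb j) _).symm
          have e : (⟨⁅x ^ (j + 1), g⁆, h⟩ : Z) =
              ⟨x * ⁅x ^ j, g⁆ * x⁻¹, hN.conj_mem _ hj x⟩ * ⟨⁅x, g⁆, hcom g⟩ := Subtype.ext (by
            change ⁅x ^ (j + 1), g⁆ = x * ⁅x ^ j, g⁆ * x⁻¹ * ⁅x, g⁆
            simp only [commutatorElement_def, pow_succ', mul_inv_rev]; group)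
          rw [e, map_mul, hinv' x _ hj, ihj hj, pow_succ]
          rfl
      have hmem : ⁅x ^ m', g⁆ ∈ Z := by
        rw [commutatorElement_def, mul_assoc, mul_assoc, ← mul_assoc g]
        exact mul_mem hxm (hN.conj_mem _ (inv_mem hxm) g)
      rw [← hiter m' hmem]
      have e : (⟨⁅x ^ m', g⁆, hmem⟩ : Z) =
          ⟨x ^ m', hxm⟩ * ⟨g * (x ^ m')⁻¹ * g⁻¹, hN.conj_mem _ (inv_mem hxm) g⟩ := Subtype.ext (by
        change ⁅x ^ m', g⁆ = x ^ m' * (g * (x ^ m')⁻¹ * g⁻¹)
        rw [commutatorElement_def]; group)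
      rw [e, map_mul, hinv' g _ (inv_mem hxm), ← map_mul]
      rw [show (⟨x ^ m', hxm⟩ : Z) * ⟨(x ^ m')⁻¹, inv_mem hxm⟩ = 1 from Subtype.ext (mul_inv_cancel _),
        map_one]
    have hindC : C.index ≤ m' := by
      haveI : NeZero m' := ⟨hm0⟩
      rw [Subgroup.index_ker]
      have hr : φ.range ≤ rootsOfUnity m' ℂ := by
        rintro _ ⟨g, rfl⟩
        exact (mem_rootsOfUnity m' _).2 (hφpow g)
      exact (Nat.card_le_card_of_injective (Subgroup.inclusion hr) (Subgroup.inclusion_injective hr)).trans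
        (card_rootsOfUnity ℂ m')
    have hxC : x ∈ C := by
      change lam ⟨⁅x, x⁆, hcom x⟩ = 1
      rw [show (⟨⁅x, x⁆, hcom x⟩ : Z) = 1 from Subtype.ext (commutatorElement_self x), map_one]
    have hZC : Z ≤ C := by
      intro z hz
      change lam ⟨⁅x, z⁆, hcom z⟩ = 1
      have e : (⟨⁅x, z⁆, hcom z⟩ : Z) = ⟨x * z * x⁻¹, hN.conj_mem z hz x⟩ * ⟨z⁻¹, inv_mem hz⟩ :=
        Subtype.ext (by simp [commutatorElement_def])
      rw [e, map_mul, hinv' x z hz, ← map_mul,
        show (⟨z, hz⟩ : Z) * ⟨z⁻¹, inv_mem hz⟩ = 1 from Subtype.ext (mul_inv_cancel _), map_one]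
    have hZ1C : Z1 ≤ C := sup_le hZC (zpowers_le.2 hxC)
    -- extend `lam` to `Z1`
    let K := lam.ker.map Z.subtype
    obtain ⟨lam1, hlam1⟩ : ∃ lam1 : Z1 →* ℂˣ, ∀ z : Z, lam1 ⟨z, mem_sup_left z.2⟩ = lam z := by
      haveI : K.Normal := ⟨by
        rintro _ ⟨w, hw, rfl⟩ g
        exact ⟨⟨g * w * g⁻¹, hN.conj_mem _ w.2 g⟩, (hinv g w _).trans hw, rfl⟩⟩
      let π := QuotientGroup.mk' K
      let B := Z1.map π
      have hcl : B ≤ Subgroup.closure (π '' (Z ∪ {x} : Set P)) := by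
        rw [← MonoidHom.map_closure, Subgroup.closure_union, Subgroup.closure_eq, ← zpowers_eq_closure]
      have hcomm : ∀ s ∈ (Z ∪ {x} : Set P), ∀ t ∈ (Z ∪ {x} : Set P), ⁅s, t⁆ ∈ K := by
        have hZ : ∀ s ∈ C, ∀ z (hz : z ∈ Z), ⁅s, z⁆ ∈ K := fun s _ z hz =>
          ⟨⟨s * z * s⁻¹, hN.conj_mem z hz s⟩ * ⟨z⁻¹, inv_mem hz⟩, by
            rw [SetLike.mem_coe, MonoidHom.mem_ker, map_mul, hinv' s z hz, ← map_mul,
              show (⟨z, hz⟩ : Z) * ⟨z⁻¹, inv_mem hz⟩ = 1 from Subtype.ext (mul_inv_cancel _), map_one],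
            by simp [commutatorElement_def]⟩
        intro s hs t ht
        rcases ht with ht | rfl
        · rcases hs with hs | rfl
          · exact hZ s (hZC hs) t ht
          · exact hZ s hxC t ht
        · rcases hs with hs | rfl
          · rw [← commutatorElement_inv]
            exact inv_mem (hZ _ hxC s hs)
          · rw [commutatorElement_self]; exact one_mem K
      haveI : IsMulCommutative B := by
        have := Subgroup.isMulCommutative_closure (k := π '' (Z ∪ {x} : Set P)) (by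
          rintro _ ⟨s, hs, rfl⟩ _ ⟨t, ht, rfl⟩
          rw [← commutatorElement_eq_one_iff_mul_comm, ← map_commutatorElement]
          exact (QuotientGroup.eq_one_iff _).2 (hcomm s hs t ht))
        exact ⟨⟨fun a b => Subtype.ext (congrArg Subtype.val
          (this.is_comm.comm (⟨a.1, hcl a.2⟩ : Subgroup.closure _) ⟨b.1, hcl b.2⟩) : a.1 * b.1 = b.1 * a.1)⟩⟩
      letI : CommGroup B := { (inferInstance : Group B) with mul_comm := fun a b => mul_comm' a b }
      let iZ : Z →* B := (π.comp Z.subtype).codRestrict B fun z => mem_map_of_mem π (mem_sup_left z.2)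
      have hker : iZ.ker ≤ lam.ker := by
        intro z hz
        have h1 : (z : P) ∈ K := (QuotientGroup.eq_one_iff _).1 (congrArg Subtype.val hz)
        obtain ⟨w, hw, hwz⟩ := h1
        rwa [show w = z from Subtype.ext hwz] at hw
      let lz : iZ.range →* ℂˣ :=
        iZ.rangeRestrict.liftOfSurjective iZ.rangeRestrict_surjective
          ⟨lam, iZ.ker_rangeRestrict.le.trans hker⟩
      obtain ⟨ψB, hψB⟩ := MonoidHom.domRestrict_surjective ℂ iZ.range lz
      refine ⟨ψB.comp (π.subgroupMap Z1), fun z => ?_⟩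
      have h1 := DFunLike.congr_fun hψB (iZ.rangeRestrict z)
      exact h1.trans (MonoidHom.liftOfRightInverse_comp_apply _ _ _ _ z)
    have hinv1 : ∀ (g : C) (z : Z1.subgroupOf C) (h : g * z * g⁻¹ ∈ Z1.subgroupOf C),
        lam1 ⟨_, h⟩ = lam1 ⟨_, z.2⟩ := by
      intro g z h
      obtain ⟨⟨w, hw⟩, hwz⟩ := z
      obtain ⟨z0, hz0, i, rfl⟩ := hmem1 w hwz
      have hg0 : lam ⟨⁅x, (g : P)⁆, hcom g⟩ = 1 := g.2
      have hgx : (g : P) * x * (g : P)⁻¹ ∈ Z1 := hZ1n.conj_mem x (mem_sup_right (mem_zpowers x)) g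
      have e1 : lam1 ⟨(g : P) * x * (g : P)⁻¹, hgx⟩ = lam1 ⟨x, mem_sup_right (mem_zpowers x)⟩ := by
        have e : (⟨(g : P) * x * (g : P)⁻¹, hgx⟩ : Z1) =
            ⟨(⁅x, (g : P)⁆ : P)⁻¹, mem_sup_left (inv_mem (hcom g))⟩ * ⟨x, mem_sup_right (mem_zpowers x)⟩ :=
          Subtype.ext (show (g : P) * x * (g : P)⁻¹ = (⁅x, (g : P)⁆ : P)⁻¹ * x by
            simp only [commutatorElement_def]; group)
        rw [e, map_mul, show (⟨(⁅x, (g : P)⁆ : P)⁻¹, mem_sup_left (inv_mem (hcom g))⟩ : Z1) =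
          (⟨⁅x, (g : P)⁆, mem_sup_left (hcom g)⟩ : Z1)⁻¹ from rfl, map_inv, hlam1 ⟨_, hcom g⟩, hg0,
          inv_one, one_mul]
      have e2 : lam1 ⟨(g : P) * z0 * (g : P)⁻¹, mem_sup_left (hN.conj_mem z0 hz0 g)⟩ =
          lam1 ⟨z0, mem_sup_left hz0⟩ := by
        rw [hlam1 ⟨_, hN.conj_mem z0 hz0 g⟩, hlam1 ⟨_, hz0⟩, hinv' g z0 hz0]
      have e3 : (⟨(g : P) * (z0 * x ^ i) * (g : P)⁻¹, h⟩ : Z1) =
          ⟨(g : P) * z0 * (g : P)⁻¹, mem_sup_left (hN.conj_mem z0 hz0 g)⟩ *
            (⟨(g : P) * x * (g : P)⁻¹, hgx⟩ : Z1) ^ i := Subtype.ext (by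
        rw [Subgroup.coe_mul, SubgroupClass.coe_zpow, conj_zpow]; group)
      have e4 : (⟨z0 * x ^ i, hwz⟩ : Z1) = ⟨z0, mem_sup_left hz0⟩ *
          (⟨x, mem_sup_right (mem_zpowers x)⟩ : Z1) ^ i := Subtype.ext (by simp)
      change lam1 ⟨(g : P) * (z0 * x ^ i) * (g : P)⁻¹, h⟩ = lam1 ⟨z0 * x ^ i, hwz⟩
      rw [e3, e4, map_mul, map_mul, map_zpow, map_zpow, e1, e2]
    -- recurse inside `C`
    haveI : (Z1.subgroupOf C).Normal := Normal.subgroupOf hZ1n C
    have hlt : 1 < m' := by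
      rcases Nat.lt_or_ge 1 m' with h | h
      · exact h
      · exfalso
        have h1 : m' = 1 := by omega
        rw [hm', Subgroup.relIndex_eq_one] at h1
        exact hxZ (h1 (mem_sup_right (mem_zpowers x)))
    have hmul : m' * ((Z1.subgroupOf C).index * C.index) = Z.index := by
      change Z.relIndex Z1 * (Z1.relIndex C * C.index) = Z.index
      rw [Subgroup.relIndex_mul_index hZ1C, Subgroup.relIndex_mul_index le_sup_left]
    have hpos1 : 0 < (Z1.subgroupOf C).index := Nat.pos_of_ne_zero Subgroup.index_ne_zero_of_finite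
    have hpos2 : 0 < C.index := Nat.pos_of_ne_zero Subgroup.index_ne_zero_of_finite
    have hklt : (Z1.subgroupOf C).index < k := by
      rw [← hk, ← hmul]
      calc (Z1.subgroupOf C).index = 1 * ((Z1.subgroupOf C).index * 1) := by ring
        _ < m' * ((Z1.subgroupOf C).index * 1) := Nat.mul_lt_mul_of_pos_right hlt (by omega)
        _ ≤ m' * ((Z1.subgroupOf C).index * C.index) := by gcongr; omega
    obtain ⟨H, hle, ψ, hψ, hH⟩ := ih _ hklt C (Z1.subgroupOf C)
      (lam1.comp (Subgroup.subgroupOfEquivOfLe hZ1C).toMonoidHom) rfl hinv1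
    have hinjC := C.subtype_injective
    refine ⟨H.map C.subtype, fun z hz => ⟨⟨z, hZC hz⟩, hle (show z ∈ Z1 from mem_sup_left hz), rfl⟩,
      ψ.comp (H.equivMapOfInjective C.subtype hinjC).symm.toMonoidHom, fun z => ?_, ?_⟩
    · have hz1 : (z : P) ∈ Z1 := mem_sup_left z.2
      rw [MonoidHom.comp_apply, ← hlam1 z]
      have : (H.equivMapOfInjective C.subtype hinjC).symm
          ⟨(z : P), ⟨⟨z, hZC z.2⟩, hle (show (z : P) ∈ Z1 from hz1), rfl⟩⟩ =
            ⟨⟨z, hZC z.2⟩, hle (show (z : P) ∈ Z1 from hz1)⟩ := by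
        rw [MulEquiv.symm_apply_eq]; rfl
      exact (congrArg ψ this).trans (hψ ⟨⟨z, hZC z.2⟩, hz1⟩)
    · rw [Subgroup.index_map_subtype, mul_pow]
      calc H.index ^ 2 * C.index ^ 2 ≤ (Z1.subgroupOf C).index * (C.index * m') := by
            refine Nat.mul_le_mul hH ?_
            rw [pow_two]; exact Nat.mul_le_mul_left _ hindC
        _ = Z.index := by rw [← hmul]; ring

/-- The squared exponent of the multiplier divides the order of the group. -/
theorem exponent_sq_dvd {Q : Type u} [Group Q] [Finite Q] {Γ : Type v} [Group Γ] [Finite Γ]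
    (σ : Γ →* Q) (hσ : Cfsg.IsStemExtension σ) (z : Γ) (hz : z ∈ σ.ker) {p k : ℕ} (hp : p.Prime)
    (hord : orderOf z = p ^ k) : p ^ (2 * k) ∣ Nat.card Q := by
  haveI := Fact.mk hp
  obtain ⟨P, hP⟩ : ∃ P : Sylow p Γ, zpowers z ≤ P :=
    IsPGroup.exists_le_sylow (IsPGroup.of_card (n := k) (by rw [Nat.card_zpowers, hord]))
  have hzP : z ∈ (P : Subgroup Γ) := hP (mem_zpowers z)
  have hzc : z ∈ center Γ := hσ.2.1 hz
  -- the element lies in the derived subgroup of the Sylow subgroup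
  have hzd : (⟨z, hzP⟩ : (P : Subgroup Γ)) ∈ _root_.commutator (P : Subgroup Γ) := by
    let τ := MonoidHom.transfer (Abelianization.of : (P : Subgroup Γ) →* Abelianization _)
    have h0 : τ z = 1 := Abelianization.commutator_subset_ker τ (hσ.2.2 hz)
    have key : ∀ (j : ℕ) (g₀ : Γ), g₀⁻¹ * z ^ j * g₀ ∈ (P : Subgroup Γ) →
        g₀⁻¹ * z ^ j * g₀ = z ^ j := fun j g₀ _ => by
      rw [mul_assoc, ← mem_center_iff.1 (pow_mem hzc j) g₀, inv_mul_cancel_left]
    rw [MonoidHom.transfer_eq_pow _ z key] at h0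
    set n := (P : Subgroup Γ).index
    have hn : (⟨z, hzP⟩ : (P : Subgroup Γ)) ^ n ∈ _root_.commutator (P : Subgroup Γ) := by
      rw [← Abelianization.ker_of, MonoidHom.mem_ker]
      exact h0
    have hcop : n.Coprime (orderOf (⟨z, hzP⟩ : (P : Subgroup Γ))) := by
      rw [show orderOf (⟨z, hzP⟩ : (P : Subgroup Γ)) = p ^ k from (Subgroup.orderOf_mk z hzP).trans hord]
      exact Nat.Coprime.pow_right _ ((hp.coprime_iff_not_dvd.2 P.not_dvd_index).symm)
    obtain ⟨j, hj⟩ := exists_pow_eq_self_of_coprime hcop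
    rw [← hj]
    exact pow_mem hn j
  let Z : Subgroup (P : Subgroup Γ) := σ.ker.subgroupOf P
  have hZc : Z ≤ center (P : Subgroup Γ) := fun w hw =>
    mem_center_iff.2 fun v => Subtype.ext (mem_center_iff.1 (hσ.2.1 hw) v.1)
  haveI : Z.Normal := normal_le_center hZc
  haveI : IsMulCommutative Z :=
    ⟨⟨fun a b => Subtype.ext (mem_center_iff.1 (hZc b.2) a.1)⟩⟩
  letI : CommGroup Z := { (inferInstance : Group Z) with mul_comm := fun a b => mul_comm' a b }
  set zz : Z := ⟨⟨z, hzP⟩, hz⟩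
  have hzz : orderOf zz = p ^ k := by
    rw [← Subgroup.orderOf_coe, ← Subgroup.orderOf_coe]; exact hord
  haveI : NeZero (p ^ k) := ⟨pow_ne_zero _ hp.ne_zero⟩
  -- a character faithful on the element
  obtain ⟨ζ, hζ⟩ := HasEnoughRootsOfUnity.exists_primitiveRoot ℂ (p ^ k)
  obtain ⟨ζu, rfl⟩ := hζ.isUnit (NeZero.ne _)
  let l0 : zpowers zz →* ℂˣ := monoidHomOfForallMemZpowers (g := (⟨zz, mem_zpowers zz⟩ : zpowers zz))
    (fun y => by
      obtain ⟨i, hi⟩ := mem_zpowers_iff.1 y.2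
      exact mem_zpowers_iff.2 ⟨i, Subtype.ext hi⟩)
    (g' := ζu) (by
      rw [Subgroup.orderOf_mk, hzz, orderOf_dvd_iff_pow_eq_one]
      exact Units.ext (by rw [Units.val_pow_eq_pow_val]; exact hζ.pow_eq_one))
  obtain ⟨lam, hlam⟩ := MonoidHom.domRestrict_surjective ℂ (zpowers zz) l0
  have hlz : lam zz = ζu := (DFunLike.congr_fun hlam ⟨zz, mem_zpowers zz⟩).trans
    (monoidHomOfForallMemZpowers_apply_gen _ _)
  haveI : Group.IsNilpotent (P : Subgroup Γ) := P.isPGroup'.isNilpotent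
  obtain ⟨H, hle, ψ, hψ, hH⟩ := exists_extension_small_index _ (P : Subgroup Γ) Z lam rfl fun g w h => by
    refine congrArg lam (Subtype.ext ?_)
    change g * (w : (P : Subgroup Γ)) * g⁻¹ = w
    rw [mem_center_iff.1 (hZc w.2) g, mul_inv_cancel_right]
  -- transfer to `H` kills the element
  have hd : p ^ k ∣ H.index := by
    let τ := MonoidHom.transfer ψ
    have h0 : τ ⟨z, hzP⟩ = 1 := Abelianization.commutator_subset_ker τ hzd
    have key : ∀ (j : ℕ) (g₀ : (P : Subgroup Γ)), g₀⁻¹ * (⟨z, hzP⟩ : (P : Subgroup Γ)) ^ j * g₀ ∈ H →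
        g₀⁻¹ * (⟨z, hzP⟩ : (P : Subgroup Γ)) ^ j * g₀ = (⟨z, hzP⟩ : (P : Subgroup Γ)) ^ j :=
      fun j g₀ _ => by
        rw [mul_assoc, ← mem_center_iff.1 (pow_mem (hZc zz.2) j) g₀, inv_mul_cancel_left]
    rw [MonoidHom.transfer_eq_pow _ _ key] at h0
    have h1 := (hψ (zz ^ H.index)).symm.trans ((congrArg ψ (Subtype.ext (SubgroupClass.coe_pow _ _))).trans h0)
    rw [map_pow, hlz] at h1
    refine (hζ.pow_eq_one_iff_dvd _).1 ?_
    rw [← Units.val_pow_eq_pow_val, h1, Units.val_one]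
  have hidx : Z.index ∣ Nat.card Q := by
    change σ.ker.relIndex (P : Subgroup Γ) ∣ _
    rw [← Nat.card_congr (QuotientGroup.quotientKerEquivOfSurjective σ hσ.1).toEquiv, ← Subgroup.index]
    exact Subgroup.relIndex_dvd_index_of_normal _ _
  have hHpos : 0 < H.index := Nat.pos_of_ne_zero Subgroup.index_ne_zero_of_finite
  obtain ⟨j, hj⟩ := P.isPGroup'.index Z
  refine dvd_trans ?_ hidx
  rw [hj]
  refine pow_dvd_pow p ?_
  have h2 : p ^ (2 * k) ≤ p ^ j := by
    rw [← hj]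
    refine le_trans ?_ hH
    rw [mul_comm, pow_mul]
    exact Nat.pow_le_pow_left (Nat.le_of_dvd hHpos hd) 2
  exact (Nat.pow_le_pow_iff_right hp.one_lt).1 h2

end CfsgLib.Schur
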