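import Mathlib.LinearAlgebra.Matrix.Charpoly.FiniteField

/-!
# Regular friendship relations

There is no symmetric irreflexive relation on a non-empty finite type in which every point has
`d ≥ 3` neighbours and any two different points have exactly one common neighbour.
-/

set_option autoImplicit false

namespace CfsgLib.PGroup

open Finset Matrix

theorem regular_friendship_false {V : Type*} [Fintype V] [DecidableEq V] [Nonempty V]
    (R : V → V → Prop) [DecidableRel R] (hsymm : ∀ a b, R a b → R b a) (hirr : ∀ a, ¬ R a a)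
    {d : ℕ} (hd : 3 ≤ d) (hdeg : ∀ a : V, (univ.filter fun b => R a b).card = d)
    (hpair : ∀ a b : V, a ≠ b → (univ.filter fun c => R a c ∧ R c b).card = 1) : False := by
  obtain ⟨p, hp, hpd⟩ := Nat.exists_prime_and_dvd (show d - 1 ≠ 1 by omega)
  haveI := Fact.mk hp
  have hd1 : (d : ZMod p) = 1 := by
    obtain ⟨k, hk⟩ := hpd
    have h : d = p * k + 1 := by omega
    rw [h]; simp
  let A : Matrix V V (ZMod p) := Matrix.of fun a b => if R a b then 1 else 0
  let J : Matrix V V (ZMod p) := Matrix.of fun _ _ => 1
  have hA : ∀ a b, A a b = if R a b then 1 else 0 := fun a b => rfl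
  have hrow : ∀ a, (∑ b, A a b) = 1 := fun a => by
    simp only [hA, Finset.sum_boole, hdeg, hd1]
  have hAA : A * A = J := by
    ext a b
    rw [Matrix.mul_apply]
    have h : ∀ c, A a c * A c b = if R a c ∧ R c b then 1 else 0 := fun c => by
      simp only [hA]; split_ifs <;> simp_all
    rw [Finset.sum_congr rfl fun c _ => h c, Finset.sum_boole]
    show _ = (1 : ZMod p)
    rcases eq_or_ne a b with rfl | hne
    · rw [show (univ.filter fun c => R a c ∧ R c a) = univ.filter fun c => R a c from
        Finset.filter_congr fun c _ => ⟨fun h => h.1, fun h => ⟨h, hsymm _ _ h⟩⟩, hdeg, hd1]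
    · rw [hpair a b hne, Nat.cast_one]
  have hAJ : A * J = J := by
    ext a b
    rw [Matrix.mul_apply]
    show (∑ c, A a c * (1 : ZMod p)) = 1
    simp only [mul_one, hrow]
  have hpow : ∀ k : ℕ, A ^ (k + 2) = J := by
    intro k
    induction k with
    | zero => rw [pow_two, hAA]
    | succ k ih => rw [show k + 1 + 2 = k + 2 + 1 from rfl, pow_succ', ih, hAJ]
  have hn : ((Fintype.card V : ℕ) : ZMod p) = 1 := by
    obtain ⟨a⟩ := ‹Nonempty V›
    have h1 : (∑ b, (A * A) a b) = (Fintype.card V : ZMod p) := by
      rw [hAA]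
      show (∑ _b : V, (1 : ZMod p)) = _
      simp
    have h2 : (∑ b, (A * A) a b) = 1 := by
      simp only [Matrix.mul_apply]
      rw [Finset.sum_comm]
      simp only [← Finset.mul_sum, hrow, mul_one]
    rw [← h1, h2]
  have htr := ZMod.trace_pow_card A
  obtain ⟨k, hk⟩ := Nat.exists_eq_add_of_le hp.two_le
  have hAp := hpow k
  rw [show k + 2 = p by omega] at hAp
  rw [hAp] at htr
  have h0 : Matrix.trace A = 0 := by
    simp only [Matrix.trace, Matrix.diag, hA, hirr, if_false, Finset.sum_const_zero]
  have h1 : Matrix.trace J = 1 := by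
    rw [← hn]
    show (∑ _a : V, (1 : ZMod p)) = _
    simp
  rw [h0, h1, zero_pow hp.ne_zero] at htr
  exact one_ne_zero htr

end CfsgLib.PGroup
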