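import Cfsg.Agent.S4189
import Cfsg.Agent.Lib.CFun.OddMetacyclicAction
import Cfsg.Agent.Lib.PGroup.FrattiniLe
import Cfsg.Agent.Lib.Coprime.Action

/-!
# Automorphisms of odd order of metacyclic 2-groups
-/

set_option autoImplicit false
set_option linter.style.haveILetI false

open Subgroup
open scoped Classical commutatorElement

namespace CfsgLib.PGroup.MetaTwo

universe u v

section Frattini

variable {R : Type u} [Group R]

/-- The action of automorphisms on the Frattini quotient. -/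
noncomputable def frAut : MulAut R →* MulAut (R ⧸ frattini R) :=
  MonoidHom.mk' (fun f => QuotientGroup.congr (frattini R) (frattini R) f
      (Subgroup.characteristic_iff_map_eq.1 inferInstance f))
    fun f g => MulEquiv.ext fun x => by
      obtain ⟨y, rfl⟩ := QuotientGroup.mk_surjective x
      rfl

theorem frAut_mk (f : MulAut R) (x : R) :
    frAut f (x : R ⧸ frattini R) = ((f x : R) : R ⧸ frattini R) := rfl

/-- Burnside: the automorphisms trivial on the Frattini quotient form a `p`-group. -/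
theorem isPGroup_ker_frAut {p : ℕ} [Fact p.Prime] [Finite R] (hR : IsPGroup p R) :
    IsPGroup p (frAut (R := R)).ker := by
  haveI : Finite (MulAut R) := Finite.of_injective (fun a : MulAut R => (a : R → R))
    DFunLike.coe_injective
  have key : ∀ q : ℕ, q.Prime → q ≠ p → ∀ h : MulAut R, frAut h = 1 → h ^ q = 1 → h = 1 := by
    intro q hq hqp h hh hpow
    haveI := Fact.mk hq
    refine MulEquiv.ext fun r => ?_
    have htop : (h.toMonoidHom.eqLocus (MonoidHom.id R)) = ⊤ := by
      refine frattini_nongenerating (eq_top_iff.2 fun x _ => ?_)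
      let C := {y : R // y⁻¹ * x ∈ frattini R}
      haveI : Fintype C := Fintype.ofFinite C
      have hmem : ∀ y : R, y⁻¹ * x ∈ frattini R ↔ (h y)⁻¹ * x ∈ frattini R := fun y => by
        have h1 : ((h y : R) : R ⧸ frattini R) = y := by
          rw [← frAut_mk, hh]; rfl
        rw [← QuotientGroup.eq, ← QuotientGroup.eq, h1]
      let σ : Equiv.Perm C := h.toEquiv.subtypeEquiv fun y => hmem y
      have hσ : ∀ (k : ℕ) (y : C), (((σ ^ k) y : C) : R) = (h ^ k) y := by
        intro k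
        induction k with
        | zero => intro y; rfl
        | succ k ih =>
          intro y
          rw [pow_succ', pow_succ', Equiv.Perm.mul_apply, MulAut.mul_apply, ← ih y]
          rfl
      have hcard : Fintype.card C = Nat.card (frattini R) := by
        rw [← Nat.card_eq_fintype_card]
        exact Nat.card_congr
          { toFun := fun y => ⟨(y : R)⁻¹ * x, y.2⟩
            invFun := fun z => ⟨x * (z : R)⁻¹, by simp⟩
            left_inv := fun y => Subtype.ext (by group)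
            right_inv := fun z => Subtype.ext (by group) }
      obtain ⟨k, hk⟩ := (hR.to_subgroup (frattini R)).exists_card_eq
      obtain ⟨⟨y, hy⟩, hfix⟩ := Equiv.Perm.exists_fixed_point_of_prime (p := q) (n := 1)
        (by
          rw [hcard, hk]
          exact fun hd => hqp ((Nat.prime_dvd_prime_iff_eq hq Fact.out).1 (hq.dvd_of_dvd_pow hd)))
        (σ := σ) (Equiv.ext fun y => Subtype.ext (by rw [pow_one, hσ, hpow]; rfl))
      have hy' : y ∈ h.toMonoidHom.eqLocus (MonoidHom.id R) :=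
        (congrArg Subtype.val hfix : h y = y)
      rw [← mul_inv_cancel_left y x]
      exact mul_mem (mem_sup_left hy') (mem_sup_right hy)
    exact (htop.ge (mem_top r) : r ∈ h.toMonoidHom.eqLocus (MonoidHom.id R))
  intro g
  obtain ⟨n, hn⟩ : ∃ n, orderOf (g : MulAut R) = p ^ n := by
    refine ⟨_, Nat.eq_prime_pow_of_unique_prime_dvd (orderOf_pos _).ne' fun {q} hq hqd => ?_⟩
    by_contra hqp
    have hg : (g : MulAut R) ^ (orderOf (g : MulAut R) / q) = 1 :=
      key q hq hqp _ (by rw [map_pow, MonoidHom.mem_ker.1 g.2, one_pow])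
        (by rw [← pow_mul, Nat.div_mul_cancel hqd, pow_orderOf_eq_one])
    exact hq.ne_one ((Nat.div_eq_self.1 (Nat.dvd_antisymm (Nat.div_dvd_of_dvd hqd)
      (orderOf_dvd_of_pow_eq_one hg))).resolve_left (orderOf_pos _).ne')
  exact ⟨n, Subtype.ext (by rw [Subgroup.coe_pow, ← hn, pow_orderOf_eq_one]; rfl)⟩

end Frattini

theorem quotient {R : Type u} [Group R] (hm : Cfsg.IsMetacyclic R) (M : Subgroup R) [M.Normal] :
    Cfsg.IsMetacyclic (R ⧸ M) := by
  obtain ⟨N, hN, hNc, hq⟩ := hm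
  haveI := hN
  haveI := hNc
  haveI := hq
  set π := QuotientGroup.mk' M
  refine ⟨N.map π, Normal.map hN π (QuotientGroup.mk'_surjective M),
    isCyclic_of_surjective (π.subgroupMap N) (π.subgroupMap_surjective N), ?_⟩
  haveI : (N.map π).Normal := Normal.map hN π (QuotientGroup.mk'_surjective M)
  refine isCyclic_of_surjective
    (QuotientGroup.map N (N.map π) π (fun x hx => ⟨x, hx, rfl⟩)) ?_
  exact QuotientGroup.map_surjective_of_surjective _ _ _
    ((QuotientGroup.mk'_surjective (N.map π)).comp (QuotientGroup.mk'_surjective M)) _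

theorem sectionalPRank_two {R : Type u} [Group R] [Finite R] (hm : Cfsg.IsMetacyclic R) :
    Cfsg.SectionalPRankLE 2 2 R := by
  haveI : Fact (Nat.Prime 2) := ⟨Nat.prime_two⟩
  intro H N _ A _ hA
  exact CfsgLib.RankTwoThree.card_le_of_metacyclic
    (quotient (CfsgLib.CFun.MetaAct.metacyclic_subgroup hm H) N) A hA

/-- Two elements in different nontrivial classes generate modulo a subgroup of index four. -/
theorem sup_frattini_eq_top {X : Type u} [Group X] [Finite X] (hidx : (frattini X).index = 4)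
    (H : Subgroup X) {x y : X} (hxH : x ∈ H) (hyH : y ∈ H) (hx : x ∉ frattini X)
    (hy : y ∉ frattini X) (hxy : x⁻¹ * y ∉ frattini X) : H = ⊤ := by
  refine frattini_nongenerating (Subgroup.index_eq_one.1 ?_)
  have h1 : frattini X ≤ H ⊔ frattini X := le_sup_right
  have h2 := Subgroup.relIndex_mul_index h1
  rw [hidx] at h2
  have h3 : 3 ≤ (frattini X).relIndex (H ⊔ frattini X) := by
    set K := H ⊔ frattini X
    rw [Subgroup.relIndex, Subgroup.index_eq_card]
    set Q := K ⧸ (frattini X).subgroupOf K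
    haveI : Fintype Q := Fintype.ofFinite Q
    rw [Nat.card_eq_fintype_card]
    let a : K := ⟨x, mem_sup_left hxH⟩
    let b : K := ⟨y, mem_sup_left hyH⟩
    refine le_trans (le_of_eq ?_) (Finset.card_le_univ ({1, (a : Q), (b : Q)} : Finset Q))
    rw [Finset.card_insert_of_notMem, Finset.card_pair]
    · intro e
      exact hxy (mem_subgroupOf.1 (QuotientGroup.eq.1 e))
    · simp only [Finset.mem_insert, Finset.mem_singleton, not_or]
      exact ⟨fun e => hx (mem_subgroupOf.1 ((QuotientGroup.eq_one_iff a).1 e.symm)),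
        fun e => hy (mem_subgroupOf.1 ((QuotientGroup.eq_one_iff b).1 e.symm))⟩
  nlinarith [(H ⊔ frattini X).index_ne_zero_of_finite.bot_lt]

section Aut

variable {X : Type u} [Group X] [Finite X]

theorem exists_odd_aut (hA : ¬ IsPGroup 2 (MulAut X)) :
    ∃ (q : ℕ) (σ : MulAut X), q.Prime ∧ q ≠ 2 ∧ orderOf σ = q := by
  haveI : Finite (MulAut X) := Finite.of_injective (fun a : MulAut X => (a : X → X))
    DFunLike.coe_injective
  obtain ⟨q, hq, hqd, hq2⟩ : ∃ q, q.Prime ∧ q ∣ Nat.card (MulAut X) ∧ q ≠ 2 := by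
    by_contra hcon
    push Not at hcon
    exact hA (IsPGroup.of_card (n := (Nat.card (MulAut X)).primeFactorsList.length)
      (Nat.eq_prime_pow_of_unique_prime_dvd Nat.card_pos.ne' fun {q} h1 h2 => hcon q h1 h2))
  haveI := Fact.mk hq
  obtain ⟨σ, hσ⟩ := exists_prime_orderOf_dvd_card' (G := MulAut X) q hqd
  exact ⟨q, σ, hq, hq2, hσ⟩

theorem index_frattini_le (hX : IsPGroup 2 X) (hm : Cfsg.IsMetacyclic X) :
    (frattini X).index ≤ 4 := by
  haveI : Fact (Nat.Prime 2) := ⟨Nat.prime_two⟩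
  haveI : (frattini X).Normal := inferInstance
  have hsq : ∀ q : X ⧸ frattini X, q ^ 2 = 1 := fun q => by
    obtain ⟨x, rfl⟩ := QuotientGroup.mk_surjective q
    rw [← QuotientGroup.mk_pow, QuotientGroup.eq_one_iff]
    exact CfsgLib.Coprime.pow_mem_frattini hX x
  have h := CfsgLib.RankTwoThree.card_le_of_metacyclic (p := 2) (quotient hm (frattini X)) ⊤
    fun x _ => hsq x
  rw [Subgroup.card_top, ← Subgroup.index_eq_card] at h
  exact h

variable (hX : IsPGroup 2 X) (hm : Cfsg.IsMetacyclic X) {q : ℕ} {σ : MulAut X} (hq : q.Prime)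
  (hq2 : q ≠ 2) (hσ : orderOf σ = q)

include hX hm hq hq2 hσ

theorem index_frattini_eq_and_moves :
    (frattini X).index = 4 ∧ ∀ x, x ∉ frattini X → x⁻¹ * σ x ∉ frattini X := by
  haveI : Fact (Nat.Prime 2) := ⟨Nat.prime_two⟩
  set V := X ⧸ frattini X
  set τ : MulAut V := frAut σ with hτ
  have hτq : τ ^ q = 1 := by rw [hτ, ← map_pow, ← hσ, pow_orderOf_eq_one, map_one]
  have hτ1 : τ ≠ 1 := fun h => by
    obtain ⟨k, hk⟩ := isPGroup_ker_frAut hX ⟨σ, MonoidHom.mem_ker.2 h⟩
    have h1 : q ∣ 2 ^ k := hσ ▸ orderOf_dvd_of_pow_eq_one (congrArg Subtype.val hk)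
    exact hq2 ((Nat.prime_dvd_prime_iff_eq hq Nat.prime_two).1 (hq.dvd_of_dvd_pow h1))
  have hsq : ∀ v : V, v ^ 2 = 1 := fun v => by
    obtain ⟨x, rfl⟩ := QuotientGroup.mk_surjective v
    rw [← QuotientGroup.mk_pow, QuotientGroup.eq_one_iff]
    exact CfsgLib.Coprime.pow_mem_frattini hX x
  obtain ⟨i, hi⟩ := hX.index (frattini X)
  have hi2 : i ≤ 2 := (Nat.pow_le_pow_iff_right (le_refl 2)).1 (hi ▸ index_frattini_le hX hm)
  have hcardV : Nat.card V = 2 ^ i := by rw [← hi, Subgroup.index_eq_card]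
  have hsmall : 2 ≤ i := by
    by_contra hlt
    refine hτ1 (MulEquiv.ext fun v => ?_)
    have h2 : Nat.card V ≤ 2 := by
      rw [hcardV]
      exact (Nat.pow_le_pow_right two_pos (show i ≤ 1 by omega)).trans_eq (pow_one 2)
    haveI : Fintype V := Fintype.ofFinite V
    rw [Nat.card_eq_fintype_card] at h2
    by_contra hne
    rcases eq_or_ne v 1 with rfl | hv
    · exact hne (map_one τ)
    have h3 : ({1, v, τ v} : Finset V).card ≤ 2 := (Finset.card_le_univ _).trans h2
    rw [Finset.card_insert_of_notMem, Finset.card_pair] at h3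
    · omega
    · exact fun e => hne e.symm
    · simp only [Finset.mem_insert, Finset.mem_singleton, not_or]
      exact ⟨hv.symm, fun e => hv (τ.injective (e.symm.trans (map_one τ).symm))⟩
  obtain rfl : i = 2 := by omega
  refine ⟨by rw [hi]; norm_num, fun x hx hfix => hτ1 (MulEquiv.ext fun w => ?_)⟩
  set v : V := (x : V) with hv
  have hv1 : v ≠ 1 := fun e => hx ((QuotientGroup.eq_one_iff x).1 e)
  have hτv : τ v = v := by
    rw [hv, hτ, frAut_mk]
    exact (QuotientGroup.eq.2 hfix).symm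
  have hidx : (zpowers v).index = 2 := by
    have h1 := (zpowers v).card_mul_index
    rw [Nat.card_zpowers, orderOf_eq_prime (hsq v) hv1, hcardV] at h1
    omega
  have hfixall : ∀ y ∈ zpowers v, τ y = y := fun y hy => by
    obtain ⟨k, rfl⟩ := mem_zpowers_iff.1 hy
    rw [map_zpow, hτv]
  by_cases hw : w ∈ zpowers v
  · exact hfixall w hw
  have hτw : τ w ∉ zpowers v := fun h => hw (τ.injective (hfixall _ h) ▸ h)
  set c := w⁻¹ * τ w with hc
  have hcm : c ∈ zpowers v :=
    (Subgroup.mul_mem_iff_of_index_two hidx).2 (iff_of_false (fun h => hw (inv_mem_iff.1 h)) hτw)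
  have hτw' : τ w = w * c := by rw [hc, mul_inv_cancel_left]
  have hpow : ∀ k : ℕ, (τ ^ k) w = w * c ^ k := by
    intro k
    induction k with
    | zero => simp
    | succ k ih =>
      rw [pow_succ', MulAut.mul_apply, ih, map_mul, map_pow, hfixall c hcm, hτw', mul_assoc,
        ← pow_succ']
  have h1 := hpow q
  rw [hτq, MulAut.one_apply, left_eq_mul] at h1
  have h2 : c = 1 := by
    obtain ⟨t, ht⟩ := hq.odd_of_ne_two hq2
    rw [ht, pow_succ, pow_mul, hsq, one_pow, one_mul] at h1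
    exact h1
  show τ w = w
  rw [hτw', h2, mul_one]

theorem apply_notMem {x : X} (hx : x ∉ frattini X) : σ x ∉ frattini X := by
  intro h4
  have h5 : (frattini X).map σ.toMonoidHom = frattini X :=
    Subgroup.characteristic_iff_map_eq.1 inferInstance σ
  obtain ⟨y, hy, hye⟩ := h5.ge h4
  exact hx (σ.injective hye ▸ hy)

/-- An invariant subgroup meeting the complement of the Frattini subgroup is everything. -/
theorem eq_top_of_invariant (H : Subgroup X) (hH : ∀ h ∈ H, σ h ∈ H) {x : X} (hxH : x ∈ H)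
    (hx : x ∉ frattini X) : H = ⊤ := by
  obtain ⟨hidx, hmov⟩ := index_frattini_eq_and_moves hX hm hq hq2 hσ
  exact sup_frattini_eq_top hidx H hxH (hH x hxH) hx (apply_notMem hX hm hq hq2 hσ hx) (hmov x hx)

/-- The abelian case: homocyclic of rank two. -/
theorem homocyclic_of_comm (hab : ∀ a b : X, a * b = b * a) :
    ∃ n : ℕ, 1 ≤ n ∧
      Nonempty (X ≃* Multiplicative (ZMod (2 ^ n)) × Multiplicative (ZMod (2 ^ n))) := by
  haveI : Fact (Nat.Prime 2) := ⟨Nat.prime_two⟩
  letI : CommGroup X := { (inferInstance : Group X) with mul_comm := hab }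
  obtain ⟨hidx, hmov⟩ := index_frattini_eq_and_moves hX hm hq hq2 hσ
  have hex : ∃ e : ℕ, ∀ x : X, x ^ 2 ^ e = 1 := by
    obtain ⟨e, he⟩ := hX.exists_card_eq
    exact ⟨e, fun x => he ▸ pow_card_eq_one'⟩
  obtain ⟨e, he, hmin⟩ : ∃ e, (∀ x : X, x ^ 2 ^ e = 1) ∧ ∀ j < e, ∃ x : X, x ^ 2 ^ j ≠ 1 := by
    refine ⟨Nat.find hex, Nat.find_spec hex, fun j hj => ?_⟩
    have := Nat.find_min hex hj
    push Not at this
    exact this
  obtain ⟨m, rfl⟩ : ∃ m, e = m + 1 := by
    refine Nat.exists_eq_succ_of_ne_zero fun h0 => ?_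
    subst h0
    haveI : Subsingleton X := ⟨fun a b => by
      have ha := he a
      have hb := he b
      rw [pow_zero, pow_one] at ha hb
      rw [ha, hb]⟩
    have := Subgroup.index_eq_one.2 (Subsingleton.elim (frattini X) ⊤)
    omega
  set f := powMonoidHom (α := X) (2 ^ m) with hf
  have hker : f.ker ≤ frattini X := by
    intro x hx
    by_contra hxF
    have htop := eq_top_of_invariant hX hm hq hq2 hσ f.ker (fun h hh => by
      rw [MonoidHom.mem_ker, hf, powMonoidHom_apply] at hh ⊢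
      rw [← map_pow, hh, map_one]) hx hxF
    obtain ⟨y, hy⟩ := hmin m (Nat.lt_succ_self m)
    exact hy (MonoidHom.mem_ker.1 (htop.ge (mem_top y)))
  obtain ⟨a, ha⟩ : ∃ a, a ∉ frattini X := by
    by_contra! h
    have h1 := Subgroup.index_eq_one.2 (eq_top_iff.2 fun x _ => h x)
    omega
  set b := σ a with hb
  refine ⟨m + 1, Nat.succ_pos m, ⟨?_⟩⟩
  set N := 2 ^ (m + 1) with hN
  haveI : NeZero N := ⟨pow_ne_zero _ two_ne_zero⟩
  let θ : Multiplicative (ZMod N) × Multiplicative (ZMod N) →* X := MonoidHom.mk'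
    (fun w => a ^ (Multiplicative.toAdd w.1).val * b ^ (Multiplicative.toAdd w.2).val) fun w z => by
      have hab' : ∀ (g : X) (i j : ZMod N), g ^ (i + j).val = g ^ i.val * g ^ j.val := fun g i j => by
        rw [ZMod.val_add, ← pow_eq_pow_mod _ (he g), pow_add]
      simp only [Prod.fst_mul, Prod.snd_mul, toAdd_mul, hab']
      exact mul_mul_mul_comm _ _ _ _
  have hθa : θ (Multiplicative.ofAdd 1, 1) = a := by
    show a ^ (1 : ZMod N).val * b ^ (0 : ZMod N).val = a
    haveI : Fact (1 < N) := ⟨Nat.one_lt_two_pow (Nat.succ_ne_zero m)⟩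
    rw [ZMod.val_one, ZMod.val_zero, pow_one, pow_zero, mul_one]
  have hθb : θ (1, Multiplicative.ofAdd 1) = b := by
    show a ^ (0 : ZMod N).val * b ^ (1 : ZMod N).val = b
    haveI : Fact (1 < N) := ⟨Nat.one_lt_two_pow (Nat.succ_ne_zero m)⟩
    rw [ZMod.val_one, ZMod.val_zero, pow_one, pow_zero, one_mul]
  have hsurj : Function.Surjective θ := by
    rw [← MonoidHom.range_eq_top]
    exact sup_frattini_eq_top hidx _ ⟨_, hθa⟩ ⟨_, hθb⟩ ha (apply_notMem hX hm hq hq2 hσ ha)
      (hmov a ha)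
  have hinj : Function.Injective θ := by
    rw [← MonoidHom.ker_eq_bot_iff]
    by_contra hne
    obtain ⟨w, hw⟩ := exists_prime_orderOf_dvd_card' (G := θ.ker) 2 (by
      have hp2 : IsPGroup 2 θ.ker := (IsPGroup.of_card (n := (m + 1) + (m + 1))
        (by simp [Nat.card_prod, hN, pow_add] :
          Nat.card (Multiplicative (ZMod N) × Multiplicative (ZMod N)) = _)).to_subgroup _
      obtain ⟨k, hk⟩ := hp2.exists_card_eq
      rw [hk]
      refine dvd_pow_self 2 fun h0 => hne (Subgroup.eq_bot_of_card_eq _ ?_)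
      rw [hk, h0, pow_zero])
    have hw2 : (w : Multiplicative (ZMod N) × Multiplicative (ZMod N)) ^ 2 = 1 := by
      rw [← Subgroup.coe_pow, ← hw, pow_orderOf_eq_one, Subgroup.coe_one]
    have hhalf : ∀ z : Multiplicative (ZMod N), z ^ 2 = 1 →
        ∃ k : ℕ, (Multiplicative.toAdd z).val = k * 2 ^ m := by
      intro z hz
      have h0 : ((2 * (Multiplicative.toAdd z).val : ℕ) : ZMod N) = 0 := by
        rw [Nat.cast_mul, ZMod.natCast_zmod_val, Nat.cast_ofNat, two_mul, ← toAdd_mul, ← sq, hz,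
          toAdd_one]
      rw [ZMod.natCast_eq_zero_iff] at h0
      have h0' : 2 * 2 ^ m ∣ 2 * (Multiplicative.toAdd z).val := (pow_succ' 2 m).symm ▸ h0
      obtain ⟨k, hk⟩ := Nat.dvd_of_mul_dvd_mul_left two_pos h0'
      exact ⟨k, hk.trans (mul_comm _ _)⟩
    obtain ⟨i, hi⟩ := hhalf _ (congrArg Prod.fst hw2)
    obtain ⟨j, hj⟩ := hhalf _ (congrArg Prod.snd hw2)
    have h1 : θ w = 1 := w.2
    replace h1 : a ^ (i * 2 ^ m) * b ^ (j * 2 ^ m) = 1 := by rw [← hi, ← hj]; exact h1
    rw [pow_mul, pow_mul, ← mul_pow] at h1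
    have h2 : a ^ i * b ^ j ∈ frattini X := hker h1
    have hmod : ∀ (g : X) (k : ℕ), (g ^ k)⁻¹ * g ^ (k % 2) ∈ frattini X := fun g k => by
      nth_rw 1 [← Nat.div_add_mod k 2]
      rw [pow_add, mul_inv_rev, inv_mul_cancel_comm, pow_mul]
      exact inv_mem (pow_mem (CfsgLib.Coprime.pow_mem_frattini hX g) _)
    have h3 : a ^ (i % 2) * b ^ (j % 2) ∈ frattini X := by
      have := mul_mem h2 (mul_mem (hmod a i) (hmod b j))
      rwa [show a ^ i * b ^ j * ((a ^ i)⁻¹ * a ^ (i % 2) * ((b ^ j)⁻¹ * b ^ (j % 2))) =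
        a ^ (i % 2) * b ^ (j % 2) by
          rw [mul_mul_mul_comm (a ^ i)⁻¹, ← mul_inv, ← mul_assoc, mul_inv_cancel, one_mul]] at this
    have hij : i % 2 = 0 ∧ j % 2 = 0 := by
      rcases Nat.mod_two_eq_zero_or_one i with hi2 | hi2 <;>
        rcases Nat.mod_two_eq_zero_or_one j with hj2 | hj2 <;> rw [hi2, hj2] at h3
      · exact ⟨hi2, hj2⟩
      · exact absurd (by simpa using h3) (apply_notMem hX hm hq hq2 hσ ha)
      · exact absurd (by simpa using h3) ha
      · refine absurd ?_ (hmov a ha)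
        have h6 : a ^ 2 ∈ frattini X := CfsgLib.Coprime.pow_mem_frattini hX a
        have := mul_mem (inv_mem h6) (show a * b ∈ frattini X by simpa using h3)
        rwa [show (a ^ 2)⁻¹ * (a * b) = a⁻¹ * σ a by rw [hb]; group] at this
    have hw1 : (w : Multiplicative (ZMod N) × Multiplicative (ZMod N)) = 1 := by
      have hz : ∀ (z : Multiplicative (ZMod N)) (k : ℕ), (Multiplicative.toAdd z).val = k * 2 ^ m →
          k % 2 = 0 → z = 1 := fun z k hk hk2 => by
        apply Multiplicative.toAdd.injective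
        rw [toAdd_one]
        apply ZMod.val_injective
        rw [ZMod.val_zero]
        have hlt := ZMod.val_lt (Multiplicative.toAdd z)
        rw [hk] at hlt ⊢
        have hk1 : k < 2 := by
          by_contra h
          rw [hN, pow_succ'] at hlt
          exact absurd (Nat.mul_le_mul_right (2 ^ m) (show 2 ≤ k by omega)) (by omega)
        rw [show k = 0 by omega, zero_mul]
      exact Prod.ext (hz _ i hi hij.1) (hz _ j hj hij.2)
    have hw3 : w = 1 := Subtype.ext hw1
    rw [hw3, orderOf_one] at hw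
    exact absurd hw (by norm_num)
  exact (MulEquiv.ofBijective θ ⟨hinj, hsurj⟩).symm

omit hσ in
/-- Quotients by invariant subgroups inside the Frattini subgroup keep a nontrivial odd
automorphism. -/
theorem exists_quotient_aut (hσ : orderOf σ = q) (N : Subgroup X) [N.Normal]
    (hNσ : N.map σ.toMonoidHom = N) (hNΦ : N ≤ frattini X) :
    ∃ τ : MulAut (X ⧸ N), orderOf τ = q := by
  haveI := Fact.mk hq
  let τ : MulAut (X ⧸ N) := QuotientGroup.congr N N σ hNσ
  have hpow : ∀ (k : ℕ) (x : X), (τ ^ k) (x : X ⧸ N) = (((σ ^ k) x : X) : X ⧸ N) := by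
    intro k
    induction k with
    | zero => intro x; rfl
    | succ k ih =>
      intro x
      rw [pow_succ', pow_succ', MulAut.mul_apply, MulAut.mul_apply, ih x]
      rfl
  refine ⟨τ, orderOf_eq_prime (MulEquiv.ext fun y => ?_) fun h1 => ?_⟩
  · obtain ⟨x, rfl⟩ := QuotientGroup.mk_surjective y
    rw [hpow, ← hσ, pow_orderOf_eq_one]
    rfl
  · obtain ⟨hidx, hmov⟩ := index_frattini_eq_and_moves hX hm hq hq2 hσ
    obtain ⟨x, hx⟩ : ∃ x, x ∉ frattini X := by
      by_contra! h
      have h1 := Subgroup.index_eq_one.2 (eq_top_iff.2 fun x _ => h x)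
      omega
    have h2 := hpow 1 x
    rw [pow_one, pow_one, h1, MulAut.one_apply] at h2
    exact hmov x hx (hNΦ (QuotientGroup.eq.1 h2))

/-- The nonabelian case: the quaternion group of order eight. -/
theorem quaternion_of_not_comm (hab : ¬ IsMulCommutative X) :
    Nonempty (X ≃* QuaternionGroup 2) := by
  haveI : Fact (Nat.Prime 2) := ⟨Nat.prime_two⟩
  obtain ⟨hidx, hmov⟩ := index_frattini_eq_and_moves hX hm hq hq2 hσ
  set C := commutator X with hC
  have hCΦ : C ≤ frattini X := CfsgLib.Coprime.commutator_le_frattini hX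
  have hCchar : C.map σ.toMonoidHom = C :=
    Subgroup.characteristic_iff_map_eq.1 inferInstance σ
  obtain ⟨τ, hτ⟩ := exists_quotient_aut hX hm hq hq2 hσ C hCchar hCΦ
  obtain ⟨n, hn, ⟨e⟩⟩ := homocyclic_of_comm (hX.to_quotient C) (quotient hm C) hq hq2 hτ
    fun a b => by
      obtain ⟨x, rfl⟩ := QuotientGroup.mk_surjective a
      obtain ⟨y, rfl⟩ := QuotientGroup.mk_surjective b
      rw [← commutatorElement_eq_one_iff_mul_comm, ← QuotientGroup.mk'_apply,
        ← QuotientGroup.mk'_apply, ← map_commutatorElement, QuotientGroup.mk'_apply,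
        QuotientGroup.eq_one_iff]
      exact commutator_mem_commutator (mem_top x) (mem_top y)
  have hCidx : C.index = 2 ^ n * 2 ^ n := by
    rw [Subgroup.index_eq_card, Nat.card_congr e.toEquiv]
    simp [Nat.card_prod]
  by_cases hn1 : n = 1
  · subst hn1
    exact Cfsg.Agent.S4189.result hX hab (by rw [hCidx]; norm_num) fun h => by
      obtain ⟨k, hk⟩ := h σ
      have h1 : q ∣ 2 ^ k := hσ ▸ orderOf_dvd_of_pow_eq_one hk
      exact hq2 ((Nat.prime_dvd_prime_iff_eq hq Nat.prime_two).1 (hq.dvd_of_dvd_pow h1))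
  exfalso
  obtain ⟨K, hK, hKc, hKq⟩ := id hm
  haveI := hK
  haveI := hKc
  haveI := hKq
  have hCK : C ≤ K := by
    rw [hC, _root_.commutator_def]
    refine Subgroup.commutator_le.2 fun x _ y _ => ?_
    rw [← QuotientGroup.eq_one_iff, ← QuotientGroup.mk'_apply, map_commutatorElement,
      commutatorElement_eq_one_iff_mul_comm]
    exact (IsCyclic.isMulCommutative (α := X ⧸ K)).is_comm.comm _ _
  haveI : IsCyclic C := isCyclic_of_injective (Subgroup.inclusion hCK) (Subgroup.inclusion_injective hCK)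
  obtain ⟨c, hc⟩ := IsCyclic.exists_generator (α := C)
  have hCz : ∀ y ∈ C, y ∈ zpowers (c : X) := fun y hy => by
    obtain ⟨i, hi⟩ := mem_zpowers_iff.1 (hc ⟨y, hy⟩)
    exact mem_zpowers_iff.2 ⟨i, by rw [← Subgroup.coe_zpow, hi]⟩
  set W := zpowers ((c : X) ^ 2) with hW
  have hWC : W ≤ C := zpowers_le.2 (pow_mem c.2 2)
  have himg : ∀ f : X ≃* X, f (c : X) ∈ C → f ((c : X) ^ 2) ∈ W := fun f hf => by
    obtain ⟨i, hi⟩ := mem_zpowers_iff.1 (hCz _ hf)
    refine mem_zpowers_iff.2 ⟨i, ?_⟩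
    rw [map_pow, ← hi, ← zpow_natCast, ← zpow_natCast, ← zpow_mul, ← zpow_mul, mul_comm]
  haveI hWn : W.Normal := by
    refine ⟨fun w hw g => ?_⟩
    have h1 : W.map (MulAut.conj g).toMonoidHom ≤ W := by
      rw [hW, MonoidHom.map_zpowers]
      exact zpowers_le.2 (himg (MulAut.conj g)
        ((inferInstance : C.Normal).conj_mem _ c.2 g))
    exact h1 ⟨w, hw, rfl⟩
  have hWσ : W.map σ.toMonoidHom = W := by
    refine Subgroup.eq_of_le_of_card_ge ?_ (le_of_eq (Subgroup.card_map_of_injective σ.injective).symm)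
    rw [hW, MonoidHom.map_zpowers]
    exact zpowers_le.2 (himg σ (hCchar.le ⟨_, c.2, rfl⟩))
  have hCne : C ≠ ⊥ := fun h => hab (isMulCommutative_iff.2 fun a b => by
    rw [← commutatorElement_eq_one_iff_mul_comm, ← Subgroup.mem_bot, ← h]
    exact commutator_mem_commutator (mem_top a) (mem_top b))
  have hc1 : (c : X) ≠ 1 := fun h => hCne ((Subgroup.eq_bot_iff_forall _).2 fun y hy => by
    obtain ⟨i, hi⟩ := mem_zpowers_iff.1 (hCz y hy)
    rw [← hi, h, one_zpow])
  -- the group modulo `W`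
  set π := QuotientGroup.mk' W with hπ
  set d := π (c : X) with hd
  have hd2 : d ^ 2 = 1 := by
    rw [hd, ← map_pow]
    exact (QuotientGroup.eq_one_iff _).2 (mem_zpowers _)
  have hd1 : d ≠ 1 := fun h => by
    obtain ⟨i, hi⟩ := mem_zpowers_iff.1 ((QuotientGroup.eq_one_iff _).1 h)
    obtain ⟨k, hk⟩ := hX (c : X)
    have h1 : (c : X) ^ (2 * i - 1) = 1 := by
      rw [zpow_sub, zpow_mul, zpow_ofNat, hi, zpow_one, mul_inv_cancel]
    have h2 : (orderOf (c : X) : ℤ) ∣ 2 * i - 1 := orderOf_dvd_iff_zpow_eq_one.2 h1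
    obtain ⟨l, hl, hle⟩ := (Nat.dvd_prime_pow Nat.prime_two).1 (orderOf_dvd_of_pow_eq_one hk)
    rcases l with _ | l
    · exact hc1 (orderOf_eq_one_iff.1 (by simpa using hle))
    · have h3 : ((2 : ℕ) : ℤ) ∣ 2 * i - 1 :=
        dvd_trans (by rw [hle]; exact_mod_cast dvd_pow_self 2 (Nat.succ_ne_zero l)) h2
      omega
  have hdC : ∀ y ∈ C, π y = 1 ∨ π y = d := fun y hy => by
    obtain ⟨i, hi⟩ := mem_zpowers_iff.1 (hCz y hy)
    rw [← hi, map_zpow, ← hd, ← Int.mul_ediv_add_emod i 2, zpow_add, zpow_mul, zpow_ofNat, hd2,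
      one_zpow, one_mul]
    rcases Int.emod_two_eq_zero_or_one i with h | h
    · rw [h, zpow_zero]; exact Or.inl rfl
    · rw [h, zpow_one]; exact Or.inr rfl
  have hdc : ∀ y : X ⧸ W, Commute y d := fun y => by
    obtain ⟨g, rfl⟩ := QuotientGroup.mk'_surjective W y
    rcases hdC _ ((inferInstance : C.Normal).conj_mem _ c.2 g) with h | h
    · exfalso
      rw [map_mul, map_mul, map_inv, ← hd, mul_inv_eq_one] at h
      exact hd1 (mul_left_cancel (h.trans (mul_one _).symm))
    · rw [map_mul, map_mul, map_inv, ← hd, mul_inv_eq_iff_eq_mul] at h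
      exact h
  have hcomm : ∀ x y : X ⧸ W, ∃ t : X ⧸ W, t ^ 2 = 1 ∧ (∀ z, Commute z t) ∧ y * x = t * (x * y) := by
    intro x y
    obtain ⟨a, rfl⟩ := QuotientGroup.mk'_surjective W x
    obtain ⟨b, rfl⟩ := QuotientGroup.mk'_surjective W y
    refine ⟨π ⁅b, a⁆, ?_, ?_, ?_⟩
    · rcases hdC _ (commutator_mem_commutator (mem_top b) (mem_top a)) with h | h <;> rw [h]
      · exact one_pow 2
      · exact hd2
    · intro z
      rcases hdC _ (commutator_mem_commutator (mem_top b) (mem_top a)) with h | h <;> rw [h]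
      · exact Commute.one_right z
      · exact hdc z
    · rw [map_commutatorElement, commutatorElement_def]
      simp only [hπ]
      group
  have hsq : ∀ x y : X ⧸ W, Commute y (x ^ 2) := fun x y => by
    obtain ⟨t, ht, htc, hyx⟩ := hcomm x y
    show y * x ^ 2 = x ^ 2 * y
    calc y * x ^ 2 = (y * x) * x := by rw [sq, mul_assoc]
      _ = t * (x * (t * (x * y))) := by
        rw [hyx]; simp only [mul_assoc]; rw [hyx]
      _ = t * (t * (x * (x * y))) := by rw [← mul_assoc x t, (htc x).eq, mul_assoc]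
      _ = x ^ 2 * y := by rw [← mul_assoc t t, ← sq, ht, one_mul, sq, mul_assoc]
  have hfour : ∀ x y : X ⧸ W, (x * y) ^ 4 = x ^ 4 * y ^ 4 := fun x y => by
    obtain ⟨t, ht, htc, hyx⟩ := hcomm x y
    have h1 : (x * y) ^ 2 = t * (x ^ 2 * y ^ 2) := by
      calc (x * y) ^ 2 = x * (y * x) * y := by rw [sq]; simp only [mul_assoc]
        _ = x * t * (x * y) * y := by rw [hyx]; simp only [mul_assoc]
        _ = t * (x ^ 2 * y ^ 2) := by rw [(htc x).eq, sq, sq]; simp only [mul_assoc]
    rw [show (4 : ℕ) = 2 * 2 from rfl, pow_mul, h1, (htc _).symm.mul_pow, ht, one_mul,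
      (hsq x (y ^ 2)).symm.mul_pow, ← pow_mul, ← pow_mul]
  obtain ⟨m, rfl⟩ : ∃ m, n = m + 2 := ⟨n - 2, by omega⟩
  have hN : ∀ x y : X ⧸ W, (x * y) ^ 2 ^ (m + 2) = x ^ 2 ^ (m + 2) * y ^ 2 ^ (m + 2) := fun x y => by
    have h4 : (2 : ℕ) ^ (m + 2) = 4 * 2 ^ m := by ring
    rw [h4, pow_mul, hfour, pow_mul x, pow_mul y]
    refine Commute.mul_pow ?_ _
    exact ((hsq y (x ^ 4)).pow_right 2).mul_left (Commute.one_left _) |> fun h => by
      simpa [← pow_mul] using h
  let g : X →* X ⧸ W := MonoidHom.mk' (fun x => π x ^ 2 ^ (m + 2)) fun x y => by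
    rw [map_mul, hN]
  have hmemC : ∀ x : X, x ^ 2 ^ (m + 2) ∈ C := fun x => by
    rw [← QuotientGroup.eq_one_iff, QuotientGroup.mk_pow]
    refine e.injective ?_
    rw [map_pow, map_one]
    have hcy : ∀ z : Multiplicative (ZMod (2 ^ (m + 2))), z ^ 2 ^ (m + 2) = 1 := fun z => by
      apply Multiplicative.toAdd.injective
      rw [toAdd_pow, toAdd_one, nsmul_eq_mul, ZMod.natCast_self, zero_mul]
    exact Prod.ext (hcy _) (hcy _)
  have hgtop : g.ker = ⊤ := by
    by_contra hne
    have hle : g.ker ≤ frattini X := fun x hx => by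
      by_contra hxF
      refine hne (eq_top_of_invariant hX hm hq hq2 hσ g.ker (fun h hh => ?_) hx hxF)
      rw [MonoidHom.mem_ker] at hh ⊢
      change π h ^ 2 ^ (m + 2) = 1 at hh
      show π (σ h) ^ 2 ^ (m + 2) = 1
      rw [← map_pow] at hh ⊢
      rw [← map_pow, QuotientGroup.mk'_apply, QuotientGroup.eq_one_iff]
      rw [hπ, QuotientGroup.mk'_apply, QuotientGroup.eq_one_iff] at hh
      exact hWσ.le ⟨_, hh, rfl⟩
    have h1 := Subgroup.index_dvd_of_le hle
    rw [hidx, Subgroup.index_ker] at h1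
    have h2 : Nat.card g.range ≤ 2 := by
      refine (Nat.card_le_card_of_injective (β := ({1, d} : Set (X ⧸ W)))
        (fun y : g.range => ⟨(y : X ⧸ W), ?_⟩)
        fun a b h => Subtype.ext (congrArg Subtype.val h :)).trans ?_
      · obtain ⟨x, hx⟩ := y.2
        rw [← hx]
        show π x ^ 2 ^ (m + 2) ∈ ({1, d} : Set (X ⧸ W))
        rw [← map_pow]
        exact hdC _ (hmemC x)
      · rw [Nat.card_coe_set_eq]
        exact (Set.ncard_insert_le _ _).trans_eq (by rw [Set.ncard_singleton])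
    have := Nat.le_of_dvd Nat.card_pos h1
    omega
  have hpow : ∀ y : X ⧸ W, y ^ 2 ^ (m + 2) = 1 := fun y => by
    obtain ⟨x, rfl⟩ := QuotientGroup.mk'_surjective W y
    exact MonoidHom.mem_ker.1 (hgtop.ge (mem_top x))
  obtain ⟨k, hk⟩ := IsCyclic.exists_generator (α := K)
  obtain ⟨b', hb'⟩ := IsCyclic.exists_generator (α := X ⧸ K)
  obtain ⟨b, rfl⟩ := QuotientGroup.mk_surjective b'
  haveI : NeZero (2 ^ (m + 2) : ℕ) := ⟨pow_ne_zero _ two_ne_zero⟩
  set M := 2 ^ (m + 2) with hM
  have hsurj : Function.Surjective fun w : Fin M × Fin M => π b ^ (w.1 : ℕ) * π k ^ (w.2 : ℕ) := by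
    intro y
    obtain ⟨x, rfl⟩ := QuotientGroup.mk'_surjective W y
    obtain ⟨i, hi⟩ := mem_zpowers_iff.1 (hb' x)
    rw [← QuotientGroup.mk_zpow] at hi
    obtain ⟨j, hj⟩ := mem_zpowers_iff.1 (hk ⟨_, QuotientGroup.eq.1 hi⟩)
    have hx : x = b ^ i * (k : X) ^ j := by
      rw [← Subgroup.coe_zpow, hj, mul_inv_cancel_left]
    have hmodp : ∀ (y : X ⧸ W) (i : ℤ), ∃ t : Fin M, y ^ i = y ^ (t : ℕ) := fun y i => by
      have hM0 : (0 : ℤ) < M := by exact_mod_cast (NeZero.pos M)
      refine ⟨⟨(i % M).toNat, ?_⟩, ?_⟩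
      · have := Int.emod_lt_of_pos i hM0
        have := Int.emod_nonneg i hM0.ne'
        omega
      · show y ^ i = y ^ (i % M).toNat
        rw [← zpow_natCast, Int.toNat_of_nonneg (Int.emod_nonneg i hM0.ne')]
        conv_lhs => rw [← Int.mul_ediv_add_emod i M, zpow_add, zpow_mul, zpow_natCast, hpow,
          one_zpow, one_mul]
    obtain ⟨s, hs⟩ := hmodp (π b) i
    obtain ⟨t, ht⟩ := hmodp (π k) j
    exact ⟨(s, t), by rw [hx, map_mul, map_zpow, map_zpow, hs, ht]⟩
  have h1 := Nat.card_le_card_of_surjective _ hsurj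
  rw [Nat.card_prod, Nat.card_fin, ← Subgroup.index_eq_card] at h1
  have h2 : C.index < W.index := Subgroup.index_strictAnti (lt_of_le_of_ne hWC fun hEq =>
    hd1 ((QuotientGroup.eq_one_iff _).2 (hEq.ge c.2)))
  rw [hCidx] at h2
  omega

end Aut

/-- Metacyclic 2-groups whose automorphism group is not a 2-group. -/
theorem homocyclic_or_quaternion {X : Type u} [Group X] [Finite X] (hX : IsPGroup 2 X)
    (hm : Cfsg.IsMetacyclic X) (hA : ¬ IsPGroup 2 (MulAut X)) :
    Nonempty (X ≃* QuaternionGroup 2) ∨ ∃ n : ℕ, 1 ≤ n ∧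
      Nonempty (X ≃* Multiplicative (ZMod (2 ^ n)) × Multiplicative (ZMod (2 ^ n))) := by
  obtain ⟨q, σ, hq, hq2, hσ⟩ := exists_odd_aut hA
  by_cases hab : IsMulCommutative X
  · exact Or.inr (homocyclic_of_comm hX hm hq hq2 hσ fun a b => hab.is_comm.comm a b)
  · exact Or.inl (quaternion_of_not_comm hX hm hq hq2 hσ hab)

end CfsgLib.PGroup.MetaTwo
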