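import Cfsg.Agent.Lib.PGroup.MaxClassSeries

/-!
# The first two terms of the upper central series of a group of maximal class
-/

set_option autoImplicit false
set_option linter.style.haveILetI false

open Subgroup

namespace CfsgLib.PGroup

universe u

variable {G : Type u} [Group G] [Finite G] {p : ℕ} [hpf : Fact p.Prime]

theorem nilpotencyClass_le_pred (hG : IsPGroup p G) {r : ℕ} (hr : Nat.card G = p ^ r) (h2 : 2 ≤ r) :
    Group.nilpotencyClass G ≤ r - 1 := by
  haveI := hG.isNilpotent
  refine Subgroup.lowerCentralSeries_eq_bot_iff_nilpotencyClass_le.1 (eq_bot_of_card_eq _ ?_)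
  have h1 := pow_le_index_lowerCentralSeries hG hr h2 (r - 1) (by omega)
  rw [show min (r - 1 + 1) r = r by omega] at h1
  have h3 := ((⊤ : Subgroup G).lowerCentralSeries (r - 1)).card_mul_index
  rw [hr] at h3
  refine le_antisymm (Nat.le_of_mul_le_mul_right ?_ (pow_pos hpf.out.pos r)) Nat.card_pos
  rw [one_mul]
  exact (Nat.mul_le_mul_left _ h1).trans h3.le

theorem card_center_of_maximal (hG : IsPGroup p G) {n : ℕ} (hn : Nat.card G = p ^ n) (h3 : 3 ≤ n)
    (hcl : Group.nilpotencyClass G = n - 1) : Nat.card (center G) = p := by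
  haveI := hG.isNilpotent
  obtain ⟨k, hk, hkc⟩ := (Nat.dvd_prime_pow hpf.out).1 (hn ▸ card_subgroup_dvd_card (center G))
  have hq : Group.nilpotencyClass (G ⧸ center G) = n - 2 := by
    rw [nilpotencyClass_quotient_center, hcl]; omega
  have hcardq : Nat.card (G ⧸ center G) = p ^ (n - k) := by
    have h1 := (center G).card_mul_index
    rw [hn, hkc, index_eq_card, show p ^ n = p ^ k * p ^ (n - k) by
      rw [← pow_add]; congr 1; omega] at h1
    exact Nat.eq_of_mul_eq_mul_left (pow_pos hpf.out.pos k) h1
  have hk1 : k ≤ 1 := by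
    by_contra hk2
    by_cases h2 : 2 ≤ n - k
    · have := nilpotencyClass_le_pred (hG.to_quotient _) hcardq h2
      omega
    · have hc : Group.nilpotencyClass G ≤ 1 := by
        refine Subgroup.lowerCentralSeries_eq_bot_iff_nilpotencyClass_le.1 ?_
        haveI : IsCyclic (G ⧸ center G) := by
          interval_cases h : n - k
          · haveI := (Nat.card_eq_one_iff_unique.1 (hcardq.trans (pow_zero p))).1
            infer_instance
          · exact isCyclic_of_prime_card (hcardq.trans (pow_one p))
        rw [top_lowerCentralSeries_one, commutator_eq_bot_iff_center_eq_top,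
          eq_top_iff]
        exact fun x _ => mem_center_iff.2 fun y =>
          commutative_of_cyclic_center_quotient (QuotientGroup.mk' (center G))
            (le_of_eq (QuotientGroup.ker_mk' _)) y x
      omega
  have hnt : Nontrivial G := Finite.one_lt_card_iff_nontrivial.1
    (hn ▸ Nat.one_lt_pow (by omega) hpf.out.one_lt)
  haveI := hG.center_nontrivial
  have : k ≠ 0 := fun h0 => by
    rw [h0, pow_zero] at hkc
    exact absurd hkc (ne_of_gt Finite.one_lt_card)
  rw [hkc, show k = 1 by omega, pow_one]

theorem card_upperCentralSeries_two (hG : IsPGroup p G) {n : ℕ} (hn : Nat.card G = p ^ n)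
    (h4 : 4 ≤ n) (hcl : Group.nilpotencyClass G = n - 1) :
    Nat.card (Subgroup.upperCentralSeries G 2) = p ^ 2 := by
  haveI := hG.isNilpotent
  have hZ := card_center_of_maximal hG hn (by omega) hcl
  have hcardq : Nat.card (G ⧸ center G) = p ^ (n - 1) := by
    have h1 := (center G).card_mul_index
    rw [hn, hZ, index_eq_card, show p ^ n = p * p ^ (n - 1) by
      rw [← pow_succ']; congr 1; omega] at h1
    exact Nat.eq_of_mul_eq_mul_left hpf.out.pos h1
  have hZ' := card_center_of_maximal (hG.to_quotient _) hcardq (by omega)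
    (by rw [nilpotencyClass_quotient_center, hcl])
  have h2 : Subgroup.upperCentralSeries G 2 = (center (G ⧸ center G)).comap (QuotientGroup.mk' (center G)) := by
    ext x
    rw [mem_comap, Subgroup.mem_upperCentralSeries_succ_iff, mem_center_iff]
    refine ⟨fun h y => ?_, fun h y => ?_⟩
    · obtain ⟨y, rfl⟩ := QuotientGroup.mk'_surjective _ y
      have h1 := h y
      rw [Subgroup.upperCentralSeries_one, ← QuotientGroup.eq_one_iff, ← QuotientGroup.mk'_apply,
        map_commutatorElement, commutatorElement_eq_one_iff_mul_comm] at h1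
      exact h1.symm
    · rw [Subgroup.upperCentralSeries_one, ← QuotientGroup.eq_one_iff, ← QuotientGroup.mk'_apply,
        map_commutatorElement, commutatorElement_eq_one_iff_mul_comm]
      exact (h _).symm
  have e1 := ((center (G ⧸ center G)).comap (QuotientGroup.mk' (center G))).card_mul_index
  have e2 := (center (G ⧸ center G)).card_mul_index
  rw [index_comap_of_surjective _ (QuotientGroup.mk'_surjective _), hn] at e1
  rw [hZ', hcardq] at e2
  have e3 : p ^ 2 * (center (G ⧸ center G)).index = p ^ n := by
    rw [pow_two, mul_assoc, e2, ← pow_succ']; congr 1; omega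
  rw [h2]
  exact Nat.eq_of_mul_eq_mul_right (Nat.pos_of_ne_zero index_ne_zero_of_finite) (e1.trans e3.symm)

end CfsgLib.PGroup
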