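import Mathlib
import Cfsg.Agent.Lib.PGroup.RegularPowers

/-!
# Equal powers in regular `p`-groups

In a regular `p`-group `a ^ q = b ^ q` if and only if `(a * b⁻¹) ^ q = 1`, for a `p`-power `q`.
-/

set_option autoImplicit false
open Subgroup
open scoped commutatorElement

namespace CfsgLib.RegularPowers

universe u
variable {G : Type u} [Group G] [Finite G] {p : ℕ} [Fact p.Prime]

omit [Fact p.Prime] in
/-- A subgroup normalized by `a` and `b` and containing their commutator contains the derived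
subgroup of `⟨a, b⟩`. -/
theorem commutator_closure_pair_le {a b : G} {N : Subgroup G}
    (hN : ∀ g ∈ closure ({a, b} : Set G), ∀ x ∈ N, g * x * g⁻¹ ∈ N) (hab : ⁅a, b⁆ ∈ N) :
    ⁅closure ({a, b} : Set G), closure ({a, b} : Set G)⁆ ≤ N := by
  set H := closure ({a, b} : Set G)
  rw [commutator_le]
  -- first fix the left entry to a generator
  have step : ∀ s : G, s ∈ H → (∀ t ∈ ({a, b} : Set G), ⁅s, t⁆ ∈ N) → ∀ h ∈ H, ⁅s, h⁆ ∈ N := by
    intro s hs hgen h hh
    induction hh using closure_induction with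
    | mem t ht => exact hgen t ht
    | one => rw [show ⁅s, (1 : G)⁆ = 1 by simp]; exact one_mem N
    | mul x y hx _ ihx ihy =>
      rw [show ⁅s, x * y⁆ = ⁅s, x⁆ * (x * ⁅s, y⁆ * x⁻¹) by simp only [commutatorElement_def]; group]
      exact mul_mem ihx (hN x hx _ ihy)
    | inv x hx ihx =>
      rw [show ⁅s, x⁻¹⁆ = x⁻¹ * ⁅s, x⁆⁻¹ * x⁻¹⁻¹ by simp only [commutatorElement_def]; group]
      exact hN _ (inv_mem hx) _ (inv_mem ihx)
  intro g hg h hh
  have hflip : ∀ x y : G, ⁅x, y⁆ ∈ N → ⁅y, x⁆ ∈ N := fun x y hxy => by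
    rw [← commutatorElement_inv]; exact inv_mem hxy
  have hself : ∀ x : G, ⁅x, x⁆ ∈ N := fun x => by rw [commutatorElement_self]; exact one_mem N
  have hgenmem : ∀ t ∈ ({a, b} : Set G), ∀ h ∈ H, ⁅t, h⁆ ∈ N := fun t ht =>
    step t (subset_closure ht) fun u hu => by
      rcases ht with rfl | rfl <;> rcases hu with rfl | rfl
      exacts [hself _, hab, hflip _ _ hab, hself _]
  exact step g hg (fun t ht => hflip _ _ (hgenmem t ht g hg)) h hh

theorem zpowers_sup_commutator_lt (hG : IsPGroup p G) {x : G} {K : Subgroup G} (hx : x ∈ K)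
    (hab : ⁅K, K⁆ ≠ ⊥) : zpowers x ⊔ ⁅K, K⁆ < K := by
  have hD : ⁅K, K⁆ ≤ K := commutator_le.2 fun a ha b hb => by
    rw [commutatorElement_def]
    exact mul_mem (mul_mem (mul_mem ha hb) (inv_mem ha)) (inv_mem hb)
  refine lt_of_le_of_ne (sup_le (zpowers_le.2 hx) hD) fun e => ?_
  set t : K := ⟨x, hx⟩
  have htop : zpowers t ⊔ frattini K = ⊤ := by
    refine eq_top_iff.2 (le_trans ?_ (sup_le_sup_left (CfsgLib.Coprime.commutator_le_frattini
      (hG.to_subgroup K)) _))
    refine (map_le_map_iff_of_injective K.subtype_injective).1 ?_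
    rw [← MonoidHom.range_eq_map, range_subtype, Subgroup.map_sup, MonoidHom.map_zpowers,
      _root_.commutator_def, map_commutator, ← MonoidHom.range_eq_map, range_subtype]
    exact e.ge
  have htop' := frattini_nongenerating htop
  refine hab ((commutator_eq_bot_iff_le_centralizer).2 fun a ha => mem_centralizer_iff.2 fun b hb => ?_)
  obtain ⟨i, hi⟩ := mem_zpowers_iff.1 (htop'.ge (mem_top (⟨a, ha⟩ : K)))
  obtain ⟨j, hj⟩ := mem_zpowers_iff.1 (htop'.ge (mem_top (⟨b, hb⟩ : K)))
  have h1 := congrArg Subtype.val (((Commute.refl t).zpow_zpow j i).eq)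
  rw [hi, hj] at h1
  exact h1

omit [Finite G] [Fact p.Prime] in
/-- When the derived subgroup of `⟨x, y⟩` has exponent dividing `p ^ n`, powers multiply. -/
theorem mul_pow_of_exponent {n : ℕ} (h : PowRule G p n) {x y : G} {N : Subgroup G}
    (hN : ⁅closure ({x, y} : Set G), closure ({x, y} : Set G)⁆ ≤ N) (he : ∀ z ∈ N, z ^ p ^ n = 1) :
    (x * y) ^ p ^ n = x ^ p ^ n * y ^ p ^ n := by
  obtain ⟨c, hc, e⟩ := h x y
  have hc1 : c ∈ (⊥ : Subgroup G) := by
    refine (closure_le _).2 ?_ hc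
    rintro _ ⟨z, hz, rfl⟩
    exact mem_bot.2 (he z (hN hz))
  rw [e, mem_bot.1 hc1, mul_one]

theorem pow_eq_iff (hG : IsPGroup p G) {n : ℕ} (h : PowRule G p n) (m : ℕ) : ∀ H : Subgroup G,
    Nat.card H = m → ∀ a ∈ H, ∀ b ∈ H, (a ^ p ^ n = b ^ p ^ n ↔ (a * b⁻¹) ^ p ^ n = 1) := by
  induction m using Nat.strong_induction_on with
  | _ m ih =>
  intro H hm a ha b hb
  set K := closure ({a, b} : Set G) with hK
  have haK : a ∈ K := subset_closure (Or.inl rfl)
  have hbK : b ∈ K := subset_closure (Or.inr rfl)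
  have hKH : K ≤ H := closure_pair_le ha hb
  by_cases hab : ⁅K, K⁆ = ⊥
  · have hc : Commute a b := commutatorElement_eq_one_iff_mul_comm.1
      (mem_bot.1 (hab ▸ commutator_mem_commutator haK hbK))
    rw [hc.inv_right.mul_pow, inv_pow, mul_inv_eq_one]
  have hD : ⁅K, K⁆ ≤ K := commutator_le.2 fun x hx y hy => by
    rw [commutatorElement_def]
    exact mul_mem (mul_mem (mul_mem hx hy) (inv_mem hx)) (inv_mem hy)
  -- equal powers of `x` and of a conjugate give exponent `p ^ n` on the derived subgroup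
  have key : ∀ x ∈ K, ∀ g ∈ K, (g * x * g⁻¹) ^ p ^ n = x ^ p ^ n →
      ⁅closure ({g, x} : Set G), closure ({g, x} : Set G)⁆ = ⁅K, K⁆ →
      ∀ z ∈ ⁅K, K⁆, z ^ p ^ n = 1 := by
    intro x hx g hg he hgen
    have hlt : Nat.card (zpowers x ⊔ ⁅K, K⁆ : Subgroup G) < m := hm ▸ lt_of_lt_of_le
      (lt_of_le_of_ne (card_le_of_le (sup_le (zpowers_le.2 hx) hD)) fun e =>
        (zpowers_sup_commutator_lt hG hx hab).ne (eq_of_le_of_card_ge (sup_le (zpowers_le.2 hx) hD) e.ge))
      (card_le_of_le hKH)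
    have hIH := ih _ hlt _ rfl
    have hgx : g * x * g⁻¹ ∈ zpowers x ⊔ ⁅K, K⁆ := by
      rw [show g * x * g⁻¹ = ⁅g, x⁆ * x by rw [commutatorElement_def]; group]
      exact mul_mem (mem_sup_right (commutator_mem_commutator hg hx)) (mem_sup_left (mem_zpowers x))
    have h1 := (hIH _ hgx x (mem_sup_left (mem_zpowers x))).1 he
    let N : Subgroup G :=
      { carrier := {z | z ∈ ⁅K, K⁆ ∧ z ^ p ^ n = 1}
        one_mem' := ⟨one_mem _, one_pow _⟩
        inv_mem' := fun {z} hz => ⟨inv_mem hz.1, by rw [inv_pow, hz.2, inv_one]⟩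
        mul_mem' := fun {z w} hz hw => ⟨mul_mem hz.1 hw.1, by
          have := (hIH z (mem_sup_right hz.1) w⁻¹ (mem_sup_right (inv_mem hw.1))).1
            (by rw [hz.2, inv_pow, hw.2, inv_one])
          rwa [inv_inv] at this⟩ }
    have hle : ⁅closure ({g, x} : Set G), closure ({g, x} : Set G)⁆ ≤ N := by
      refine commutator_closure_pair_le (fun c hc z hz => ?_) ⟨commutator_mem_commutator hg hx, ?_⟩
      · have hcK : c ∈ K := closure_pair_le hg hx hc
        refine ⟨?_, by rw [conj_pow, hz.2, mul_one, mul_inv_cancel]⟩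
        have h2 : ⁅K, K⁆.map (MulAut.conj c).toMonoidHom ≤ ⁅K, K⁆ := by
          rw [map_commutator]
          refine commutator_mono ?_ ?_ <;>
          · rintro _ ⟨y, hy, rfl⟩
            exact mul_mem (mul_mem hcK hy) (inv_mem hcK)
        exact h2 ⟨z, hz.1, rfl⟩
      · rwa [show ⁅g, x⁆ = g * x * g⁻¹ * x⁻¹ from rfl]
    rw [hgen] at hle
    exact fun z hz => (hle hz).2
  constructor
  · intro he
    have hexp := key a haK b hbK (by rw [conj_pow, he, ← pow_succ', pow_succ, mul_inv_cancel_right])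
      (by rw [Set.pair_comm])
    have hcl : closure ({a, b⁻¹} : Set G) ≤ K := closure_pair_le haK (inv_mem hbK)
    rw [mul_pow_of_exponent h (commutator_mono hcl hcl) hexp, inv_pow, he, mul_inv_cancel]
  · intro he
    set c := a * b⁻¹ with hc
    have hcK : c ∈ K := mul_mem haK (inv_mem hbK)
    have hgen : closure ({b, c} : Set G) = K := le_antisymm (closure_pair_le hbK hcK)
      (closure_pair_le (by
        rw [show a = c * b by rw [hc, inv_mul_cancel_right]]
        exact mul_mem (subset_closure (Or.inr rfl)) (subset_closure (Or.inl rfl))) (subset_closure (Or.inl rfl)))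
    have hexp := key c hcK b hbK (by rw [conj_pow, he, mul_one, mul_inv_cancel]) (by rw [hgen])
    have hcl : closure ({c, b} : Set G) ≤ K := closure_pair_le hcK hbK
    have := mul_pow_of_exponent h (commutator_mono hcl hcl) hexp
    rw [he, one_mul, hc, inv_mul_cancel_right] at this
    exact this

/-- Equal powers in a regular `p`-group. -/
theorem regular_pow_eq_iff (hG : Cfsg.IsRegularPGroup p G) (a b : G) (k : ℕ) :
    a ^ p ^ k = b ^ p ^ k ↔ (a * b⁻¹) ^ p ^ k = 1 :=
  pow_eq_iff hG.1 (fun x y => hG.2 x y k) _ ⊤ rfl a (mem_top a) b (mem_top b)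

end CfsgLib.RegularPowers
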