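import Cfsg.Agent.Lib.PGroup.CommutatorChain
import Mathlib.Algebra.Lie.Basic
import Mathlib.Algebra.DirectSum.Basic
import Mathlib.GroupTheory.Nilpotent

/-!
# The Lie ring associated with the lower central series of a group

`GrRing G` is the direct sum of the sections `γ n / γ (n + 1)` (numbered from `0`), with the bracket
induced by the group commutator.
-/

set_option autoImplicit false
set_option linter.style.haveILetI false
set_option linter.unusedSectionVars false

open Subgroup DirectSum

namespace CfsgLib.GrLie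

universe u

variable {G : Type u} [Group G]

/-- The terms of the lower central series, numbered from `0`. -/
abbrev γ (G : Type u) [Group G] (n : ℕ) : Subgroup G := (⊤ : Subgroup G).lowerCentralSeries n

theorem γ_antitone {m n : ℕ} (h : m ≤ n) : γ G n ≤ γ G m := Subgroup.lowerCentralSeries_antitone _ h

theorem comm_γ_le (i j : ℕ) : ⁅γ G i, γ G j⁆ ≤ γ G (i + j + 1) :=
  CfsgLib.PGroup.commutator_lowerCentralSeries_le_chain (D := fun n => γ G n) (fun _ => inferInstance)
    (fun _ => le_rfl) j i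

open scoped commutatorElement in
theorem comm_mem {i j : ℕ} {g h : G} (hg : g ∈ γ G i) (hh : h ∈ γ G j) : ⁅g, h⁆ ∈ γ G (i + j + 1) :=
  comm_γ_le i j (commutator_mem_commutator hg hh)

open scoped commutatorElement in
theorem comm_mem_succ {n : ℕ} {x : G} (g : G) (hx : x ∈ γ G n) : ⁅g, x⁆ ∈ γ G (n + 1) := by
  have h := comm_mem (i := 0) (j := n) (g := g) (by simp [γ]) hx
  rwa [zero_add] at h

/-- The section `γ n / γ (n + 1)`. -/
abbrev LayerQuot (G : Type u) [Group G] (n : ℕ) : Type u :=
  ↥(γ G n) ⧸ (γ G (n + 1)).subgroupOf (γ G n)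

open scoped commutatorElement in
instance instCommGroupLayer (n : ℕ) : CommGroup (LayerQuot G n) :=
  { (inferInstance : Group (LayerQuot G n)) with
    mul_comm := by
      intro a b
      induction a using QuotientGroup.induction_on with
      | _ a =>
        induction b using QuotientGroup.induction_on with
        | _ b =>
          rw [← QuotientGroup.mk_mul, ← QuotientGroup.mk_mul, QuotientGroup.eq, mem_subgroupOf]
          have h : ⁅(b : G)⁻¹, (a : G)⁻¹⁆ ∈ γ G (n + 1) :=
            γ_antitone (by omega) (comm_mem (inv_mem b.2) (inv_mem a.2))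
          simpa [commutatorElement_def, mul_assoc] using h }

/-- The section, written additively. -/
abbrev Layer (G : Type u) [Group G] (n : ℕ) : Type u := Additive (LayerQuot G n)

/-- The underlying module of the associated Lie ring. -/
abbrev GrRing (G : Type u) [Group G] : Type u := ⨁ n, Layer G n

open Classical in
/-- The class of an element in a layer (zero outside `γ n`). -/
noncomputable def cl (n : ℕ) (g : G) : Layer G n :=
  if h : g ∈ γ G n then Additive.ofMul (QuotientGroup.mk ⟨g, h⟩) else 0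

/-- The homogeneous element of degree `n` given by `g`. -/
noncomputable def el (n : ℕ) (g : G) : GrRing G := DirectSum.of (Layer G) n (cl n g)

theorem cl_mul {n : ℕ} {g h : G} (hg : g ∈ γ G n) (hh : h ∈ γ G n) :
    cl n (g * h) = cl n g + cl n h := by
  unfold cl
  rw [dif_pos hg, dif_pos hh, dif_pos (mul_mem hg hh), ← ofMul_mul]
  rfl

theorem cl_eq_zero_iff {n : ℕ} {g : G} (hg : g ∈ γ G n) : cl n g = 0 ↔ g ∈ γ G (n + 1) := by
  unfold cl
  rw [dif_pos hg, ofMul_eq_zero, QuotientGroup.eq_one_iff]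
  rfl

theorem exists_cl {n : ℕ} (x : Layer G n) : ∃ g ∈ γ G n, cl n g = x := by
  obtain ⟨g, hg⟩ := QuotientGroup.mk_surjective (Additive.toMul x)
  refine ⟨g, g.2, ?_⟩
  unfold cl
  rw [dif_pos g.2]
  exact congrArg Additive.ofMul hg

theorem el_mul {n : ℕ} {g h : G} (hg : g ∈ γ G n) (hh : h ∈ γ G n) :
    el n (g * h) = el n g + el n h := by
  unfold el
  rw [cl_mul hg hh, map_add]

theorem el_eq_zero_iff {n : ℕ} {g : G} (hg : g ∈ γ G n) : el n g = 0 ↔ g ∈ γ G (n + 1) := by
  unfold el
  rw [← cl_eq_zero_iff hg]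
  exact ⟨fun h => DirectSum.of_injective n (h.trans (map_zero _).symm), fun h => by rw [h, map_zero]⟩

theorem el_eq_zero_of_not {n : ℕ} {g : G} (hg : g ∉ γ G n) : el n g = 0 := by
  unfold el cl
  rw [dif_neg hg, map_zero]

theorem el_eq_zero_of_mem {n : ℕ} {g : G} (hg : g ∈ γ G (n + 1)) : el n g = 0 :=
  (el_eq_zero_iff (γ_antitone n.le_succ hg)).2 hg

theorem el_one (n : ℕ) : el n (1 : G) = 0 := el_eq_zero_of_mem (one_mem _)

theorem el_inv {n : ℕ} {g : G} (hg : g ∈ γ G n) : el n g⁻¹ = -el n g :=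
  eq_neg_of_add_eq_zero_left (by rw [← el_mul (inv_mem hg) hg, inv_mul_cancel, el_one])

open scoped commutatorElement in
theorem el_conj {n : ℕ} {x : G} (g : G) (hx : x ∈ γ G n) : el n (g * x * g⁻¹) = el n x := by
  have h := comm_mem_succ g hx
  have e : g * x * g⁻¹ = ⁅g, x⁆ * x := by rw [commutatorElement_def]; group
  rw [e, el_mul (γ_antitone n.le_succ h) hx, el_eq_zero_of_mem h, zero_add]

open scoped commutatorElement in
theorem el_comm_mul_left {i j : ℕ} {g g' h : G} (hg : g ∈ γ G i) (hg' : g' ∈ γ G i) (hh : h ∈ γ G j) :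
    el (i + j + 1) ⁅g * g', h⁆ = el (i + j + 1) ⁅g, h⁆ + el (i + j + 1) ⁅g', h⁆ := by
  have e : ⁅g * g', h⁆ = g * ⁅g', h⁆ * g⁻¹ * ⁅g, h⁆ := by simp only [commutatorElement_def]; group
  have h1 := comm_mem hg' hh
  rw [e, el_mul (Normal.conj_mem inferInstance _ h1 g) (comm_mem hg hh), el_conj g h1, add_comm]

open scoped commutatorElement in
theorem el_comm_mul_right {i j : ℕ} {g h h' : G} (hg : g ∈ γ G i) (hh : h ∈ γ G j) (hh' : h' ∈ γ G j) :
    el (i + j + 1) ⁅g, h * h'⁆ = el (i + j + 1) ⁅g, h⁆ + el (i + j + 1) ⁅g, h'⁆ := by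
  have e : ⁅g, h * h'⁆ = ⁅g, h⁆ * (h * ⁅g, h'⁆ * h⁻¹) := by simp only [commutatorElement_def]; group
  have h1 := comm_mem hg hh'
  rw [e, el_mul (comm_mem hg hh) (Normal.conj_mem inferInstance _ h1 h), el_conj h h1]

/-- A chosen representative. -/
noncomputable def rep {n : ℕ} (x : Layer G n) : G := (exists_cl x).choose

theorem rep_mem {n : ℕ} (x : Layer G n) : rep x ∈ γ G n := (exists_cl x).choose_spec.1

theorem cl_rep {n : ℕ} (x : Layer G n) : cl n (rep x) = x := (exists_cl x).choose_spec.2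

theorem rep_cl {n : ℕ} {g : G} (hg : g ∈ γ G n) : ∃ c ∈ γ G (n + 1), rep (cl n g) = g * c := by
  refine ⟨g⁻¹ * rep (cl n g), ?_, (mul_inv_cancel_left _ _).symm⟩
  rw [← cl_eq_zero_iff (mul_mem (inv_mem hg) (rep_mem _)), cl_mul (inv_mem hg) (rep_mem _), cl_rep,
    ← cl_mul (inv_mem hg) hg, inv_mul_cancel, cl_eq_zero_iff (one_mem _)]
  exact one_mem _

open scoped commutatorElement in
theorem el_comm_rep {i j : ℕ} {g h : G} (hg : g ∈ γ G i) (hh : h ∈ γ G j) :
    el (i + j + 1) ⁅rep (cl i g), rep (cl j h)⁆ = el (i + j + 1) ⁅g, h⁆ := by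
  obtain ⟨c, hc, e1⟩ := rep_cl hg
  obtain ⟨d, hd, e2⟩ := rep_cl hh
  have hc' := γ_antitone i.le_succ hc
  have hd' := γ_antitone j.le_succ hd
  have z1 : el (i + j + 1) ⁅c, h * d⁆ = 0 :=
    el_eq_zero_of_mem (γ_antitone (by omega) (comm_mem hc (mul_mem hh hd')))
  have z2 : el (i + j + 1) ⁅g, d⁆ = 0 := el_eq_zero_of_mem (γ_antitone (by omega) (comm_mem hg hd))
  rw [e1, e2, el_comm_mul_left hg hc' (mul_mem hh hd'), z1, add_zero, el_comm_mul_right hg hh hd', z2,
    add_zero]

theorem el_def (n : ℕ) (g : G) : el n g = DirectSum.of (Layer G) n (cl n g) := rfl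

attribute [local irreducible] cl rep el

open scoped commutatorElement in
/-- The bracket between two layers. -/
noncomputable def br (i j : ℕ) : Layer G i →+ Layer G j →+ GrRing G :=
  AddMonoidHom.mk'
    (fun x => AddMonoidHom.mk' (fun y => el (i + j + 1) ⁅rep x, rep y⁆) fun y y' => by
      rw [← el_comm_mul_right (rep_mem x) (rep_mem y) (rep_mem y')]
      conv_rhs => rw [← el_comm_rep (rep_mem x) (mul_mem (rep_mem y) (rep_mem y')),
        cl_mul (rep_mem y) (rep_mem y'), cl_rep, cl_rep, cl_rep])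
    fun x x' => by
      refine AddMonoidHom.ext fun y => ?_
      show el (i + j + 1) ⁅rep (x + x'), rep y⁆ = el (i + j + 1) ⁅rep x, rep y⁆ + el (i + j + 1) ⁅rep x', rep y⁆
      rw [← el_comm_mul_left (rep_mem x) (rep_mem x') (rep_mem y)]
      conv_rhs => rw [← el_comm_rep (mul_mem (rep_mem x) (rep_mem x')) (rep_mem y),
        cl_mul (rep_mem x) (rep_mem x'), cl_rep, cl_rep, cl_rep]

open scoped commutatorElement in
theorem br_cl {i j : ℕ} {g h : G} (hg : g ∈ γ G i) (hh : h ∈ γ G j) :
    br i j (cl i g) (cl j h) = el (i + j + 1) ⁅g, h⁆ := el_comm_rep hg hh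

/-- The bracket as a biadditive map. -/
noncomputable def brHom : GrRing G →+ GrRing G →+ GrRing G :=
  DirectSum.toAddMonoid fun i => (DirectSum.toAddMonoid fun j => (br i j).flip).flip

open scoped commutatorElement in
theorem brHom_el {i j : ℕ} {g h : G} (hg : g ∈ γ G i) (hh : h ∈ γ G j) :
    brHom (el i g) (el j h) = el (i + j + 1) ⁅g, h⁆ := by
  unfold brHom
  rw [el_def i, el_def j, DirectSum.toAddMonoid_of, AddMonoidHom.flip_apply, DirectSum.toAddMonoid_of,
    AddMonoidHom.flip_apply, br_cl hg hh]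

theorem induction_el {P : GrRing G → Prop} (h0 : P 0) (hel : ∀ n, ∀ g ∈ γ G n, P (el n g))
    (hadd : ∀ x y, P x → P y → P (x + y)) (x : GrRing G) : P x := by
  induction x using DirectSum.induction_on with
  | zero => exact h0
  | of n x =>
    obtain ⟨g, hg, rfl⟩ := exists_cl x
    exact el_def n g ▸ hel n g hg
  | add x y hx hy => exact hadd x y hx hy

theorem brHom_anti (x y : GrRing G) : brHom x y + brHom y x = 0 := by
  induction x using induction_el with
  | h0 => simp
  | hel i g hg =>
    induction y using induction_el with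
    | h0 => simp
    | hel j h hh =>
      rw [brHom_el hg hh, brHom_el hh hg, add_comm j i, ← el_mul (comm_mem hg hh)
        (by rw [add_comm i j]; exact comm_mem hh hg)]
      refine el_eq_zero_of_mem ?_
      open scoped commutatorElement in rw [← commutatorElement_inv g h, mul_inv_cancel]
      exact one_mem _
    | hadd a b ha hb =>
      rw [map_add, map_add, AddMonoidHom.add_apply, add_add_add_comm, ha, hb, add_zero]
  | hadd a b ha hb =>
    rw [map_add, AddMonoidHom.add_apply, map_add, add_add_add_comm, ha, hb, add_zero]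

theorem brHom_self (x : GrRing G) : brHom x x = 0 := by
  induction x using induction_el with
  | h0 => simp
  | hel i g hg =>
    rw [brHom_el hg hg]
    open scoped commutatorElement in rw [commutatorElement_self]
    exact el_one _
  | hadd a b ha hb =>
    simp only [map_add, AddMonoidHom.add_apply, ha, hb, zero_add, add_zero]
    exact brHom_anti _ _

open scoped commutatorElement in
/-- The Jacobi identity in the group, modulo the next term. -/
theorem el_jacobi {i j k : ℕ} {g h l : G} (hg : g ∈ γ G i) (hh : h ∈ γ G j) (hl : l ∈ γ G k) :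
    el (i + j + k + 2) ⁅g, ⁅h, l⁆⁆ =
      el (i + j + k + 2) ⁅⁅g, h⁆, l⁆ + el (i + j + k + 2) ⁅h, ⁅g, l⁆⁆ := by
  set n := i + j + k + 2 with hn
  set a := ⁅g, h⁆ with ha
  set b := ⁅g, l⁆ with hb
  set c := ⁅h, l⁆ with hc
  have haγ := comm_mem hg hh
  have hbγ := comm_mem hg hl
  have hcγ := comm_mem hh hl
  rw [← ha] at haγ
  rw [← hb] at hbγ
  rw [← hc] at hcγ
  have hX : ⁅g, c⁆ ∈ γ G n := γ_antitone (by omega) (comm_mem hg hcγ)
  have hY : ⁅a, l⁆ ∈ γ G n := γ_antitone (by omega) (comm_mem haγ hl)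
  have hW : ⁅h, b⁆ ∈ γ G n := γ_antitone (by omega) (comm_mem hh hbγ)
  set π := QuotientGroup.mk' (γ G (n + 1)) with hπ
  have hcent : ∀ z ∈ γ G n, ∀ y : G, π z * π y = π y * π z := by
    intro z hz y
    rw [← commutatorElement_eq_one_iff_mul_comm, ← map_commutatorElement, hπ, QuotientGroup.mk'_apply,
      QuotientGroup.eq_one_iff, ← commutatorElement_inv y z]
    exact inv_mem (comm_mem_succ y hz)
  have hbc : π ⁅b, c⁆ = 1 := (QuotientGroup.eq_one_iff _).2 (γ_antitone (by omega) (comm_mem hbγ hcγ))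
  have hab : π ⁅a, b⁆ = 1 := (QuotientGroup.eq_one_iff _).2 (γ_antitone (by omega) (comm_mem haγ hbγ))
  have hac : π ⁅a, c⁆ = 1 := (QuotientGroup.eq_one_iff _).2 (γ_antitone (by omega) (comm_mem haγ hcγ))
  have e : ⁅g, c⁆ * c = a * (⁅h, b⁆ * ⁅b, c⁆) * a⁻¹ * (⁅a, c⁆ * c) * (⁅a, b⁆ * (b * ⁅a, l⁆ * b⁻¹)) := by
    simp only [ha, hb, hc, commutatorElement_def]; group
  have e2 := congrArg π e
  simp only [map_mul, hbc, hab, hac, one_mul, mul_one] at e2
  rw [← hcent _ hW a, map_inv, mul_inv_cancel_right, map_inv, ← hcent _ hY b, mul_inv_cancel_right,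
    mul_assoc, ← hcent _ hY c, ← mul_assoc, mul_left_inj, ← map_mul] at e2
  have hz : ⁅g, c⁆⁻¹ * (⁅h, b⁆ * ⁅a, l⁆) ∈ γ G (n + 1) := by
    rw [← QuotientGroup.eq_one_iff, ← QuotientGroup.mk'_apply, ← hπ, map_mul, map_inv, e2, inv_mul_cancel]
  calc el n ⁅g, c⁆ = el n ⁅g, c⁆ + el n (⁅g, c⁆⁻¹ * (⁅h, b⁆ * ⁅a, l⁆)) := by
        rw [el_eq_zero_of_mem hz, add_zero]
    _ = el n (⁅h, b⁆ * ⁅a, l⁆) := by
        rw [← el_mul hX (γ_antitone n.le_succ hz), mul_inv_cancel_left]
    _ = el n ⁅a, l⁆ + el n ⁅h, b⁆ := by rw [el_mul hW hY, add_comm]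

theorem brHom_leibniz (x y z : GrRing G) :
    brHom x (brHom y z) = brHom (brHom x y) z + brHom y (brHom x z) := by
  induction x using induction_el with
  | h0 => simp
  | hel i g hg =>
    induction y using induction_el with
    | h0 => simp
    | hel j h hh =>
      induction z using induction_el with
      | h0 => simp
      | hel k l hl =>
        rw [brHom_el hh hl, brHom_el hg hh, brHom_el hg hl, brHom_el hg (comm_mem hh hl),
          brHom_el (comm_mem hg hh) hl, brHom_el hh (comm_mem hg hl),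
          show i + (j + k + 1) + 1 = i + j + k + 2 by omega,
          show i + j + 1 + k + 1 = i + j + k + 2 by omega,
          show j + (i + k + 1) + 1 = i + j + k + 2 by omega]
        exact el_jacobi hg hh hl
      | hadd a b ha hb => simp only [map_add, ha, hb]; abel
    | hadd a b ha hb => simp only [map_add, AddMonoidHom.add_apply, ha, hb]; abel
  | hadd a b ha hb => simp only [map_add, AddMonoidHom.add_apply, ha, hb]; abel

noncomputable instance instBracketGrRing : Bracket (GrRing G) (GrRing G) := ⟨fun x y => brHom x y⟩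

/-- The Lie ring associated with the lower central series. -/
noncomputable instance instLieRingGrRing : LieRing (GrRing G) where
  add_lie x y z := by show brHom (x + y) z = _; rw [map_add]; rfl
  lie_add x y z := by show brHom x (y + z) = _; rw [map_add]; rfl
  lie_self x := brHom_self x
  leibniz_lie x y z := brHom_leibniz x y z

open scoped commutatorElement in
theorem lie_el {i j : ℕ} {g h : G} (hg : g ∈ γ G i) (hh : h ∈ γ G j) :
    (⁅el i g, el j h⁆ : GrRing G) = el (i + j + 1) ⁅g, h⁆ := brHom_el hg hh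

open scoped commutatorElement in
/-- The higher layers come from the first one. -/
theorem el_succ_mem {n : ℕ} (S : AddSubgroup (GrRing G))
    (hS : ∀ a ∈ γ G n, ∀ b : G, (⁅el n a, el 0 b⁆ : GrRing G) ∈ S) {g : G} (hg : g ∈ γ G (n + 1)) :
    el (n + 1) g ∈ S := by
  have hg' : g ∈ closure {z : G | ∃ a ∈ γ G n, ∃ b ∈ (⊤ : Subgroup G), ⁅a, b⁆ = z} := hg
  have key : g ∈ γ G (n + 1) ∧ el (n + 1) g ∈ S := by
    clear hg
    induction hg' using closure_induction with
    | mem z hz =>
      obtain ⟨a, ha, b, -, rfl⟩ := hz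
      have hb : b ∈ γ G 0 := by simp [γ]
      have h1 := comm_mem ha hb
      have h2 := hS a ha b
      rw [lie_el ha hb] at h2
      rw [add_zero] at h1 h2
      exact ⟨h1, h2⟩
    | one => exact ⟨one_mem _, by rw [el_one]; exact zero_mem S⟩
    | mul x y _ _ hx hy => exact ⟨mul_mem hx.1 hy.1, by rw [el_mul hx.1 hy.1]; exact add_mem hx.2 hy.2⟩
    | inv x _ hx => exact ⟨inv_mem hx.1, by rw [el_inv hx.1]; exact neg_mem hx.2⟩
  exact key.2

theorem map_γ_le (φ : G →* G) (n : ℕ) {g : G} (hg : g ∈ γ G n) : φ g ∈ γ G n := by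
  have h := mem_map_of_mem φ hg
  rw [map_lowerCentralSeries] at h
  exact Subgroup.lowerCentralSeries_mono n le_top h

/-- The map induced on a layer by an endomorphism. -/
noncomputable def layerMap (φ : G →* G) (n : ℕ) : Layer G n →+ Layer G n :=
  AddMonoidHom.mk' (fun x => cl n (φ (rep x))) fun x y => by
    rw [← cl_mul (map_γ_le φ n (rep_mem x)) (map_γ_le φ n (rep_mem y)), ← map_mul]
    obtain ⟨c, hc, e⟩ := rep_cl (mul_mem (rep_mem x) (rep_mem y))
    rw [cl_mul (rep_mem x) (rep_mem y), cl_rep, cl_rep] at e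
    rw [e, map_mul φ _ c, cl_mul (map_γ_le φ n (mul_mem (rep_mem x) (rep_mem y)))
      (map_γ_le φ n (γ_antitone n.le_succ hc)),
      (cl_eq_zero_iff (map_γ_le φ n (γ_antitone n.le_succ hc))).2 (map_γ_le φ _ hc), add_zero]

theorem layerMap_cl (φ : G →* G) {n : ℕ} {g : G} (hg : g ∈ γ G n) :
    layerMap φ n (cl n g) = cl n (φ g) := by
  obtain ⟨c, hc, e⟩ := rep_cl hg
  show cl n (φ (rep (cl n g))) = _
  rw [e, map_mul, cl_mul (map_γ_le φ n hg) (map_γ_le φ n (γ_antitone n.le_succ hc)),
    (cl_eq_zero_iff (map_γ_le φ n (γ_antitone n.le_succ hc))).2 (map_γ_le φ _ hc), add_zero]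

/-- The endomorphism of the Lie ring induced by an endomorphism of the group. -/
noncomputable def grMap (φ : G →* G) : GrRing G →+ GrRing G := DirectSum.map (layerMap φ)

theorem grMap_el (φ : G →* G) {n : ℕ} {g : G} (hg : g ∈ γ G n) : grMap φ (el n g) = el n (φ g) := by
  unfold grMap
  rw [el_def, el_def, DirectSum.map_of, layerMap_cl φ hg]

theorem grMap_lie (φ : G →* G) (x y : GrRing G) : grMap φ ⁅x, y⁆ = ⁅grMap φ x, grMap φ y⁆ := by
  induction x using induction_el with
  | h0 => simp
  | hel i g hg =>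
    induction y using induction_el with
    | h0 => simp
    | hel j h hh =>
      rw [lie_el hg hh, grMap_el φ hg, grMap_el φ hh, grMap_el φ (comm_mem hg hh),
        lie_el (map_γ_le φ i hg) (map_γ_le φ j hh)]
      open scoped commutatorElement in rw [map_commutatorElement]
    | hadd a b ha hb => rw [lie_add, map_add, map_add, lie_add, ha, hb]
  | hadd a b ha hb => rw [add_lie, map_add, map_add, add_lie, ha, hb]

theorem grMap_comp (φ ψ : G →* G) (x : GrRing G) : grMap φ (grMap ψ x) = grMap (φ.comp ψ) x := by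
  induction x using induction_el with
  | h0 => simp
  | hel i g hg => rw [grMap_el ψ hg, grMap_el φ (map_γ_le ψ i hg), grMap_el _ hg]; rfl
  | hadd a b ha hb => simp only [map_add, ha, hb]

theorem grMap_id (x : GrRing G) : grMap (MonoidHom.id G) x = x := by
  induction x using induction_el with
  | h0 => simp
  | hel i g hg => rw [grMap_el _ hg]; rfl
  | hadd a b ha hb => simp only [map_add, ha, hb]

/-- A finite group order annihilates the Lie ring. -/
theorem card_nsmul_eq_zero [Finite G] (x : GrRing G) : Nat.card G • x = 0 := by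
  induction x using induction_el with
  | h0 => simp
  | hel i g hg =>
    have h : ∀ m : ℕ, m • el i g = el i (g ^ m) := by
      intro m
      induction m with
      | zero => rw [zero_smul, pow_zero, el_one]
      | succ m ih => rw [succ_nsmul, pow_succ, el_mul (pow_mem hg m) hg, ih]
    rw [h, pow_card_eq_one', el_one]
  | hadd a b ha hb => rw [smul_add, ha, hb, add_zero]

/-- Fixed point freeness passes to the Lie ring. -/
theorem eq_zero_of_grMap_fixed [Finite G] (φ : G ≃* G)
    (hφ : ∀ n, ∀ g ∈ γ G n, (φ g)⁻¹ * g ∈ γ G (n + 1) → g ∈ γ G (n + 1)) {x : GrRing G}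
    (hx : grMap φ.toMonoidHom x = x) : x = 0 := by
  refine DFinsupp.ext fun n => ?_
  obtain ⟨g, hg, e⟩ := exists_cl (x n)
  have h1 : layerMap φ.toMonoidHom n (x n) = x n := by
    have := congrArg (fun y : GrRing G => y n) hx
    simpa [grMap, DirectSum.map_apply] using this
  rw [← e, layerMap_cl _ hg] at h1
  have h2 : φ g ∈ γ G n := map_γ_le φ.toMonoidHom n hg
  show x n = 0
  rw [← e, cl_eq_zero_iff hg]
  refine hφ n g hg ((cl_eq_zero_iff (mul_mem (inv_mem h2) hg)).1 ?_)
  rw [cl_mul (inv_mem h2) hg]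
  conv_lhs => arg 2; rw [← h1]
  rw [← cl_mul (inv_mem h2) (show φ.toMonoidHom g ∈ γ G n from h2)]
  show cl n ((φ g)⁻¹ * φ g) = 0
  rw [inv_mul_cancel, cl_eq_zero_iff (one_mem _)]
  exact one_mem _

end CfsgLib.GrLie
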