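import Mathlib.GroupTheory.Nilpotent
import Mathlib.GroupTheory.PGroup
import Mathlib.GroupTheory.Index
import Cfsg.Agent.Lib.PGroup.CommutatorChain

/-!
# Vaughan-Lee's bound on the derived subgroup of a `p`-group of bounded breadth

The lower central factors are filled up degree by degree by adjoining elements to a subgroup `P`.
In one degree, as long as some element is not isotropic every element loses one from its rank;
afterwards the elements are taken of greedy maximal rank, and then every coset of the final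
subgroup contains an element whose rank in this degree is at least the number of steps.
-/

set_option autoImplicit false
set_option linter.style.haveILetI false

namespace CfsgLib.Breadth

open Subgroup
open scoped commutatorElement

variable {G : Type*} [Group G]

/-- The lower central series, numbered from `0`. -/
abbrev gam (G : Type*) [Group G] (n : ℕ) : Subgroup G := (⊤ : Subgroup G).lowerCentralSeries n

theorem gam_antitone {m n : ℕ} (h : m ≤ n) : gam G n ≤ gam G m :=
  Subgroup.lowerCentralSeries_antitone _ h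

theorem comm_gam_le (i j : ℕ) : ⁅gam G i, gam G j⁆ ≤ gam G (i + j + 1) :=
  CfsgLib.PGroup.commutator_lowerCentralSeries_le_chain (D := fun n => gam G n)
    (fun _ => inferInstance) (fun _ => le_rfl) j i

theorem comm_left_le (i : ℕ) (X : Subgroup G) : ⁅X, gam G i⁆ ≤ gam G (i + 1) := by
  refine (commutator_mono (show X ≤ gam G 0 from le_top) le_rfl).trans ?_
  have h := comm_gam_le (G := G) 0 i
  rwa [zero_add] at h

/-- The part of the factor of degree `i` covered by commutators with `P`. -/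
def N (P : Subgroup G) (i : ℕ) : Subgroup G := gam G (i + 2) ⊔ ⁅P, gam G i⁆

theorem gam_le_N (P : Subgroup G) (i : ℕ) : gam G (i + 2) ≤ N P i := le_sup_left

theorem comm_le_N (P : Subgroup G) (i : ℕ) : ⁅P, gam G i⁆ ≤ N P i := le_sup_right

theorem N_le (P : Subgroup G) (i : ℕ) : N P i ≤ gam G (i + 1) :=
  sup_le (gam_antitone (by omega)) (comm_left_le i P)

theorem N_mono {P Q : Subgroup G} (h : P ≤ Q) (i : ℕ) : N P i ≤ N Q i :=
  sup_le_sup_left (commutator_mono h le_rfl) _

theorem normal_of_between {X : Subgroup G} (i : ℕ) (h1 : gam G (i + 2) ≤ X)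
    (h2 : X ≤ gam G (i + 1)) : X.Normal := ⟨fun n hn g => by
  rw [show g * n * g⁻¹ = ⁅g, n⁆ * n by simp [commutatorElement_def]]
  exact X.mul_mem (h1 (comm_left_le (i + 1) ⊤ (commutator_mem_commutator (mem_top g) (h2 hn)))) hn⟩

instance N_normal (P : Subgroup G) (i : ℕ) : (N P i).Normal :=
  normal_of_between i (gam_le_N P i) (N_le P i)

/-- The elements whose commutators with `S` lie in the normal subgroup `X`. -/
def cK (X : Subgroup G) [hX : X.Normal] (S : Set G) : Subgroup G where
  carrier := {z | ∀ a ∈ S, ⁅z, a⁆ ∈ X}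
  one_mem' a _ := by simp
  mul_mem' {z w} hz hw a ha := by
    rw [show ⁅z * w, a⁆ = z * ⁅w, a⁆ * z⁻¹ * ⁅z, a⁆ by simp only [commutatorElement_def]; group]
    exact X.mul_mem (hX.conj_mem _ (hw a ha) z) (hz a ha)
  inv_mem' {z} hz a ha := by
    rw [show ⁅z⁻¹, a⁆ = z⁻¹ * ⁅z, a⁆⁻¹ * z⁻¹⁻¹ by simp only [commutatorElement_def]; group]
    exact hX.conj_mem _ (X.inv_mem (hz a ha)) _

theorem mem_cK {X : Subgroup G} [X.Normal] {S : Set G} {z : G} :
    z ∈ cK X S ↔ ∀ a ∈ S, ⁅z, a⁆ ∈ X := Iff.rfl

theorem commutator_le_iff_le_cK {X Y S : Subgroup G} [X.Normal] :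
    ⁅Y, S⁆ ≤ X ↔ Y ≤ cK X S := commutator_le

theorem N_sup (P Q : Subgroup G) (i : ℕ) : N (P ⊔ Q) i = N P i ⊔ N Q i := by
  refine le_antisymm (sup_le (le_sup_of_le_left (gam_le_N P i)) ?_)
    (sup_le (N_mono le_sup_left i) (N_mono le_sup_right i))
  haveI : (N P i ⊔ N Q i).Normal := Subgroup.sup_normal _ _
  rw [commutator_le_iff_le_cK]
  exact sup_le (commutator_le_iff_le_cK.1 ((comm_le_N P i).trans le_sup_left))
    (commutator_le_iff_le_cK.1 ((comm_le_N Q i).trans le_sup_right))

theorem comm_mem_N {P : Subgroup G} {z a : G} {i : ℕ} (hz : z ∈ P) (ha : a ∈ gam G i) :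
    ⁅z, a⁆ ∈ N P i :=
  comm_le_N P i (commutator_mem_commutator hz ha)

/-- Iterated commutators of `x` with `P`. -/
def B (P : Subgroup G) (x : G) : ℕ → Subgroup G
  | 0 => zpowers x
  | j + 1 => ⁅B P x j, P⁆

theorem B_le (P : Subgroup G) (x : G) : ∀ j, B P x j ≤ gam G j
  | 0 => le_top
  | j + 1 => (commutator_mono (B_le P x j) le_rfl).trans
      (show ⁅gam G j, P⁆ ≤ gam G (j + 1) by rw [commutator_comm]; exact comm_left_le j P)

theorem claim {P Q : Subgroup G} {x : G} (hPQ : P ≤ Q) (hx : x ∈ Q) (e : ℕ) :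
    ∀ j k : ℕ, j + k = e → ⁅B P x j, gam G k⁆ ≤ N Q e
  | 0, k, h => by
    obtain rfl : k = e := by omega
    exact (commutator_mono (zpowers_le.2 hx) le_rfl).trans (comm_le_N Q _)
  | j + 1, k, h => by
    refine CfsgLib.PGroup.commutator_commutator_le_of_rotate_normal ?_ ?_
    · refine (commutator_mono (comm_left_le k P) le_rfl).trans ?_
      rw [commutator_comm]
      exact claim hPQ hx e j (k + 1) (by omega)
    · refine (commutator_mono ((commutator_mono le_rfl (B_le P x j)).trans
        (comm_gam_le k j)) le_rfl).trans ?_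
      rw [commutator_comm, show k + j + 1 = e by omega]
      exact (commutator_mono hPQ le_rfl).trans (comm_le_N Q e)

/-- An element that acts in the lowest degree not covered is seen by its own iterated
commutators. -/
theorem proper {P0 P : Subgroup G} {q : G} {e : ℕ} (hP : P0 ≤ P)
    (hlow : ∀ j < e, N P0 j = gam G (j + 1)) (h : ⁅(⊤ : Subgroup G), B P0 q e⁆ ≤ N P e) :
    ∀ a ∈ gam G e, ⁅q, a⁆ ∈ N P e := by
  have key : ∀ d j : ℕ, j + d = e → ⁅B P0 q j, gam G d⁆ ≤ N P e := by
    intro d
    induction d using Nat.strong_induction_on with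
    | _ d ih =>
    intro j hj
    rcases d with _ | d
    · obtain rfl : j = e := by omega
      rw [commutator_comm]
      exact (commutator_mono (le_top (a := gam G 0)) le_rfl).trans h
    · rw [← hlow d (by omega), commutator_comm, commutator_le_iff_le_cK]
      refine sup_le (commutator_le_iff_le_cK.1 ?_) (commutator_le_iff_le_cK.1 ?_)
      · refine (commutator_mono le_rfl (B_le P0 q j)).trans ((comm_gam_le (d + 2) j).trans ?_)
        exact (gam_antitone (by omega)).trans (gam_le_N P e)
      · refine CfsgLib.PGroup.commutator_commutator_le_of_rotate_normal ?_ ?_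
        · refine (commutator_mono ((commutator_mono le_rfl (B_le P0 q j)).trans
            (comm_gam_le d j)) le_rfl).trans ?_
          rw [commutator_comm, show d + j + 1 = e by omega]
          exact (commutator_mono hP le_rfl).trans (comm_le_N P e)
        · show ⁅B P0 q (j + 1), gam G d⁆ ≤ N P e
          exact ih d (by omega) (j + 1) (by omega)
  intro a ha
  exact key e 0 (Nat.zero_add e) (commutator_mem_commutator (mem_zpowers q) ha)

/-- The map `a ↦ ⁅v, a⁆` into the factor. -/
def phi (P : Subgroup G) (v : G) (i : ℕ) : gam G i →* G ⧸ N P i where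
  toFun a := QuotientGroup.mk ⁅v, (a : G)⁆
  map_one' := by simp
  map_mul' a b := by
    rw [← QuotientGroup.mk_mul, QuotientGroup.eq]
    refine gam_le_N P i ?_
    have hmem : ⁅v, (b : G)⁆ ∈ gam G (i + 1) :=
      comm_left_le i ⊤ (commutator_mem_commutator (mem_top v) b.2)
    have h := comm_left_le (i + 1) ⊤ (commutator_mem_commutator (mem_top (a : G))
      (inv_mem hmem))
    convert h using 1
    simp only [Subgroup.coe_mul, commutatorElement_def]
    group

theorem mem_ker_phi {P : Subgroup G} {v : G} {i : ℕ} {a : gam G i} :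
    a ∈ (phi P v i).ker ↔ ⁅v, (a : G)⁆ ∈ N P i := QuotientGroup.eq_one_iff _

/-- The rank of `v` modulo `P` in degree `i`. -/
noncomputable def r (P : Subgroup G) (v : G) (i : ℕ) : ℕ :=
  (N P i).relIndex (N (P ⊔ zpowers v) i)

theorem r_eq (P : Subgroup G) (v : G) (i : ℕ) : r P v i = (phi P v i).ker.index := by
  set T := (phi P v i).range.comap (QuotientGroup.mk' (N P i))
  have hmap : (N (P ⊔ zpowers v) i).map (QuotientGroup.mk' (N P i)) = (phi P v i).range := by
    have hNT : N P i ≤ T := fun n hn => by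
      rw [Subgroup.mem_comap, QuotientGroup.mk'_apply, (QuotientGroup.eq_one_iff n).2 hn]
      exact one_mem _
    haveI : T.Normal := by
      refine normal_of_between i ((gam_le_N P i).trans hNT) fun t ht => ?_
      obtain ⟨a, ha⟩ := ht
      have := (QuotientGroup.eq).1 ha
      have hmem : ⁅v, (a : G)⁆ ∈ gam G (i + 1) :=
        comm_left_le i ⊤ (commutator_mem_commutator (mem_top v) a.2)
      have h := mul_mem hmem (N_le P i this)
      rwa [mul_inv_cancel_left] at h
    refine le_antisymm (Subgroup.map_le_iff_le_comap.2 ?_) ?_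
    · rw [N_sup]
      refine sup_le hNT (sup_le ((gam_le_N P i).trans hNT) (commutator_le_iff_le_cK.2 ?_))
      exact zpowers_le.2 fun a ha => ⟨⟨a, ha⟩, rfl⟩
    · rintro _ ⟨a, rfl⟩
      exact mem_map.2 ⟨⁅v, (a : G)⁆, comm_mem_N (mem_sup_right (mem_zpowers v)) a.2, rfl⟩
  rw [r, Subgroup.index_ker, ← hmap, ← Subgroup.relIndex_ker, QuotientGroup.ker_mk']

variable [Finite G] {p : ℕ} [Fact p.Prime]

theorem relIndex_pos (H K : Subgroup G) : 0 < H.relIndex K :=
  Nat.pos_of_ne_zero Subgroup.index_ne_zero_of_finite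

theorem p_le_relIndex (hG : IsPGroup p G) {H K : Subgroup G} (h : ¬ K ≤ H) :
    p ≤ H.relIndex K := by
  obtain ⟨n, hn⟩ := IsPGroup.iff_card.1 (hG.to_subgroup K)
  obtain ⟨m, -, hm⟩ := (Nat.dvd_prime_pow (Fact.out : p.Prime)).1
    (hn ▸ (Subgroup.relIndex_dvd_card H K))
  rcases m with _ | m
  · exact absurd (Subgroup.relIndex_eq_one.1 (by rw [hm, pow_zero])) h
  · rw [hm]
    exact Nat.le_self_pow (by omega) p

/-- The rank of `z` modulo `P`. -/
noncomputable def R (c : ℕ) (P : Subgroup G) (z : G) : ℕ :=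
  ∏ i ∈ Finset.range c, r P z i

/-- What is left to cover. -/
noncomputable def W (c : ℕ) (P : Subgroup G) : ℕ :=
  ∏ i ∈ Finset.range c, (N P i).relIndex (gam G (i + 1))

theorem r_pos (P : Subgroup G) (v : G) (i : ℕ) : 0 < r P v i := relIndex_pos _ _

theorem W_eq (c : ℕ) (P : Subgroup G) (q : G) : W c P = R c P q * W c (P ⊔ zpowers q) := by
  rw [W, W, R, ← Finset.prod_mul_distrib]
  exact Finset.prod_congr rfl fun i _ =>
    (Subgroup.relIndex_mul_relIndex _ _ _ (N_mono le_sup_left i) (N_le _ i)).symm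

theorem r_split {P Q : Subgroup G} (h : P ≤ Q) (z : G) (i : ℕ) :
    (N P i).relIndex (N Q i ⊓ N (P ⊔ zpowers z) i) * r Q z i = r P z i := by
  have h1 : r Q z i = (N Q i).relIndex (N (P ⊔ zpowers z) i) := by
    have e : N (Q ⊔ zpowers z) i = N Q i ⊔ N (P ⊔ zpowers z) i := by
      rw [← N_sup, ← sup_assoc, sup_eq_left.2 h]
    rw [r, e, Subgroup.relIndex_sup_left]
  rw [h1, ← Subgroup.inf_relIndex_right (N Q i)]
  exact Subgroup.relIndex_mul_relIndex _ _ _ (le_inf (N_mono h i) (N_mono le_sup_left i))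
    inf_le_right

theorem r_anti {P Q : Subgroup G} (h : P ≤ Q) (z : G) (i : ℕ) : r Q z i ≤ r P z i := by
  rw [← r_split h z i]
  exact Nat.le_mul_of_pos_left _ (relIndex_pos _ _)

theorem R_anti {c : ℕ} {P Q : Subgroup G} (h : P ≤ Q) (z : G) : R c Q z ≤ R c P z :=
  Finset.prod_le_prod' fun i _ => r_anti h z i

theorem r_overlap (hG : IsPGroup p G) {P Q : Subgroup G} (h : P ≤ Q) {z a : G} {i : ℕ}
    (ha : a ∈ gam G i) (h1 : ⁅z, a⁆ ∈ N Q i) (h2 : ⁅z, a⁆ ∉ N P i) : p * r Q z i ≤ r P z i := by
  rw [← r_split h z i]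
  refine Nat.mul_le_mul_right _ (p_le_relIndex hG fun hle => h2 (hle ?_))
  exact mem_inf.2 ⟨h1, comm_mem_N (mem_sup_right (mem_zpowers z)) ha⟩

theorem R_factor {c e : ℕ} (he : e < c) {P Q : Subgroup G} (h : P ≤ Q) {z : G} {s : ℕ}
    (hs : s * r Q z e ≤ r P z e) : s * R c Q z ≤ R c P z := by
  have hmem : e ∈ Finset.range c := Finset.mem_range.2 he
  rw [R, R, ← Finset.mul_prod_erase _ _ hmem, ← Finset.mul_prod_erase _ _ hmem, ← mul_assoc]
  exact Nat.mul_le_mul hs (Finset.prod_le_prod' fun i _ => r_anti h z i)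

theorem r_congr {P : Subgroup G} {u v : G} (h : P ⊔ zpowers u = P ⊔ zpowers v) (i : ℕ) :
    r P u i = r P v i := by
  rw [r, r, h]

theorem R_congr {c : ℕ} {P : Subgroup G} {u v : G} (h : P ⊔ zpowers u = P ⊔ zpowers v) :
    R c P u = R c P v :=
  Finset.prod_congr rfl fun i _ => r_congr h i

theorem sup_zpowers_eq {P : Subgroup G} {u v : G} (h : v⁻¹ * u ∈ P) :
    P ⊔ zpowers u = P ⊔ zpowers v := by
  refine le_antisymm (sup_le le_sup_left (zpowers_le.2 ?_)) (sup_le le_sup_left (zpowers_le.2 ?_))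
  · rw [show u = v * (v⁻¹ * u) by group]
    exact mul_mem (mem_sup_right (mem_zpowers v)) (mem_sup_left h)
  · rw [show v = u * (v⁻¹ * u)⁻¹ by group]
    exact mul_mem (mem_sup_right (mem_zpowers u)) (mem_sup_left (inv_mem h))

/-- A proper subgroup and a subgroup containing its complement. -/
theorem eq_top_of_compl_subset {H K : Subgroup G} (hH : H ≠ ⊤) (h : ∀ g, g ∉ H → g ∈ K) :
    K = ⊤ := by
  refine eq_top_iff.2 fun g _ => ?_
  obtain ⟨w, hw⟩ : ∃ w, w ∉ H := by
    by_contra hc
    push_neg at hc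
    exact hH (eq_top_iff.2 fun g _ => hc g)
  by_cases hg : g ∈ H
  · rw [show g = g * w * w⁻¹ by group]
    exact mul_mem (h _ fun h' => hw (by simpa using mul_mem (inv_mem hg) h')) (inv_mem (h w hw))
  · exact h g hg

/-- The triangular numbers. -/
def T : ℕ → ℕ
  | 0 => 0
  | b + 1 => b + 1 + T b

theorem T_eq : ∀ b, T b = b * (b + 1) / 2
  | 0 => rfl
  | b + 1 => by
    rw [T, T_eq b, show (b + 1) * (b + 1 + 1) = b * (b + 1) + (b + 1) * 2 by ring,
      Nat.add_mul_div_right _ _ two_pos]
    omega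

/-- The greedy steps in a degree where every element is isotropic. -/
theorem alt_step (hG : IsPGroup p G) {c e : ℕ} (he : e < c) {P0 : Subgroup G}
    (hlow : ∀ j < e, N P0 j = gam G (j + 1)) :
    ∀ (b : ℕ) (P H : Subgroup G) (ρ : ℕ), P0 ≤ P → H ≠ ⊤ → 1 ≤ ρ →
      (∀ z, ∀ a ∈ B P0 z e, ⁅z, a⁆ ∈ N P e) →
      (∀ z, z ∉ H → R c P z ≤ p ^ b ∧ r P z e ≤ ρ) →
      ∃ (P' : Subgroup G) (m : ℕ), P ≤ P' ∧ N P' e = gam G (e + 1) ∧ m ≤ b ∧ p ^ m ≤ ρ ∧
        (m = 0 → N P e = gam G (e + 1)) ∧
        W c P * p ^ T (b - m) ≤ p ^ T b * W c P' ∧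
        ∀ z, ∃ v, v⁻¹ * z ∈ P' ∧ p ^ m ≤ r P v e := by
  intro b
  induction b using Nat.strong_induction_on with
  | _ b ih =>
  intro P H ρ hP0 hH hρ halt hb
  by_cases hdone : N P e = gam G (e + 1)
  · refine ⟨P, 0, le_rfl, hdone, Nat.zero_le _, by simpa using hρ, fun _ => hdone, ?_,
      fun z => ⟨z, by simp, by rw [pow_zero]; exact r_pos P z e⟩⟩
    simp [mul_comm]
  have hp : 2 ≤ p := (Fact.out : p.Prime).two_le
  -- an acting element outside `H`
  have hex : ∃ z, z ∉ H ∧ ∃ a ∈ gam G e, ⁅z, a⁆ ∉ N P e := by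
    by_contra hc
    push_neg at hc
    have htop := eq_top_of_compl_subset (K := cK (N P e) (gam G e)) hH fun g hg => hc g hg
    refine hdone (le_antisymm (N_le P e) ?_)
    show ⁅gam G e, (⊤ : Subgroup G)⁆ ≤ N P e
    rw [commutator_comm, commutator_le_iff_le_cK, htop]
  obtain ⟨z₀, hz₀, a₀, ha₀, hza⟩ := hex
  obtain ⟨q, hq, hqmax⟩ := Finset.exists_max_image (s := (Set.toFinite {z : G | z ∉ H}).toFinset)
    (fun z => r P z e) ⟨z₀, by simpa using hz₀⟩
  have hqH : q ∉ H := by simpa using hq
  have hqmax' : ∀ z, z ∉ H → r P z e ≤ r P q e := fun z hz => hqmax z (by simpa using hz)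
  have hrz₀ : p ≤ r P z₀ e :=
    p_le_relIndex hG fun hle => hza (hle (comm_mem_N (mem_sup_right (mem_zpowers _)) ha₀))
  have hrq : p ≤ r P q e := hrz₀.trans (hqmax' z₀ hz₀)
  have hqact : ¬ ∀ a ∈ gam G e, ⁅q, a⁆ ∈ N P e := by
    intro hall
    have : (phi P q e).ker = ⊤ := eq_top_iff.2 fun a _ => mem_ker_phi.2 (hall a a.2)
    rw [r_eq, this, index_top] at hrq
    omega
  set U : Subgroup G := cK (N P e) (B P0 q e : Set G) with hU
  have hqU : q ∈ U := halt q
  have hUtop : U ≠ ⊤ := fun hT => hqact (proper hP0 hlow (commutator_le_iff_le_cK.2 hT.ge))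
  set P1 : Subgroup G := P ⊔ zpowers q with hP1
  have hPP1 : P ≤ P1 := le_sup_left
  have hqP1 : q ∈ P1 := mem_sup_right (mem_zpowers q)
  have hrep : ∀ z, z ∉ U → ∃ z', P1 ⊔ zpowers z' = P1 ⊔ zpowers z ∧ z' ∉ H ∧
      p * r P1 z' e ≤ r P z' e := by
    intro z hz
    have hwit : ∀ z', z' ∉ U → p * r P1 z' e ≤ r P z' e := by
      intro z' hz'
      simp only [hU, mem_cK, not_forall] at hz'
      obtain ⟨a, ha, ha'⟩ := hz'
      refine r_overlap hG hPP1 (B_le P0 q e ha) ?_ ha'
      have h := claim (hP0.trans hPP1) hqP1 e e 0 rfl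
        (commutator_mem_commutator ha (show z' ∈ gam G 0 from mem_top z'))
      rw [← commutatorElement_inv] at h
      exact inv_mem_iff.1 h
    by_cases hzH : z ∈ H
    · refine ⟨z * q, sup_zpowers_eq (by simpa [← mul_assoc] using hqP1), fun h => hqH ?_,
        hwit _ fun h => hz ?_⟩
      · simpa using mul_mem (inv_mem hzH) h
      · simpa using mul_mem h (inv_mem hqU)
    · exact ⟨z, rfl, hzH, hwit z hz⟩
  obtain ⟨b', rfl⟩ : ∃ b', b = b' + 1 := by
    refine Nat.exists_eq_succ_of_ne_zero fun hb0 => ?_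
    have h := (hb q hqH).1
    rw [hb0, pow_zero] at h
    have hle : r P q e ≤ R c P q :=
      Finset.single_le_prod' (fun i _ => r_pos P q i) (Finset.mem_range.2 he)
    omega
  have hnext : ∀ z, z ∉ U → R c P1 z ≤ p ^ b' ∧ r P1 z e ≤ r P q e / p := by
    intro z hz
    obtain ⟨z', hzz', hz'H, hdrop⟩ := hrep z hz
    rw [← R_congr hzz', ← r_congr hzz']
    refine ⟨?_, (Nat.le_div_iff_mul_le (by omega)).2 ?_⟩
    · refine Nat.le_of_mul_le_mul_left ?_ (show 0 < p by omega)
      rw [← pow_succ']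
      exact (R_factor he hPP1 hdrop).trans (hb z' hz'H).1
    · rw [mul_comm]
      exact hdrop.trans (hqmax' z' hz'H)
  obtain ⟨P', m, hP1P', hfull, hmb, hmρ, -, hW, hv⟩ := ih b' (Nat.lt_succ_self b') P1 U
    (r P q e / p) (hP0.trans hPP1) hUtop ((Nat.le_div_iff_mul_le (by omega)).2 (by simpa using hrq))
    (fun z a ha => N_mono hPP1 e (halt z a ha)) hnext
  have hm1 : p ^ (m + 1) ≤ r P q e := by
    rw [pow_succ]
    exact (Nat.mul_le_mul_right p hmρ).trans (Nat.div_mul_le_self _ _)
  refine ⟨P', m + 1, hPP1.trans hP1P', hfull, by omega, hm1.trans (hb q hqH).2,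
    fun h => absurd h (by omega), ?_, fun z => ?_⟩
  · rw [Nat.add_sub_add_right, W_eq c P q, T, pow_add, mul_assoc, mul_assoc]
    exact Nat.mul_le_mul (hb q hqH).1 hW
  · obtain ⟨v, hvz, hvm⟩ := hv z
    by_cases hgain : ∃ w a, v⁻¹ * w ∈ zpowers q ∧ a ∈ gam G e ∧ ⁅w, a⁆ ∈ N P1 e ∧ ⁅w, a⁆ ∉ N P e
    · obtain ⟨w, a, hwv, ha, h1, h2⟩ := hgain
      have hwP' : v⁻¹ * w ∈ P' := hP1P' (mem_sup_right (S := P) hwv)
      refine ⟨w, ?_, ?_⟩
      · rw [show w⁻¹ * z = (v⁻¹ * w)⁻¹ * (v⁻¹ * z) by group]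
        exact mul_mem (inv_mem hwP') hvz
      · refine le_trans ?_ (r_overlap hG hPP1 ha h1 h2)
        rw [pow_succ', r_congr (sup_zpowers_eq (P := P1) (v := v) (mem_sup_right (S := P) hwv)) e]
        exact Nat.mul_le_mul_left p hvm
    · push_neg at hgain
      refine ⟨v, hvz, hm1.trans (le_trans ?_ (r_anti hPP1 v e))⟩
      have hker : (phi P1 v e).ker ≤ (phi P q e).ker := by
        intro a ha
        rw [mem_ker_phi] at ha ⊢
        have h1 := hgain v a (by simp) a.2 ha
        have h2 := hgain (v * q) a (by simp) a.2 (by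
          have : v * q ∈ cK (N P1 e) {(a : G)} := mul_mem (fun x hx => by rwa [Set.mem_singleton_iff.1 hx])
            (fun x hx => by rw [Set.mem_singleton_iff.1 hx]; exact comm_mem_N hqP1 a.2)
          exact this a rfl)
        have hK : q ∈ cK (N P e) {(a : G)} := by
          rw [show q = v⁻¹ * (v * q) by group]
          exact mul_mem (inv_mem fun x hx => by rwa [Set.mem_singleton_iff.1 hx])
            fun x hx => by rwa [Set.mem_singleton_iff.1 hx]
        exact hK a rfl
      rw [r_eq, r_eq]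
      exact Nat.le_of_dvd (Nat.pos_of_ne_zero Subgroup.index_ne_zero_of_finite)
        (Subgroup.index_dvd_of_le hker)

/-- All elements of rank at most `b` modulo `P` leave at most `b + (b - 1) + ⋯ + 1` to cover. -/
theorem main (hG : IsPGroup p G) (c : ℕ) :
    ∀ (b : ℕ) (P : Subgroup G), (∀ z, R c P z ≤ p ^ b) → W c P ≤ p ^ T b := by
  intro b
  induction b using Nat.strong_induction_on with
  | _ b ih =>
  intro P hb
  classical
  by_cases hall : ∀ i < c, N P i = gam G (i + 1)
  · refine le_of_eq_of_le (Finset.prod_eq_one fun i hi => ?_) (Nat.one_le_pow _ _ (Fact.out : p.Prime).pos)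
    rw [hall i (Finset.mem_range.1 hi), Subgroup.relIndex_self]
  push_neg at hall
  set e := Nat.find hall with he
  obtain ⟨hec, hne⟩ := Nat.find_spec hall
  have hlow : ∀ j < e, N P j = gam G (j + 1) := fun j hj => by
    by_contra h
    exact Nat.find_min hall hj ⟨hj.trans hec, h⟩
  have hp : 2 ≤ p := (Fact.out : p.Prime).two_le
  by_cases halt : ∀ z, ∀ a ∈ B P z e, ⁅z, a⁆ ∈ N P e
  · obtain ⟨P', m, hPP', hfull, hmb, -, hm0, hW, hv⟩ := alt_step hG hec hlow b P ⊥ (p ^ b) le_rfl
      (fun h => hne (le_antisymm (N_le P e) (by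
        show ⁅gam G e, (⊤ : Subgroup G)⁆ ≤ N P e
        rw [← h, commutator_bot_right]
        exact bot_le)))
      (Nat.one_le_pow _ _ (by omega)) halt (fun z _ => ⟨hb z,
        (Finset.single_le_prod' (fun i _ => r_pos P z i) (Finset.mem_range.2 hec)).trans (hb z)⟩)
    have hm1 : 1 ≤ m := Nat.one_le_iff_ne_zero.2 fun h => hne (hm0 h)
    have hrest : ∀ z, R c P' z ≤ p ^ (b - m) := by
      intro z
      obtain ⟨v, hvz, hvm⟩ := hv z
      rw [R_congr (sup_zpowers_eq hvz)]
      refine Nat.le_of_mul_le_mul_left ?_ (pow_pos (show 0 < p by omega) m)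
      rw [← pow_add, Nat.add_sub_cancel' hmb]
      refine le_trans (R_factor hec hPP' ?_) (hb v)
      rw [show r P' v e = 1 from Subgroup.relIndex_eq_one.2 (by rw [hfull]; exact N_le _ e), mul_one]
      exact hvm
    have h1 := ih (b - m) (by omega) P' hrest
    refine Nat.le_of_mul_le_mul_right (hW.trans (Nat.mul_le_mul_left _ h1)) (pow_pos (by omega) _)
  push_neg at halt
  obtain ⟨x, a, ha, hxa⟩ := halt
  have haG := B_le P x e ha
  obtain ⟨b', rfl⟩ : ∃ b', b = b' + 1 := by
    refine Nat.exists_eq_succ_of_ne_zero fun hb0 => ?_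
    have hle : r P x e ≤ R c P x :=
      Finset.single_le_prod' (fun i _ => r_pos P x i) (Finset.mem_range.2 hec)
    have hpr : p ≤ r P x e :=
      p_le_relIndex hG fun hle' => hxa (hle' (comm_mem_N (mem_sup_right (mem_zpowers _)) haG))
    have := hb x
    rw [hb0, pow_zero] at this
    omega
  set P1 := P ⊔ zpowers x with hP1
  have hrest : ∀ z, R c P1 z ≤ p ^ b' := by
    intro z
    obtain ⟨z', hz', hz'a⟩ : ∃ z', P1 ⊔ zpowers z' = P1 ⊔ zpowers z ∧ ⁅z', a⁆ ∉ N P e := by
      by_cases hz : ⁅z, a⁆ ∈ N P e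
      · refine ⟨z * x, sup_zpowers_eq (by simpa [← mul_assoc] using mem_sup_right (mem_zpowers x)),
          fun h => hxa ?_⟩
        have hK : x ∈ cK (N P e) {a} := by
          rw [show x = z⁻¹ * (z * x) by group]
          exact mul_mem (inv_mem fun u hu => by rwa [Set.mem_singleton_iff.1 hu])
            fun u hu => by rwa [Set.mem_singleton_iff.1 hu]
        exact hK a rfl
      · exact ⟨z, rfl, hz⟩
    rw [← R_congr hz']
    refine Nat.le_of_mul_le_mul_left ?_ (show 0 < p by omega)
    rw [← pow_succ']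
    refine (R_factor hec le_sup_left (r_overlap hG le_sup_left haG ?_ hz'a)).trans (hb z')
    have h := claim (le_sup_left : P ≤ P1) (mem_sup_right (mem_zpowers x)) e e 0 rfl
      (commutator_mem_commutator ha (show z' ∈ gam G 0 from mem_top z'))
    rw [← commutatorElement_inv] at h
    exact inv_mem_iff.1 h
  rw [W_eq c P x, T, pow_add]
  exact Nat.mul_le_mul (hb x) (ih b' (Nat.lt_succ_self b') P1 hrest)

theorem card_step {A B' C : Subgroup G} (hBA : B' ≤ A) :
    Nat.card B' * B'.relIndex A = Nat.card A ∧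
      Nat.card (B' ⊓ C : Subgroup G) * (B' ⊓ C).relIndex (A ⊓ C) = Nat.card (A ⊓ C : Subgroup G) := by
  constructor
  · rw [← Subgroup.relIndex_bot_left, Subgroup.relIndex_mul_relIndex _ _ _ bot_le hBA,
      Subgroup.relIndex_bot_left]
  · rw [← Subgroup.relIndex_bot_left, Subgroup.relIndex_mul_relIndex _ _ _ bot_le
      (inf_le_inf_right C hBA), Subgroup.relIndex_bot_left]

/-- The rank modulo the trivial subgroup is at most the class size. -/
theorem R_bot_le (c : ℕ) (hc : gam G c = ⊥) (v : G) :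
    R c ⊥ v ≤ (centralizer ({v} : Set G)).index := by
  set C := centralizer ({v} : Set G) with hC
  have key : ∀ n, (∏ i ∈ Finset.range n, r ⊥ v i) * Nat.card (gam G n) * Nat.card C ≤
      Nat.card G * Nat.card (gam G n ⊓ C : Subgroup G) := by
    intro n
    induction n with
    | zero =>
      rw [Finset.prod_range_zero, one_mul, show gam G 0 = ⊤ from rfl, top_inf_eq, card_top]
    | succ n ih =>
      obtain ⟨hA, hAC⟩ := card_step (G := G) (C := C) (gam_antitone (G := G) (Nat.le_succ n))
      set t := (gam G (n + 1)).relIndex (gam G n)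
      set s := (gam G (n + 1) ⊓ C).relIndex (gam G n ⊓ C)
      have hrs : r ⊥ v n * s ≤ t := by
        set X := gam G (n + 1) ⊔ gam G n ⊓ C with hX
        have hXn : X ≤ gam G n := sup_le (gam_antitone (Nat.le_succ n)) inf_le_left
        have hker : X.subgroupOf (gam G n) ≤ (phi ⊥ v n).ker := by
          intro a ha
          rw [mem_ker_phi]
          rw [mem_subgroupOf] at ha
          have : X ≤ (cK (N ⊥ n) {v}) := by
            refine sup_le (fun u hu => ?_) fun u hu => ?_
            · intro w hw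
              rw [Set.mem_singleton_iff.1 hw, ← commutatorElement_inv]
              refine inv_mem (gam_le_N ⊥ n ?_)
              exact comm_left_le (n + 1) ⊤ (commutator_mem_commutator (mem_top v) hu)
            · intro w hw
              rw [Set.mem_singleton_iff.1 hw, commutatorElement_eq_one_iff_commute.2
                (show Commute u v from mem_centralizer_singleton_iff.1 (mem_inf.1 hu).2)]
              exact one_mem _
          have h := this ha v rfl
          rw [← commutatorElement_inv] at h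
          exact inv_mem_iff.1 h
        have h1 : r ⊥ v n ≤ X.relIndex (gam G n) := by
          rw [r_eq]
          exact Nat.le_of_dvd (Nat.pos_of_ne_zero Subgroup.index_ne_zero_of_finite)
            (Subgroup.index_dvd_of_le hker)
        have h2 : s = (gam G (n + 1)).relIndex X := by
          rw [hX, sup_comm, Subgroup.relIndex_sup_right, ← Subgroup.inf_relIndex_right (gam G (n + 1))]
          congr 1
          rw [← inf_assoc, inf_eq_left.2 (gam_antitone (G := G) (Nat.le_succ n))]
        rw [h2, mul_comm]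
        exact (Nat.mul_le_mul_left _ h1).trans
          (Subgroup.relIndex_mul_relIndex _ _ _ le_sup_left hXn).le
      have hs : 0 < s := relIndex_pos _ _
      refine Nat.le_of_mul_le_mul_right ?_ hs
      calc (∏ i ∈ Finset.range (n + 1), r ⊥ v i) * Nat.card (gam G (n + 1)) * Nat.card C * s
          = (∏ i ∈ Finset.range n, r ⊥ v i) * Nat.card (gam G (n + 1)) * Nat.card C *
              (r ⊥ v n * s) := by rw [Finset.prod_range_succ]; ring
        _ ≤ (∏ i ∈ Finset.range n, r ⊥ v i) * Nat.card (gam G (n + 1)) * Nat.card C * t :=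
            Nat.mul_le_mul_left _ hrs
        _ = (∏ i ∈ Finset.range n, r ⊥ v i) * Nat.card (gam G n) * Nat.card C := by
            rw [← hA]; ring
        _ ≤ Nat.card G * Nat.card (gam G n ⊓ C : Subgroup G) := ih
        _ = Nat.card G * Nat.card (gam G (n + 1) ⊓ C : Subgroup G) * s := by rw [← hAC]; ring
  have h := key c
  rw [hc, bot_inf_eq, card_bot, mul_one, mul_one, ← C.index_mul_card] at h
  exact Nat.le_of_mul_le_mul_right h Nat.card_pos

theorem W_bot (c : ℕ) (hc : gam G c = ⊥) : W c (⊥ : Subgroup G) = Nat.card (commutator G) := by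
  have key : ∀ n, (∏ i ∈ Finset.range n, (N (⊥ : Subgroup G) i).relIndex (gam G (i + 1))) *
      Nat.card (gam G (n + 1)) = Nat.card (gam G 1) := by
    intro n
    induction n with
    | zero => simp
    | succ n ih =>
      have hN : N (⊥ : Subgroup G) n = gam G (n + 2) := by
        rw [N, commutator_bot_left, sup_bot_eq]
      rw [Finset.prod_range_succ, hN, mul_assoc, mul_comm ((gam G (n + 2)).relIndex _),
        (card_step (C := ⊥) (gam_antitone (G := G) (Nat.le_succ (n + 1)))).1, ih]
  have h := key c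
  rw [show gam G (c + 1) = ⊥ from le_bot_iff.1 (hc ▸ gam_antitone (Nat.le_succ c)), card_bot,
    mul_one] at h
  rw [W, h]
  exact congrArg (fun K : Subgroup G => Nat.card K) Subgroup.top_lowerCentralSeries_one

/-- **Vaughan-Lee's theorem.** -/
theorem card_commutator_le (hG : IsPGroup p G) {b : ℕ}
    (hb : ∀ x : G, (centralizer ({x} : Set G)).index ≤ p ^ b) :
    Nat.card (commutator G) ≤ p ^ (b * (b + 1) / 2) := by
  haveI : Group.IsNilpotent (⊤ : Subgroup G) := (hG.to_subgroup ⊤).isNilpotent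
  obtain ⟨c, hc⟩ := (Subgroup.isNilpotent_iff_lowerCentralSeries (S := (⊤ : Subgroup G))).1
    inferInstance
  rw [← W_bot c hc, ← T_eq]
  exact main hG c b ⊥ fun z => (R_bot_le c hc z).trans (hb z)

end CfsgLib.Breadth
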