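import Mathlib.Algebra.Lie.Basic
import Mathlib.Algebra.Group.Subgroup.Pointwise
import Mathlib.Tactic.Ring
import Mathlib.Algebra.Field.ZMod
import Mathlib.Algebra.Group.Subgroup.Lattice
import Mathlib.Algebra.Ring.GeomSum

/-!
# Lie rings graded by `ZMod p` with trivial zero component

Kreknin's bound on the derived length and the resulting bound on the nilpotency class
(Higman, Kreknin and Kostrikin).
-/

set_option autoImplicit false
set_option linter.style.haveILetI false
set_option linter.unusedSectionVars false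

namespace CfsgLib.GradedLie

universe u

variable {L : Type u} [LieRing L]

/-- The additive subgroup spanned by the brackets. -/
def lb (S T : AddSubgroup L) : AddSubgroup L :=
  AddSubgroup.closure {z | ∃ x ∈ S, ∃ y ∈ T, ⁅x, y⁆ = z}

theorem lie_mem_lb {S T : AddSubgroup L} {x y : L} (hx : x ∈ S) (hy : y ∈ T) : ⁅x, y⁆ ∈ lb S T :=
  AddSubgroup.subset_closure ⟨x, hx, y, hy, rfl⟩

theorem lb_le {S T U : AddSubgroup L} (h : ∀ x ∈ S, ∀ y ∈ T, ⁅x, y⁆ ∈ U) : lb S T ≤ U :=
  (AddSubgroup.closure_le _).2 (by rintro _ ⟨x, hx, y, hy, rfl⟩; exact h x hx y hy)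

theorem lb_mono {S S' T T' : AddSubgroup L} (h : S ≤ S') (h' : T ≤ T') : lb S T ≤ lb S' T' :=
  lb_le fun _ hx _ hy => lie_mem_lb (h hx) (h' hy)

/-- Being an ideal, for an additive subgroup. -/
def IsId (U : AddSubgroup L) : Prop := ∀ x ∈ U, ∀ y, ⁅x, y⁆ ∈ U

theorem isId_lb {S : AddSubgroup L} (hS : IsId S) : IsId (lb S S) := by
  intro z hz y
  induction hz using AddSubgroup.closure_induction with
  | mem z hz =>
    obtain ⟨a, ha, b, hb, rfl⟩ := hz
    have e : ⁅⁅a, b⁆, y⁆ = ⁅a, ⁅b, y⁆⁆ + ⁅⁅a, y⁆, b⁆ := by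
      rw [← lie_skew ⁅a, y⁆ b, ← sub_eq_add_neg, eq_sub_iff_add_eq, leibniz_lie a b y]
    rw [e]
    exact add_mem (lie_mem_lb ha (hS b hb y)) (lie_mem_lb (hS a ha y) hb)
  | zero => rw [zero_lie]; exact zero_mem _
  | add u v _ _ iu iv => rw [add_lie]; exact add_mem iu iv
  | neg u _ iu => rw [neg_lie]; exact neg_mem iu

/-- The derived series of an additive subgroup. -/
def der (H : AddSubgroup L) : ℕ → AddSubgroup L
  | 0 => H
  | n + 1 => lb (der H n) (der H n)

theorem der_mono {H H' : AddSubgroup L} (h : H ≤ H') (n : ℕ) : der H n ≤ der H' n := by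
  induction n with
  | zero => exact h
  | succ n ih => exact lb_mono ih ih

theorem der_add (H : AddSubgroup L) (a b : ℕ) : der H (a + b) = der (der H a) b := by
  induction b with
  | zero => rfl
  | succ b ih => rw [← add_assoc, der, ih]; rfl

theorem isId_der (n : ℕ) : IsId (der (⊤ : AddSubgroup L) n) := by
  induction n with
  | zero => exact fun _ _ _ => AddSubgroup.mem_top _
  | succ n ih => exact isId_lb ih

/-- Being closed under the bracket. -/
def Closed (H : AddSubgroup L) : Prop := ∀ x ∈ H, ∀ y ∈ H, ⁅x, y⁆ ∈ H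

theorem lb_self_le {H : AddSubgroup L} (hH : Closed H) : lb H H ≤ H := lb_le hH

theorem closed_lb {H : AddSubgroup L} (hH : Closed H) : Closed (lb H H) :=
  fun _ hx _ hy => lie_mem_lb (lb_self_le hH hx) (lb_self_le hH hy)

theorem closed_der {H : AddSubgroup L} (hH : Closed H) (n : ℕ) : Closed (der H n) := by
  induction n with
  | zero => exact hH
  | succ n ih => exact closed_lb ih

theorem der_le {H : AddSubgroup L} (hH : Closed H) (n : ℕ) : der H n ≤ H := by
  induction n with
  | zero => exact le_rfl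
  | succ n ih => exact (lb_self_le (closed_der hH n)).trans ih

/-- The lower central series of a Lie ring, numbered from `0`. -/
def lcl (L : Type u) [LieRing L] : ℕ → AddSubgroup L
  | 0 => ⊤
  | n + 1 => lb (lcl L n) ⊤

theorem lie_lcl_mem {j : ℕ} : ∀ {i : ℕ} {x y : L}, x ∈ lcl L i → y ∈ lcl L j →
    ⁅x, y⁆ ∈ lcl L (i + j + 1) := by
  induction j with
  | zero => intro i x y hx _; exact lie_mem_lb hx (AddSubgroup.mem_top _)
  | succ j ih =>
    intro i x y hx hy
    induction hy using AddSubgroup.closure_induction with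
    | mem z hz =>
      obtain ⟨a, ha, b, -, rfl⟩ := hz
      have h1 : ⁅⁅x, a⁆, b⁆ ∈ lcl L (i + j + 1 + 1) := lie_mem_lb (ih hx ha) (AddSubgroup.mem_top _)
      have h2 : ⁅⁅x, b⁆, a⁆ ∈ lcl L (i + 1 + j + 1) := ih (lie_mem_lb hx (AddSubgroup.mem_top b)) ha
      rw [leibniz_lie x a b, ← lie_skew a ⁅x, b⁆]
      rw [show i + j + 1 + 1 = i + (j + 1) + 1 by omega] at h1
      rw [show i + 1 + j + 1 = i + (j + 1) + 1 by omega] at h2
      exact add_mem h1 (neg_mem h2)
    | zero => rw [lie_zero]; exact zero_mem _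
    | add u v _ _ iu iv => rw [lie_add]; exact add_mem iu iv
    | neg u _ iu => rw [lie_neg]; exact neg_mem iu

theorem lcl_succ_le (n : ℕ) : lcl L (n + 1) ≤ lcl L n := by
  induction n with
  | zero => exact le_top
  | succ n ih => exact lb_mono ih le_rfl

theorem lcl_antitone {m n : ℕ} (h : m ≤ n) : lcl L n ≤ lcl L m := by
  induction h with
  | refl => exact le_rfl
  | step _ ih => exact (lcl_succ_le _).trans ih

theorem zmod_three_cases : ∀ i j l : ZMod 3, i ≠ 0 → j ≠ 0 → l ≠ 0 → i + j ≠ 0 → i + j + l ≠ 0 →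
    i + l = 0 ∧ j + l = 0 := by decide

/-- A grading by `ZMod p` with trivial zero component. -/
structure Grading (p : ℕ) (L : Type u) [LieRing L] where
  /-- The components. -/
  C : ZMod p → AddSubgroup L
  /-- The projections. -/
  proj : ZMod p → L →+ L
  zero : C 0 = ⊥
  mul : ∀ i j, ∀ x ∈ C i, ∀ y ∈ C j, ⁅x, y⁆ ∈ C (i + j)
  top : ∀ x, x ∈ ⨆ i, C i
  proj_self : ∀ i, ∀ x ∈ C i, proj i x = x
  proj_ne : ∀ i j, i ≠ j → ∀ x ∈ C j, proj i x = 0

variable {p : ℕ} [hp : Fact p.Prime] (gr : Grading p L)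

/-- Being spanned by homogeneous elements. -/
def Hom (H : AddSubgroup L) : Prop := H ≤ ⨆ i, (H ⊓ gr.C i)

theorem hom_top : Hom gr (⊤ : AddSubgroup L) := fun x _ => by simpa using gr.top x

theorem lb_le_of_hom {S T U : AddSubgroup L} (hS : Hom gr S) (hT : Hom gr T)
    (h : ∀ i j, ∀ x ∈ S, x ∈ gr.C i → ∀ y ∈ T, y ∈ gr.C j → ⁅x, y⁆ ∈ U) : lb S T ≤ U := by
  refine lb_le fun x hx y hy => ?_
  refine AddSubgroup.iSup_induction _ (C := fun x => ⁅x, y⁆ ∈ U) (hS hx) ?_ (by simp) ?_
  · intro i a ha
    refine AddSubgroup.iSup_induction _ (C := fun y => ⁅a, y⁆ ∈ U) (hT hy) ?_ (by simp) ?_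
    · exact fun j b hb => h i j a ha.1 ha.2 b hb.1 hb.2
    · intro b c hb hc; rw [lie_add]; exact add_mem hb hc
  · intro b c hb hc; rw [add_lie]; exact add_mem hb hc

theorem hom_lb {S T : AddSubgroup L} (hS : Hom gr S) (hT : Hom gr T) : Hom gr (lb S T) :=
  lb_le_of_hom gr hS hT fun i j _ hx hxi _ hy hyj =>
    AddSubgroup.mem_iSup_of_mem (i + j) ⟨lie_mem_lb hx hy, gr.mul i j _ hxi _ hyj⟩

theorem hom_der {H : AddSubgroup L} (hH : Hom gr H) (n : ℕ) : Hom gr (der H n) := by
  induction n with
  | zero => exact hH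
  | succ n ih => exact hom_lb gr ih ih

/-- Homogeneous elements of `H` of weight above `k`. -/
def Gen (H : AddSubgroup L) (k : ℕ) (x : L) : Prop :=
  ∃ l : ZMod p, k < l.val ∧ x ∈ H ∧ x ∈ gr.C l

/-- Left normed products of the generators. -/
inductive LM (H : AddSubgroup L) (k : ℕ) : L → Prop
  | gen {x : L} : Gen gr H k x → LM H k x
  | mul {w c : L} : LM H k w → Gen gr H k c → LM H k ⁅w, c⁆

/-- The subring generated by the homogeneous elements of `H` of weight above `k`. -/
def R (H : AddSubgroup L) (k : ℕ) : AddSubgroup L := AddSubgroup.closure {x | LM gr H k x}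

/-- The spanned products of length at least two. -/
def T (H : AddSubgroup L) (k : ℕ) : AddSubgroup L :=
  AddSubgroup.closure {z | ∃ w c, LM gr H k w ∧ Gen gr H k c ∧ ⁅w, c⁆ = z}

theorem T_le_R (H : AddSubgroup L) (k : ℕ) : T gr H k ≤ R gr H k :=
  (AddSubgroup.closure_le _).2 (by
    rintro _ ⟨w, c, hw, hc, rfl⟩; exact AddSubgroup.subset_closure (LM.mul hw hc))

theorem LM.spec {H : AddSubgroup L} (hH : Closed H) {k : ℕ} {x : L} (h : LM gr H k x) :
    x ∈ H ∧ ∃ l, x ∈ gr.C l := by
  induction h with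
  | gen h => obtain ⟨l, -, h1, h2⟩ := h; exact ⟨h1, l, h2⟩
  | mul _ hc ih =>
    obtain ⟨l, -, h1, h2⟩ := hc
    obtain ⟨m, hm⟩ := ih.2
    exact ⟨hH _ ih.1 _ h1, m + l, gr.mul m l _ hm _ h2⟩

theorem lie_LM {H : AddSubgroup L} {k : ℕ} {x y : L} (hx : LM gr H k x) (hy : LM gr H k y) :
    ⁅x, y⁆ ∈ T gr H k := by
  induction hy generalizing x with
  | gen hc => exact AddSubgroup.subset_closure ⟨x, _, hx, hc, rfl⟩
  | @mul w c hw hc ih =>
    rw [leibniz_lie x w c, ← lie_skew w ⁅x, c⁆]
    refine add_mem ?_ (neg_mem (ih (LM.mul hx hc)))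
    have h1 := ih hx
    generalize ⁅x, w⁆ = z at h1
    induction h1 using AddSubgroup.closure_induction with
    | mem z hz =>
      obtain ⟨a, b, ha, hb, rfl⟩ := hz
      exact AddSubgroup.subset_closure ⟨_, c, LM.mul ha hb, hc, rfl⟩
    | zero => rw [zero_lie]; exact zero_mem _
    | add u v _ _ iu iv => rw [add_lie]; exact add_mem iu iv
    | neg u _ iu => rw [neg_lie]; exact neg_mem iu

theorem lb_R_le (H : AddSubgroup L) (k : ℕ) : lb (R gr H k) (R gr H k) ≤ T gr H k := by
  refine lb_le fun x hx y hy => ?_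
  induction hx using AddSubgroup.closure_induction with
  | mem x hx =>
    induction hy using AddSubgroup.closure_induction with
    | mem y hy => exact lie_LM gr hx hy
    | zero => rw [lie_zero]; exact zero_mem _
    | add u v _ _ iu iv => rw [lie_add]; exact add_mem iu iv
    | neg u _ iu => rw [lie_neg]; exact neg_mem iu
  | zero => rw [zero_lie]; exact zero_mem _
  | add u v _ _ iu iv => rw [add_lie]; exact add_mem iu iv
  | neg u _ iu => rw [neg_lie]; exact neg_mem iu

theorem closed_R (H : AddSubgroup L) (k : ℕ) : Closed (R gr H k) := fun _ hx _ hy =>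
  T_le_R gr H k (lb_R_le gr H k (lie_mem_lb hx hy))

/-- The component of weight `k + 1` of the products lies in the smaller subring. -/
theorem proj_T_mem {H : AddSubgroup L} (hH : Closed H) {k : ℕ} (hk : k + 1 < p) {z : L}
    (hz : z ∈ T gr H k) : gr.proj ((k + 1 : ℕ) : ZMod p) z ∈ R gr H (k + 1) := by
  haveI : NeZero p := ⟨hp.out.ne_zero⟩
  induction hz using AddSubgroup.closure_induction with
  | mem z hz =>
    obtain ⟨w, c, hw, hc, rfl⟩ := hz
    obtain ⟨hwH, m, hwm⟩ := hw.spec gr hH
    obtain ⟨l, hl, hcH, hcl⟩ := hc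
    by_cases he : ((k + 1 : ℕ) : ZMod p) = m + l
    swap
    · rw [gr.proj_ne _ _ he _ (gr.mul m l w hwm c hcl)]; exact zero_mem _
    rw [he, gr.proj_self _ _ (gr.mul m l w hwm c hcl)]
    rcases Nat.lt_or_eq_of_le (Nat.succ_le_of_lt hl) with hl' | hl'
    swap
    · have hl0 : l = ((k + 1 : ℕ) : ZMod p) := by rw [← ZMod.natCast_zmod_val l, ← hl']
      have hm0 : m = 0 := by
        rw [hl0] at he
        simpa using he.symm
      rw [hm0, gr.zero, AddSubgroup.mem_bot] at hwm
      rw [hwm, zero_lie]; exact zero_mem _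
    have hm : m = ((k + 1 + p - l.val : ℕ) : ZMod p) := by
      rw [Nat.cast_sub (by have := l.val_lt; omega), Nat.cast_add, ZMod.natCast_self, add_zero,
        ZMod.natCast_zmod_val, he, add_sub_cancel_right]
    have hmv : k + 1 < m.val := by
      have := l.val_lt
      rw [hm, ZMod.val_natCast, Nat.mod_eq_of_lt (by omega)]
      omega
    exact AddSubgroup.subset_closure
      (LM.mul (LM.gen ⟨m, hmv, hwH, hwm⟩) ⟨l, hl', hcH, hcl⟩)
  | zero => rw [map_zero]; exact zero_mem _
  | add u v _ _ iu iv => rw [map_add]; exact add_mem iu iv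
  | neg u _ iu => rw [map_neg]; exact neg_mem iu

/-- Kreknin's theorem, inductive form. -/
theorem der_le_R : ∀ k : ℕ, k < p → ∀ H : AddSubgroup L, Closed H → Hom gr H →
    der H (2 ^ k - 1) ≤ R gr H k := by
  haveI : NeZero p := ⟨hp.out.ne_zero⟩
  intro k
  induction k with
  | zero =>
    intro _ H _ hhom
    refine hhom.trans (iSup_le fun i x hx => ?_)
    by_cases hi : i = 0
    · have := hx.2
      rw [hi, gr.zero] at this
      rw [AddSubgroup.mem_bot.1 this]; exact zero_mem _
    · exact AddSubgroup.subset_closure (LM.gen ⟨i, Nat.pos_of_ne_zero (by simpa using hi), hx.1, hx.2⟩)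
  | succ k ih =>
    intro hk H hH hhom
    have hpos : 1 ≤ 2 ^ k := Nat.one_le_two_pow
    set H' := der H (2 ^ k) with hH'
    have hT : H' ≤ T gr H k := by
      rw [hH', show 2 ^ k = (2 ^ k - 1) + 1 by omega]
      exact (lb_mono (ih (by omega) H hH hhom) (ih (by omega) H hH hhom)).trans (lb_R_le gr H k)
    have hcomp : ∀ x, Gen gr H' k x → x ∈ R gr H (k + 1) := by
      rintro x ⟨l, hl, hx, hxl⟩
      rcases Nat.lt_or_eq_of_le (Nat.succ_le_of_lt hl) with hl' | hl'
      · exact AddSubgroup.subset_closure (LM.gen ⟨l, hl', der_le hH _ hx, hxl⟩)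
      · have he : ((k + 1 : ℕ) : ZMod p) = l := by rw [← ZMod.natCast_zmod_val l, ← hl']
        have := proj_T_mem gr hH hk (hT hx)
        rwa [he, gr.proj_self l x hxl] at this
    have hR : R gr H' k ≤ R gr H (k + 1) := by
      refine (AddSubgroup.closure_le _).2 fun x hx => ?_
      induction hx with
      | gen h => exact hcomp _ h
      | mul _ hc ihw => exact closed_R gr H (k + 1) _ ihw _ (hcomp _ hc)
    have e : 2 ^ (k + 1) - 1 = 2 ^ k + (2 ^ k - 1) := by rw [pow_succ]; omega
    rw [e, der_add]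
    exact (ih (by omega) H' (closed_der hH _) (hom_der gr hhom _)).trans hR

include gr in
/-- Kreknin's theorem. -/
theorem der_top_eq_bot : der (⊤ : AddSubgroup L) (2 ^ (p - 1) - 1) = ⊥ := by
  haveI : NeZero p := ⟨hp.out.ne_zero⟩
  refine eq_bot_iff.2 ((der_le_R gr (p - 1) (Nat.sub_lt hp.out.pos one_pos) ⊤
    (fun _ _ _ _ => AddSubgroup.mem_top _) (hom_top gr)).trans ((AddSubgroup.closure_le _).2 ?_))
  intro x hx
  obtain ⟨l, hl⟩ : ∃ l : ZMod p, p - 1 < l.val := by
    induction hx with
    | gen h => obtain ⟨l, hl, -⟩ := h; exact ⟨l, hl⟩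
    | mul _ _ ih => exact ih
  have := l.val_lt
  omega

/-! ### Subset sums -/

/-- The sums of the sublists. -/
def reach : List (L × ℕ × ZMod p) → Finset (ZMod p)
  | [] => {0}
  | a :: l => reach l ∪ (reach l).image (· + a.2.2)

theorem zero_mem_reach : ∀ l : List (L × ℕ × ZMod p), (0 : ZMod p) ∈ reach l
  | [] => Finset.mem_singleton_self _
  | _ :: l => Finset.mem_union_left _ (zero_mem_reach l)

theorem card_reach : ∀ l : List (L × ℕ × ZMod p), (∀ a ∈ l, a.2.2 ≠ 0) →
    min p (l.length + 1) ≤ (reach l).card := by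
  haveI : NeZero p := ⟨hp.out.ne_zero⟩
  intro l
  induction l with
  | nil => intro _; exact (min_le_right _ _).trans (by simp [reach])
  | cons a l ih =>
    intro h
    have hl := ih fun b hb => h b (List.mem_cons_of_mem a hb)
    by_cases hsub : (reach l).image (· + a.2.2) ⊆ reach l
    · have hstep : ∀ j : ℕ, (j : ZMod p) * a.2.2 ∈ reach l := by
        intro j
        induction j with
        | zero => rw [Nat.cast_zero, zero_mul]; exact zero_mem_reach l
        | succ j ihj =>
          rw [Nat.cast_succ, add_one_mul]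
          exact hsub (Finset.mem_image_of_mem _ ihj)
      have huniv : reach l = Finset.univ := Finset.eq_univ_of_forall fun t => by
        have := hstep (t * a.2.2⁻¹).val
        rwa [ZMod.natCast_zmod_val, inv_mul_cancel_right₀ (h a List.mem_cons_self)] at this
      refine (min_le_left _ _).trans ?_
      simp only [reach, huniv]
      rw [Finset.union_eq_left.2 (Finset.subset_univ _), Finset.card_univ, ZMod.card]
    · have hss : reach l ⊂ reach (a :: l) :=
        Finset.ssubset_iff_subset_ne.2 ⟨Finset.subset_union_left, fun e => hsub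
          (Finset.subset_union_right.trans e.symm.subset)⟩
      have := Finset.card_lt_card hss
      simp only [List.length_cons]
      omega

theorem exists_perm_of_mem_reach : ∀ l : List (L × ℕ × ZMod p), ∀ t ∈ reach l,
    ∃ s r : List (L × ℕ × ZMod p), List.Perm l (s ++ r) ∧ (s.map fun a => a.2.2).sum = t
  | [], t, ht => ⟨[], [], List.Perm.refl _, by rw [Finset.mem_singleton.1 ht]; rfl⟩
  | a :: l, t, ht => by
    rcases Finset.mem_union.1 ht with ht | ht
    · obtain ⟨s, r, hsr, hs⟩ := exists_perm_of_mem_reach l t ht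
      exact ⟨s, a :: r, (hsr.cons a).trans List.perm_middle.symm, hs⟩
    · obtain ⟨t', ht', rfl⟩ := Finset.mem_image.1 ht
      obtain ⟨s, r, hsr, hs⟩ := exists_perm_of_mem_reach l t' ht'
      exact ⟨a :: s, r, hsr.cons a, by rw [List.map_cons, List.sum_cons, hs, add_comm]⟩

/-! ### The nilpotency class -/

/-- An operator: an element of weight `a.2.1` and degree `a.2.2`. -/
def Item (a : L × ℕ × ZMod p) : Prop := 1 ≤ a.2.1 ∧ a.1 ∈ lcl L (a.2.1 - 1) ∧ a.1 ∈ gr.C a.2.2

/-- Successive bracketing. -/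
def fold (u : L) (l : List (L × ℕ × ZMod p)) : L := l.foldl (fun v a => ⁅v, a.1⁆) u

/-- The total weight. -/
def wt (l : List (L × ℕ × ZMod p)) : ℕ := (l.map fun a => a.2.1).sum

theorem fold_append (u : L) (s r : List (L × ℕ × ZMod p)) : fold u (s ++ r) = fold (fold u s) r :=
  List.foldl_append

theorem fold_sub (u v : L) : ∀ l : List (L × ℕ × ZMod p), fold (u - v) l = fold u l - fold v l := by
  intro l
  induction l generalizing u v with
  | nil => rfl
  | cons a l ih =>
    show fold ⁅u - v, a.1⁆ l = fold ⁅u, a.1⁆ l - fold ⁅v, a.1⁆ l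
    rw [sub_lie, ih]

theorem fold_mem_id {U : AddSubgroup L} (hU : IsId U) :
    ∀ (l : List (L × ℕ × ZMod p)) (u : L), u ∈ U → fold u l ∈ U := by
  intro l
  induction l with
  | nil => exact fun _ hu => hu
  | cons a l ih => exact fun u hu => ih _ (hU u hu a.1)

theorem fold_hom : ∀ (l : List (L × ℕ × ZMod p)) (u : L) (t : ZMod p), (∀ a ∈ l, Item gr a) →
    u ∈ gr.C t → fold u l ∈ gr.C (t + (l.map fun a => a.2.2).sum) := by
  intro l
  induction l with
  | nil => intro u t _ hu; simpa [fold] using hu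
  | cons a l ih =>
    intro u t h hu
    rw [List.map_cons, List.sum_cons, ← add_assoc]
    exact ih _ _ (fun b hb => h b (List.mem_cons_of_mem a hb))
      (gr.mul t _ u hu _ (h a List.mem_cons_self).2.2)

variable {M N : AddSubgroup L} {c : ℕ}

/-- Long products of operators land in `N`. -/
theorem fold_mem_of_weight (hM : IsId M) (hN : IsId N) (hMN : ∀ x ∈ M, ∀ y ∈ M, ⁅x, y⁆ ∈ N)
    (hc : lcl L c ≤ M) : ∀ (k : ℕ) (l : List (L × ℕ × ZMod p)) (u : L) (t : ZMod p), l.length = k →
      (∀ a ∈ l, Item gr a) → (p - 2) * c + 1 ≤ wt l → u ∈ M → u ∈ gr.C t → fold u l ∈ N := by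
  intro k
  induction k with
  | zero =>
    intro l u t hl _ hw _ _
    rw [List.length_eq_zero_iff] at hl
    subst hl
    simp [wt] at hw
  | succ k ih =>
    intro l u t hl hitem hw huM hut
    by_cases hbig : ∃ a ∈ l, c < a.2.1
    · obtain ⟨a, ha, hac⟩ := hbig
      obtain ⟨s, r, rfl⟩ := List.append_of_mem ha
      rw [fold_append]
      refine fold_mem_id hN r _ (hMN _ (fold_mem_id hM s u huM) _ (hc ?_))
      exact lcl_antitone (by omega) (hitem a (List.mem_append_right s List.mem_cons_self)).2.1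
    push Not at hbig
    -- reordering does not matter
    have hperm : ∀ l₁ l₂ : List (L × ℕ × ZMod p), List.Perm l₁ l₂ →
        ∀ a : List (L × ℕ × ZMod p), (a ++ l₁).length = k + 1 → (∀ b ∈ a ++ l₁, Item gr b) →
        (p - 2) * c + 1 ≤ wt (a ++ l₁) → (fold u (a ++ l₁) ∈ N ↔ fold u (a ++ l₂) ∈ N) := by
      intro l₁ l₂ h
      induction h with
      | nil => intro a _ _ _; rfl
      | @cons x l₁ l₂ _ ihc =>
        intro a h1 h2 h3
        have e : ∀ m : List (L × ℕ × ZMod p), a ++ x :: m = (a ++ [x]) ++ m := fun m => by simp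
        rw [e l₁, e l₂]
        rw [e l₁] at h1 h2 h3
        exact ihc _ h1 h2 h3
      | swap x y m =>
        intro a h1 h2 h3
        have hx := h2 x (by simp)
        have hy := h2 y (by simp)
        set z : L × ℕ × ZMod p := (⁅y.1, x.1⁆, y.2.1 + x.2.1, y.2.2 + x.2.2) with hz
        have hzi : Item gr z := by
          refine ⟨by simp [hz]; have := hy.1; omega, ?_, gr.mul _ _ _ hy.2.2 _ hx.2.2⟩
          have := lie_lcl_mem hy.2.1 hx.2.1
          have e : y.2.1 - 1 + (x.2.1 - 1) + 1 = y.2.1 + x.2.1 - 1 := by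
            have := hy.1; have := hx.1; omega
          rw [e] at this
          exact this
        have hlow : fold u (a ++ z :: m) ∈ N := by
          refine ih _ u t (by simp at h1 ⊢; omega) ?_ ?_ huM hut
          · intro b hb
            simp only [List.mem_append, List.mem_cons] at hb
            rcases hb with hb | rfl | hb
            · exact h2 b (by simp [hb])
            · exact hzi
            · exact h2 b (by simp [hb])
          · simp [wt, hz] at h3 ⊢; omega
        have hdiff : fold u (a ++ y :: x :: m) - fold u (a ++ x :: y :: m) = fold u (a ++ z :: m) := by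
          rw [fold_append, fold_append, fold_append]
          show fold ⁅⁅fold u a, y.1⁆, x.1⁆ m - fold ⁅⁅fold u a, x.1⁆, y.1⁆ m = fold ⁅fold u a, ⁅y.1, x.1⁆⁆ m
          rw [← fold_sub, leibniz_lie, ← lie_skew y.1 ⁅fold u a, x.1⁆, sub_eq_add_neg]
        constructor
        · intro h
          have := sub_mem h (hdiff ▸ hlow)
          rwa [sub_sub_cancel] at this
        · intro h
          have := add_mem (hdiff ▸ hlow) h
          rwa [sub_add_cancel] at this
      | @trans m₁ m₂ m₃ h12 _ i12 i23 =>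
        intro a h1 h2 h3
        rw [i12 a h1 h2 h3]
        refine i23 a (by simpa [h12.length_eq] using h1)
          (fun b hb => h2 b ((h12.append_left a).mem_iff.2 hb)) ?_
        have : wt (a ++ m₂) = wt (a ++ m₁) := ((h12.append_left a).map _).sum_eq.symm
        rw [this]; exact h3
    by_cases hd : ∃ a ∈ l, a.2.2 = 0
    · obtain ⟨a, ha, ha0⟩ := hd
      obtain ⟨s, r, rfl⟩ := List.append_of_mem ha
      have := (hitem a ha).2.2
      rw [ha0, gr.zero, AddSubgroup.mem_bot] at this
      rw [fold_append]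
      show fold ⁅fold u s, a.1⁆ r ∈ N
      rw [this, lie_zero]
      exact fold_mem_id hN r _ (zero_mem N)
    push Not at hd
    by_cases ht : t = 0
    · rw [ht, gr.zero, AddSubgroup.mem_bot] at hut
      subst hut
      exact fold_mem_id hN l _ (zero_mem N)
    have hlen : p - 1 ≤ l.length := by
      by_contra hlt
      have h1 : wt l ≤ l.length * c := by
        have := List.sum_le_card_nsmul (l.map fun a => a.2.1) c (by
          intro x hx; obtain ⟨a, ha, rfl⟩ := List.mem_map.1 hx; exact hbig a ha)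
        simpa [wt] using this
      have := Nat.mul_le_mul_right c (show l.length ≤ p - 2 by omega)
      omega
    have hfull : (-t) ∈ reach l := by
      haveI : NeZero p := ⟨hp.out.ne_zero⟩
      have h1 := card_reach l hd
      have h2 : (reach l).card ≤ p := (Finset.card_le_univ _).trans (ZMod.card p).le
      have hu : reach l = Finset.univ := Finset.eq_univ_of_card _ (by rw [ZMod.card]; omega)
      rw [hu]; exact Finset.mem_univ _
    obtain ⟨s, r, hsr, hs⟩ := exists_perm_of_mem_reach l (-t) hfull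
    rw [show fold u l = fold u ([] ++ l) from rfl,
      hperm l (s ++ r) hsr [] hl (by simpa using hitem) (by simpa using hw)]
    show fold u (s ++ r) ∈ N
    have hz := fold_hom gr s u t (fun a ha => hitem a (hsr.mem_iff.2 (List.mem_append_left r ha))) hut
    rw [hs, add_neg_cancel, gr.zero, AddSubgroup.mem_bot] at hz
    rw [fold_append, hz]
    exact fold_mem_id hN r _ (zero_mem N)

theorem lcl_le_of_step (hM : IsId M) (hN : IsId N) (hMh : Hom gr M) (hMN : ∀ x ∈ M, ∀ y ∈ M, ⁅x, y⁆ ∈ N)
    (hc : lcl L c ≤ M) : lcl L (1 + (p - 1) * c) ≤ N := by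
  have key : ∀ m : ℕ, lcl L (c + m) ≤ AddSubgroup.closure
      {z | ∃ (l : List (L × ℕ × ZMod p)) (u : L) (t : ZMod p), l.length = m ∧ wt l = m ∧
        (∀ a ∈ l, Item gr a) ∧ u ∈ M ∧ u ∈ gr.C t ∧ fold u l = z} := by
    intro m
    induction m with
    | zero =>
      refine (hc.trans hMh).trans (iSup_le fun i x hx => AddSubgroup.subset_closure ?_)
      exact ⟨[], x, i, rfl, rfl, by simp, hx.1, hx.2, rfl⟩
    | succ m ihm =>
      refine lb_le fun x hx y _ => ?_
      have hx' := ihm hx
      clear hx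
      induction hx' using AddSubgroup.closure_induction with
      | mem z hz =>
        obtain ⟨l, u, t, hl, hw, hi, huM, hut, rfl⟩ := hz
        refine AddSubgroup.iSup_induction _ (C := fun y => ⁅fold u l, y⁆ ∈ _) (gr.top y) ?_
          (by rw [lie_zero]; exact zero_mem _) ?_
        · intro j b hb
          refine AddSubgroup.subset_closure ⟨l ++ [(b, 1, j)], u, t, by simp [hl],
            by simp [wt] at hw ⊢; omega, ?_, huM, hut, ?_⟩
          · intro a ha
            rcases List.mem_append.1 ha with ha | ha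
            · exact hi a ha
            · rw [List.mem_singleton] at ha
              subst ha
              exact ⟨le_rfl, AddSubgroup.mem_top _, hb⟩
          · rw [fold_append]; rfl
        · intro a b ha hb; rw [lie_add]; exact add_mem ha hb
      | zero => rw [zero_lie]; exact zero_mem _
      | add a b _ _ ia ib => rw [add_lie]; exact add_mem ia ib
      | neg a _ ia => rw [neg_lie]; exact neg_mem ia
  have hp2 := hp.out.two_le
  have e : 1 + (p - 1) * c = c + ((p - 2) * c + 1) := by
    rw [show p - 1 = (p - 2) + 1 by omega, add_mul, one_mul]; ring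
  rw [e]
  refine (key _).trans ((AddSubgroup.closure_le _).2 ?_)
  rintro _ ⟨l, u, t, hl, hw, hi, huM, hut, rfl⟩
  exact fold_mem_of_weight gr hM hN hMN hc _ l u t hl hi hw.ge huM hut

include gr in
/-- Higman's theorem with the bound of Kreknin and Kostrikin. -/
theorem lcl_le_der (s : ℕ) :
    lcl L (∑ i ∈ Finset.range s, (p - 1) ^ i) ≤ der (⊤ : AddSubgroup L) s := by
  induction s with
  | zero => exact le_top
  | succ s ih =>
    rw [geom_sum_succ, add_comm]
    exact lcl_le_of_step gr (isId_der s) (isId_der (s + 1)) (hom_der gr (hom_top gr) s)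
      (fun _ hx _ hy => lie_mem_lb hx hy) ih

include gr in
theorem lcl_eq_bot :
    lcl L (∑ i ∈ Finset.range (2 ^ (p - 1) - 1), (p - 1) ^ i) = ⊥ :=
  eq_bot_iff.2 ((lcl_le_der gr _).trans (der_top_eq_bot gr).le)

include gr in
/-- For three components the class is at most two. -/
theorem lcl_two_eq_bot (h3 : p = 3) : lcl L 2 = ⊥ := by
  subst h3
  refine eq_bot_iff.2 (lb_le_of_hom gr (hom_lb gr (hom_top gr) (hom_top gr)) (hom_top gr)
    fun m l z hz hzm y _ hyl => ?_)
  rw [AddSubgroup.mem_bot]
  have hz' : z = gr.proj m z := (gr.proj_self m z hzm).symm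
  have key : ∀ v ∈ lb (⊤ : AddSubgroup L) ⊤, ⁅gr.proj m v, y⁆ = 0 := by
    intro v hv
    have hle : lb (⊤ : AddSubgroup L) ⊤ ≤
        AddSubgroup.closure {w | ∃ i j a b, a ∈ gr.C i ∧ b ∈ gr.C j ∧ ⁅a, b⁆ = w} :=
      lb_le_of_hom gr (hom_top gr) (hom_top gr) fun i j a _ ha b _ hb =>
        AddSubgroup.subset_closure ⟨i, j, a, b, ha, hb, rfl⟩
    have hv' := hle hv
    clear hv
    induction hv' using AddSubgroup.closure_induction with
    | mem w hw =>
      obtain ⟨i, j, a, b, ha, hb, rfl⟩ := hw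
      by_cases hm : m = i + j
      swap
      · rw [gr.proj_ne _ _ hm _ (gr.mul i j a ha b hb), zero_lie]
      rw [hm, gr.proj_self _ _ (gr.mul i j a ha b hb)]
      have z0 : ∀ (x : L) (k : ZMod 3), x ∈ gr.C k → k = 0 → x = 0 := fun x k hx hk => by
        rwa [hk, gr.zero, AddSubgroup.mem_bot] at hx
      by_cases h1 : i = 0
      · rw [z0 a i ha h1, zero_lie, zero_lie]
      by_cases h2 : j = 0
      · rw [z0 b j hb h2, lie_zero, zero_lie]
      by_cases h4 : l = 0
      · rw [z0 y l hyl h4, lie_zero]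
      by_cases h5 : i + j = 0
      · rw [z0 _ _ (gr.mul i j a ha b hb) h5, zero_lie]
      by_cases h6 : i + j + l = 0
      · exact z0 _ _ (gr.mul _ l _ (gr.mul i j a ha b hb) y hyl) h6
      obtain ⟨h7, h8⟩ := zmod_three_cases i j l h1 h2 h4 h5 h6
      have e := leibniz_lie a b y
      rw [z0 _ _ (gr.mul j l b hb y hyl) h8, z0 _ _ (gr.mul i l a ha y hyl) h7, lie_zero, lie_zero,
        add_zero] at e
      exact e.symm
    | zero => rw [map_zero, zero_lie]
    | add a b _ _ ia ib => rw [map_add, add_lie, ia, ib, add_zero]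
    | neg a _ ia => rw [map_neg, neg_lie, ia, neg_zero]
  rw [hz']
  exact key z hz

end CfsgLib.GradedLie
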