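import Mathlib.GroupTheory.Nilpotent
import Mathlib.GroupTheory.QuotientGroup.Finite
import Cfsg.Agent.Lib.PGroup.ElementaryBasic

/-!
# The class of a `p`-group with bounded class sizes
-/

set_option autoImplicit false
set_option linter.style.haveILetI false

open Subgroup
open scoped commutatorElement

namespace CfsgLib.BreadthClass

variable {G : Type*} [Group G]

/-- The centralizer of `γ i` modulo `γ (i + 2)`. -/
def stepCentralizer (i : ℕ) : Subgroup G :=
  (centralizer (((⊤ : Subgroup G).lowerCentralSeries i).map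
    (QuotientGroup.mk' ((⊤ : Subgroup G).lowerCentralSeries (i + 2))) :
      Set (G ⧸ (⊤ : Subgroup G).lowerCentralSeries (i + 2)))).comap
    (QuotientGroup.mk' ((⊤ : Subgroup G).lowerCentralSeries (i + 2)))

theorem mem_stepCentralizer {i : ℕ} {x : G} : x ∈ stepCentralizer i ↔
    ∀ g ∈ (⊤ : Subgroup G).lowerCentralSeries i,
      ⁅g, x⁆ ∈ (⊤ : Subgroup G).lowerCentralSeries (i + 2) := by
  rw [stepCentralizer, mem_comap, mem_centralizer_iff]
  constructor
  · intro h g hg
    rw [← QuotientGroup.eq_one_iff, ← QuotientGroup.mk'_apply, map_commutatorElement]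
    exact commutatorElement_eq_one_iff_mul_comm.2 (h _ (mem_map_of_mem _ hg))
  · rintro h _ ⟨g, hg, rfl⟩
    refine commutatorElement_eq_one_iff_mul_comm.1 ?_
    rw [← map_commutatorElement, QuotientGroup.mk'_apply, QuotientGroup.eq_one_iff]
    exact h g hg

theorem stepCentralizer_ne_top [Group.IsNilpotent G] {i : ℕ}
    (hi : i + 1 < Group.nilpotencyClass G) : stepCentralizer (G := G) i ≠ ⊤ := by
  intro htop
  have hle : (⊤ : Subgroup G).lowerCentralSeries (i + 1) ≤
      (⊤ : Subgroup G).lowerCentralSeries (i + 2) := by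
    rw [Subgroup.lowerCentralSeries_succ, commutator_le]
    exact fun g hg x _ => mem_stepCentralizer.1 (htop ▸ mem_top x) g hg
  have hstab : ∀ j, (⊤ : Subgroup G).lowerCentralSeries (i + 1) ≤
      (⊤ : Subgroup G).lowerCentralSeries (i + 1 + j) := by
    intro j
    induction j with
    | zero => exact le_rfl
    | succ j ih =>
      refine hle.trans ?_
      rw [show i + 1 + (j + 1) = (i + 1 + j) + 1 by omega]
      exact commutator_mono ih le_rfl
  have hbot : (⊤ : Subgroup G).lowerCentralSeries (i + 1) = ⊥ := le_bot_iff.1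
    ((hstab (Group.nilpotencyClass G - (i + 1))).trans (by
      rw [show i + 1 + (Group.nilpotencyClass G - (i + 1)) = Group.nilpotencyClass G by omega,
        Subgroup.lowerCentralSeries_nilpotencyClass]))
  have := (Subgroup.lowerCentralSeries_eq_bot_iff_nilpotencyClass_le).1 hbot
  omega

variable [Finite G] {p : ℕ} [hp : Fact p.Prime]

theorem card_stepCentralizer_le (hG : IsPGroup p G) [Group.IsNilpotent G] {i : ℕ}
    (hi : i + 1 < Group.nilpotencyClass G) :
    p * Nat.card (stepCentralizer (G := G) i) ≤ Nat.card G := by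
  obtain ⟨k, hk⟩ := hG.index (stepCentralizer (G := G) i)
  have hk0 : k ≠ 0 := by
    rintro rfl
    rw [pow_zero, index_eq_one] at hk
    exact stepCentralizer_ne_top hi hk
  rw [← (stepCentralizer (G := G) i).card_mul_index, hk, mul_comm p]
  exact Nat.mul_le_mul le_rfl (Nat.le_of_dvd (pow_pos hp.out.pos k) (dvd_pow_self p hk0))

/-- The breadth of `x` is at least the number of steps it does not centralize. -/
theorem count_le_of_index (hG : IsPGroup p G) (b : ℕ) (x : G)
    (hx : (centralizer ({x} : Set G)).index ≤ p ^ b) (m : ℕ)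
    [DecidablePred fun i => x ∉ stepCentralizer (G := G) i] :
    ((Finset.range m).filter fun i => x ∉ stepCentralizer (G := G) i).card ≤ b := by
  set γ := fun i => (⊤ : Subgroup G).lowerCentralSeries i with hγ
  set C := centralizer ({x} : Set G) with hC
  have hr : ∀ i, ∃ r : ℕ, C.relIndex (γ i) = p ^ r := fun i => (hG.to_subgroup (γ i)).index _
  choose r hr using hr
  have hanti : ∀ i, γ (i + 1) ≤ γ i := fun i => Subgroup.lowerCentralSeries_antitone _ (Nat.le_succ i)
  -- the card formula for one step
  have hcard : ∀ i, Nat.card (γ i) = Nat.card ↥(C ⊓ γ i) * p ^ r i := by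
    intro i
    rw [← hr i, ← inf_relIndex_right]
    have h := relIndex_mul_relIndex (⊥ : Subgroup G) (C ⊓ γ i) (γ i) bot_le inf_le_right
    rw [relIndex_bot_left, relIndex_bot_left] at h
    exact h.symm
  have hstep : ∀ i, r (i + 1) ≤ r i ∧ (x ∉ stepCentralizer i → r (i + 1) < r i) := by
    intro i
    set H := C ⊓ γ i with hH
    have hn : H ≤ normalizer (γ (i + 1) : Set G) := by
      rw [normalizer_eq_top (H := γ (i + 1))]; exact le_top
    have hprod := CfsgLib.EABasic.card_sup_mul_card_inf_of_le_normalizer hn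
    have hinf : H ⊓ γ (i + 1) = C ⊓ γ (i + 1) := by
      rw [hH, inf_assoc, inf_eq_right.2 (hanti i)]
    rw [hinf, hcard (i + 1)] at hprod
    have hsup : H ⊔ γ (i + 1) ≤ γ i := sup_le inf_le_right (hanti i)
    have hsupcard : Nat.card ↥(H ⊔ γ (i + 1)) = Nat.card H * p ^ r (i + 1) :=
      Nat.eq_of_mul_eq_mul_right (Nat.card_pos (α := ↥(C ⊓ γ (i + 1)))) (by rw [hprod]; ring)
    have hle : Nat.card ↥(H ⊔ γ (i + 1)) ≤ Nat.card H * p ^ r i := by
      rw [← hcard i]; exact Nat.le_of_dvd Nat.card_pos (card_dvd_of_le hsup)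
    rw [hsupcard] at hle
    have hle' : r (i + 1) ≤ r i := (Nat.pow_le_pow_iff_right hp.out.one_lt).1
      (Nat.le_of_mul_le_mul_left hle Nat.card_pos)
    refine ⟨hle', fun hxi => lt_of_le_of_ne hle' fun e => hxi ?_⟩
    have heq : H ⊔ γ (i + 1) = γ i := eq_of_le_of_card_ge hsup (by rw [hsupcard, hcard i, e])
    rw [mem_stepCentralizer]
    intro g hg
    have hg' : g ∈ H ⊔ γ (i + 1) := heq.ge hg
    rw [← SetLike.mem_coe, coe_mul_of_left_le_normalizer_right H (γ (i + 1)) hn, Set.mem_mul] at hg'
    obtain ⟨h, hh, w, hw, rfl⟩ := hg'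
    have hhx : ⁅h, x⁆ = 1 := commutatorElement_eq_one_iff_mul_comm.2
      (mem_centralizer_singleton_iff.1 (Subgroup.mem_inf.1 hh).1)
    have hwx : ⁅w, x⁆ ∈ γ (i + 2) := commutator_mem_commutator hw (mem_top x)
    have e' : ⁅h * w, x⁆ = h * ⁅w, x⁆ * h⁻¹ * ⁅h, x⁆ := by
      simp only [commutatorElement_def]; group
    rw [e', hhx, mul_one]
    exact (inferInstance : (γ (i + 2)).Normal).conj_mem _ hwx h
  have hsum : ∀ m, ((Finset.range m).filter fun i => x ∉ stepCentralizer (G := G) i).card + r m
      ≤ r 0 := by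
    intro m
    induction m with
    | zero => simp
    | succ m ih =>
      rw [Finset.range_add_one, Finset.filter_insert]
      by_cases hxm : x ∉ stepCentralizer (G := G) m
      · rw [if_pos hxm, Finset.card_insert_of_notMem (by simp)]
        have := (hstep m).2 hxm
        omega
      · rw [if_neg hxm]
        have := (hstep m).1
        omega
  have h0 : p ^ r 0 ≤ p ^ b := by
    rw [← hr 0, hγ]
    simp only [Subgroup.lowerCentralSeries_zero, relIndex_top_right]
    exact hx
  have h1 := (Nat.pow_le_pow_iff_right hp.out.one_lt).1 h0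
  have h2 := hsum m
  omega

/-- Some element centralizes few steps. -/
theorem class_bound (hG : IsPGroup p G) (b : ℕ)
    (hb : ∀ x : G, (centralizer ({x} : Set G)).index ≤ p ^ b) :
    ∃ c : ℕ, (⊤ : Subgroup G).lowerCentralSeries c = ⊥ ∧
      (b ≠ 0 → (c - 1) * (p - 1) < b * p ∧ c ≤ 2 * b) ∧ (b = 0 → c ≤ 1) := by
  classical
  haveI : Group.IsNilpotent G := hG.isNilpotent
  haveI := Fintype.ofFinite G
  set c := Group.nilpotencyClass G with hc
  refine ⟨c, Subgroup.lowerCentralSeries_nilpotencyClass, ?_⟩
  have hp2 := hp.out.two_le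
  -- double counting
  have key : 2 ≤ c → (c - 1) * (p - 1) < b * p := by
    intro hc2
    by_contra hle
    push Not at hle
    set N := fun x : G =>
      ((Finset.range (c - 1)).filter fun i => x ∉ stepCentralizer (G := G) i).card with hN
    have hNb : ∀ x, N x ≤ b := fun x => count_le_of_index hG b x (hb x) _
    have hN1 : N 1 = 0 := by
      simp [hN]
    have hlt : ∑ x, N x * p < ∑ _x : G, (c - 1) * (p - 1) := by
      refine Finset.sum_lt_sum (fun x _ => (Nat.mul_le_mul_right p (hNb x)).trans hle)
        ⟨1, Finset.mem_univ _, ?_⟩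
      rw [hN1, zero_mul]
      exact Nat.mul_pos (by omega) (by omega)
    have hswap : ∑ x, N x =
        ∑ i ∈ Finset.range (c - 1), (Finset.univ.filter fun x => x ∉ stepCentralizer (G := G) i).card := by
      simp only [hN, Finset.card_filter]
      exact Finset.sum_comm
    have hge : ∀ i ∈ Finset.range (c - 1), (p - 1) * Fintype.card G ≤
        p * (Finset.univ.filter fun x => x ∉ stepCentralizer (G := G) i).card := by
      intro i hi
      have h := card_stepCentralizer_le hG (i := i) (by rw [Finset.mem_range] at hi; omega)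
      have hsplit := Finset.card_filter_add_card_filter_not (s := (Finset.univ : Finset G))
        (fun x => x ∈ stepCentralizer (G := G) i)
      rw [Nat.card_eq_fintype_card, Nat.card_eq_fintype_card, Fintype.card_subtype] at h
      rw [Finset.card_univ] at hsplit
      rw [Nat.sub_mul, one_mul]
      have e : p * Fintype.card G =
          p * (Finset.univ.filter fun x => x ∈ stepCentralizer (G := G) i).card +
          p * (Finset.univ.filter fun x => x ∉ stepCentralizer (G := G) i).card := by
        rw [← mul_add, hsplit]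
      omega
    have hge' := Finset.sum_le_sum hge
    rw [Finset.sum_const, Finset.card_range, smul_eq_mul, ← Finset.mul_sum, ← hswap] at hge'
    rw [Finset.sum_const, Finset.card_univ, smul_eq_mul, ← Finset.sum_mul] at hlt
    have e1 : (c - 1) * ((p - 1) * Fintype.card G) = Fintype.card G * ((c - 1) * (p - 1)) := by ring
    rw [mul_comm p] at hge'
    omega
  constructor
  · intro hb0
    by_cases hc2 : 2 ≤ c
    · refine ⟨key hc2, ?_⟩
      by_contra hgt
      have h1 : b * p ≤ (2 * b) * (p - 1) := by
        calc b * p ≤ b * (2 * (p - 1)) := Nat.mul_le_mul le_rfl (by omega)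
          _ = _ := by ring
      have h2 := Nat.mul_le_mul_right (p - 1) (show 2 * b ≤ c - 1 by omega)
      have h3 := key hc2
      omega
    · refine ⟨?_, by omega⟩
      rw [show c - 1 = 0 by omega, zero_mul]
      exact Nat.mul_pos (Nat.pos_of_ne_zero hb0) hp.out.pos
  · intro hb0
    by_contra hgt
    have h3 := key (by omega)
    rw [hb0, zero_mul] at h3
    exact Nat.not_lt_zero _ h3

end CfsgLib.BreadthClass
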