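import Cfsg.Agent.Lib.PGroup.ClassSize
import Cfsg.Agent.Lib.PGroup.JordanCover
import Cfsg.Agent.Lib.Coprime.Action

/-!
Class sizes coprime to the largest class size.

Fix `y` with a class of maximal size `m`.  The elements whose class size is coprime to `m`
generate an abelian normal subgroup `W`, with `[W, G]` inside a normal subgroup `M` of order
dividing `m`.  A prime `p` is *remote* when each class size it divides is coprime to `m`; then
`G = W C(P)` for a Sylow `p`-subgroup `P` and `W = C_W(P) × [M, P]` is a decomposition by normal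
subgroups.
-/

set_option autoImplicit false
set_option linter.style.haveILetI false
set_option linter.unusedSectionVars false

namespace CfsgLib.ClassGraph

open Subgroup
open scoped Pointwise

variable {G : Type*} [Group G] [Finite G]

/-- The size of the conjugacy class of `x`. -/
noncomputable abbrev cidx (x : G) : ℕ := (centralizer ({x} : Set G)).index

/-- `y` has a class of largest size. -/
def IsTop (y : G) : Prop := ∀ g : G, cidx g ≤ cidx y

theorem exists_top : ∃ y : G, IsTop y := by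
  obtain ⟨y, hy⟩ := Finite.exists_max (cidx : G → ℕ)
  exact ⟨y, hy⟩

theorem cidx_conj (g x : G) : cidx (g * x * g⁻¹) = cidx x := by
  rw [cidx, cidx, ← PGroup.ncard_carrier_eq_index, ← PGroup.ncard_carrier_eq_index,
    ConjClasses.mk_eq_mk_iff_isConj.2 (isConj_iff.2 ⟨g, rfl⟩ : IsConj x (g * x * g⁻¹)).symm]

theorem cidx_of_mem_center {x : G} (hx : x ∈ center G) : cidx x = 1 :=
  index_eq_one.2 (eq_top_iff.2 fun g _ =>
    mem_centralizer_singleton_iff.2 (mem_center_iff.1 hx g))

theorem mem_center_of_cidx {x : G} (hx : cidx x = 1) : x ∈ center G :=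
  mem_center_iff.2 fun g => mem_centralizer_singleton_iff.1
    (show g ∈ centralizer ({x} : Set G) by rw [index_eq_one.1 hx]; exact mem_top g)

/-- A class size prime to `p` means that a conjugate of the given Sylow subgroup centralises. -/
theorem exists_conj_centralizes {p : ℕ} [Fact p.Prime] (P : Sylow p G) {x : G}
    (hx : ¬ p ∣ cidx x) : ∃ g : G, g⁻¹ * x * g ∈ centralizer ((P : Subgroup G) : Set G) := by
  let Q : Sylow p (centralizer ({x} : Set G)) := default
  have hQi : ¬ p ∣ ((Q : Subgroup (centralizer ({x} : Set G))).map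
      (centralizer ({x} : Set G)).subtype).index := by
    rw [index_map_subtype]
    exact (Fact.out : p.Prime).not_dvd_mul Q.not_dvd_index hx
  let R : Sylow p G := (Q.isPGroup'.map _).toSylow hQi
  obtain ⟨g, hg⟩ := MulAction.exists_smul_eq G P R
  refine ⟨g, mem_centralizer_iff.2 fun u hu => ?_⟩
  have hu' : g * u * g⁻¹ ∈ (R : Subgroup G) := by
    rw [← hg, Sylow.coe_subgroup_smul]
    exact smul_mem_pointwise_smul u (MulAut.conj g) _ hu
  rw [show (R : Subgroup G) = _ from IsPGroup.toSylow_coe _ hQi] at hu'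
  obtain ⟨w, -, hw⟩ := hu'
  have h := mem_centralizer_singleton_iff.1 w.2
  have hw' : (w : G) = g * u * g⁻¹ := hw
  rw [hw'] at h
  calc u * (g⁻¹ * x * g) = g⁻¹ * ((g * u * g⁻¹) * x) * g := by group
    _ = g⁻¹ * (x * (g * u * g⁻¹)) * g := by rw [h]
    _ = g⁻¹ * x * g * u := by group

theorem exists_mul_of_coprime {x y : G} (h : (cidx x).Coprime (cidx y)) (g : G) :
    ∃ a ∈ centralizer ({x} : Set G), ∃ b ∈ centralizer ({y} : Set G), g = a * b := by
  set A := centralizer ({x} : Set G)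
  set B := centralizer ({y} : Set G)
  have hst : MulAction.stabilizer A ((1 : G) : G ⧸ B) = B.subgroupOf A := by
    ext a
    rw [MulAction.mem_stabilizer_iff, mem_subgroupOf]
    show (((a : G) * 1 : G) : G ⧸ B) = _ ↔ _
    rw [mul_one, QuotientGroup.eq, mul_one, inv_mem_iff]
  have h1 : (MulAction.orbit A ((1 : G) : G ⧸ B)).ncard = B.relIndex A := by
    rw [← MulAction.index_stabilizer, hst]; rfl
  have h2 : B.index ∣ B.relIndex A * A.index := by
    rw [← inf_relIndex_right, relIndex_mul_index inf_le_right]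
    exact index_dvd_of_le inf_le_left
  have h3 : B.index ∣ B.relIndex A := (Nat.Coprime.dvd_of_dvd_mul_right h.symm h2)
  have horb : MulAction.orbit A ((1 : G) : G ⧸ B) = Set.univ := by
    refine Set.eq_of_subset_of_ncard_le (Set.subset_univ _) ?_ (Set.toFinite _)
    rw [Set.ncard_univ, h1, ← index_eq_card]
    exact Nat.le_of_dvd (Nat.pos_of_ne_zero (index_ne_zero_of_finite (H := B.subgroupOf A))) h3
  obtain ⟨a, ha⟩ : ((g : G) : G ⧸ B) ∈ MulAction.orbit A ((1 : G) : G ⧸ B) := by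
    rw [horb]; trivial
  have ha' : (((a : G) * 1 : G) : G ⧸ B) = (g : G ⧸ B) := ha
  rw [mul_one, QuotientGroup.eq] at ha'
  exact ⟨a, a.2, _, ha', by group⟩

/-! ### The subgroups `M` and `W` -/

/-- The elements with a class size coprime to the largest one. -/
def xset (y : G) : Set G := {x | (cidx x).Coprime (cidx y)}

def mgens (y : G) : Set G := {t | ∃ x ∈ xset y, ∃ g : G, t = x⁻¹ * (g * x * g⁻¹)}

def msub (y : G) : Subgroup G := closure (mgens y)

def wsub (y : G) : Subgroup G := closure (xset y)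

theorem conj_mem_xset {y x : G} (g : G) (hx : x ∈ xset y) : g * x * g⁻¹ ∈ xset y := by
  show (cidx _).Coprime _
  rw [cidx_conj]; exact hx

theorem center_le_wsub (y : G) : center G ≤ wsub y := fun x hx =>
  subset_closure (show (cidx x).Coprime (cidx y) by
    rw [cidx_of_mem_center hx]; exact Nat.coprime_one_left _)

theorem normal_of_gens {s : Set G} (h : ∀ x ∈ s, ∀ g : G, g * x * g⁻¹ ∈ s) : (closure s).Normal := by
  constructor
  intro n hn g
  have hle : closure s ≤ (closure s).comap (MulAut.conj g).toMonoidHom := by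
    rw [closure_le]
    intro x hx
    exact subset_closure (h x hx g)
  exact hle hn

instance msub_normal (y : G) : (msub y).Normal := normal_of_gens (by
  rintro t ⟨x, hx, g, rfl⟩ h
  exact ⟨h * x * h⁻¹, conj_mem_xset h hx, h * g * h⁻¹, by group⟩)

instance wsub_normal (y : G) : (wsub y).Normal :=
  normal_of_gens fun _ hx g => conj_mem_xset g hx

variable {y : G} (hy : IsTop y)

include hy in
theorem msub_card_dvd : Nat.card (msub y) ∣ cidx y := by
  classical
  set L : Set G := (ConjClasses.mk y).carrier with hL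
  have hLc : L.ncard = cidx y := PGroup.ncard_carrier_eq_index y
  have hgen : ∀ t ∈ mgens y, t • L = L := by
    rintro t ⟨x, hx, g, rfl⟩
    set T : Set G := (ConjClasses.mk (x * y)).carrier with hT
    have hTc : T.ncard = cidx (x * y) := PGroup.ncard_carrier_eq_index _
    have hsub : x • L ⊆ T := by
      rintro _ ⟨z, hz, rfl⟩
      obtain ⟨h, rfl⟩ := isConj_iff.1 (ConjClasses.mk_eq_mk_iff_isConj.1
        (ConjClasses.mem_carrier_iff_mk_eq.1 hz).symm)
      obtain ⟨a, ha, b, hb, rfl⟩ := exists_mul_of_coprime (x := x) (y := y) hx h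
      rw [hT, ConjClasses.mem_carrier_iff_mk_eq, ConjClasses.mk_eq_mk_iff_isConj]
      refine (isConj_iff.2 ⟨a, ?_⟩ : IsConj (x * y) _).symm
      have hb' : b * y * b⁻¹ = y := mul_inv_eq_iff_eq_mul.2 (mem_centralizer_singleton_iff.1 hb)
      have ha' : a * x * a⁻¹ = x := mul_inv_eq_iff_eq_mul.2 (mem_centralizer_singleton_iff.1 ha)
      show a * (x * y) * a⁻¹ = x * (a * b * y * (a * b)⁻¹)
      calc a * (x * y) * a⁻¹ = (a * x * a⁻¹) * (a * y * a⁻¹) := by group
        _ = x * (a * (b * y * b⁻¹) * a⁻¹) := by rw [ha', hb']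
        _ = x * (a * b * y * (a * b)⁻¹) := by group
    have heq : x • L = T := Set.eq_of_subset_of_ncard_le hsub (by
      rw [hTc, Set.ncard_smul_set, hLc]; exact hy _) (Set.toFinite _)
    have heq' : (g * x * g⁻¹) • L = T := by
      ext z
      have hconj : ∀ (h : G) (S : ConjClasses G) (w : G),
          h * w * h⁻¹ ∈ S.carrier ↔ w ∈ S.carrier := by
        intro h S w
        rw [ConjClasses.mem_carrier_iff_mk_eq, ConjClasses.mem_carrier_iff_mk_eq,
          ← ConjClasses.mk_eq_mk_iff_isConj.2 (isConj_iff.2 ⟨h, rfl⟩ : IsConj w (h * w * h⁻¹))]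
      rw [Set.mem_smul_set_iff_inv_smul_mem, ← hconj g⁻¹ (ConjClasses.mk y), inv_inv,
        ← hconj g⁻¹ (ConjClasses.mk (x * y)) z, inv_inv, ← hT, ← heq,
        Set.mem_smul_set_iff_inv_smul_mem, smul_eq_mul, smul_eq_mul]
      simp [mul_assoc, hL]
    rw [mul_smul, heq', ← heq, inv_smul_smul]
  have hle : msub y ≤ MulAction.stabilizer G L := by
    rw [msub, closure_le]
    exact fun t ht => hgen t ht
  refine (card_dvd_of_le hle).trans ?_
  set St := MulAction.stabilizer G L
  letI act : MulAction St L :=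
    { smul := fun t z => ⟨(t : G) * z.1, by
        have h := t.2
        rw [MulAction.mem_stabilizer_iff] at h
        exact h.subset (Set.smul_mem_smul_set z.2)⟩
      one_smul := fun z => Subtype.ext (one_mul _)
      mul_smul := fun s t z => Subtype.ext (mul_assoc _ _ _) }
  have hfree : ∀ z : L, MulAction.stabilizer St z = ⊥ := fun z => (eq_bot_iff_forall _).2
    fun t ht => Subtype.ext (mul_eq_right.1 (congrArg Subtype.val (MulAction.mem_stabilizer_iff.1 ht)))
  have h1 := Nat.card_congr (MulAction.selfEquivOrbitsQuotientProd hfree)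
  rw [Nat.card_prod, Nat.card_coe_set_eq, hLc] at h1
  rw [h1]
  exact dvd_mul_left _ _

theorem conj_div_mem_msub {w : G} (hw : w ∈ wsub y) (g : G) : g * w * g⁻¹ * w⁻¹ ∈ msub y := by
  have hle : wsub y ≤ (center (G ⧸ msub y)).comap (QuotientGroup.mk' (msub y)) := by
    rw [wsub, closure_le]
    intro x hx
    refine mem_center_iff.2 fun q => ?_
    obtain ⟨g, rfl⟩ := QuotientGroup.mk'_surjective (msub y) q
    have h : x⁻¹ * (g * x * g⁻¹) ∈ msub y := subset_closure ⟨x, hx, g, rfl⟩
    have h' : (QuotientGroup.mk' (msub y)) (x⁻¹ * (g * x * g⁻¹)) = 1 := (QuotientGroup.eq_one_iff _).2 h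
    rw [map_mul, map_mul, map_mul, map_inv, map_inv, inv_mul_eq_one, eq_mul_inv_iff_mul_eq] at h'
    exact h'.symm
  have h := mem_center_iff.1 (hle hw) (QuotientGroup.mk' (msub y) g)
  refine (QuotientGroup.eq_one_iff _).1 ?_
  show QuotientGroup.mk' (msub y) (g * w * g⁻¹ * w⁻¹) = 1
  rw [map_mul, map_mul, map_mul, map_inv, map_inv, h, mul_inv_cancel_right, mul_inv_cancel]

include hy in
theorem msub_centralizes {x : G} (hx : x ∈ xset y) : msub y ≤ centralizer ({x} : Set G) := by
  rw [← relIndex_eq_one]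
  exact Nat.eq_one_of_dvd_coprimes hx (PGroup.relIndex_dvd_index_normal_right _ (msub y))
    ((relIndex_dvd_card _ _).trans (msub_card_dvd hy))

include hy in
theorem msub_commute_wsub {t w : G} (ht : t ∈ msub y) (hw : w ∈ wsub y) : Commute t w := by
  have hle : wsub y ≤ centralizer (msub y : Set G) := by
    rw [wsub, closure_le]
    exact fun x hx => mem_centralizer_iff.2 fun u hu =>
      mem_centralizer_singleton_iff.1 (msub_centralizes hy hx hu)
  exact mem_centralizer_iff.1 (hle hw) t ht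

include hy in
theorem wsub_commute {u v : G} (hu : u ∈ wsub y) (hv : v ∈ wsub y) : Commute u v := by
  have key : ∀ x ∈ xset y, wsub y ≤ centralizer ({x} : Set G) := by
    intro x hx
    have hxW : x ∈ wsub y := subset_closure hx
    have hcomm : ∀ w : wsub y, (w : G) * x * (w : G)⁻¹ * x⁻¹ ∈ msub y := fun w =>
      conj_div_mem_msub hxW w
    let φ : wsub y →* msub y :=
      MonoidHom.mk' (fun w => ⟨(w : G) * x * (w : G)⁻¹ * x⁻¹, hcomm w⟩) fun a b => Subtype.ext (by
        have h1 := (msub_commute_wsub hy (hcomm b) a.2).eq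
        have h2 := (msub_commute_wsub hy (hcomm a) ((wsub y).mul_mem
          ((wsub y).mul_mem ((wsub y).mul_mem b.2 hxW) ((wsub y).inv_mem b.2)) ((wsub y).inv_mem hxW))).eq
        show ((a * b : wsub y) : G) * x * ((a * b : wsub y) : G)⁻¹ * x⁻¹ =
          ((a : G) * x * (a : G)⁻¹ * x⁻¹) * ((b : G) * x * (b : G)⁻¹ * x⁻¹)
        rw [coe_mul, h2]
        calc (a : G) * b * x * ((a : G) * b)⁻¹ * x⁻¹
            = (a : G) * ((b : G) * x * (b : G)⁻¹ * x⁻¹) * (x * (a : G)⁻¹ * x⁻¹) := by group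
          _ = ((b : G) * x * (b : G)⁻¹ * x⁻¹) * (a : G) * (x * (a : G)⁻¹ * x⁻¹) := by rw [h1]
          _ = _ := by group)
    have hker : φ.ker = (centralizer ({x} : Set G)).subgroupOf (wsub y) := by
      ext w
      rw [MonoidHom.mem_ker, mem_subgroupOf, mem_centralizer_singleton_iff, Subtype.ext_iff]
      show (w : G) * x * (w : G)⁻¹ * x⁻¹ = 1 ↔ _
      rw [mul_inv_eq_one, mul_inv_eq_iff_eq_mul]
    rw [← relIndex_eq_one]
    refine Nat.eq_one_of_dvd_coprimes hx (PGroup.relIndex_dvd_index_normal_right _ (wsub y))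
      (dvd_trans ?_ (msub_card_dvd hy))
    rw [relIndex, ← hker, index_ker]
    exact card_subgroup_dvd_card _
  have hle : wsub y ≤ centralizer (wsub y : Set G) := by
    conv_lhs => rw [wsub]
    rw [closure_le]
    exact fun x hx => mem_centralizer_iff.2 fun w hw =>
      mem_centralizer_singleton_iff.1 (key x hx hw)
  exact mem_centralizer_iff.1 (hle hv) u hu

theorem mem_msub_le_wsub : msub y ≤ wsub y := by
  rw [msub, closure_le]
  rintro t ⟨x, hx, g, rfl⟩
  exact (wsub y).mul_mem ((wsub y).inv_mem (subset_closure hx)) (subset_closure (conj_mem_xset g hx))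

/-! ### Remote primes -/

/-- Every class size divisible by `p` is coprime to the largest one. -/
def Remote (y : G) (p : ℕ) : Prop := ∀ g : G, p ∣ cidx g → (cidx g).Coprime (cidx y)

section Remote

variable {p : ℕ} [hp : Fact p.Prime] (hR : Remote y p) (P : Sylow p G)

include hR in
theorem not_dvd_top : ¬ p ∣ cidx y := fun h =>
  hp.out.not_dvd_one (Nat.Coprime.eq_one_of_dvd (Nat.Coprime.coprime_dvd_left h (hR y h)) h ▸ dvd_rfl)

include hR in
theorem sup_centralizer_eq_top : wsub y ⊔ centralizer ((P : Subgroup G) : Set G) = ⊤ := by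
  refine PGroup.eq_top_of_forall_conj_mem _ fun g => ?_
  by_cases h : p ∣ cidx g
  · exact ⟨1, by simpa using (le_sup_left : wsub y ≤ _) (subset_closure (hR g h))⟩
  · obtain ⟨c, hc⟩ := exists_conj_centralizes P h
    exact ⟨c, (le_sup_right : _ ≤ wsub y ⊔ centralizer ((P : Subgroup G) : Set G)) hc⟩

/-- `C_W(P)`. -/
def cw (y : G) (P : Sylow p G) : Subgroup G := wsub y ⊓ centralizer ((P : Subgroup G) : Set G)

/-- `[M, P]`. -/
def qsub (y : G) (P : Sylow p G) : Subgroup G := ⁅msub y, (P : Subgroup G)⁆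

theorem qsub_le_msub : qsub y P ≤ msub y := commutator_le_left _ _

theorem qsub_le_wsub : qsub y P ≤ wsub y := (qsub_le_msub P).trans mem_msub_le_wsub

include hy hR in
theorem coprime_card : (Nat.card (P : Subgroup G)).Coprime (Nat.card (msub y)) := by
  obtain ⟨k, hk⟩ := P.isPGroup'.exists_card_eq
  rw [hk]
  exact Nat.Coprime.pow_left k ((hp.out.coprime_iff_not_dvd).2 fun h =>
    not_dvd_top hR (h.trans (msub_card_dvd hy)))

include hy in
theorem msub_isMulCommutative : IsMulCommutative (msub y) :=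
  ⟨⟨fun a b => Subtype.ext (wsub_commute hy (mem_msub_le_wsub a.2) (mem_msub_le_wsub b.2)).eq⟩⟩

include hy hR in
theorem cw_inf_qsub {w : G} (h1 : w ∈ cw y P) (h2 : w ∈ qsub y P) : w = 1 := by
  have h := Coprime.centralizer_inf_commutator_eq_bot (A := (P : Subgroup G))
    (msub_isMulCommutative hy) (by rw [normalizer_eq_top]; exact le_top) (coprime_card hy hR P)
  exact (eq_bot_iff_forall _).1 h w ⟨⟨qsub_le_msub P h2, h1.2⟩, h2⟩

include hy hR in
theorem exists_decomp {w : G} (hw : w ∈ wsub y) : ∃ c ∈ cw y P, ∃ q ∈ qsub y P, w = c * q := by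
  have hn : (P : Subgroup G) ≤ normalizer (msub y : Set G) := by
    rw [normalizer_eq_top]; exact le_top
  have hsol : Group.IsSolvable (P : Subgroup G) ∨ Group.IsSolvable (msub y) := Or.inr
    (Coprime.isSolvable_of_isMulCommutative (msub_isMulCommutative hy))
  obtain ⟨n, hn', hc⟩ := Coprime.exists_fixed_in_coset hn (coprime_card hy hR P) hsol (k := w)
    (by rw [normalizer_eq_top]; exact mem_top _) (fun a _ => conj_div_mem_msub hw a)
  have hd := Coprime.commutator_sup_centralizer hn (coprime_card hy hR P) hsol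
  have hn2 : n⁻¹ ∈ (msub y ⊓ centralizer ((P : Subgroup G) : Set G)) ⊔ qsub y P := by
    rw [sup_comm, qsub, hd]; exact inv_mem hn'
  obtain ⟨c, hc', q, hq, hcq⟩ := Coprime.mem_sup_exists (fun z hz => by
    rw [mem_normalizer_iff]
    intro u
    have : ∀ v ∈ msub y ⊓ centralizer ((P : Subgroup G) : Set G), z * v * z⁻¹ = v := fun v hv =>
      mul_inv_eq_iff_eq_mul.2 (wsub_commute hy (qsub_le_wsub P hz) (mem_msub_le_wsub hv.1)).eq
    refine ⟨fun hu => by rw [this u hu]; exact hu, fun hu => ?_⟩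
    have h2 := this _ hu
    have h3 : z * u * z⁻¹ = u := by
      have := congrArg (fun t => z⁻¹ * t * z) h2
      simpa [mul_assoc] using this
    rwa [h3] at hu) hn2
  refine ⟨w * n * c, ⟨(wsub y).mul_mem ((wsub y).mul_mem hw (mem_msub_le_wsub hn')) (mem_msub_le_wsub hc'.1),
    mul_mem hc hc'.2⟩, q, hq, ?_⟩
  rw [mul_assoc, hcq]; group

include hy hR in
theorem conj_stable {H : Subgroup G} (hW : H ≤ wsub y)
    (hC : ∀ c ∈ centralizer ((P : Subgroup G) : Set G), ∀ u ∈ H, c * u * c⁻¹ ∈ H) : H.Normal := by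
  constructor
  intro u hu g
  obtain ⟨w, hw, c, hc, rfl⟩ := Coprime.mem_sup_exists
    (show centralizer ((P : Subgroup G) : Set G) ≤ normalizer (wsub y : Set G) by
      rw [normalizer_eq_top]; exact le_top) (show g ∈ wsub y ⊔ _ by
      rw [sup_centralizer_eq_top hR P]; exact mem_top g)
  have h := hC c hc u hu
  rw [show w * c * u * (w * c)⁻¹ = w * (c * u * c⁻¹) * w⁻¹ by group, (wsub_commute hy hw (hW h)).eq,
    mul_inv_cancel_right]
  exact h

include hy hR in
theorem cw_normal : (cw y P).Normal := conj_stable hy hR P inf_le_left fun c hc u hu =>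
  ⟨Normal.conj_mem inferInstance u hu.1 c, (centralizer ((P : Subgroup G) : Set G)).mul_mem
    ((centralizer ((P : Subgroup G) : Set G)).mul_mem hc hu.2) ((centralizer ((P : Subgroup G) : Set G)).inv_mem hc)⟩

include hy hR in
theorem qsub_normal : (qsub y P).Normal := by
  refine conj_stable hy hR P (qsub_le_wsub P) fun c hc u hu => ?_
  have hle : qsub y P ≤ (qsub y P).comap (MulAut.conj c).toMonoidHom := by
    rw [qsub, commutator_le]
    intro a ha b hb
    rw [mem_comap, map_commutatorElement]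
    refine commutator_mem_commutator (Normal.conj_mem inferInstance a ha c) ?_
    show c * b * c⁻¹ ∈ _
    rw [← mem_centralizer_iff.1 hc b hb, mul_inv_cancel_right]
    exact hb
  exact hle hu

include hy hR in
theorem mem_cw_of_not_dvd {w : G} (hw : w ∈ wsub y) (h : ¬ p ∣ cidx w) : w ∈ cw y P := by
  obtain ⟨g, hg⟩ := exists_conj_centralizes P h
  have h1 : g⁻¹ * w * g ∈ cw y P := ⟨by simpa using Normal.conj_mem inferInstance w hw g⁻¹, hg⟩
  have h2 := (cw_normal hy hR P).conj_mem _ h1 g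
  simpa [mul_assoc] using h2

theorem not_dvd_of_mem_cw {w : G} (hw : w ∈ cw y P) : ¬ p ∣ cidx w := fun h =>
  P.not_dvd_index (h.trans (index_dvd_of_le fun t ht =>
    mem_centralizer_singleton_iff.2 (mem_centralizer_iff.1 hw.2 t ht)))

include hy hR in
theorem dvd_cidx_of_mem_qsub {q : G} (hq : q ∈ qsub y P) (hq1 : q ≠ 1) : p ∣ cidx q := by
  by_contra h
  exact hq1 (cw_inf_qsub hy hR P (mem_cw_of_not_dvd hy hR P (qsub_le_wsub P hq) h) hq)

include hy hR in
theorem centralizer_decomp {c q : G} (hc : c ∈ cw y P) (hq : q ∈ qsub y P) :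
    centralizer ({c * q} : Set G) ≤ centralizer ({c} : Set G) ⊓ centralizer ({q} : Set G) := by
  intro g hg
  rw [mem_centralizer_singleton_iff] at hg
  have h1 := (cw_normal hy hR P).conj_mem c hc g
  have h2 := (qsub_normal hy hR P).conj_mem q hq g
  have e : (g * c * g⁻¹) * (g * q * g⁻¹) = c * q := by
    rw [show (g * c * g⁻¹) * (g * q * g⁻¹) = g * (c * q) * g⁻¹ by group, hg, mul_inv_cancel_right]
  have e2 : c⁻¹ * (g * c * g⁻¹) = q * (g * q * g⁻¹)⁻¹ := by
    rw [eq_mul_inv_iff_mul_eq, mul_assoc, e, inv_mul_cancel_left]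
  have e3 : c⁻¹ * (g * c * g⁻¹) = 1 := cw_inf_qsub hy hR P
    ((cw y P).mul_mem ((cw y P).inv_mem hc) h1)
    (e2 ▸ (qsub y P).mul_mem hq ((qsub y P).inv_mem h2))
  rw [e3] at e2
  exact ⟨mem_centralizer_singleton_iff.2 (mul_inv_eq_iff_eq_mul.1 (inv_mul_eq_one.1 e3).symm),
    mem_centralizer_singleton_iff.2 (mul_inv_eq_iff_eq_mul.1 (mul_inv_eq_one.1 e2.symm).symm)⟩

include hy hR in
theorem exists_qsub_ne_one (hex : ∃ x : G, p ∣ cidx x) : ∃ q ∈ qsub y P, q ≠ 1 := by
  obtain ⟨x, hx⟩ := hex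
  obtain ⟨c, hc, q, hq, rfl⟩ := exists_decomp hy hR P (subset_closure (hR x hx))
  refine ⟨q, hq, fun h => not_dvd_of_mem_cw P hc ?_⟩
  rwa [h, mul_one] at hx

include hy hR in
/-- A remote prime is adjacent to every prime of every class size coprime to the largest. -/
theorem exists_mul_dvd (hex : ∃ x : G, p ∣ cidx x) {s : ℕ} (hs : s.Prime) (hps : p ≠ s) {x : G}
    (hx : x ∈ xset y) (hsx : s ∣ cidx x) : ∃ z : G, p * s ∣ cidx z := by
  obtain ⟨P⟩ : Nonempty (Sylow p G) := inferInstance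
  have hco : p.Coprime s := (Nat.coprime_primes hp.out hs).2 hps
  by_cases hpx : p ∣ cidx x
  · exact ⟨x, hco.mul_dvd_of_dvd_of_dvd hpx hsx⟩
  · obtain ⟨q, hq, hq1⟩ := exists_qsub_ne_one hy hR P hex
    have hxc := mem_cw_of_not_dvd hy hR P (subset_closure hx) hpx
    have hle := centralizer_decomp hy hR P hxc hq
    exact ⟨x * q, hco.mul_dvd_of_dvd_of_dvd
      ((dvd_cidx_of_mem_qsub hy hR P hq hq1).trans (index_dvd_of_le (hle.trans inf_le_right)))
      (hsx.trans (index_dvd_of_le (hle.trans inf_le_left)))⟩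

include hy hR in
/-- If `P` centralises `f` and `p` does not divide the class size of `f * v`, then `v` is a
commutator with `f`. -/
theorem exists_commutator {f v : G} (hf : f ∈ centralizer ((P : Subgroup G) : Set G))
    (hv : v ∈ qsub y P) (h : ¬ p ∣ cidx (f * v)) :
    ∃ q ∈ qsub y P, f⁻¹ * q⁻¹ * f * q * v = 1 := by
  obtain ⟨g, hg⟩ := exists_conj_centralizes P h
  obtain ⟨u, hu, k, hk, rfl⟩ := Coprime.mem_sup_exists
    (show centralizer ((P : Subgroup G) : Set G) ≤ normalizer (wsub y : Set G) by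
      rw [normalizer_eq_top]; exact le_top) (show g ∈ wsub y ⊔ _ by
      rw [sup_centralizer_eq_top hR P]; exact mem_top g)
  have hz : u⁻¹ * (f * v) * u ∈ centralizer ((P : Subgroup G) : Set G) := by
    have := mul_mem (mul_mem hk hg) (inv_mem hk)
    simpa [mul_assoc] using this
  have hcomm : v * u = u * v := (wsub_commute hy (qsub_le_wsub P hv) hu).eq
  have hmem : f⁻¹ * u⁻¹ * f * u * v ∈ cw y P := by
    refine ⟨(wsub y).mul_mem ((wsub y).mul_mem ?_ hu) (qsub_le_wsub P hv), ?_⟩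
    · simpa using Normal.conj_mem inferInstance _ ((wsub y).inv_mem hu) f⁻¹
    · have := mul_mem (inv_mem hf) hz
      rwa [show f⁻¹ * (u⁻¹ * (f * v) * u) = f⁻¹ * u⁻¹ * f * (v * u) by group, hcomm,
        show f⁻¹ * u⁻¹ * f * (u * v) = f⁻¹ * u⁻¹ * f * u * v by group] at this
  obtain ⟨c, hc, q, hq, rfl⟩ := exists_decomp hy hR P hu
  refine ⟨q, hq, cw_inf_qsub hy hR P ?_ ?_⟩
  · have h1 : f⁻¹ * c⁻¹ * f * c ∈ cw y P := by
      refine (cw y P).mul_mem ?_ hc
      simpa using (cw_normal hy hR P).conj_mem _ ((cw y P).inv_mem hc) f⁻¹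
    have hfq : f⁻¹ * q⁻¹ * f ∈ wsub y := by
      simpa using Normal.conj_mem inferInstance _ ((wsub y).inv_mem (qsub_le_wsub P hq)) f⁻¹
    have := (cw y P).mul_mem ((cw y P).inv_mem h1) hmem
    have hA := (wsub_commute hy hfq (show f⁻¹ * c⁻¹ * f * c ∈ wsub y from h1.1)).eq
    have e : f⁻¹ * (c * q)⁻¹ * f * (c * q) * v = (f⁻¹ * c⁻¹ * f * c) * (f⁻¹ * q⁻¹ * f * q * v) := by
      calc f⁻¹ * (c * q)⁻¹ * f * (c * q) * v
          = ((f⁻¹ * q⁻¹ * f) * (f⁻¹ * c⁻¹ * f * c)) * q * v := by group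
        _ = ((f⁻¹ * c⁻¹ * f * c) * (f⁻¹ * q⁻¹ * f)) * q * v := by rw [hA]
        _ = _ := by group
    rwa [e, inv_mul_cancel_left] at this
  · refine (qsub y P).mul_mem ((qsub y P).mul_mem ?_ hq) hv
    simpa using (qsub_normal hy hR P).conj_mem _ ((qsub y P).inv_mem hq) f⁻¹

include hy hR in
/-- The primes of `[M, P]` divide every class size that is not coprime to the largest. -/
theorem prime_qsub_dvd {t : ℕ} (ht : t.Prime) (htq : t ∣ Nat.card (qsub y P)) {f : G}
    (hf : f ∉ xset y) : t ∣ cidx f := by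
  haveI := Fact.mk ht
  by_contra htf
  have hfp : ¬ p ∣ cidx f := fun h => hf (hR f h)
  obtain ⟨g, hg⟩ := exists_conj_centralizes P hfp
  set f₀ := g⁻¹ * f * g with hf₀
  have hc0 : cidx f₀ = cidx f := by
    rw [hf₀]; simpa using cidx_conj g⁻¹ f
  obtain ⟨T⟩ : Nonempty (Sylow t G) := inferInstance
  obtain ⟨e, he⟩ := exists_conj_centralizes T (hc0.symm ▸ htf : ¬ t ∣ cidx f₀)
  let A : Subgroup G :=
    { carrier := {a | a ∈ qsub y P ∧ ∃ k : ℕ, a ^ t ^ k = 1}
      mul_mem' := fun {a b} ⟨ha, i, hi⟩ ⟨hb, j, hj⟩ => ⟨(qsub y P).mul_mem ha hb, i + j, by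
        rw [(wsub_commute hy (qsub_le_wsub P ha) (qsub_le_wsub P hb)).mul_pow, pow_add]
        rw [show a ^ (t ^ i * t ^ j) = 1 by rw [pow_mul, hi, one_pow],
          show b ^ (t ^ i * t ^ j) = 1 by rw [mul_comm, pow_mul, hj, one_pow], one_mul]⟩
      one_mem' := ⟨(qsub y P).one_mem, 0, by simp⟩
      inv_mem' := fun {a} ⟨ha, i, hi⟩ => ⟨(qsub y P).inv_mem ha, i, by rw [inv_pow, hi, inv_one]⟩ }
  have hAp : IsPGroup t A := fun a => by
    obtain ⟨-, k, hk⟩ := a.2
    exact ⟨k, Subtype.ext hk⟩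
  have hAT : ∀ a ∈ A, a ∈ (T : Subgroup G) := by
    intro a ha
    obtain ⟨T', hT'⟩ := hAp.exists_le_sylow
    obtain ⟨b, hb⟩ := MulAction.exists_smul_eq G T' T
    have hb' : b⁻¹ * a * b ∈ (T' : Subgroup G) := hT' ⟨by
        simpa using (qsub_normal hy hR P).conj_mem a ha.1 b⁻¹, by
      obtain ⟨-, k, hk⟩ := ha
      refine ⟨k, ?_⟩
      have := (MulAut.conj b⁻¹).toMonoidHom.map_pow a (t ^ k)
      rw [hk, map_one] at this
      simpa [MulAut.conj_apply, inv_inv, MulEquiv.coe_toMonoidHom] using this.symm⟩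
    rw [← hb, Sylow.coe_subgroup_smul]
    have := smul_mem_pointwise_smul _ (MulAut.conj b) _ hb'
    simpa [MulAut.conj_apply, mul_assoc] using this
  have hcent : ∀ a ∈ A, f₀ * a = a * f₀ := by
    intro a ha
    have h1 : e⁻¹ * a * e ∈ (T : Subgroup G) := hAT _ ⟨by
        simpa using (qsub_normal hy hR P).conj_mem a ha.1 e⁻¹, by
      obtain ⟨-, k, hk⟩ := ha
      refine ⟨k, ?_⟩
      have := (MulAut.conj e⁻¹).toMonoidHom.map_pow a (t ^ k)
      rw [hk, map_one] at this
      simpa [MulAut.conj_apply, inv_inv, MulEquiv.coe_toMonoidHom] using this.symm⟩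
    have h2 := mem_centralizer_iff.1 he _ h1
    calc f₀ * a = e * ((e⁻¹ * f₀ * e) * (e⁻¹ * a * e)) * e⁻¹ := by group
      _ = e * ((e⁻¹ * a * e) * (e⁻¹ * f₀ * e)) * e⁻¹ := by rw [h2]
      _ = a * f₀ := by group
  obtain ⟨v, hv⟩ := exists_prime_orderOf_dvd_card' t htq
  have hv' : orderOf (v : G) = t := by rw [orderOf_coe, hv]
  by_cases hpz : p ∣ cidx (f₀ * (v : G))
  · have hzW : f₀ * (v : G) ∈ wsub y := subset_closure (hR _ hpz)
    have hf₀W : f₀ ∈ wsub y := by
      have := (wsub y).mul_mem hzW ((wsub y).inv_mem (qsub_le_wsub P v.2))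
      simpa using this
    have hle := centralizer_decomp hy hR P (show f₀ ∈ cw y P from ⟨hf₀W, hg⟩) v.2
    refine hf ?_
    have := Nat.Coprime.coprime_dvd_left (index_dvd_of_le (hle.trans inf_le_left)) (hR _ hpz)
    show (cidx f).Coprime _
    rw [← hc0]; exact this
  · obtain ⟨q, hq, hqv⟩ := exists_commutator hy hR P hg v.2 hpz
    obtain ⟨n, k, hnk, hn⟩ : ∃ n k : ℕ, Nat.card (qsub y P) = t ^ k * n ∧ ¬ t ∣ n :=
      ⟨_, _, (Nat.ordProj_mul_ordCompl_eq_self _ t).symm, Nat.not_dvd_ordCompl ht Nat.card_pos.ne'⟩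
    have hqn : f₀ * q ^ n = q ^ n * f₀ := hcent _ ⟨(qsub y P).pow_mem hq n, k, by
      rw [← pow_mul, mul_comm, ← hnk]
      exact congrArg Subtype.val (pow_card_eq_one' (x := (⟨q, hq⟩ : qsub y P)))⟩
    have hfq : f₀⁻¹ * q⁻¹ * f₀ ∈ qsub y P := by
      simpa using (qsub_normal hy hR P).conj_mem _ ((qsub y P).inv_mem hq) f₀⁻¹
    have hc1 : Commute (f₀⁻¹ * q⁻¹ * f₀) q := wsub_commute hy (qsub_le_wsub P hfq) (qsub_le_wsub P hq)
    have hpow : (f₀⁻¹ * q⁻¹ * f₀ * q) ^ n = 1 := by
      have hcp : (f₀⁻¹ * q⁻¹ * f₀) ^ n = f₀⁻¹ * (q ^ n)⁻¹ * f₀ := by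
        have := (MulAut.conj f₀⁻¹).toMonoidHom.map_pow q⁻¹ n |>.symm
        simpa [MulAut.conj_apply, inv_pow] using this
      rw [hc1.mul_pow, hcp, mul_assoc, hqn, ← mul_assoc, mul_assoc _ (q ^ n)⁻¹, inv_mul_cancel, mul_one,
        inv_mul_cancel]
    have hvn : (v : G) ^ n = 1 := by
      rw [show (v : G) = (f₀⁻¹ * q⁻¹ * f₀ * q)⁻¹ from eq_inv_of_mul_eq_one_right hqv, inv_pow, hpow,
        inv_one]
    exact hn (hv' ▸ orderOf_dvd_of_pow_eq_one hvn)

end Remote

end CfsgLib.ClassGraph
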