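import Cfsg.Agent.Lib.PGroup.ClassGraph
import Cfsg.Agent.Lib.Coprime.Frobenius

/-!
A disconnected class size graph makes the central quotient a Frobenius group with abelian kernel
and complement.
-/

set_option autoImplicit false
set_option linter.style.haveILetI false
set_option linter.unusedSectionVars false

namespace CfsgLib.ClassGraph

open Subgroup
open scoped Pointwise

variable {G : Type*} [Group G] [Finite G]

/-- `S` is a union of components of the class size graph avoiding the largest class size. -/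
structure Sep (y : G) (S : Set ℕ) : Prop where
  top : IsTop y
  closed : ∀ (g : G) (a b : ℕ), a.Prime → b.Prime → a ∣ cidx g → b ∣ cidx g → a ∈ S → b ∈ S
  avoid : ∀ a : ℕ, a.Prime → a ∣ cidx y → a ∉ S
  nonempty : ∃ a : ℕ, a.Prime ∧ a ∈ S ∧ ∃ g : G, a ∣ cidx g

variable {y : G} {S : Set ℕ} (h : Sep y S)

include h in
theorem Sep.remote {a : ℕ} (ha : a.Prime) (haS : a ∈ S) : Remote y a := fun g hg =>
  Nat.coprime_of_dvd' fun k hk h1 h2 => absurd (h.closed g a k ha hk hg h1 haS) (h.avoid k hk h2)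

include h in
theorem Sep.mem_of_dvd {x : G} (hx : x ∈ xset y) {s : ℕ} (hs : s.Prime) (hsx : s ∣ cidx x) : s ∈ S := by
  obtain ⟨a, ha, haS, hag⟩ := h.nonempty
  haveI := Fact.mk ha
  rcases eq_or_ne a s with rfl | hne
  · exact haS
  obtain ⟨z, hz⟩ := exists_mul_dvd h.top (h.remote ha haS) hag hs hne hx hsx
  exact h.closed z a s ha hs ((dvd_mul_right a s).trans hz) ((dvd_mul_left s a).trans hz) haS

/-- The preimage of the centre of `G / C(W)`. -/
def zsub (y : G) : Subgroup G :=
  (center (G ⧸ centralizer (wsub y : Set G))).comap (QuotientGroup.mk' _)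

theorem centralizer_le_zsub : centralizer (wsub y : Set G) ≤ zsub y := fun g hg => by
  rw [zsub, mem_comap, QuotientGroup.mk'_apply, (QuotientGroup.eq_one_iff g).2 hg]
  exact (center _).one_mem

include h in
theorem Sep.sylow_le_zsub {r : ℕ} [hr : Fact r.Prime] (hrS : r ∈ S) (R : Sylow r G) :
    (R : Subgroup G) ≤ zsub y := by
  intro t ht
  rw [zsub, mem_comap, mem_center_iff]
  intro q
  obtain ⟨g, rfl⟩ := QuotientGroup.mk'_surjective _ q
  obtain ⟨w, hw, c, hc, rfl⟩ := Coprime.mem_sup_exists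
    (show centralizer ((R : Subgroup G) : Set G) ≤ normalizer (wsub y : Set G) by
      rw [normalizer_eq_top]; exact le_top) (show g ∈ wsub y ⊔ _ by
      rw [sup_centralizer_eq_top (h.remote hr.out hrS) R]; exact mem_top g)
  have hw1 : QuotientGroup.mk' (centralizer (wsub y : Set G)) w = 1 := (QuotientGroup.eq_one_iff w).2
    (mem_centralizer_iff.2 fun u hu => (wsub_commute h.top hu hw).eq)
  rw [map_mul, hw1, one_mul, ← map_mul, ← map_mul, mem_centralizer_iff.1 hc t ht]

include h in
theorem Sep.sylow_le_centralizer {r : ℕ} [hr : Fact r.Prime] (hrS : r ∈ S → ∀ g : G, ¬ r ∣ cidx g)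
    (R : Sylow r G) : (R : Subgroup G) ≤ centralizer (wsub y : Set G) := by
  intro t ht
  have key : ∀ x ∈ xset y, t ∈ centralizer ({x} : Set G) := by
    intro x hx
    set C := centralizer ({x} : Set G) with hC
    have hCW : centralizer (wsub y : Set G) ≤ C :=
      Subgroup.centralizer_le (Set.singleton_subset_iff.2 (subset_closure hx))
    have htop : C ⊔ zsub y = ⊤ := by
      rw [← index_eq_one]
      by_contra hne
      obtain ⟨s, hs, hsd⟩ := Nat.exists_prime_and_dvd hne
      haveI := Fact.mk hs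
      have hsC : s ∣ cidx x := hsd.trans (index_dvd_of_le le_sup_left)
      obtain ⟨T⟩ : Nonempty (Sylow s G) := inferInstance
      exact T.not_dvd_index (hsd.trans (index_dvd_of_le
        ((h.sylow_le_zsub (h.mem_of_dvd hx hs hsC) T).trans le_sup_right)))
    haveI : C.Normal := by
      rw [← normalizer_eq_top_iff, eq_top_iff, ← htop]
      refine sup_le le_normalizer fun z hz => ?_
      have key : ∀ z ∈ zsub y, ∀ u ∈ C, z * u * z⁻¹ ∈ C := by
        intro z hz u hu
        rw [zsub, mem_comap, mem_center_iff] at hz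
        have h1 : z * u * z⁻¹ * u⁻¹ ∈ centralizer (wsub y : Set G) := by
          refine (QuotientGroup.eq_one_iff _).1 ?_
          show QuotientGroup.mk' _ (z * u * z⁻¹ * u⁻¹) = 1
          rw [map_mul, map_mul, map_mul, map_inv, map_inv, ← hz, mul_inv_cancel_right, mul_inv_cancel]
        have := C.mul_mem (hCW h1) hu
        simpa using this
      rw [mem_normalizer_iff]
      refine fun u => ⟨key z hz u, fun hu => ?_⟩
      have := key z⁻¹ ((zsub y).inv_mem hz) _ hu
      simpa [mul_assoc] using this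
    have hpow : t ^ C.index ∈ C := pow_index_mem C t
    obtain ⟨k, hk⟩ := IsPGroup.iff_orderOf.1 R.isPGroup' ⟨t, ht⟩
    rw [← orderOf_coe] at hk
    have hco : (orderOf t).Coprime C.index := by
      rw [show orderOf t = r ^ k from hk]
      refine Nat.Coprime.pow_left k (hr.out.coprime_iff_not_dvd.2 fun hd => ?_)
      exact hrS (h.mem_of_dvd hx hr.out hd) x hd
    obtain ⟨e, he⟩ := exists_pow_eq_self_of_coprime hco.symm
    rw [← he]
    exact C.pow_mem hpow e
  have : wsub y ≤ centralizer ({t} : Set G) := by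
    rw [wsub, closure_le]
    exact fun x hx => mem_centralizer_singleton_iff.2 (mem_centralizer_singleton_iff.1 (key x hx)).symm
  exact mem_centralizer_iff.2 fun w hw => mem_centralizer_singleton_iff.1 (this hw)

include h in
theorem Sep.mem_xset {w : G} (hw : w ∈ wsub y) : w ∈ xset y := by
  refine Nat.coprime_of_dvd' fun r hr h1 h2 => absurd h2 fun _ => ?_
  haveI := Fact.mk hr
  obtain ⟨R⟩ : Nonempty (Sylow r G) := inferInstance
  refine R.not_dvd_index (h1.trans (index_dvd_of_le fun t ht => mem_centralizer_singleton_iff.2 ?_))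
  exact (mem_centralizer_iff.1 (h.sylow_le_centralizer (fun hS => absurd hS (h.avoid r hr h2)) R ht) w hw).symm

include h in
theorem Sep.centralizer_wsub : centralizer (wsub y : Set G) = wsub y := by
  refine le_antisymm (fun g hg => ?_) fun w hw =>
    mem_centralizer_iff.2 fun u hu => (wsub_commute h.top hu hw).eq
  by_contra hgW
  obtain ⟨a, ha, haS, hag⟩ := h.nonempty
  haveI := Fact.mk ha
  have hR := h.remote ha haS
  obtain ⟨P⟩ : Nonempty (Sylow a G) := inferInstance
  obtain ⟨c, hc⟩ := exists_conj_centralizes P fun hd => hgW (subset_closure (hR g hd))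
  obtain ⟨v, hv, hv1⟩ := exists_qsub_ne_one h.top hR P hag
  have hg0 : c⁻¹ * g * c ∈ centralizer (wsub y : Set G) := by
    simpa using Normal.conj_mem (inferInstance : (centralizer (wsub y : Set G)).Normal) g hg c⁻¹
  have hnd : ¬ a ∣ cidx (c⁻¹ * g * c * v) := fun hd => by
    refine hgW ?_
    have h1 := (wsub y).mul_mem (subset_closure (hR _ hd)) ((wsub y).inv_mem (qsub_le_wsub P hv))
    rw [mul_inv_cancel_right] at h1
    have := Normal.conj_mem (inferInstance : (wsub y).Normal) _ h1 c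
    simpa [mul_assoc] using this
  obtain ⟨q, hq, e⟩ := exists_commutator h.top hR P hc hv hnd
  set g₀ := c⁻¹ * g * c
  have hq' : q⁻¹ * g₀ = g₀ * q⁻¹ :=
    mem_centralizer_iff.1 hg0 q⁻¹ ((wsub y).inv_mem (qsub_le_wsub P hq))
  rw [mul_assoc g₀⁻¹ q⁻¹, hq', ← mul_assoc, inv_mul_cancel, one_mul, inv_mul_cancel, one_mul] at e
  exact hv1 e

include h in
theorem Sep.prime_index {r : ℕ} (hr : r.Prime) (hd : r ∣ (wsub y).index) : r ∈ S := by
  haveI := Fact.mk hr
  by_contra hrS
  obtain ⟨R⟩ : Nonempty (Sylow r G) := inferInstance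
  refine R.not_dvd_index (hd.trans (index_dvd_of_le ?_))
  rw [← h.centralizer_wsub]
  exact h.sylow_le_centralizer (fun hS => absurd hS hrS) R

include h in
theorem Sep.commutator_mem_wsub (a b : G) : a * b * a⁻¹ * b⁻¹ ∈ wsub y := by
  have htop : zsub y = ⊤ := by
    rw [← index_eq_one]
    by_contra hne
    obtain ⟨r, hr, hd⟩ := Nat.exists_prime_and_dvd hne
    haveI := Fact.mk hr
    obtain ⟨R⟩ : Nonempty (Sylow r G) := inferInstance
    refine R.not_dvd_index (hd.trans (index_dvd_of_le ?_))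
    by_cases hv : r ∈ S
    · exact h.sylow_le_zsub hv R
    · exact (h.sylow_le_centralizer (fun hS => absurd hS hv) R).trans centralizer_le_zsub
  have hb : b ∈ zsub y := by rw [htop]; exact mem_top b
  rw [zsub, mem_comap, mem_center_iff] at hb
  rw [← h.centralizer_wsub]
  refine (QuotientGroup.eq_one_iff _).1 ?_
  show QuotientGroup.mk' _ (a * b * a⁻¹ * b⁻¹) = 1
  rw [map_mul, map_mul, map_mul, map_inv, map_inv, hb, mul_inv_cancel_right, mul_inv_cancel]

include h in
theorem Sep.coprime_index : (wsub y).index.Coprime (cidx y) :=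
  Nat.coprime_of_dvd' fun r hr h1 h2 => absurd (h.prime_index hr h1) (h.avoid r hr h2)

include h in
theorem Sep.eq_one_of_pow {t : G} (ht : t ∈ msub y) (hd : t ^ (wsub y).index = 1) : t = 1 :=
  orderOf_eq_one_iff.1 (Nat.eq_one_of_dvd_coprimes h.coprime_index (orderOf_dvd_of_pow_eq_one hd)
    ((Subgroup.orderOf_dvd_natCard _ ht).trans (msub_card_dvd h.top)))

/-- Iterating a conjugation that multiplies by a fixed element. -/
theorem conj_pow_eq {g a c : G} (hg : g * a * g⁻¹ = c * a) (hgc : Commute g c) (j : ℕ) :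
    g ^ j * a * (g ^ j)⁻¹ = c ^ j * a := by
  induction j with
  | zero => simp
  | succ j ih =>
    calc g ^ (j + 1) * a * (g ^ (j + 1))⁻¹ = g * (g ^ j * a * (g ^ j)⁻¹) * g⁻¹ := by
          rw [pow_succ']; group
      _ = g * c ^ j * a * g⁻¹ := by rw [ih]; group
      _ = c ^ j * g * a * g⁻¹ := by rw [(hgc.pow_right j).eq]
      _ = c ^ j * (g * a * g⁻¹) := by group
      _ = c ^ (j + 1) * a := by rw [hg, pow_succ]; group

include h in
theorem Sep.pow_index_commute (g : G) {a : G} (ha : a ∈ wsub y) :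
    g ^ (wsub y).index * a * (g ^ (wsub y).index)⁻¹ = a :=
  mul_inv_eq_iff_eq_mul.2 (wsub_commute h.top (pow_index_mem (wsub y) g) ha).eq

include h in
/-- Outside `W`, elements act fixed-point-freely on `W` modulo the centre. -/
theorem Sep.mem_center_of_commutator {g w : G} (hg : g ∉ wsub y) (hw : w ∈ wsub y)
    (hc : g * w * g⁻¹ * w⁻¹ ∈ center G) : w ∈ center G := by
  obtain ⟨c, hcd⟩ : ∃ c, c = g * w * g⁻¹ * w⁻¹ := ⟨_, rfl⟩
  have hc1 : c = 1 := by
    have e := conj_pow_eq (g := g) (a := w) (c := c) (by rw [hcd]; group)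
      (mem_center_iff.1 (hcd ▸ hc) g) (wsub y).index
    rw [h.pow_index_commute g hw, eq_comm, mul_eq_right] at e
    exact h.eq_one_of_pow (hcd ▸ conj_div_mem_msub hw g) e
  have hgw : g * w = w * g := by
    rw [hcd, mul_inv_eq_one, mul_inv_eq_iff_eq_mul] at hc1; exact hc1
  by_contra hwZ
  obtain ⟨r, hr, hrd⟩ := Nat.exists_prime_and_dvd (fun e => hwZ (mem_center_of_cidx e))
  haveI := Fact.mk hr
  have hR := h.remote hr (h.mem_of_dvd (h.mem_xset hw) hr hrd)
  obtain ⟨P⟩ : Nonempty (Sylow r G) := inferInstance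
  obtain ⟨u, hu, q, hq, rfl⟩ := exists_decomp h.top hR P hw
  have hq1 : q ≠ 1 := fun e => not_dvd_of_mem_cw P hu (by rwa [e, mul_one] at hrd)
  have hgq : g * q = q * g := mem_centralizer_singleton_iff.1
    (centralizer_decomp h.top hR P hu hq (mem_centralizer_singleton_iff.2 hgw)).2
  obtain ⟨k, hk⟩ := exists_conj_centralizes P fun hd => hg (subset_closure (hR g hd))
  have hq0 : k⁻¹ * q * k ∈ qsub y P := by
    simpa using (qsub_normal h.top hR P).conj_mem q hq k⁻¹
  have hnd : ¬ r ∣ cidx (k⁻¹ * g * k * (k⁻¹ * q * k)) := fun hd => by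
    refine hg ?_
    have h1 := (wsub y).mul_mem (subset_closure (hR _ hd)) ((wsub y).inv_mem (qsub_le_wsub P hq0))
    rw [mul_inv_cancel_right] at h1
    have := Normal.conj_mem (inferInstance : (wsub y).Normal) _ h1 k
    simpa [mul_assoc] using this
  obtain ⟨a, ha, e⟩ := exists_commutator h.top hR P hk hq0 hnd
  have hg0 : Commute (k⁻¹ * g * k)⁻¹ (k⁻¹ * q * k) := by
    refine Commute.inv_left ?_
    show k⁻¹ * g * k * (k⁻¹ * q * k) = k⁻¹ * q * k * (k⁻¹ * g * k)
    calc k⁻¹ * g * k * (k⁻¹ * q * k) = k⁻¹ * (g * q) * k := by group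
      _ = k⁻¹ * (q * g) * k := by rw [hgq]
      _ = _ := by group
  set g₀ := k⁻¹ * g * k
  set q₀ := k⁻¹ * q * k with hq₀
  have e1 : g₀⁻¹ * a * g₀⁻¹⁻¹ = q₀ * a := by
    have e' : g₀⁻¹ * a⁻¹ * g₀ = q₀⁻¹ * a⁻¹ := by
      rw [mul_eq_one_iff_eq_inv, ← eq_mul_inv_iff_mul_eq] at e; exact e
    have := congrArg (fun t => t⁻¹) e'
    simp only [mul_inv_rev, inv_inv] at this
    rw [inv_inv]
    calc g₀⁻¹ * a * g₀ = a * q₀ := by rw [← this]; group
      _ = q₀ * a := (wsub_commute h.top (qsub_le_wsub P ha) (qsub_le_wsub P hq0)).eq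
  have e2 := conj_pow_eq e1 hg0 (wsub y).index
  rw [h.pow_index_commute g₀⁻¹ (qsub_le_wsub P ha), eq_comm, mul_eq_right] at e2
  have := h.eq_one_of_pow (qsub_le_msub P hq0) e2
  refine hq1 ?_
  rw [show q = k * q₀ * k⁻¹ by rw [hq₀]; group, this]; group

include h in
theorem Sep.central_of_dvd_index {r : ℕ} (hr : r.Prime) (hd : r ∣ (wsub y).index) {w : G}
    (hw : w ∈ wsub y) {k : ℕ} (hk : w ^ r ^ k = 1) : w ∈ center G := by
  refine mem_center_iff.2 fun g => ?_
  have hμ := conj_div_mem_msub hw g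
  have hcom : Commute (g * w * g⁻¹) w⁻¹ :=
    wsub_commute h.top (Normal.conj_mem inferInstance w hw g) ((wsub y).inv_mem hw)
  have hp : (g * w * g⁻¹ * w⁻¹) ^ r ^ k = 1 := by
    rw [hcom.mul_pow, conj_pow, hk, inv_pow, hk, mul_one, mul_inv_cancel, inv_one, one_mul]
  have h1 : g * w * g⁻¹ * w⁻¹ = 1 := orderOf_eq_one_iff.1 (Nat.eq_one_of_dvd_coprimes
    (Nat.Coprime.pow_left k (hr.coprime_iff_not_dvd.2 fun hm => h.avoid r hr hm (h.prime_index hr hd)))
    (orderOf_dvd_of_pow_eq_one hp)
    ((Subgroup.orderOf_dvd_natCard _ hμ).trans (msub_card_dvd h.top)))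
  rw [mul_inv_eq_one, mul_inv_eq_iff_eq_mul] at h1
  exact h1

include h in
/-- The central quotient is a Frobenius group with abelian kernel and abelian complement. -/
theorem Sep.frobenius : ∃ H : Subgroup (G ⧸ center G), Cfsg.IsFrobeniusComplement H ∧ IsMulCommutative H ∧
    ∀ x ∈ Cfsg.frobeniusKernel H, ∀ z ∈ Cfsg.frobeniusKernel H, x * z = z * x := by
  set π := QuotientGroup.mk' (center G) with hπ
  have hπs : Function.Surjective π := QuotientGroup.mk'_surjective _
  set K := (wsub y).map π with hKdef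
  haveI hKn : K.Normal := Subgroup.Normal.map inferInstance π hπs
  have hKi : K.index = (wsub y).index :=
    index_map_eq _ hπs (by rw [hπ, QuotientGroup.ker_mk']; exact center_le_wsub y)
  have hKc : Nat.card K = ((center G).subgroupOf (wsub y)).index := by
    rw [hKdef, show (wsub y).map π = (π.comp (wsub y).subtype).range by
      rw [MonoidHom.range_comp, range_subtype], ← index_ker]
    congr 1
    rw [← MonoidHom.comap_ker, hπ, QuotientGroup.ker_mk']
    rfl
  have hcop : (Nat.card K).Coprime K.index := by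
    rw [hKi, hKc]
    refine Nat.coprime_of_dvd' fun r hr h1 h2 => ?_
    haveI := Fact.mk hr
    obtain ⟨R⟩ : Nonempty (Sylow r (wsub y)) := inferInstance
    refine absurd (h1.trans (index_dvd_of_le fun w hw => ?_)) R.not_dvd_index
    obtain ⟨k, hk⟩ := R.isPGroup' ⟨w, hw⟩
    rw [mem_subgroupOf]
    exact h.central_of_dvd_index hr h2 w.2 (congrArg (fun t : R => ((t : wsub y) : G)) hk)
  obtain ⟨H, hH⟩ := exists_right_complement'_of_coprime hcop
  have hWtop : wsub y ≠ ⊤ := by
    intro e
    obtain ⟨a, ha, -, g, hg⟩ := h.nonempty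
    have hgc : g ∈ center G := mem_center_iff.2 fun u =>
      (wsub_commute h.top (show u ∈ wsub y by rw [e]; exact mem_top u)
        (show g ∈ wsub y by rw [e]; exact mem_top g)).eq
    rw [cidx_of_mem_center hgc] at hg
    exact ha.not_dvd_one hg
  have hK : K ≠ ⊥ := by
    intro e
    obtain ⟨a, ha, haS, g, hg⟩ := h.nonempty
    haveI := Fact.mk ha
    have hgW : g ∈ wsub y := subset_closure (h.remote ha haS g hg)
    have h1 : π g = 1 := (Subgroup.mem_bot).1 (e ▸ mem_map_of_mem π hgW)
    rw [cidx_of_mem_center ((QuotientGroup.eq_one_iff g).1 h1)] at hg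
    exact ha.not_dvd_one hg
  have hH1 : H ≠ ⊥ := by
    intro e
    have h1 := hH.index_eq_card
    have h2 := hH.sup_eq_top
    rw [e, sup_bot_eq] at h2
    rw [h2, index_top] at hKi
    exact hWtop (index_eq_one.1 hKi.symm)
  have hF : Cfsg.IsFrobeniusComplement H := by
    rw [Coprime.frob_iff_fixed_point_free hH hK hH1]
    intro u hu hu1
    refine (eq_bot_iff_forall _).2 fun k ⟨hk, hku⟩ => ?_
    obtain ⟨w, hw, rfl⟩ := hk
    obtain ⟨g, rfl⟩ := hπs u
    refine (QuotientGroup.eq_one_iff w).2 (h.mem_center_of_commutator (g := g) ?_ hw ?_)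
    · exact fun hgW => hu1 ((Subgroup.disjoint_def.1 hH.disjoint) (mem_map_of_mem π hgW) hu)
    · refine (QuotientGroup.eq_one_iff _).1 ?_
      show π (g * w * g⁻¹ * w⁻¹) = 1
      rw [map_mul, map_mul, map_mul, map_inv, map_inv, ← mem_centralizer_singleton_iff.1 hku,
        mul_inv_cancel_right, mul_inv_cancel]
  refine ⟨H, hF, ⟨⟨fun a b => Subtype.ext ?_⟩⟩, ?_⟩
  · obtain ⟨g, hg⟩ := hπs (a : G ⧸ center G)
    obtain ⟨u, hu⟩ := hπs (b : G ⧸ center G)
    have h1 : (a : G ⧸ center G) * b * (a : G ⧸ center G)⁻¹ * (b : G ⧸ center G)⁻¹ = 1 := by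
      refine (Subgroup.disjoint_def.1 hH.disjoint) ?_
        (H.mul_mem (H.mul_mem (H.mul_mem a.2 b.2) (H.inv_mem a.2)) (H.inv_mem b.2))
      rw [← hg, ← hu, ← map_inv, ← map_inv, ← map_mul, ← map_mul, ← map_mul]
      exact mem_map_of_mem π (h.commutator_mem_wsub g u)
    rw [mul_inv_eq_one, mul_inv_eq_iff_eq_mul] at h1
    exact h1
  · have hsub : (K : Set (G ⧸ center G)) ⊆ Cfsg.frobeniusKernel H := by
      intro x hx
      rw [Coprime.frob_mem_kernel_iff]
      refine (em (x = 1)).imp_right fun hx1 c hc => hx1 ?_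
      have h1 := (Subgroup.disjoint_def.1 hH.disjoint)
        (show c⁻¹ * x * c ∈ K by simpa using hKn.conj_mem x hx c⁻¹) hc
      rw [show x = c * (c⁻¹ * x * c) * c⁻¹ by group, h1]; group
    have heq : (K : Set (G ⧸ center G)) = Cfsg.frobeniusKernel H := by
      refine Set.eq_of_subset_of_ncard_le hsub (le_of_eq ?_) (Set.toFinite _)
      rw [← Nat.card_coe_set_eq, Coprime.frob_card_kernel hF, ← Nat.card_coe_set_eq]
      exact hH.index_eq_card
    intro x hx z hz
    rw [← heq] at hx hz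
    obtain ⟨u, hu, rfl⟩ := hx
    obtain ⟨v, hv, rfl⟩ := hz
    rw [← map_mul, ← map_mul, (wsub_commute h.top hu hv).eq]

end CfsgLib.ClassGraph
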