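import Cfsg.Agent.Lib.Coprime.Action

/-!
# A semisimple action restricts semisimply to a normal subgroup
-/

set_option autoImplicit false
set_option linter.style.haveILetI false
set_option linter.unusedSectionVars false

open Subgroup
open CfsgLib.Coprime (conjBy)

namespace CfsgLib.PGroup

universe u

variable {G : Type u} [Group G] [Finite G]

/-- Complements of invariant subgroups exist for a normal subgroup `A` of a semisimply acting `H`. -/
theorem exists_invariant_complement_of_normal {H A V : Subgroup G} (hV : IsMulCommutative V)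
    (hHV : H ≤ normalizer (V : Set G)) (hAH : A ≤ H) (hAn : H ≤ normalizer (A : Set G))
    (hss : ∀ U : Subgroup G, U ≤ V → H ≤ normalizer (U : Set G) →
      ∃ W : Subgroup G, W ≤ V ∧ H ≤ normalizer (W : Set G) ∧ U ⊓ W = ⊥ ∧ U ⊔ W = V)
    {U : Subgroup G} (hUV : U ≤ V) (hAU : A ≤ normalizer (U : Set G)) :
    ∃ W : Subgroup G, W ≤ V ∧ A ≤ normalizer (W : Set G) ∧ U ⊓ W = ⊥ ∧ U ⊔ W = V := by
  classical
  set M : Set (Subgroup G) := {N | Minimal
    (fun N : Subgroup G => N ≠ ⊥ ∧ N ≤ V ∧ A ≤ normalizer (N : Set G)) N}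
  have hcomm : ∀ x ∈ V, ∀ y ∈ V, x * y = y * x := fun x hx y hy =>
    congrArg Subtype.val (isMulCommutative_iff.1 hV ⟨x, hx⟩ ⟨y, hy⟩)
  have hnorm : ∀ {N : Subgroup G}, N ≤ V → V ≤ normalizer (N : Set G) := fun {N} hN x hx => by
    refine Subgroup.mem_normalizer_iff.2 fun y => ⟨fun hy => ?_, fun hy => ?_⟩
    · rwa [hcomm x hx y (hN hy), mul_inv_cancel_right]
    · have h1 := hcomm x⁻¹ (inv_mem hx) _ (hN hy)
      have e : x⁻¹ * (x * y * x⁻¹) = y * x⁻¹ := by group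
      rw [e, mul_left_inj] at h1
      rwa [h1]
  have hMem : ∀ N ∈ M, N ≠ ⊥ ∧ N ≤ V ∧ A ≤ normalizer (N : Set G) := fun N hN => hN.1
  set S := sSup M
  have hSV : S ≤ V := sSup_le fun N hN => (hMem N hN).2.1
  have hconj : ∀ h ∈ H, ∀ N : Subgroup G, N ≠ ⊥ ∧ N ≤ V ∧ A ≤ normalizer (N : Set G) →
      conjBy h N ≠ ⊥ ∧ conjBy h N ≤ V ∧ A ≤ normalizer (conjBy h N : Set G) := by
    rintro h hh N ⟨h1, h2, h3⟩
    refine ⟨fun e => h1 (card_eq_one.1 (by rw [← Coprime.card_conjBy h N, e, card_bot])), ?_, ?_⟩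
    · calc conjBy h N ≤ conjBy h V := map_mono h2
        _ = V := Coprime.conjBy_eq_self_iff.2 (hHV hh)
    · calc A = conjBy h A := (Coprime.conjBy_eq_self_iff.2 (hAn hh)).symm
        _ ≤ conjBy h (normalizer (N : Set G)) := map_mono h3
        _ ≤ _ := le_normalizer_map _
  have hSH : H ≤ normalizer (S : Set G) := by
    intro h hh
    rw [← Coprime.conjBy_eq_self_iff]
    refine eq_of_le_of_card_ge ?_ (Coprime.card_conjBy h S).ge
    show (sSup M).map _ ≤ sSup M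
    rw [Subgroup.map_le_iff_le_comap]
    refine sSup_le fun N hN => ?_
    rw [← Subgroup.map_le_iff_le_comap]
    refine le_sSup (show conjBy h N ∈ M from ⟨hconj h hh N (hMem N hN), fun N' hN' hle => ?_⟩)
    have h1 := hN.2 (hconj h⁻¹ (inv_mem hh) N' hN') (by
      calc conjBy h⁻¹ N' ≤ conjBy h⁻¹ (conjBy h N) := map_mono hle
        _ = N := by rw [Coprime.conjBy_conjBy, inv_mul_cancel, Coprime.conjBy_one])
    calc conjBy h N ≤ conjBy h (conjBy h⁻¹ N') := map_mono h1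
      _ = N' := by rw [Coprime.conjBy_conjBy, mul_inv_cancel, Coprime.conjBy_one]
  have hmin : ∀ W : Subgroup G, W ≠ ⊥ → W ≤ V → A ≤ normalizer (W : Set G) →
      ∃ N ∈ M, N ≤ W := fun W h1 h2 h3 => by
    obtain ⟨N, hle, hN⟩ := exists_minimal_le_of_wellFoundedLT
      (fun N : Subgroup G => N ≠ ⊥ ∧ N ≤ V ∧ A ≤ normalizer (N : Set G)) W ⟨h1, h2, h3⟩
    exact ⟨N, hN, hle⟩
  have hS : S = V := by
    obtain ⟨W, hWV, hWH, hdis, hsup⟩ := hss S hSV hSH
    by_cases hW : W = ⊥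
    · rwa [hW, sup_bot_eq] at hsup
    obtain ⟨N, hN, hNW⟩ := hmin W hW hWV (hAH.trans hWH)
    exact absurd (le_bot_iff.1 (hdis ▸ le_inf (le_sSup hN) hNW)) (hMem N hN).1
  obtain ⟨W, -, hWm⟩ := exists_maximal_ge_of_wellFoundedGT
    (fun W : Subgroup G => W ≤ V ∧ A ≤ normalizer (W : Set G) ∧ U ⊓ W = ⊥) ⊥
    ⟨bot_le, fun a _ => Subgroup.mem_normalizer_iff.2 fun y => by simp, inf_bot_eq _⟩
  obtain ⟨hWV, hWA, hUW⟩ := hWm.prop
  refine ⟨W, hWV, hWA, hUW, le_antisymm (sup_le hUV hWV) ?_⟩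
  rw [← hS]
  refine sSup_le fun N hN => ?_
  by_contra hNle
  obtain ⟨hNne, hNV, hNA⟩ := hMem N hN
  have hUWA : A ≤ normalizer ((U ⊔ W : Subgroup G) : Set G) := Coprime.sup_le_normalizer hAU hWA
  have hdis : N ⊓ (U ⊔ W) = ⊥ := by
    by_contra hne
    exact hNle ((hN.2 ⟨hne, inf_le_left.trans hNV, Coprime.inf_le_normalizer hNA hUWA⟩
      inf_le_left).trans inf_le_right)
  have hdis' : U ⊓ (W ⊔ N) = ⊥ := by
    refine (Subgroup.eq_bot_iff_forall _).2 fun x hx => ?_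
    obtain ⟨hxU, hxWN⟩ := hx
    obtain ⟨w, hw, n, hn, e⟩ :=
      Coprime.mem_sup_exists (hNV.trans (hnorm hWV)) hxWN
    have hnU : n ∈ N ⊓ (U ⊔ W) := by
      refine ⟨hn, ?_⟩
      rw [show n = w⁻¹ * x by rw [← e, inv_mul_cancel_left]]
      exact (U ⊔ W).mul_mem ((U ⊔ W).inv_mem ((le_sup_right : W ≤ U ⊔ W) hw))
        ((le_sup_left : U ≤ U ⊔ W) hxU)
    rw [hdis, mem_bot] at hnU
    rw [hnU, mul_one] at e
    subst e
    exact mem_bot.1 (hUW ▸ ⟨hxU, hw⟩)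
  have := hWm.2 ⟨sup_le hWV hNV, Coprime.sup_le_normalizer hWA hNA, hdis'⟩ le_sup_left
  exact hNle ((le_sup_right.trans this).trans le_sup_right)

end CfsgLib.PGroup
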