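import Cfsg.Agent.Lib.Coprime.Frobenius
import Cfsg.Agent.Lib.Coprime.FpfAction
import Cfsg.Agent.Lib.Char.Zassenhaus.Complement
import Mathlib.GroupTheory.SemidirectProduct
import Mathlib.LinearAlgebra.Dual.Lemmas
import Mathlib.RingTheory.RootsOfUnity.Complex
import Mathlib.RingTheory.IntegralDomain
import Mathlib.Algebra.Group.TransferInstance

/-!
# Criteria for a finite group to be a Frobenius complement

A group `G` is a Frobenius complement iff there is a nonzero rational function on `G` with
vanishing sums along all nontrivial cyclic cosets.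
-/

set_option autoImplicit false
set_option linter.style.haveILetI false
set_option linter.unusedSectionVars false

namespace CfsgLib.PGroup.Compl

open Finset

/-- `G` occurs as a Frobenius complement in some finite group. -/
def Occurs (G : Type*) [Group G] : Prop :=
  ∃ (L : Type) (_ : Group L) (_ : Finite L) (H : Subgroup L),
    Cfsg.IsFrobeniusComplement H ∧ Nonempty (G ≃* H)

/-- `w` has vanishing sums along all nontrivial cyclic cosets. -/
def IsKernel {G : Type*} [Group G] {R : Type*} [AddCommMonoid R] (w : G → R) : Prop :=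
  ∀ x : G, x ≠ 1 → ∀ h, ∑ i ∈ range (orderOf x), w (x ^ i * h) = 0

variable {G : Type*} [Group G] [Finite G]

section Build

variable (K : Type) [Group K] (p : ℕ)

/-- The functions mod `p` with vanishing sums along all nontrivial cyclic cosets. -/
def modKernel : AddSubgroup (K → ZMod p) where
  carrier := {f | IsKernel f}
  zero_mem' := fun x _ h => by simp
  add_mem' := fun {f g} hf hg x hx h => by
    simp only [Pi.add_apply, Finset.sum_add_distrib, hf x hx h, hg x hx h, add_zero]
  neg_mem' := fun {f} hf x hx h => by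
    simp only [Pi.neg_apply, Finset.sum_neg_distrib, hf x hx h, neg_zero]

theorem translate_mem (g : K) (f : K → ZMod p) (hf : IsKernel f) :
    IsKernel fun h => f (g⁻¹ * h) := by
  intro x hx h
  have h1 := hf (g⁻¹ * x * g) (fun e => hx (by
    have h2 := congrArg (fun y => g * y * g⁻¹) e
    simpa [mul_assoc] using h2)) (g⁻¹ * h)
  have ho : orderOf (g⁻¹ * x * g) = orderOf x := by
    simpa using MulEquiv.orderOf_eq (MulAut.conj g⁻¹) x
  rw [ho] at h1
  refine Eq.trans (Finset.sum_congr rfl fun i _ => congrArg f ?_) h1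
  have h3 : (g⁻¹ * x * g) ^ i = g⁻¹ * x ^ i * g := by
    simpa using (map_pow (MulAut.conj g⁻¹) x i).symm
  rw [h3]
  simp [mul_assoc]

/-- The translation action on the kernel. -/
def transHom : K →* MulAut (Multiplicative (modKernel K p)) where
  toFun g :=
    { toFun := fun f => Multiplicative.ofAdd
        ⟨fun h => f.toAdd.1 (g⁻¹ * h), translate_mem K p g _ f.toAdd.2⟩
      invFun := fun f => Multiplicative.ofAdd
        ⟨fun h => f.toAdd.1 ((g⁻¹)⁻¹ * h), translate_mem K p g⁻¹ _ f.toAdd.2⟩
      left_inv := fun f => Multiplicative.toAdd.injective (Subtype.ext (funext fun h =>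
        congrArg f.toAdd.1 (by simp)))
      right_inv := fun f => Multiplicative.toAdd.injective (Subtype.ext (funext fun h =>
        congrArg f.toAdd.1 (by simp)))
      map_mul' := fun _ _ => rfl }
  map_one' := MulEquiv.ext fun f => Multiplicative.toAdd.injective (Subtype.ext (funext fun h =>
    congrArg f.toAdd.1 (show (1 : K)⁻¹ * h = h by simp)))
  map_mul' a b := MulEquiv.ext fun f => Multiplicative.toAdd.injective (Subtype.ext (funext fun h =>
    congrArg f.toAdd.1 (show (a * b)⁻¹ * h = b⁻¹ * (a⁻¹ * h) by simp [mul_assoc])))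

theorem occurs_of_modKernel [Finite K] [Nontrivial K] [Fact p.Prime] (hp : ¬ p ∣ Nat.card K)
    (f₀ : K → ZMod p) (hf₀ : IsKernel f₀) (hne : f₀ ≠ 0) : Occurs K := by
  classical
  let M := Multiplicative (modKernel K p)
  haveI : Finite M := inferInstanceAs (Finite (modKernel K p))
  let L := M ⋊[transHom K p] K
  haveI : Finite L := Finite.of_equiv _ SemidirectProduct.equivProd.symm
  let N : Subgroup L := (SemidirectProduct.inl (φ := transHom K p)).range
  let H : Subgroup L := (SemidirectProduct.inr (φ := transHom K p)).range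
  haveI hN : N.Normal := by
    show (SemidirectProduct.inl (φ := transHom K p)).range.Normal
    rw [SemidirectProduct.range_inl_eq_ker_rightHom]
    infer_instance
  have hc : Subgroup.IsComplement' N H := by
    refine Subgroup.isComplement'_of_card_mul_and_disjoint ?_ ?_
    · show Nat.card (SemidirectProduct.inl (φ := transHom K p)).range *
        Nat.card (SemidirectProduct.inr (φ := transHom K p)).range = _
      rw [← Nat.card_congr (MonoidHom.ofInjective SemidirectProduct.inl_injective).toEquiv,
        ← Nat.card_congr (MonoidHom.ofInjective SemidirectProduct.inr_injective).toEquiv,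
        ← Nat.card_prod, Nat.card_congr SemidirectProduct.equivProd]
    · rw [Subgroup.disjoint_def]
      rintro x ⟨v, rfl⟩ ⟨g, hg⟩
      have := congrArg SemidirectProduct.left hg
      rw [SemidirectProduct.left_inr, SemidirectProduct.left_inl] at this
      rw [← this, map_one]
  have hNne : N ≠ ⊥ := by
    intro e
    have : SemidirectProduct.inl (φ := transHom K p) (Multiplicative.ofAdd ⟨f₀, hf₀⟩) ∈ N :=
      ⟨_, rfl⟩
    rw [e, Subgroup.mem_bot, ← map_one (SemidirectProduct.inl (φ := transHom K p))] at this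
    exact hne (congrArg Subtype.val (Multiplicative.ofAdd.injective
      (SemidirectProduct.inl_injective this)))
  have hHne : H ≠ ⊥ := by
    intro e
    obtain ⟨g, hg⟩ := exists_ne (1 : K)
    have : SemidirectProduct.inr (φ := transHom K p) g ∈ H := ⟨_, rfl⟩
    rw [e, Subgroup.mem_bot, ← map_one (SemidirectProduct.inr (φ := transHom K p))] at this
    exact hg (SemidirectProduct.inr_injective this)
  refine ⟨L, inferInstance, inferInstance, H,
    (Coprime.frob_iff_fixed_point_free hc hNne hHne).2 ?_,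
    ⟨MonoidHom.ofInjective SemidirectProduct.inr_injective⟩⟩
  rintro _ ⟨g, rfl⟩ hg
  refine (Subgroup.eq_bot_iff_forall _).2 fun x hx => ?_
  obtain ⟨⟨v, rfl⟩, hxc⟩ := hx
  have h1 := congrArg SemidirectProduct.left (Subgroup.mem_centralizer_singleton_iff.1 hxc)
  simp only [SemidirectProduct.mul_left, SemidirectProduct.left_inl, SemidirectProduct.right_inl,
    SemidirectProduct.left_inr, SemidirectProduct.right_inr, map_one, MulAut.one_apply, one_mul,
    mul_one] at h1
  have hg1 : g ≠ 1 := fun e => hg (by rw [e, map_one])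
  have h2 : ∀ h : K, v.toAdd.1 (g⁻¹ * h) = v.toAdd.1 h := fun h =>
    congrArg (fun u : M => u.toAdd.1 h) h1.symm
  have h3 : ∀ (i : ℕ) (h : K), v.toAdd.1 ((g⁻¹) ^ i * h) = v.toAdd.1 h := fun i => by
    induction i with
    | zero => simp
    | succ i ih => intro h; rw [pow_succ, mul_assoc, ih, h2]
  have hv : v = 1 := by
    refine Multiplicative.toAdd.injective (Subtype.ext (funext fun h => ?_))
    have h4 := v.toAdd.2 g⁻¹ (inv_ne_one.2 hg1) h
    simp only [h3, Finset.sum_const, Finset.card_range, nsmul_eq_mul] at h4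
    refine (mul_eq_zero.1 h4).resolve_left fun h5 => hp ?_
    rw [ZMod.natCast_eq_zero_iff] at h5
    exact h5.trans (orderOf_dvd_natCard _)
  rw [hv, map_one]

end Build

/-- A nonzero rational kernel function makes `G` a Frobenius complement. -/
theorem occurs_of_kernel [Nontrivial G] (w : G → ℚ) (hw : w ≠ 0) (hker : IsKernel w) :
    Occurs G := by
  classical
  haveI := Fintype.ofFinite G
  obtain ⟨g₀, hg₀⟩ := Function.ne_iff.1 hw
  set D : ℕ := ∏ g : G, (w g).den with hD
  let z : G → ℤ := fun g => (w g).num * ((D / (w g).den : ℕ) : ℤ)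
  have hz : ∀ g, (z g : ℚ) = w g * D := by
    intro g
    have hdvd : (w g).den ∣ D := Finset.dvd_prod_of_mem _ (Finset.mem_univ g)
    simp only [z, Int.cast_mul, Int.cast_natCast]
    rw [Nat.cast_div hdvd (by exact_mod_cast (w g).den_ne_zero)]
    conv_rhs => rw [← Rat.num_div_den (w g)]
    ring
  have hD0 : D ≠ 0 := Finset.prod_ne_zero_iff.2 fun g _ => (w g).den_ne_zero
  have hz0 : z g₀ ≠ 0 := fun e => by
    have h1 := hz g₀
    rw [e, Int.cast_zero] at h1
    rcases mul_eq_zero.1 h1.symm with h | h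
    · exact hg₀ h
    · exact hD0 (by exact_mod_cast h)
  have hzker : IsKernel z := fun x hx h => by
    have h1 : ((∑ i ∈ range (orderOf x), z (x ^ i * h) : ℤ) : ℚ) = 0 := by
      rw [Int.cast_sum, Finset.sum_congr rfl fun i _ => hz _, ← Finset.sum_mul, hker x hx h,
        zero_mul]
    exact_mod_cast h1
  obtain ⟨p, hple, hp⟩ := Nat.exists_infinite_primes (max (Nat.card G) (z g₀).natAbs + 1)
  haveI : Fact p.Prime := ⟨hp⟩
  let K : Type := {_i : Fin (Nat.card G) // True}
  let e : K ≃ G := (Equiv.subtypeUnivEquiv fun _ => trivial).trans (Finite.equivFin G).symm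
  letI : Group K := e.group
  let em : K ≃* G := e.mulEquiv
  haveI : Nontrivial K := e.nontrivial
  have hnd : ¬ p ∣ Nat.card K := by
    rw [Nat.card_congr e]
    exact fun h => absurd (Nat.le_of_dvd Nat.card_pos h) (by omega)
  obtain ⟨L, i₁, i₂, H, hH, ⟨f⟩⟩ := occurs_of_modKernel K p hnd
    (fun h => ((z (em h) : ℤ) : ZMod p)) (fun x hx h => by
      have hx' : em x ≠ 1 := fun h' => hx (em.injective (h'.trans (map_one em).symm))
      have h1 := congrArg (Int.cast : ℤ → ZMod p) (hzker (em x) hx' (em h))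
      rw [Int.cast_sum, Int.cast_zero, MulEquiv.orderOf_eq] at h1
      simpa only [map_mul, map_pow] using h1)
    (fun e0 => by
      have h1 : ((z g₀ : ℤ) : ZMod p) = 0 := by
        have := congrFun e0 (em.symm g₀)
        simpa using this
      rw [ZMod.intCast_zmod_eq_zero_iff_dvd] at h1
      have h2 := Nat.le_of_dvd (Int.natAbs_pos.2 hz0) (Int.natCast_dvd.1 h1)
      omega)
  exact ⟨L, i₁, i₂, H, hH, ⟨em.symm.trans f⟩⟩

/-- Embedding a group in the multiplicative monoid of a division ring of characteristic zero. -/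
theorem exists_kernel_of_divisionRing {D : Type*} [DivisionRing D] [CharZero D] (f : G →* D)
    (hf : Function.Injective f) : ∃ w : G → ℚ, w ≠ 0 ∧ IsKernel w := by
  obtain ⟨l, hl⟩ := Module.Projective.exists_dual_ne_zero ℚ (one_ne_zero (α := D))
  refine ⟨fun g => l (f g), fun e => hl ?_, fun x hx h => ?_⟩
  · have := congrFun e 1
    simpa using this
  · simp only [← map_sum, map_mul, map_pow, ← Finset.sum_mul]
    have h1 : (∑ i ∈ range (orderOf x), f x ^ i) = 0 := by
      have h2 := geom_sum_mul (f x) (orderOf x)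
      rw [← map_pow, pow_orderOf_eq_one, map_one, sub_self] at h2
      exact (mul_eq_zero.1 h2).resolve_right fun h3 =>
        hx (hf ((sub_eq_zero.1 h3).trans (map_one f).symm))
    rw [h1, zero_mul, map_zero]

theorem occurs_of_divisionRing [Nontrivial G] {D : Type*} [DivisionRing D] [CharZero D]
    (f : G →* D) (hf : Function.Injective f) : Occurs G := by
  obtain ⟨w, hw, hker⟩ := exists_kernel_of_divisionRing f hf
  exact occurs_of_kernel w hw hker

theorem occurs_of_isCyclic [Nontrivial G] [IsCyclic G] : Occurs G := by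
  classical
  obtain ⟨g, hg⟩ := IsCyclic.exists_generator (α := G)
  have hpos : Nat.card G ≠ 0 := Nat.card_pos.ne'
  have hζ := Complex.isPrimitiveRoot_exp (Nat.card G) hpos
  haveI : NeZero (Nat.card G) := ⟨hpos⟩
  haveI : IsCyclic (rootsOfUnity (Nat.card G) ℂ) := inferInstance
  have hc : Nat.card G = Nat.card (rootsOfUnity (Nat.card G) ℂ) := by
    rw [Complex.card_rootsOfUnity]
  let e : G ≃* rootsOfUnity (Nat.card G) ℂ := mulEquivOfCyclicCardEq hc
  exact occurs_of_divisionRing
    ((Units.coeHom ℂ).comp ((rootsOfUnity (Nat.card G) ℂ).subtype.comp e.toMonoidHom))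
    (Units.val_injective.comp (Subtype.val_injective.comp e.injective))

theorem exists_kernel_of_occurs (h : Occurs G) : ∃ w : G → ℚ, w ≠ 0 ∧ IsKernel w := by
  classical
  obtain ⟨L, _, _, H, hH, ⟨e⟩⟩ := h
  obtain ⟨ψ⟩ := Char.Zassenhaus.exists_zrep_of_complement hH
  set φ := ψ.comap e.toMonoidHom e.injective
  haveI : Nonempty (Fin φ.n) := by
    obtain ⟨v, hv, -⟩ := φ.spectral 1 1 (by simpa using IsPrimitiveRoot.one)
    by_contra hn
    haveI := not_nonempty_iff.1 hn
    exact hv (Subsingleton.elim _ _)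
  obtain ⟨i₀⟩ := ‹Nonempty (Fin φ.n)›
  obtain ⟨l, hl⟩ := Module.Projective.exists_dual_ne_zero ℚ (one_ne_zero (α := ℂ))
  refine ⟨fun g => l (φ.rho g i₀ i₀), fun e0 => hl ?_, fun x hx g => ?_⟩
  · have := congrFun e0 1
    simpa using this
  · set S : Matrix (Fin φ.n) (Fin φ.n) ℂ := ∑ i ∈ range (orderOf x), φ.rho x ^ i with hS
    have hfix : φ.rho x * S = S := by
      have h1 : (φ.rho x - 1) * S = 0 := by
        rw [hS, mul_geom_sum, ← map_pow, pow_orderOf_eq_one, map_one, sub_self]
      rwa [sub_mul, one_mul, sub_eq_zero] at h1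
    have hS0 : S = 0 := by
      ext a b
      exact congrFun (φ.fpf x hx (fun a => S a b) (funext fun a => congrFun (congrFun hfix a) b)) a
    have h2 : ∑ i ∈ range (orderOf x), φ.rho (x ^ i * g) i₀ i₀ = 0 := by
      rw [← Matrix.sum_apply]
      simp only [map_mul, map_pow, ← Finset.sum_mul, ← hS, hS0, zero_mul, Matrix.zero_apply]
    simp only [← map_sum, h2, map_zero]

theorem occurs_of_injective {K : Type*} [Group K] [Finite K] [Nontrivial K] (h : Occurs G)
    (f : K →* G) (hf : Function.Injective f) : Occurs K := by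
  obtain ⟨w, hw, hker⟩ := exists_kernel_of_occurs h
  obtain ⟨g₀, hg₀⟩ := Function.ne_iff.1 hw
  refine occurs_of_kernel (fun k => w (f k * g₀)) (fun e => hg₀ ?_) fun x hx k => ?_
  · simpa using congrFun e 1
  · have h1 := hker (f x) (fun e => hx (hf (e.trans (map_one f).symm))) (f k * g₀)
    rw [orderOf_injective f hf] at h1
    simpa only [map_mul, map_pow, mul_assoc] using h1

theorem sum_range_mul_of_coprime {r s : ℕ} (hr : r ≠ 0) (hs : s ≠ 0) (hrs : r.Coprime s)
    (F G' : ℕ → ℚ) : ∑ i ∈ range (r * s), F (i % r) * G' (i % s) =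
      (∑ i ∈ range r, F i) * ∑ j ∈ range s, G' j := by
  rw [Finset.sum_mul_sum, ← Finset.sum_product']
  refine Finset.sum_bij' (fun i _ => (i % r, i % s))
    (fun t _ => (Nat.chineseRemainder hrs t.1 t.2 : ℕ)) ?_ ?_ ?_ ?_ (fun _ _ => rfl)
  · intro i _
    simp [Nat.mod_lt, Nat.pos_of_ne_zero hr, Nat.pos_of_ne_zero hs]
  · intro t _
    exact Finset.mem_range.2 (Nat.chineseRemainder_lt_mul hrs t.1 t.2 hr hs)
  · intro i hi
    obtain ⟨h1, h2⟩ := (Nat.chineseRemainder hrs (i % r) (i % s)).2
    exact Nat.ModEq.eq_of_lt_of_lt ((Nat.modEq_and_modEq_iff_modEq_mul hrs).1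
      ⟨h1.trans (Nat.mod_modEq i r), h2.trans (Nat.mod_modEq i s)⟩)
      (Nat.chineseRemainder_lt_mul hrs _ _ hr hs) (Finset.mem_range.1 hi)
  · intro t ht
    simp only [Finset.mem_product, Finset.mem_range] at ht
    obtain ⟨h1, h2⟩ := (Nat.chineseRemainder hrs t.1 t.2).2
    exact Prod.ext (Eq.trans h1 (Nat.mod_eq_of_lt ht.1)) (Eq.trans h2 (Nat.mod_eq_of_lt ht.2))

theorem occurs_prod {A B : Type*} [Group A] [Finite A] [Nontrivial A] [Group B] [Finite B]
    (hA : Occurs A) (hB : Occurs B) (hcop : (Nat.card A).Coprime (Nat.card B)) :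
    Occurs (A × B) := by
  obtain ⟨u, hu, hku⟩ := exists_kernel_of_occurs hA
  obtain ⟨v, hv, hkv⟩ := exists_kernel_of_occurs hB
  obtain ⟨a₀, ha₀⟩ := Function.ne_iff.1 hu
  obtain ⟨b₀, hb₀⟩ := Function.ne_iff.1 hv
  refine occurs_of_kernel (fun z => u z.1 * v z.2) (fun e => ?_) fun x hx h => ?_
  · rcases mul_eq_zero.1 (congrFun e (a₀, b₀)) with h | h
    exacts [ha₀ h, hb₀ h]
  · have ho : orderOf x = orderOf x.1 * orderOf x.2 := by
      rw [Prod.orderOf]
      exact Nat.Coprime.lcm_eq_mul ((hcop.coprime_dvd_left (orderOf_dvd_natCard _)).coprime_dvd_right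
        (orderOf_dvd_natCard _))
    rw [ho]
    refine Eq.trans (Finset.sum_congr rfl fun i _ => ?_)
      ((sum_range_mul_of_coprime (orderOf_pos x.1).ne' (orderOf_pos x.2).ne'
        ((hcop.coprime_dvd_left (orderOf_dvd_natCard _)).coprime_dvd_right (orderOf_dvd_natCard _))
        (fun i => u (x.1 ^ i * h.1)) (fun j => v (x.2 ^ j * h.2))).trans ?_)
    · simp only [Prod.fst_mul, Prod.snd_mul, Prod.pow_fst, Prod.pow_snd, pow_mod_orderOf]
    · by_cases h1 : x.1 = 1
      · have h2 : x.2 ≠ 1 := fun e => hx (Prod.ext h1 e)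
        rw [hkv x.2 h2 h.2, mul_zero]
      · rw [hku x.1 h1 h.1, zero_mul]

/-- Two commuting elements of the same prime order in a Frobenius complement. -/
theorem mem_zpowers_of_occurs (h : Occurs G) {q : ℕ} (hq : q.Prime) {a b : G}
    (ha : orderOf a = q) (hb : orderOf b = q) (hab : Commute a b) : b ∈ Subgroup.zpowers a := by
  classical
  obtain ⟨L, _, _, H, hH, ⟨e⟩⟩ := h
  obtain ⟨N, hN, hn, hc⟩ := Coprime.frob_kernel_subgroup hH
  haveI := hn
  have hNne : N ≠ ⊥ := fun e0 => hH.2.1 (by
    have h1 := hc.sup_eq_top; rwa [e0, bot_sup_eq] at h1)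
  let A : Subgroup L := Subgroup.closure {(e a : L), (e b : L)}
  haveI : IsMulCommutative A := by
    refine Subgroup.isMulCommutative_closure fun x hx y hy => ?_
    have h1 : Commute (e a : L) (e b : L) := (hab.map e).map H.subtype
    rcases hx with rfl | rfl <;> rcases hy with rfl | rfl
    exacts [rfl, h1.eq, h1.symm.eq, rfl]
  have hAH : A ≤ H := (Subgroup.closure_le _).2 (by
    rintro x (rfl | rfl) <;> exact SetLike.coe_mem _)
  have hAN : A ≤ Subgroup.normalizer (N : Set L) := by rw [Subgroup.normalizer_eq_top]; exact le_top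
  have hfpf : Coprime.IsFpfOn A N := fun x hx hx1 =>
    ((Coprime.frob_iff_fixed_point_free hc hNne hH.1).1 hH) x (hAH hx) hx1
  haveI := hfpf.isCyclic hAN hNne
  let x : A := ⟨(e a : L), Subgroup.subset_closure (Or.inl rfl)⟩
  let y : A := ⟨(e b : L), Subgroup.subset_closure (Or.inr rfl)⟩
  have hx : orderOf x = q := by
    rw [← Subgroup.orderOf_coe, Subgroup.orderOf_coe (e a), MulEquiv.orderOf_eq, ha]
  have hy : orderOf y = q := by
    rw [← Subgroup.orderOf_coe, Subgroup.orderOf_coe (e b), MulEquiv.orderOf_eq, hb]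
  haveI := Fintype.ofFinite A
  have h2 : (Finset.univ.filter fun z : A => z ^ q = 1).card ≤ q := IsCyclic.card_pow_eq_one_le hq.pos
  have h3 : ((Subgroup.zpowers x : Subgroup A) : Set A).toFinset =
      Finset.univ.filter fun z : A => z ^ q = 1 := by
    refine Finset.eq_of_subset_of_card_le (fun z hz => ?_) ?_
    · rw [Set.mem_toFinset] at hz
      obtain ⟨j, rfl⟩ := hz
      refine Finset.mem_filter.2 ⟨Finset.mem_univ _, ?_⟩
      show (x ^ j) ^ q = 1
      rw [← zpow_natCast, ← zpow_mul, mul_comm, zpow_mul, zpow_natCast, ← hx, pow_orderOf_eq_one,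
        _root_.one_zpow]
    · rw [Set.toFinset_card]
      refine h2.trans (le_of_eq ?_)
      rw [← Nat.card_eq_fintype_card]
      exact (hx ▸ Nat.card_zpowers x).symm
  have h4 : y ∈ ((Subgroup.zpowers x : Subgroup A) : Set A).toFinset := by
    rw [h3]
    exact Finset.mem_filter.2 ⟨Finset.mem_univ _, by rw [← hy]; exact pow_orderOf_eq_one y⟩
  obtain ⟨j, hj⟩ := Set.mem_toFinset.1 h4
  refine ⟨j, e.injective (Subtype.ext ?_)⟩
  show ((e (a ^ j) : H) : L) = ((e b : H) : L)
  rw [map_zpow, Subgroup.coe_zpow]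
  simpa [x, y] using congrArg Subtype.val hj

/-- If every nontrivial cyclic subgroup meets a Frobenius complement `S` nontrivially, the group is
itself a Frobenius complement. -/
theorem occurs_of_meets [Nontrivial G] (S : Subgroup G) (hS : Occurs S)
    (hmeet : ∀ x : G, x ≠ 1 → ∃ m : ℕ, m ∣ orderOf x ∧ x ^ m ∈ S ∧ x ^ m ≠ 1) : Occurs G := by
  classical
  obtain ⟨u, hu, hku⟩ := exists_kernel_of_occurs hS
  let w : G → ℚ := fun g => if hg : g ∈ S then u ⟨g, hg⟩ else 0
  refine occurs_of_kernel w (fun e => hu (funext fun g => ?_)) fun x hx h => ?_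
  · have h1 := congrFun e (g : G)
    simpa [w] using h1
  obtain ⟨m, hm, hmS, hm1⟩ := hmeet x hx
  obtain ⟨r, hr⟩ := hm
  have hm0 : m ≠ 0 := fun e => (orderOf_pos x).ne' (by rw [hr, e, zero_mul])
  have hy : orderOf (⟨x ^ m, hmS⟩ : S) = r := by
    rw [← Subgroup.orderOf_coe]
    show orderOf (x ^ m) = r
    rw [orderOf_pow_of_dvd hm0 ⟨r, hr⟩, hr, Nat.mul_div_cancel_left _ (Nat.pos_of_ne_zero hm0)]
  have key : ∀ t : G, ∑ b ∈ range r, w ((x ^ m) ^ b * t) = 0 := fun t => by
    by_cases ht : t ∈ S
    · have h1 := hku ⟨x ^ m, hmS⟩ (fun e => hm1 (congrArg Subtype.val e)) ⟨t, ht⟩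
      rw [hy] at h1
      refine Eq.trans (Finset.sum_congr rfl fun b _ => ?_) h1
      simp only [w, dif_pos (mul_mem (pow_mem hmS b) ht)]
      rfl
    · refine Finset.sum_eq_zero fun b _ => ?_
      simp only [w]
      rw [dif_neg]
      intro hbt
      exact ht (by simpa using mul_mem (inv_mem (pow_mem hmS b)) hbt)
  have hsum : ∀ k : ℕ, ∑ i ∈ range (m * k), w (x ^ i * h) =
      ∑ a ∈ range m, ∑ b ∈ range k, w ((x ^ m) ^ b * (x ^ a * h)) := by
    intro k
    induction k with
    | zero => simp
    | succ k ih =>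
      rw [Nat.mul_succ, Finset.sum_range_add, ih, ← Finset.sum_add_distrib]
      refine Finset.sum_congr rfl fun a _ => ?_
      rw [Finset.sum_range_succ, ← pow_mul, pow_add, mul_assoc]
  rw [hr, hsum, Finset.sum_eq_zero fun a _ => key _]

/-- A finite subgroup of a division ring of positive characteristic is cyclic. -/
theorem isCyclic_of_charP {D : Type*} [DivisionRing D] (p : ℕ) [Fact p.Prime] [CharP D p]
    (f : G →* D) (hf : Function.Injective f) : IsCyclic G := by
  letI : Algebra (ZMod p) D := ZMod.algebra D p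
  let A : Subalgebra (ZMod p) D := Algebra.adjoin (ZMod p) (Set.range f)
  have hfin : Finite A := by
    have h1 : Subalgebra.toSubmodule A = Submodule.span (ZMod p) (Set.range f) := by
      rw [Algebra.adjoin_eq_span, show (Submonoid.closure (Set.range f) : Submonoid D) =
        MonoidHom.mrange f from (congrArg Submonoid.closure (MonoidHom.coe_mrange f).symm).trans
          (Submonoid.closure_eq _), MonoidHom.coe_mrange]
    haveI : Module.Finite (ZMod p) (Submodule.span (ZMod p) (Set.range f)) :=
      Module.Finite.span_of_finite _ (Set.finite_range f)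
    haveI : Module.Finite (ZMod p) A := by
      show Module.Finite (ZMod p) (Subalgebra.toSubmodule A)
      rw [h1]; infer_instance
    exact Module.finite_of_finite (ZMod p)
  haveI := hfin
  have hc := (Finite.isDomain_to_isField A).mul_comm
  letI : CommRing A := { (inferInstance : Ring A) with mul_comm := hc }
  let g : G →* A := { toFun := fun x => ⟨f x, Algebra.subset_adjoin ⟨x, rfl⟩⟩
                      map_one' := Subtype.ext (map_one f)
                      map_mul' := fun x y => Subtype.ext (map_mul f x y) }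
  exact isCyclic_of_subgroup_isDomain g fun a b h => hf (congrArg Subtype.val h)

end CfsgLib.PGroup.Compl
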