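import Mathlib.GroupTheory.Frattini
import Mathlib.GroupTheory.PGroup
import Mathlib.Data.ZMod.Basic
import Mathlib.Tactic.LinearCombination
import Mathlib.Tactic.Ring
import Mathlib.GroupTheory.Index
import Mathlib.Data.Set.Card

/-!
# Degrees of functions on a group and zeros of the squaring map

A Chevalley-Warning bound for the squaring map of a class two group of exponent four.
-/

set_option autoImplicit false

namespace CfsgLib.QuadraticSquares

open Subgroup
open scoped commutatorElement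

variable {G : Type*} [Group G]

/-- The `k`-fold derivative of `f` is constant. -/
def Deg : ℕ → (G → ZMod 2) → Prop
  | 0, f => ∀ x, f x = f 1
  | k + 1, f => ∀ a, Deg k (fun v => f (v * a) + f v)

theorem Deg.succ {k : ℕ} {f : G → ZMod 2} (h : Deg k f) : Deg (k + 1) f := by
  induction k generalizing f with
  | zero =>
    intro a x
    simp only
    rw [h (x * a), h x, h (1 * a)]
  | succ k ih => exact fun a => ih (h a)

theorem Deg.mono {k l : ℕ} {f : G → ZMod 2} (h : Deg k f) (hl : k ≤ l) : Deg l f := by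
  induction hl with
  | refl => exact h
  | step _ ih => exact ih.succ

theorem Deg.const (k : ℕ) (c : ZMod 2) : Deg k (fun _ : G => c) :=
  Deg.mono (k := 0) (fun _ => rfl) (Nat.zero_le k)

theorem Deg.congr {k : ℕ} {f g : G → ZMod 2} (h : Deg k f) (e : ∀ v, g v = f v) : Deg k g := by
  rwa [funext e]

theorem Deg.add {k : ℕ} {f g : G → ZMod 2} (hf : Deg k f) (hg : Deg k g) :
    Deg k (fun v => f v + g v) := by
  induction k generalizing f g with
  | zero => intro x; simp only; rw [hf x, hg x]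
  | succ k ih => exact fun a => (ih (hf a) (hg a)).congr fun v => by ring

theorem Deg.translate {k : ℕ} {f : G → ZMod 2} (hf : Deg k f) (b : G) :
    Deg k (fun v => f (v * b)) := by
  induction k generalizing f with
  | zero => intro x; simp only; rw [hf (x * b), hf (1 * b)]
  | succ k ih => exact fun a => (ih (hf (b⁻¹ * a * b))).congr fun v => by simp [mul_assoc]

theorem Deg.const_mul {k : ℕ} {f : G → ZMod 2} (c : ZMod 2) (hf : Deg k f) :
    Deg k (fun v => c * f v) := by
  induction k generalizing f with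
  | zero => intro x; simp only; rw [hf x]
  | succ k ih => exact fun a => (ih (hf a)).congr fun v => by ring

theorem Deg.mul {j k : ℕ} {f g : G → ZMod 2} (hf : Deg j f) (hg : Deg k g) :
    Deg (j + k) (fun v => f v * g v) := by
  induction j generalizing k f g with
  | zero =>
    rw [Nat.zero_add]
    exact (hg.const_mul (f 1)).congr fun v => by rw [hf v]
  | succ j ihj =>
    induction k generalizing f g with
    | zero => exact (hf.const_mul (g 1)).congr fun v => by rw [hg v, mul_comm]
    | succ k ihk =>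
      intro a
      have h1 : Deg (j + 1 + k) (fun v => (f (v * a) + f v) * g (v * a)) :=
        (ihj (hf a) (hg.translate a)).mono (by omega)
      have h2 : Deg (j + 1 + k) (fun v => f v * (g (v * a) + g v)) := ihk hf (hg a)
      refine (h1.add h2).congr fun v => ?_
      ring_nf
      rw [show (2 : ZMod 2) = 0 from by decide, mul_zero, add_zero]

/-- A subgroup avoiding `a` and meeting every pair `g`, `g * a⁻¹`. -/
theorem exists_hyper [Finite G] {M N : Subgroup G} (hNM : N ≤ M) {a : G} (ha : a ∈ M) (haN : a ∉ N)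
    (hsq : ∀ x ∈ M, x ^ 2 ∈ N) (hcomm : ∀ x ∈ M, ∀ y ∈ M, ⁅x, y⁆ ∈ N) :
    ∃ M' : Subgroup G, N ≤ M' ∧ M' ≤ M ∧ a ∉ M' ∧ ∀ g ∈ M, g ∈ M' ∨ g * a⁻¹ ∈ M' := by
  obtain ⟨M', ⟨hN', hM', haM'⟩, hmax⟩ :=
    (Set.toFinite {S : Subgroup G | N ≤ S ∧ S ≤ M ∧ a ∉ S}).exists_maximal ⟨N, le_rfl, hNM, haN⟩
  refine ⟨M', hN', hM', haM', fun g hg => ?_⟩
  by_contra hcon
  obtain ⟨hgM', hga⟩ := not_or.1 hcon
  have hconj : ∀ x ∈ M, ∀ m ∈ M', x * m * x⁻¹ ∈ M' := fun x hx m hm => by
    rw [show x * m * x⁻¹ = ⁅x, m⁆ * m by simp [commutatorElement_def]]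
    exact mul_mem (hN' (hcomm x hx m (hM' hm))) hm
  have hg2 : g * g ∈ M' := by rw [← pow_two]; exact hN' (hsq g hg)
  let S : Subgroup G :=
    { carrier := {x | x ∈ M' ∨ x * g⁻¹ ∈ M'}
      one_mem' := Or.inl (one_mem _)
      mul_mem' := by
        rintro x y (hx | hx) (hy | hy)
        · exact Or.inl (mul_mem hx hy)
        · refine Or.inr ?_
          rw [mul_assoc]; exact mul_mem hx hy
        · refine Or.inr ?_
          rw [show x * y * g⁻¹ = (x * g⁻¹) * (g * y * g⁻¹) by group]
          exact mul_mem hx (hconj g hg y hy)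
        · refine Or.inl ?_
          rw [show x * y = (x * g⁻¹) * (g * (y * g⁻¹) * g⁻¹) * (g * g) by group]
          exact mul_mem (mul_mem hx (hconj g hg _ hy)) hg2
      inv_mem' := by
        rintro x (hx | hx)
        · exact Or.inl (inv_mem hx)
        · refine Or.inr ?_
          rw [show x⁻¹ * g⁻¹ = (g⁻¹ * (x * g⁻¹)⁻¹ * (g⁻¹)⁻¹) * (g * g)⁻¹ by group]
          exact mul_mem (hconj _ (inv_mem hg) _ (inv_mem hx)) (inv_mem hg2) }
  have hle : M' ≤ S := fun m hm => Or.inl hm
  have hSM : S ≤ M := by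
    rintro x (hx | hx)
    · exact hM' hx
    · have := mul_mem (hM' hx) hg
      rwa [inv_mul_cancel_right] at this
  by_cases haS : a ∈ S
  · rcases haS with h | h
    · exact haM' h
    · exact hga (by simpa using inv_mem h)
  · exact hgM' (hmax ⟨hN'.trans hle, hSM, haS⟩ hle (Or.inr (by simp)))

theorem card_le_two_mul [Finite G] {M M' : Subgroup G} {a : G}
    (h : ∀ g ∈ M, g ∈ M' ∨ g * a⁻¹ ∈ M') : Nat.card M ≤ 2 * Nat.card M' := by
  rw [← SetLike.coe_sort_coe, ← SetLike.coe_sort_coe M', Nat.card_coe_set_eq, Nat.card_coe_set_eq, two_mul]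
  refine le_trans (Set.ncard_le_ncard (t := (M' : Set G) ∪ (· * a) '' M') ?_ (Set.toFinite _)) ?_
  · intro g hg
    rcases h g hg with h | h
    · exact Or.inl h
    · exact Or.inr ⟨_, h, inv_mul_cancel_right g a⟩
  · refine (Set.ncard_union_le _ _).trans (Nat.add_le_add_left ?_ _)
    exact Set.ncard_image_le (Set.toFinite _)

/-- A function of degree `k` with a single nonzero coset has small support index. -/
theorem card_le_of_deg [Finite G] {N : Subgroup G} (hsq : ∀ x : G, x ^ 2 ∈ N)
    (hcomm : ∀ x y : G, ⁅x, y⁆ ∈ N) {k : ℕ} {M : Subgroup G} (hNM : N ≤ M) {f : G → ZMod 2}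
    (hf : Deg k f) (h1 : f 1 ≠ 0) (hoff : ∀ v ∈ M, v ∉ N → f v = 0) :
    Nat.card M ≤ 2 ^ k * Nat.card N := by
  induction k generalizing M f with
  | zero =>
    rw [pow_zero, one_mul]
    refine Nat.le_of_dvd Nat.card_pos (Subgroup.card_dvd_of_le fun v hv => ?_)
    by_contra hvN
    exact h1 ((hf v).symm.trans (hoff v hv hvN))
  | succ k ih =>
    by_cases hMN : M ≤ N
    · exact (Nat.le_of_dvd Nat.card_pos (Subgroup.card_dvd_of_le hMN)).trans
        (Nat.le_mul_of_pos_left _ (by positivity))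
    obtain ⟨a, ha, haN⟩ := SetLike.not_le_iff_exists.1 hMN
    obtain ⟨M', hN', hM', haM', hsplit⟩ :=
      exists_hyper hNM ha haN (fun x _ => hsq x) (fun x _ y _ => hcomm x y)
    have h2 := ih hN' (hf a) (by simpa [hoff a ha haN] using h1) fun v hv hvN => by
      have hva : v * a ∉ N := fun h => haM' (by simpa using mul_mem (inv_mem hv) (hN' h))
      rw [hoff _ (mul_mem (hM' hv) ha) hva, hoff v (hM' hv) hvN, add_zero]
    calc Nat.card M ≤ 2 * Nat.card M' := card_le_two_mul hsplit
      _ ≤ 2 * (2 ^ k * Nat.card N) := Nat.mul_le_mul_left 2 h2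
      _ = 2 ^ (k + 1) * Nat.card N := by ring

open scoped Classical in
/-- The indicator of the squaring map landing in `K`. -/
noncomputable def ind (K : Subgroup G) (v : G) : ZMod 2 := if v ^ 2 ∈ K then 1 else 0

open scoped Classical in
/-- The squaring map modulo a subgroup of index two in `W` has degree two. -/
theorem deg_ind_hyper {W K : Subgroup G} (hW : W ≤ center G) (hsq : ∀ x : G, x ^ 2 ∈ W)
    (hcomm : ∀ x y : G, ⁅x, y⁆ ∈ W) {e : G} (he : e ∈ W) (heK : e ∉ K)
    (hsplit : ∀ w ∈ W, w ∈ K ∨ w * e⁻¹ ∈ K) :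
    Deg 2 (ind K) ∧ ((∀ x y : G, ⁅x, y⁆ ∈ K) → Deg 1 (ind K)) := by
  set l : G → ZMod 2 := fun w => if w ∈ K then 0 else 1 with hl
  have hadd : ∀ x ∈ W, ∀ y ∈ W, l (x * y) = l x + l y := by
    intro x hx y hy
    by_cases hxK : x ∈ K <;> by_cases hyK : y ∈ K
    · simp [hl, hxK, hyK, mul_mem hxK hyK]
    · simp [hl, hxK, hyK, Subgroup.mul_mem_cancel_left K hxK]
    · simp [hl, hxK, hyK, Subgroup.mul_mem_cancel_right K hyK]
    · have hx' := (hsplit x hx).resolve_left hxK
      have hy' := (hsplit y hy).resolve_left hyK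
      have he2 : e * e ∈ K := by
        by_contra h
        have h2 := (hsplit _ (mul_mem he he)).resolve_left h
        rw [mul_inv_cancel_right] at h2
        exact heK h2
      have hxy : x * y ∈ K := by
        have hye : Commute (y * e⁻¹) e :=
          (Subgroup.mem_center_iff.1 (hW he) (y * e⁻¹))
        rw [show x * y = x * e⁻¹ * (e * (y * e⁻¹)) * e by group, ← hye.eq,
          show x * e⁻¹ * (y * e⁻¹ * e) * e = x * e⁻¹ * (y * e⁻¹) * (e * e) by group]
        exact mul_mem (mul_mem hx' hy') he2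
      simp [hl, hxK, hyK, hxy]
      decide
  have hind : ∀ v, ind K v = 1 + l (v ^ 2) := by
    intro v
    by_cases h : v ^ 2 ∈ K <;> simp [ind, hl, h]
    decide
  have hmul : ∀ a v : G, (v * a) ^ 2 = ⁅a, v⁆ * v ^ 2 * a ^ 2 := by
    intro a v
    have hc := Subgroup.mem_center_iff.1 (hW (hcomm a v)) v
    calc (v * a) ^ 2 = v * (a * v) * a := by rw [pow_two]; simp only [mul_assoc]
      _ = v * ⁅a, v⁆ * (v * a * a) := by rw [commutatorElement_def]; group
      _ = ⁅a, v⁆ * v ^ 2 * a ^ 2 := by rw [hc, pow_two, pow_two]; simp only [mul_assoc]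
  have hD : ∀ a v, ind K (v * a) + ind K v = l ⁅a, v⁆ + l (a ^ 2) := by
    intro a v
    rw [hind, hind, hmul, hadd _ (mul_mem (hcomm a v) (hsq v)) _ (hsq a),
      hadd _ (hcomm a v) _ (hsq v)]
    ring_nf
    simp [show (2 : ZMod 2) = 0 from by decide]
  refine ⟨fun a b x => ?_, fun hK a x => ?_⟩
  · have key : ∀ v, (ind K (v * b * a) + ind K (v * b)) + (ind K (v * a) + ind K v) = l ⁅a, b⁆ := by
      intro v
      have hc : ⁅a, v * b⁆ = ⁅a, v⁆ * ⁅a, b⁆ := by
        have h := Subgroup.mem_center_iff.1 (hW (hcomm a b)) v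
        calc ⁅a, v * b⁆ = ⁅a, v⁆ * (v * ⁅a, b⁆ * v⁻¹) := by simp only [commutatorElement_def]; group
          _ = ⁅a, v⁆ * ⁅a, b⁆ := by rw [h, mul_inv_cancel_right]
      rw [hD, hD, hc, hadd _ (hcomm a v) _ (hcomm a b)]
      ring_nf
      simp [show (2 : ZMod 2) = 0 from by decide]
    exact (key x).trans (key 1).symm
  · simp only [hD]
    simp [hl, hK]

/-- The indicator of the squares in `K` has degree twice the corank of `K` in `W`. -/
theorem deg_ind [Finite G] {W : Subgroup G} (hW : W ≤ center G) (hsq : ∀ x : G, x ^ 2 ∈ W)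
    (hcomm : ∀ x y : G, ⁅x, y⁆ ∈ W) (hexp : ∀ w ∈ W, w ^ 2 = 1) (j : ℕ) :
    ∀ K : Subgroup G, K ≤ W → Nat.card W = Nat.card K * 2 ^ j → Deg (2 * j) (ind K) := by
  induction j with
  | zero =>
    intro K hK hc x
    have : K = W := Subgroup.eq_of_le_of_card_ge hK (by omega)
    simp [ind, this, hsq]
  | succ j ih =>
    intro K hK hc
    obtain ⟨e, he, heK⟩ : ∃ e ∈ W, e ∉ K := by
      refine SetLike.not_le_iff_exists.1 fun h => ?_
      have h2 := Nat.le_of_dvd Nat.card_pos (Subgroup.card_dvd_of_le h)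
      rw [hc] at h2
      have : 1 < 2 ^ (j + 1) := Nat.one_lt_two_pow (by omega)
      nlinarith [Nat.card_pos (α := K)]
    have hWc : ∀ x ∈ W, ∀ y ∈ W, ⁅x, y⁆ ∈ K := fun x hx y _ => by
      rw [commutatorElement_eq_one_iff_mul_comm.2 (Subgroup.mem_center_iff.1 (hW hx) y).symm]
      exact one_mem _
    obtain ⟨H, hKH, hHW, heH, hsplit⟩ := exists_hyper hK he heK
      (fun x hx => by rw [hexp x hx]; exact one_mem _) hWc
    -- the subgroup generated by `K` and `e`
    let K₁ : Subgroup G :=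
      { carrier := {w | w ∈ W ∧ (w ∈ K ∨ w * e⁻¹ ∈ K)}
        one_mem' := ⟨one_mem _, Or.inl (one_mem _)⟩
        mul_mem' := by
          rintro x y ⟨hxW, hx⟩ ⟨hyW, hy⟩
          have hee : e⁻¹ = e := by rw [inv_eq_iff_mul_eq_one, ← pow_two, hexp e he]
          have hcy := Subgroup.mem_center_iff.1 (hW hyW)
          refine ⟨mul_mem hxW hyW, ?_⟩
          rcases hx with hx | hx <;> rcases hy with hy | hy
          · exact Or.inl (mul_mem hx hy)
          · refine Or.inr ?_
            rw [mul_assoc]; exact mul_mem hx hy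
          · refine Or.inr ?_
            rw [mul_assoc, ← hcy e⁻¹, ← mul_assoc]; exact mul_mem hx hy
          · refine Or.inl ?_
            rw [show x * y = x * e⁻¹ * (e * (y * e⁻¹) * e) by group,
              show e * (y * e⁻¹) * e = e * y by group, hcy e]
            nth_rewrite 2 [← hee]
            exact mul_mem hx hy
        inv_mem' := by
          rintro x ⟨hxW, hx⟩
          have hx' : x⁻¹ = x := by rw [inv_eq_iff_mul_eq_one, ← pow_two, hexp x hxW]
          rw [Set.mem_setOf_eq, hx']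
          exact ⟨hxW, hx⟩ }
    have hcap : ∀ w, w ∈ K ↔ w ∈ K₁ ∧ w ∈ H := by
      refine fun w => ⟨fun h => ⟨⟨hK h, Or.inl h⟩, hKH h⟩, ?_⟩
      rintro ⟨⟨-, h | h⟩, hwH⟩
      · exact h
      · exact absurd (by simpa using mul_mem (inv_mem (hKH h)) hwH) heH
    have hc₁ : Nat.card K₁ = 2 * Nat.card K := by
      refine le_antisymm (card_le_two_mul (a := e) fun w hw => hw.2) ?_
      have hle : K ≤ K₁ := fun w hw => ((hcap w).1 hw).1
      obtain ⟨d, hd⟩ := Subgroup.card_dvd_of_le hle
      have hd1 : d ≠ 1 := by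
        rintro rfl
        exact heK ((Subgroup.eq_of_le_of_card_ge hle (by omega)).symm ▸
          (show e ∈ K₁ from ⟨he, Or.inr (by simp)⟩))
      have hd0 : d ≠ 0 := by rintro rfl; exact Nat.card_pos.ne' (by simpa using hd)
      rw [hd, mul_comm]
      exact Nat.mul_le_mul_left _ (by omega)
    have h1 := ih K₁ (fun w hw => hw.1) (by rw [hc₁, hc, pow_succ]; ring)
    refine ((h1.mul (deg_ind_hyper hW hsq hcomm he heH hsplit).1)).congr fun v => ?_
    by_cases hv1 : v ^ 2 ∈ K₁ <;> by_cases hv2 : v ^ 2 ∈ H <;>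
      simp [ind, hcap, hv1, hv2]

end CfsgLib.QuadraticSquares
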