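import Mathlib
import Cfsg.Agent.Lib.PGroup.CoprimeOrbits

/-!
# Coprime orbits in ordinary representations
-/

set_option autoImplicit false

namespace CfsgLib.CoprimeOrbit

universe u v w

variable {k : Type u} [Field k] {V : Type v} [AddCommGroup V] [Module k V] {H : Type w} [Group H]
  [Finite H] (ρ : Representation k H V)

/-- Fixed vectors in an orbit span when the group order is invertible. -/
theorem mem_span_osum_ordinary (hchar : (Nat.card H : k) ≠ 0) (a v : V)
    (hv : v ∈ Submodule.span k (Set.range fun h : H => ρ h a)) (hfix : ∀ h : H, ρ h v = v) :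
    v ∈ Submodule.span k {osum ρ a} := by
  classical
  haveI : Fintype (H ⧸ vstab ρ a) := Fintype.ofFinite _
  obtain ⟨T, hT1, hT2, hT3⟩ := exists_average ρ ⊥ ⊤ inferInstance inferInstance (by
    rwa [Subgroup.relIndex_bot_left, Nat.card_congr Subgroup.topEquiv.toEquiv])
  have h0 : ∀ x : V, ∀ n ∈ (⊥ : Subgroup H), ρ n x = x := fun x n hn => by
    rw [Subgroup.mem_bot.1 hn, map_one]; rfl
  have hTa : ∀ g, ρ g (T a) = T a := fun g => hT1 a (h0 a) g (Subgroup.mem_top g)
  have hmem : v ∈ Submodule.span k {T a} := by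
    have h1 : (Submodule.span k (Set.range fun h : H => ρ h a)).map T ≤ Submodule.span k {T a} := by
      rw [Submodule.map_span, Submodule.span_le]
      rintro _ ⟨_, ⟨g, rfl⟩, rfl⟩
      change T (ρ g a) ∈ Submodule.span k {T a}
      rw [hT2 a (h0 a) g, hTa g]
      exact Submodule.mem_span_singleton_self _
    have := h1 (Submodule.mem_map_of_mem hv)
    rwa [hT3 v fun g _ => hfix g] at this
  have hsum : osum ρ a = (Nat.card (H ⧸ vstab ρ a) : k) • T a := by
    rw [← hT3 (osum ρ a) fun g _ => osum_fixed ρ a g, osum_eq_sum_quotient, map_sum,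
      Finset.sum_congr rfl fun q _ => (hT2 a (h0 a) _).trans (hTa _), Finset.sum_const, Finset.card_univ,
      ← Nat.card_eq_fintype_card, Nat.cast_smul_eq_nsmul]
  have hne : (Nat.card (H ⧸ vstab ρ a) : k) ≠ 0 := fun h => hchar (by
    rw [Subgroup.card_eq_card_quotient_mul_card_subgroup (vstab ρ a), Nat.cast_mul, h, zero_mul])
  rw [Submodule.mem_span_singleton] at hmem ⊢
  obtain ⟨c, rfl⟩ := hmem
  exact ⟨c * (Nat.card (H ⧸ vstab ρ a) : k)⁻¹, by rw [hsum, smul_smul, mul_assoc, inv_mul_cancel₀ hne, mul_one]⟩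

theorem range_restrict_eq (a b : V) (hcop : (vstab ρ a).index.Coprime (vstab ρ b).index) :
    (Set.range fun x : vstab ρ b => ρ (x : H) a) = Set.range fun h : H => ρ h a := by
  let ρB : Representation k (vstab ρ b) V := ρ.comp (vstab ρ b).subtype
  have hstab : vstab ρB a = (vstab ρ a).subgroupOf (vstab ρ b) := rfl
  refine Set.eq_of_subset_of_ncard_le ?_ ?_ (Set.finite_range _)
  · rintro _ ⟨x, rfl⟩; exact ⟨x, rfl⟩
  · rw [← Nat.card_coe_set_eq, ← Nat.card_coe_set_eq]
    refine (index_vstab ρ a).symm.le.trans (le_trans ?_ (index_vstab ρB a).le)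
    rw [hstab]
    refine Nat.le_of_dvd (Nat.pos_of_ne_zero Subgroup.index_ne_zero_of_finite) ?_
    refine hcop.dvd_of_dvd_mul_right ?_
    change _ ∣ (vstab ρ a).relIndex (vstab ρ b) * _
    rw [← Subgroup.inf_relIndex_right, Subgroup.relIndex_mul_index inf_le_right]
    exact Subgroup.index_dvd_of_le inf_le_left

theorem spanning_orbit_ordinary (hchar : ¬ ringChar k ∣ Nat.card H) (a : V)
    (hspan : Submodule.span k (Set.range fun h : H => ρ h a) = ⊤) :
    Module.finrank k ρ.invariants ≤ 1 ∧
      ∀ b : V, ((vstab ρ a).index).Coprime (vstab ρ b).index → ∀ h : H, ρ h b = b := by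
  have hne : ∀ (B : Subgroup H), (Nat.card B : k) ≠ 0 := fun B h => hchar <| by
    rw [← ringChar.spec]
    obtain ⟨c, hc⟩ := B.card_subgroup_dvd_card
    rw [hc, Nat.cast_mul, h, zero_mul]
  have hneH : (Nat.card H : k) ≠ 0 := fun h => hchar ((ringChar.spec k _).1 h)
  refine ⟨?_, fun b hcop => ?_⟩
  · have hle : ρ.invariants ≤ Submodule.span k {osum ρ a} := fun v hv =>
      mem_span_osum_ordinary ρ hneH a v (by rw [hspan]; exact Submodule.mem_top) hv
    refine (Submodule.finrank_mono hle).trans ?_
    simpa using finrank_span_le_card ({osum ρ a} : Set V)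
  · let ρB : Representation k (vstab ρ b) V := ρ.comp (vstab ρ b).subtype
    have horb := range_restrict_eq ρ a b hcop
    have hb := mem_span_osum_ordinary ρB (hne _) a b
      (by rw [show (Set.range fun x : vstab ρ b => ρB x a) = Set.range fun h : H => ρ h a from horb, hspan]
          exact Submodule.mem_top) (fun x => x.2)
    have hs : osum ρB a = osum ρ a := by
      rw [osum, osum]
      refine Finset.sum_congr ?_ fun u _ => rfl
      ext u
      rw [Set.Finite.mem_toFinset, Set.Finite.mem_toFinset]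
      exact Set.ext_iff.1 horb u
    intro h
    rw [hs, Submodule.mem_span_singleton] at hb
    obtain ⟨c, rfl⟩ := hb
    rw [map_smul, osum_fixed]

end CfsgLib.CoprimeOrbit
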