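import Cfsg.Agent.Lib.PGroup.NormalRankTwo
import Cfsg.Agent.Lib.Invol.MaxClassTwo

/-!
# Nonabelian `p`-groups with a cyclic maximal subgroup
-/

set_option autoImplicit false
set_option linter.style.haveILetI false
set_option linter.unusedSectionVars false

open Subgroup
open scoped commutatorElement

namespace CfsgLib.PGroup

universe u

variable {G : Type u} [Group G] [Finite G]

/-- The odd case: the modular group. -/
theorem exists_modular_generators {p : ℕ} [hpf : Fact p.Prime] (hp : p ≠ 2) (n : ℕ) (hn : 3 ≤ n)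
    (hG : Nat.card G = p ^ n) (C : Subgroup G) (hC : IsCyclic C) (hCi : C.index = p)
    (hna : ∃ x y : G, x * y ≠ y * x) :
    ∃ a b : G, orderOf a = p ^ (n - 1) ∧ orderOf b = p ∧ b ∉ zpowers a ∧
      b * a * b⁻¹ = a ^ (1 + p ^ (n - 2)) := by
  obtain ⟨m, rfl⟩ := Nat.exists_eq_add_of_le hn
  have hpp := hpf.out
  have hR : IsPGroup p G := IsPGroup.of_card hG
  haveI := hC
  haveI hCn : C.Normal := normal_of_index_eq_minFac_card (by
    rw [hG, Nat.pow_minFac (by omega), hpp.minFac_eq, hCi])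
  have hnc : ¬ IsCyclic G := fun h => by
    obtain ⟨x, y, hxy⟩ := hna
    exact hxy (IsCyclic.commGroup.mul_comm x y)
  obtain ⟨hW, hWc⟩ := omega_of_cyclic_extension hR hp (isCyclic_of_prime_card (p := p) (α := G ⧸ C) hCi) hnc
  set W := Subgroup.closure {x : G | x ^ p = 1} with hWdef
  haveI : W.Normal := ⟨fun w hw g => subset_closure (by
    show (g * w * g⁻¹) ^ p = 1
    rw [conj_pow, hW.2 w hw, mul_one, mul_inv_cancel])⟩
  obtain ⟨a', ha'⟩ := IsCyclic.exists_generator (α := C)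
  obtain ⟨a, ha⟩ := a'
  have hza : zpowers a = C := by
    refine le_antisymm (zpowers_le.2 ha) fun x hx => ?_
    obtain ⟨i, hi⟩ := mem_zpowers_iff.1 (ha' ⟨x, hx⟩)
    exact ⟨i, congrArg Subtype.val hi⟩
  have hcardC : Nat.card C = p ^ (m + 2) := by
    have h1 := C.card_mul_index
    rw [hCi, hG, show 3 + m = (m + 2) + 1 by omega, pow_succ] at h1
    exact Nat.eq_of_mul_eq_mul_right hpp.pos h1
  have hord : orderOf a = p ^ (m + 2) := by rw [← Nat.card_zpowers, hza, hcardC]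
  obtain ⟨b, hbW, hbC⟩ : ∃ b ∈ W, b ∉ C := by
    by_contra h
    push Not at h
    have h1 := CfsgLib.MetacyclicOmega.card_pow_eq_one_le (A := C) W h hW.2
    rw [hWc] at h1
    exact absurd ((pow_one p).symm ▸ h1) (not_le.2 (Nat.pow_lt_pow_right hpp.one_lt one_lt_two))
  set c := b * a * b⁻¹ * a⁻¹ with hc
  have hcC : c ∈ C := mul_mem (hCn.conj_mem a ha b) (inv_mem ha)
  have hcW : c ∈ W := by
    rw [hc, show b * a * b⁻¹ * a⁻¹ = b * (a * b⁻¹ * a⁻¹) by group]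
    exact mul_mem hbW (Normal.conj_mem inferInstance _ (inv_mem hbW) a)
  obtain ⟨i, hi : a ^ i = c⟩ := mem_zpowers_iff.1 (hza ▸ hcC)
  have hdvd : ((p ^ (m + 1) : ℕ) : ℤ) ∣ i := by
    have h1 : a ^ (i * p) = 1 := by rw [zpow_mul, zpow_natCast, hi, hW.2 c hcW]
    rw [← orderOf_dvd_iff_zpow_eq_one, hord] at h1
    refine Int.dvd_of_mul_dvd_mul_right (a := (p : ℤ)) (by exact_mod_cast hpp.ne_zero) ?_
    rwa [← Nat.cast_mul, ← pow_succ]
  obtain ⟨j, rfl⟩ := hdvd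
  set z := a ^ p ^ (m + 1) with hz
  have hzc : c = z ^ j := by rw [← hi, zpow_mul, zpow_natCast]
  have hzp : z ^ p = 1 := by rw [hz, ← pow_mul, ← pow_succ, ← hord, pow_orderOf_eq_one]
  have hbz : Commute b z := by
    refine congrArg Subtype.val (isMulCommutative_iff.1 hW.1 ⟨b, hbW⟩ ⟨z, ?_⟩)
    exact subset_closure hzp
  have hcomm : ¬ Commute b a := fun hcom => by
    obtain ⟨x, y, hxy⟩ := hna
    have htop : C ⊔ zpowers b = ⊤ := by
      have h1 := relIndex_mul_index (H := C) (K := C ⊔ zpowers b) le_sup_left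
      rw [hCi] at h1
      rcases (Nat.dvd_prime hpp).1 (Dvd.intro_left _ h1) with h2 | h2
      · exact index_eq_one.1 h2
      · rw [h2] at h1
        exact absurd (relIndex_eq_one.1 ((Nat.mul_eq_right hpp.ne_zero).1 h1) (mem_sup_right (mem_zpowers b))) hbC
    have hall : ∀ g : G, ∃ s t : ℤ, g = a ^ s * b ^ t := fun g => by
      obtain ⟨u, hu, v, ⟨t, rfl⟩, rfl⟩ := mem_sup_of_normal_left.1 (htop ▸ mem_top g)
      obtain ⟨s, rfl⟩ := mem_zpowers_iff.1 (hza ▸ hu)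
      exact ⟨s, t, rfl⟩
    obtain ⟨s, t, rfl⟩ := hall x
    obtain ⟨s', t', rfl⟩ := hall y
    exact hxy ((((Commute.zpow_zpow_self a s s').mul_right ((hcom.symm.zpow_zpow s t'))).mul_left
      ((hcom.zpow_zpow t s').mul_right (Commute.zpow_zpow_self b t t'))).eq)
  have hj : ¬ (p : ℤ) ∣ j := by
    rintro ⟨q, rfl⟩
    refine hcomm ?_
    rw [zpow_mul, zpow_natCast, hzp, one_zpow, hc, mul_inv_eq_one, mul_inv_eq_iff_eq_mul] at hzc
    exact hzc
  obtain ⟨k, q, hk⟩ : IsCoprime j (p : ℤ) :=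
    ((Nat.prime_iff_prime_int.1 hpp).coprime_iff_not_dvd.2 hj).symm
  have hb1 : b * a * b⁻¹ = z ^ j * a := by rw [← hzc, hc, inv_mul_cancel_right]
  have hpow : ∀ k : ℕ, b ^ k * a * (b ^ k)⁻¹ = (z ^ j) ^ k * a := by
    intro k
    induction k with
    | zero => simp
    | succ k ih =>
      rw [pow_succ' b, mul_inv_rev, show b * b ^ k * a * ((b ^ k)⁻¹ * b⁻¹) =
        b * (b ^ k * a * (b ^ k)⁻¹) * b⁻¹ by group, ih]
      calc b * ((z ^ j) ^ k * a) * b⁻¹ = (b * (z ^ j) ^ k * b⁻¹) * (b * a * b⁻¹) := by group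
        _ = (z ^ j) ^ (k + 1) * a := by
          rw [((hbz.zpow_right j).pow_right k).eq, mul_inv_cancel_right, hb1, ← mul_assoc, ← pow_succ]
  have hk0 : (0 : ℤ) ≤ k % p := Int.emod_nonneg _ (by exact_mod_cast hpp.ne_zero)
  set k' := (k % p).toNat with hk'
  have hk'e : (k' : ℤ) = k % p := Int.toNat_of_nonneg hk0
  have hzone : z ^ (j * k') = z := by
    have h2 : z ^ ((p : ℤ) * (-(j * (k / p)) - q)) = 1 := by rw [zpow_mul, zpow_natCast, hzp, one_zpow]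
    calc z ^ (j * k') = z ^ ((1 : ℤ) + p * (-(j * (k / p)) - q)) := by
          congr 1
          rw [hk'e, Int.emod_def]
          linear_combination hk
      _ = z := by rw [zpow_add, zpow_one, h2, mul_one]
  refine ⟨a, b ^ k', ?_, ?_, ?_, ?_⟩
  · rw [hord]; congr 1; omega
  · refine orderOf_eq_prime (by rw [← pow_mul, mul_comm, pow_mul, hW.2 b hbW, one_pow]) fun h => ?_
    have h1 := hpow k'
    rw [h, ← zpow_natCast, ← zpow_mul, hzone, one_mul, inv_one, mul_one] at h1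
    have h2 : z = 1 := right_eq_mul.1 (by rw [← h1])
    rw [hz, ← orderOf_dvd_iff_pow_eq_one, hord, Nat.pow_dvd_pow_iff_le_right hpp.one_lt] at h2
    omega
  · rw [hza]
    intro h
    have h1 := hpow k'
    obtain ⟨s, hs⟩ := mem_zpowers_iff.1 (hza ▸ h)
    rw [← hs, (Commute.zpow_self a s).eq, mul_inv_cancel_right, ← zpow_natCast (z ^ j), ← zpow_mul,
      hzone] at h1
    have h2 : z = 1 := right_eq_mul.1 (by rw [← h1])
    rw [hz, ← orderOf_dvd_iff_pow_eq_one, hord, Nat.pow_dvd_pow_iff_le_right hpp.one_lt] at h2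
    omega
  · rw [hpow, ← zpow_natCast (z ^ j), ← zpow_mul, hzone, hz, show 3 + m - 2 = m + 1 by omega,
      ← pow_succ, Nat.add_comm (p ^ (m + 1)) 1]

/-- The even case: dihedral, quaternion, modular and semidihedral groups. -/
theorem exists_cyclic_index_two_generators (n : ℕ) (hn : 3 ≤ n) (hG : Nat.card G = 2 ^ n)
    (C : Subgroup G) (hC : IsCyclic C) (hCi : C.index = 2) (hna : ∃ x y : G, x * y ≠ y * x) :
    ∃ a b : G, orderOf a = 2 ^ (n - 1) ∧ b ∉ zpowers a ∧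
      ((b ^ 2 = 1 ∧ b * a * b⁻¹ = a⁻¹) ∨ (b ^ 2 = a ^ (2 ^ (n - 2)) ∧ b * a * b⁻¹ = a⁻¹) ∨
        (4 ≤ n ∧ b ^ 2 = 1 ∧ b * a * b⁻¹ = a ^ (1 + 2 ^ (n - 2))) ∨
        (4 ≤ n ∧ b ^ 2 = 1 ∧ b * a * b⁻¹ = a ^ (2 ^ (n - 2) - 1))) := by
  obtain ⟨m, rfl⟩ := Nat.exists_eq_add_of_le hn
  rw [show 3 + m - 1 = m + 2 by omega, show 3 + m - 2 = m + 1 by omega]
  obtain ⟨a', ha'⟩ := IsCyclic.exists_generator (α := C)
  obtain ⟨a, ha⟩ := a'
  have hza : zpowers a = C := by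
    refine le_antisymm (zpowers_le.2 ha) fun x hx => ?_
    obtain ⟨i, hi⟩ := mem_zpowers_iff.1 (ha' ⟨x, hx⟩)
    exact ⟨i, congrArg Subtype.val hi⟩
  have hord : orderOf a = 2 ^ (m + 2) := by
    have h1 := C.card_mul_index
    rw [hCi, hG, show 3 + m = (m + 2) + 1 by omega, pow_succ] at h1
    rw [← Nat.card_zpowers, hza]
    exact Nat.eq_of_mul_eq_mul_right two_pos h1
  obtain ⟨b, hb⟩ : ∃ b, b ∉ zpowers a := by
    by_contra h
    push Not at h
    rw [← hza, index_eq_one.2 (eq_top_iff.2 fun x _ => h x)] at hCi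
    omega
  obtain ⟨r, e, F⟩ := CfsgLib.Invol.exists_frame (hza ▸ hCi) hb
  rw [hord] at F
  have hr1 : ¬ ((2 : ℤ) ^ (m + 2) ∣ r - 1) := fun h => by
    obtain ⟨x, y, hxy⟩ := hna
    have hab : Commute b a := by
      show b * a = a * b
      rw [← zpow_one a, F.b_mul_zpow, mul_one]
      congr 1
      rw [F.zpow_eq_iff, ← sub_eq_zero, ← Int.cast_sub, ZMod.intCast_zmod_eq_zero_iff_dvd]
      exact_mod_cast h
    refine hxy ?_
    obtain ⟨i, rfl | rfl⟩ := F.exists_eq x <;> obtain ⟨j, rfl | rfl⟩ := F.exists_eq y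
    · exact (Commute.zpow_zpow_self a i j).eq
    · exact ((Commute.zpow_zpow_self a i j).mul_right ((hab.zpow_right i).symm)).eq
    · exact ((Commute.zpow_zpow_self a i j).mul_left (hab.zpow_right j)).eq
    · exact (((Commute.zpow_zpow_self a i j).mul_right ((hab.zpow_right i).symm)).mul_left
        ((hab.zpow_right j).mul_right (Commute.refl b))).eq
  have hsq : (2 : ℤ) ^ (m + 2) ∣ (r - 1) * (r + 1) := by
    have h : (((r * r - 1 : ℤ)) : ZMod (2 ^ (m + 2))) = 0 := by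
      push_cast; rw [F.mul_sq_conj, sub_self]
    rw [ZMod.intCast_zmod_eq_zero_iff_dvd] at h
    rw [show (r - 1) * (r + 1) = r * r - 1 by ring]
    exact_mod_cast h
  have he : (2 : ℤ) ^ (m + 2) ∣ (r - 1) * e := by
    have h : ((((r - 1) * e : ℤ)) : ZMod (2 ^ (m + 2))) = 0 := by
      push_cast; rw [sub_mul, one_mul, F.mul_e, sub_self]
    rw [ZMod.intCast_zmod_eq_zero_iff_dvd] at h
    exact_mod_cast h
  have hodd : r % 2 = 1 := by
    by_contra h
    have h2 : (2 : ℤ) ∣ (r - 1) * (r + 1) := (dvd_pow_self 2 (by omega)).trans hsq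
    rcases Int.prime_two.dvd_mul.1 h2 with h3 | h3 <;> omega
  have hcancel : ∀ u x : ℤ, u % 4 = 2 → (2 : ℤ) ^ (m + 2) ∣ u * x → (2 : ℤ) ^ (m + 1) ∣ x := by
    intro u x hu hx
    obtain ⟨w, rfl⟩ : (2 : ℤ) ∣ u := by omega
    have hw : IsCoprime ((2 : ℤ) ^ (m + 1)) w :=
      IsCoprime.pow_left ⟨-(w / 2), 1, by have := Int.emod_add_mul_ediv w 2; omega⟩
    refine hw.dvd_of_dvd_mul_left (Int.dvd_of_mul_dvd_mul_left (two_ne_zero (α := ℤ)) ?_)
    rwa [← pow_succ', ← mul_assoc]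
  have hh : (2 : ℤ) * 2 ^ (m + 1) = 2 ^ (m + 2) := (pow_succ' 2 _).symm
  have hzero : ∀ x : ℤ, ((x : ℤ) : ZMod (2 ^ (m + 2))) = 0 ↔ (2 : ℤ) ^ (m + 2) ∣ x := fun x => by
    rw [ZMod.intCast_zmod_eq_zero_iff_dvd]; norm_cast
  have hcongr : ∀ x y : ℤ, (2 : ℤ) ^ (m + 2) ∣ x - y →
      ((x : ℤ) : ZMod (2 ^ (m + 2))) = y := fun x y h => by
    rw [← sub_eq_zero, ← Int.cast_sub, hzero]; exact h
  have hout : ∀ {r' e' : ℤ} {b' : G}, CfsgLib.Invol.CyclicFrame (2 ^ (m + 2)) r' e' a b' →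
      orderOf a = 2 ^ (m + 2) ∧ b' ∉ zpowers a ∧ b' * a * b'⁻¹ = a ^ r' ∧ b' ^ 2 = a ^ e' :=
    fun F => ⟨hord, F.notMem, F.conj, (pow_two _).trans F.sq⟩
  have hr4 : r % 4 = 1 ∨ r % 4 = 3 := by omega
  rcases hr4 with h4 | h4
  · -- modular
    obtain ⟨q, hq⟩ := hcancel (r + 1) (r - 1) (by omega) (by rwa [mul_comm])
    have hqo : q % 2 = 1 := by
      by_contra h
      obtain ⟨q', rfl⟩ : (2 : ℤ) ∣ q := by omega
      exact hr1 ⟨q', by rw [hq, ← hh]; ring⟩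
    have hm : 1 ≤ m := by
      by_contra h
      obtain rfl : m = 0 := by omega
      norm_num at hq
      omega
    obtain ⟨l, rfl⟩ : (2 : ℤ) ∣ e := by
      have h1 : (2 : ℤ) ^ (m + 2) ∣ 2 ^ (m + 1) * (q * e) := by
        rw [← mul_assoc, ← hq]; exact he
      rw [← hh, mul_comm (2 : ℤ)] at h1
      rcases Int.prime_two.dvd_mul.1 ((mul_dvd_mul_iff_left (by positivity)).1 h1) with h2 | h2
      · omega
      · exact h2
    have F1 : CfsgLib.Invol.CyclicFrame (2 ^ (m + 2)) (1 + 2 ^ (m + 1)) (2 * l) a b :=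
      F.congr (hcongr _ _ ⟨-(q / 2), by
        have h2 : q = 1 + 2 * (q / 2) := by omega
        rw [show r = 1 + 2 ^ (m + 1) * q by rw [← hq]; ring, ← hh]
        nth_rw 1 [h2]
        ring⟩) rfl
    obtain ⟨k, rfl⟩ : ∃ k, m = k + 1 := ⟨m - 1, by omega⟩
    have F2 := (F1.shift (-l * (1 - 2 ^ (k + 1)))).congr (r' := 1 + 2 ^ (k + 1 + 1)) (e' := 0) rfl
      (hcongr _ _ ⟨-l * 2 ^ k, by ring⟩)
    obtain ⟨h1, h2, h3, h5⟩ := hout F2
    refine ⟨a, _, h1, h2, Or.inr (Or.inr (Or.inl ⟨by omega, by rw [h5, zpow_zero], ?_⟩))⟩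
    rw [h3, ← zpow_natCast]; push_cast; rfl
  · obtain ⟨q, hq⟩ := hcancel (r - 1) (r + 1) (by omega) hsq
    obtain ⟨l, hl⟩ := hcancel (r - 1) e (by omega) he
    rcases Int.even_or_odd' q with ⟨q', rfl | rfl⟩
    · have hr' : ((-1 : ℤ) : ZMod (2 ^ (m + 2))) = r := hcongr _ _ ⟨-q', by
        rw [show r = 2 ^ (m + 1) * (2 * q') - 1 by rw [← hq]; ring, ← hh]; ring⟩
      rcases Int.even_or_odd' l with ⟨l', rfl | rfl⟩
      · obtain ⟨h1, h2, h3, h5⟩ := hout (F.congr (e' := 0) hr'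
          (hcongr _ _ ⟨-l', by rw [hl, ← hh]; ring⟩))
        exact ⟨a, b, h1, h2, Or.inl ⟨by rw [h5, zpow_zero], by rw [h3, zpow_neg_one]⟩⟩
      · obtain ⟨h1, h2, h3, h5⟩ := hout (F.congr (e' := 2 ^ (m + 1)) hr'
          (hcongr _ _ ⟨-l', by rw [hl, ← hh]; ring⟩))
        refine ⟨a, b, h1, h2, Or.inr (Or.inl ⟨?_, by rw [h3, zpow_neg_one]⟩)⟩
        rw [h5, ← zpow_natCast]; push_cast; rfl
    · have hm : 1 ≤ m := by
        by_contra h
        obtain rfl : m = 0 := by omega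
        norm_num at hq
        omega
      have hr' : ((2 ^ (m + 1) - 1 : ℤ) : ZMod (2 ^ (m + 2))) = r := hcongr _ _ ⟨-q', by
        rw [show r = 2 ^ (m + 1) * (2 * q' + 1) - 1 by rw [← hq]; ring, ← hh]; ring⟩
      obtain ⟨b', F2⟩ : ∃ b', CfsgLib.Invol.CyclicFrame (2 ^ (m + 2)) (2 ^ (m + 1) - 1) 0 a b' := by
        rcases Int.even_or_odd' l with ⟨l', rfl | rfl⟩
        · exact ⟨b, F.congr hr' (hcongr _ _ ⟨-l', by rw [hl, ← hh]; ring⟩)⟩
        · exact ⟨_, ((F.congr (e' := 2 ^ (m + 1)) hr' (hcongr _ _ ⟨-l', by rw [hl, ← hh]; ring⟩)).shift 1).congr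
            rfl (hcongr _ _ ⟨-1, by rw [← hh]; ring⟩)⟩
      obtain ⟨h1, h2, h3, h5⟩ := hout F2
      refine ⟨a, b', h1, h2, Or.inr (Or.inr (Or.inr ⟨by omega, by rw [h5, zpow_zero], ?_⟩))⟩
      rw [h3, ← zpow_natCast]
      congr 1
      have : 1 ≤ 2 ^ (m + 1) := Nat.one_le_two_pow
      push_cast [this]
      rfl

end CfsgLib.PGroup
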