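import Cfsg.Agent.Lib.Block.PSolvableOne
import Cfsg.Agent.Lib.Fusion.FFPair.Holomorph
import Cfsg.Agent.Lib.Fusion.OffenderFree
import Cfsg.Agent.Lib.Fusion.ThompsonComplement
import Cfsg.Agent.Lib.Coprime.SchurZassenhaus
import Cfsg.Agent.Lib.Coprime.PGroupFrattini

/-!
# A cyclic subgroup normal in a Sylow subgroup lies in `O_{p',p}`
-/

set_option autoImplicit false
set_option linter.style.haveILetI false

open Subgroup
open scoped commutatorElement
open CfsgLib.Coprime (conjBy conjBy_conjBy conjBy_eq_self_iff card_conjBy conj_mem_conjBy)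

namespace CfsgLib.PGroup.CyclicNormalCore

universe u

variable {G : Type u} [Group G] [Finite G] {p : ℕ} [hp : Fact p.Prime]

/-- An element fixed by `y ^ 2` is fixed by `y` when `y` has odd order. -/
theorem commute_of_sq {y w : G} (hy : (orderOf y).Coprime 2) (h : Commute (y ^ 2) w) : Commute y w := by
  obtain ⟨j, hj⟩ := exists_pow_eq_self_of_coprime hy.symm
  rw [← hj]
  exact h.pow_left j

/-- Powers of `v * n` when `n * v * n⁻¹ = u * v` with `u`, `v` commuting and `n` commuting with `u`. -/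
theorem mul_pow_twist {v n u : G} (hnv : n * v * n⁻¹ = u * v) (huv : Commute u v) (hnu : Commute n u)
    (i : ℕ) : (v * n) ^ i = v ^ i * u ^ i.choose 2 * n ^ i := by
  induction i with
  | zero => simp
  | succ i ih =>
    have h : n ^ i * v = u ^ i * v * n ^ i := by
      clear ih
      induction i with
      | zero => simp
      | succ j hj =>
        calc n ^ (j + 1) * v = n * (n ^ j * v) := by rw [pow_succ', mul_assoc]
          _ = n * u ^ j * v * n ^ j := by rw [hj]; simp only [mul_assoc]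
          _ = u ^ j * (n * v * n⁻¹) * n * n ^ j := by rw [(hnu.pow_right j).eq]; group
          _ = u ^ (j + 1) * v * n ^ (j + 1) := by rw [hnv, pow_succ' n j, pow_succ u j]; simp only [mul_assoc]
    calc (v * n) ^ (i + 1) = v ^ i * u ^ i.choose 2 * (n ^ i * v) * n := by
          rw [pow_succ, ih]; simp only [mul_assoc]
      _ = v ^ i * (u ^ i.choose 2 * u ^ i * v) * (n ^ i * n) := by rw [h]; simp only [mul_assoc]
      _ = v ^ (i + 1) * u ^ (i + 1).choose 2 * n ^ (i + 1) := by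
        rw [← pow_add, (huv.pow_left _).eq, Nat.choose_succ_succ', Nat.choose_one_right,
          add_comm i (i.choose (1 + 1)), ← pow_succ, pow_succ v]
        simp only [mul_assoc]

/-- The central case: a faithful elementary abelian normal `V`, an element of order `p` modulo `V`
generating a cyclic subgroup normalized by `V`. -/
theorem core (V : Subgroup G) [V.Normal] (hV : Cfsg.IsElementaryAbelian p V)
    (hCV : centralizer (V : Set G) ≤ V)
    (hK : centralizer (Cfsg.pPrimeCore p (G ⧸ V) : Set (G ⧸ V)) ≤ Cfsg.pPrimeCore p (G ⧸ V))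
    (h : p ≠ 2 ∨ ¬ Cfsg.Involves (Equiv.Perm (Fin 4)) G) {a : G} (haV : a ∉ V) (hap : a ^ p ∈ V)
    (hA : V ≤ normalizer (zpowers a : Set G)) : False := by
  classical
  have hVc : ∀ x ∈ V, ∀ y ∈ V, x * y = y * x := fun x hx y hy =>
    congrArg Subtype.val (isMulCommutative_iff.1 hV.1 ⟨x, hx⟩ ⟨y, hy⟩)
  haveI : IsMulCommutative V := hV.1
  have hVn : ∀ g : G, ∀ x ∈ V, g * x * g⁻¹ ∈ V := fun g x hx => (inferInstance : V.Normal).conj_mem x hx g
  have hVp : IsPGroup p V := fun x => ⟨1, Subtype.ext (by simpa using hV.2 x x.2)⟩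
  set Kb := Cfsg.pPrimeCore p (G ⧸ V) with hKb
  set M := Kb.comap (QuotientGroup.mk' V) with hM
  have hVM : V ≤ M := QuotientGroup.le_comap_mk' V Kb
  obtain ⟨e, he⟩ := IsPGroup.iff_card.1 hVp
  have hMcard : Nat.card M = Nat.card V * Nat.card Kb := by
    rw [CfsgLib.Coprime.card_eq_card_mul_card_map_mk' V hVM, hM,
      map_comap_eq_self_of_surjective (QuotientGroup.mk'_surjective V)]
  have hKbp : (Nat.card Kb).Coprime p := CfsgLib.Coprime.pPrimeCore_coprime hp.out
  obtain ⟨K1, hK1⟩ := Subgroup.exists_right_complement'_of_coprime (N := V.subgroupOf M) (by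
    have hc : Nat.card (V.subgroupOf M) = Nat.card V := Nat.card_congr (subgroupOfEquivOfLe hVM).toEquiv
    have hi : (V.subgroupOf M).index = Nat.card Kb := by
      have h1 := (V.subgroupOf M).card_mul_index
      rw [hc, hMcard] at h1
      exact Nat.eq_of_mul_eq_mul_left Nat.card_pos h1
    rw [hc, hi, he]
    exact hKbp.symm.pow_left e)
  set K := K1.map M.subtype with hKdef
  have hKcard : Nat.card K = Nat.card Kb := by
    rw [hKdef, card_map_of_injective M.subtype_injective]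
    have h1 := hK1.card_mul
    rw [Nat.card_congr (subgroupOfEquivOfLe hVM).toEquiv, hMcard] at h1
    exact Nat.eq_of_mul_eq_mul_left Nat.card_pos h1
  have hcopK : (Nat.card K).Coprime (Nat.card V) := by rw [hKcard, he]; exact hKbp.pow_right e
  have hKV : K ⊓ V = ⊥ := inf_eq_bot_of_coprime hcopK
  have hKN : K ≤ normalizer (V : Set G) := by
    rw [normalizer_eq_top_iff.2 (inferInstance : V.Normal)]; exact le_top
  have hMsup : M ≤ K ⊔ V := by
    intro x hx
    have h1 : (⟨x, hx⟩ : M) ∈ V.subgroupOf M ⊔ K1 := by rw [hK1.sup_eq_top]; exact mem_top _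
    obtain ⟨y, hy, z, hz, hyz⟩ := mem_sup_of_normal_left.1 h1
    rw [show x = (y : G) * z from congrArg Subtype.val hyz.symm, sup_comm]
    exact mul_mem_sup hy ⟨z, hz, rfl⟩
  have hKmap : ∀ q ∈ Kb, ∃ k ∈ K, QuotientGroup.mk' V k = q := by
    intro q hq
    obtain ⟨x, rfl⟩ := QuotientGroup.mk'_surjective V q
    obtain ⟨k, hk, w, hw, rfl⟩ := CfsgLib.Coprime.mem_sup_exists hKN
      (show x ∈ V ⊔ K by rw [sup_comm]; exact hMsup hq)
    first
    | exact ⟨w, hw, by rw [map_mul, show QuotientGroup.mk' V k = 1 from (QuotientGroup.eq_one_iff k).2 hk, one_mul]⟩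
    | exact ⟨k, hk, by rw [map_mul, show QuotientGroup.mk' V w = 1 from (QuotientGroup.eq_one_iff w).2 hw, mul_one]⟩
  -- `a = v * n` with `n` normalizing `K`
  have hconj : CfsgLib.Coprime.conjBy a K ≤ K ⊔ V := by
    refine le_trans ?_ hMsup
    rintro _ ⟨k, hk, rfl⟩
    obtain ⟨m, -, rfl⟩ := hk
    haveI : M.Normal := (inferInstance : Kb.Normal).comap _
    exact (inferInstance : M.Normal).conj_mem _ m.2 a
  obtain ⟨x, hxV, hx⟩ := CfsgLib.Coprime.sz_conj_in hKN hcopK.symm hconj (card_conjBy a K)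
    (Or.inr (CfsgLib.Coprime.isSolvable_of_isMulCommutative inferInstance))
  rw [conjBy_conjBy, conjBy_eq_self_iff] at hx
  set n := x * a with hn
  have hav : a = x⁻¹ * n := by rw [hn, inv_mul_cancel_left]
  set v := x⁻¹ with hvdef
  have hvV : v ∈ V := inv_mem hxV
  set C := V ⊓ centralizer (K : Set G) with hC
  set W := ⁅V, K⁆ with hW
  have hKVn : K ≤ normalizer (V : Set G) := hKN
  have hWV : W ≤ V := commutator_le_left V K
  have hWC : C ⊓ W = ⊥ := CfsgLib.Coprime.centralizer_inf_commutator_eq_bot inferInstance hKN hcopK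
  have hVWC : W ⊔ C = V := CfsgLib.Coprime.commutator_sup_centralizer hKN hcopK
    (Or.inr (CfsgLib.Coprime.isSolvable_of_isMulCommutative inferInstance))
  have hWn : ∀ g ∈ normalizer (K : Set G), ∀ w ∈ W, g * w * g⁻¹ ∈ W := by
    intro g hg w hw
    have h1 : conjBy g W = W := by
      show (⁅V, K⁆ : Subgroup G).map _ = _
      rw [Subgroup.map_commutator]
      exact congrArg₂ (fun S T : Subgroup G => ⁅S, T⁆)
        (conjBy_eq_self_iff.2 (by rw [normalizer_eq_top_iff.2 (inferInstance : V.Normal)]; exact mem_top g))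
        (conjBy_eq_self_iff.2 hg)
    rw [← h1]
    exact conj_mem_conjBy hw
  have hWK : ∀ k ∈ K, ∀ w ∈ W, k * w * k⁻¹ ∈ W := fun k hk => hWn k (le_normalizer hk)
  have hNC : ∀ y ∈ V, y ∈ normalizer (K : Set G) → y ∈ C := by
    refine fun y hy hyn => ⟨hy, mem_centralizer_iff.2 fun k hk => ?_⟩
    have h1 : y * k * y⁻¹ * k⁻¹ ∈ K ⊓ V := Subgroup.mem_inf.2
      ⟨mul_mem ((mem_normalizer_iff.1 hyn k).1 hk) (inv_mem hk), by
        rw [show y * k * y⁻¹ * k⁻¹ = y * (k * y⁻¹ * k⁻¹) by group]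
        exact mul_mem hy (hVn k _ (inv_mem hy))⟩
    rw [hKV, mem_bot, mul_inv_eq_one, mul_inv_eq_iff_eq_mul] at h1
    exact h1.symm
  -- `L = A ∩ V`
  set L := zpowers a ⊓ V with hL
  have hcomL : ∀ w ∈ V, n * w * n⁻¹ * w⁻¹ ∈ L := by
    intro w hw
    have e1 : n * w * n⁻¹ = a * w * a⁻¹ := by
      rw [hav]
      calc n * w * n⁻¹ = v * (n * w * n⁻¹) * v⁻¹ := by
            rw [hVc v hvV _ (hVn n w hw), mul_inv_cancel_right]
        _ = v * n * w * (v * n)⁻¹ := by group
    rw [e1]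
    refine Subgroup.mem_inf.2 ⟨?_, mul_mem (hVn a w hw) (inv_mem hw)⟩
    rw [show a * w * a⁻¹ * w⁻¹ = a * (w * a⁻¹ * w⁻¹) by group]
    exact mul_mem (mem_zpowers a) ((mem_normalizer_iff.1 (hA hw) _).1 (inv_mem (mem_zpowers a)))
  have hnC : ∃ w ∈ W, n * w * n⁻¹ * w⁻¹ ≠ 1 := by
    by_contra! hall
    have hfix : ∀ w ∈ W, n * w * n⁻¹ = w := fun w hw => mul_inv_eq_one.1 (hall w hw)
    have hfix' : ∀ w ∈ W, n⁻¹ * w * n⁻¹⁻¹ = w := fun w hw => by
      conv_lhs => rw [← hfix w hw]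
      group
    have hnk : ∀ k ∈ K, n * k * n⁻¹ * k⁻¹ = 1 := by
      intro k hk
      set z := n * k * n⁻¹ * k⁻¹ with hz
      have hzK : z ∈ K := mul_mem ((mem_normalizer_iff.1 hx k).1 hk) (inv_mem hk)
      refine mem_bot.1 (hKV ▸ ⟨hzK, hCV ?_⟩)
      rw [← hVWC]
      refine mem_centralizer_iff.2 fun y hy => ?_
      obtain ⟨w, hw, c, hc, rfl⟩ := CfsgLib.Coprime.mem_sup_exists
        (show C ≤ normalizer (W : Set G) from fun c hc => mem_normalizer_iff.2 fun z =>
          ⟨fun hz => by rwa [hVc c hc.1 z (hWV hz), mul_inv_cancel_right], fun hz => by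
            have e1 : c * z * c⁻¹ ∈ V := hWV hz
            have hzV : z ∈ V := by
              have := hVn c⁻¹ _ e1
              rwa [show c⁻¹ * (c * z * c⁻¹) * c⁻¹⁻¹ = z by group] at this
            rwa [hVc c hc.1 z hzV, mul_inv_cancel_right] at hz⟩) (show y ∈ W ⊔ C from hy)
      have h1 : Commute z w := by
        have e1 : z * w * z⁻¹ = w := by
          have e2 : k⁻¹ * w * k ∈ W := by simpa using hWK k⁻¹ (inv_mem hk) w hw
          calc z * w * z⁻¹ = n * (k * (n⁻¹ * (k⁻¹ * w * k) * n⁻¹⁻¹) * k⁻¹) * n⁻¹ := by rw [hz]; group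
            _ = n * w * n⁻¹ := by rw [hfix' _ e2]; group
            _ = w := hfix w hw
        exact mul_inv_eq_iff_eq_mul.1 e1
      have h2 : Commute z c := ((mem_centralizer_iff.1 hc.2 z hzK) : z * c = c * z)
      exact ((h1.mul_right h2).eq).symm
    have hnb : QuotientGroup.mk' V n ∈ Kb := by
      refine hK (mem_centralizer_iff.2 fun q hq => ?_)
      obtain ⟨k, hk, rfl⟩ := hKmap q hq
      rw [← map_mul, ← map_mul]
      exact congrArg _ (mul_inv_eq_iff_eq_mul.1 (mul_inv_eq_one.1 (hnk k hk))).symm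
    refine haV ((QuotientGroup.eq_one_iff a).1 ?_)
    have e1 : QuotientGroup.mk' V a = QuotientGroup.mk' V n := by
      rw [hav, map_mul, show QuotientGroup.mk' V v = 1 from (QuotientGroup.eq_one_iff v).2 hvV, one_mul]
    have h1 : orderOf (QuotientGroup.mk' V a) ∣ p := orderOf_dvd_of_pow_eq_one (by
      rw [← map_pow]; exact (QuotientGroup.eq_one_iff _).2 hap)
    have h2 : orderOf (QuotientGroup.mk' V a) ∣ Nat.card Kb := by
      have hmem : QuotientGroup.mk' V a ∈ Kb := e1 ▸ hnb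
      rw [← Subgroup.orderOf_mk _ hmem]
      exact orderOf_dvd_natCard _
    exact orderOf_eq_one_iff.1 (Nat.eq_one_of_dvd_coprimes hKbp h2 h1)
  -- the order of `L`
  obtain ⟨w₀, hw₀, hw₀1⟩ := hnC
  have hLcard : Nat.card L = p := by
    haveI : IsCyclic L := Subgroup.isCyclic_of_le (inf_le_left : L ≤ zpowers a)
    have hd : Nat.card L ∣ p := by
      rw [← IsCyclic.exponent_eq_card]
      exact Monoid.exponent_dvd_of_forall_pow_eq_one fun y => Subtype.ext (by simpa using hV.2 y y.2.2)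
    refine ((Nat.dvd_prime hp.out).1 hd).resolve_left fun e1 => hw₀1 ?_
    have h1 := hcomL w₀ (hWV hw₀)
    rwa [Subgroup.card_eq_one.1 e1, mem_bot] at h1
  have hLW : L ≤ W := by
    have h1 : n * w₀ * n⁻¹ * w₀⁻¹ ∈ L ⊓ W := Subgroup.mem_inf.2 ⟨hcomL w₀ (hWV hw₀), mul_mem (hWn n hx w₀ hw₀) (inv_mem hw₀)⟩
    have hne : L ⊓ W ≠ ⊥ := fun e1 => hw₀1 (mem_bot.1 (e1 ▸ h1))
    rcases (Nat.dvd_prime hp.out).1 (hLcard ▸ card_dvd_of_le (inf_le_left : L ⊓ W ≤ L)) with h2 | h2
    · exact absurd (card_eq_one.1 h2) hne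
    · exact inf_eq_left.1 (eq_of_le_of_card_ge inf_le_left (by rw [h2, hLcard]))
  have hapne : a ^ p ≠ 1 := by
    intro e1
    refine haV ?_
    have h1 : L = zpowers a := eq_of_le_of_card_ge inf_le_left (by
      rw [hLcard, Nat.card_zpowers]; exact Nat.le_of_dvd hp.out.pos (orderOf_dvd_of_pow_eq_one e1))
    exact ((h1 ▸ mem_zpowers a : a ∈ L)).2
  -- the power of `a`
  set u := n * v * n⁻¹ * v⁻¹ with hu
  have huL : u ∈ L := hcomL v hvV
  have hau : ∀ y ∈ L, n * y * n⁻¹ = y := by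
    intro y hy
    obtain ⟨i, hi⟩ := hy.1
    have h1 : Commute a y := hi ▸ (Commute.refl a).zpow_right i
    calc n * y * n⁻¹ = v⁻¹ * (a * y * a⁻¹) * v := by rw [hav]; group
      _ = y := by rw [h1.eq, mul_inv_cancel_right, hVc v⁻¹ (inv_mem hvV) y hy.2, inv_mul_cancel_right]
  have hpow := mul_pow_twist (u := u) (v := v) (n := n) (by rw [hu]; group)
    (hVc u huL.2 v hvV) (mul_inv_eq_iff_eq_mul.1 (hau u huL)) p
  rw [← hav, hV.2 v hvV, one_mul] at hpow
  have hup : u ^ p.choose 2 ∈ W := pow_mem (hLW huL) _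
  have hnp : n ^ p = 1 := by
    rw [← mem_bot, ← hWC]
    have e1 : n ^ p = (u ^ p.choose 2)⁻¹ * a ^ p := by rw [hpow, inv_mul_cancel_left]
    refine Subgroup.mem_inf.2 ⟨hNC _ ?_ (pow_mem hx p), ?_⟩
    · rw [e1]; exact mul_mem (inv_mem (hWV hup)) hap
    · rw [e1]; exact mul_mem (inv_mem hup) (hLW ⟨pow_mem (mem_zpowers a) p, hap⟩)
  rw [hnp, mul_one] at hpow
  by_cases hp2 : p = 2
  swap
  · refine hapne ?_
    obtain ⟨j, hj⟩ := hp.out.dvd_choose_self two_ne_zero (lt_of_le_of_ne hp.out.two_le (Ne.symm hp2))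
    rw [hpow, hj, pow_mul, hV.2 u huL.2, one_pow]
  subst hp2
  refine h.elim (fun h => h rfl) fun hinv => hinv ?_
  -- the four-group and the two transvections
  have hni : n⁻¹ = n := inv_eq_of_mul_eq_one_right (by rw [← pow_two]; exact hnp)
  obtain ⟨k, hk, hk1⟩ : ∃ k ∈ K, n * k * n⁻¹ * k⁻¹ ≠ 1 := by
    by_contra! hall
    have hnb : QuotientGroup.mk' V n ∈ Kb := by
      refine hK (mem_centralizer_iff.2 fun q hq => ?_)
      obtain ⟨k, hk, rfl⟩ := hKmap q hq
      rw [← map_mul, ← map_mul]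
      exact congrArg _ (mul_inv_eq_iff_eq_mul.1 (mul_inv_eq_one.1 (hall k hk))).symm
    have h2 : orderOf (QuotientGroup.mk' V n) ∣ Nat.card Kb := by
      rw [← Subgroup.orderOf_mk _ hnb]; exact orderOf_dvd_natCard _
    have h1 : orderOf (QuotientGroup.mk' V n) ∣ 2 := orderOf_dvd_of_pow_eq_one (by rw [← map_pow, hnp, map_one])
    have hnV : n ∈ V := (QuotientGroup.eq_one_iff n).1 (orderOf_eq_one_iff.1 (Nat.eq_one_of_dvd_coprimes hKbp h2 h1))
    exact haV (hav ▸ mul_mem hvV hnV)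
  set n' := k * n * k⁻¹ with hn'
  set y := n * k * n⁻¹ * k⁻¹ with hy
  have hyn : n * n' = y := by rw [hy, hn', hni]; group
  have hn'2 : n' * n' = 1 := by
    rw [hn', show k * n * k⁻¹ * (k * n * k⁻¹) = k * (n * n) * k⁻¹ by group, ← pow_two, hnp, mul_one, mul_inv_cancel]
  have hyK : y ∈ K := mul_mem ((mem_normalizer_iff.1 hx k).1 hk) (inv_mem hk)
  have hyo : (orderOf y).Coprime 2 :=
    (hKcard ▸ hKbp).coprime_dvd_left (by rw [← Subgroup.orderOf_mk y hyK]; exact orderOf_dvd_natCard _)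
  obtain ⟨⟨l, hl⟩, hl1⟩ : ∃ l : L, l ≠ 1 := by
    haveI : Nontrivial L := Finite.one_lt_card_iff_nontrivial.1 (by rw [hLcard]; norm_num)
    exact exists_ne 1
  have hl1' : l ≠ 1 := fun e1 => hl1 (Subtype.ext e1)
  have hLel : ∀ z ∈ L, z = 1 ∨ z = l := by
    intro z hz
    have hLl : zpowers l = L := eq_of_le_of_card_ge (zpowers_le.2 hl) (by
      rw [hLcard, Nat.card_zpowers, orderOf_eq_prime (hV.2 l hl.2) hl1'])
    obtain ⟨j, rfl⟩ := mem_powers_iff_mem_zpowers.2 (hLl.symm ▸ hz)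
    show l ^ j = 1 ∨ l ^ j = l
    rw [← Nat.div_add_mod j 2, pow_add, pow_mul, hV.2 l hl.2, one_pow, one_mul]
    rcases Nat.mod_two_eq_zero_or_one j with h1 | h1 <;> simp [h1]
  set l' := k * l * k⁻¹ with hl'
  have hlV : l ∈ V := hl.2
  have hl'V : l' ∈ V := hVn k l hlV
  have hsq : ∀ z ∈ V, z * z = 1 := fun z hz => by rw [← pow_two]; exact hV.2 z hz
  have hnw : ∀ w ∈ V, n * w * n⁻¹ = w ∨ n * w * n⁻¹ = l * w := by
    intro w hw
    rcases hLel _ (hcomL w hw) with h1 | h1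
    · exact Or.inl (mul_inv_eq_one.1 h1)
    · exact Or.inr (mul_inv_eq_iff_eq_mul.1 h1)
  have hn'w : ∀ w ∈ V, n' * w * n'⁻¹ = w ∨ n' * w * n'⁻¹ = l' * w := by
    intro w hw
    have hw' : k⁻¹ * w * k ∈ V := by simpa using hVn k⁻¹ w hw
    have e1 : n' * w * n'⁻¹ = k * (n * (k⁻¹ * w * k) * n⁻¹) * k⁻¹ := by rw [hn']; group
    rw [e1]
    rcases hnw _ hw' with h1 | h1 <;> rw [h1]
    · left; group
    · right; rw [hl']; group
  have hnl : n * l * n⁻¹ = l := hau l hl
  have hn'l' : n' * l' * n'⁻¹ = l' := by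
    rw [hn', hl', show k * n * k⁻¹ * (k * l * k⁻¹) * (k * n * k⁻¹)⁻¹ = k * (n * l * n⁻¹) * k⁻¹ by group, hnl]
  have hyact : ∀ w, y * w * y⁻¹ = n * (n' * w * n'⁻¹) * n⁻¹ := fun w => by rw [← hyn]; group
  -- an element of odd order acting on `V` as a translation by fixed vectors is trivial
  have htriv : ¬ (∀ w ∈ V, ∃ t ∈ V, y * w * y⁻¹ = t * w ∧ y * t * y⁻¹ = t) := by
    intro hh
    refine hk1 (mem_bot.1 (hKV ▸ ⟨hyK, hCV (mem_centralizer_iff.2 fun w hw => ?_)⟩))
    refine (commute_of_sq hyo ?_).eq.symm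
    obtain ⟨t, ht, h1, h2⟩ := hh w hw
    refine mul_inv_eq_iff_eq_mul.1 ?_
    calc y ^ 2 * w * (y ^ 2)⁻¹ = y * (y * w * y⁻¹) * y⁻¹ := by rw [pow_two]; group
      _ = y * (t * w) * y⁻¹ := by rw [h1]
      _ = (y * t * y⁻¹) * (y * w * y⁻¹) := by group
      _ = w := by rw [h2, h1, ← mul_assoc, hsq t ht, one_mul]
  have hll' : l ≠ l' := by
    intro e1
    refine htriv fun w hw => ?_
    have hyl : y * l * y⁻¹ = l := by
      rw [hyact, show n' * l * n'⁻¹ = l by rw [e1]; exact hn'l', hnl]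
    rcases hn'w w hw with h1 | h1 <;> rcases hnw w hw with h2 | h2
    · exact ⟨1, one_mem _, by rw [hyact, h1, h2, one_mul], by group⟩
    · exact ⟨l, hlV, by rw [hyact, h1, h2], hyl⟩
    · refine ⟨l, hlV, ?_, hyl⟩
      rw [hyact, h1, ← e1, show n * (l * w) * n⁻¹ = (n * l * n⁻¹) * (n * w * n⁻¹) by group, hnl, h2]
    · refine ⟨1, one_mem _, ?_, by group⟩
      rw [hyact, h1, ← e1, show n * (l * w) * n⁻¹ = (n * l * n⁻¹) * (n * w * n⁻¹) by group, hnl, h2,
        ← mul_assoc, hsq l hlV]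
  have hnl' : n * l' * n⁻¹ = l * l' := by
    refine (hnw l' hl'V).resolve_left fun e1 => ?_
    rcases hn'w l hlV with h1 | h1
    · have hyl : y * l * y⁻¹ = l := by rw [hyact, h1, hnl]
      have hyl' : y * l' * y⁻¹ = l' := by rw [hyact, hn'l', e1]
      refine htriv fun w hw => ?_
      rcases hn'w w hw with h3 | h3 <;> rcases hnw w hw with h2 | h2
      · exact ⟨1, one_mem _, by rw [hyact, h3, h2, one_mul], by group⟩
      · exact ⟨l, hlV, by rw [hyact, h3, h2], hyl⟩
      · refine ⟨l', hl'V, ?_, hyl'⟩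
        rw [hyact, h3, show n * (l' * w) * n⁻¹ = (n * l' * n⁻¹) * (n * w * n⁻¹) by group, e1, h2]
      · refine ⟨l' * l, mul_mem hl'V hlV, ?_, ?_⟩
        · rw [hyact, h3, show n * (l' * w) * n⁻¹ = (n * l' * n⁻¹) * (n * w * n⁻¹) by group, e1, h2, ← mul_assoc]
        · rw [show y * (l' * l) * y⁻¹ = (y * l' * y⁻¹) * (y * l * y⁻¹) by group, hyl, hyl']
    · have hyl : y * l * y⁻¹ = l' * l := by
        rw [hyact, h1, show n * (l' * l) * n⁻¹ = (n * l' * n⁻¹) * (n * l * n⁻¹) by group, e1, hnl]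
      have hyl' : y * l' * y⁻¹ = l' := by rw [hyact, hn'l', e1]
      have h2 : Commute (y ^ 2) l := by
        refine mul_inv_eq_iff_eq_mul.1 ?_
        calc y ^ 2 * l * (y ^ 2)⁻¹ = y * (y * l * y⁻¹) * y⁻¹ := by rw [pow_two]; group
          _ = y * (l' * l) * y⁻¹ := by rw [hyl]
          _ = (y * l' * y⁻¹) * (y * l * y⁻¹) := by group
          _ = l := by rw [hyl', hyl, ← mul_assoc, hsq l' hl'V, one_mul]
      have h3 := mul_inv_eq_iff_eq_mul.2 (commute_of_sq hyo h2).eq
      rw [hyl, mul_eq_right] at h3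
      exact hl1' (by simpa [hl'] using h3)
  have hn'l : n' * l * n'⁻¹ = l' * l := by
    refine (hn'w l hlV).resolve_left fun e1 => ?_
    have hyl : y * l * y⁻¹ = l := by rw [hyact, e1, hnl]
    have hyl' : y * l' * y⁻¹ = l * l' := by rw [hyact, hn'l', hnl']
    have h2 : Commute (y ^ 2) l' := by
      refine mul_inv_eq_iff_eq_mul.1 ?_
      calc y ^ 2 * l' * (y ^ 2)⁻¹ = y * (y * l' * y⁻¹) * y⁻¹ := by rw [pow_two]; group
        _ = y * (l * l') * y⁻¹ := by rw [hyl']
        _ = (y * l * y⁻¹) * (y * l' * y⁻¹) := by group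
        _ = l' := by rw [hyl, hyl', ← mul_assoc, hsq l hlV, one_mul]
    have h3 := mul_inv_eq_iff_eq_mul.2 (commute_of_sq hyo h2).eq
    rw [hyl', mul_eq_right] at h3
    exact hl1' h3
  have hyl : y * l * y⁻¹ = l' := by
    rw [hyact, hn'l, show n * (l' * l) * n⁻¹ = (n * l' * n⁻¹) * (n * l * n⁻¹) by group, hnl', hnl,
      hVc l hlV l' hl'V, mul_assoc, hsq l hlV, mul_one]
  have hyl' : y * l' * y⁻¹ = l * l' := by rw [hyact, hn'l', hnl']
  have hyll : y * (l * l') * y⁻¹ = l := by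
    rw [show y * (l * l') * y⁻¹ = (y * l * y⁻¹) * (y * l' * y⁻¹) by group, hyl, hyl', hVc l hlV l' hl'V,
      ← mul_assoc, hsq l' hl'V, one_mul]
  have hc := hVc l hlV l' hl'V
  have hl'1 : l' ≠ 1 := fun e1 => hl1' (by simpa [hl'] using e1)
  have hp1 : l * l' ≠ 1 := fun e1 => hll' (by
    rw [← inv_eq_of_mul_eq_one_right (hsq l hlV), inv_eq_of_mul_eq_one_right e1])
  let U : Subgroup G :=
    { carrier := {1, l, l', l * l'}
      one_mem' := Or.inl rfl
      inv_mem' := by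
        intro z hz
        have hzV : z ∈ V := by
          rcases hz with rfl | rfl | rfl | rfl
          exacts [one_mem _, hlV, hl'V, mul_mem hlV hl'V]
        rw [inv_eq_of_mul_eq_one_right (hsq z hzV)]; exact hz
      mul_mem' := by
        intro z w hz hw
        have t1 := hsq l hlV
        have t2 := hsq l' hl'V
        have t3 : l * (l * l') = l' := by rw [← mul_assoc, t1, one_mul]
        have t4 : l' * (l * l') = l := by rw [hc, ← mul_assoc, t2, one_mul]
        have t5 : l * l' * l = l' := by rw [hc, mul_assoc, t1, mul_one]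
        have t6 : l * l' * l' = l := by rw [mul_assoc, t2, mul_one]
        have t7 : l * l' * (l * l') = 1 := hsq _ (mul_mem hlV hl'V)
        simp only [Set.mem_insert_iff, Set.mem_singleton_iff] at hz hw ⊢
        rcases hz with rfl | rfl | rfl | rfl <;> rcases hw with rfl | rfl | rfl | rfl <;>
          simp [t1, t2, t3, t4, t5, t6, t7, hc.symm] }
  have hUV : ∀ z ∈ U, z ∈ V := by
    rintro z (rfl | rfl | rfl | rfl)
    exacts [one_mem _, hlV, hl'V, mul_mem hlV hl'V]
  have hUcard : Nat.card U = 4 := by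
    show Nat.card ({1, l, l', l * l'} : Set G) = 4
    rw [Nat.card_coe_set_eq, Set.ncard_insert_of_notMem (by simp [hl1'.symm, hl'1.symm, hp1.symm]),
      Set.ncard_insert_of_notMem (by simp [hll', hl'1]), Set.ncard_pair (by simp [hl1'])]
  have hnorm : ∀ g : G, g * g = 1 → (∀ z ∈ U, g * z * g⁻¹ ∈ U) → g ∈ normalizer (U : Set G) := by
    intro g hg h1
    refine mem_normalizer_iff.2 fun z => ⟨h1 z, fun h2 => ?_⟩
    have := h1 _ h2
    rwa [show g * (g * z * g⁻¹) * g⁻¹ = (g * g) * z * (g * g)⁻¹ by group, hg, inv_one, one_mul, mul_one] at this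
  have hnU : n ∈ normalizer (U : Set G) := by
    refine hnorm n (by rw [← pow_two]; exact hnp) ?_
    rintro z (rfl | rfl | rfl | rfl)
    · simp
    · rw [hnl]; exact Or.inr (Or.inl rfl)
    · rw [hnl']; exact Or.inr (Or.inr (Or.inr rfl))
    · rw [show n * (l * l') * n⁻¹ = (n * l * n⁻¹) * (n * l' * n⁻¹) by group, hnl, hnl', ← mul_assoc, hsq l hlV, one_mul]
      exact Or.inr (Or.inr (Or.inl rfl))
  have hn'U : n' ∈ normalizer (U : Set G) := by
    refine hnorm n' hn'2 ?_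
    rintro z (rfl | rfl | rfl | rfl)
    · simp
    · rw [hn'l, ← hc]; exact Or.inr (Or.inr (Or.inr rfl))
    · rw [hn'l']; exact Or.inr (Or.inr (Or.inl rfl))
    · rw [show n' * (l * l') * n'⁻¹ = (n' * l * n'⁻¹) * (n' * l' * n'⁻¹) by group, hn'l, hn'l', hVc l' hl'V l hlV, mul_assoc, hsq l' hl'V, mul_one]
      exact Or.inr (Or.inl rfl)
  refine CfsgLib.Fusion.involves_perm_four U n n' hUcard hnU hn'U (fun z hz w hw => hVc z (hUV z hz) w (hUV w hw))
    (fun z _ => by rw [← pow_two n, hnp]; simp) (fun z _ => by rw [hn'2]; simp) ?_ ?_ ?_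
  · intro z hz
    rw [hyn, show y ^ 3 * z * (y ^ 3)⁻¹ = y * (y * (y * z * y⁻¹) * y⁻¹) * y⁻¹ by simp only [pow_succ, pow_zero]; group]
    rcases hz with rfl | rfl | rfl | rfl
    · simp
    · rw [hyl, hyl', hyll]
    · rw [hyl', hyll, hyl]
    · rw [hyll, hyl, hyl']
  · intro z hz h1
    rw [hyn] at h1
    rcases hz with rfl | rfl | rfl | rfl
    · rfl
    · exact absurd (h1.symm.trans hyl) hll'
    · exact absurd (mul_eq_right.1 (h1.symm.trans hyl').symm) hl1'
    · exact absurd (mul_eq_left.1 (h1.symm.trans hyll)) hl'1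
  · exact ⟨l', Or.inr (Or.inr (Or.inl rfl)), fun e1 => hl1' (mul_eq_right.1 (hnl'.symm.trans e1))⟩

end CfsgLib.PGroup.CyclicNormalCore
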