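import Cfsg.Agent.Lib.PGroup.CyclicSylowTools
import Cfsg.Agent.Lib.PGroup.RegularFriendship
import Cfsg.Agent.Lib.Fusion.Transfer
import Cfsg.Agent.Lib.Coprime.Action
import Cfsg.Agent.S0182

/-!
# No simple group has cyclic Sylow `p`-subgroups and only abelian `p'`-subgroups

The simple case of the dichotomy "normal `p`-complement or normal Sylow `p`-subgroup".  If no
non-identity `p'`-element centralizes a Sylow subgroup the group is a CA-group; odd order is
excluded by Suzuki's theorem and even order by counting pairs of non-commuting involutions modulo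
`p * |P|`.  Otherwise `p = 3`, the Sylow `2`-subgroups are four-groups and the commuting graph of
involutions is a regular friendship graph.
-/

set_option autoImplicit false
open Subgroup

namespace CfsgLib.PGroup.CSylow

universe u

/-- The hypotheses on a minimal configuration. -/
structure Minimal (p : ℕ) (G : Type u) [Group G] : Prop where
  odd_p : p ≠ 2
  dvd : p ∣ Nat.card G
  cyc : ∀ P : Sylow p G, IsCyclic (P : Subgroup G)
  hab : ∀ H : Subgroup G, ¬ p ∣ Nat.card H → IsMulCommutative H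
  simple : ∀ M : Subgroup G, M.Normal → M = ⊥ ∨ M = ⊤
  nc : ∀ P : Sylow p G, ¬ normalizer ((P : Subgroup G) : Set G) ≤ centralizer ((P : Subgroup G) : Set G)
  maximal : ∀ (P : Sylow p G) (L : Subgroup G), L ≠ ⊤ → normalizer ((P : Subgroup G) : Set G) ≤ L →
    L = normalizer ((P : Subgroup G) : Set G)

variable {G : Type u} [Group G] [Finite G] {p : ℕ} [hp : Fact p.Prime]

omit [Finite G] hp in
theorem Minimal.not_comm (h : Minimal p G) : ¬ ∀ a b : G, a * b = b * a :=
  fun hc => h.nc default fun _ _ => mem_centralizer_iff.2 fun _ _ => hc _ _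

omit [Finite G] hp in
theorem Minimal.zpowers_not_normal (h : Minimal p G) {a : G} (ha : a ≠ 1) : ¬ (zpowers a).Normal := by
  intro hn
  rcases h.simple _ hn with h0 | h0
  · exact ha (zpowers_eq_bot.1 h0)
  · refine h.not_comm fun x y => ?_
    obtain ⟨i, rfl⟩ := mem_zpowers_iff.1 (h0.ge (mem_top x))
    obtain ⟨j, rfl⟩ := mem_zpowers_iff.1 (h0.ge (mem_top y))
    rw [← zpow_add, ← zpow_add, add_comm]

omit [Finite G] hp in
theorem Minimal.centralizer_ne_top (h : Minimal p G) {a : G} (ha : a ≠ 1) :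
    centralizer ({a} : Set G) ≠ ⊤ := fun h0 => h.zpowers_not_normal ha ⟨fun z hz g => by
  obtain ⟨j, rfl⟩ := hz
  have hc : Commute g a := (mem_centralizer_singleton_iff.1 (h0.ge (mem_top g)))
  exact ⟨j, by rw [(hc.zpow_right j).eq, mul_inv_cancel_right]⟩⟩

theorem Minimal.centralizer_le (h : Minimal p G) (P : Sylow p G) {a : G} (ha : a ∈ (P : Subgroup G))
    (ha1 : a ≠ 1) : centralizer ({a} : Set G) ≤ normalizer ((P : Subgroup G) : Set G) := by
  have h1 : normalizer ((zpowers a : Subgroup G) : Set G) = normalizer ((P : Subgroup G) : Set G) :=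
    h.maximal P _ (fun h0 => h.zpowers_not_normal ha1 (normalizer_eq_top_iff.1 h0))
      fun g hg => mem_normalizer_zpowers P (h.cyc P) hg ha
  rw [← h1]
  refine fun g hg => mem_normalizer_fintype ?_
  rintro _ ⟨j, rfl⟩
  exact ⟨j, by rw [(Commute.zpow_right (mem_centralizer_singleton_iff.1 hg) j).eq, mul_inv_cancel_right]⟩

theorem Minimal.normalizer_of_inverts (h : Minimal p G) (P : Sylow p G) {a s : G}
    (ha : a ∈ (P : Subgroup G)) (ha1 : a ≠ 1) (hs : s * a * s⁻¹ = a⁻¹) :
    s ∈ normalizer ((P : Subgroup G) : Set G) := by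
  have h1 : normalizer ((zpowers a : Subgroup G) : Set G) = normalizer ((P : Subgroup G) : Set G) :=
    h.maximal P _ (fun h0 => h.zpowers_not_normal ha1 (normalizer_eq_top_iff.1 h0))
      fun g hg => mem_normalizer_zpowers P (h.cyc P) hg ha
  rw [← h1]
  refine mem_normalizer_fintype ?_
  rintro _ ⟨j, rfl⟩
  exact ⟨-j, by simp only [← conj_zpow, hs, inv_zpow, zpow_neg]⟩

theorem Minimal.mem_centralizer_sylow (h : Minimal p G) (P : Sylow p G) {a v : G}
    (ha : a ∈ (P : Subgroup G)) (ha1 : a ≠ 1) (hv : (orderOf v).Coprime p) (hc : Commute v a) :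
    v ∈ centralizer ((P : Subgroup G) : Set G) :=
  mem_centralizer_of_commute P (h.cyc P)
    (h.centralizer_le P ha ha1 (mem_centralizer_singleton_iff.2 hc.eq)) hv ha ha1 hc

/-- A non-identity `p'`-element centralizing a Sylow subgroup has its normalizer as centralizer. -/
theorem Minimal.centralizer_eq (h : Minimal p G) (P : Sylow p G) {v : G}
    (hv : (orderOf v).Coprime p) (hv1 : v ≠ 1) (hvC : v ∈ centralizer ((P : Subgroup G) : Set G)) :
    centralizer ({v} : Set G) = normalizer ((P : Subgroup G) : Set G) := by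
  set C := centralizer ((P : Subgroup G) : Set G) with hC
  have hPC : (P : Subgroup G) ≤ C := fun a ha =>
    mem_centralizer_iff.2 fun b hb => commute_of_mem P (h.cyc P) hb ha
  have hK : Cfsg.HasNormalPComplement p C := by
    refine CfsgLib.Fusion.hasNormalPComplement_of_normalizer_le_centralizer (P.subtype hPC) ?_
    intro c _
    refine mem_centralizer_iff.2 fun b hb => Subtype.ext ?_
    exact mem_centralizer_iff.1 c.2 _ hb
  refine h.maximal P _ (h.centralizer_ne_top hv1) fun g hg => ?_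
  refine mem_of_parts (fun j hj => mem_centralizer_singleton_iff.2 ?_) fun j hj =>
    mem_centralizer_singleton_iff.2 (mem_centralizer_iff.1 hvC _
      (mem_sylow_of_mem_normalizer P hj (pow_mem hg j)))
  exact commute_of_normalizes h.hab (not_dvd_card_coprimePart C hK) hj
    (normalizer_le_normalizer_coprimePart C hK
      (CfsgLib.Coprime.normalizer_le_normalizer_centralizer _ (pow_mem hg j)))
    (mem_coprimePart.2 ⟨hvC, hv⟩)

theorem Minimal.sylow_unique (h : Minimal p G) {P P' : Sylow p G} {v : G}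
    (hv : (orderOf v).Coprime p) (hv1 : v ≠ 1) (hP : v ∈ centralizer ((P : Subgroup G) : Set G))
    (hP' : v ∈ centralizer ((P' : Subgroup G) : Set G)) : P = P' :=
  sylow_eq_of_le_normalizer P P' (by
    rw [← h.centralizer_eq P hv hv1 hP, h.centralizer_eq P' hv hv1 hP']; exact le_normalizer)

theorem exists_pow_order_prime {x : G} {q : ℕ} (hq : q ∣ orderOf x) :
    ∃ j : ℕ, orderOf (x ^ j) = q :=
  ⟨orderOf x / q, orderOf_pow_orderOf_div (orderOf_pos x).ne' hq⟩

theorem isPGroup_of_orderOf_eq {a : G} (ha : orderOf a = p) : IsPGroup p (zpowers a) :=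
  IsPGroup.of_card (n := 1) (by rw [Nat.card_zpowers, ha, pow_one])

/-! ## The case without central `p'`-elements -/

section CaseCA

variable (h : Minimal p G)
variable (hI : ∀ P : Sylow p G, ∀ v ∈ centralizer ((P : Subgroup G) : Set G), (orderOf v).Coprime p → v = 1)
include h hI

theorem centralizer_le_sylow (P : Sylow p G) {a : G} (ha : a ∈ (P : Subgroup G)) (ha1 : a ≠ 1) :
    centralizer ({a} : Set G) ≤ P := fun g hg =>
  mem_of_parts (fun j hj => by
      rw [hI P _ (h.mem_centralizer_sylow P ha ha1 hj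
        (Commute.pow_left (mem_centralizer_singleton_iff.1 hg) j)) hj]
      exact one_mem _)
    fun j hj => mem_sylow_of_mem_normalizer P hj (pow_mem (h.centralizer_le P ha ha1 hg) j)

theorem not_dvd_centralizer {v : G} (hv : (orderOf v).Coprime p) (hv1 : v ≠ 1) :
    ¬ p ∣ Nat.card (centralizer ({v} : Set G)) := by
  rw [CfsgLib.Fusion.not_dvd_card_iff_forall_coprime_orderOf]
  intro x hx
  by_contra hc
  obtain ⟨j, hj⟩ := exists_pow_order_prime (x := x) (q := p) (by
    by_contra hd; exact hc (hp.out.coprime_iff_not_dvd.2 hd).symm)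
  obtain ⟨P, hP⟩ := exists_sylow_mem (isPGroup_of_orderOf_eq hj)
  have ha1 : x ^ j ≠ 1 := fun e => by rw [e, orderOf_one] at hj; exact hp.out.one_lt.ne hj
  exact hv1 (hI P v (h.mem_centralizer_sylow P hP ha1 hv
    ((Commute.symm (mem_centralizer_singleton_iff.1 hx)).pow_right j)) hv)

theorem ca_group : ∀ x : G, x ≠ 1 → ∀ a ∈ centralizer ({x} : Set G),
    ∀ b ∈ centralizer ({x} : Set G), a * b = b * a := by
  intro x hx a ha b hb
  by_cases hd : p ∣ orderOf x
  · obtain ⟨j, hj⟩ := exists_pow_order_prime hd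
    obtain ⟨P, hP⟩ := exists_sylow_mem (isPGroup_of_orderOf_eq hj)
    have ha1 : x ^ j ≠ 1 := fun e => by rw [e, orderOf_one] at hj; exact hp.out.one_lt.ne hj
    have hle : ∀ g ∈ centralizer ({x} : Set G), g ∈ (P : Subgroup G) := fun g hg =>
      centralizer_le_sylow h hI P hP ha1
        (mem_centralizer_singleton_iff.2 (Commute.pow_right (mem_centralizer_singleton_iff.1 hg) j))
    exact commute_of_mem P (h.cyc P) (hle a ha) (hle b hb)
  · haveI := h.hab _ (not_dvd_centralizer h hI ((hp.out.coprime_iff_not_dvd.2 hd).symm) hx)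
    exact congrArg Subtype.val (mul_comm' (⟨a, ha⟩ : centralizer ({x} : Set G)) ⟨b, hb⟩)

omit h hI in
theorem card_modEq_fixed {Q : Subgroup G} (hQ : IsPGroup p Q) (S : Set G)
    (hinv : ∀ a ∈ Q, ∀ s ∈ S, a * s * a⁻¹ ∈ S) :
    Nat.card S ≡ Nat.card {s : G | s ∈ S ∧ ∀ a ∈ Q, a * s * a⁻¹ = s} [MOD p] := by
  letI : MulAction Q S :=
    { smul := fun a s => ⟨a * s * (a : G)⁻¹, hinv a a.2 s s.2⟩
      one_smul := fun s => Subtype.ext (show (1 : G) * s * 1⁻¹ = s by group)
      mul_smul := fun a b s => Subtype.ext (show (a * b : G) * s * (a * b : G)⁻¹ = a * (b * s * (b : G)⁻¹) * (a : G)⁻¹ by group) }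
  have key : Nat.card (MulAction.fixedPoints Q S) =
      Nat.card {s : G | s ∈ S ∧ ∀ a ∈ Q, a * s * a⁻¹ = s} := Nat.card_congr
    { toFun := fun s => ⟨s.1.1, s.1.2, fun a ha => congrArg Subtype.val (s.2 ⟨a, ha⟩)⟩
      invFun := fun s => ⟨⟨s.1, s.2.1⟩, fun a => Subtype.ext (s.2.2 a.1 a.2)⟩
      left_inv := fun s => rfl
      right_inv := fun s => rfl }
  rw [← key]
  exact hQ.card_modEq_card_fixedPoints S

/-- The number of involutions commuting with an involution is divisible by `p`. -/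
theorem dvd_card_commuting {t : G} (ht : orderOf t = 2) :
    p ∣ Nat.card {s : G | orderOf s = 2 ∧ Commute s t} := by
  haveI := Fact.mk Nat.prime_two
  set A := centralizer ({t} : Set G) with hA
  have ht1 : t ≠ 1 := fun e => by rw [e, orderOf_one] at ht; omega
  have htc : (orderOf t).Coprime p := ht ▸ (Nat.coprime_primes Nat.prime_two hp.out).2 (Ne.symm h.odd_p)
  have hAp : ¬ p ∣ Nat.card A := not_dvd_centralizer h hI htc ht1
  obtain ⟨Q, htQ⟩ := exists_sylow_mem (isPGroup_of_orderOf_eq (p := 2) ht)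
  have hQp : ¬ p ∣ Nat.card (Q : Subgroup G) := by
    obtain ⟨k, hk⟩ := Q.2.exists_card_eq
    rw [hk]
    exact fun hd => h.odd_p ((Nat.prime_dvd_prime_iff_eq hp.out Nat.prime_two).1 (hp.out.dvd_of_dvd_pow hd))
  have hQA : (Q : Subgroup G) ≤ A := fun z hz => mem_centralizer_singleton_iff.2 (by
    haveI := h.hab _ hQp
    exact congrArg Subtype.val (mul_comm' (⟨z, hz⟩ : (Q : Subgroup G)) ⟨t, htQ⟩))
  haveI := h.hab _ hAp
  have hCQ : centralizer ((Q : Subgroup G) : Set G) = A := le_antisymm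
    (fun z hz => mem_centralizer_singleton_iff.2 (mem_centralizer_iff.1 hz t htQ).symm)
    fun z hz => mem_centralizer_iff.2 fun w hw =>
      congrArg Subtype.val (mul_comm' (⟨w, hQA hw⟩ : A) ⟨z, hz⟩)
  obtain ⟨y, hy, hyo⟩ : ∃ y ∈ normalizer (A : Set G), orderOf y = p := by
    have hd : p ∣ Nat.card (normalizer (A : Set G)) := by
      by_contra hnd
      haveI := h.hab _ hnd
      have hNC : normalizer ((Q : Subgroup G) : Set G) ≤ centralizer ((Q : Subgroup G) : Set G) := by
        intro g hg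
        have hgA : g ∈ normalizer (A : Set G) :=
          hCQ ▸ CfsgLib.Coprime.normalizer_le_normalizer_centralizer (Q : Subgroup G) hg
        rw [hCQ]
        exact mem_centralizer_singleton_iff.2 (congrArg Subtype.val (mul_comm'
          (⟨g, hgA⟩ : normalizer (A : Set G)) ⟨t, le_normalizer (hQA htQ)⟩))
      obtain ⟨Q', K, hKn, hKc⟩ := CfsgLib.Fusion.hasNormalPComplement_of_normalizer_le_centralizer Q hNC
      obtain ⟨k, hk⟩ := Q'.2.exists_card_eq
      rcases h.simple K hKn with h0 | h0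
      · have hG := hKc.card_mul
        rw [h0, card_bot, one_mul, hk] at hG
        exact h.odd_p ((Nat.prime_dvd_prime_iff_eq hp.out Nat.prime_two).1
          (hp.out.dvd_of_dvd_pow (hG ▸ h.dvd)))
      · have hG := hKc.card_mul
        rw [h0, card_top] at hG
        have h2 : 2 ∣ Nat.card (Q' : Subgroup G) := by
          have h3 := orderOf_dvd_natCard (⟨t, htQ⟩ : (Q : Subgroup G))
          rw [Subgroup.orderOf_mk, ht] at h3
          rwa [Nat.card_congr (Q'.equiv Q).toEquiv]
        nlinarith [Nat.le_of_dvd Nat.card_pos h2, (Nat.card_pos : 0 < Nat.card G)]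
    obtain ⟨⟨y, hy⟩, hyo⟩ := exists_prime_orderOf_dvd_card' p hd
    exact ⟨y, hy, by rwa [Subgroup.orderOf_mk] at hyo⟩
  have hy1 : y ≠ 1 := fun e => by rw [e, orderOf_one] at hyo; exact hp.out.one_lt.ne hyo
  have hinv : ∀ a ∈ zpowers y, ∀ s ∈ {s : G | orderOf s = 2 ∧ Commute s t},
      a * s * a⁻¹ ∈ {s : G | orderOf s = 2 ∧ Commute s t} := by
    intro a ha s hs
    refine ⟨(show orderOf (a * s * a⁻¹) = orderOf s from (MulAut.conj a).orderOf_eq s).trans hs.1, ?_⟩
    have : a * s * a⁻¹ ∈ A :=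
      (mem_normalizer_iff.1 (zpowers_le.2 hy ha) s).1 (mem_centralizer_singleton_iff.2 hs.2.eq)
    exact mem_centralizer_singleton_iff.1 this
  have h1 := card_modEq_fixed (isPGroup_of_orderOf_eq hyo) _ hinv
  have h2 : Nat.card {s : G | s ∈ {s : G | orderOf s = 2 ∧ Commute s t} ∧ ∀ a ∈ zpowers y, a * s * a⁻¹ = s} = 0 := by
    rw [Nat.card_eq_zero]
    refine Or.inl ⟨fun ⟨s, ⟨hs, hst⟩, hfix⟩ => ?_⟩
    obtain ⟨P, hP⟩ := exists_sylow_mem (isPGroup_of_orderOf_eq hyo)
    have hsc : (orderOf s).Coprime p := hs ▸ (Nat.coprime_primes Nat.prime_two hp.out).2 (Ne.symm h.odd_p)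
    have hsP := centralizer_le_sylow h hI P hP hy1
      (mem_centralizer_singleton_iff.2 (mul_inv_eq_iff_eq_mul.1 (hfix y (mem_zpowers y))).symm)
    have := eq_one_of_coprime_of_isPGroup hsc (P.2.to_le (zpowers_le.2 hsP))
    rw [this, orderOf_one] at hs
    omega
  rw [h2] at h1
  exact Nat.modEq_zero_iff_dvd.1 h1

theorem false_of_even (h2 : 2 ∣ Nat.card G) : False := by
  classical
  haveI := Fact.mk Nat.prime_two
  have := Fintype.ofFinite G
  obtain ⟨P⟩ : Nonempty (Sylow p G) := inferInstance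
  let I := {s : G // orderOf s = 2}
  have hsq : ∀ s : I, (s : G) * s = 1 := fun s => by
    have h1 := pow_orderOf_eq_one (s : G)
    rwa [s.2, pow_two] at h1
  have hinvI : ∀ s : I, (s : G)⁻¹ = s := fun s => inv_eq_of_mul_eq_one_right (hsq s)
  have hcop : ∀ s : I, (orderOf (s : G)).Coprime p := fun s => coprime_of_sq h.odd_p (hsq s)
  have hne1 : ∀ s : I, (s : G) ≠ 1 := fun s e => by have := s.2; rw [e, orderOf_one] at this; omega
  letI : MulAction (P : Subgroup G) I :=
    { smul := fun a s => ⟨a * s * (a : G)⁻¹, by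
        rw [show orderOf ((a : G) * s * (a : G)⁻¹) = orderOf (s : G) from (MulAut.conj (a : G)).orderOf_eq s]; exact s.2⟩
      one_smul := fun s => Subtype.ext (show (1 : G) * s * 1⁻¹ = s by group)
      mul_smul := fun a b s => Subtype.ext (show (a * b : G) * s * (a * b : G)⁻¹ = a * (b * s * (b : G)⁻¹) * (a : G)⁻¹ by group) }
  have hsmul : ∀ (a : (P : Subgroup G)) (s : I), ((a • s : I) : G) = a * s * (a : G)⁻¹ := fun _ _ => rfl
  have hfree : ∀ (a : (P : Subgroup G)) (s : I), a • s = s → a = 1 := by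
    intro a s hs
    by_contra ha
    have hsP := centralizer_le_sylow h hI P a.2 (fun e => ha (Subtype.ext e))
      (mem_centralizer_singleton_iff.2 (mul_inv_eq_iff_eq_mul.1 (congrArg Subtype.val hs)).symm)
    exact hne1 s (eq_one_of_coprime_of_isPGroup (hcop s) (P.2.to_le (zpowers_le.2 hsP)))
  have hPp : p ∣ Nat.card (P : Subgroup G) := P.dvd_card_of_dvd_card h.dvd
  have hP1 : ∃ a ∈ (P : Subgroup G), a ≠ 1 := by
    refine (bot_or_exists_ne_one (P : Subgroup G)).resolve_left fun e => ?_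
    rw [e, card_bot] at hPp
    exact hp.out.not_dvd_one hPp
  let f : I → ℕ := fun t => Nat.card {s : I // ¬ Commute (s : G) t}
  have hf : ∀ t, p ∣ f t := by
    intro t
    have hi : p ∣ Nat.card I := by
      have h1 := P.2.card_modEq_card_fixedPoints I
      have h0 : Nat.card (MulAction.fixedPoints (P : Subgroup G) I) = 0 := by
        rw [Nat.card_eq_zero]
        refine Or.inl ⟨fun s => ?_⟩
        obtain ⟨a, ha, ha1⟩ := hP1
        exact ha1 (congrArg Subtype.val (hfree ⟨a, ha⟩ s.1 (s.2 ⟨a, ha⟩)))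
      rw [h0] at h1
      exact Nat.modEq_zero_iff_dvd.1 h1
    have he := dvd_card_commuting h hI t.2
    have heq : Nat.card {s : G | orderOf s = 2 ∧ Commute s (t : G)} = Nat.card {s : I // Commute (s : G) t} :=
      Nat.card_congr (Equiv.subtypeSubtypeEquivSubtypeInter _ _).symm
    rw [heq] at he
    have hsum : Nat.card I = Nat.card {s : I // Commute (s : G) t} + f t := by
      rw [← Nat.card_sum]; exact Nat.card_congr (Equiv.sumCompl _).symm
    rw [hsum] at hi
    exact (Nat.dvd_add_right he).1 hi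
  let D := Σ t : I, {s : I // ¬ Commute (s : G) t}
  have hleft : Nat.card (P : Subgroup G) * p ∣ Nat.card D := by
    have hconst : ∀ (a : (P : Subgroup G)) (t : I), f (a • t) = f t := fun a t =>
      (Nat.card_congr ((MulAction.toPerm a).subtypeEquiv fun s => by
        simp only [MulAction.toPerm_apply, hsmul]
        exact not_congr (show Commute (s : G) t ↔ Commute (MulAut.conj (a : G) s) (MulAut.conj (a : G) t) from
          ⟨fun h' => h'.map _, fun h' => by
            have h'' := h'.map (MulAut.conj (a : G)).symm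
            rwa [MulEquiv.symm_apply_apply, MulEquiv.symm_apply_apply] at h''⟩))).symm
    have horb : ∀ t : I, Nat.card (MulAction.orbit (P : Subgroup G) t) = Nat.card (P : Subgroup G) := fun t =>
      (Nat.card_congr (Equiv.ofBijective (fun a : (P : Subgroup G) => (⟨a • t, MulAction.mem_orbit t a⟩ : MulAction.orbit (P : Subgroup G) t))
        ⟨fun a b hab' => by
          have h1 : a • t = b • t := congrArg Subtype.val hab'
          exact (inv_mul_eq_one.1 (hfree (b⁻¹ * a) t (by rw [mul_smul, h1, inv_smul_smul]))).symm,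
         fun ⟨_, a, rfl⟩ => ⟨a, rfl⟩⟩)).symm
    rw [Nat.card_sigma]
    rw [Fintype.sum_equiv (MulAction.selfEquivSigmaOrbits (P : Subgroup G) I) f
      (fun z => f z.2.1) (fun _ => rfl), Fintype.sum_sigma]
    refine Finset.dvd_sum fun ω _ => ?_
    rw [Finset.sum_congr rfl (g := fun _ => f ω.out) (fun z _ => by
      obtain ⟨_, a, rfl⟩ := z; exact hconst a _)]
    rw [Finset.sum_const, Finset.card_univ, smul_eq_mul, ← Nat.card_eq_fintype_card, horb]
    exact Nat.mul_dvd_mul_left _ (hf _)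
  -- products of two non-commuting involutions
  let X : Set G := {x | x ≠ 1 ∧ IsPGroup p (zpowers x) ∧ ∃ s : I, (s : G) * x * (s : G)⁻¹ = x⁻¹}
  have hsub : ∀ (x : G) (s : I), (s : G) * x * (s : G)⁻¹ = x⁻¹ → ¬ x * x = 1 →
      x ≠ 1 ∧ IsPGroup p (zpowers x) := by
    intro x s hs hx2
    refine ⟨fun e => hx2 (by rw [e, one_mul]), ?_⟩
    by_cases hd : p ∣ orderOf x
    · obtain ⟨j, hj⟩ := exists_pow_order_prime hd
      obtain ⟨P', hP'⟩ := exists_sylow_mem (isPGroup_of_orderOf_eq hj)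
      have hx1 : x ^ j ≠ 1 := fun e => by rw [e, orderOf_one] at hj; exact hp.out.one_lt.ne hj
      exact P'.2.to_le (zpowers_le.2 (centralizer_le_sylow h hI P' hP' hx1
        (mem_centralizer_singleton_iff.2 (Commute.refl x |>.pow_right j))))
    · exact absurd (sq_eq_one_of_inverted h.hab h.odd_p (hsq s) (hp.out.coprime_iff_not_dvd.2 hd).symm hs) hx2
  have hinvert : ∀ (P' : Sylow p G) (s : I), (s : G) ∈ normalizer ((P' : Subgroup G) : Set G) →
      ∀ a ∈ (P' : Subgroup G), (s : G) * a * (s : G)⁻¹ = a⁻¹ := fun P' s hs a ha =>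
    conj_eq_inv P' (h.cyc P') h.odd_p hs (hsq s) (fun hC => hne1 s (hI P' s hC (hcop s))) ha
  have hright : Nat.card D = Nat.card X * Nat.card (P : Subgroup G) := by
    let F := fun x : X => {s : I // (s : G) * x * (s : G)⁻¹ = (x : G)⁻¹}
    have hF : ∀ x : X, Nat.card (F x) = Nat.card (P : Subgroup G) := by
      rintro ⟨x, hx1, hxp, s₀, hs₀⟩
      obtain ⟨P', hP'⟩ := exists_sylow_mem hxp
      rw [Nat.card_congr (P.equiv P').toEquiv]
      refine (Nat.card_congr (Equiv.ofBijective (fun a : (P' : Subgroup G) =>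
        (⟨⟨(s₀ : G) * a, ?_⟩, ?_⟩ : F ⟨x, hx1, hxp, s₀, hs₀⟩)) ⟨?_, ?_⟩)).symm
      · refine orderOf_eq_prime ?_ ?_
        · rw [pow_two]
          calc (s₀ : G) * a * (s₀ * a) = (s₀ : G) * a * (s₀ : G)⁻¹ * a := by rw [hinvI]; group
            _ = 1 := by rw [hinvert P' s₀ (h.normalizer_of_inverts P' hP' hx1 hs₀) a a.2, inv_mul_cancel]
        · intro e
          have : (s₀ : G) ∈ (P' : Subgroup G) := by rw [eq_inv_of_mul_eq_one_left e]; exact inv_mem a.2
          exact hne1 s₀ (eq_one_of_coprime_of_isPGroup (hcop s₀) (P'.2.to_le (zpowers_le.2 this)))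
      · change (s₀ : G) * a * x * ((s₀ : G) * a)⁻¹ = x⁻¹
        rw [mul_assoc (s₀ : G) a x, commute_of_mem P' (h.cyc P') a.2 hP', ← mul_assoc, mul_inv_rev]
        calc (s₀ : G) * x * a * ((a : G)⁻¹ * (s₀ : G)⁻¹) = s₀ * x * (s₀ : G)⁻¹ := by group
          _ = x⁻¹ := hs₀
      · intro a b hab'
        exact Subtype.ext (mul_left_cancel (congrArg (fun z : F _ => ((z.1 : I) : G)) hab'))
      · rintro ⟨s, hs⟩
        refine ⟨⟨(s₀ : G)⁻¹ * s, centralizer_le_sylow h hI P' hP' hx1 (mem_centralizer_singleton_iff.2 ?_)⟩,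
          Subtype.ext (Subtype.ext (mul_inv_cancel_left _ _))⟩
        calc (s₀ : G)⁻¹ * s * x = (s₀ : G)⁻¹ * (s * x * (s : G)⁻¹) * s := by group
          _ = (s₀ : G)⁻¹ * (s₀ * x * (s₀ : G)⁻¹) * s := by rw [hs, hs₀]
          _ = x * ((s₀ : G)⁻¹ * s) := by group
    have e : D ≃ Σ x : X, F x :=
      { toFun := fun z => ⟨⟨(z.2.1 : G) * z.1, by
            have hz := z.2.2
            have h1 : ((z.2.1 : I) : G) * ((z.2.1 : G) * z.1) * ((z.2.1 : I) : G)⁻¹ = ((z.2.1 : G) * z.1)⁻¹ := by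
              rw [mul_inv_rev, hinvI, hinvI, ← mul_assoc, hsq, one_mul]
            obtain ⟨h2, h3⟩ := hsub _ _ h1 (fun e => hz (by
              have := mul_eq_one_iff_eq_inv.1 e
              rw [mul_inv_rev, hinvI, hinvI] at this
              exact this))
            exact ⟨h2, h3, z.2.1, h1⟩⟩, ⟨z.2.1,
              show (z.2.1 : G) * ((z.2.1 : G) * z.1) * ((z.2.1 : I) : G)⁻¹ = ((z.2.1 : G) * z.1)⁻¹ by
              rw [mul_inv_rev, hinvI, hinvI, ← mul_assoc, hsq, one_mul]⟩⟩
        invFun := fun z => ⟨⟨(z.2.1 : G) * z.1, orderOf_eq_prime (by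
            rw [pow_two]
            calc (z.2.1 : G) * z.1 * (z.2.1 * z.1) = (z.2.1 : G) * z.1 * (z.2.1 : G)⁻¹ * z.1 := by rw [hinvI]; group
              _ = 1 := by rw [z.2.2, inv_mul_cancel]) (fun e => by
            have hx := z.1.2.2.1
            rw [eq_inv_of_mul_eq_one_right e, zpowers_inv] at hx
            exact hne1 z.2.1 (eq_one_of_coprime_of_isPGroup (hcop _) hx))⟩, ⟨z.2.1, fun hc => by
            have hc' : (z.2.1 : G) * (z.2.1 * z.1) = z.2.1 * z.1 * z.2.1 := hc
            have h1 : (z.2.1 : G) * z.1 * (z.2.1 : G)⁻¹ = z.1 := by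
              rw [← mul_assoc, hsq, one_mul] at hc'
              rw [hinvI]; exact hc'.symm
            rw [z.2.2] at h1
            refine z.1.2.1 (eq_one_of_coprime_of_isPGroup (coprime_of_sq h.odd_p ?_) z.1.2.2.1)
            nth_rewrite 1 [← h1]; exact inv_mul_cancel _⟩⟩
        left_inv := fun ⟨t, s, hst⟩ => by
          have : (⟨(s : G) * ((s : G) * t), by rw [← mul_assoc, hsq, one_mul]; exact t.2⟩ : I) = t :=
            Subtype.ext (by simp only [← mul_assoc, hsq, one_mul])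
          refine Sigma.subtype_ext this rfl
        right_inv := fun ⟨⟨x, hx⟩, ⟨s, hs⟩⟩ => by
          refine Sigma.subtype_ext (Subtype.ext ?_) rfl
          simp only [← mul_assoc, hsq, one_mul] }
    rw [Nat.card_congr e, Nat.card_sigma, Finset.sum_congr rfl fun x _ => hF x, Finset.sum_const,
      Finset.card_univ, smul_eq_mul, Nat.card_eq_fintype_card (α := X)]
  have hpX : p ∣ Nat.card X := by
    rw [hright, mul_comm (Nat.card X)] at hleft
    exact Nat.dvd_of_mul_dvd_mul_left Nat.card_pos hleft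
  have hinvX : ∀ a ∈ (P : Subgroup G), ∀ x ∈ X, a * x * a⁻¹ ∈ X := by
    rintro a ha x ⟨hx1, hxp, s, hs⟩
    refine ⟨fun e => hx1 (conj_eq_one_iff.1 e), ?_, ⟨⟨a * s * a⁻¹, by
      rw [show orderOf (a * (s : G) * a⁻¹) = orderOf (s : G) from (MulAut.conj a).orderOf_eq s]; exact s.2⟩, ?_⟩⟩
    · have := hxp.map (MulAut.conj a).toMonoidHom
      rwa [MonoidHom.map_zpowers] at this
    · calc a * s * a⁻¹ * (a * x * a⁻¹) * (a * s * a⁻¹)⁻¹ = a * (s * x * (s : G)⁻¹) * a⁻¹ := by group
        _ = (a * x * a⁻¹)⁻¹ := by rw [hs]; group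
  -- some pair of involutions does not commute
  obtain ⟨x₀, hx₀⟩ : X.Nonempty := by
    by_contra hX
    rw [Set.not_nonempty_iff_eq_empty] at hX
    have hD : Nat.card D = 0 := by rw [hright, hX]; simp
    have hcomm : ∀ s t : I, Commute (s : G) t := fun s t => by
      by_contra hc
      haveI : Nonempty D := ⟨⟨t, s, hc⟩⟩
      exact (Nat.card_pos (α := D)).ne' hD
    let A := closure (Set.range (Subtype.val : I → G))
    have hA : A.Normal := ⟨fun a ha g => by
      have h' : A.map (MulAut.conj g).toMonoidHom ≤ A := by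
        rw [MonoidHom.map_closure, closure_le]
        rintro _ ⟨_, ⟨s, rfl⟩, rfl⟩
        exact subset_closure ⟨⟨_, ((MulAut.conj g).orderOf_eq s).trans s.2⟩, rfl⟩
      exact h' ⟨a, ha, rfl⟩⟩
    obtain ⟨t, ht⟩ := exists_prime_orderOf_dvd_card' (G := G) 2 h2
    have htA : t ∈ A := subset_closure ⟨⟨t, ht⟩, rfl⟩
    rcases h.simple A hA with h0 | h0
    · rw [h0, mem_bot] at htA
      exact hne1 ⟨t, ht⟩ htA
    · haveI : IsMulCommutative A := isMulCommutative_closure (by
        rintro _ ⟨s, rfl⟩ _ ⟨t, rfl⟩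
        exact hcomm s t)
      exact h.not_comm fun a b => congrArg Subtype.val
        (mul_comm' (⟨a, h0.ge (mem_top a)⟩ : A) ⟨b, h0.ge (mem_top b)⟩)
  obtain ⟨hx1, hxp, s₀, hs₀⟩ := hx₀
  obtain ⟨P', hP'⟩ := exists_sylow_mem hxp
  obtain ⟨g, hg⟩ := exists_conjugator P P'
  have hall : ∀ a ∈ (P : Subgroup G), a ≠ 1 → a ∈ X := by
    intro a ha ha1
    refine ⟨ha1, P.2.to_le (zpowers_le.2 ha), ⟨⟨g⁻¹ * s₀ * g, ?_⟩, ?_⟩⟩
    · have := (MulAut.conj g⁻¹).orderOf_eq (s₀ : G)
      rw [MulAut.conj_apply, inv_inv] at this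
      rw [this]; exact s₀.2
    · have hb : g * a * g⁻¹ ∈ (P' : Subgroup G) := (hg _).2 (by simpa [mul_assoc] using ha)
      have hc := hinvert P' s₀ (h.normalizer_of_inverts P' hP' hx1 hs₀) _ hb
      calc g⁻¹ * s₀ * g * a * (g⁻¹ * s₀ * g)⁻¹ = g⁻¹ * (s₀ * (g * a * g⁻¹) * (s₀ : G)⁻¹) * g := by group
        _ = a⁻¹ := by rw [hc]; group
  have hfix : Nat.card {x : G | x ∈ X ∧ ∀ a ∈ (P : Subgroup G), a * x * a⁻¹ = x} =
      Nat.card (P : Subgroup G) - 1 := by
    have : {x : G | x ∈ X ∧ ∀ a ∈ (P : Subgroup G), a * x * a⁻¹ = x} = ((P : Subgroup G) : Set G) \ {1} := by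
      ext x
      constructor
      · rintro ⟨hx, hfx⟩
        obtain ⟨a, ha, ha1⟩ := hP1
        exact ⟨centralizer_le_sylow h hI P ha ha1
          (mem_centralizer_singleton_iff.2 (mul_inv_eq_iff_eq_mul.1 (hfx a ha)).symm), hx.1⟩
      · rintro ⟨hx, hx1'⟩
        exact ⟨hall x hx hx1', fun a ha => by rw [commute_of_mem P (h.cyc P) ha hx, mul_inv_cancel_right]⟩
    rw [Nat.card_coe_set_eq, this, Set.ncard_diff_singleton_of_mem (one_mem (P : Subgroup G)),
      ← Nat.card_coe_set_eq]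
    rfl
  have hmod := card_modEq_fixed P.2 X hinvX
  rw [hfix] at hmod
  have hd : p ∣ Nat.card (P : Subgroup G) - 1 :=
    Nat.modEq_zero_iff_dvd.1 (hmod.symm.trans (Nat.modEq_zero_iff_dvd.2 hpX))
  have := Nat.dvd_sub hPp hd
  rw [Nat.sub_sub_self (Nat.card_pos : 0 < Nat.card (P : Subgroup G))] at this
  exact hp.out.not_dvd_one this

theorem false_of_no_central : False := by
  by_cases h2 : 2 ∣ Nat.card G
  · exact false_of_even h hI h2
  haveI : Group.IsSolvable G := Cfsg.Agent.S0182.result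
    (Nat.not_even_iff_odd.1 fun he => h2 he.two_dvd) (ca_group h hI)
  rcases h.simple (_root_.commutator G) inferInstance with h0 | h0
  · refine h.not_comm fun a b => ?_
    open scoped commutatorElement in
    have : ⁅a, b⁆ ∈ _root_.commutator G := commutator_mem_commutator (mem_top a) (mem_top b)
    rw [h0, mem_bot, commutatorElement_eq_one_iff_mul_comm] at this
    exact this
  · haveI : Nontrivial G := not_subsingleton_iff_nontrivial.1 fun hs => h.not_comm fun a b => Subsingleton.elim _ _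
    exact (Group.IsSolvable.commutator_lt_top_of_nontrivial G).ne h0

end CaseCA

/-! ## The case with central `p'`-elements -/

section CaseCentral

variable (h : Minimal p G)
include h

theorem isCyclic_mulAut (P : Sylow p G) : IsCyclic (MulAut (P : Subgroup G)) := by
  haveI := h.cyc P
  obtain ⟨n, hn⟩ := P.2.exists_card_eq
  haveI : IsCyclic (ZMod (Nat.card (P : Subgroup G)))ˣ :=
    hn ▸ ZMod.isCyclic_units_of_prime_pow p hp.out h.odd_p n
  exact isCyclic_of_surjective (IsCyclic.mulAutMulEquiv _).symm (IsCyclic.mulAutMulEquiv _).symm.surjective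

/-- A subgroup of exponent dividing `q` acts on a Sylow subgroup through at most `q` automorphisms. -/
theorem card_le_mul_inf (P : Sylow p G) {W : Subgroup G} {q : ℕ} (hq : 0 < q)
    (hW : W ≤ normalizer ((P : Subgroup G) : Set G)) (he : ∀ w ∈ W, w ^ q = 1) :
    Nat.card W ≤ q * Nat.card (W ⊓ centralizer ((P : Subgroup G) : Set G) : Subgroup G) := by
  classical
  set f := (normalizerMonoidHom (P : Subgroup G)).comp (inclusion hW)
  have hker : f.ker.map W.subtype = W ⊓ centralizer ((P : Subgroup G) : Set G) := by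
    rw [← MonoidHom.comap_ker, normalizerMonoidHom_ker]
    ext x
    simp only [mem_map, mem_comap, Subgroup.mem_inf, mem_subgroupOf]
    constructor
    · rintro ⟨w, hw, rfl⟩; exact ⟨w.2, hw⟩
    · rintro ⟨hxW, hx⟩; exact ⟨⟨x, hxW⟩, hx, rfl⟩
  rw [← hker, card_map_of_injective W.subtype_injective, ← f.ker.index_mul_card, index_ker]
  refine Nat.mul_le_mul_right _ ?_
  haveI := isCyclic_mulAut h P
  have := Fintype.ofFinite (MulAut (P : Subgroup G))
  refine le_trans ?_ (IsCyclic.card_pow_eq_one_le (α := MulAut (P : Subgroup G)) hq)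
  rw [← Nat.card_eq_finsetCard]
  refine Nat.card_le_card_of_injective (fun z => (⟨z.1, by
    obtain ⟨w, hw⟩ := z.2
    simp only [Finset.mem_filter, Finset.mem_univ, true_and]
    rw [← hw, ← map_pow, show w ^ q = 1 from Subtype.ext (he w w.2), map_one]⟩ : {a // a ∈ Finset.univ.filter fun a : MulAut (P : Subgroup G) => a ^ q = 1})) ?_
  intro a b hab'
  exact Subtype.ext (congrArg Subtype.val hab' :)

/-- An element of order prime to `p` acting on a Sylow subgroup has order dividing `p - 1` there. -/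
theorem pow_mem_centralizer (P : Sylow p G) {z : G} (hz : z ∈ normalizer ((P : Subgroup G) : Set G))
    (hc : (orderOf z).Coprime p) : z ^ (p - 1) ∈ centralizer ((P : Subgroup G) : Set G) := by
  haveI := h.cyc P
  obtain ⟨n, hn⟩ := P.2.exists_card_eq
  set f := normalizerMonoidHom (P : Subgroup G) ⟨z, hz⟩ with hf
  have h1 : orderOf f ∣ orderOf z := by
    rw [← Subgroup.orderOf_mk z hz]; exact orderOf_map_dvd _ _
  have h2 : orderOf f ∣ p - 1 := by
    have h3 : orderOf f ∣ Nat.card (MulAut (P : Subgroup G)) := orderOf_dvd_natCard f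
    rw [IsCyclic.card_mulAut, hn] at h3
    rcases Nat.eq_zero_or_pos n with rfl | hn0
    · rw [pow_zero, Nat.totient_one] at h3
      exact h3.trans (one_dvd _)
    · rw [Nat.totient_prime_pow hp.out hn0] at h3
      exact ((Nat.Coprime.coprime_dvd_left h1 hc).pow_right _).dvd_of_dvd_mul_left h3
  have h4 : (⟨z, hz⟩ : normalizer ((P : Subgroup G) : Set G)) ^ (p - 1) ∈
      (normalizerMonoidHom (P : Subgroup G)).ker := by
    rw [MonoidHom.mem_ker, map_pow, ← hf]; exact orderOf_dvd_iff_pow_eq_one.1 h2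
  rw [normalizerMonoidHom_ker, mem_subgroupOf] at h4
  exact h4

/-- The configuration around one central `p'`-element of prime order. -/
theorem central_prime (P : Sylow p G) {q : ℕ} [hq : Fact q.Prime] {v : G} (hv : orderOf v = q)
    (hqp : q ≠ p) (hvC : v ∈ centralizer ((P : Subgroup G) : Set G)) (Q : Sylow q G)
    (hvQ : v ∈ (Q : Subgroup G)) :
    q = 2 ∧ p = 3 ∧ Nat.card (Q : Subgroup G) = 4 ∧
      (∀ z ∈ (Q : Subgroup G), z ∈ centralizer ((P : Subgroup G) : Set G) → z = 1 ∨ z = v) ∧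
      (∀ z ∈ (Q : Subgroup G), z ≠ 1 → ∃ P' : Sylow p G, z ∈ centralizer ((P' : Subgroup G) : Set G)) ∧
      (∃ w : G, orderOf w = 2 ∧ w ∈ normalizer ((P : Subgroup G) : Set G) ∧
        w ∉ centralizer ((P : Subgroup G) : Set G)) := by
  classical
  have hcop : ∀ z ∈ (Q : Subgroup G), (orderOf z).Coprime p := by
    intro z hz
    obtain ⟨k, hk⟩ := IsPGroup.iff_orderOf.1 Q.2 ⟨z, hz⟩
    rw [orderOf_mk] at hk
    rw [hk]
    exact ((Nat.coprime_primes hq.out hp.out).2 hqp).pow_left k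
  have hQp : ¬ p ∣ Nat.card (Q : Subgroup G) :=
    (CfsgLib.Fusion.not_dvd_card_iff_forall_coprime_orderOf _).2 hcop
  haveI := h.hab _ hQp
  have hQc : ∀ a ∈ (Q : Subgroup G), ∀ b ∈ (Q : Subgroup G), a * b = b * a := fun a ha b hb =>
    congrArg Subtype.val (mul_comm' (⟨a, ha⟩ : (Q : Subgroup G)) ⟨b, hb⟩)
  have hv1 : v ≠ 1 := fun e => by rw [e, orderOf_one] at hv; exact hq.out.one_lt.ne hv
  have hQN : ∀ (P' : Sylow p G) (z : G), z ∈ (Q : Subgroup G) → z ≠ 1 →
      z ∈ centralizer ((P' : Subgroup G) : Set G) →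
      (Q : Subgroup G) ≤ normalizer ((P' : Subgroup G) : Set G) := fun P' z hz hz1 hzC a ha =>
    h.centralizer_eq P' (hcop z hz) hz1 hzC ▸ mem_centralizer_singleton_iff.2 (hQc a ha z hz)
  -- a `p`-element moving `P`
  obtain ⟨y, hyN, hyp, hyP⟩ : ∃ y ∈ normalizer ((Q : Subgroup G) : Set G), IsPGroup p (zpowers y) ∧
      y ∉ normalizer ((P : Subgroup G) : Set G) := by
    by_contra hno
    push Not at hno
    have hNC : normalizer ((Q : Subgroup G) : Set G) ≤ centralizer ((Q : Subgroup G) : Set G) := by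
      intro g hg
      refine mem_of_parts (p := p) (fun j hj => mem_centralizer_iff.2 fun z hz =>
        (commute_of_normalizes h.hab hQp hj (pow_mem hg j) hz).symm) fun j hj => ?_
      refine mem_centralizer_iff.2 fun z hz => ?_
      have hgP := mem_sylow_of_mem_normalizer P hj (hno _ (pow_mem hg j) hj)
      have hzN : z ∈ normalizer ((P : Subgroup G) : Set G) := hQN P v hvQ hv1 hvC hz
      have hm : z * g ^ j * z⁻¹ * (g ^ j)⁻¹ ∈ (P : Subgroup G) ⊓ (Q : Subgroup G) := by
        refine Subgroup.mem_inf.2 ⟨Subgroup.mul_mem _ ((mem_normalizer_iff.1 hzN _).1 hgP) (Subgroup.inv_mem _ hgP), ?_⟩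
        rw [show z * g ^ j * z⁻¹ * (g ^ j)⁻¹ = z * (g ^ j * z⁻¹ * (g ^ j)⁻¹) by group]
        exact Subgroup.mul_mem _ hz ((mem_normalizer_iff.1 (pow_mem hg j) _).1 (Subgroup.inv_mem _ hz))
      obtain ⟨k, hk⟩ := P.2.exists_card_eq
      have hbot : (P : Subgroup G) ⊓ (Q : Subgroup G) = ⊥ :=
        inf_eq_bot_of_coprime (by rw [hk]; exact (hp.out.coprime_iff_not_dvd.2 hQp).pow_left k)
      rw [hbot, mem_bot, mul_inv_eq_one, mul_inv_eq_iff_eq_mul] at hm
      exact hm
    obtain ⟨Q', K, hKn, hKc⟩ := CfsgLib.Fusion.hasNormalPComplement_of_normalizer_le_centralizer Q hNC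
    have hG := hKc.card_mul
    rcases h.simple K hKn with h0 | h0
    · rw [h0, card_bot, one_mul] at hG
      exact hQp (by rw [← Nat.card_congr (Q'.equiv Q).toEquiv, hG]; exact h.dvd)
    · rw [h0, card_top] at hG
      have hd : q ∣ Nat.card (Q' : Subgroup G) := by
        have h3 := orderOf_dvd_natCard (⟨v, hvQ⟩ : (Q : Subgroup G))
        rw [Subgroup.orderOf_mk, hv] at h3
        rwa [Nat.card_congr (Q'.equiv Q).toEquiv]
      nlinarith [Nat.le_of_dvd Nat.card_pos hd, (Nat.card_pos : 0 < Nat.card G), hq.out.two_le]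
  -- the Sylow subgroups centralized by an element of order `q` of `Q`
  let V : Subgroup G :=
    { carrier := {z | z ∈ (Q : Subgroup G) ∧ z ^ q = 1}
      one_mem' := ⟨one_mem _, one_pow q⟩
      mul_mem' := fun {a b} ha hb => ⟨mul_mem ha.1 hb.1, by
        rw [Commute.mul_pow (hQc a ha.1 b hb.1), ha.2, hb.2, one_mul]⟩
      inv_mem' := fun {a} ha => ⟨inv_mem ha.1, by rw [inv_pow, ha.2, inv_one]⟩ }
  have hvV : v ∈ V := ⟨hvQ, by rw [← hv, pow_orderOf_eq_one]⟩
  let S : Set (Sylow p G) := {P' | ∃ z ∈ V, z ≠ 1 ∧ z ∈ centralizer ((P' : Subgroup G) : Set G)}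
  have hPS : P ∈ S := ⟨v, hvV, hv1, hvC⟩
  have horb : MulAction.orbit (zpowers y) P ⊆ S := by
    rintro _ ⟨⟨g, hg⟩, rfl⟩
    have hgN : g ∈ normalizer ((Q : Subgroup G) : Set G) := zpowers_le.2 hyN hg
    refine ⟨g * v * g⁻¹, ⟨(mem_normalizer_iff.1 hgN v).1 hvQ, by rw [conj_pow, hvV.2, mul_one, mul_inv_cancel]⟩,
      fun e => hv1 (conj_eq_one_iff.1 e), mem_centralizer_iff.2 fun a ha => ?_⟩
    have ha' : g⁻¹ * a * g ∈ (P : Subgroup G) := by
      change a ∈ ((g • P : Sylow p G) : Subgroup G) at ha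
      rw [Sylow.coe_subgroup_smul] at ha
      open scoped Pointwise in rw [Subgroup.mem_pointwise_smul_iff_inv_smul_mem] at ha
      simpa [MulAut.conj_apply, mul_assoc] using ha
    have hc := mem_centralizer_iff.1 hvC _ ha'
    calc a * (g * v * g⁻¹) = g * (g⁻¹ * a * g * v) * g⁻¹ := by group
      _ = g * (v * (g⁻¹ * a * g)) * g⁻¹ := by rw [hc]
      _ = g * v * g⁻¹ * a := by group
  have hpS : p ≤ Nat.card S := by
    obtain ⟨k, hk⟩ := hyp.card_orbit P
    refine le_trans ?_ (Nat.card_mono (Set.toFinite _) horb)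
    rcases Nat.eq_zero_or_pos k with rfl | hk0
    · exfalso
      rw [pow_zero, Nat.card_eq_one_iff_unique] at hk
      have := congrArg Subtype.val (hk.1.elim (⟨_, MulAction.mem_orbit P (⟨y, mem_zpowers y⟩ : zpowers y)⟩ :
        MulAction.orbit (zpowers y) P) ⟨P, MulAction.mem_orbit_self P⟩)
      exact hyP (Sylow.smul_eq_iff_mem_normalizer.1 this)
    · rw [hk]; exact Nat.le_self_pow hk0.ne' p
  obtain ⟨P2, hP2, hne⟩ : ∃ P2 ∈ S, P2 ≠ P := by
    by_contra hc
    push Not at hc
    have : Nat.card S ≤ 1 := by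
      rw [Nat.card_coe_set_eq, Set.ncard_le_one]
      exact fun a ha b hb => (hc a ha).trans (hc b hb).symm
    exact absurd (hpS.trans this) (not_le.2 hp.out.one_lt)
  obtain ⟨w, hwV, hw1, hwC⟩ := hP2
  have hVQ : V ≤ (Q : Subgroup G) := fun z hz => hz.1
  have hVN : ∀ P' ∈ S, V ≤ normalizer ((P' : Subgroup G) : Set G) := fun P' ⟨z, hz, hz1, hzC⟩ =>
    hVQ.trans (hQN P' z hz.1 hz1 hzC)
  have hdisj : ∀ (P₁ P₂ : Sylow p G) (z : G), P₁ ≠ P₂ → z ∈ (Q : Subgroup G) →
      z ∈ centralizer ((P₁ : Subgroup G) : Set G) → z ∈ centralizer ((P₂ : Subgroup G) : Set G) → z = 1 :=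
    fun P₁ P₂ z hne' hz h1 h2 => by_contra fun hz1 => hne' (h.sylow_unique (hcop z hz) hz1 h1 h2)
  -- bounds on `V`
  set K₁ := V ⊓ centralizer ((P : Subgroup G) : Set G) with hK₁
  have hK₁le : Nat.card K₁ ≤ q := by
    have h1 := card_le_mul_inf h P2 (W := K₁) hq.out.pos (inf_le_left.trans (hVN P2 ⟨w, hwV, hw1, hwC⟩))
      (fun z hz => hz.1.2)
    have h2 : K₁ ⊓ centralizer ((P2 : Subgroup G) : Set G) = ⊥ := by
      rw [eq_bot_iff]
      exact fun z hz => mem_bot.2 (hdisj P P2 z hne.symm hz.1.1.1 hz.1.2 hz.2)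
    rwa [h2, card_bot, mul_one] at h1
  have hVle : Nat.card V ≤ q * q :=
    (card_le_mul_inf h P hq.out.pos (hVN P hPS) fun z hz => hz.2).trans (Nat.mul_le_mul_left q hK₁le)
  -- counting the non-identity elements of the kernels
  let T := Σ P' : S, {z : G // z ∈ V ∧ z ≠ 1 ∧ z ∈ centralizer (((P' : Sylow p G) : Subgroup G) : Set G)}
  let ι : T → {z : G // z ∈ V ∧ z ≠ 1} := fun x => ⟨x.2.1, x.2.2.1, x.2.2.2.1⟩
  have hι : Function.Injective ι := by
    rintro ⟨P₁, z₁, hz₁⟩ ⟨P₂, z₂, hz₂⟩ he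
    have he' : z₁ = z₂ := congrArg Subtype.val he
    subst he'
    obtain rfl : P₁ = P₂ := Subtype.ext (by_contra fun hne' => hz₁.2.1 (hdisj _ _ z₁ hne' hz₁.1.1 hz₁.2.2 hz₂.2.2))
    rfl
  have hV1 : Nat.card {z : G // z ∈ V ∧ z ≠ 1} = Nat.card V - 1 := by
    rw [show Nat.card {z : G // z ∈ V ∧ z ≠ 1} = ((V : Set G) \ {1}).ncard from
        Nat.card_coe_set_eq ((V : Set G) \ {1}),
      Set.ncard_diff_singleton_of_mem (one_mem V), ← Nat.card_coe_set_eq]
    rfl
  have hTge : Nat.card S * (q - 1) ≤ Nat.card T := by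
    have := Fintype.ofFinite S
    rw [Nat.card_sigma, Nat.card_eq_fintype_card (α := S), ← Finset.card_univ, ← smul_eq_mul]
    refine Finset.card_nsmul_le_sum _ _ _ ?_
    rintro ⟨P', z, hz, hz1, hzC⟩ _
    have hle : ((zpowers z : Subgroup G) : Set G) \ {1} ⊆
        {x : G | x ∈ V ∧ x ≠ 1 ∧ x ∈ centralizer ((P' : Subgroup G) : Set G)} := fun x hx =>
      ⟨zpowers_le.2 hz hx.1, hx.2, zpowers_le.2 hzC hx.1⟩
    refine le_trans ?_ (Nat.card_mono (Set.toFinite _) hle)
    rw [Nat.card_coe_set_eq, Set.ncard_diff_singleton_of_mem (one_mem _), ← Nat.card_coe_set_eq,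
      show Nat.card ((zpowers z : Subgroup G) : Set G) = Nat.card (zpowers z) from rfl, Nat.card_zpowers,
      orderOf_eq_prime hz.2 hz1]
  have hTle : Nat.card T ≤ Nat.card V - 1 := hV1 ▸ Nat.card_le_card_of_injective ι hι
  have hqd : q ∣ p - 1 := by
    have h1 := pow_mem_centralizer h P2 (hVN P2 ⟨w, hwV, hw1, hwC⟩ hvV) (hcop v hvQ)
    have h2 : v ^ (p - 1) = 1 := hdisj P P2 _ hne.symm (pow_mem hvQ _) (pow_mem hvC _) h1
    rw [← hv]; exact orderOf_dvd_of_pow_eq_one h2
  have hV1' : 1 ≤ Nat.card V := Nat.card_pos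
  have hq2 := hq.out.two_le
  have hm : Nat.card S ≤ q + 1 := by
    by_contra hc
    push Not at hc
    obtain ⟨r, rfl⟩ : ∃ r, q = r + 2 := ⟨q - 2, by omega⟩
    have h1 : (r + 4) * (r + 1) ≤ Nat.card S * (r + 2 - 1) := by
      rw [show r + 2 - 1 = r + 1 by omega]; exact Nat.mul_le_mul_right _ (by omega)
    have h2 : Nat.card S * (r + 2 - 1) + 1 ≤ (r + 2) * (r + 2) := by omega
    nlinarith
  have hp3 : q = 2 ∧ p = 3 := by
    have h1 := Nat.le_of_dvd (by have := hp.out.two_le; omega) hqd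
    have h2 : q = p - 1 := by have := hpS.trans hm; omega
    have hodd := hp.out.odd_of_ne_two h.odd_p
    have h3 : 2 ∣ q := by obtain ⟨k, hk⟩ := hodd; omega
    have h4 := (Nat.prime_dvd_prime_iff_eq Nat.prime_two hq.out).1 h3
    omega
  obtain ⟨rfl, rfl⟩ := hp3
  -- `Q` has exponent two
  have hexp : ∀ z ∈ (Q : Subgroup G), z ∈ V := fun z hz => ⟨hz, hdisj P P2 _ hne.symm (pow_mem hz _)
    (pow_mem_centralizer h P (hQN P v hvQ hv1 hvC hz) (hcop z hz))
    (pow_mem_centralizer h P2 (hQN P2 w hwV.1 hw1 hwC hz) (hcop z hz))⟩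
  have hQV : (Q : Subgroup G) = V := le_antisymm hexp hVQ
  have hcard : Nat.card (Q : Subgroup G) = 4 := by rw [hQV]; omega
  refine ⟨rfl, rfl, hcard, fun z hz hzC => ?_, fun z hz hz1 => ?_, w, ?_, ?_, ?_⟩
  · by_contra hne'
    push Not at hne'
    have h3 : 3 ≤ Nat.card K₁ := by
      have hsub : ({1, v, z} : Set G) ⊆ (K₁ : Set G) := by
        rintro x (rfl | rfl | rfl)
        · exact one_mem K₁
        · exact ⟨hvV, hvC⟩
        · exact ⟨hexp _ hz, hzC⟩
      have := Nat.card_mono (Set.toFinite _) hsub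
      rwa [Nat.card_coe_set_eq ({1, v, z} : Set G), Set.ncard_eq_three.2 ⟨1, v, z, hv1.symm, hne'.1.symm, hne'.2.symm, rfl⟩] at this
    omega
  · have hbij : Function.Bijective ι := (Nat.bijective_iff_injective_and_card ι).2 ⟨hι, by
      rw [hV1]; omega⟩
    obtain ⟨x, hx⟩ := hbij.2 ⟨z, hexp z hz, hz1⟩
    refine ⟨x.1.1, ?_⟩
    have hxe : x.2.1 = z := congrArg Subtype.val hx
    exact hxe ▸ x.2.2.2.2
  · exact orderOf_eq_prime hwV.2 hw1
  · exact hQN P v hvQ hv1 hvC hwV.1
  · exact fun hc => hw1 (hdisj P P2 w hne.symm hwV.1 hc hwC)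

theorem exists_sylow_two_mem {T : Set G} (h2 : ∀ x ∈ T, x * x = 1)
    (hc : ∀ x ∈ T, ∀ y ∈ T, x * y = y * x) :
    ∃ Q : Sylow 2 G, T ⊆ ((Q : Subgroup G) : Set G) := by
  haveI := Fact.mk Nat.prime_two
  haveI : IsMulCommutative (closure T) := isMulCommutative_closure hc
  have hcl : IsPGroup 2 (closure T) := by
    rintro ⟨z, hz⟩
    refine ⟨1, Subtype.ext ?_⟩
    change z ^ (2 ^ 1) = 1
    rw [pow_one]
    induction hz using Subgroup.closure_induction with
    | mem x hx => rw [pow_two]; exact h2 x hx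
    | one => exact one_pow 2
    | mul x y hx hy ihx ihy =>
      have : Commute x y := congrArg Subtype.val (mul_comm' (⟨x, hx⟩ : closure T) ⟨y, hy⟩)
      rw [this.mul_pow, ihx, ihy, one_mul]
    | inv x _ ihx => rw [inv_pow, ihx, inv_one]
  obtain ⟨Q, hQ⟩ := hcl.exists_le_sylow
  exact ⟨Q, fun x hx => hQ (subset_closure hx)⟩

theorem false_of_central (P₀ : Sylow p G) {v₀ : G} (hc₀ : v₀ ∈ centralizer ((P₀ : Subgroup G) : Set G))
    (hv₀ : (orderOf v₀).Coprime p) (hne₀ : v₀ ≠ 1) : False := by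
  classical
  haveI := Fact.mk Nat.prime_two
  have := Fintype.ofFinite G
  -- an involution centralizes a Sylow subgroup
  obtain ⟨q, hq, hqd⟩ := Nat.exists_prime_and_dvd (mt orderOf_eq_one_iff.1 hne₀)
  haveI := Fact.mk hq
  obtain ⟨j, hj⟩ := exists_pow_order_prime hqd
  have hqp : q ≠ p := fun e => by
    subst e; exact hp.out.coprime_iff_not_dvd.1 hv₀.symm hqd
  obtain ⟨Q₀, hQ₀⟩ := exists_sylow_mem (isPGroup_of_orderOf_eq (p := q) hj)
  obtain ⟨hq2, hp3, hcard₀, -, hcov₀, -⟩ := central_prime h P₀ hj hqp (pow_mem hc₀ j) Q₀ hQ₀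
  subst hq2 hp3
  have hcard : ∀ Q : Sylow 2 G, Nat.card (Q : Subgroup G) = 4 := fun Q =>
    (Nat.card_congr (Q.equiv Q₀).toEquiv).trans hcard₀
  have hcover : ∀ s : G, orderOf s = 2 → ∃ P : Sylow 3 G, s ∈ centralizer ((P : Subgroup G) : Set G) := by
    intro s hs
    obtain ⟨Q, hQ⟩ := exists_sylow_mem (isPGroup_of_orderOf_eq (p := 2) hs)
    obtain ⟨g, hg⟩ := exists_conjugator Q₀ Q
    obtain ⟨P, hP⟩ := hcov₀ (g⁻¹ * s * g) ((hg s).1 hQ) (fun e => by
      have : s = 1 := by rwa [← inv_inv g, inv_inv g⁻¹, conj_eq_one_iff] at e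
      rw [this, orderOf_one] at hs; omega)
    refine ⟨g • P, mem_centralizer_iff.2 fun a ha => ?_⟩
    change a ∈ ((g • P : Sylow 3 G) : Subgroup G) at ha
    rw [Sylow.coe_subgroup_smul] at ha
    open scoped Pointwise in rw [Subgroup.mem_pointwise_smul_iff_inv_smul_mem] at ha
    have ha' : g⁻¹ * a * g ∈ (P : Subgroup G) := by simpa [MulAut.conj_apply, mul_assoc] using ha
    have hc := mem_centralizer_iff.1 hP _ ha'
    calc a * s = g * (g⁻¹ * a * g * (g⁻¹ * s * g)) * g⁻¹ := by group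
      _ = g * (g⁻¹ * s * g * (g⁻¹ * a * g)) * g⁻¹ := by rw [hc]
      _ = s * a := by group
  have hdata : ∀ (P : Sylow 3 G) (s : G), orderOf s = 2 → s ∈ centralizer ((P : Subgroup G) : Set G) →
      (∀ t : G, orderOf t = 2 → t ∈ centralizer ((P : Subgroup G) : Set G) → t = s) ∧
      ∃ w : G, orderOf w = 2 ∧ w ∈ normalizer ((P : Subgroup G) : Set G) ∧
        w ∉ centralizer ((P : Subgroup G) : Set G) := by
    intro P s hs hsC
    have hs2 : s * s = 1 := by rw [← pow_two, ← hs, pow_orderOf_eq_one]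
    have hs1 : s ≠ 1 := fun e => by rw [e, orderOf_one] at hs; omega
    have hsc : (orderOf s).Coprime 3 := by rw [hs]; norm_num
    obtain ⟨Q, hQ⟩ := exists_sylow_mem (isPGroup_of_orderOf_eq (p := 2) hs)
    refine ⟨fun t ht htC => ?_, (central_prime h P hs (by norm_num) hsC Q hQ).2.2.2.2.2⟩
    have ht2 : t * t = 1 := by rw [← pow_two, ← ht, pow_orderOf_eq_one]
    have hts : t * s = s * t := mem_centralizer_singleton_iff.1
      ((h.centralizer_eq P hsc hs1 hsC).ge (centralizer_le_normalizer _ htC))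
    obtain ⟨Q', hQ'⟩ := exists_sylow_two_mem h (T := {s, t}) (by
        rintro x (rfl | rfl) <;> assumption) (by
        rintro x (rfl | rfl) y (rfl | rfl)
        exacts [rfl, hts.symm, hts, rfl])
    rcases (central_prime h P hs (by norm_num) hsC Q' (hQ' (Or.inl rfl))).2.2.2.1 t
      (hQ' (Or.inr rfl)) htC with h1 | h1
    · rw [h1, orderOf_one] at ht; omega
    · exact h1
  -- the commuting graph
  let W := {s : G // orderOf s = 2}
  have hsq : ∀ s : W, (s : G) * s = 1 := fun s => by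
    have h1 := pow_orderOf_eq_one (s : G)
    rwa [s.2, pow_two] at h1
  have hne1 : ∀ s : W, (s : G) ≠ 1 := fun s e => by have := s.2; rw [e, orderOf_one] at this; omega
  have hcop : ∀ s : W, (orderOf (s : G)).Coprime 3 := fun s => by rw [s.2]; norm_num
  haveI : Nonempty W := ⟨⟨_, hj⟩⟩
  let R : W → W → Prop := fun a b => a ≠ b ∧ (a : G) * b = b * a
  obtain ⟨s₁⟩ := ‹Nonempty W›
  obtain ⟨P₁, hP₁⟩ := hcover s₁ s₁.2
  have hdeg : ∀ a : W, (Finset.univ.filter fun b => R a b).card =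
      (Finset.univ.filter fun b => R s₁ b).card := by
    intro a
    obtain ⟨P, hP⟩ := hcover a a.2
    obtain ⟨g, hg⟩ := exists_conjugator P₁ P
    have hconj : g⁻¹ * a * g = s₁ := by
      refine (hdata P₁ s₁ s₁.2 hP₁).1 _ (by
        have := (MulAut.conj g⁻¹).orderOf_eq (a : G)
        rw [MulAut.conj_apply, inv_inv] at this
        rw [this]; exact a.2) (mem_centralizer_iff.2 fun b hb => ?_)
      have hb' : g * b * g⁻¹ ∈ (P : Subgroup G) := (hg _).2 (by
        rw [show g⁻¹ * (g * b * g⁻¹) * g = b by group]; exact hb)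
      have hc := mem_centralizer_iff.1 hP _ hb'
      calc b * (g⁻¹ * a * g) = g⁻¹ * (g * b * g⁻¹ * a) * g := by group
        _ = g⁻¹ * (a * (g * b * g⁻¹)) * g := by rw [hc]
        _ = g⁻¹ * a * g * b := by group
    let e : W ≃ W := (MulAut.conj g⁻¹).toEquiv.subtypeEquiv fun b => by
      change orderOf b = 2 ↔ orderOf (MulAut.conj g⁻¹ b) = 2
      rw [MulEquiv.orderOf_eq]
    have he : e a = s₁ := Subtype.ext (show g⁻¹ * (a : G) * g⁻¹⁻¹ = s₁ by rw [inv_inv]; exact hconj)
    refine Finset.card_equiv e fun b => ?_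
    simp only [Finset.mem_filter, Finset.mem_univ, true_and, R]
    rw [← he]
    refine and_congr e.injective.ne_iff.symm ?_
    constructor
    · intro hb
      change g⁻¹ * a * (g⁻¹)⁻¹ * (g⁻¹ * b * (g⁻¹)⁻¹) = g⁻¹ * b * (g⁻¹)⁻¹ * (g⁻¹ * a * (g⁻¹)⁻¹)
      calc g⁻¹ * a * (g⁻¹)⁻¹ * (g⁻¹ * b * (g⁻¹)⁻¹) = g⁻¹ * (a * b) * g := by group
        _ = g⁻¹ * (b * a) * g := by rw [hb]
        _ = _ := by group
    · intro hb
      change g⁻¹ * a * (g⁻¹)⁻¹ * (g⁻¹ * b * (g⁻¹)⁻¹) = g⁻¹ * b * (g⁻¹)⁻¹ * (g⁻¹ * a * (g⁻¹)⁻¹) at hb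
      calc (a : G) * b = g * (g⁻¹ * a * (g⁻¹)⁻¹ * (g⁻¹ * b * (g⁻¹)⁻¹)) * g⁻¹ := by group
        _ = g * (g⁻¹ * b * (g⁻¹)⁻¹ * (g⁻¹ * a * (g⁻¹)⁻¹)) * g⁻¹ := by rw [hb]
        _ = b * a := by group
  have hd : 3 ≤ (Finset.univ.filter fun b => R s₁ b).card := by
    obtain ⟨w, hw, hwN, hwC⟩ := (hdata P₁ s₁ s₁.2 hP₁).2
    have hw2 : w * w = 1 := by rw [← pow_two, ← hw, pow_orderOf_eq_one]
    have hwi : w⁻¹ = w := inv_eq_of_mul_eq_one_right hw2
    have hmap : ∀ a ∈ (P₁ : Subgroup G), orderOf (w * a) = 2 := fun a ha => orderOf_eq_prime (by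
        rw [pow_two]
        calc w * a * (w * a) = w * a * w⁻¹ * a := by rw [hwi]; group
          _ = 1 := by rw [conj_eq_inv P₁ (h.cyc P₁) h.odd_p hwN hw2 hwC ha, inv_mul_cancel])
      (fun e => hwC (by
        rw [eq_inv_of_mul_eq_one_left e]
        exact mem_centralizer_iff.2 fun b hb => commute_of_mem P₁ (h.cyc P₁) hb (inv_mem ha)))
    refine le_trans (Nat.le_of_dvd Nat.card_pos (P₁.dvd_card_of_dvd_card h.dvd)) ?_
    rw [← Nat.card_eq_finsetCard]
    refine Nat.card_le_card_of_injective (fun a : (P₁ : Subgroup G) =>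
      (⟨⟨w * a, hmap a a.2⟩, ?_⟩ : {b : W // b ∈ Finset.univ.filter fun b => R s₁ b})) ?_
    · simp only [Finset.mem_filter, Finset.mem_univ, true_and, R]
      refine ⟨fun e => hwC ?_, ?_⟩
      · have e' : (s₁ : G) = w * a := congrArg Subtype.val e
        rw [show w = (s₁ : G) * (a : G)⁻¹ by rw [e', mul_inv_cancel_right]]
        exact mul_mem hP₁ (inv_mem (mem_centralizer_iff.2 fun b hb => commute_of_mem P₁ (h.cyc P₁) hb a.2))
      · exact (mem_centralizer_singleton_iff.1 ((h.centralizer_eq P₁ (hcop s₁) (hne1 s₁) hP₁).ge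
          (mul_mem hwN (le_normalizer a.2)))).symm
    · intro a b hab'
      exact Subtype.ext (mul_left_cancel (congrArg (fun z : {b : W // b ∈ _} => ((z.1 : W) : G)) hab'))
  refine CfsgLib.PGroup.regular_friendship_false R (fun a b hab' => ⟨hab'.1.symm, hab'.2.symm⟩)
    (fun a ha => ha.1 rfl) hd hdeg fun a b hne => ?_
  rw [Finset.card_eq_one]
  by_cases hcomm : (a : G) * b = b * a
  · have hab2 : ((a : G) * b) * (a * b) = 1 := by
      calc (a : G) * b * (a * b) = a * (b * a) * b := by group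
        _ = a * (a * b) * b := by rw [hcomm]
        _ = (a : G) * a * (b * b) := by group
        _ = 1 := by rw [hsq, hsq, one_mul]
    have habne : (a : G) * b ≠ 1 := fun e => hne (Subtype.ext (by
      rw [eq_inv_of_mul_eq_one_left e, inv_eq_of_mul_eq_one_right (hsq b)]))
    refine ⟨⟨a * b, orderOf_eq_prime (by rw [pow_two]; exact hab2) habne⟩, Finset.ext fun c => ?_⟩
    simp only [Finset.mem_filter, Finset.mem_univ, true_and, Finset.mem_singleton, R]
    constructor
    · rintro ⟨⟨hca, hac⟩, hcb, hcb'⟩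
      refine Subtype.ext (by_contra fun hne' => ?_)
      obtain ⟨Q, hQ⟩ := exists_sylow_two_mem h (T := {(a : G), (b : G), (c : G)}) (by
          rintro x (rfl | rfl | rfl) <;> exact hsq _) (by
          rintro x (rfl | rfl | rfl) y (rfl | rfl | rfl)
          exacts [rfl, hcomm, hac, hcomm.symm, rfl, hcb'.symm, hac.symm, hcb', rfl])
      have ha : (a : G) ∈ (Q : Subgroup G) := hQ (Or.inl rfl)
      have hb : (b : G) ∈ (Q : Subgroup G) := hQ (Or.inr (Or.inl rfl))
      have hc : (c : G) ∈ (Q : Subgroup G) := hQ (Or.inr (Or.inr rfl))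
      have hsub : (({1, (a : G), (b : G), (a : G) * (b : G), (c : G)} : Finset G) : Set G) ⊆ ((Q : Subgroup G) : Set G) := by
        intro x hx
        simp only [Finset.coe_insert, Finset.coe_singleton, Set.mem_insert_iff, Set.mem_singleton_iff] at hx
        rcases hx with rfl | rfl | rfl | rfl | rfl
        exacts [one_mem _, ha, hb, mul_mem ha hb, hc]
      have hcard5 := Nat.card_mono (Set.toFinite _) hsub
      rw [Nat.card_coe_set_eq (((({1, (a : G), (b : G), (a : G) * (b : G), (c : G)} : Finset G))) : Set G),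
        Set.ncard_coe_finset] at hcard5
      have hfour := hcard Q
      have h5 : ({1, (a : G), (b : G), (a : G) * (b : G), (c : G)} : Finset G).card = 5 := by
        have n1 : (1 : G) ≠ a := (hne1 a).symm
        have n2 : (1 : G) ≠ b := (hne1 b).symm
        have n3 : (1 : G) ≠ c := (hne1 c).symm
        have n4 : (a : G) ≠ b := fun e => hne (Subtype.ext e)
        have n5 : (a : G) ≠ c := fun e => hca (Subtype.ext e)
        have n6 : (b : G) ≠ c := fun e => hcb (Subtype.ext e.symm)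
        have n7 : (a : G) ≠ a * b := fun e => hne1 b (mul_eq_left.1 e.symm)
        have n8 : (b : G) ≠ a * b := fun e => hne1 a (mul_eq_right.1 e.symm)
        simp [n1, n2, n3, n4, n5, n6, n7, n8, habne.symm, Ne.symm hne']
      have : Nat.card ((Q : Subgroup G) : Set G) = 4 := hfour
      omega
    · rintro rfl
      refine ⟨⟨fun e => hne1 b (mul_eq_left.1 (congrArg Subtype.val e).symm), ?_⟩,
        fun e => hne1 a (mul_eq_right.1 (congrArg Subtype.val e)), ?_⟩
      · calc (a : G) * (a * b) = a * (b * a) := by rw [hcomm]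
          _ = a * b * a := by rw [mul_assoc]
      · calc (a : G) * b * b = b * a * b := by rw [hcomm]
          _ = b * (a * b) := by rw [mul_assoc]
  · set x := (a : G) * b with hx
    have hax : (a : G) * x * (a : G)⁻¹ = x⁻¹ := by
      rw [hx, mul_inv_rev, inv_eq_of_mul_eq_one_right (hsq a), inv_eq_of_mul_eq_one_right (hsq b),
        ← mul_assoc, hsq, one_mul]
    have hbx : (b : G) * x * (b : G)⁻¹ = x⁻¹ := by
      rw [hx, mul_inv_rev, inv_eq_of_mul_eq_one_right (hsq a), inv_eq_of_mul_eq_one_right (hsq b)]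
      rw [mul_assoc, mul_assoc, hsq, mul_one]
    have hdvd : 3 ∣ orderOf x := by
      by_contra hd3
      have := mul_eq_one_iff_eq_inv.1
        (sq_eq_one_of_inverted h.hab h.odd_p (hsq a) (hp.out.coprime_iff_not_dvd.2 hd3).symm hax)
      rw [hx, mul_inv_rev, inv_eq_of_mul_eq_one_right (hsq a), inv_eq_of_mul_eq_one_right (hsq b)] at this
      exact hcomm this
    obtain ⟨k, hk⟩ := exists_pow_order_prime hdvd
    set y := x ^ k with hy
    have hy1 : y ≠ 1 := fun e => by rw [e, orderOf_one] at hk; omega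
    obtain ⟨P, hP⟩ := exists_sylow_mem (isPGroup_of_orderOf_eq hk)
    obtain ⟨g, hg⟩ := exists_conjugator P₁ P
    have hz2 : orderOf (g * s₁ * g⁻¹) = 2 := ((MulAut.conj g).orderOf_eq (s₁ : G)).trans s₁.2
    have hzC : g * s₁ * g⁻¹ ∈ centralizer ((P : Subgroup G) : Set G) := by
      refine mem_centralizer_iff.2 fun c hc => ?_
      have hc' := mem_centralizer_iff.1 hP₁ _ ((hg c).1 hc)
      calc c * (g * s₁ * g⁻¹) = g * (g⁻¹ * c * g * s₁) * g⁻¹ := by group
        _ = g * (s₁ * (g⁻¹ * c * g)) * g⁻¹ := by rw [hc']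
        _ = g * s₁ * g⁻¹ * c := by group
    set z : W := ⟨g * s₁ * g⁻¹, hz2⟩
    have hCz := h.centralizer_eq P (hcop z) (hne1 z) hzC
    have hinv : ∀ u : W, (u : G) * x * (u : G)⁻¹ = x⁻¹ →
        (u : G) * z = z * u ∧ (u : G) ∉ centralizer ((P : Subgroup G) : Set G) := by
      intro u hu
      have huy : (u : G) * y * (u : G)⁻¹ = y⁻¹ := by rw [hy, ← conj_pow, hu, inv_pow]
      refine ⟨mem_centralizer_singleton_iff.1 (hCz.ge (h.normalizer_of_inverts P hP hy1 huy)), fun huC => ?_⟩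
      have : y = y⁻¹ := by
        rw [← mem_centralizer_iff.1 huC y hP, mul_inv_cancel_right] at huy
        exact huy
      exact hy1 (eq_one_of_coprime_of_isPGroup (coprime_of_sq h.odd_p (mul_eq_one_iff_eq_inv.2 this))
        (isPGroup_of_orderOf_eq hk))
    obtain ⟨haz, haC⟩ := hinv a hax
    obtain ⟨hbz, hbC⟩ := hinv b hbx
    refine ⟨z, Finset.ext fun c => ?_⟩
    simp only [Finset.mem_filter, Finset.mem_univ, true_and, Finset.mem_singleton, R]
    constructor
    · rintro ⟨⟨-, hac⟩, -, hcb⟩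
      refine Subtype.ext ((hdata P z z.2 hzC).1 c c.2 (h.mem_centralizer_sylow P hP hy1 (hcop c) ?_))
      exact (Commute.mul_right hac.symm hcb).pow_right k
    · rintro rfl
      exact ⟨⟨fun e => haC (e ▸ hzC), haz⟩, fun e => hbC (e ▸ hzC), hbz.symm⟩

end CaseCentral

theorem Minimal.false (h : Minimal p G) : False := by
  by_cases hI : ∀ P : Sylow p G, ∀ v ∈ centralizer ((P : Subgroup G) : Set G), (orderOf v).Coprime p → v = 1
  · exact false_of_no_central h hI
  · push Not at hI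
    obtain ⟨P, v, hv, hc, hne⟩ := hI
    exact false_of_central h P hv hc hne

end CfsgLib.PGroup.CSylow
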