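import Cfsg.Agent.Lib.Fusion.MaxFamily
import Cfsg.Agent.Lib.Coprime.Core
import Cfsg.Prelude.Def_DStar
import Cfsg.Prelude.Def_PLocal

/-!
# The subgroup `D*`
-/

set_option autoImplicit false
set_option linter.style.haveILetI false
set_option linter.unusedSectionVars false

open Subgroup
open scoped commutatorElement

namespace CfsgLib.DStar

variable {G : Type*} [Group G] {p : ℕ}

/-- `A` is abelian, lies in `T` and centralizes every element of `T` generating with it a group of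
class at most two. -/
def Member (T A : Subgroup G) : Prop :=
  A ≤ T ∧ IsMulCommutative A ∧ ∀ x ∈ T,
    ⁅⁅A ⊔ Subgroup.zpowers x, A ⊔ Subgroup.zpowers x⁆, A ⊔ Subgroup.zpowers x⁆ = ⊥ →
      ∀ a ∈ A, a * x = x * a

theorem comm_of {A : Subgroup G} (h : IsMulCommutative A) {a b : G} (ha : a ∈ A) (hb : b ∈ A) :
    a * b = b * a :=
  congrArg Subtype.val (h.is_comm.comm (⟨a, ha⟩ : A) ⟨b, hb⟩)

/-- A generated group has class at most two when the commutators of generators are central. -/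
theorem triple_commutator_closure_eq_bot (s : Set G)
    (h : ∀ g ∈ s, ∀ k ∈ s, ∀ l ∈ s, Commute ⁅g, k⁆ l) :
    ⁅⁅Subgroup.closure s, Subgroup.closure s⁆, Subgroup.closure s⁆ = ⊥ := by
  set H := Subgroup.closure s with hH
  rw [Subgroup.commutator_eq_bot_iff_le_centralizer, Subgroup.commutator_le]
  set C := Subgroup.centralizer (H : Set G) with hC
  have hcs : ∀ g ∈ s, ∀ k ∈ s, ⁅g, k⁆ ∈ C := fun g hg k hk => by
    rw [hC, hH, Subgroup.centralizer_closure]
    exact Subgroup.mem_centralizer_iff.2 fun l hl => (h g hg k hk l hl).eq.symm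
  have hmul : ∀ g a b : G, a ∈ H → ⁅g, b⁆ ∈ C → ⁅g, a * b⁆ = ⁅g, a⁆ * ⁅g, b⁆ := by
    intro g a b ha hb
    have e : a * ⁅g, b⁆ = ⁅g, b⁆ * a := Subgroup.mem_centralizer_iff.1 hb a ha
    calc ⁅g, a * b⁆ = ⁅g, a⁆ * (a * ⁅g, b⁆) * a⁻¹ := by
          simp only [commutatorElement_def]; group
      _ = ⁅g, a⁆ * ⁅g, b⁆ := by rw [e, ← mul_assoc, mul_inv_cancel_right]
  have hinv : ∀ g a : G, a ∈ H → ⁅g, a⁆ ∈ C → ⁅g, a⁻¹⁆ ∈ C := by
    intro g a ha hb
    have e : a * ⁅g, a⁆⁻¹ = ⁅g, a⁆⁻¹ * a := Subgroup.mem_centralizer_iff.1 (inv_mem hb) a ha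
    have : ⁅g, a⁻¹⁆ = a⁻¹ * (⁅g, a⁆⁻¹ * a) := by simp only [commutatorElement_def]; group
    rw [this, ← e, inv_mul_cancel_left]
    exact inv_mem hb
  have h1 : ∀ g ∈ s, ∀ k ∈ H, ⁅g, k⁆ ∈ C := by
    intro g hg k hk
    induction hk using Subgroup.closure_induction with
    | mem z hz => exact hcs g hg z hz
    | one => rw [commutatorElement_one_right]; exact one_mem _
    | mul a b ha _ hac hbc => rw [hmul g a b ha hbc]; exact mul_mem hac hbc
    | inv a ha hac => exact hinv g a ha hac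
  intro g hg k hk
  have h2 : ⁅k, g⁆ ∈ C := by
    induction hg using Subgroup.closure_induction with
    | mem z hz => rw [← commutatorElement_inv]; exact inv_mem (h1 z hz k hk)
    | one => rw [commutatorElement_one_right]; exact one_mem _
    | mul a b ha _ hac hbc => rw [hmul k a b ha hbc]; exact mul_mem hac hbc
    | inv a ha hac => exact hinv k a ha hac
  rw [← commutatorElement_inv]
  exact inv_mem h2

/-- An element commuting with its commutators with an abelian subgroup that it moves into itself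
generates with it a group of class at most two. -/
theorem class_two_of_commutator {A : Subgroup G} (hA : IsMulCommutative A) {x : G}
    (h1 : ∀ a ∈ A, ⁅a, x⁆ ∈ A) (h2 : ∀ a ∈ A, Commute ⁅a, x⁆ x) :
    ⁅⁅A ⊔ Subgroup.zpowers x, A ⊔ Subgroup.zpowers x⁆, A ⊔ Subgroup.zpowers x⁆ = ⊥ := by
  have e : A ⊔ Subgroup.zpowers x = Subgroup.closure ((A : Set G) ∪ {x}) := by
    rw [Subgroup.closure_union, Subgroup.closure_eq, Subgroup.zpowers_eq_closure]
  rw [e]
  refine triple_commutator_closure_eq_bot _ ?_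
  have hl : ∀ a ∈ A, ∀ l, l ∈ A ∨ l = x → Commute ⁅a, x⁆ l := fun a ha l hl =>
    hl.elim (fun hl => comm_of hA (h1 a ha) hl) fun hl => hl ▸ h2 a ha
  rintro g (hg | hg) k (hk | hk) l hl'
  · rw [commutatorElement_eq_one_iff_mul_comm.2 (comm_of hA hg hk)]
    exact Commute.one_left l
  · rw [show k = x from hk]
    exact hl g hg l hl'
  · rw [show g = x from hg, ← commutatorElement_inv]
    exact (hl k hk l hl').inv_left
  · rw [show g = x from hg, show k = x from hk, commutatorElement_self]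
    exact Commute.one_left l

theorem class_two_mono {A B : Subgroup G} (h : A ≤ B) {x : G}
    (hB : ⁅⁅B ⊔ Subgroup.zpowers x, B ⊔ Subgroup.zpowers x⁆, B ⊔ Subgroup.zpowers x⁆ = ⊥) :
    ⁅⁅A ⊔ Subgroup.zpowers x, A ⊔ Subgroup.zpowers x⁆, A ⊔ Subgroup.zpowers x⁆ = ⊥ :=
  le_bot_iff.1 (hB ▸ Subgroup.commutator_mono
    (Subgroup.commutator_mono (sup_le_sup_right h _) (sup_le_sup_right h _)) (sup_le_sup_right h _))

theorem Member.mono {T U A : Subgroup G} (h : Member T A) (hU : U ≤ T) (hA : A ≤ U) : Member U A :=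
  ⟨hA, h.2.1, fun x hx => h.2.2 x (hU hx)⟩

theorem map_mul_comm {H : Type*} [Group H] (e : G ≃* H) {A : Subgroup G} (hA : IsMulCommutative A) :
    IsMulCommutative (A.map e.toMonoidHom) :=
  CfsgLib.Fusion.isMulCommutative_map _ hA

theorem Member.map {H : Type*} [Group H] (e : G ≃* H) {T A : Subgroup G} (h : Member T A) :
    Member (T.map e.toMonoidHom) (A.map e.toMonoidHom) := by
  refine ⟨Subgroup.map_mono h.1, map_mul_comm e h.2.1, ?_⟩
  rintro _ ⟨x, hx, rfl⟩ hc _ ⟨a, ha, rfl⟩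
  rw [← MonoidHom.map_zpowers, ← Subgroup.map_sup, ← Subgroup.map_commutator,
    ← Subgroup.map_commutator, Subgroup.map_eq_bot_iff_of_injective _ e.injective] at hc
  rw [← map_mul, ← map_mul, h.2.2 x hx hc a ha]

/-- The join of pairwise commuting members is a member. -/
theorem member_sSup {T : Subgroup G} (𝒜 : Set (Subgroup G)) (h : ∀ A ∈ 𝒜, Member T A)
    (hc : ∀ A ∈ 𝒜, ∀ B ∈ 𝒜, A ≤ Subgroup.centralizer (B : Set G)) : Member T (sSup 𝒜) := by
  have hcc : sSup 𝒜 ≤ Subgroup.centralizer ((sSup 𝒜 : Subgroup G) : Set G) :=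
    sSup_le fun A hA => Subgroup.le_centralizer_iff.1 (sSup_le fun B hB => hc B hB A hA)
  refine ⟨sSup_le fun A hA => (h A hA).1, ⟨⟨fun a b => Subtype.ext
    (Subgroup.mem_centralizer_iff.1 (hcc b.2) a a.2)⟩⟩, fun x hx hx2 a ha => ?_⟩
  have hle : sSup 𝒜 ≤ Subgroup.centralizer ({x} : Set G) := sSup_le fun A hA b hb =>
    Subgroup.mem_centralizer_iff.2 fun y hy => by
      rw [Set.mem_singleton_iff.1 hy]
      exact ((h A hA).2.2 x hx (class_two_mono (le_sSup hA) hx2) b hb).symm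
  exact (Subgroup.mem_centralizer_iff.1 (hle ha) x rfl).symm

variable [Finite G] [Fact p.Prime]

/-- Members of a `p`-group commute. -/
theorem member_le_centralizer {T : Subgroup G} (hT : IsPGroup p T) {A B : Subgroup G}
    (hA : Member T A) (hB : Member T B) : A ≤ Subgroup.centralizer (B : Set G) := by
  suffices key : ∀ (n : ℕ) (T : Subgroup G), Nat.card T = n → IsPGroup p T → ∀ A B : Subgroup G,
      Member T A → Member T B → A ≤ Subgroup.centralizer (B : Set G) from
    key _ T rfl hT A B hA hB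
  intro n
  induction n using Nat.strong_induction_on with
  | _ n ih =>
  intro T hn hT A B hA hB
  -- the members inside a maximal subgroup
  have big : ∀ A : Subgroup G, Member T A → A ≠ T →
      ∃ D : Subgroup G, A ≤ D ∧ Member T D ∧ T ≤ Subgroup.normalizer (D : Set G) := by
    intro A hA hAT
    haveI : Group.IsNilpotent T := hT.isNilpotent
    obtain ⟨M, hM, hle⟩ := (eq_top_or_exists_le_coatom (A.subgroupOf T)).resolve_left
      fun h => hAT (le_antisymm hA.1 (Subgroup.subgroupOf_eq_top.1 h))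
    haveI : M.Normal := Group.normalizerCondition_of_isNilpotent.normal_of_coatom M hM
    set M' := M.map T.subtype with hM'
    have hM'T : M' ≤ T := Subgroup.map_subtype_le _
    have hlt : Nat.card M' < n := by
      refine hn ▸ lt_of_le_of_ne (Subgroup.card_le_of_le hM'T) fun hc => hM.1 ?_
      exact Subgroup.eq_top_of_card_eq M
        ((Nat.card_congr (M.equivMapOfInjective _ T.subtype_injective).toEquiv).trans hc)
    have hAM : A ≤ M' := fun a ha => ⟨⟨a, hA.1 ha⟩, hle ha, rfl⟩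
    set 𝒜 := {B : Subgroup G | Member T B ∧ B ≤ M'} with h𝒜
    refine ⟨sSup 𝒜, le_sSup ⟨hA, hAM⟩, member_sSup 𝒜 (fun B hB => hB.1) (fun B hB C hC =>
      ih _ hlt M' rfl (hT.to_le hM'T) B C (hB.1.mono hM'T hB.2) (hC.1.mono hM'T hC.2)),
      fun t ht => ?_⟩
    have hMn : ∀ t ∈ T, ∀ m ∈ M', t * m * t⁻¹ ∈ M' := by
      rintro t ht _ ⟨m, hm, rfl⟩
      exact ⟨⟨t, ht⟩ * m * ⟨t, ht⟩⁻¹, Subgroup.Normal.conj_mem inferInstance m hm _, rfl⟩
    have hstep : ∀ t ∈ T, ∀ B ∈ 𝒜, B.map (MulAut.conj t).toMonoidHom ∈ 𝒜 := by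
      intro t ht B hB
      have hTt : T.map (MulAut.conj t).toMonoidHom = T :=
        CfsgLib.Fusion.conjBy_eq_iff.2 (Subgroup.le_normalizer ht)
      exact ⟨hTt ▸ hB.1.map (MulAut.conj t), Subgroup.map_le_iff_le_comap.2 fun b hb =>
        hMn t ht b (hB.2 hb)⟩
    refine CfsgLib.Fusion.conjBy_eq_iff.1 (CfsgLib.Fusion.conjBy_eq_of_le ?_)
    exact Subgroup.map_le_iff_le_comap.2 (sSup_le fun B hB =>
      Subgroup.map_le_iff_le_comap.1 (le_sSup (hstep t ht B hB)))
  by_cases hAT : A = T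
  · exact fun a ha => Subgroup.mem_centralizer_iff.2 fun b hb =>
      comm_of hA.2.1 (hAT.symm ▸ hB.1 hb) ha
  by_cases hBT : B = T
  · exact fun a ha => Subgroup.mem_centralizer_iff.2 fun b hb =>
      comm_of hB.2.1 hb (hBT.symm ▸ hA.1 ha)
  obtain ⟨DA, hA', hDA, hnA⟩ := big A hA hAT
  obtain ⟨DB, hB', hDB, hnB⟩ := big B hB hBT
  refine fun a ha => Subgroup.mem_centralizer_iff.2 fun b hb => ?_
  have hbT : b ∈ T := hB.1 hb
  have h1 : ∀ d ∈ DA, ⁅d, b⁆ ∈ DA := fun d hd => by
    rw [commutatorElement_def, mul_assoc, mul_assoc]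
    refine mul_mem hd ?_
    rw [← mul_assoc]
    exact (Subgroup.mem_normalizer_iff.1 (hnA hbT) _).1 (inv_mem hd)
  have h2 : ∀ d ∈ DA, Commute ⁅d, b⁆ b := fun d hd => by
    refine comm_of hDB.2.1 ?_ (hB' hb)
    rw [commutatorElement_def]
    exact mul_mem ((Subgroup.mem_normalizer_iff.1 (hnB (hDA.1 hd)) _).1 (hB' hb)) (inv_mem (hB' hb))
  exact (hDA.2.2 b hbT (class_two_of_commutator hDA.2.1 h1 h2) a (hA' ha)).symm

section Family

variable {S : Type*} [Group S]

theorem member_top_iff {A : Subgroup S} : Member (⊤ : Subgroup S) A ↔ A ∈ Cfsg.dStarFamily S :=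
  ⟨fun h => ⟨h.2.1, fun x => h.2.2 x (Subgroup.mem_top x)⟩,
    fun h => ⟨le_top, h.1, fun x _ => h.2 x⟩⟩

/-- `D*` is the largest member. -/
theorem dStar_mem [Finite S] (hS : IsPGroup p S) : Member (⊤ : Subgroup S) (Cfsg.dStar S) :=
  member_sSup _ (fun _ hA => member_top_iff.2 hA) fun _ hA _ hB =>
    member_le_centralizer (hS.to_subgroup ⊤) (member_top_iff.2 hA) (member_top_iff.2 hB)

theorem map_dStar_le (e : S ≃* S) : (Cfsg.dStar S).map e.toMonoidHom ≤ Cfsg.dStar S := by
  refine Subgroup.map_le_iff_le_comap.2 (sSup_le fun A hA => Subgroup.map_le_iff_le_comap.1 ?_)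
  refine le_sSup (member_top_iff.1 ?_)
  have h := (member_top_iff.2 hA).map e
  rwa [Subgroup.map_top_of_surjective _ e.surjective] at h

instance dStar_normal : (Cfsg.dStar S).Normal :=
  ⟨fun a ha g => map_dStar_le (MulAut.conj g) ⟨a, ha, rfl⟩⟩

/-- `D*` lies in every abelian subgroup normalized by everything and maximal as such. -/
theorem dStar_le_of_maximal_normal [Finite S] (hS : IsPGroup p S) {A : Subgroup S} (hAn : A.Normal)
    (hA : IsMulCommutative A)
    (hmax : ∀ B : Subgroup S, B.Normal → IsMulCommutative B → A ≤ B → B = A) :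
    Cfsg.dStar S ≤ A := by
  have hD := dStar_mem hS
  have hc : ∀ x ∈ A, ∀ d ∈ Cfsg.dStar S, d * x = x * d := fun x hx d hd => by
    refine hD.2.2 x (Subgroup.mem_top x) (class_two_of_commutator hD.2.1 (fun a ha => ?_)
      fun a ha => ?_) d hd
    · rw [commutatorElement_def, mul_assoc, mul_assoc]
      exact mul_mem ha (by rw [← mul_assoc]; exact dStar_normal.conj_mem _ (inv_mem ha) x)
    · refine comm_of hA ?_ hx
      rw [commutatorElement_def]
      exact mul_mem (hAn.conj_mem x hx a) (inv_mem hx)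
  haveI := hAn
  have h := hmax (A ⊔ Cfsg.dStar S) inferInstance ?_ le_sup_left
  · exact le_sup_right.trans h.le
  rw [show A ⊔ Cfsg.dStar S =
    Subgroup.closure ((A : Set S) ∪ (Cfsg.dStar S : Set S)) by
      rw [Subgroup.closure_union, Subgroup.closure_eq, Subgroup.closure_eq]]
  refine Subgroup.isMulCommutative_closure ?_
  rintro u (hu | hu) v (hv | hv)
  · exact comm_of hA hu hv
  · exact (hc u hu v hv).symm
  · exact hc v hv u hu
  · exact comm_of hD.2.1 hu hv

/-- `D*` lies in every abelian subgroup of largest order. -/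
theorem dStar_le_maxAb [Finite S] (hS : IsPGroup p S) {U : Subgroup S}
    (hU : U ∈ CfsgLib.Fusion.maxAb (⊤ : Subgroup S)) : Cfsg.dStar S ≤ U := by
  by_contra hnot
  have hD := dStar_mem hS
  set D := Cfsg.dStar S with hDd
  have hDc : ⁅D, D⁆ = ⊥ := by
    rw [eq_bot_iff, Subgroup.commutator_le]
    intro a ha b hb
    rw [Subgroup.mem_bot, commutatorElement_eq_one_iff_mul_comm]
    exact comm_of hD.2.1 ha hb
  obtain ⟨A, hA, -, hDA, hDn⟩ := CfsgLib.Fusion.exists_normalized_member (B := D) hS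
    (fun _ => hD.2.1) _ (fun _ hA => hA.2.1)
    (fun _ hA _ h => CfsgLib.Fusion.rstar_mem_maxAb hA h)
    ⟨U, hU, hDc ▸ bot_le, hnot⟩
  have hc : ∀ x ∈ A, ∀ d ∈ D, d * x = x * d := fun x hx d hd => by
    refine hD.2.2 x (Subgroup.mem_top x) (class_two_of_commutator hD.2.1 (fun a ha => ?_)
      fun a ha => ?_) d hd
    · rw [commutatorElement_def, mul_assoc, mul_assoc]
      exact mul_mem ha (by rw [← mul_assoc]; exact dStar_normal.conj_mem _ (inv_mem ha) x)
    · refine comm_of hA.2.1 ?_ hx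
      rw [commutatorElement_def]
      exact mul_mem ((Subgroup.mem_normalizer_iff.1 (hDn ha) x).1 hx) (inv_mem hx)
  refine hDA (le_of_le_of_eq le_sup_right (Subgroup.eq_of_le_of_card_ge (le_sup_left : A ≤ A ⊔ D)
    (hA.2.2 _ le_top ?_)).symm)
  rw [show A ⊔ D = Subgroup.closure ((A : Set S) ∪ (D : Set S)) by
    rw [Subgroup.closure_union, Subgroup.closure_eq, Subgroup.closure_eq]]
  refine Subgroup.isMulCommutative_closure ?_
  rintro u (hu | hu) v (hv | hv)
  · exact comm_of hA.2.1 hu hv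
  · exact (hc u hu v hv).symm
  · exact hc v hv u hu
  · exact comm_of hD.2.1 hu hv

/-- The position of `D*`. -/
theorem dStar_bounds [Finite S] (hS : IsPGroup p S) :
    Subgroup.center S ≤ Cfsg.dStar S ∧
    Cfsg.dStar S ≤ Cfsg.thompsonSubgroupA S ⊓
      Subgroup.centralizer (Cfsg.thompsonSubgroupA S : Set S) := by
  refine ⟨le_sSup (member_top_iff.1 ⟨le_top, ⟨⟨fun a b => Subtype.ext
    (Subgroup.mem_center_iff.1 b.2 a)⟩⟩, fun x _ _ a ha => (Subgroup.mem_center_iff.1 ha x).symm⟩),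
    ?_⟩
  have hmem : ∀ A ∈ Cfsg.maxAbelianSubgroups S, Cfsg.dStar S ≤ A ∧ IsMulCommutative A :=
    fun A hA => ⟨dStar_le_maxAb hS ⟨le_top, hA.1, fun B _ hB => hA.2 B hB⟩, hA.1⟩
  refine le_inf ?_ (Subgroup.le_centralizer_iff.1 (sSup_le fun A hA a ha => ?_))
  · haveI : Nonempty {A : Subgroup S // IsMulCommutative A} :=
      ⟨⟨⊥, ⟨⟨fun a b => Subsingleton.elim _ _⟩⟩⟩⟩
    obtain ⟨⟨A, hA⟩, hmax⟩ :=
      Finite.exists_max fun A : {A : Subgroup S // IsMulCommutative A} => Nat.card A.1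
    have hAm : A ∈ Cfsg.maxAbelianSubgroups S := ⟨hA, fun B hB => hmax ⟨B, hB⟩⟩
    exact (hmem A hAm).1.trans (le_sSup hAm)
  · exact Subgroup.mem_centralizer_iff.2 fun d hd => comm_of (hmem A hA).2 ((hmem A hA).1 hd) ha

end Family

section PStable

variable (S : Sylow p G)

theorem member_map_dStarOf : Member (S : Subgroup G) (Cfsg.dStarOf (S : Subgroup G)) := by
  have hD := dStar_mem (S := (S : Subgroup G)) S.2
  refine ⟨Subgroup.map_subtype_le _, CfsgLib.Fusion.isMulCommutative_map _ hD.2.1, ?_⟩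
  rintro x hx hc _ ⟨a, ha, rfl⟩
  have hz : (Subgroup.zpowers (⟨x, hx⟩ : (S : Subgroup G))).map (S : Subgroup G).subtype =
      Subgroup.zpowers x := MonoidHom.map_zpowers _ _
  rw [Cfsg.dStarOf, ← hz, ← Subgroup.map_sup, ← Subgroup.map_commutator, ← Subgroup.map_commutator,
    Subgroup.map_eq_bot_iff_of_injective _ (S : Subgroup G).subtype_injective] at hc
  exact congrArg Subtype.val (hD.2.2 ⟨x, hx⟩ (Subgroup.mem_top _) hc a ha)

/-- `D*` is normal in a stable constrained group. -/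
theorem dStarOf_normal (hc : Subgroup.centralizer (Cfsg.pCore p G : Set G) ≤ Cfsg.pCore p G)
    (hst : ∀ (P : Subgroup G) [P.Normal], IsPGroup p P → Cfsg.IsPStableOn p P) :
    (Cfsg.dStarOf (S : Subgroup G)).Normal := by
  haveI hQn := CfsgLib.Coprime.pCore_normal' (G := G) p
  set D := Cfsg.dStarOf (S : Subgroup G) with hDd
  have hDm : Member (S : Subgroup G) D := member_map_dStarOf S
  set Q := Cfsg.pCore p G with hQd
  have hQp : IsPGroup p Q := CfsgLib.Coprime.pCore_isPGroup p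
  have hQS : Q ≤ (S : Subgroup G) := hQp.le_sylow_of_normal S
  have hDS : ∀ s ∈ (S : Subgroup G), ∀ d ∈ D, s * d * s⁻¹ ∈ D := by
    rintro s hs _ ⟨d, hd, rfl⟩
    exact ⟨⟨s, hs⟩ * d * ⟨s, hs⟩⁻¹, dStar_normal.conj_mem d hd _, rfl⟩
  -- the preimage of the largest normal `p`-subgroup
  have hpre : ∀ (W : Subgroup G) [W.Normal],
      ∃ K : Subgroup G, K.Normal ∧ Subgroup.centralizer (W : Set G) ≤ K ∧
        IsPGroup p (K.map (QuotientGroup.mk' (Subgroup.centralizer (W : Set G)))) ∧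
        ∀ a, (QuotientGroup.mk a : G ⧸ Subgroup.centralizer (W : Set G)) ∈
          Cfsg.pCore p (G ⧸ Subgroup.centralizer (W : Set G)) → a ∈ K := by
    intro W _
    haveI := CfsgLib.Coprime.pCore_normal' (G := G ⧸ Subgroup.centralizer (W : Set G)) p
    set π := QuotientGroup.mk' (Subgroup.centralizer (W : Set G))
    refine ⟨(Cfsg.pCore p _).comap π, Subgroup.Normal.comap inferInstance π, fun z hz => ?_, ?_,
      fun a ha => ha⟩
    · show π z ∈ Cfsg.pCore p _
      rw [show π z = 1 from (QuotientGroup.eq_one_iff z).2 hz]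
      exact one_mem _
    · exact (CfsgLib.Coprime.pCore_isPGroup p).to_le (Subgroup.map_comap_le _ _)
  have hDQ : D ≤ Q := by
    intro a ha
    obtain ⟨K, hKn, -, hKp, hK⟩ := hpre Q
    have hq : ⁅⁅Q, Subgroup.zpowers a⁆, Subgroup.zpowers a⁆ = ⊥ := by
      refine le_bot_iff.1 ((Subgroup.commutator_mono
        (Subgroup.commutator_le.2 fun q hq z hz => ?_ : ⁅Q, Subgroup.zpowers a⁆ ≤ D)
        (Subgroup.zpowers_le.2 ha)).trans (Subgroup.commutator_le.2 fun u hu v hv => ?_))
      · have hz' : z ∈ D := Subgroup.zpowers_le.2 ha hz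
        rw [commutatorElement_def]
        exact mul_mem (hDS q (hQS hq) z hz') (inv_mem hz')
      · rw [Subgroup.mem_bot, commutatorElement_eq_one_iff_mul_comm]
        exact comm_of hDm.2.1 hu hv
    haveI := hKn
    refine CfsgLib.Coprime.le_pCore (N := K) ?_ (hK a (hst Q hQp a hq))
    rintro ⟨k, hk⟩
    obtain ⟨e, he⟩ := hKp ⟨_, Subgroup.mem_map_of_mem _ hk⟩
    have h1 : k ^ p ^ e ∈ Subgroup.centralizer (Q : Set G) :=
      (QuotientGroup.eq_one_iff _).1 (by
        have := congrArg Subtype.val he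
        simpa using this)
    obtain ⟨e', he'⟩ := hQp ⟨_, hc h1⟩
    refine ⟨e + e', Subtype.ext ?_⟩
    rw [SubgroupClass.coe_pow, pow_add, pow_mul]
    exact congrArg Subtype.val he'
  set V := Subgroup.normalClosure (D : Set G) with hVd
  have hmemQ : ∀ g : G, Member Q (D.map (MulAut.conj g).toMonoidHom) := fun g =>
    (hDm.map (MulAut.conj g)).mono
      (fun q hq => ⟨g⁻¹ * q * g, hQS (by simpa using hQn.conj_mem q hq g⁻¹), by
        show g * (g⁻¹ * q * g) * g⁻¹ = q
        group⟩)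
      (Subgroup.map_le_iff_le_comap.2 fun d hd => hQn.conj_mem d (hDQ hd) g)
  have hVQ : V ≤ Q := Subgroup.normalClosure_le_normal fun d hd => hDQ hd
  have hVc : IsMulCommutative V := by
    refine Subgroup.isMulCommutative_closure ?_
    intro u hu v hv
    obtain ⟨a, ha, hau⟩ := Group.mem_conjugatesOfSet_iff.1 hu
    obtain ⟨b, hb, hbv⟩ := Group.mem_conjugatesOfSet_iff.1 hv
    obtain ⟨g, rfl⟩ := isConj_iff.1 hau
    obtain ⟨k, rfl⟩ := isConj_iff.1 hbv
    exact (Subgroup.mem_centralizer_iff.1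
      (member_le_centralizer hQp (hmemQ g) (hmemQ k) ⟨a, ha, rfl⟩) _ ⟨b, hb, rfl⟩).symm
  have hDV : D ≤ V := fun d hd => Subgroup.subset_normalClosure hd
  obtain ⟨K, hKn, hCK, hKp, hK⟩ := hpre V
  set C := Subgroup.centralizer (V : Set G) with hCd
  haveI := hKn
  set R := (S : Subgroup G) ⊓ K with hR
  have hi := CfsgLib.Fusion.not_dvd_relIndex_inf_of_normal S K
  let RS : Sylow p K := ((S.2.to_le (inf_le_left : R ≤ _)).of_equiv (Subgroup.subgroupOfEquivOfLe
    (inf_le_right : R ≤ K)).symm).toSylow hi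
  have hfrat : Subgroup.normalizer (R : Set G) ⊔ K = ⊤ := by
    have h := Sylow.normalizer_sup_eq_top RS
    rwa [show ((RS : Subgroup K).map K.subtype) = R from
      Subgroup.map_subgroupOf_eq_of_le inf_le_right] at h
  have hKR : K ≤ C ⊔ R := by
    rw [← Subgroup.relIndex_eq_one]
    obtain ⟨m, hm⟩ := IsPGroup.iff_card.1 hKp
    have hC : C.relIndex K = p ^ m := by
      rw [← hm, ← Subgroup.relIndex_ker, QuotientGroup.ker_mk']
    obtain ⟨i, -, hi'⟩ := (Nat.dvd_prime_pow (Fact.out : p.Prime)).1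
      (hC ▸ Subgroup.relIndex_dvd_of_le_left K (le_sup_left : C ≤ C ⊔ R))
    rcases Nat.eq_zero_or_pos i with rfl | hpos
    · rwa [pow_zero] at hi'
    · exact absurd (((dvd_pow_self p hpos.ne').trans hi'.symm.dvd).trans
        (Subgroup.relIndex_dvd_of_le_left K (le_sup_right : R ≤ C ⊔ R))) hi
  have hdec : ∀ g : G, ∃ c ∈ C, ∃ n ∈ Subgroup.normalizer (R : Set G), g = c * n := by
    intro g
    have hg : g ∈ C ⊔ Subgroup.normalizer (R : Set G) := by
      have hle : Subgroup.normalizer (R : Set G) ⊔ K ≤ C ⊔ Subgroup.normalizer (R : Set G) :=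
        sup_le le_sup_right (hKR.trans (sup_le_sup_left Subgroup.le_normalizer _))
      exact hle (hfrat ▸ Subgroup.mem_top g)
    obtain ⟨c, hc, n, hn, rfl⟩ := Subgroup.mem_sup_of_normal_left.1 hg
    exact ⟨c, hc, n, hn, rfl⟩
  have hVm : Member (S : Subgroup G) V := by
    refine ⟨hVQ.trans hQS, hVc, fun x hx hx2 v hv => ?_⟩
    have hxR : x ∈ R := by
      refine ⟨hx, hK x (hst V (hQp.to_le hVQ) x (le_bot_iff.1 (hx2 ▸ ?_)))⟩
      exact Subgroup.commutator_mono (Subgroup.commutator_mono le_sup_left le_sup_right) le_sup_right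
    have hle : V ≤ Subgroup.centralizer ({x} : Set G) := by
      refine (Subgroup.closure_le _).2 fun u hu => Subgroup.mem_centralizer_iff.2 fun y hy => ?_
      rw [Set.mem_singleton_iff.1 hy]
      obtain ⟨a, ha, hau⟩ := Group.mem_conjugatesOfSet_iff.1 hu
      obtain ⟨g, rfl⟩ := isConj_iff.1 hau
      obtain ⟨c, hcC, n, hn, rfl⟩ := hdec g
      have hnd : n * a * n⁻¹ ∈ V :=
        Subgroup.normalClosure_normal.conj_mem a (hDV ha) n
      rw [show c * n * a * (c * n)⁻¹ = c * (n * a * n⁻¹) * c⁻¹ by group,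
        ← Subgroup.mem_centralizer_iff.1 hcC _ hnd, mul_inv_cancel_right]
      have hxn : n⁻¹ * x * n ∈ R := (Subgroup.mem_normalizer_iff''.1 hn x).1 hxR
      have hclass : ⁅⁅D ⊔ Subgroup.zpowers (n⁻¹ * x * n), D ⊔ Subgroup.zpowers (n⁻¹ * x * n)⁆,
          D ⊔ Subgroup.zpowers (n⁻¹ * x * n)⁆ = ⊥ := by
        refine class_two_mono hDV ?_
        have hVn : V.map (MulAut.conj n⁻¹).toMonoidHom = V :=
          CfsgLib.Fusion.conjBy_eq_iff.2 (by rw [Subgroup.normalizer_eq_top]; exact Subgroup.mem_top _)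
        have hxe : (Subgroup.zpowers x).map (MulAut.conj n⁻¹).toMonoidHom =
            Subgroup.zpowers (n⁻¹ * x * n) := by
          rw [MonoidHom.map_zpowers]
          congr 1
          simp [mul_assoc]
        rw [← hxe, ← hVn, ← Subgroup.map_sup, ← Subgroup.map_commutator, ← Subgroup.map_commutator,
          hx2, Subgroup.map_bot]
      have h := hDm.2.2 _ hxn.1 hclass a ha
      calc x * (n * a * n⁻¹) = n * (n⁻¹ * x * n * a) * n⁻¹ := by group
        _ = n * (a * (n⁻¹ * x * n)) * n⁻¹ := by rw [h]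
        _ = n * a * n⁻¹ * x := by group
    exact (Subgroup.mem_centralizer_iff.1 (hle hv) x rfl).symm
  have hVD : V ≤ D := by
    intro v hv
    refine ⟨⟨v, hQS (hVQ hv)⟩, ?_, rfl⟩
    refine (le_sSup (member_top_iff.1 ?_) : V.subgroupOf (S : Subgroup G) ≤ Cfsg.dStar _) hv
    refine ⟨le_top, CfsgLib.Fusion.isMulCommutative_subgroupOf hVc, fun x _ hx2 a ha => ?_⟩
    refine Subtype.ext (hVm.2.2 x x.2 ?_ (a : G) ha)
    have hz : (Subgroup.zpowers x).map (S : Subgroup G).subtype = Subgroup.zpowers (x : G) :=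
      MonoidHom.map_zpowers _ _
    rw [← hz, ← Subgroup.map_subgroupOf_eq_of_le (hVQ.trans hQS), ← Subgroup.map_sup,
      ← Subgroup.map_commutator, ← Subgroup.map_commutator, hx2, Subgroup.map_bot]
  rw [le_antisymm hDV hVD]
  exact Subgroup.normalClosure_normal

end PStable

end CfsgLib.DStar
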