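import Cfsg.Agent.Lib.PGroup.CommutatorChain
import Mathlib.GroupTheory.PGroup
import Mathlib.GroupTheory.Solvable
import Mathlib.GroupTheory.Sylow

/-!
# Mann's bound for the derived length of a finite `p`-group

A term `N = G^(j)` lies in `γ_{2^j}`. If `N = ⟨a⟩ (N ∩ γ_{2^j+1})` then the next term lies one
step deeper, and if two elements are needed then the next term has such a cyclic top. So at most
two indices `|G^(j) : G^(j+1)|` fall short of `p^(2^j+2)`.
-/

set_option autoImplicit false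
set_option linter.style.haveILetI false

namespace CfsgLib.PGroup.Mann

open Subgroup CfsgLib.PGroup
open scoped commutatorElement

variable {G : Type*} [Group G]

local notation "L" => Subgroup.lowerCentralSeries (⊤ : Subgroup G)

theorem lcs_comm (a b : ℕ) : ⁅L a, L b⁆ ≤ L (a + b + 1) :=
  commutator_lowerCentralSeries_le_chain (fun _ => inferInstance) (fun _ => le_rfl) b a

theorem iter_comm (N : Subgroup G) [N.Normal] (j : ℕ) :
    ⁅N, L j⁆ ≤ iterComm N ⊤ (j + 1) :=
  commutator_lowerCentralSeries_le_iterComm N ⊤ j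

theorem iter_le {N : Subgroup G} {s : ℕ} (h : N ≤ L s) : ∀ j, iterComm N ⊤ j ≤ L (s + j)
  | 0 => h
  | j + 1 => commutator_mono (iter_le h j) le_rfl

/-- If the generators commute modulo a normal subgroup, so does what they generate. -/
theorem commutator_closure_le {S : Set G} {V : Subgroup G} [V.Normal]
    (h : ∀ a ∈ S, ∀ b ∈ S, ⁅a, b⁆ ∈ V) : ⁅closure S, closure S⁆ ≤ V := by
  let f := QuotientGroup.mk' V
  have h0 : ∀ a ∈ S, ∀ b ∈ S, f a * f b = f b * f a := fun a ha b hb => by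
    have : f ⁅a, b⁆ = 1 := (QuotientGroup.eq_one_iff _).2 (h a ha b hb)
    rwa [map_commutatorElement, commutatorElement_eq_one_iff_mul_comm] at this
  have h1 : ∀ x ∈ closure S, ∀ b ∈ S, f b * f x = f x * f b := fun x hx b hb => by
    have hle : closure S ≤ (centralizer (f '' S)).comap f := (closure_le _).2 fun a ha => by
      refine mem_centralizer_iff.2 ?_
      rintro _ ⟨c, hc, rfl⟩
      exact h0 c hc a ha
    exact mem_centralizer_iff.1 (hle hx) (f b) ⟨b, hb, rfl⟩
  refine commutator_le.2 fun x hx y hy => ?_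
  have hle : closure S ≤ (centralizer ({f x} : Set (G ⧸ V))).comap f :=
    (closure_le _).2 fun b hb => mem_centralizer_singleton_iff.2 (by
      simpa using h1 x hx b hb)
  have hy' := mem_centralizer_singleton_iff.1 (hle hy)
  rw [← QuotientGroup.eq_one_iff]
  show f ⁅x, y⁆ = 1
  rw [map_commutatorElement, commutatorElement_eq_one_iff_mul_comm]
  exact hy'.symm

/-- `N` has a cyclic top at depth `s`. -/
def Cyc (N : Subgroup G) (s : ℕ) : Prop :=
  ∃ a ∈ N, N ≤ closure ({a} ∪ (↑(N ⊓ L (s + 1)) : Set G))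

/-- `N` has a two-generated top at depth `s`. -/
def Gen2 (N : Subgroup G) (s : ℕ) : Prop :=
  ∃ a ∈ N, ∃ b ∈ N, N ≤ closure ({a, b} ∪ (↑(N ⊓ L (s + 1)) : Set G))

theorem comm_mem_of_right {N : Subgroup G} [N.Normal] {s : ℕ} {x y : G} (hx : x ∈ N)
    (hy : y ∈ N ⊓ L (s + 1)) :
    ⁅x, y⁆ ∈ iterComm N ⊤ (s + 2) ∧ ⁅y, x⁆ ∈ iterComm N ⊤ (s + 2) := by
  have h := iter_comm N (s + 1) (commutator_mem_commutator hx (mem_inf.1 hy).2)
  exact ⟨h, by rw [← commutatorElement_inv]; exact inv_mem h⟩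

theorem commutator_le_of_cyc {N : Subgroup G} [N.Normal] {s : ℕ} (h : Cyc N s) :
    ⁅N, N⁆ ≤ iterComm N ⊤ (s + 2) := by
  obtain ⟨a, ha, hN⟩ := h
  haveI := iterComm_normal N ⊤ (s + 2)
  refine (commutator_mono hN hN).trans (commutator_closure_le ?_)
  rintro x (rfl | hx) y (rfl | hy)
  · rw [commutatorElement_self]; exact one_mem _
  · exact (comm_mem_of_right ha hy).1
  · exact (comm_mem_of_right ha hx).2
  · exact (comm_mem_of_right (mem_inf.1 hx).1 hy).1

theorem cyc_of_gen2 {N : Subgroup G} [N.Normal] {s : ℕ} (hs : N ≤ L s) (h : Gen2 N s) :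
    Cyc ⁅N, N⁆ (2 * s + 1) := by
  obtain ⟨a, ha, b, hb, hN⟩ := h
  set V := zpowers ⁅a, b⁆ ⊔ L (2 * s + 2) with hV
  have hc : ⁅a, b⁆ ∈ L (2 * s + 1) := by
    have h1 := lcs_comm s s (commutator_mem_commutator (hs ha) (hs hb))
    rwa [show s + s + 1 = 2 * s + 1 by omega] at h1
  haveI hVn : V.Normal := by
    refine ⟨fun v hv g => ?_⟩
    obtain ⟨_, ⟨i, rfl⟩, l, hl, rfl⟩ := mem_sup_of_normal_right.1 hv
    have h1 : ∀ i : ℤ, g * ⁅a, b⁆ ^ i * g⁻¹ * (⁅a, b⁆ ^ i)⁻¹ ∈ L (2 * s + 2) := fun i => by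
      have h2 : ⁅⁅a, b⁆ ^ i, g⁆ ∈ L (2 * s + 2) :=
        commutator_mem_commutator (zpow_mem hc i) (mem_top g)
      have h3 := inv_mem h2
      rwa [commutatorElement_inv, commutatorElement_def] at h3
    have e : g * (⁅a, b⁆ ^ i * l) * g⁻¹ =
        g * ⁅a, b⁆ ^ i * g⁻¹ * (⁅a, b⁆ ^ i)⁻¹ * ⁅a, b⁆ ^ i * (g * l * g⁻¹) := by group
    show g * (⁅a, b⁆ ^ i * l) * g⁻¹ ∈ V
    rw [e]
    exact mul_mem (mul_mem (mem_sup_right (h1 i)) (mem_sup_left (zpow_mem (mem_zpowers _) i)))
      (mem_sup_right ((inferInstance : (L (2 * s + 2)).Normal).conj_mem l hl g))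
  have hsmall : ∀ x ∈ N, ∀ y ∈ N ⊓ L (s + 1), ⁅x, y⁆ ∈ V ∧ ⁅y, x⁆ ∈ V := fun x hx y hy => by
    have h1 := lcs_comm s (s + 1) (commutator_mem_commutator (hs hx) (mem_inf.1 hy).2)
    rw [show s + (s + 1) + 1 = 2 * s + 2 by omega] at h1
    exact ⟨mem_sup_right h1, by rw [← commutatorElement_inv]; exact inv_mem (mem_sup_right h1)⟩
  have hle : ⁅N, N⁆ ≤ V := by
    refine (commutator_mono hN hN).trans (commutator_closure_le ?_)
    rintro x ((rfl | rfl) | hx) y ((rfl | rfl) | hy)
    · rw [commutatorElement_self]; exact one_mem _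
    · exact mem_sup_left (mem_zpowers _)
    · exact (hsmall _ ha y hy).1
    · rw [← commutatorElement_inv]; exact inv_mem (mem_sup_left (mem_zpowers _))
    · rw [commutatorElement_self]; exact one_mem _
    · exact (hsmall _ hb y hy).1
    · exact (hsmall _ ha x hx).2
    · exact (hsmall _ hb x hx).2
    · exact (hsmall _ (mem_inf.1 hx).1 y hy).1
  refine ⟨⁅a, b⁆, commutator_mem_commutator ha hb, fun x hx => ?_⟩
  obtain ⟨_, ⟨i, rfl⟩, l, hl, rfl⟩ := mem_sup_of_normal_right.1 (hle hx)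
  refine mul_mem (zpow_mem (Subgroup.subset_closure (Set.mem_union_left _ (Set.mem_singleton _))) i) (Subgroup.subset_closure (Set.mem_union_right _ ?_))
  refine ⟨?_, hl⟩
  have hc' : (⁅a, b⁆ ^ i)⁻¹ ∈ ⁅N, N⁆ := inv_mem (zpow_mem (commutator_mem_commutator ha hb) i)
  have h2 := mul_mem hc' hx
  simpa [mul_assoc] using h2

section
variable [Finite G] {p : ℕ} [hp : Fact p.Prime] (hG : IsPGroup p G)
include hG

theorem card_step {H K : Subgroup G} (h : H < K) : p * Nat.card H ∣ Nat.card K := by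
  obtain ⟨a, ha⟩ := IsPGroup.iff_card.1 (hG.to_subgroup K)
  obtain ⟨b, hb⟩ := IsPGroup.iff_card.1 (hG.to_subgroup H)
  rw [ha, hb, ← pow_succ']
  refine pow_dvd_pow p (Nat.succ_le_of_lt ?_)
  by_contra hc
  refine h.ne (Subgroup.eq_of_le_of_card_ge h.le ?_)
  rw [ha, hb]
  exact Nat.pow_le_pow_right hp.out.pos (not_lt.1 hc)

theorem iter_lt (N : Subgroup G) [N.Normal] {j : ℕ} (h : iterComm N ⊤ j ≠ ⊥) :
    iterComm N ⊤ (j + 1) < iterComm N ⊤ j := by
  haveI := iterComm_normal N ⊤ j
  refine lt_of_le_of_ne (commutator_le_left _ _) fun e => h ?_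
  haveI := hG.isNilpotent
  obtain ⟨m, hm⟩ := Subgroup.nilpotent_iff_lowerCentralSeries.1 (inferInstance : Group.IsNilpotent G)
  exact le_bot_iff.1 (le_of_le_commutator_sup hm (le_sup_of_le_left e.symm.le))

theorem card_chain (N : Subgroup G) [N.Normal] (m : ℕ) :
    ∀ X : Subgroup G, X ≠ ⊥ → X ≤ iterComm N ⊤ (m + 1) →
      p ^ m * Nat.card X ∣ Nat.card (iterComm N ⊤ 1) := by
  induction m with
  | zero =>
    intro X _ hX
    simpa using Subgroup.card_dvd_of_le hX
  | succ m ih =>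
    intro X hX0 hX
    have hne : iterComm N ⊤ (m + 1 + 1) ≠ ⊥ := fun e => hX0 (le_bot_iff.1 (e ▸ hX))
    haveI := iterComm_normal N ⊤ (m + 1)
    have hne' : iterComm N ⊤ (m + 1) ≠ ⊥ := fun e => hne (le_bot_iff.1
      (e ▸ (commutator_le_left (iterComm N ⊤ (m + 1)) ⊤)))
    refine dvd_trans ?_ (ih (iterComm N ⊤ (m + 1)) hne' le_rfl)
    rw [pow_succ, mul_assoc]
    refine mul_dvd_mul_left _ (dvd_trans ?_ (card_step hG (iter_lt hG N hne')))
    exact mul_dvd_mul_left _ (Subgroup.card_dvd_of_le hX)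

/-- The index of `N'` in `N`, and the shape of the top of `N` when it is smallest. -/
theorem index_bound (N : Subgroup G) [N.Normal] {s : ℕ} (hs : N ≤ L s) (hne : ⁅N, N⁆ ≠ ⊥) :
    p ^ (s + 2) * Nat.card ↥⁅N, N⁆ ∣ Nat.card N ∧
      (Gen2 N s ∨ p ^ (s + 3) * Nat.card ↥⁅N, N⁆ ∣ Nat.card N) := by
  have hN0 : iterComm N ⊤ 0 ≠ ⊥ := fun e => hne (by
    rw [show N = ⊥ from e, commutator_bot_left])
  haveI := iterComm_normal N ⊤ 1
  have hlt : iterComm N ⊤ 1 < N := iter_lt hG N hN0
  have hT1 : iterComm N ⊤ 1 ≤ N ⊓ L (s + 1) := le_inf hlt.le (iter_le hs 1)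
  have hN' : ⁅N, N⁆ ≤ iterComm N ⊤ (s + 1) := (commutator_mono le_rfl hs).trans (iter_comm N s)
  have hd := card_chain hG N s _ hne hN'
  obtain ⟨a, ha, haT⟩ := SetLike.exists_of_lt hlt
  set M := closure ({a} ∪ (↑(N ⊓ L (s + 1)) : Set G)) with hM
  have hTM : iterComm N ⊤ 1 < M := by
    refine lt_of_le_of_ne (hT1.trans fun x hx => subset_closure (Or.inr hx)) fun e => haT ?_
    rw [e]
    exact subset_closure (Or.inl rfl)
  have hMN : M ≤ N := (closure_le _).2 (Set.union_subset (Set.singleton_subset_iff.2 ha)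
    fun x hx => (mem_inf.1 hx).1)
  by_cases hc : M = N
  · have hcyc : Cyc N s := ⟨a, ha, le_of_eq hc.symm⟩
    refine ⟨?_, Or.inl ⟨a, ha, a, ha, ?_⟩⟩
    · have h1 := card_chain hG N (s + 1) _ hne (commutator_le_of_cyc hcyc)
      refine dvd_trans ?_ (card_step hG hlt)
      rw [show s + 2 = s + 1 + 1 by omega, pow_succ', mul_assoc]
      exact mul_dvd_mul_left _ h1
    · rw [Set.pair_eq_singleton]; exact le_of_eq hc.symm
  · have hMlt : M < N := lt_of_le_of_ne hMN hc
    have h2 : p ^ 2 * Nat.card (iterComm N ⊤ 1) ∣ Nat.card N := by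
      refine dvd_trans ?_ (card_step hG hMlt)
      rw [pow_two, mul_assoc]
      exact mul_dvd_mul_left _ (card_step hG hTM)
    refine ⟨?_, ?_⟩
    · refine dvd_trans ?_ h2
      rw [pow_add, mul_comm (p ^ s), mul_assoc]
      exact mul_dvd_mul_left _ hd
    obtain ⟨b, hb, hbM⟩ := SetLike.exists_of_lt hMlt
    set M2 := closure ({a, b} ∪ (↑(N ⊓ L (s + 1)) : Set G)) with hM2
    have hMM2 : M < M2 := by
      refine lt_of_le_of_ne (closure_mono (Set.union_subset_union_left _ (by simp))) fun e => hbM ?_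
      rw [e]
      exact subset_closure (Or.inl (Or.inr rfl))
    have hM2N : M2 ≤ N := (closure_le _).2 (Set.union_subset
      (Set.insert_subset ha (Set.singleton_subset_iff.2 hb)) fun x hx => (mem_inf.1 hx).1)
    by_cases hc2 : M2 = N
    · exact Or.inl ⟨a, ha, b, hb, le_of_eq hc2.symm⟩
    · refine Or.inr (dvd_trans ?_ (card_step hG (lt_of_le_of_ne hM2N hc2)))
      rw [show s + 3 = s + 1 + 1 + 1 by omega, pow_succ', mul_assoc]
      refine mul_dvd_mul_left _ (dvd_trans ?_ (card_step hG hMM2))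
      rw [pow_succ', mul_assoc]
      refine mul_dvd_mul_left _ (dvd_trans ?_ (card_step hG hTM))
      rw [pow_succ', mul_assoc]
      exact mul_dvd_mul_left _ hd

/-- Mann's bound: a `p`-group of order `p^n` and derived length above `k` has `n + 2 ≥ 2^k + 2k`. -/
theorem derived_bound {n k : ℕ} (hcard : Nat.card G = p ^ n) (hk : derivedSeries G k ≠ ⊥) :
    2 ^ k + 2 * k ≤ n + 2 := by
  have hp1 := hp.out.one_lt
  have hle : ∀ j, derivedSeries G j ≤ L (2 ^ j - 1) := by
    intro j
    induction j with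
    | zero => exact le_top
    | succ j ih =>
      rw [derivedSeries_succ]
      refine (commutator_mono ih ih).trans ((lcs_comm _ _).trans (le_of_eq ?_))
      congr 1
      have := Nat.one_le_two_pow (n := j)
      rw [pow_succ]; omega
  choose e he using fun j => IsPGroup.iff_card.1 (hG.to_subgroup (derivedSeries G j))
  have e0 : e 0 = n := by
    have h := he 0
    rw [derivedSeries_zero, card_top, hcard] at h
    exact (Nat.pow_right_injective hp1 h).symm
  have conv : ∀ j t, p ^ t * Nat.card (derivedSeries G (j + 1)) ∣ Nat.card (derivedSeries G j) →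
      t + e (j + 1) ≤ e j := by
    intro j t h
    rw [he, he, ← pow_add] at h
    exact (Nat.pow_dvd_pow_iff_le_right hp1).1 h
  suffices key : ∀ j, j ≤ k →
      (e j + 2 ^ j + 2 * j ≤ n + 1) ∨
      (e j + 2 ^ j + 2 * j ≤ n + 2 ∧ Cyc (derivedSeries G j) (2 ^ j - 1)) ∨
      (e j + 2 ^ j + 2 * j ≤ n + 3 ∧ derivedSeries G j ≤ L (2 ^ j - 1 + 1)) by
    have hek : 1 ≤ e k := by
      by_contra hc
      refine hk (Subgroup.eq_bot_of_card_eq _ ?_)
      rw [he, show e k = 0 by omega, pow_zero]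
    rcases key k le_rfl with h | h | h <;> omega
  intro j
  induction j with
  | zero => intro _; left; simp [e0]
  | succ j ih =>
    intro hj
    haveI : (derivedSeries G j).Normal := derivedSeries_normal G j
    have hne : ⁅derivedSeries G j, derivedSeries G j⁆ ≠ ⊥ := fun h => hk
      (le_bot_iff.1 ((derivedSeries_antitone G hj).trans
        (by rw [derivedSeries_succ, h])))
    obtain ⟨hA1, hA2⟩ := index_bound hG (derivedSeries G j) (hle j) hne
    rw [← derivedSeries_succ] at hA1 hA2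
    have hA1' := conv _ _ hA1
    have hpow : 2 ^ (j + 1) = 2 * 2 ^ j := by ring
    have h1 := Nat.one_le_two_pow (n := j)
    have hs' : 2 * (2 ^ j - 1) + 1 = 2 ^ (j + 1) - 1 := by omega
    rcases ih (by omega) with h | h | h
    · rcases hA2 with hg | hg
      · right; left
        refine ⟨by omega, ?_⟩
        have := cyc_of_gen2 (hle j) hg
        rwa [← derivedSeries_succ, hs'] at this
      · have := conv _ _ hg
        left; omega
    · right; right
      refine ⟨by omega, ?_⟩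
      rw [derivedSeries_succ]
      refine (commutator_le_of_cyc h.2).trans ((iter_le (hle j) _).trans (le_of_eq ?_))
      congr 1; omega
    · right; right
      have hgood : derivedSeries G (j + 1) ≤ L (2 ^ (j + 1) - 1 + 1) := by
        rw [derivedSeries_succ]
        refine (commutator_mono h.2 h.2).trans ((lcs_comm _ _).trans
          (Subgroup.lowerCentralSeries_antitone _ ?_))
        omega
      have h3 := conv _ _ (derivedSeries_succ G j ▸ (index_bound hG (derivedSeries G j) h.2 hne).1)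
      exact ⟨by omega, hgood⟩

end

end CfsgLib.PGroup.Mann
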