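import Cfsg.Agent.S1254
import Cfsg.Agent.Lib.Fusion.Tate
import Cfsg.Agent.Lib.Fusion.Residual
import Cfsg.Agent.Lib.Invol.DihedralSylow
import Mathlib.GroupTheory.SpecificGroups.Dihedral

/-!
# Involution classes in groups with dihedral Sylow 2-subgroups
-/

set_option autoImplicit false
set_option linter.style.haveILetI false

namespace CfsgLib.PGroup.DihedralTrichotomy

open DihedralGroup

/-- Reduction modulo two. -/
def c2 (l : ℕ) : ZMod (4 * l) →+* ZMod 2 :=
  ZMod.castHom (dvd_mul_of_dvd_left (by norm_num : 2 ∣ 4) l) (ZMod 2)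

/-- The parity characters of a dihedral group of degree divisible by two. -/
def par (l : ℕ) (c₀ : ZMod 2) : DihedralGroup (4 * l) →* Multiplicative (ZMod 2) :=
  MonoidHom.mk' (fun
    | .r i => Multiplicative.ofAdd (c2 l i)
    | .sr i => Multiplicative.ofAdd (c2 l i + c₀))
    (by
      have h : ∀ x y c : ZMod 2, y - x + c = x + (y + c) ∧ x + y + c = x + c + y ∧
          y - x = x + c + (y + c) := by decide
      rintro (i | i) (j | j)
      · simp only [r_mul_r, map_add, ofAdd_add]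
      · simp only [r_mul_sr, map_sub, ← ofAdd_add]; exact congrArg _ (h _ _ _).1
      · simp only [sr_mul_r, map_add, ← ofAdd_add]; exact congrArg _ (h _ _ _).2.1
      · simp only [sr_mul_sr, map_sub, ← ofAdd_add]; exact congrArg _ (h _ _ _).2.2)

variable {l : ℕ}

theorem natCast_four : ((4 * l : ℕ) : ZMod (4 * l)) = 0 := ZMod.natCast_self _

theorem two_l_add_two_l : ((2 * l : ℕ) : ZMod (4 * l)) + ((2 * l : ℕ) : ZMod (4 * l)) = 0 := by
  rw [← Nat.cast_add, show 2 * l + 2 * l = 4 * l by ring, ZMod.natCast_self]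

theorem eq_zero_or_of_add_self (hl : 1 ≤ l) {i : ZMod (4 * l)} (hi : i + i = 0) :
    i = 0 ∨ i = ((2 * l : ℕ) : ZMod (4 * l)) := by
  haveI : NeZero (4 * l) := ⟨by omega⟩
  by_cases h0 : i = 0
  · exact Or.inl h0
  refine Or.inr (CfsgLib.Invol.add_self_eq_zero_unique hi two_l_add_two_l h0 ?_)
  rw [Ne, ZMod.natCast_eq_zero_iff]
  intro hd
  have := Nat.le_of_dvd (by omega) hd
  omega

theorem sr_mul_shift (i : ZMod (4 * l)) :
    (sr i : DihedralGroup (4 * l)) * sr (i + ((2 * l : ℕ) : ZMod (4 * l))) = r ((2 * l : ℕ) : ZMod (4 * l)) := by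
  rw [sr_mul_sr, add_sub_cancel_left]

theorem conj_shift (i : ZMod (4 * l)) :
    (r (-(l : ℕ) : ZMod (4 * l)) : DihedralGroup (4 * l)) * sr i * (r (-(l : ℕ) : ZMod (4 * l)))⁻¹ =
      sr (i + ((2 * l : ℕ) : ZMod (4 * l))) := by
  rw [r_mul_sr, inv_r, sr_mul_r]
  congr 1
  push_cast
  ring

theorem exists_conj_sr (hl : 1 ≤ l) (i : ZMod (4 * l)) :
    ∃ d : DihedralGroup (4 * l), d * sr 0 * d⁻¹ = sr i ∨ d * sr 1 * d⁻¹ = sr i := by
  haveI : NeZero (4 * l) := ⟨by omega⟩
  obtain ⟨j, hj | hj⟩ := Nat.even_or_odd' i.val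
  · refine ⟨r (-(j : ℕ) : ZMod (4 * l)), Or.inl ?_⟩
    rw [r_mul_sr, inv_r, sr_mul_r]; congr 1
    conv_rhs => rw [← ZMod.natCast_zmod_val i, hj]
    push_cast; ring
  · refine ⟨r (-(j : ℕ) : ZMod (4 * l)), Or.inr ?_⟩
    rw [r_mul_sr, inv_r, sr_mul_r]; congr 1
    conv_rhs => rw [← ZMod.natCast_zmod_val i, hj]
    push_cast; ring

theorem invol_cases (hl : 1 ≤ l) {d : DihedralGroup (4 * l)} (hd : orderOf d = 2) :
    d = r ((2 * l : ℕ) : ZMod (4 * l)) ∨ ∃ i, d = sr i := by
  rcases d with i | i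
  · left
    obtain ⟨h, h1⟩ := CfsgLib.Invol.invol_iff.1 hd
    rw [r_mul_r, one_def] at h
    rcases eq_zero_or_of_add_self hl (DihedralGroup.r.inj h) with e | e
    · exact absurd (by rw [e, one_def]) h1
    · rw [e]
  · exact Or.inr ⟨i, rfl⟩

theorem orderOf_z (hl : 1 ≤ l) :
    orderOf (r ((2 * l : ℕ) : ZMod (4 * l)) : DihedralGroup (4 * l)) = 2 := by
  rw [CfsgLib.Invol.invol_iff, r_mul_r, two_l_add_two_l, one_def]
  refine ⟨rfl, fun e => ?_⟩
  have h := DihedralGroup.r.inj e
  rw [ZMod.natCast_eq_zero_iff] at h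
  have := Nat.le_of_dvd (by omega) h
  omega

theorem central_z (d : DihedralGroup (4 * l)) :
    d * r ((2 * l : ℕ) : ZMod (4 * l)) = r ((2 * l : ℕ) : ZMod (4 * l)) * d := by
  have hneg : -((2 * l : ℕ) : ZMod (4 * l)) = (2 * l : ℕ) := neg_eq_of_add_eq_zero_left two_l_add_two_l
  rcases d with i | i
  · rw [r_mul_r, r_mul_r, add_comm]
  · rw [sr_mul_r, r_mul_sr, sub_eq_add_neg, hneg]

theorem z_eq_commutator :
    (r ((2 * l : ℕ) : ZMod (4 * l)) : DihedralGroup (4 * l)) =
      r ((l : ℕ) : ZMod (4 * l)) * sr 0 * (r ((l : ℕ) : ZMod (4 * l)))⁻¹ * (sr 0)⁻¹ := by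
  rw [r_mul_sr, inv_r, sr_mul_r, inv_sr, sr_mul_sr]
  congr 1
  push_cast; ring

theorem closure_sr (hl : 1 ≤ l) (d : DihedralGroup (4 * l)) :
    d ∈ Subgroup.closure ({sr 0, sr 1} : Set (DihedralGroup (4 * l))) := by
  haveI : NeZero (4 * l) := ⟨by omega⟩
  set K := Subgroup.closure ({sr 0, sr 1} : Set (DihedralGroup (4 * l)))
  have h0 : sr 0 ∈ K := Subgroup.subset_closure (by simp)
  have h1 : sr 1 ∈ K := Subgroup.subset_closure (by simp)
  have hr : ∀ i : ZMod (4 * l), r i ∈ K := fun i => by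
    have h : (r 1 : DihedralGroup (4 * l)) ∈ K := by
      have := mul_mem h0 h1
      rwa [sr_mul_sr, sub_zero] at this
    have h' := pow_mem h i.val
    rwa [r_one_pow, ZMod.natCast_zmod_val] at h'
  rcases d with i | i
  · exact hr i
  · have := mul_mem h0 (hr i)
    rwa [sr_mul_r, zero_add] at this

theorem zmod_two_cases (t : Multiplicative (ZMod 2)) : t = 1 ∨ t = Multiplicative.ofAdd 1 := by
  revert t; decide

variable {G : Type*} [Group G] [Finite G]

/-- The data of the trichotomy. -/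
theorem trichotomy (P : Sylow 2 G) (hl : 1 ≤ l) (e : (P : Subgroup G) ≃* DihedralGroup (4 * l)) :
    (Nat.card {C : ConjClasses G // ∃ g : G, ConjClasses.mk g = C ∧ orderOf g = 2} = 1 ∧
        ∀ N : Subgroup G, N.Normal → N.index ≠ 2) ∨
      (Nat.card {C : ConjClasses G // ∃ g : G, ConjClasses.mk g = C ∧ orderOf g = 2} = 2 ∧
        (∃ N : Subgroup G, N.Normal ∧ N.index = 2) ∧ ∀ N : Subgroup G, N.Normal → N.index ≠ 4) ∨
      (Nat.card {C : ConjClasses G // ∃ g : G, ConjClasses.mk g = C ∧ orderOf g = 2} = 3 ∧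
        Cfsg.HasNormalPComplement 2 G) := by
  classical
  haveI : Fact (Nat.Prime 2) := ⟨Nat.prime_two⟩
  haveI : NeZero (4 * l) := ⟨by omega⟩
  let φ : DihedralGroup (4 * l) →* G := (P : Subgroup G).subtype.comp e.symm.toMonoidHom
  have hφ : Function.Injective φ := (P : Subgroup G).subtype_injective.comp e.symm.injective
  have hφP : ∀ d, φ d ∈ (P : Subgroup G) := fun d => (e.symm d).2
  have hφs : ∀ x ∈ (P : Subgroup G), ∃ d, φ d = x := fun x hx =>
    ⟨e ⟨x, hx⟩, by show ((e.symm (e ⟨x, hx⟩) : (P : Subgroup G)) : G) = x; rw [e.symm_apply_apply]⟩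
  have ho : ∀ d, orderOf (φ d) = orderOf d := orderOf_injective φ hφ
  set z := φ (r ((2 * l : ℕ) : ZMod (4 * l))) with hz
  set a := φ (sr 0) with ha
  set b := φ (sr 1) with hb
  have za : orderOf z = 2 ∧ orderOf a = 2 ∧ orderOf b = 2 :=
    ⟨(ho _).trans (orderOf_z hl), (ho _).trans (orderOf_sr 0), (ho _).trans (orderOf_sr 1)⟩
  have hsr : ∀ i, IsConj a (φ (sr i)) ∨ IsConj b (φ (sr i)) := fun i => by
    obtain ⟨d, hd | hd⟩ := exists_conj_sr hl i
    · exact Or.inl (isConj_iff.2 ⟨φ d, by rw [← hd, map_mul, map_mul, map_inv]⟩)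
    · exact Or.inr (isConj_iff.2 ⟨φ d, by rw [← hd, map_mul, map_mul, map_inv]⟩)
  have inP : ∀ x ∈ (P : Subgroup G), orderOf x = 2 → x = z ∨ IsConj a x ∨ IsConj b x := by
    intro x hx hxo
    obtain ⟨d, rfl⟩ := hφs x hx
    rw [ho] at hxo
    rcases invol_cases hl hxo with rfl | ⟨i, rfl⟩
    · exact Or.inl rfl
    · exact Or.inr (hsr i)
  have toP : ∀ x : G, orderOf x = 2 → IsConj z x ∨ IsConj a x ∨ IsConj b x := by
    intro x hx
    obtain ⟨Q, hQ⟩ := (IsPGroup.of_card (n := 1) (show Nat.card (Subgroup.zpowers x) = 2 ^ 1 by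
      rw [Nat.card_zpowers, hx, pow_one])).exists_le_sylow
    obtain ⟨g, hg⟩ := MulAction.exists_smul_eq G Q P
    have hgx : g * x * g⁻¹ ∈ (P : Subgroup G) := by
      rw [← hg, Sylow.coe_subgroup_smul]
      exact ⟨x, hQ (Subgroup.mem_zpowers x), rfl⟩
    have hback : IsConj (g * x * g⁻¹) x := (isConj_iff.2 ⟨g, rfl⟩).symm
    rcases inP _ hgx (by
      rw [show g * x * g⁻¹ = MulAut.conj g x from rfl, MulEquiv.orderOf_eq, hx]) with h | h | h
    · exact Or.inl (h ▸ hback)
    · exact Or.inr (Or.inl (h.trans hback))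
    · exact Or.inr (Or.inr (h.trans hback))
  have hcount : Nat.card {C : ConjClasses G // ∃ g : G, ConjClasses.mk g = C ∧ orderOf g = 2} =
      ({ConjClasses.mk z, ConjClasses.mk a, ConjClasses.mk b} : Set (ConjClasses G)).ncard := by
    rw [← Nat.card_coe_set_eq]
    refine Nat.card_congr (Equiv.subtypeEquivRight fun C => ⟨?_, ?_⟩)
    · rintro ⟨g, rfl, hg⟩
      rcases toP g hg with h | h | h
      · exact Or.inl (ConjClasses.mk_eq_mk_iff_isConj.2 h.symm)
      · exact Or.inr (Or.inl (ConjClasses.mk_eq_mk_iff_isConj.2 h.symm))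
      · exact Or.inr (Or.inr (ConjClasses.mk_eq_mk_iff_isConj.2 h.symm))
    · rintro (rfl | rfl | rfl)
      exacts [⟨z, rfl, za.1⟩, ⟨a, rfl, za.2.1⟩, ⟨b, rfl, za.2.2⟩]
  have mk_eq : ∀ {x y : G}, IsConj x y → ConjClasses.mk x = ConjClasses.mk y :=
    fun h => ConjClasses.mk_eq_mk_iff_isConj.2 h
  -- a class fused to `z` lies in every normal subgroup with abelian quotient
  have zmem : ∀ N : Subgroup G, N.Normal → (∀ x y : G, x * y * x⁻¹ * y⁻¹ ∈ N) → z ∈ N := by
    intro N hN hab
    rw [hz, z_eq_commutator, map_mul, map_mul, map_mul, map_inv, map_inv]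
    exact hab _ _
  have fused_mem : ∀ N : Subgroup G, N.Normal → (∀ x y : G, x * y * x⁻¹ * y⁻¹ ∈ N) →
      ∀ x, IsConj x z → x ∈ N := by
    intro N hN hab x hx
    obtain ⟨g, hg⟩ := isConj_iff.1 hx.symm
    exact hg ▸ hN.conj_mem _ (zmem N hN hab) g
  have comm_quot : ∀ N : Subgroup G, N.Normal → (N.index = 2 ∨ N.index = 4) →
      ∀ x y : G, x * y * x⁻¹ * y⁻¹ ∈ N := by
    intro N hN hi x y
    haveI := hN
    rw [← QuotientGroup.eq_one_iff, QuotientGroup.mk_mul, QuotientGroup.mk_mul, QuotientGroup.mk_mul,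
      QuotientGroup.mk_inv, QuotientGroup.mk_inv, mul_inv_eq_one, mul_inv_eq_iff_eq_mul]
    rcases hi with hi | hi
    · haveI : IsCyclic (G ⧸ N) := isCyclic_of_prime_card (p := 2) (by rw [← Subgroup.index_eq_card, hi])
      exact IsCyclic.commGroup.mul_comm _ _
    · letI := IsPGroup.commGroupOfCardEqPrimeSq (p := 2) (G := G ⧸ N)
        (by rw [← Subgroup.index_eq_card, hi]; norm_num)
      exact mul_comm _ _
  have Ptop : ∀ N : Subgroup G, N.Normal → (∃ k, N.index = 2 ^ k) → (P : Subgroup G) ⊔ N = ⊤ := by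
    rintro N hN ⟨k, hk⟩
    rw [← Subgroup.index_eq_one]
    refine Nat.eq_one_of_dvd_coprimes ((Nat.Prime.coprime_iff_not_dvd Nat.prime_two).2
      P.not_dvd_index |>.pow_left k) (hk ▸ Subgroup.index_dvd_of_le le_sup_right)
      (Subgroup.index_dvd_of_le le_sup_left)
  -- if exactly the class of `y` is not fused, a subgroup of index two
  have key : ∀ (c₀ : ZMod 2) (x y : G), IsConj x z → ¬ IsConj y z →
      (x = a ∧ y = b ∧ c₀ = 0 ∨ x = b ∧ y = a ∧ c₀ = 1) →
      (∃ N : Subgroup G, N.Normal ∧ N.index = 2) ∧ ¬ IsConj x y := by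
    intro c₀ x y hx hy hxy
    refine ⟨?_, fun h => hy (h.symm.trans hx)⟩
    have hval : (∀ i, IsConj a (φ (sr i)) → ¬ IsConj b (φ (sr i))) := fun i h1 h2 => hy (by
      rcases hxy with ⟨rfl, rfl, -⟩ | ⟨rfl, rfl, -⟩
      · exact (h2.trans h1.symm).trans hx
      · exact (h1.trans h2.symm).trans hx)
    let Q := (par l c₀).ker.map φ
    have hQP : Q ≤ (P : Subgroup G) := by rintro _ ⟨d, -, rfl⟩; exact hφP d
    have hy1 : ∃ d, φ d = y ∧ par l c₀ d = Multiplicative.ofAdd 1 := by
      rcases hxy with ⟨-, rfl, rfl⟩ | ⟨-, rfl, rfl⟩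
      · exact ⟨sr 1, rfl, by simp [par]⟩
      · exact ⟨sr 0, rfl, by simp [par]⟩
    obtain ⟨dy, hdy, hpar⟩ := hy1
    have hsurj : Function.Surjective (par l c₀) := fun t => by
      rcases zmod_two_cases t with rfl | rfl
      · exact ⟨1, map_one _⟩
      · exact ⟨dy, hpar⟩
    have hQi : Q.relIndex (P : Subgroup G) = 2 := by
      rw [show (P : Subgroup G) = (⊤ : Subgroup (DihedralGroup (4 * l))).map φ from
        le_antisymm (fun w hw => by obtain ⟨d, rfl⟩ := hφs w hw; exact ⟨d, trivial, rfl⟩)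
          (by rintro _ ⟨d, -, rfl⟩; exact hφP d),
        Subgroup.relIndex_map_map_of_injective _ _ hφ, Subgroup.relIndex_top_right, Subgroup.index_ker,
        MonoidHom.range_eq_top.2 hsurj, Subgroup.card_top, Nat.card_eq_fintype_card]
      rfl
    have hyo : orderOf y = 2 := by
      rcases hxy with ⟨-, rfl, -⟩ | ⟨-, rfl, -⟩
      exacts [za.2.2, za.2.1]
    obtain ⟨M, hMn, hMi, -⟩ := CfsgLib.Fusion.thompson_transfer P hQP hQi (u := y)
      (by rw [← hyo, pow_orderOf_eq_one]) fun g hg => by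
        obtain ⟨d, hd, hdg⟩ := hg
        have hyd : IsConj y (φ d) := isConj_iff.2 ⟨g, hdg.symm⟩
        have hdo : orderOf d = 2 := by
          rw [← ho, hdg, show g * y * g⁻¹ = MulAut.conj g y from rfl, MulEquiv.orderOf_eq, hyo]
        rcases invol_cases hl hdo with rfl | ⟨i, rfl⟩
        · exact hy hyd
        · -- the parity of `i` puts `sr i` in the class of `x`
          obtain ⟨d', hd' | hd'⟩ := exists_conj_sr hl i
          · have h1 : par l c₀ (sr i) = par l c₀ (sr 0) := by
              rw [← hd', map_mul, map_mul, map_inv, mul_comm (par l c₀ d'), mul_inv_cancel_right]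
            have h2 := MonoidHom.mem_ker.1 hd
            rw [h1] at h2
            rcases hxy with ⟨hxa, -, rfl⟩ | ⟨-, -, rfl⟩
            · refine hy ((hyd.trans (IsConj.symm ?_)).trans (hxa ▸ hx))
              exact isConj_iff.2 ⟨φ d', by rw [← hd', map_mul, map_mul, map_inv]⟩
            · simp [par] at h2
          · have h1 : par l c₀ (sr i) = par l c₀ (sr 1) := by
              rw [← hd', map_mul, map_mul, map_inv, mul_comm (par l c₀ d'), mul_inv_cancel_right]
            have h2 := MonoidHom.mem_ker.1 hd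
            rw [h1] at h2
            rcases hxy with ⟨-, -, rfl⟩ | ⟨hxb, -, rfl⟩
            · simp [par] at h2
            · refine hy ((hyd.trans (IsConj.symm ?_)).trans (hxb ▸ hx))
              exact isConj_iff.2 ⟨φ d', by rw [← hd', map_mul, map_mul, map_inv]⟩
    exact ⟨M, hMn, hMi⟩
  have two_case : ∀ x y : G, IsConj x z → ¬ IsConj y z → (x = a ∧ y = b ∨ x = b ∧ y = a) →
      ∀ N : Subgroup G, N.Normal → N.index ≠ 4 := by
    intro x y hx hy hxy N hN hi
    have hab := comm_quot N hN (Or.inr hi)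
    haveI := hN
    let π := (QuotientGroup.mk' N).comp φ
    have hπs : Function.Surjective π := fun c => by
      obtain ⟨g, rfl⟩ := QuotientGroup.mk_surjective c
      have hg : g ∈ (P : Subgroup G) ⊔ N := Ptop N hN ⟨2, hi⟩ ▸ Subgroup.mem_top g
      obtain ⟨p, hp, m, hm, rfl⟩ := Subgroup.mem_sup_of_normal_right.1 hg
      obtain ⟨d, rfl⟩ := hφs p hp
      exact ⟨d, by simp [π, (QuotientGroup.eq_one_iff m).2 hm]⟩
    have hxN : (x : G ⧸ N) = 1 := (QuotientGroup.eq_one_iff x).2 (fused_mem N hN hab x hx)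
    have hle : ∀ d, π d ∈ Subgroup.zpowers (y : G ⧸ N) := fun d => by
      have : Subgroup.closure ({sr 0, sr 1} : Set (DihedralGroup (4 * l))) ≤
          (Subgroup.zpowers (y : G ⧸ N)).comap π := by
        rw [Subgroup.closure_le]
        rintro t (rfl | rfl)
        · show (a : G ⧸ N) ∈ Subgroup.zpowers (y : G ⧸ N)
          rcases hxy with ⟨rfl, rfl⟩ | ⟨rfl, rfl⟩
          · rw [hxN]; exact one_mem _
          · exact Subgroup.mem_zpowers _
        · show (b : G ⧸ N) ∈ Subgroup.zpowers (y : G ⧸ N)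
          rcases hxy with ⟨rfl, rfl⟩ | ⟨rfl, rfl⟩
          · exact Subgroup.mem_zpowers _
          · rw [hxN]; exact one_mem _
      exact this (closure_sr hl d)
    have htop : Subgroup.zpowers (y : G ⧸ N) = ⊤ := eq_top_iff.2 fun c _ => by
      obtain ⟨d, rfl⟩ := hπs c; exact hle d
    have h1 : orderOf (y : G ⧸ N) = 4 := by
      rw [← Nat.card_zpowers, htop, Subgroup.card_top, ← Subgroup.index_eq_card, hi]
    have hy2 : y ^ 2 = 1 := by
      rcases hxy with ⟨-, rfl⟩ | ⟨-, rfl⟩
      · rw [← za.2.2, pow_orderOf_eq_one]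
      · rw [← za.2.1, pow_orderOf_eq_one]
    have h2 : orderOf (y : G ⧸ N) ≤ 2 := Nat.le_of_dvd two_pos
      (orderOf_dvd_of_pow_eq_one (by rw [← QuotientGroup.mk_pow, hy2, QuotientGroup.mk_one]))
    omega
  rw [hcount]
  by_cases haz : IsConj a z <;> by_cases hbz : IsConj b z
  · left
    refine ⟨by rw [mk_eq haz, mk_eq hbz]; simp, fun N hN hi => ?_⟩
    have hab := comm_quot N hN (Or.inl hi)
    have hPN : (P : Subgroup G) ≤ N := fun p hp => by
      obtain ⟨d, rfl⟩ := hφs p hp
      have : Subgroup.closure ({sr 0, sr 1} : Set (DihedralGroup (4 * l))) ≤ N.comap φ := by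
        rw [Subgroup.closure_le]
        rintro t (rfl | rfl)
        exacts [fused_mem N hN hab a haz, fused_mem N hN hab b hbz]
      exact this (closure_sr hl d)
    have h2 := Subgroup.index_dvd_of_le hPN
    rw [hi] at h2
    exact P.not_dvd_index h2
  · right; left
    obtain ⟨hN, hne⟩ := key 0 a b haz hbz (Or.inl ⟨rfl, rfl, rfl⟩)
    refine ⟨?_, hN, two_case a b haz hbz (Or.inl ⟨rfl, rfl⟩)⟩
    rw [mk_eq haz, Set.insert_eq_of_mem (Set.mem_insert _ _)]
    exact Set.ncard_pair fun e => hbz (ConjClasses.mk_eq_mk_iff_isConj.1 e).symm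
  · right; left
    obtain ⟨hN, hne⟩ := key 1 b a hbz haz (Or.inr ⟨rfl, rfl, rfl⟩)
    refine ⟨?_, hN, two_case b a hbz haz (Or.inr ⟨rfl, rfl⟩)⟩
    rw [mk_eq hbz, Set.pair_comm (ConjClasses.mk a), Set.insert_eq_of_mem (Set.mem_insert _ _)]
    exact Set.ncard_pair fun e => haz (ConjClasses.mk_eq_mk_iff_isConj.1 e).symm
  · right; right
    have hnoz : ∀ x ∈ (P : Subgroup G), orderOf x = 2 → IsConj z x → x = z := by
      intro x hx hxo h
      rcases inP x hx hxo with e | e | e
      · exact e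
      · exact absurd (e.trans h.symm) haz
      · exact absurd (e.trans h.symm) hbz
    have hcompl : Cfsg.HasNormalPComplement 2 G := by
      refine (Cfsg.Agent.S1254.result P (4 * l) (by omega) e).2 fun U hUP hU => ?_
      haveI := hU
      refine le_antisymm (fun g hg => ?_) (sup_le (Subgroup.centralizer_le_normalizer _) inf_le_right)
      obtain ⟨u0, hu0, hu0o, hu0z⟩ : ∃ u ∈ U, orderOf u = 2 ∧ u ≠ z := by
        by_contra hcon
        push Not at hcon
        have hsub : ∀ u : U, u = 1 ∨ (u : G) = z := fun u => by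
          by_cases hu1 : u = 1
          · exact Or.inl hu1
          · refine Or.inr (hcon u u.2 (CfsgLib.Invol.invol_iff.2 ⟨?_, fun e => hu1 (Subtype.ext e)⟩))
            exact congrArg Subtype.val (IsKleinFour.mul_self u)
        have h4 := hU.card_four
        have := Nat.card_le_card_of_injective (fun u : U => decide (u = 1)) fun u v h => by
          simp only [decide_eq_decide] at h
          rcases hsub u with hu | hu <;> rcases hsub v with hv | hv
          · rw [hu, hv]
          · rw [hu, (h.1 hu)]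
          · rw [hv, (h.2 hv)]
          · exact Subtype.ext (hu.trans hv.symm)
        rw [h4, Nat.card_eq_fintype_card, Fintype.card_bool] at this
        omega
      obtain ⟨i, hi⟩ : ∃ i, φ (sr i) = u0 := by
        obtain ⟨d, rfl⟩ := hφs u0 (hUP hu0)
        rw [ho] at hu0o
        rcases invol_cases hl hu0o with rfl | ⟨i, rfl⟩
        · exact absurd rfl hu0z
        · exact ⟨i, rfl⟩
      -- the elements of `U`
      have hUel : ∀ v ∈ U, v = 1 ∨ v = z ∨ v = φ (sr i) ∨ v = φ (sr (i + ((2 * l : ℕ) : ZMod (4 * l)))) := by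
        intro v hv
        by_cases hv1 : v = 1
        · exact Or.inl hv1
        right
        have hvv : v * v = 1 := congrArg Subtype.val (IsKleinFour.mul_self (⟨v, hv⟩ : U))
        obtain ⟨d, rfl⟩ := hφs v (hUP hv)
        have hdo : orderOf d = 2 := CfsgLib.Invol.invol_iff.2
          ⟨hφ (by rw [map_mul, hvv, map_one]), fun e => hv1 (by rw [e, map_one])⟩
        rcases invol_cases hl hdo with rfl | ⟨j, rfl⟩
        · exact Or.inl rfl
        · right
          have hc : sr i * sr j = sr j * (sr i : DihedralGroup (4 * l)) := hφ (by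
            rw [map_mul, map_mul]
            exact congrArg Subtype.val
              (mul_comm_of_exponent_two IsKleinFour.exponent_two (⟨φ (sr i), hi ▸ hu0⟩ : U) ⟨_, hv⟩))
          rw [sr_mul_sr, sr_mul_sr] at hc
          have h2 : (j - i) + (j - i) = 0 := by linear_combination DihedralGroup.r.inj hc
          rcases eq_zero_or_of_add_self hl h2 with h3 | h3
          · exact Or.inl (by rw [sub_eq_zero.1 h3])
          · exact Or.inr (by rw [← h3, add_sub_cancel])
      have hzU : z ∈ U := by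
        by_contra hzU
        have hsub : ∀ u : U, u = 1 ∨ (u : G) = φ (sr i) := fun u => by
          rcases hUel u u.2 with h | h | h | h
          · exact Or.inl (Subtype.ext h)
          · exact absurd (h ▸ u.2) hzU
          · exact Or.inr h
          · refine absurd ?_ hzU
            have := mul_mem (hi ▸ hu0 : φ (sr i) ∈ U) (h ▸ u.2 : φ (sr (i + ((2 * l : ℕ) : ZMod (4 * l)))) ∈ U)
            rwa [← map_mul, sr_mul_shift] at this
        have := Nat.card_le_card_of_injective (fun u : U => decide (u = 1)) fun u v h => by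
          simp only [decide_eq_decide] at h
          rcases hsub u with hu | hu <;> rcases hsub v with hv | hv
          · rw [hu, hv]
          · rw [hu, (h.1 hu)]
          · rw [hv, (h.2 hv)]
          · exact Subtype.ext (hu.trans hv.symm)
        rw [hU.card_four, Nat.card_eq_fintype_card, Fintype.card_bool] at this
        omega
      have hconjU : ∀ v ∈ U, g * v * g⁻¹ ∈ U := fun v hv => (Subgroup.mem_normalizer_iff.1 hg v).1 hv
      have hgz : g * z * g⁻¹ = z := by
        refine hnoz _ (hUP (hconjU z hzU)) ?_ (isConj_iff.2 ⟨g, rfl⟩)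
        rw [show g * z * g⁻¹ = MulAut.conj g z from rfl, MulEquiv.orderOf_eq]; exact za.1
      have cent : ∀ t : G, t * z * t⁻¹ = z → t * φ (sr i) * t⁻¹ = φ (sr i) →
          t ∈ Subgroup.centralizer (U : Set G) := by
        intro t h1 h2
        refine Subgroup.mem_centralizer_iff.2 fun v hv => ?_
        have hfix : t * v * t⁻¹ = v := by
          rcases hUel v hv with rfl | rfl | rfl | rfl
          · group
          · exact h1
          · exact h2
          · have e' : φ (sr (i + ((2 * l : ℕ) : ZMod (4 * l)))) = φ (sr i) * z := by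
              rw [hz, ← map_mul, sr_mul_r]
            rw [e', show t * (φ (sr i) * z) * t⁻¹ = (t * φ (sr i) * t⁻¹) * (t * z * t⁻¹) by group,
              h1, h2]
        exact (mul_inv_eq_iff_eq_mul.1 hfix).symm
      have himg := hconjU _ (hi ▸ hu0 : φ (sr i) ∈ U)
      have hinj : ∀ w, g * w * g⁻¹ = z → w = z := fun w hw => by
        rw [← hgz] at hw; exact mul_left_cancel (mul_right_cancel hw)
      rcases hUel _ himg with h | h | h | h
      · have hu1 : φ (sr i) = 1 := conj_eq_one_iff.1 h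
        rw [hi] at hu1
        rw [hu1, orderOf_one] at hu0o
        exact absurd hu0o (by norm_num)
      · exact absurd (hi ▸ hinj _ h) hu0z
      · exact Subgroup.mem_sup_left (cent g hgz h)
      · set s := φ (r (-(l : ℕ) : ZMod (4 * l))) with hs
        have hsz : s * z * s⁻¹ = z := by
          rw [hs, hz, ← map_mul, central_z, map_mul, mul_inv_cancel_right]
        have hsi : s * φ (sr i) * s⁻¹ = φ (sr (i + ((2 * l : ℕ) : ZMod (4 * l)))) := by
          rw [hs, ← map_mul, ← map_inv, ← map_mul, conj_shift]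
        have hsC : s⁻¹ * g ∈ Subgroup.centralizer (U : Set G) := by
          refine cent _ ?_ ?_
          · calc s⁻¹ * g * z * (s⁻¹ * g)⁻¹ = s⁻¹ * (g * z * g⁻¹) * s := by group
              _ = z := by rw [hgz]; nth_rewrite 1 [← hsz]; group
          · calc s⁻¹ * g * φ (sr i) * (s⁻¹ * g)⁻¹ = s⁻¹ * (g * φ (sr i) * g⁻¹) * s := by group
              _ = φ (sr i) := by rw [h, ← hsi]; group
        have hsN : s ∈ (P : Subgroup G) ⊓ Subgroup.normalizer (U : Set G) := by
          refine ⟨hφP _, ?_⟩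
          have := mul_mem hg (inv_mem (Subgroup.centralizer_le_normalizer _ hsC))
          rwa [mul_inv_rev, inv_inv, mul_inv_cancel_left] at this
        have := mul_mem (Subgroup.mem_sup_right hsN) (Subgroup.mem_sup_left hsC :
          s⁻¹ * g ∈ Subgroup.centralizer (U : Set G) ⊔ ((P : Subgroup G) ⊓ Subgroup.normalizer (U : Set G)))
        rwa [mul_inv_cancel_left] at this
    refine ⟨?_, hcompl⟩
    refine Set.ncard_eq_three.2 ⟨_, _, _, fun e' => haz (ConjClasses.mk_eq_mk_iff_isConj.1 e').symm,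
      fun e' => hbz (ConjClasses.mk_eq_mk_iff_isConj.1 e').symm, fun e' => ?_, rfl⟩
    obtain ⟨g, hg⟩ := isConj_iff.1 (ConjClasses.mk_eq_mk_iff_isConj.1 e')
    have hK := CfsgLib.Fusion.hasNormalPComplement_iff_forall_sylow.1 hcompl P
    haveI : (Cfsg.pResidual 2 G).Normal := CfsgLib.Fusion.pResidual_normal
    obtain ⟨k, hk, s, hs, rfl⟩ :=
      Subgroup.mem_sup_of_normal_left.1 (hK.sup_eq_top.symm ▸ Subgroup.mem_top g)
    obtain ⟨d, rfl⟩ := hφs s hs
    have hsa : φ d * a * (φ d)⁻¹ = φ (d * sr 0 * d⁻¹) := by rw [map_mul, map_mul, map_inv]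
    have h1 : b * (φ (d * sr 0 * d⁻¹))⁻¹ = 1 := by
      refine Subgroup.disjoint_def.1 hK.disjoint ?_ (mul_mem (hφP _) (inv_mem (hφP _)))
      rw [← hg, ← hsa, show k * φ d * a * (k * φ d)⁻¹ * (φ d * a * (φ d)⁻¹)⁻¹ =
        k * ((φ d * a * (φ d)⁻¹) * k⁻¹ * (φ d * a * (φ d)⁻¹)⁻¹) by group]
      exact mul_mem hk (Subgroup.Normal.conj_mem inferInstance _ (inv_mem hk) _)
    have h2 := congrArg (par l 0) (hφ (mul_inv_eq_one.1 h1))
    rw [map_mul, map_mul, map_inv, mul_comm (par l 0 d), mul_inv_cancel_right] at h2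
    simp [par] at h2

end CfsgLib.PGroup.DihedralTrichotomy
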