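import Cfsg.Agent.Lib.Coprime.Hyperplanes
import Cfsg.Agent.Lib.PGroup.Basic
import Mathlib.GroupTheory.SemidirectProduct

/-!
# Elementary automorphism groups of order eight of odd `p`-groups

If an elementary group `I` of order eight acts faithfully and some proper subgroup has only cyclic
fixed point subgroups, with the other elements in one coset, the `p`-group is abelian of rank three.
-/

set_option autoImplicit false
set_option linter.style.haveILetI false
set_option linter.unusedSectionVars false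

open Subgroup
open scoped commutatorElement

namespace CfsgLib.EightAut

universe u

variable {P : Type u} [Group P]

/-- The fixed points of `T` form a cyclic subgroup. -/
def CycFix (T : MulAut P) : Prop := ∃ g : P, ∀ x : P, (T x = x ↔ x ∈ zpowers g)

/-- The subgroup of points fixed by `T`. -/
def fixSub (T : MulAut P) : Subgroup P where
  carrier := {x | T x = x}
  one_mem' := map_one T
  mul_mem' := fun {a c} ha hc => by
    show T (a * c) = a * c
    rw [map_mul, ha, hc]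
  inv_mem' := fun {a} ha => by
    show T a⁻¹ = a⁻¹
    rw [map_inv, ha]

variable [Finite P] {p : ℕ} [hp : Fact p.Prime]

theorem coprime_two (hp2 : p ≠ 2) (hP : IsPGroup p P) (x : P) : (orderOf x).Coprime 2 := by
  obtain ⟨k, hk⟩ := IsPGroup.iff_orderOf.1 hP x
  rw [hk]
  exact ((Nat.coprime_primes hp.out Nat.prime_two).2 hp2).pow_left k

theorem eq_one_of_inv_eq (hp2 : p ≠ 2) (hP : IsPGroup p P) {x : P} (h : x⁻¹ = x) : x = 1 := by
  refine orderOf_eq_one_iff.1 (Nat.eq_one_of_dvd_coprimes (coprime_two hp2 hP x) dvd_rfl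
    (orderOf_dvd_of_pow_eq_one ?_))
  rw [pow_two]
  nth_rewrite 2 [← h]
  exact mul_inv_cancel x

/-- An element inverted by an involutive automorphism, correcting `x` to a fixed one. -/
theorem exists_root (hp2 : p ≠ 2) (hP : IsPGroup p P) {T : MulAut P} (hT : ∀ x, T (T x) = x)
    (x : P) : ∃ m ∈ zpowers (x⁻¹ * T x), T m = m⁻¹ ∧ T (x * m) = x * m ∧ (m = 1 → T x = x) := by
  set n := x⁻¹ * T x with hn
  have hTn : T n = n⁻¹ := by rw [hn, map_mul, map_inv, hT, mul_inv_rev, inv_inv]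
  obtain ⟨k, hk⟩ := exists_pow_eq_self_of_coprime (x := n) (n := 2) (coprime_two hp2 hP n).symm
  rw [← pow_mul, mul_comm, pow_mul] at hk
  refine ⟨n ^ k, Subgroup.pow_mem _ (mem_zpowers n) k, by rw [map_pow, hTn, inv_pow], ?_, fun h => ?_⟩
  · rw [map_mul, map_pow, hTn, show T x = x * n by rw [hn]; group, inv_pow, mul_assoc]
    congr 1
    nth_rewrite 1 [← hk]
    group
  · rw [h, one_pow] at hk
    rw [show T x = x * n by rw [hn]; group, ← hk, mul_one]

theorem signs (hp2 : p ≠ 2) (hP : IsPGroup p P) {S : MulAut P} (hS : ∀ x, S (S x) = x) {g : P}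
    (hg : S g ∈ zpowers g) : S g = g ∨ S g = g⁻¹ := by
  obtain ⟨m, hmem, hm, hfix, hm1⟩ := exists_root hp2 hP hS g
  have hmg : m ∈ zpowers g :=
    zpowers_le.2 (mul_mem (inv_mem (mem_zpowers g)) hg) hmem
  obtain ⟨i, hi⟩ := mem_zpowers_iff.1 hmg
  obtain ⟨j, hj⟩ := mem_zpowers_iff.1 (mul_mem (mem_zpowers g) hmg)
  obtain ⟨k, hk⟩ := IsPGroup.iff_orderOf.1 hP g
  by_cases hpi : (p : ℤ) ∣ i
  · -- `g * m` is a generator
    left
    obtain ⟨l, hl⟩ : ∃ l : ℤ, (g * m) ^ l = g := by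
      have hcop : Int.gcd (1 + i) (orderOf g : ℤ) = 1 := by
        rw [hk]
        push_cast
        refine Int.isCoprime_iff_gcd_eq_one.1 (IsCoprime.pow_right ?_)
        refine ((Nat.prime_iff_prime_int.1 hp.out).coprime_iff_not_dvd.2 fun h => ?_).symm
        exact (Nat.prime_iff_prime_int.1 hp.out).not_dvd_one (by simpa using dvd_sub h hpi)
      have hb := Int.gcd_eq_gcd_ab (1 + i) (orderOf g : ℤ)
      rw [hcop] at hb
      refine ⟨Int.gcdA (1 + i) (orderOf g : ℤ), ?_⟩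
      have h1 : g * m = g ^ (1 + i) := by rw [← hi, zpow_add, zpow_one]
      have e : (1 + i) * Int.gcdA (1 + i) (orderOf g : ℤ) =
          1 - (orderOf g : ℤ) * Int.gcdB (1 + i) (orderOf g : ℤ) := by
        push_cast at hb; linarith
      rw [h1, ← zpow_mul, e, zpow_sub, zpow_one, zpow_mul, zpow_natCast, pow_orderOf_eq_one,
        one_zpow, inv_one, mul_one]
    rw [← hl, map_zpow, hfix]
  · right
    obtain ⟨l, hl⟩ : ∃ l : ℤ, m ^ l = g := by
      have hcop : Int.gcd i (orderOf g : ℤ) = 1 := by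
        rw [hk]
        push_cast
        exact Int.isCoprime_iff_gcd_eq_one.1 (IsCoprime.pow_right
          (((Nat.prime_iff_prime_int.1 hp.out).coprime_iff_not_dvd.2 hpi).symm))
      have hb := Int.gcd_eq_gcd_ab i (orderOf g : ℤ)
      rw [hcop] at hb
      refine ⟨Int.gcdA i (orderOf g : ℤ), ?_⟩
      have e : i * Int.gcdA i (orderOf g : ℤ) =
          1 - (orderOf g : ℤ) * Int.gcdB i (orderOf g : ℤ) := by
        push_cast at hb; linarith
      rw [← hi, ← zpow_mul, e, zpow_sub, zpow_one, zpow_mul, zpow_natCast, pow_orderOf_eq_one,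
        one_zpow, inv_one, mul_one]
    rw [← hl, map_zpow, hm, inv_zpow]

/-- Two fixed points with different behaviour under a commuting involution. -/
theorem not_cycFix (hp2 : p ≠ 2) (hP : IsPGroup p P) {T S : MulAut P} (hTS : T * S = S * T)
    (hS : ∀ x, S (S x) = x) {a c : P} (ha : T a = a) (hc : T c = c) (ha1 : a ≠ 1) (hc1 : c ≠ 1)
    (hSa : S a = a⁻¹) (hSc : S c = c) : ¬ CycFix T := by
  rintro ⟨g, hg⟩
  obtain ⟨i, hi⟩ := mem_zpowers_iff.1 ((hg a).1 ha)
  obtain ⟨j, hj⟩ := mem_zpowers_iff.1 ((hg c).1 hc)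
  have hSg : S g ∈ zpowers g := by
    refine (hg _).1 ?_
    have h := DFunLike.congr_fun hTS g
    rw [MulAut.mul_apply, MulAut.mul_apply, (hg g).2 (mem_zpowers g)] at h
    exact h
  rcases signs hp2 hP hS hSg with h | h
  · refine ha1 (eq_one_of_inv_eq hp2 hP ?_)
    rw [← hSa, ← hi, map_zpow, h]
  · refine hc1 (eq_one_of_inv_eq hp2 hP ?_)
    conv_rhs => rw [← hSc]
    rw [← hj, map_zpow, h, inv_zpow]

/-- Generation by the fixed points of the hyperplanes. -/
theorem eq_top_of_hyperplanes (hp2 : p ≠ 2) (hP : IsPGroup p P) (I : Subgroup (MulAut P))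
    (hI : Cfsg.IsElementaryAbelian 2 I) (hI4 : 4 ≤ Nat.card I) (H : Subgroup P)
    (h : ∀ K : Subgroup (MulAut P), K ≤ I → 2 * Nat.card K = Nat.card I →
      ∀ x : P, (∀ T ∈ K, T x = x) → x ∈ H) : H = ⊤ := by
  set D := P ⋊[I.subtype] ↥I
  haveI : Finite I := Nat.finite_of_card_ne_zero (by omega)
  haveI : Finite D := Finite.of_equiv _ SemidirectProduct.equivProd.symm
  let iX : P →* D := SemidirectProduct.inl
  let iB : ↥I →* D := SemidirectProduct.inr
  have hea : Cfsg.IsElementaryAbelian 2 iB.range := by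
    refine ⟨⟨⟨?_⟩⟩, ?_⟩
    · rintro ⟨_, a, rfl⟩ ⟨_, c, rfl⟩
      refine Subtype.ext ?_
      show iB a * iB c = iB c * iB a
      rw [← map_mul, ← map_mul]
      exact congrArg iB (hI.1.is_comm.comm a c)
    · rintro _ ⟨a, rfl⟩
      rw [← map_pow, show a ^ 2 = 1 from Subtype.ext (hI.2 a a.2), map_one]
  have hcard : Nat.card iB.range = Nat.card I :=
    (Nat.card_congr (MonoidHom.ofInjective SemidirectProduct.inr_injective).toEquiv).symm
  have hXp : ¬ 2 ∣ Nat.card iX.range := by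
    rw [← Nat.card_congr (MonoidHom.ofInjective (f := iX) SemidirectProduct.inl_injective).toEquiv]
    obtain ⟨k, hk⟩ := hP.exists_card_eq
    rw [hk]
    exact fun hd => hp2 ((Nat.prime_dvd_prime_iff_eq Nat.prime_two hp.out).1
      (Nat.prime_two.dvd_of_dvd_pow hd)).symm
  have hconj : ∀ (a : I) (x : P), iB a * iX x * (iB a)⁻¹ = iX ((a : MulAut P) x) := fun a x => by
    rw [← map_inv]
    exact (SemidirectProduct.inl_aut a x).symm
  have hN : iB.range ≤ normalizer (iX.range : Set D) := by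
    show iB.range ≤ normalizer ((SemidirectProduct.inl : P →* D).range : Set D)
    haveI : (SemidirectProduct.inl : P →* D).range.Normal := by
      rw [SemidirectProduct.range_inl_eq_ker_rightHom]
      infer_instance
    rw [normalizer_eq_top]
    exact le_top
  have key := CfsgLib.Coprime.le_of_hyperplanes (p := 2) (B := iB.range) (X := iX.range)
    (W := H.map iX) hea (by rw [hcard]; exact hI4) hXp hN fun E hE hidx => ?_
  · refine eq_top_iff.2 fun x _ => ?_
    obtain ⟨w, hw, hwx⟩ := key ⟨x, rfl⟩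
    exact SemidirectProduct.inl_injective hwx ▸ hw
  rintro _ ⟨⟨x, rfl⟩, hx⟩
  refine mem_map_of_mem iX (h ((E.comap iB).map I.subtype) (map_subtype_le _) ?_ x ?_)
  · rw [card_map_of_injective I.subtype_injective,
      ← card_map_of_injective (f := iB) (K := E.comap iB) SemidirectProduct.inr_injective,
      map_comap_eq, inf_eq_right.2 hE, ← hcard, ← card_mul_index (E.subgroupOf iB.range),
      Nat.card_congr (subgroupOfEquivOfLe hE).toEquiv, ← relIndex, hidx, mul_comm]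
  · rintro _ ⟨a, ha, rfl⟩
    refine SemidirectProduct.inl_injective (φ := I.subtype) ?_
    show iX ((a : MulAut P) x) = iX x
    rw [← hconj, mem_centralizer_iff.1 hx (iB a) ha, mul_inv_cancel_right]

/-- Basic facts about the configuration. -/
theorem main (hp2 : p ≠ 2) (hP : IsPGroup p P) (I : Subgroup (MulAut P))
    (hI : Cfsg.IsElementaryAbelian 2 I) (hI8 : Nat.card I = 8) (I₀ : Subgroup (MulAut P))
    (hI₀ : I₀ < I) (hdisj : ∀ T ∈ I₀, T ≠ 1 → CycFix T)
    (hprod : ∀ T ∈ I, ∀ T' ∈ I, T ≠ 1 → T' ≠ 1 → ¬ CycFix T → ¬ CycFix T' → T * T' ∈ I₀) :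
    IsMulCommutative P ∧ (∃ a b c : P, closure {a, b, c} = ⊤) ∧
      (¬ ∃ a b : P, closure {a, b} = ⊤) ∧
      Nat.card {T : MulAut P // T ∈ I ∧ T ≠ 1 ∧ ¬ CycFix T} = 3 ∧
      closure {T : MulAut P | T ∈ I ∧ T ≠ 1 ∧ ¬ CycFix T} = I ∧
      (I₀ : Set (MulAut P)) = {S : MulAut P | ∃ T T' : MulAut P, T ∈ I ∧ T' ∈ I ∧ T ≠ 1 ∧ T' ≠ 1 ∧
        ¬ CycFix T ∧ ¬ CycFix T' ∧ S = T * T'} := by
  classical
  haveI : Finite I := Nat.finite_of_card_ne_zero (by omega)
  have hcomm : ∀ {S T : MulAut P}, S ∈ I → T ∈ I → S * T = T * S := fun hS hT =>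
    congrArg Subtype.val (hI.1.is_comm.comm (⟨_, hS⟩ : I) ⟨_, hT⟩)
  have hsq : ∀ {T : MulAut P}, T ∈ I → T * T = 1 := fun hT => by rw [← pow_two]; exact hI.2 _ hT
  have hinv : ∀ {T : MulAut P}, T ∈ I → ∀ x, T (T x) = x := fun hT x => by
    rw [← MulAut.mul_apply, hsq hT, MulAut.one_apply]
  -- active hyperplanes
  let Act : Subgroup (MulAut P) → Prop := fun K => K ≤ I ∧ Nat.card K = 4 ∧
    ∃ x : P, (∀ T ∈ K, T x = x) ∧ ∃ S ∈ I, S x ≠ x
  have hact : ∀ T ∈ I, T ≠ 1 → ∃ K, Act K ∧ T ∉ K := by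
    intro T hT hT1
    by_contra hno
    push Not at hno
    have htop := eq_top_of_hyperplanes hp2 hP I hI (by omega) (fixSub T) fun K hK hc x hx => by
      by_cases hall : ∀ S ∈ I, S x = x
      · exact hall T hT
      · push Not at hall
        exact hx T (hno K ⟨hK, by omega, x, hx, hall⟩)
    exact hT1 (MulEquiv.ext fun x => (htop.ge (mem_top x) : T x = x))
  have hI1 : ∃ T ∈ I, T ≠ 1 := by
    by_contra hno
    push Not at hno
    have h : I = ⊥ := (eq_bot_iff_forall I).2 hno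
    rw [h, card_bot] at hI8
    omega
  have hmeet : ∀ {K L : Subgroup (MulAut P)}, Act K → Act L → K ≠ L →
      ∃ T, T ∈ K ∧ T ∈ L ∧ T ≠ 1 := by
    intro K L hK hL hne
    by_contra hno
    push Not at hno
    have h : K ⊓ L = ⊥ := (eq_bot_iff_forall _).2 fun T hT => hno T hT.1 hT.2
    haveI : Finite ↥(K ⊔ L) := Finite.of_injective _ (inclusion_injective (sup_le hK.1 hL.1))
    have hn : ∀ S ∈ L, S ∈ normalizer (K : Set (MulAut P)) := fun S hS =>
      centralizer_le_normalizer _ (mem_centralizer_iff.2 fun T hT => hcomm (hK.1 hT) (hL.1 hS))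
    have h1 : Nat.card ↥(K ⊔ L) ≤ Nat.card I :=
      Nat.le_of_dvd Nat.card_pos (card_dvd_of_le (sup_le hK.1 hL.1))
    let f : K × L → ↥(K ⊔ L) := fun s => ⟨s.1 * s.2, mul_mem_sup s.1.2 s.2.2⟩
    have hf : Function.Injective f := by
      rintro ⟨a, c⟩ ⟨a', c'⟩ he
      have he' : (a : MulAut P) * c = a' * c' := congrArg Subtype.val he
      have hm : (a' : MulAut P)⁻¹ * a ∈ K ⊓ L := ⟨K.mul_mem (K.inv_mem a'.2) a.2, by
        rw [show (a' : MulAut P)⁻¹ * a = c' * (c : MulAut P)⁻¹ by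
          rw [eq_mul_inv_iff_mul_eq, mul_assoc, he', inv_mul_cancel_left]]
        exact L.mul_mem c'.2 (L.inv_mem c.2)⟩
      rw [h, mem_bot, inv_mul_eq_one] at hm
      rw [hm] at he'
      exact Prod.ext (Subtype.ext hm.symm) (Subtype.ext (mul_left_cancel he'))
    have h2 := Nat.card_le_card_of_injective f hf
    rw [Nat.card_prod, hK.2.1, hL.2.1] at h2
    omega
  have hunique : ∀ {K L : Subgroup (MulAut P)}, Act K → Act L → K ≠ L →
      ∀ {S T : MulAut P}, S ∈ K → S ∈ L → T ∈ K → T ∈ L → S ≠ 1 → T ≠ 1 → S = T := by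
    intro K L hK hL hne S T hSK hSL hTK hTL hS hT
    by_contra hST
    haveI : Finite K := Nat.finite_of_card_ne_zero (by rw [hK.2.1]; norm_num)
    haveI : Finite L := Nat.finite_of_card_ne_zero (by rw [hL.2.1]; norm_num)
    have hsub : ∀ M : Subgroup (MulAut P), M ≤ I → Nat.card M = 4 → S ∈ M → T ∈ M →
        (M : Set (MulAut P)) = {1, S, T, S * T} := by
      intro M hMI hM hSM hTM
      haveI : Finite M := Nat.finite_of_card_ne_zero (by omega)
      refine (Set.eq_of_subset_of_ncard_le ?_ ?_ (Set.toFinite _)).symm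
      · simp only [Set.insert_subset_iff, Set.singleton_subset_iff, SetLike.mem_coe]
        exact ⟨one_mem _, hSM, hTM, mul_mem hSM hTM⟩
      · have h1 : S * T ≠ 1 := fun e => hST (by
          rw [eq_inv_of_mul_eq_one_left e, inv_eq_of_mul_eq_one_right (hsq (hMI hTM))])
        rw [← Nat.card_coe_set_eq, SetLike.coe_sort_coe, hM, Set.ncard_insert_of_notMem,
          Set.ncard_insert_of_notMem, Set.ncard_pair]
        · exact fun e => hS (mul_eq_right.1 e.symm)
        · simp only [Set.mem_insert_iff, Set.mem_singleton_iff, not_or]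
          exact ⟨hST, fun e => hT (mul_eq_left.1 e.symm)⟩
        · simp only [Set.mem_insert_iff, Set.mem_singleton_iff, not_or]
          exact ⟨hS.symm, hT.symm, h1.symm⟩
    exact hne (SetLike.coe_injective ((hsub K hK.1 hK.2.1 hSK hTK).trans
      (hsub L hL.1 hL.2.1 hSL hTL).symm))
  obtain ⟨R, hR, hR1⟩ := hI1
  obtain ⟨K₁, hK₁, -⟩ := hact R hR hR1
  obtain ⟨R', hR', hR'1⟩ : ∃ T ∈ K₁, T ≠ 1 := by
    by_contra hno
    push Not at hno
    have := hK₁.2.1
    rw [(eq_bot_iff_forall K₁).2 hno, card_bot] at this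
    omega
  obtain ⟨K₂, hK₂, hR'2⟩ := hact R' (hK₁.1 hR') hR'1
  have h12 : K₁ ≠ K₂ := fun e => hR'2 (e ▸ hR')
  obtain ⟨T₃, hT31, hT32, hT3⟩ := hmeet hK₁ hK₂ h12
  obtain ⟨K₃, hK₃, hT33⟩ := hact T₃ (hK₁.1 hT31) hT3
  have h13 : K₁ ≠ K₃ := fun e => hT33 (e ▸ hT31)
  have h23 : K₂ ≠ K₃ := fun e => hT33 (e ▸ hT32)
  obtain ⟨T₂, hT21, hT23, hT2⟩ := hmeet hK₁ hK₃ h13
  obtain ⟨T₁, hT12, hT13, hT1⟩ := hmeet hK₂ hK₃ h23
  have hT22 : T₂ ∉ K₂ := fun h => hT33 (hunique hK₁ hK₂ h12 hT21 h hT31 hT32 hT2 hT3 ▸ hT23)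
  have hT11 : T₁ ∉ K₁ := fun h => hT33 (hunique hK₁ hK₂ h12 h hT12 hT31 hT32 hT1 hT3 ▸ hT13)
  have hI₁ := hK₂.1 hT12
  have hI₂ := hK₁.1 hT21
  have hI₃ := hK₁.1 hT31
  -- witnesses
  have wit : ∀ {K : Subgroup (MulAut P)}, Act K → ∀ {T : MulAut P}, T ∈ I → T ∉ K →
      ∃ m : P, m ≠ 1 ∧ T m = m⁻¹ ∧ ∀ S ∈ K, S m = m := by
    rintro K ⟨hKI, hK4, x, hx, S, hS, hSx⟩ T hT hTK
    have hTx : T x ≠ x := by
      intro hTx
      haveI : Finite K := Nat.finite_of_card_ne_zero (by omega)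
      have hlt : K < K ⊔ zpowers T :=
        lt_of_le_of_ne le_sup_left fun e => hTK (e ▸ mem_sup_right (mem_zpowers T))
      have hle : K ⊔ zpowers T ≤ I := sup_le hKI (zpowers_le.2 hT)
      haveI : Finite ↥(K ⊔ zpowers T) := Finite.of_injective _ (inclusion_injective hle)
      have hd1 := card_dvd_of_le hle
      have hd2 := card_dvd_of_le hlt.le
      rw [hI8] at hd1
      rw [hK4] at hd2
      have hne : Nat.card ↥(K ⊔ zpowers T) ≠ 4 := fun e =>
        hlt.ne (eq_of_le_of_card_ge hlt.le (by omega))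
      have h8 : Nat.card ↥(K ⊔ zpowers T) = 8 := by
        have h4 := Nat.le_of_dvd Nat.card_pos hd2
        have h8 := Nat.le_of_dvd (by norm_num) hd1
        interval_cases hh : Nat.card ↥(K ⊔ zpowers T) <;> omega
      have htop := eq_of_le_of_card_ge hle (by omega)
      have hstab : K ⊔ zpowers T ≤ MulAction.stabilizer (MulAut P) x :=
        sup_le (fun U hU => hx U hU) (zpowers_le.2 hTx)
      exact hSx (hstab (htop.ge hS))
    obtain ⟨m, hmem, hm, -, hm1⟩ := exists_root hp2 hP (hinv hT) x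
    refine ⟨m, fun h => hTx (hm1 h), hm, fun U hU => ?_⟩
    have h1 : zpowers (x⁻¹ * T x) ≤ fixSub U := zpowers_le.2 (show U (x⁻¹ * T x) = x⁻¹ * T x by
      rw [map_mul, map_inv, hx U hU, ← MulAut.mul_apply, hcomm (hKI hU) hT, MulAut.mul_apply,
        hx U hU])
    exact h1 hmem
  obtain ⟨a₁, ha₁, h11, h1f⟩ := wit hK₁ hI₁ hT11
  obtain ⟨a₂, ha₂, h22, h2f⟩ := wit hK₂ hI₂ hT22
  obtain ⟨a₃, ha₃, h33, h3f⟩ := wit hK₃ hI₃ hT33
  have h21 := h1f T₂ hT21; have h31 := h1f T₃ hT31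
  have h12' := h2f T₁ hT12; have h32 := h2f T₃ hT32
  have h13' := h3f T₁ hT13; have h23' := h3f T₂ hT23
  have hn1 : ¬ CycFix T₁ :=
    not_cycFix hp2 hP (hcomm hI₁ hI₂) (hinv hI₂) h12' h13' ha₂ ha₃ h22 h23'
  have hn2 : ¬ CycFix T₂ :=
    not_cycFix hp2 hP (hcomm hI₂ hI₁) (hinv hI₁) h21 h23' ha₁ ha₃ h11 h13'
  have hn3 : ¬ CycFix T₃ :=
    not_cycFix hp2 hP (hcomm hI₃ hI₁) (hinv hI₁) h31 h32 ha₁ ha₂ h11 h12'
  have hmov : ∀ {U : MulAut P} {a : P}, a ≠ 1 → U a = a⁻¹ → U a ≠ a := fun ha hU e =>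
    ha (eq_one_of_inv_eq hp2 hP (hU.symm.trans e))
  have hne12 : T₁ ≠ T₂ := fun e => hmov ha₁ h11 (e ▸ h21)
  have hne13 : T₁ ≠ T₃ := fun e => hmov ha₁ h11 (e ▸ h31)
  have hne23 : T₂ ≠ T₃ := fun e => hmov ha₂ h22 (e ▸ h32)
  -- the subgroup `I₀`
  have hmem12 := hprod T₁ hI₁ T₂ hI₂ hT1 hT2 hn1 hn2
  have hmem13 := hprod T₁ hI₁ T₃ hI₃ hT1 hT3 hn1 hn3
  have hmem23 := hprod T₂ hI₂ T₃ hI₃ hT2 hT3 hn2 hn3
  have hp1 : ∀ {S T : MulAut P}, T ∈ I → S ≠ T → S * T ≠ 1 := fun hT hne e => hne (by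
    rw [eq_inv_of_mul_eq_one_left e, inv_eq_of_mul_eq_one_right (hsq hT)])
  haveI : Finite I₀ := Finite.of_injective _ (inclusion_injective hI₀.le)
  have hset4 : ({1, T₁ * T₂, T₁ * T₃, T₂ * T₃} : Set (MulAut P)).ncard = 4 := by
    rw [Set.ncard_insert_of_notMem, Set.ncard_insert_of_notMem, Set.ncard_pair]
    · exact fun e => hne12 (mul_right_cancel e)
    · simp only [Set.mem_insert_iff, Set.mem_singleton_iff, not_or]
      refine ⟨fun e => hne23 (mul_left_cancel e), fun e => hne13 ?_⟩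
      rw [hcomm hI₂ hI₃] at e
      exact mul_right_cancel e
    · simp only [Set.mem_insert_iff, Set.mem_singleton_iff, not_or]
      exact ⟨(hp1 hI₂ hne12).symm, (hp1 hI₃ hne13).symm, (hp1 hI₃ hne23).symm⟩
  have hI₀4 : (I₀ : Set (MulAut P)) = {1, T₁ * T₂, T₁ * T₃, T₂ * T₃} := by
    have hc4 : Nat.card I₀ ≤ 4 := by
      obtain ⟨c, hc⟩ := card_dvd_of_le hI₀.le
      rcases c with - | - | c
      · simp at hc; omega
      · exact absurd (eq_of_le_of_card_ge hI₀.le (by omega)) hI₀.ne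
      · rw [hI8] at hc
        nlinarith
    refine (Set.eq_of_subset_of_ncard_le ?_ ?_ (Set.toFinite _)).symm
    · simp only [Set.insert_subset_iff, Set.singleton_subset_iff, SetLike.mem_coe]
      exact ⟨one_mem _, hmem12, hmem13, hmem23⟩
    · rw [← Nat.card_coe_set_eq, SetLike.coe_sort_coe, hset4]
      exact hc4
  have hI₀c : Nat.card I₀ = 4 := by
    rw [← hset4, ← hI₀4, ← Nat.card_coe_set_eq]
    rfl
  -- generators of the fixed point groups
  have gens : ∀ {A B C : MulAut P}, A ∈ I → B ∈ I → C ∈ I → A * B ∈ I₀ → A * B ≠ 1 → ∀ {a : P},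
      a ≠ 1 → A a = a → B a = a → C a = a⁻¹ →
      ∃ g : P, g ≠ 1 ∧ A g = g ∧ B g = g ∧ C g = g⁻¹ ∧ ∀ x, (A * B) x = x → x ∈ zpowers g := by
    intro A B C hA hB hC h0 h1 a ha hAa hBa hCa
    obtain ⟨g, hg⟩ := hdisj _ h0 h1
    obtain ⟨i, hi⟩ := mem_zpowers_iff.1 ((hg a).1 (by rw [MulAut.mul_apply, hBa, hAa]))
    have hgne : g ≠ 1 := fun e => ha (by rw [← hi, e, one_zpow])
    have hdec : ∀ U ∈ I, U g ∈ zpowers g := fun U hU => (hg _).1 (by
      rw [← MulAut.mul_apply, hcomm (mul_mem hA hB) hU, MulAut.mul_apply,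
        (hg g).2 (mem_zpowers g)])
    have hfix : ∀ U ∈ I, U a = a → U g = g := fun U hU hUa =>
      (signs hp2 hP (hinv hU) (hdec U hU)).resolve_right fun h => ha (eq_one_of_inv_eq hp2 hP (by
        conv_rhs => rw [← hUa]
        rw [← hi, map_zpow, h, inv_zpow]))
    refine ⟨g, hgne, hfix A hA hAa, hfix B hB hBa, ?_, fun x hx => (hg x).1 hx⟩
    exact (signs hp2 hP (hinv hC) (hdec C hC)).resolve_left fun h =>
      hmov ha hCa (by rw [← hi, map_zpow, h])
  obtain ⟨g₁, hg₁, g21, g31, g11, hgen1⟩ :=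
    gens hI₂ hI₃ hI₁ hmem23 (hp1 hI₃ hne23) ha₁ h21 h31 h11
  obtain ⟨g₂, hg₂, g12, g32, g22, hgen2⟩ :=
    gens hI₁ hI₃ hI₂ hmem13 (hp1 hI₃ hne13) ha₂ h12' h32 h22
  obtain ⟨g₃, hg₃, g13, g23, g33, hgen3⟩ :=
    gens hI₁ hI₂ hI₃ hmem12 (hp1 hI₂ hne12) ha₃ h13' h23' h33
  have hclos : closure {g₁, g₂, g₃} = (⊤ : Subgroup P) := by
    refine eq_top_of_hyperplanes hp2 hP I₀ ⟨⟨⟨fun a c => Subtype.ext
      (hcomm (hI₀.le a.2) (hI₀.le c.2))⟩⟩, fun a ha => hI.2 a (hI₀.le ha)⟩ ?_ _ ?_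
    · omega
    intro K hK hKc x hx
    obtain ⟨T, hT, hT1'⟩ : ∃ T ∈ K, T ≠ 1 := by
      by_contra hno
      push Not at hno
      rw [(eq_bot_iff_forall K).2 hno, card_bot] at hKc
      omega
    have hT' : T ∈ (I₀ : Set (MulAut P)) := hK hT
    rw [hI₀4] at hT'
    simp only [Set.mem_insert_iff, Set.mem_singleton_iff] at hT'
    rcases hT' with rfl | rfl | rfl | rfl
    · exact absurd rfl hT1'
    · exact zpowers_le.2 (subset_closure (by simp)) (hgen3 x (hx _ hT))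
    · exact zpowers_le.2 (subset_closure (by simp)) (hgen2 x (hx _ hT))
    · exact zpowers_le.2 (subset_closure (by simp)) (hgen1 x (hx _ hT))
  -- commutators of the generators
  haveI : Group.IsNilpotent P := hP.isNilpotent
  set γ := ⁅(⊤ : Subgroup P), (⊤ : Subgroup P)⁆ with hγ
  set N := ⁅γ, (⊤ : Subgroup P)⁆ with hN
  haveI : N.Normal := inferInstance
  set π := QuotientGroup.mk' N
  have hcentral : ∀ a c d : P, π ⁅a, c⁆ * π d = π d * π ⁅a, c⁆ := by
    intro a c d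
    rw [← commutatorElement_eq_one_iff_mul_comm, ← map_commutatorElement]
    exact (QuotientGroup.eq_one_iff _).2 (commutator_mem_commutator
      (commutator_mem_commutator (mem_top a) (mem_top c)) (mem_top d))
  have hinvl : ∀ a c : P, π ⁅a⁻¹, c⁆ = (π ⁅a, c⁆)⁻¹ := by
    intro a c
    have e : ⁅a⁻¹, c⁆ = a⁻¹ * ⁅a, c⁆⁻¹ * a := by rw [commutatorElement_def, commutatorElement_def]; group
    rw [e, map_mul, map_mul, map_inv, map_inv, mul_assoc,
      ((show Commute (π ⁅a, c⁆) (π a) from hcentral a c a).inv_left).eq, inv_mul_cancel_left]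
  have hinvr : ∀ a c : P, π ⁅a, c⁻¹⁆ = (π ⁅a, c⁆)⁻¹ := by
    intro a c
    rw [← commutatorElement_inv, map_inv, hinvl, inv_inv, ← commutatorElement_inv, map_inv]
  have hNinv : ∀ U : MulAut P, ∀ x ∈ N, U x ∈ N := by
    intro U x hx
    have : N.map U.toMonoidHom = N := by
      rw [hN, hγ, map_commutator, map_commutator, map_top_of_surjective _ U.surjective]
    exact this ▸ mem_map_of_mem U.toMonoidHom hx
  have hzero : ∀ {A B C : MulAut P}, A ∈ I → B ∈ I → C ∈ I → ∀ {u v w : P},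
      A u = u⁻¹ → A v = v → B u = u → B v = v⁻¹ → C u = u → C v = v →
      (∀ x, (A * B) x = x → x ∈ zpowers w) → C w = w⁻¹ → ⁅u, v⁆ ∈ N := by
    intro A B C hA hB hC u v w hAu hAv hBu hBv hCu hCv hgen hCw
    set c := ⁅u, v⁆ with hc
    have hAB : π ((A * B) c) = π c := by
      rw [MulAut.mul_apply, hc, map_commutatorElement B, hBu, hBv, map_commutatorElement A, hAu,
        map_inv, hAv, hinvl, hinvr, inv_inv]
    obtain ⟨m, hmem, -, hfix, -⟩ := exists_root hp2 hP (hinv (mul_mem hA hB)) c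
    have hmN : m ∈ N := by
      refine zpowers_le.2 ?_ hmem
      refine (QuotientGroup.eq_one_iff _).1 ?_
      show π (c⁻¹ * (A * B) c) = 1
      rw [map_mul, map_inv, hAB, inv_mul_cancel]
    obtain ⟨k, hk⟩ := mem_zpowers_iff.1 (hgen _ hfix)
    have h1 : C (c * m) = (c * m)⁻¹ := by rw [← hk, map_zpow, hCw, inv_zpow]
    have h2 := congrArg π h1
    rw [map_mul, map_mul, map_inv, map_mul, show C c = c by rw [hc, map_commutatorElement, hCu, hCv],
      show π (C m) = 1 from (QuotientGroup.eq_one_iff _).2 (hNinv C m hmN),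
      show π m = 1 from (QuotientGroup.eq_one_iff _).2 hmN, mul_one] at h2
    exact (QuotientGroup.eq_one_iff _).1
      (eq_one_of_inv_eq hp2 (hP.to_quotient N) h2.symm)
  have h12N := hzero hI₁ hI₂ hI₃ g11 g12 g21 g22 g31 g32 hgen3 g33
  have h13N := hzero hI₁ hI₃ hI₂ g11 g13 g31 g33 g21 g23 hgen2 g22
  have h23N := hzero hI₂ hI₃ hI₁ g22 g23 g32 g33 g12 g13 hgen1 g11
  have hcgen : ∀ a ∈ ({g₁, g₂, g₃} : Set P), ∀ c ∈ ({g₁, g₂, g₃} : Set P),
      π a * π c = π c * π a := by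
    have key : ∀ {a c : P}, ⁅a, c⁆ ∈ N → π a * π c = π c * π a := fun h => by
      rw [← commutatorElement_eq_one_iff_mul_comm, ← map_commutatorElement]
      exact (QuotientGroup.eq_one_iff _).2 h
    simp only [Set.mem_insert_iff, Set.mem_singleton_iff]
    rintro a (rfl | rfl | rfl) c (rfl | rfl | rfl)
    exacts [rfl, key h12N, key h13N, (key h12N).symm, rfl, key h23N, (key h13N).symm,
      (key h23N).symm, rfl]
  have hγN : γ ≤ N := by
    refine commutator_le.2 fun a _ c _ => (QuotientGroup.eq_one_iff _).1 ?_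
    show π ⁅a, c⁆ = 1
    have hab : IsMulCommutative (closure (π '' {g₁, g₂, g₃})) :=
      isMulCommutative_closure fun x hx y hy => by
        obtain ⟨x, hx', rfl⟩ := hx
        obtain ⟨y, hy', rfl⟩ := hy
        exact hcgen x hx' y hy'
    rw [map_commutatorElement, commutatorElement_eq_one_iff_mul_comm]
    have hm : ∀ x : P, π x ∈ closure (π '' {g₁, g₂, g₃}) := fun x => by
      rw [← MonoidHom.map_closure, hclos]
      exact mem_map_of_mem π (mem_top x)
    exact congrArg Subtype.val (hab.is_comm.comm (⟨π a, hm a⟩ : Subgroup.closure _) ⟨π c, hm c⟩)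
  have hγ1 : γ = ⊥ := by
    obtain ⟨n, hn⟩ := (Subgroup.isNilpotent_iff_lowerCentralSeries (⊤ : Subgroup P)).1
      (hP.to_subgroup ⊤).isNilpotent
    have key : ∀ k, γ ≤ (⊤ : Subgroup P).lowerCentralSeries k := by
      intro k
      induction k with
      | zero => exact le_top
      | succ k ih => exact hγN.trans (commutator_mono ih le_rfl)
    exact le_bot_iff.1 (hn ▸ key n)
  have hPc : IsMulCommutative P := ⟨⟨fun a c => commutatorElement_eq_one_iff_mul_comm.1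
    (mem_bot.1 (hγ1.le (commutator_mem_commutator (mem_top a) (mem_top c))))⟩⟩
  -- the product of the three involutions
  set Z := T₁ * T₂ * T₃ with hZ
  have hZg : ∀ x : P, Z x = x⁻¹ := by
    let f : P →* P :=
      { toFun := fun x => Z x * x
        map_one' := by rw [map_one, one_mul]
        map_mul' := fun a c => by
          rw [map_mul, mul_assoc, ← mul_assoc (Z c), hPc.is_comm.comm (Z c) a]
          simp only [mul_assoc] }
    have hker : f.ker = ⊤ := by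
      rw [eq_top_iff, ← hclos, closure_le]
      simp only [Set.insert_subset_iff, Set.singleton_subset_iff, SetLike.mem_coe, MonoidHom.mem_ker]
      refine ⟨?_, ?_, ?_⟩
      · show Z g₁ * g₁ = 1
        rw [hZ, MulAut.mul_apply, MulAut.mul_apply, g31, g21, g11, inv_mul_cancel]
      · show Z g₂ * g₂ = 1
        rw [hZ, MulAut.mul_apply, MulAut.mul_apply, g32, g22, map_inv, g12, inv_mul_cancel]
      · show Z g₃ * g₃ = 1
        rw [hZ, MulAut.mul_apply, MulAut.mul_apply, g33, map_inv, g23, map_inv, g13,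
          inv_mul_cancel]
    exact fun x => eq_inv_of_mul_eq_one_left (hker.ge (mem_top x) : f x = 1)
  have hZc : CycFix Z := ⟨1, fun x => by
    rw [zpowers_one_eq_bot, mem_bot]
    exact ⟨fun h => eq_one_of_inv_eq hp2 hP ((hZg x).symm.trans h), fun h => by rw [h, map_one]⟩⟩
  have hJ : {T : MulAut P | T ∈ I ∧ T ≠ 1 ∧ ¬ CycFix T} = {T₁, T₂, T₃} := by
    refine Set.ext fun T => ⟨?_, ?_⟩
    · rintro ⟨hT, hT1', hTn⟩
      have h : T₁ * T ∈ (I₀ : Set (MulAut P)) := hprod T₁ hI₁ T hT hT1 hT1' hn1 hTn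
      rw [hI₀4] at h
      have e : T = T₁ * (T₁ * T) := by rw [← mul_assoc, hsq hI₁, one_mul]
      simp only [Set.mem_insert_iff, Set.mem_singleton_iff] at h ⊢
      rcases h with h | h | h | h <;> rw [h] at e
      · exact Or.inl (e.trans (mul_one _))
      · exact Or.inr (Or.inl (by rw [e, ← mul_assoc, hsq hI₁, one_mul]))
      · exact Or.inr (Or.inr (by rw [e, ← mul_assoc, hsq hI₁, one_mul]))
      · exact absurd (by rw [e, ← mul_assoc, ← hZ]; exact hZc) hTn
    · simp only [Set.mem_insert_iff, Set.mem_singleton_iff, Set.mem_setOf_eq]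
      rintro (rfl | rfl | rfl)
      exacts [⟨hI₁, hT1, hn1⟩, ⟨hI₂, hT2, hn2⟩, ⟨hI₃, hT3, hn3⟩]
  refine ⟨hPc, ⟨g₁, g₂, g₃, hclos⟩, ?_, ?_, ?_, ?_⟩
  · -- not two-generated
    rintro ⟨a, c, hac⟩
    let pw : P →* P :=
      { toFun := fun x => x ^ p
        map_one' := one_pow p
        map_mul' := fun x y => (show Commute x y from hPc.is_comm.comm x y).mul_pow p }
    have hker : Nat.card pw.ker ≤ p ^ 2 := by
      have h1 := card_mul_index pw.ker
      rw [index_ker] at h1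
      let f : Fin p × Fin p × pw.range → P := fun s => a ^ (s.1 : ℕ) * c ^ (s.2.1 : ℕ) * s.2.2
      have hf : Function.Surjective f := by
        intro x
        have hex : ∀ y : P, y ∈ closure ({a, c} : Set P) → ∃ i j : ℤ, y = a ^ i * c ^ j := by
          intro y hy
          refine closure_induction (p := fun y _ => ∃ i j : ℤ, y = a ^ i * c ^ j) ?_ ?_ ?_ ?_ hy
          · rintro x (rfl | rfl)
            exacts [⟨1, 0, by rw [zpow_one, zpow_zero, mul_one]⟩,
              ⟨0, 1, by rw [zpow_one, zpow_zero, one_mul]⟩]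
          · exact ⟨0, 0, by rw [zpow_zero, zpow_zero, mul_one]⟩
          · rintro x z _ _ ⟨i, j, rfl⟩ ⟨k, l, rfl⟩
            refine ⟨i + k, j + l, ?_⟩
            rw [zpow_add, zpow_add, mul_assoc, ← mul_assoc (c ^ j), hPc.is_comm.comm (c ^ j) (a ^ k)]
            simp only [mul_assoc]
          · rintro x _ ⟨i, j, rfl⟩
            exact ⟨-i, -j, by rw [mul_inv_rev, hPc.is_comm.comm, zpow_neg, zpow_neg]⟩
        obtain ⟨i, j, rfl⟩ := hex x (hac.ge (mem_top x))
        have hp0 : (p : ℤ) ≠ 0 := by exact_mod_cast hp.out.ne_zero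
        have hdec : ∀ k : ℤ, ((k % (p : ℤ)).toNat : ℤ) + (k / p) * p = k := fun k => by
          rw [Int.toNat_of_nonneg (Int.emod_nonneg k hp0), mul_comm]
          exact Int.emod_add_mul_ediv k p
        have hlt : ∀ k : ℤ, (k % (p : ℤ)).toNat < p := fun k => by
          have := Int.emod_lt_of_pos k (show (0 : ℤ) < p by exact_mod_cast hp.out.pos)
          omega
        refine ⟨(⟨_, hlt i⟩, ⟨_, hlt j⟩, ⟨(a ^ (i / p) * c ^ (j / p)) ^ p, ⟨_, rfl⟩⟩), ?_⟩
        show a ^ ((i % (p : ℤ)).toNat) * c ^ ((j % (p : ℤ)).toNat) * (a ^ (i / p) * c ^ (j / p)) ^ p = _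
        rw [(show Commute (a ^ (i / p)) (c ^ (j / p)) from hPc.is_comm.comm _ _).mul_pow]
        have ea : a ^ i = a ^ (i % (p : ℤ)).toNat * (a ^ (i / p)) ^ p := by
          rw [← zpow_natCast a, ← zpow_natCast (a ^ (i / p)), ← zpow_mul, ← zpow_add, hdec]
        have ec : c ^ j = c ^ (j % (p : ℤ)).toNat * (c ^ (j / p)) ^ p := by
          rw [← zpow_natCast c, ← zpow_natCast (c ^ (j / p)), ← zpow_mul, ← zpow_add, hdec]
        rw [ea, ec, mul_assoc, mul_assoc]
        congr 1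
        rw [← mul_assoc, ← mul_assoc, hPc.is_comm.comm (c ^ (j % (p : ℤ)).toNat) ((a ^ (i / p)) ^ p)]
      have h2 := Nat.card_le_card_of_surjective f hf
      rw [Nat.card_prod, Nat.card_prod, Nat.card_fin, ← h1, ← mul_assoc, ← pow_two] at h2
      exact Nat.le_of_mul_le_mul_right h2 Nat.card_pos
    -- three independent elements of order `p`
    have hel : ∀ g : P, g ≠ 1 → ∃ e ∈ zpowers g, orderOf e = p := fun g hg => by
      obtain ⟨e, he⟩ := exists_prime_orderOf_dvd_card' (G := zpowers g) p (by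
        obtain ⟨k, hk⟩ := IsPGroup.iff_orderOf.1 hP g
        rw [Nat.card_zpowers, hk]
        refine dvd_pow_self p fun h0 => hg (orderOf_eq_one_iff.1 ?_)
        rw [hk, h0, pow_zero])
      exact ⟨e, e.2, by rwa [Subgroup.orderOf_coe]⟩
    obtain ⟨e₁, he₁, ho₁⟩ := hel g₁ hg₁
    obtain ⟨e₂, he₂, ho₂⟩ := hel g₂ hg₂
    obtain ⟨e₃, he₃, ho₃⟩ := hel g₃ hg₃
    obtain ⟨u₁, rfl⟩ := mem_zpowers_iff.1 he₁
    obtain ⟨u₂, rfl⟩ := mem_zpowers_iff.1 he₂
    obtain ⟨u₃, rfl⟩ := mem_zpowers_iff.1 he₃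
    have hpow : ∀ {g : P} {u : ℤ}, orderOf (g ^ u) = p → (g ^ u) ^ p = 1 := fun h =>
      orderOf_dvd_iff_pow_eq_one.1 h.dvd
    let F : Fin p × Fin p × Fin p → pw.ker := fun s =>
      ⟨(g₁ ^ u₁) ^ (s.1 : ℕ) * (g₂ ^ u₂) ^ (s.2.1 : ℕ) * (g₃ ^ u₃) ^ (s.2.2 : ℕ), by
        refine mul_mem (mul_mem ?_ ?_) ?_ <;> refine pow_mem (MonoidHom.mem_ker.2 ?_) _
        exacts [hpow ho₁, hpow ho₂, hpow ho₃]⟩
    have hF : Function.Injective F := by
      rintro ⟨i, j, k⟩ ⟨i', j', k'⟩ h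
      have h0 : (g₁ ^ u₁) ^ (i : ℕ) * (g₂ ^ u₂) ^ (j : ℕ) * (g₃ ^ u₃) ^ (k : ℕ) =
          (g₁ ^ u₁) ^ (i' : ℕ) * (g₂ ^ u₂) ^ (j' : ℕ) * (g₃ ^ u₃) ^ (k' : ℕ) :=
        congrArg Subtype.val h
      have sep : ∀ {e : P}, orderOf e = p → ∀ {n n' : Fin p},
          e ^ (n : ℕ) * e ^ (n : ℕ) = e ^ (n' : ℕ) * e ^ (n' : ℕ) → n = n' := by
        intro e he n n' hh
        rw [← pow_two, ← pow_two] at hh
        have h2 : e ^ (n : ℕ) = e ^ (n' : ℕ) := by
          obtain ⟨m', hm'⟩ := exists_pow_eq_self_of_coprime (x := e) (n := 2)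
            (coprime_two hp2 hP _).symm
          have key : ∀ k : ℕ, e ^ k = ((e ^ k) ^ 2) ^ m' := fun k => by
            conv_lhs => rw [← hm']
            rw [← pow_mul, ← pow_mul, ← pow_mul, ← pow_mul]
            congr 1
            ring
          rw [key n, key n', hh]
        exact Fin.ext (pow_injOn_Iio_orderOf (by rw [Set.mem_Iio, he]; exact n.2)
          (by rw [Set.mem_Iio, he]; exact n'.2) h2)
      have comp : ∀ {U : MulAut P} {x y x' y' : P}, U x = x⁻¹ → U y = y → U x' = x'⁻¹ → U y' = y' →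
          x * y = x' * y' → x * x = x' * x' := by
        intro U x y x' y' hx hy hx' hy' hh
        have h1 := congrArg U hh
        rw [map_mul, map_mul, hx, hy, hx', hy'] at h1
        calc x * x = (x * y) * (x⁻¹ * y)⁻¹ := by group
          _ = (x' * y') * (x'⁻¹ * y')⁻¹ := by rw [hh, h1]
          _ = x' * x' := by group
      have m1 : ∀ {U : MulAut P} {g : P} {u : ℤ} {n : ℕ}, U g = g⁻¹ →
          U ((g ^ u) ^ n) = ((g ^ u) ^ n)⁻¹ := fun h => by
        rw [map_pow, map_zpow, h, inv_zpow, inv_pow]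
      have m0 : ∀ {U : MulAut P} {g : P} {u : ℤ} {n : ℕ}, U g = g →
          U ((g ^ u) ^ n) = (g ^ u) ^ n := fun h => by rw [map_pow, map_zpow, h]
      have cm : ∀ x y z : P, x * y * z = y * (x * z) ∧ x * y * z = z * (x * y) := fun x y z =>
        ⟨by rw [hPc.is_comm.comm x y, mul_assoc], hPc.is_comm.comm _ _⟩
      have hi := sep ho₁ (comp (U := T₁) (x := ((g₁ ^ u₁) ^ (i : ℕ))) (y := ((g₂ ^ u₂) ^ (j : ℕ)) * ((g₃ ^ u₃) ^ (k : ℕ)))
        (x' := ((g₁ ^ u₁) ^ (i' : ℕ))) (y' := ((g₂ ^ u₂) ^ (j' : ℕ)) * ((g₃ ^ u₃) ^ (k' : ℕ))) (m1 g11)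
        (by rw [map_mul, m0 g12, m0 g13]) (m1 g11)
        (by rw [map_mul, m0 g12, m0 g13]) (by rw [← mul_assoc, ← mul_assoc]; exact h0))
      have hj := sep ho₂ (comp (U := T₂) (x := ((g₂ ^ u₂) ^ (j : ℕ))) (y := ((g₁ ^ u₁) ^ (i : ℕ)) * ((g₃ ^ u₃) ^ (k : ℕ)))
        (x' := ((g₂ ^ u₂) ^ (j' : ℕ))) (y' := ((g₁ ^ u₁) ^ (i' : ℕ)) * ((g₃ ^ u₃) ^ (k' : ℕ))) (m1 g22)
        (by rw [map_mul, m0 g21, m0 g23]) (m1 g22)
        (by rw [map_mul, m0 g21, m0 g23]) (by rw [← (cm _ _ _).1, ← (cm _ _ _).1]; exact h0))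
      have hk := sep ho₃ (comp (U := T₃) (x := ((g₃ ^ u₃) ^ (k : ℕ))) (y := ((g₁ ^ u₁) ^ (i : ℕ)) * ((g₂ ^ u₂) ^ (j : ℕ)))
        (x' := ((g₃ ^ u₃) ^ (k' : ℕ))) (y' := ((g₁ ^ u₁) ^ (i' : ℕ)) * ((g₂ ^ u₂) ^ (j' : ℕ))) (m1 g33)
        (by rw [map_mul, m0 g31, m0 g32]) (m1 g33)
        (by rw [map_mul, m0 g31, m0 g32]) (by rw [← (cm _ _ _).2, ← (cm _ _ _).2]; exact h0))
      rw [hi, hj, hk]
    have h3 := Nat.card_le_card_of_injective F hF
    rw [Nat.card_prod, Nat.card_prod, Nat.card_fin] at h3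
    have := hp.out.one_lt
    nlinarith
  · rw [show Nat.card {T : MulAut P // T ∈ I ∧ T ≠ 1 ∧ ¬ CycFix T} =
      ({T : MulAut P | T ∈ I ∧ T ≠ 1 ∧ ¬ CycFix T}).ncard from Nat.card_coe_set_eq _, hJ,
      Set.ncard_eq_three]
    exact ⟨T₁, T₂, T₃, hne12, hne13, hne23, rfl⟩
  · rw [hJ]
    set C := closure ({T₁, T₂, T₃} : Set (MulAut P))
    have hle : C ≤ I := (closure_le _).2 (by
      simp only [Set.insert_subset_iff, Set.singleton_subset_iff, SetLike.mem_coe]
      exact ⟨hI₁, hI₂, hI₃⟩)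
    haveI : Finite C := Finite.of_injective _ (inclusion_injective hle)
    have c1 : T₁ ∈ C := subset_closure (by simp)
    have c2 : T₂ ∈ C := subset_closure (by simp)
    have c3 : T₃ ∈ C := subset_closure (by simp)
    have h0 : I₀ ≤ C := fun x hx => by
      have hx' : x ∈ (I₀ : Set (MulAut P)) := hx
      rw [hI₀4] at hx'
      simp only [Set.mem_insert_iff, Set.mem_singleton_iff] at hx'
      rcases hx' with rfl | rfl | rfl | rfl
      exacts [one_mem _, mul_mem c1 c2, mul_mem c1 c3, mul_mem c2 c3]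
    refine eq_of_le_of_card_ge hle ?_
    have hlt : Nat.card I₀ < Nat.card C := by
      refine lt_of_le_of_ne (Nat.le_of_dvd Nat.card_pos (card_dvd_of_le h0)) fun e => ?_
      exact hn1 (hdisj T₁ ((eq_of_le_of_card_ge h0 e.ge).ge c1) hT1)
    have hd := card_dvd_of_le hle
    rw [hI8] at hd ⊢
    rw [hI₀c] at hlt
    have := Nat.le_of_dvd (by norm_num) hd
    interval_cases hh : Nat.card C <;> omega
  · refine Set.ext fun x => ⟨fun hx => ?_, ?_⟩
    · rw [hI₀4] at hx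
      simp only [Set.mem_insert_iff, Set.mem_singleton_iff] at hx
      rcases hx with rfl | rfl | rfl | rfl
      exacts [⟨T₁, T₁, hI₁, hI₁, hT1, hT1, hn1, hn1, (hsq hI₁).symm⟩,
        ⟨T₁, T₂, hI₁, hI₂, hT1, hT2, hn1, hn2, rfl⟩, ⟨T₁, T₃, hI₁, hI₃, hT1, hT3, hn1, hn3, rfl⟩,
        ⟨T₂, T₃, hI₂, hI₃, hT2, hT3, hn2, hn3, rfl⟩]
    · rintro ⟨T, T', hT, hT', hT1', hT'1, hTn, hT'n, rfl⟩
      exact hprod T hT T' hT' hT1' hT'1 hTn hT'n

end CfsgLib.EightAut
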