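import Cfsg.Agent.Lib.Coprime.Fitting
import Cfsg.Agent.Lib.Coprime.Core
import Cfsg.Agent.Lib.PGroup.Basic

/-!
# Equal order pairs and the Fitting subgroup
-/

set_option autoImplicit false
set_option linter.style.haveILetI false

open Subgroup

namespace CfsgLib.EqualOrderPair

universe u

variable {G : Type u} [Group G] [Finite G] (N : Subgroup G) [N.Normal]

/-- If the Fitting subgroup leaves `N` then it is a `p`-group containing `N`. -/
theorem of_not_fitting_le (hN1 : N ≠ ⊥)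
    (heq : ∀ x : G, x ∉ N → ∀ n ∈ N, orderOf (x * n) = orderOf x)
    (h : ¬ Cfsg.fittingSubgroup G ≤ N) :
    ∃ p : ℕ, p.Prime ∧ IsPGroup p (Cfsg.fittingSubgroup G) ∧ N ≤ Cfsg.fittingSubgroup G := by
  rw [CfsgLib.Coprime.fitting_eq_iSup_pCore, iSup_le_iff, not_forall] at h
  obtain ⟨⟨p, hp⟩, hpN⟩ := h
  have key : ∀ q : ℕ, q.Prime → ¬ Cfsg.pCore q G ≤ N → IsPGroup q N := by
    intro q hq hqN
    obtain ⟨x, hx, hxN⟩ := SetLike.not_le_iff_exists.1 hqN
    haveI := Fact.mk hq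
    haveI := CfsgLib.Coprime.pCore_normal' (G := G) q
    obtain ⟨k, hk⟩ := CfsgLib.PGroup.isPGroup_pCore q G ⟨x, hx⟩
    have hk' : x ^ q ^ k = 1 := congrArg Subtype.val hk
    intro n
    have h1 : (x * (n : G)) ^ q ^ k = 1 := by
      rw [← orderOf_dvd_iff_pow_eq_one, heq x hxN n n.2, orderOf_dvd_iff_pow_eq_one]
      exact hk'
    have h2 : (n : G) ^ q ^ k ∈ Cfsg.pCore q G := by
      rw [← QuotientGroup.eq_one_iff, QuotientGroup.mk_pow]
      have h3 := congrArg (QuotientGroup.mk (s := Cfsg.pCore q G)) h1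
      rwa [QuotientGroup.mk_pow, QuotientGroup.mk_mul, (QuotientGroup.eq_one_iff x).2 hx, one_mul] at h3
    obtain ⟨j, hj⟩ := CfsgLib.PGroup.isPGroup_pCore q G ⟨_, h2⟩
    refine ⟨k + j, Subtype.ext ?_⟩
    rw [Subgroup.coe_pow, pow_add, pow_mul, Subgroup.coe_one]
    exact congrArg Subtype.val hj
  haveI := Fact.mk hp
  have hNp := key p hp hpN
  have hNle : N ≤ Cfsg.pCore p G := CfsgLib.PGroup.le_pCore inferInstance hNp
  have hF : Cfsg.fittingSubgroup G ≤ Cfsg.pCore p G := by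
    rw [CfsgLib.Coprime.fitting_eq_iSup_pCore, iSup_le_iff]
    rintro ⟨q, hq⟩
    by_cases hqp : q = p
    · subst hqp; exact le_rfl
    have hqN : Cfsg.pCore q G ≤ N := by
      by_contra hno
      have hNq := key q hq hno
      haveI := Fact.mk hq
      refine hN1 (eq_bot_iff.2 fun x hx => ?_)
      have hd := IsPGroup.disjoint_of_ne q p hqp N N hNq hNp
      exact hd le_rfl le_rfl hx
    haveI := Fact.mk hq
    intro x hx
    have hd := IsPGroup.disjoint_of_ne q p hqp (Cfsg.pCore q G) N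
      (CfsgLib.PGroup.isPGroup_pCore q G) hNp
    have : x ∈ (⊥ : Subgroup G) := hd (show Cfsg.pCore q G ≤ Cfsg.pCore q G from le_rfl) hqN hx
    rw [mem_bot.1 this]
    exact one_mem _
  exact ⟨p, hp, (CfsgLib.PGroup.isPGroup_pCore p G).to_le hF,
    hNle.trans (CfsgLib.Coprime.pCore_le_fitting p)⟩

end CfsgLib.EqualOrderPair
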