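import Cfsg.Agent.Lib.PGroup.CyclicNormalCore
import Cfsg.Agent.Lib.PGroup.PqWeights
import Cfsg.Agent.Lib.CFun.OddUniqueBase
import Cfsg.Agent.Lib.CFun.OddZgroupCore
import Cfsg.Agent.Lib.PGroup.UpperPSeriesShift
import Cfsg.Agent.Lib.Coprime.Action

/-!
# The `p`-length is bounded by the exponent when the other Sylow subgroups are abelian
-/

set_option autoImplicit false
set_option linter.style.haveILetI false

open Subgroup
open scoped commutatorElement
open CfsgLib.Coprime (conjBy conjBy_conjBy conjBy_eq_self_iff card_conjBy conj_mem_conjBy)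
open CfsgLib.PGroup (dRep dRep_apply IsEigen ImgComm eq_zero_of_forall_eigen charStab mem_charStab twist twist_apply eigProj eigProj_self eigProj_ne)

namespace CfsgLib.PGroup.PLengthExponent

universe u

variable {G : Type u} [Group G] [Finite G] {p : ℕ} [hp : Fact p.Prime]

/-- A complement to `V` in the preimage of `O_{p'}` and elements normalizing it in every coset. -/
theorem frattini_complement (V : Subgroup G) [V.Normal] [IsMulCommutative V] (hVp : IsPGroup p V) :
    ∃ K : Subgroup G, (Nat.card K).Coprime p ∧ K ⊓ V = ⊥ ∧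
      (∀ q ∈ Cfsg.pPrimeCore p (G ⧸ V), ∃ k ∈ K, QuotientGroup.mk' V k = q) ∧
      ∀ a : G, ∃ v ∈ V, v * a ∈ normalizer (K : Set G) := by
  classical
  set Kb := Cfsg.pPrimeCore p (G ⧸ V) with hKb
  set M := Kb.comap (QuotientGroup.mk' V) with hM
  have hVM : V ≤ M := QuotientGroup.le_comap_mk' V Kb
  obtain ⟨e, he⟩ := IsPGroup.iff_card.1 hVp
  have hMcard : Nat.card M = Nat.card V * Nat.card Kb := by
    rw [CfsgLib.Coprime.card_eq_card_mul_card_map_mk' V hVM, hM,
      map_comap_eq_self_of_surjective (QuotientGroup.mk'_surjective V)]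
  have hKbp : (Nat.card Kb).Coprime p := CfsgLib.Coprime.pPrimeCore_coprime hp.out
  obtain ⟨K1, hK1⟩ := Subgroup.exists_right_complement'_of_coprime (N := V.subgroupOf M) (by
    have hc : Nat.card (V.subgroupOf M) = Nat.card V := Nat.card_congr (subgroupOfEquivOfLe hVM).toEquiv
    have hi : (V.subgroupOf M).index = Nat.card Kb := by
      have h1 := (V.subgroupOf M).card_mul_index
      rw [hc, hMcard] at h1
      exact Nat.eq_of_mul_eq_mul_left Nat.card_pos h1
    rw [hc, hi, he]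
    exact hKbp.symm.pow_left e)
  set K := K1.map M.subtype with hKdef
  have hKcard : Nat.card K = Nat.card Kb := by
    rw [hKdef, card_map_of_injective M.subtype_injective]
    have h1 := hK1.card_mul
    rw [Nat.card_congr (subgroupOfEquivOfLe hVM).toEquiv, hMcard] at h1
    exact Nat.eq_of_mul_eq_mul_left Nat.card_pos h1
  have hcopK : (Nat.card K).Coprime (Nat.card V) := by rw [hKcard, he]; exact hKbp.pow_right e
  have hKV : K ⊓ V = ⊥ := inf_eq_bot_of_coprime hcopK
  have hKN : K ≤ normalizer (V : Set G) := by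
    rw [normalizer_eq_top_iff.2 (inferInstance : V.Normal)]; exact le_top
  have hMsup : M ≤ K ⊔ V := by
    intro x hx
    have h1 : (⟨x, hx⟩ : M) ∈ V.subgroupOf M ⊔ K1 := by rw [hK1.sup_eq_top]; exact mem_top _
    obtain ⟨y, hy, z, hz, hyz⟩ := mem_sup_of_normal_left.1 h1
    rw [show x = (y : G) * z from congrArg Subtype.val hyz.symm, sup_comm]
    exact mul_mem_sup hy ⟨z, hz, rfl⟩
  have hKmap : ∀ q ∈ Kb, ∃ k ∈ K, QuotientGroup.mk' V k = q := by
    intro q hq
    obtain ⟨x, rfl⟩ := QuotientGroup.mk'_surjective V q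
    obtain ⟨k, hk, w, hw, rfl⟩ := CfsgLib.Coprime.mem_sup_exists hKN
      (show x ∈ V ⊔ K by rw [sup_comm]; exact hMsup hq)
    first
    | exact ⟨w, hw, by rw [map_mul, show QuotientGroup.mk' V k = 1 from (QuotientGroup.eq_one_iff k).2 hk, one_mul]⟩
    | exact ⟨k, hk, by rw [map_mul, show QuotientGroup.mk' V w = 1 from (QuotientGroup.eq_one_iff w).2 hw, mul_one]⟩
  refine ⟨K, hKcard ▸ hKbp, hKV, hKmap, fun a => ?_⟩
  have hconj : CfsgLib.Coprime.conjBy a K ≤ K ⊔ V := by
    refine le_trans ?_ hMsup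
    rintro _ ⟨k, hk, rfl⟩
    obtain ⟨m, -, rfl⟩ := hk
    haveI : M.Normal := (inferInstance : Kb.Normal).comap _
    exact (inferInstance : M.Normal).conj_mem _ m.2 a
  obtain ⟨x, hxV, hx⟩ := CfsgLib.Coprime.sz_conj_in hKN hcopK.symm hconj (card_conjBy a K)
    (Or.inr (CfsgLib.Coprime.isSolvable_of_isMulCommutative inferInstance))
  rw [conjBy_conjBy, conjBy_eq_self_iff] at hx
  exact ⟨x, hxV, hx⟩

theorem mul_pow_eq_prod {H : Type u} [Group H] {V : Type u} [CommGroup V] (ι : V →* H)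
    (c : H →* MulAut V) (hc : ∀ (h : H) (v : V), ι (c h v) = h * ι v * h⁻¹) (v : V) (x : H) :
    ∀ m : ℕ, (ι v * x) ^ m = ι (∏ i ∈ Finset.range m, c (x ^ i) v) * x ^ m
  | 0 => by simp
  | m + 1 => by
    rw [pow_succ, mul_pow_eq_prod ι c hc v x m, Finset.prod_range_succ, map_mul, hc]
    group

/-- If the norm of the `p`-power operator `a` vanishes, the socle of `⟨a⟩` fixes every abelian
group of operators of coprime order normalized by `a`. -/
theorem orbit_fixed {H : Type u} [Group H] [Finite H] {V : Type u} [CommGroup V] [Finite V] {l : ℕ}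
    [hl : Fact l.Prime] (c : H →* MulAut V) (hV : ∀ v : V, v ^ l = 1) {n : ℕ} {a : H}
    (ha : a ^ l ^ (n + 1) = 1) {Y : Subgroup H} (haY : a ∈ normalizer (Y : Set H))
    (hYc : ∀ y ∈ Y, ∀ z ∈ Y, y * z = z * y) (hYl : ¬ l ∣ Nat.card Y)
    (hN : ∀ v : V, ∏ i ∈ Finset.range (l ^ (n + 1)), c (a⁻¹ ^ i) v = 1) :
    ∀ y ∈ Y, c (a ^ l ^ n * y * (a ^ l ^ n)⁻¹) = c y := by
  classical
  intro y₀ hy₀
  let k := AlgebraicClosure (ZMod l)
  haveI : CharP k l := charP_of_injective_algebraMap (algebraMap (ZMod l) k).injective l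
  obtain ⟨hfd, -⟩ := CfsgLib.PGroup.finrank_addHom (V := V) hV k
  let ρ := dRep k c
  haveI : Fintype Y := Fintype.ofFinite Y
  have hYk : (Fintype.card Y : k) ≠ 0 := by
    rw [← Nat.card_eq_fintype_card]
    exact fun e => hYl ((CharP.cast_eq_zero_iff k l _).1 e)
  have hYi : ImgComm ρ Y := fun y hy z hz => congrArg ρ (hYc y hy z hz)
  set t := a ^ l ^ n with ht
  have htY : t * y₀ * t⁻¹ ∈ Y := (mem_normalizer_iff.1 (pow_mem haY _) y₀).1 hy₀
  suffices e : ρ (t * y₀ * t⁻¹) = ρ y₀ by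
    have e' : c (t * y₀ * t⁻¹)⁻¹ = c y₀⁻¹ :=
      MulEquiv.ext fun v => CfsgLib.CFun.ZLen.eq_of_dRep_eq hV e v
    rwa [map_inv, map_inv, inv_inj] at e'
  refine sub_eq_zero.1 (eq_zero_of_forall_eigen ρ hYi hYk _ (fun y hy w => ?_) fun χ f hf => ?_)
  · rw [LinearMap.sub_apply, LinearMap.sub_apply, map_sub, ← PGroup.rep_mul_apply,
      ← PGroup.rep_mul_apply, ← PGroup.rep_mul_apply, ← PGroup.rep_mul_apply,
      hYc y hy _ htY, hYc y hy y₀ hy₀]
  by_cases hf0 : f = 0
  · rw [hf0, map_zero]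
  by_cases hst : t ∈ charStab Y χ
  · rw [LinearMap.sub_apply, hf ⟨_, htY⟩, hf ⟨_, hy₀⟩, ← sub_smul]
    obtain ⟨htN, hst'⟩ := hst
    have e1 := DFunLike.congr_fun hst' ⟨t * y₀ * t⁻¹, htY⟩
    rw [twist_apply] at e1
    rw [← e1]
    simp [mul_assoc]
  exfalso
  have hne : ∀ i, i < l ^ (n + 1) → i ≠ 0 → a ^ i ∉ charStab Y χ := by
    intro i hi hi0 hmem
    obtain ⟨k', u, hu, rfl⟩ : ∃ k' u, ¬ l ∣ u ∧ i = l ^ k' * u :=
      ⟨_, _, Nat.not_dvd_ordCompl hl.out hi0, (Nat.ordProj_mul_ordCompl_eq_self i l).symm⟩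
    have hk : k' ≤ n := by
      by_contra h
      have h1 : l ^ (n + 1) ≤ l ^ k' * u := (Nat.pow_le_pow_right hl.out.pos (by omega)).trans
        (Nat.le_mul_of_pos_right _ (Nat.pos_of_ne_zero fun e => hu (e ▸ dvd_zero l)))
      omega
    refine hst ?_
    have hco : u.Coprime (orderOf (a ^ l ^ k')) := by
      refine ((hl.out.coprime_iff_not_dvd.2 hu).symm.pow_right (n + 1)).coprime_dvd_right ?_
      exact orderOf_dvd_of_pow_eq_one (by rw [← pow_mul, mul_comm, pow_mul, ha, one_pow])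
    obtain ⟨d, hd⟩ := exists_pow_eq_self_of_coprime hco
    rw [ht, ← Nat.add_sub_cancel' hk, pow_add, pow_mul, ← hd, ← pow_mul a]
    exact pow_mem (pow_mem hmem d) _
  have haYi : ∀ i : ℕ, a ^ i ∈ normalizer (Y : Set H) := fun i => pow_mem haY i
  have hsum : ∑ i ∈ Finset.range (l ^ (n + 1)), ρ (a ^ i) f = 0 := by
    refine AddMonoidHom.ext fun v => ?_
    rw [AddMonoidHom.finsetSum_apply, AddMonoidHom.zero_apply]
    calc ∑ i ∈ Finset.range (l ^ (n + 1)), (ρ (a ^ i) f) v
        = ∑ i ∈ Finset.range (l ^ (n + 1)), f (Additive.ofMul (c (a⁻¹ ^ i) v.toMul)) :=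
          Finset.sum_congr rfl fun i _ => by rw [inv_pow]; exact dRep_apply c (a ^ i) f v.toMul
      _ = f (Additive.ofMul (∏ i ∈ Finset.range (l ^ (n + 1)), c (a⁻¹ ^ i) v.toMul)) := by
          rw [ofMul_prod, map_sum]
      _ = 0 := by rw [hN, ofMul_one, map_zero]
  have h1 := congrArg (eigProj ρ χ) hsum
  rw [map_sum, map_zero, Finset.sum_eq_single 0 (fun i hi hi0 => ?_)
    (fun h => absurd (Finset.mem_range.2 (pow_pos hl.out.pos _)) h), pow_zero, map_one,
    Module.End.one_apply, eigProj_self ρ hf, smul_eq_zero] at h1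
  · exact hf0 (h1.resolve_left hYk)
  · refine eigProj_ne ρ (CfsgLib.PGroup.IsEigen.map ρ hf (haYi i)) fun e => ?_
    exact hne i (Finset.mem_range.1 hi) hi0 ⟨haYi i, e.symm⟩

/-- The central case. -/
theorem core (V : Subgroup G) [V.Normal] (hV : Cfsg.IsElementaryAbelian p V)
    (hCV : centralizer (V : Set G) ≤ V)
    (hK : centralizer (Cfsg.pPrimeCore p (G ⧸ V) : Set (G ⧸ V)) ≤ Cfsg.pPrimeCore p (G ⧸ V))
    (hab : ∀ q : ℕ, q.Prime → q ≠ p → ∀ Q : Subgroup G, IsPGroup q Q → IsMulCommutative Q)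
    {n : ℕ} (hexp : ∀ x : G, IsPGroup p (zpowers x) → x ^ p ^ (n + 1) = 1)
    {x : G} (hx : IsPGroup p (zpowers x)) : x ^ p ^ n ∈ V := by
  classical
  haveI : IsMulCommutative V := hV.1
  letI : CommGroup V :=
    { (inferInstance : Group V) with mul_comm := fun a b => isMulCommutative_iff.1 hV.1 a b }
  have hVp : IsPGroup p V := fun y => ⟨1, Subtype.ext (by simpa using hV.2 y y.2)⟩
  obtain ⟨K, hKp, hKV, hKmap, hfr⟩ := frattini_complement V hVp
  obtain ⟨v₀, hv₀, hv₀n⟩ := hfr x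
  set x' := v₀ * x with hx'
  have hpel : ∀ z ∈ zpowers x ⊔ V, IsPGroup p (zpowers z) := fun z hz =>
    (hx.to_sup_of_normal_right hVp).to_le (zpowers_le.2 hz)
  have hx'p : IsPGroup p (zpowers x') := hpel _ (mul_mem (mem_sup_right hv₀) (mem_sup_left (mem_zpowers x)))
  set π := QuotientGroup.mk' V with hπ
  suffices hmain : x' ^ p ^ n ∈ V by
    rw [← QuotientGroup.eq_one_iff] at hmain ⊢
    change π (x' ^ p ^ n) = 1 at hmain
    show π (x ^ p ^ n) = 1
    rwa [map_pow, hx', map_mul, show π v₀ = 1 from (QuotientGroup.eq_one_iff v₀).2 hv₀, one_mul, ← map_pow] at hmain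
  let c : G →* MulAut V := MulAut.conjNormal
  set a := x'⁻¹ with ha
  have hap : a ^ p ^ (n + 1) = 1 := by rw [ha, inv_pow, hexp x' hx'p, inv_one]
  have hpel' : ∀ z ∈ zpowers x' ⊔ V, IsPGroup p (zpowers z) := fun z hz =>
    (hx'p.to_sup_of_normal_right hVp).to_le (zpowers_le.2 hz)
  have hN : ∀ v : V, ∏ i ∈ Finset.range (p ^ (n + 1)), c (a⁻¹ ^ i) v = 1 := by
    intro v
    have h1 := mul_pow_eq_prod V.subtype c (fun h w => MulAut.conjNormal_apply h w) v x' (p ^ (n + 1))
    simp only [Subgroup.coe_subtype] at h1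
    rw [hexp _ (hpel' _ (mul_mem (mem_sup_right v.2) (mem_sup_left (mem_zpowers x')))),
      hexp x' hx'p, mul_one] at h1
    rw [ha, inv_inv]
    exact Subtype.ext h1.symm
  set A := zpowers a with hA
  have haN : a ∈ normalizer (K : Set G) := inv_mem hv₀n
  have hAc : (Nat.card A).Coprime (Nat.card K) := by
    rw [hA, Nat.card_zpowers]
    exact Nat.Coprime.coprime_dvd_left (orderOf_dvd_of_pow_eq_one hap) (hKp.symm.pow_left _)
  have hKt : K ≤ centralizer ({a ^ p ^ n} : Set G) := by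
    refine CfsgLib.CFun.le_of_invariant_sylows (zpowers_le.2 haN) hAc
      (Or.inl (CfsgLib.Coprime.isSolvable_of_isMulCommutative inferInstance)) fun q hq hqd Q hQK hQ hAQ => ?_
    have hqp : q ≠ p := by
      rintro rfl
      exact hq.ne_one (Nat.eq_one_of_dvd_coprimes hKp hqd dvd_rfl)
    have hQc := hab q hq hqp Q hQ
    have hfix := orbit_fixed c (fun v => Subtype.ext (by simpa using hV.2 v v.2)) hap
      (hAQ (mem_zpowers a)) (fun y hy z hz => congrArg Subtype.val (isMulCommutative_iff.1 hQc ⟨y, hy⟩ ⟨z, hz⟩))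
      (fun h => hp.out.ne_one (Nat.eq_one_of_dvd_coprimes hKp (h.trans (card_dvd_of_le hQK)) dvd_rfl)) hN
    intro y hy
    set t := a ^ p ^ n with ht
    have htN : t ∈ normalizer (K : Set G) := pow_mem haN _
    have hz : y⁻¹ * (t * y * t⁻¹) ∈ K ⊓ V := by
      refine Subgroup.mem_inf.2 ⟨mul_mem (inv_mem (hQK hy)) ((mem_normalizer_iff.1 htN y).1 (hQK hy)), hCV ?_⟩
      refine mem_centralizer_iff.2 fun w hw => ?_
      have e1 : c (y⁻¹ * (t * y * t⁻¹)) = 1 := by rw [map_mul, hfix y hy, ← map_mul, inv_mul_cancel, map_one]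
      have e2 := congrArg (fun e : MulAut V => ((e ⟨w, hw⟩ : V) : G)) e1
      simp only [MulAut.one_apply, c, MulAut.conjNormal_apply] at e2
      exact (mul_inv_eq_iff_eq_mul.1 e2).symm
    rw [hKV, mem_bot, inv_mul_eq_one] at hz
    refine mem_centralizer_singleton_iff.2 ?_
    exact (mul_inv_eq_iff_eq_mul.1 hz.symm).symm
  have hq : π (x' ^ p ^ n) ∈ Cfsg.pPrimeCore p (G ⧸ V) := by
    refine hK (mem_centralizer_iff.2 fun q hq => ?_)
    obtain ⟨k, hk, rfl⟩ := hKmap q hq
    have hkc : Commute k (a ^ p ^ n) := mem_centralizer_singleton_iff.1 (hKt hk)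
    rw [← map_mul, ← map_mul]
    refine congrArg _ ?_
    have := hkc.inv_right
    rwa [ha, inv_pow, inv_inv] at this
  refine (QuotientGroup.eq_one_iff _).1 (orderOf_eq_one_iff.1 (Nat.eq_one_of_dvd_coprimes
    (CfsgLib.Coprime.pPrimeCore_coprime (G := G ⧸ V) hp.out) ?_ ?_ : orderOf (π (x' ^ p ^ n)) = 1))
  · rw [← Subgroup.orderOf_mk _ hq]; exact orderOf_dvd_natCard _
  · refine orderOf_dvd_of_pow_eq_one ?_
    rw [← map_pow, ← pow_mul, ← pow_succ, hexp x' hx'p, map_one]

theorem exists_pPart_lift {H : Type u} [Group H] [Finite H] (f : G →* H) (hf : Function.Surjective f) {y : H}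
    (hy : IsPGroup p (zpowers y)) : ∃ x : G, IsPGroup p (zpowers x) ∧ f x = y := by
  obtain ⟨x, rfl⟩ := hf y
  set d := orderOf x / p ^ (orderOf x).factorization p with hd
  obtain ⟨k, hk⟩ := IsPGroup.iff_card.1 hy
  rw [Nat.card_zpowers] at hk
  have hco : d.Coprime (orderOf (f x)) := by
    rw [hk]
    exact ((hp.out.coprime_iff_not_dvd.2 (Nat.not_dvd_ordCompl hp.out (orderOf_pos x).ne')).symm.pow_right k)
  obtain ⟨s, hs⟩ := exists_pow_eq_self_of_coprime hco
  refine ⟨(x ^ d) ^ s, ?_, by rw [map_pow, map_pow, hs]⟩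
  refine IsPGroup.to_le ?_ (zpowers_le.2 (pow_mem (mem_zpowers _) s))
  refine IsPGroup.of_card (n := (orderOf x).factorization p) ?_
  rw [Nat.card_zpowers, orderOf_pow, hd, Nat.gcd_eq_right (Nat.ordCompl_dvd _ p)]
  exact Nat.div_div_self (Nat.ordProj_dvd _ p) (orderOf_pos x).ne'

theorem abelian_sylows_quotient (N : Subgroup G) [N.Normal]
    (hab : ∀ q : ℕ, q.Prime → q ≠ p → ∀ Q : Subgroup G, IsPGroup q Q → IsMulCommutative Q) :
    ∀ q : ℕ, q.Prime → q ≠ p → ∀ Q : Subgroup (G ⧸ N), IsPGroup q Q → IsMulCommutative Q := by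
  intro q hq hqp Q hQ
  haveI := Fact.mk hq
  obtain ⟨T, hT⟩ := hQ.exists_le_sylow
  obtain ⟨S, hS⟩ := Sylow.mapSurjective_surjective (QuotientGroup.mk'_surjective N) q T
  have hSc := hab q hq hqp S S.2
  refine isMulCommutative_iff.2 fun a b => Subtype.ext ?_
  have ha := hT a.2
  have hb := hT b.2
  rw [← hS, Sylow.coe_mapSurjective] at ha hb
  obtain ⟨x, hx, hxa⟩ := ha
  obtain ⟨y, hy, hyb⟩ := hb
  show (a : G ⧸ N) * b = b * a
  rw [← hxa, ← hyb, ← map_mul, ← map_mul]
  exact congrArg _ (congrArg Subtype.val (isMulCommutative_iff.1 hSc ⟨x, hx⟩ ⟨y, hy⟩))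

/-- With trivial `p'`-core the `p ^ n`-th powers of `p`-elements lie in `O_p`. -/
theorem pow_mem_pCore (hG : Cfsg.IsPSolvable p G) (hcore : Cfsg.pPrimeCore p G = ⊥)
    (hab : ∀ q : ℕ, q.Prime → q ≠ p → ∀ Q : Subgroup G, IsPGroup q Q → IsMulCommutative Q)
    {n : ℕ} (hexp : ∀ x : G, IsPGroup p (zpowers x) → x ^ p ^ (n + 1) = 1)
    {x : G} (hx : IsPGroup p (zpowers x)) : x ^ p ^ n ∈ Cfsg.pCore p G := by
  classical
  have hp : p.Prime := hp.out
  set F := Cfsg.pCore p G with hF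
  haveI hFn : F.Normal := CfsgLib.Coprime.pCore_normal' p
  have hFp : IsPGroup p F := CfsgLib.Coprime.pCore_isPGroup p
  have hCF : centralizer (F : Set G) ≤ F := CfsgLib.Block.centralizer_pCore_le_of_isPSolvable hG hcore
  set Φ := (frattini F).map F.subtype with hΦdef
  haveI hΦn : Φ.Normal := CfsgLib.Coprime.map_subtype_normal_of_characteristic F (frattini F)
  have hΦF : Φ ≤ F := map_subtype_le _
  set π := QuotientGroup.mk' Φ with hπ
  have hπ0 : ∀ x, π x = 1 ↔ x ∈ Φ := fun x => QuotientGroup.eq_one_iff x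
  set V := F.map π with hVdef
  haveI hVn : V.Normal := hFn.map _ (QuotientGroup.mk'_surjective Φ)
  have hVel : Cfsg.IsElementaryAbelian p V := by
    refine ⟨isMulCommutative_iff.2 ?_, ?_⟩
    · rintro ⟨_, x, hx, rfl⟩ ⟨_, y, hy, rfl⟩
      refine Subtype.ext ?_
      show π x * π y = π y * π x
      rw [← commutatorElement_eq_one_iff_mul_comm, ← map_commutatorElement, hπ0]
      exact ⟨⁅(⟨x, hx⟩ : F), ⟨y, hy⟩⁆,
        CfsgLib.Coprime.commutator_le_frattini hFp (commutator_mem_commutator (mem_top _) (mem_top _)), rfl⟩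
    · rintro _ ⟨x, hx, rfl⟩
      rw [← map_pow, hπ0]
      exact ⟨(⟨x, hx⟩ : F) ^ p, CfsgLib.Coprime.pow_mem_frattini hFp _, rfl⟩
  have hCV : centralizer (V : Set (G ⧸ Φ)) ≤ V := by
    set C2 := (centralizer (V : Set (G ⧸ Φ))).comap π with hC2
    haveI : (centralizer (V : Set (G ⧸ Φ))).Normal := normal_centralizer
    haveI : C2.Normal := (inferInstance : (centralizer (V : Set (G ⧸ Φ))).Normal).comap π
    have hC2p : IsPGroup p C2 := by
      refine IsPGroup.iff_card.2 ⟨_, Nat.eq_prime_pow_of_unique_prime_dvd Nat.card_pos.ne' fun {q} hq hqd => ?_⟩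
      by_contra hqp
      haveI := Fact.mk hq
      obtain ⟨x, hx⟩ := exists_prime_orderOf_dvd_card' (G := C2) q hqd
      rw [← Subgroup.orderOf_coe] at hx
      have hxn : zpowers (x : G) ≤ normalizer (F : Set G) := by
        rw [normalizer_eq_top_iff.2 hFn]; exact le_top
      have hle : zpowers (x : G) ≤ centralizer (F : Set G) := by
        refine CfsgLib.Coprime.le_centralizer_of_trivial_on_frattini_quotient hxn ?_ ?_
        · obtain ⟨k, hk⟩ := IsPGroup.iff_card.1 (hFp.to_subgroup (frattini F))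
          rw [Nat.card_zpowers, hx, hk]
          exact ((Nat.coprime_primes hq hp).2 hqp).pow_right k
        · intro b hb f hf
          show b * f * b⁻¹ * f⁻¹ ∈ Φ
          rw [← commutatorElement_def, ← hπ0, map_commutatorElement, commutatorElement_eq_one_iff_mul_comm]
          have hbC : b ∈ C2 := zpowers_le.2 x.2 hb
          exact (mem_centralizer_iff.1 hbC (π f) (mem_map_of_mem _ hf)).symm
      obtain ⟨k, hk⟩ := IsPGroup.iff_card.1 hFp
      have hxF : (x : G) ∈ F := hCF (hle (mem_zpowers _))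
      have hd := orderOf_dvd_natCard (⟨x, hxF⟩ : F)
      rw [Subgroup.orderOf_mk, hx, hk] at hd
      exact hqp ((Nat.prime_dvd_prime_iff_eq hq hp).1 (hq.dvd_of_dvd_pow hd))
    intro c hc
    obtain ⟨x, rfl⟩ := QuotientGroup.mk'_surjective Φ c
    exact mem_map_of_mem _ (CfsgLib.Coprime.le_pCore hC2p hc)
  have hO : Cfsg.pCore p ((G ⧸ Φ) ⧸ V) = ⊥ := by
    set f := (QuotientGroup.mk' V).comp π with hf
    have hfs : Function.Surjective f := (QuotientGroup.mk'_surjective V).comp (QuotientGroup.mk'_surjective Φ)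
    have hker : f.ker = F := by
      rw [hf, ← MonoidHom.comap_ker, QuotientGroup.ker_mk', hVdef, comap_map_eq, QuotientGroup.ker_mk',
        sup_eq_left.2 hΦF]
    set O := Cfsg.pCore p ((G ⧸ Φ) ⧸ V)
    haveI : O.Normal := CfsgLib.Coprime.pCore_normal' p
    haveI : (O.comap f).Normal := (inferInstance : O.Normal).comap f
    have hle : O.comap f ≤ F := CfsgLib.Coprime.le_pCore
      ((CfsgLib.Coprime.pCore_isPGroup (G := (G ⧸ Φ) ⧸ V) p).comap_of_ker_isPGroup f (hker.symm ▸ hFp))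
    rw [eq_bot_iff, ← map_comap_eq_self_of_surjective hfs O]
    refine (map_mono hle).trans ?_
    rw [← hker, map_le_iff_le_comap, MonoidHom.comap_bot]
  have hK := CfsgLib.FFPair.centralizer_pPrimeCore_le_of_isPSolvable
    (CfsgLib.PGroup.isPSolvable_quotient hp (CfsgLib.PGroup.isPSolvable_quotient hp hG Φ) V) hO
  have h1 := core V hVel hCV hK (abelian_sylows_quotient Φ hab) (n := n) ?_
    (x := π x) (by rw [← MonoidHom.map_zpowers]; exact hx.map π)
  · rw [← map_pow] at h1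
    obtain ⟨f, hf, hfa⟩ := h1
    have h2 : f⁻¹ * x ^ p ^ n ∈ Φ := by rw [← hπ0, map_mul, map_inv, hfa, inv_mul_cancel]
    simpa using mul_mem hf (hΦF h2)
  · intro y hy
    haveI := Fact.mk hp
    obtain ⟨z, hz, rfl⟩ := exists_pPart_lift π (QuotientGroup.mk'_surjective Φ) hy
    rw [← map_pow, hexp z hz, map_one]

theorem pLengthLE_of_exponent : ∀ (n : ℕ) (G : Type u) [Group G] [Finite G], Cfsg.IsPSolvable p G →
    (∀ q : ℕ, q.Prime → q ≠ p → ∀ Q : Subgroup G, IsPGroup q Q → IsMulCommutative Q) →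
    (∀ x : G, IsPGroup p (zpowers x) → x ^ p ^ n = 1) → Cfsg.PLengthLE p n G := by
  intro n
  induction n with
  | zero =>
    intro G _ _ _ _ hexp
    show (Cfsg.upperPSeries p G (2 * 0 + 1)).1 = ⊤
    rw [show 2 * 0 + 1 = 1 from rfl, CfsgLib.PGroup.pPrimeCore_eq_term_one]
    refine top_le_iff.1 (CfsgLib.Coprime.le_pPrimeCore_of_not_dvd hp.out ?_)
    rw [card_top]
    intro hd
    obtain ⟨x, hx⟩ := exists_prime_orderOf_dvd_card' p hd
    have h1 := hexp x (IsPGroup.of_card (n := 1) (by rw [Nat.card_zpowers, hx, pow_one]))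
    rw [pow_zero, pow_one] at h1
    exact hp.out.ne_one (by rw [← hx, h1, orderOf_one])
  | succ n ih =>
    intro G _ _ hsol hab hexp
    set U₁ := (Cfsg.upperPSeries p G 1).1 with hU₁
    set U₂ := (Cfsg.upperPSeries p G 2).1 with hU₂
    haveI : U₁.Normal := (Cfsg.upperPSeries p G 1).2
    haveI : U₂.Normal := (Cfsg.upperPSeries p G 2).2
    have hU₂eq : U₂ = stepP p U₁ := CfsgLib.PGroup.upperPSeries_succ_odd (n := 1) (by simp)
    have hbot : Cfsg.pPrimeCore p (G ⧸ U₁) = ⊥ :=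
      CfsgLib.PGroup.pPrimeCore_stepPrime_eq_bot _ U₁ (CfsgLib.PGroup.upperPSeries_succ_even Even.zero)
    have hpow : ∀ x : G, IsPGroup p (zpowers x) → x ^ p ^ n ∈ U₂ := by
      intro x hx
      rw [hU₂eq, mem_comap, map_pow]
      refine pow_mem_pCore (CfsgLib.PGroup.isPSolvable_quotient hp.out hsol U₁) hbot
        (abelian_sylows_quotient U₁ hab) ?_ (by rw [← MonoidHom.map_zpowers]; exact hx.map _)
      intro y hy
      obtain ⟨z, hz, rfl⟩ := exists_pPart_lift (QuotientGroup.mk' U₁) (QuotientGroup.mk'_surjective U₁) hy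
      rw [← map_pow, hexp z hz, map_one]
    have h := ih (G ⧸ U₂) (CfsgLib.PGroup.isPSolvable_quotient hp.out hsol U₂)
      (abelian_sylows_quotient U₂ hab) (fun y hy => by
        obtain ⟨z, hz, rfl⟩ := exists_pPart_lift (QuotientGroup.mk' U₂) (QuotientGroup.mk'_surjective U₂) hy
        rw [← map_pow]
        exact (QuotientGroup.eq_one_iff _).2 (hpow z hz))
    have hshift := CfsgLib.PGroup.upperPSeries_shift (p := p) U₂ even_two rfl (2 * n + 1)
    rw [h, comap_top] at hshift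
    show (Cfsg.upperPSeries p G (2 * (n + 1) + 1)).1 = ⊤
    rw [show 2 * (n + 1) + 1 = 2 * n + 1 + 2 by omega]
    exact hshift.symm

end CfsgLib.PGroup.PLengthExponent
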