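import Cfsg.Prelude.Def_Transfer
import Mathlib.GroupTheory.PGroup
import Mathlib.GroupTheory.Commutator.Basic
import Mathlib.GroupTheory.Index
import Mathlib.GroupTheory.Sylow

/-!
# The order of an extraspecial group
-/

set_option autoImplicit false
set_option linter.style.haveILetI false

open Subgroup
open scoped commutatorElement

namespace CfsgLib.PGroup

universe u

/-- A finite group of class two with centre of prime order has order an odd power of the prime. -/
theorem card_eq_odd_pow_of_center (p : ℕ) [hpf : Fact p.Prime] : ∀ (N : ℕ) (G : Type u) [Group G]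
    [Finite G], Nat.card G = N → Nat.card (center G) = p → commutator G ≤ center G →
    ∃ n, N = p ^ (2 * n + 1) := by
  intro N
  induction N using Nat.strongRecOn with
  | ind N ih =>
    intro G _ _ hN hZ hcl
    subst hN
    by_cases hab : center G = ⊤
    · exact ⟨0, by rw [← card_top (G := G), ← hab, hZ]; simp⟩
    obtain ⟨x, hx⟩ : ∃ x, x ∉ center G := by
      by_contra h
      push Not at h
      exact hab (eq_top_iff.2 fun g _ => h g)
    obtain ⟨y, hy⟩ : ∃ y, ⁅y, x⁆ ≠ 1 := by
      by_contra h
      push Not at h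
      exact hx (mem_center_iff.2 fun g => commutatorElement_eq_one_iff_mul_comm.1 (h g))
    have hmem : ∀ g h : G, ⁅g, h⁆ ∈ center G := fun g h =>
      hcl (commutator_mem_commutator (mem_top g) (mem_top h))
    let f : G → G →* center G := fun t => MonoidHom.mk' (fun g => ⟨⁅g, t⁆, hmem g t⟩) fun g h =>
      Subtype.ext (by
        show ⁅g * h, t⁆ = ⁅g, t⁆ * ⁅h, t⁆
        have e : ⁅g * h, t⁆ = g * ⁅h, t⁆ * g⁻¹ * ⁅g, t⁆ := by
          simp only [commutatorElement_def]; group
        rw [e, mem_center_iff.1 (hmem h t) g, mul_inv_cancel_right, mem_center_iff.1 (hmem g t) ⁅h, t⁆])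
    set F : G →* center G × center G := (f x).prod (f y) with hF
    have hFs : Function.Surjective F := by
      intro q
      have hgen : ∀ z w : center G, z ≠ 1 → ∃ i : ℤ, z ^ i = w := fun z w hz =>
        mem_zpowers_iff.1 (mem_zpowers_of_prime_card hZ hz)
      obtain ⟨i, hi⟩ := hgen (f x y) q.1 fun h => hy (congrArg Subtype.val h)
      obtain ⟨j, hj⟩ := hgen (f y x) q.2 fun h => hy (by
        have h' : ⁅x, y⁆ = 1 := congrArg Subtype.val h
        rw [← commutatorElement_inv, h', inv_one])
      refine ⟨y ^ i * x ^ j, Prod.ext ?_ ?_⟩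
      · show f x (y ^ i * x ^ j) = q.1
        rw [map_mul, map_zpow, map_zpow, hi, show f x x = 1 from Subtype.ext (commutatorElement_self x),
          one_zpow, mul_one]
      · show f y (y ^ i * x ^ j) = q.2
        rw [map_mul, map_zpow, map_zpow, hj, show f y y = 1 from Subtype.ext (commutatorElement_self y),
          one_zpow, one_mul]
    set C := F.ker with hC
    have hCi : C.index = p * p := by
      rw [hC, index_ker, MonoidHom.range_eq_top.2 hFs, card_top, Nat.card_prod, hZ]
    have hCmem : ∀ c ∈ C, c * x = x * c ∧ c * y = y * c := fun c hc =>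
      ⟨commutatorElement_eq_one_iff_mul_comm.1 (congrArg (fun q => ((q.1 : center G) : G)) hc),
        commutatorElement_eq_one_iff_mul_comm.1 (congrArg (fun q => ((q.2 : center G) : G)) hc)⟩
    have hZC : center G ≤ C := fun z hz => Prod.ext
      (Subtype.ext (commutatorElement_eq_one_iff_mul_comm.2 ((mem_center_iff.1 hz x).symm)))
      (Subtype.ext (commutatorElement_eq_one_iff_mul_comm.2 ((mem_center_iff.1 hz y).symm)))
    have hgenG : ∀ g, ∃ c ∈ C, ∃ i j : ℤ, g = c * (y ^ i * x ^ j) := fun g => by
      obtain ⟨i, hi⟩ := mem_zpowers_iff.1 (mem_zpowers_of_prime_card hZ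
        (fun h => hy (congrArg Subtype.val h) : f x y ≠ 1) (g' := f x g))
      obtain ⟨j, hj⟩ := mem_zpowers_iff.1 (mem_zpowers_of_prime_card hZ
        (fun h => hy (by
          have h' : ⁅x, y⁆ = 1 := congrArg Subtype.val h
          rw [← commutatorElement_inv, h', inv_one]) : f y x ≠ 1) (g' := f y g))
      refine ⟨g * (y ^ i * x ^ j)⁻¹, ?_, i, j, by rw [inv_mul_cancel_right]⟩
      rw [hC, MonoidHom.mem_ker, map_mul, map_inv, mul_inv_eq_one]
      refine Prod.ext ?_ ?_
      · show f x g = f x (y ^ i * x ^ j)
        rw [map_mul, map_zpow, map_zpow, hi, show f x x = 1 from Subtype.ext (commutatorElement_self x),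
          one_zpow, mul_one]
      · show f y g = f y (y ^ i * x ^ j)
        rw [map_mul, map_zpow, map_zpow, hj, show f y y = 1 from Subtype.ext (commutatorElement_self y),
          one_zpow, one_mul]
    have hZeq : center C = (center G).subgroupOf C := by
      refine le_antisymm (fun z hz => mem_center_iff.2 fun g => ?_) fun z hz =>
        mem_center_iff.2 fun c => Subtype.ext (mem_center_iff.1 hz c)
      obtain ⟨c, hc, i, j, rfl⟩ := hgenG g
      obtain ⟨h1, h2⟩ := hCmem z z.2
      have h3 : Commute (z : G) c := (congrArg Subtype.val (mem_center_iff.1 hz ⟨c, hc⟩)).symm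
      exact (h3.mul_right ((Commute.zpow_right h2 i).mul_right (Commute.zpow_right h1 j))).eq.symm
    have hcard := C.card_mul_index
    rw [hCi] at hcard
    have hlt : Nat.card C < Nat.card G := by
      rw [← hcard]
      exact lt_mul_of_one_lt_right Nat.card_pos
        (one_lt_mul hpf.out.one_le hpf.out.one_lt)
    obtain ⟨n, hn⟩ := ih _ hlt C rfl
      (by rw [hZeq, Nat.card_congr (subgroupOfEquivOfLe hZC).toEquiv, hZ])
      (by
        rw [hZeq, _root_.commutator_def, Subgroup.commutator_le]
        intro a _ b _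
        exact hmem a b)
    exact ⟨n + 1, by rw [← hcard, hn]; ring⟩

/-- An extraspecial group has order `p ^ (2n + 1)` with `n ≥ 1`. -/
theorem extraspecial_card {P : Type u} [Group P] [Finite P] {p : ℕ} [hpf : Fact p.Prime]
    (h : Cfsg.IsExtraspecial p P) : ∃ n : ℕ, 1 ≤ n ∧ Nat.card P = p ^ (2 * n + 1) := by
  obtain ⟨⟨-, -, hc⟩, hZ⟩ := h
  obtain ⟨n, hn⟩ := card_eq_odd_pow_of_center p _ P rfl hZ hc.le
  refine ⟨n, Nat.pos_of_ne_zero ?_, hn⟩
  rintro rfl
  have htop : center P = ⊤ := eq_top_of_card_eq _ (by rw [hZ, hn]; simp)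
  have hbot : commutator P = ⊥ := by
    rw [_root_.commutator_def, commutator_eq_bot_iff_le_centralizer]
    exact fun g _ => mem_centralizer_iff.2 fun y _ => mem_center_iff.1 (htop ▸ mem_top g) y
  rw [hbot] at hc
  rw [← hc, card_bot] at hZ
  exact hpf.out.ne_one hZ.symm

end CfsgLib.PGroup
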