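import Cfsg.Prelude.Def_Transfer
import Cfsg.Agent.Lib.Coprime.PGroupFrattini
import Cfsg.Agent.Lib.PGroup.FrattiniLe
import Mathlib.LinearAlgebra.QuadraticForm.Basis
import Mathlib.LinearAlgebra.UnitaryGroup
import Mathlib.LinearAlgebra.BilinearForm.Orthogonal
import Mathlib.LinearAlgebra.Matrix.BilinearForm
import Mathlib.Algebra.Group.Shrink
import Mathlib.RepresentationTheory.Basic
import Mathlib.Analysis.Real.Sqrt
import Mathlib.FieldTheory.Finite.Basic

/-!
# Extraspecial extensions realizing orthogonal modules over two elements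

The extraspecial group of plus type is realized by signed translations of the real function space
on a maximal singular subspace complement; the extension is cut out of the real orthogonal group.
-/

set_option autoImplicit false
set_option linter.style.haveILetI false

open Matrix
open scoped commutatorElement

namespace CfsgLib.ExtraExt

noncomputable section

/-- The sign of an element of the field with two elements. -/
def sgn (a : ZMod 2) : ℝ := if a = 0 then 1 else -1

theorem sgn_zero : sgn 0 = 1 := if_pos rfl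

theorem sgn_one : sgn 1 = -1 := if_neg (by decide)

theorem zmod_two_cases (a : ZMod 2) : a = 0 ∨ a = 1 := by revert a; decide

theorem sgn_add (a b : ZMod 2) : sgn (a + b) = sgn a * sgn b := by
  rcases zmod_two_cases a with rfl | rfl <;> rcases zmod_two_cases b with rfl | rfl <;>
    simp [sgn_zero, sgn_one, show (1 : ZMod 2) + 1 = 0 by decide]

theorem sgn_mul_self (a : ZMod 2) : sgn a * sgn a = 1 := by
  rcases zmod_two_cases a with rfl | rfl <;> simp [sgn_zero, sgn_one]

theorem sgn_ne_zero (a : ZMod 2) : sgn a ≠ 0 := fun h => by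
  have := sgn_mul_self a
  rw [h, zero_mul] at this
  exact zero_ne_one this

theorem sgn_inj {a b : ZMod 2} (h : sgn a = sgn b) : a = b := by
  rcases zmod_two_cases a with rfl | rfl <;> rcases zmod_two_cases b with rfl | rfl <;>
    simp [sgn_zero, sgn_one] at h ⊢ <;> linarith

variable {U : Type*} [AddCommGroup U] [Module (ZMod 2) U]

theorem add_self_zero (u : U) : u + u = 0 := by
  rw [← two_smul (ZMod 2) u, show (2 : ZMod 2) = 0 by decide, zero_smul]

theorem add_eq_zero_iff' {u v : U} : u + v = 0 ↔ u = v :=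
  ⟨fun h => by rw [← sub_eq_zero, sub_eq_add_neg, ← eq_neg_of_add_eq_zero_left (add_self_zero v)]; exact h,
    fun h => h ▸ add_self_zero u⟩

/-- The splitting data of a plus-type quadratic form. -/
structure Plus (q : QuadraticForm (ZMod 2) U) where
  W : Submodule (ZMod 2) U
  C : Submodule (ZMod 2) U
  compl : IsCompl W C
  N : LinearMap.BilinForm (ZMod 2) C
  hN : ∀ c : C, N c c = q c
  hW : ∀ w ∈ W, q w = 0
  nd : (QuadraticMap.polarBilin q).Nondegenerate
  perp : ∀ u, (∀ w ∈ W, QuadraticMap.polarBilin q w u = 0) → u ∈ W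

namespace Plus

variable {q : QuadraticForm (ZMod 2) U} (D : Plus q)

/-- The component in the complement. -/
def pc : U →ₗ[ZMod 2] D.C := D.C.projectionOnto D.W D.compl.symm

/-- The component in the singular subspace. -/
def pw : U →ₗ[ZMod 2] U := D.W.projection D.C D.compl

/-- The form whose quadratic form is `q`. -/
def β : U →ₗ[ZMod 2] U →ₗ[ZMod 2] ZMod 2 :=
  (QuadraticMap.polarBilin q).compl₁₂ D.pw (D.C.subtype ∘ₗ D.pc) +
    LinearMap.compl₁₂ D.N D.pc D.pc

theorem β_apply (u v : U) :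
    D.β u v = QuadraticMap.polarBilin q (D.pw u) (D.pc v : U) + D.N (D.pc u) (D.pc v) := rfl

theorem pw_add_pc (u : U) : D.pw u + (D.pc u : U) = u :=
  Submodule.projection_add_projection_eq_self D.compl u

theorem pc_coe (c : D.C) : D.pc (c : U) = c := Submodule.projectionOnto_apply_left _ _

theorem pc_of_mem {w : U} (hw : w ∈ D.W) : D.pc w = 0 := by
  have h := Submodule.projectionOnto_apply_right D.compl.symm ⟨w, hw⟩
  exact h

theorem pw_of_mem {w : U} (hw : w ∈ D.W) : D.pw w = w := by
  have := D.pw_add_pc w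
  rwa [D.pc_of_mem hw, Submodule.coe_zero, add_zero] at this

theorem β_pc (u v : U) : D.β u (D.pc v : U) = D.β u v := by
  rw [β_apply, β_apply, pc_coe]

theorem β_self (u : U) : D.β u u = q u := by
  conv_rhs => rw [← D.pw_add_pc u]
  have e := QuadraticMap.polar_add_left q
  rw [β_apply, D.hN, QuadraticMap.polarBilin_apply_apply, QuadraticMap.polar,
    D.hW (D.pw u) (Submodule.projection_apply_mem _ _)]
  ring

theorem β_symm_add (u v : U) : D.β u v + D.β v u = QuadraticMap.polarBilin q u v := by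
  rw [QuadraticMap.polarBilin_apply_apply, QuadraticMap.polar, ← D.β_self, ← D.β_self, ← D.β_self]
  simp only [map_add, LinearMap.add_apply]
  ring

variable [Fintype D.C] [DecidableEq D.C]

/-- The signed translation of an element. -/
def T (u : U) : Matrix D.C D.C ℝ :=
  fun x y => if x = y + D.pc u then sgn (D.β u (y : U)) else 0

theorem T_mul (u v : U) : D.T u * D.T v = sgn (D.β u v) • D.T (u + v) := by
  ext x z
  rw [Matrix.mul_apply, Finset.sum_eq_single (z + D.pc v)]
  · simp only [T, Matrix.smul_apply, smul_eq_mul, if_true, map_add]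
    by_cases h : x = z + D.pc v + D.pc u
    · rw [if_pos h, if_pos (by rw [h]; abel)]
      rw [Submodule.coe_add, map_add, β_pc, LinearMap.add_apply, sgn_add, sgn_add]
      ring
    · rw [if_neg h, if_neg (fun h' => h (by rw [h']; abel))]
      ring
  · intro y _ hy
    simp [T, hy]
  · intro h; exact absurd (Finset.mem_univ _) h

theorem T_zero : D.T 0 = 1 := by
  ext x y
  simp [T, Matrix.one_apply, sgn_zero]

theorem T_orth (u : U) : (D.T u)ᵀ * D.T u = 1 := by
  ext x z
  rw [Matrix.mul_apply, Finset.sum_eq_single (z + D.pc u)]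
  · simp only [T, Matrix.transpose_apply, Matrix.one_apply, if_true]
    by_cases h : x = z
    · rw [if_pos h, h, if_pos rfl, sgn_mul_self]
    · rw [if_neg h, if_neg fun h' => h (add_right_cancel h').symm, zero_mul]
  · intro y _ hy
    simp [T, hy]
  · intro h; exact absurd (Finset.mem_univ _) h

theorem T_orth' (u : U) : D.T u * (D.T u)ᵀ = 1 := mul_eq_one_comm.1 (D.T_orth u)

theorem card_pos' : (0 : ℝ) < Fintype.card D.C := by exact_mod_cast Fintype.card_pos

theorem trace_T {u : U} (hu : u ≠ 0) : (D.T u).trace = 0 := by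
  simp only [Matrix.trace, Matrix.diag, T]
  by_cases hc : D.pc u = 0
  · simp only [hc, add_zero, if_true]
    -- a nonzero functional on the complement
    have huW : u ∈ D.W := by
      have := D.pw_add_pc u
      rw [hc, Submodule.coe_zero, add_zero] at this
      rw [← this]
      exact Submodule.projection_apply_mem _ _
    obtain ⟨z, hz⟩ : ∃ z : D.C, D.β u (z : U) = 1 := by
      by_contra h
      push Not at h
      refine hu (D.nd.1 u fun y => ?_)
      rw [← D.β_symm_add, ← D.β_pc u y, ((zmod_two_cases _).resolve_right (h _)), zero_add, β_apply, hc,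
        Submodule.coe_zero, map_zero, map_zero, add_zero]
    have h1 : ∑ x : D.C, sgn (D.β u (x : U)) = -∑ x : D.C, sgn (D.β u (x : U)) := by
      rw [← Finset.sum_neg_distrib]
      refine Finset.sum_equiv (Equiv.addRight z) (by simp) fun x _ => ?_
      rw [Equiv.coe_addRight, Submodule.coe_add, map_add, hz, sgn_add, sgn_one]
      ring
    linarith
  · refine Finset.sum_eq_zero fun x _ => if_neg fun h => hc ?_
    simpa using h.symm

theorem smul_T_inj {s t : ℝ} (hs : s ≠ 0) {u v : U} (h : s • D.T u = t • D.T v) : u = v := by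
  by_contra hne
  have h1 := congrArg (fun M => ((D.T u)ᵀ * M).trace) h
  have h2 : (D.T u)ᵀ * D.T v = sgn (q u) • sgn (D.β u v) • D.T (u + v) := by
    have h3 : D.T u * D.T u = sgn (q u) • (1 : Matrix D.C D.C ℝ) := by
      rw [T_mul, add_self_zero, T_zero, β_self]
    have h4 : (D.T u)ᵀ = sgn (q u) • D.T u := by
      calc (D.T u)ᵀ = (D.T u)ᵀ * (sgn (q u) • (D.T u * D.T u)) := by
            rw [h3, smul_smul, sgn_mul_self, one_smul, mul_one]
        _ = sgn (q u) • D.T u := by rw [Matrix.mul_smul, ← mul_assoc, T_orth, one_mul]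
    rw [h4, Matrix.smul_mul, T_mul]
  simp only [Matrix.mul_smul, T_orth, h2, Matrix.trace_smul, Matrix.trace_one, smul_eq_mul,
    D.trace_T (fun e => hne (add_eq_zero_iff'.1 e)), mul_zero] at h1
  exact (mul_ne_zero hs (D.card_pos').ne') h1

theorem eq_scalar (M : Matrix D.C D.C ℝ) (h : ∀ u, M * D.T u = D.T u * M) :
    ∃ c : ℝ, M = c • (1 : Matrix D.C D.C ℝ) := by
  refine ⟨M 0 0, ?_⟩
  have hdiag : ∀ w ∈ D.W, ∀ x y : D.C, M x y * sgn (D.β w (y : U)) = sgn (D.β w (x : U)) * M x y := by
    intro w hw x y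
    have h1 := congrFun (congrFun (h w) x) y
    rw [Matrix.mul_apply, Matrix.mul_apply, Finset.sum_eq_single y, Finset.sum_eq_single x] at h1
    · simpa [T, D.pc_of_mem hw] using h1
    · intro b _ hb; simp [T, D.pc_of_mem hw, Ne.symm hb]
    · simp
    · intro b _ hb; simp [T, D.pc_of_mem hw, hb]
    · simp
  have hoff : ∀ x y : D.C, x ≠ y → M x y = 0 := by
    intro x y hxy
    by_contra hM
    refine hxy ?_
    have hmem : ((x - y : D.C) : U) ∈ D.W := D.perp _ fun w hw => by
      have h1 := hdiag w hw x y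
      rw [mul_comm (sgn _) (M x y)] at h1
      have h2 := sgn_inj (mul_left_cancel₀ hM h1)
      have h3 : ∀ c : D.C, D.β w (c : U) = QuadraticMap.polarBilin q w (c : U) := fun c => by
        rw [β_apply, D.pw_of_mem hw, D.pc_of_mem hw, map_zero, LinearMap.zero_apply, add_zero, pc_coe]
      rw [h3, h3] at h2
      rw [Submodule.coe_sub, map_sub, h2, sub_self]
    have h0 := Submodule.disjoint_def.1 D.compl.disjoint _ hmem (x - y : D.C).2
    exact sub_eq_zero.1 (Subtype.ext h0)
  ext x y
  by_cases hxy : x = y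
  · subst hxy
    have h1 := congrFun (congrFun (h (x : U)) x) 0
    rw [Matrix.mul_apply, Matrix.mul_apply, Finset.sum_eq_single x, Finset.sum_eq_single 0] at h1
    · simp only [T, pc_coe, zero_add, if_true, Submodule.coe_zero, map_zero, sgn_zero, mul_one,
        one_mul] at h1
      simp [h1]
    · intro b _ hb
      rw [hoff b 0 hb, mul_zero]
    · simp
    · intro b _ hb
      rw [hoff x b (Ne.symm hb), zero_mul]
    · simp
  · simp [hoff x y hxy, hxy]

section Intertwiner

variable [Fintype U] [DecidableEq U] [Module.Finite (ZMod 2) U]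

/-- An orthogonal intertwiner for an isometry. -/
theorem exists_intertwiner (g : U ≃ₗ[ZMod 2] U) (hg : ∀ u, q (g u) = q u) :
    ∃ M : Matrix D.C D.C ℝ, Mᵀ * M = 1 ∧ ∀ u, ∃ s : ZMod 2, M * D.T u = sgn s • (D.T (g u) * M) := by
  classical
  set δ : U →ₗ[ZMod 2] U →ₗ[ZMod 2] ZMod 2 := D.β.compl₁₂ (g : U →ₗ[ZMod 2] U) (g : U →ₗ[ZMod 2] U) - D.β
    with hδ
  have hδ0 : ∀ u, δ u u = 0 := fun u => by
    simp only [hδ, LinearMap.sub_apply, LinearMap.compl₁₂_apply, LinearEquiv.coe_coe, D.β_self, hg, sub_self]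
  have hδs : ∀ u v, δ u v = δ v u := fun u v => by
    have h := hδ0 (u + v)
    simp only [map_add, LinearMap.add_apply, hδ0, zero_add, add_zero] at h
    rw [add_comm] at h
    exact (add_eq_zero_iff' (U := ZMod 2)).1 h
  let b := Module.finBasis (ZMod 2) U
  let N' : LinearMap.BilinForm (ZMod 2) U :=
    Matrix.toBilin b (fun i j => if i < j then δ (b i) (b j) else 0)
  have hN' : ∀ u v, N' u v + N' v u = δ u v := by
    have h : N' + LinearMap.flip N' = δ := by
      refine b.ext fun i => b.ext fun j => ?_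
      have e : ∀ i j, N' (b i) (b j) = if i < j then δ (b i) (b j) else 0 := fun i j =>
        (LinearMap.BilinForm.toMatrix_apply b N' i j).symm.trans
          (congrFun (congrFun ((LinearMap.BilinForm.toMatrix b).apply_symm_apply _) i) j)
      simp only [LinearMap.add_apply, LinearMap.flip_apply, e]
      rcases lt_trichotomy i j with h | h | h
      · rw [if_pos h, if_neg h.not_gt, add_zero]
      · subst h; rw [if_neg (lt_irrefl _), add_zero, hδ0]
      · rw [if_neg h.not_gt, if_pos h, zero_add, hδs]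
    exact fun u v => congrArg (fun F : U →ₗ[ZMod 2] U →ₗ[ZMod 2] ZMod 2 => F u v) h
  let T' : U → Matrix D.C D.C ℝ := fun u => sgn (N' u u) • D.T (g u)
  have hT' : ∀ u v, T' u * T' v = sgn (D.β u v) • T' (u + v) := fun u v => by
    simp only [T', Matrix.smul_mul, Matrix.mul_smul, T_mul, smul_smul, map_add]
    congr 1
    rw [← sgn_add, ← sgn_add, ← sgn_add]
    congr 1
    have h1 := hN' u v
    simp only [hδ, LinearMap.sub_apply, LinearMap.compl₁₂_apply, LinearEquiv.coe_coe] at h1
    rw [show D.β (g u) (g v) = D.β u v + (N' u v + N' v u) by rw [h1]; ring, LinearMap.add_apply,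
      LinearMap.add_apply]
    ring
  have hTo : ∀ v, (T' v)ᵀ * T' v = 1 := fun v => by
    simp only [T', Matrix.transpose_smul, Matrix.smul_mul, Matrix.mul_smul, T_orth, smul_smul,
      sgn_mul_self, one_smul]
  let avg : Matrix D.C D.C ℝ → Matrix D.C D.C ℝ := fun X => ∑ u : U, T' u * X * (D.T u)ᵀ
  have hint : ∀ X v, T' v * avg X = avg X * D.T v := by
    intro X v
    simp only [avg, Finset.mul_sum, Finset.sum_mul]
    refine Finset.sum_equiv (Equiv.addLeft v) (by simp) fun u _ => ?_
    rw [Equiv.coe_addLeft, ← mul_assoc, ← mul_assoc, hT', Matrix.smul_mul, Matrix.smul_mul]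
    have h1 : D.T (v + u) = sgn (D.β v u) • (D.T v * D.T u) := by
      rw [T_mul, smul_smul, sgn_mul_self, one_smul]
    simp only [h1, Matrix.transpose_smul, Matrix.transpose_mul, Matrix.smul_mul, Matrix.mul_smul,
      mul_assoc, T_orth, mul_one]
  obtain ⟨i, j, hij⟩ : ∃ i j, avg (Matrix.single i j 1) i j ≠ 0 := by
    by_contra! h0
    have h1 : ∑ i, ∑ j, avg (Matrix.single i j 1) i j = ∑ u : U, (T' u).trace * (D.T u).trace := by
      simp only [avg, Matrix.sum_apply]
      rw [Finset.sum_congr rfl fun i _ => Finset.sum_comm, Finset.sum_comm]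
      refine Finset.sum_congr rfl fun u _ => ?_
      rw [Matrix.trace, Matrix.trace, Finset.sum_mul_sum]
      refine Finset.sum_congr rfl fun i _ => Finset.sum_congr rfl fun j _ => ?_
      simp [Matrix.mul_apply, Matrix.single_apply, Finset.sum_ite_eq', ite_and, Matrix.diag]
    simp only [h0, Finset.sum_const_zero] at h1
    rw [Finset.sum_eq_single 0] at h1
    · simp only [T', map_zero, T_zero, Matrix.trace_smul, Matrix.trace_one, smul_eq_mul,
        LinearMap.zero_apply, sgn_zero, one_mul] at h1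
      exact (mul_ne_zero D.card_pos'.ne' D.card_pos'.ne') h1.symm
    · intro u _ hu; rw [D.trace_T hu, mul_zero]
    · intro h; exact absurd (Finset.mem_univ _) h
  set M := avg (Matrix.single i j 1) with hM
  have hM' : ∀ v, T' v * M = M * D.T v := hint _
  obtain ⟨c, hc⟩ := D.eq_scalar (Mᵀ * M) fun v => by
    have h1 : Mᵀ * (T' v)ᵀ = (D.T v)ᵀ * Mᵀ := by
      rw [← Matrix.transpose_mul, ← Matrix.transpose_mul, hM']
    have h2 : D.T v * Mᵀ = Mᵀ * T' v := by
      calc D.T v * Mᵀ = D.T v * Mᵀ * ((T' v)ᵀ * T' v) := by rw [hTo, mul_one]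
        _ = D.T v * (Mᵀ * (T' v)ᵀ) * T' v := by simp only [mul_assoc]
        _ = Mᵀ * T' v := by rw [h1, ← mul_assoc (D.T v), T_orth', one_mul]
    calc Mᵀ * M * D.T v = Mᵀ * (T' v * M) := by rw [mul_assoc, hM']
      _ = D.T v * (Mᵀ * M) := by rw [← mul_assoc, ← h2, mul_assoc]
  have hcpos : 0 < c := by
    have h1 : (Mᵀ * M) j j = c := by rw [hc]; simp
    rw [Matrix.mul_apply] at h1
    rw [← h1]
    refine Finset.sum_pos' (fun k _ => by rw [Matrix.transpose_apply]; exact mul_self_nonneg _)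
      ⟨i, Finset.mem_univ _, ?_⟩
    rw [Matrix.transpose_apply]
    exact mul_self_pos.2 hij
  refine ⟨(Real.sqrt c)⁻¹ • M, ?_, fun u => ⟨N' u u, ?_⟩⟩
  · rw [Matrix.transpose_smul, Matrix.smul_mul, Matrix.mul_smul, hc, smul_smul, smul_smul,
      ← mul_inv, Real.mul_self_sqrt hcpos.le, inv_mul_cancel₀ hcpos.ne', one_smul]
  · rw [Matrix.smul_mul, ← hM', Matrix.mul_smul, smul_comm (sgn _)]
    simp only [T', Matrix.smul_mul]

end Intertwiner

end Plus

/-- An extraspecial group of plus type extended by a group of isometries of its quotient. -/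
theorem exists_extension {K : Type*} [Group K] [Module.Finite (ZMod 2) U] (n : ℕ) (hn1 : 1 ≤ n)
    (hn : Module.finrank (ZMod 2) U = 2 * n) (ρ : Representation (ZMod 2) K U)
    (hρ : Function.Injective ρ) (q : QuadraticForm (ZMod 2) U) (hq : ∀ (k : K) (u : U), q (ρ k u) = q u)
    (hnd : (QuadraticMap.polarBilin q).Nondegenerate)
    (hplus : ∃ W : Submodule (ZMod 2) U, Module.finrank (ZMod 2) ↥W = n ∧ ∀ w ∈ W, q w = 0) :
    ∃ (R : Type) (_ : Group R) (_ : Finite R) (Q : Subgroup R) (hN : Q.Normal) (e : R ⧸ Q ≃* K)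
      (χ : ↥Q →* Multiplicative U), Cfsg.IsExtraspecial 2 ↥Q ∧ Nat.card ↥Q = 2 ^ (2 * n + 1) ∧
      Function.Surjective χ ∧ χ.ker = Subgroup.center ↥Q ∧
      (∀ (r : R) (a : ↥Q), χ ⟨r * a * r⁻¹, hN.conj_mem (a : R) a.2 r⟩ =
        Multiplicative.ofAdd (ρ (e (r : R ⧸ Q)) (Multiplicative.toAdd (χ a)))) ∧
      ∀ a : ↥Q, a * a = 1 ↔ q (Multiplicative.toAdd (χ a)) = 0 := by
  classical
  obtain ⟨W, hWd, hW0⟩ := hplus
  obtain ⟨C, hWC⟩ := Submodule.exists_isCompl W
  haveI : Finite U := Module.finite_of_finite (ZMod 2)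
  haveI := Fintype.ofFinite U
  have hperp : ∀ u, (∀ w ∈ W, QuadraticMap.polarBilin q w u = 0) → u ∈ W := by
    intro u hu
    have hrefl : LinearMap.BilinForm.IsRefl (QuadraticMap.polarBilin q) := fun x y h => by
      rw [QuadraticMap.polarBilin_apply_apply] at h ⊢
      rwa [QuadraticMap.polar_comm]
    have hle : W ≤ LinearMap.BilinForm.orthogonal (QuadraticMap.polarBilin q) W := fun w hw v hv => by
      show QuadraticMap.polarBilin q v w = 0
      rw [QuadraticMap.polarBilin_apply_apply, QuadraticMap.polar, hW0 v hv, hW0 w hw,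
        hW0 _ (W.add_mem hv hw)]
      ring
    have h2 := LinearMap.BilinForm.finrank_orthogonal hnd W
    rw [Submodule.eq_of_le_of_finrank_eq hle (by rw [h2, hn, hWd]; omega)]
    exact fun w hw => hu w hw
  let D : Plus q :=
    { W := W, C := C, compl := hWC
      N := (q.comp C.subtype).toBilin (Module.finBasis (ZMod 2) C)
      hN := fun c => by
        conv_rhs => rw [show q (c : U) = (q.comp C.subtype) c from rfl,
          ← QuadraticMap.toQuadraticMap_toBilin (q.comp C.subtype) (Module.finBasis (ZMod 2) C)]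
        rfl
      hW := hW0, nd := hnd, perp := hperp }
  haveI : Fintype D.C := Fintype.ofFinite _
  set O := Matrix.orthogonalGroup D.C ℝ
  have hTO : ∀ (s : ZMod 2) (u : U), sgn s • D.T u ∈ O := fun s u => by
    rw [Matrix.mem_orthogonalGroup_iff', Matrix.transpose_smul, Matrix.smul_mul, Matrix.mul_smul,
      Plus.T_orth, smul_smul, sgn_mul_self, one_smul]
  have hρinv : ∀ k u, ρ k⁻¹ (ρ k u) = u := fun k u => by
    rw [← Module.End.mul_apply, ← map_mul, inv_mul_cancel, map_one, Module.End.one_apply]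
  have hρmul : ∀ k k' u, ρ (k * k') u = ρ k (ρ k' u) := fun k k' u => by
    rw [map_mul, Module.End.mul_apply]
  -- the group of orthogonal matrices normalizing the signed translations as `K` does
  let Rel : O → K → Prop := fun M k =>
    ∀ u, ∃ s : ZMod 2, (M : Matrix D.C D.C ℝ) * D.T u = sgn s • (D.T (ρ k u) * (M : Matrix D.C D.C ℝ))
  have rel_one : Rel 1 1 := fun u => ⟨0, by
    rw [map_one, Module.End.one_apply, OneMemClass.coe_one, mul_one, one_mul, sgn_zero, one_smul]⟩
  have rel_mul : ∀ {M M' : O} {k k' : K}, Rel M k → Rel M' k' → Rel (M * M') (k * k') := by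
    intro M M' k k' h h' u
    obtain ⟨s, hs⟩ := h' u
    obtain ⟨t, ht⟩ := h (ρ k' u)
    refine ⟨s + t, ?_⟩
    rw [Submonoid.coe_mul, mul_assoc, hs, Matrix.mul_smul, ← mul_assoc, ht, Matrix.smul_mul,
      smul_smul, ← sgn_add, hρmul, mul_assoc]
  have rel_inv : ∀ {M : O} {k : K}, Rel M k → Rel M⁻¹ k⁻¹ := by
    intro M k h u
    obtain ⟨s, hs⟩ := h (ρ k⁻¹ u)
    have e : ρ k (ρ k⁻¹ u) = u := by rw [← hρmul, mul_inv_cancel, map_one, Module.End.one_apply]
    rw [e] at hs
    have h1 : ((M⁻¹ : O) : Matrix D.C D.C ℝ) * (M : Matrix D.C D.C ℝ) = 1 := by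
      rw [← Submonoid.coe_mul, inv_mul_cancel, OneMemClass.coe_one]
    have h2 : (M : Matrix D.C D.C ℝ) * ((M⁻¹ : O) : Matrix D.C D.C ℝ) = 1 := by
      rw [← Submonoid.coe_mul, mul_inv_cancel, OneMemClass.coe_one]
    have h3 := congrArg (fun X => ((M⁻¹ : O) : Matrix D.C D.C ℝ) * X * ((M⁻¹ : O) : Matrix D.C D.C ℝ)) hs
    simp only [← mul_assoc, h1, one_mul, Matrix.mul_smul, Matrix.smul_mul] at h3
    rw [mul_assoc (((M⁻¹ : O) : Matrix D.C D.C ℝ) * D.T u), h2, mul_one] at h3
    exact ⟨s, by rw [h3, smul_smul, sgn_mul_self, one_smul]⟩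
  let Rs : Subgroup O :=
    { carrier := {M | ∃ k, Rel M k}
      one_mem' := ⟨1, rel_one⟩
      mul_mem' := fun ⟨k, h⟩ ⟨k', h'⟩ => ⟨k * k', rel_mul h h'⟩
      inv_mem' := fun ⟨k, h⟩ => ⟨k⁻¹, rel_inv h⟩ }
  have hrel_unique : ∀ {M : O} {k k' : K}, Rel M k → Rel M k' → k = k' := by
    intro M k k' h h'
    refine hρ (LinearMap.ext fun u => ?_)
    obtain ⟨s, hs⟩ := h u
    obtain ⟨t, ht⟩ := h' u
    refine D.smul_T_inj (sgn_ne_zero s) (t := sgn t) ?_
    have h1 := congrArg (fun X => X * (M : Matrix D.C D.C ℝ)ᵀ) (hs.symm.trans ht)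
    have hM := (Matrix.mem_orthogonalGroup_iff _ _).1 M.2
    simp only [Matrix.smul_mul, mul_assoc] at h1
    rw [hM, mul_one, mul_one] at h1
    exact h1
  choose kap hkap using fun r : Rs => r.2
  let κ : Rs →* K := MonoidHom.mk' kap fun r r' =>
    hrel_unique (hkap (r * r')) (rel_mul (hkap r) (hkap r'))
  have hκsurj : Function.Surjective κ := fun k => by
    let g : U ≃ₗ[ZMod 2] U := LinearEquiv.ofLinear (ρ k) (ρ k⁻¹)
      (LinearMap.ext fun u => by
        rw [LinearMap.comp_apply, ← hρmul, mul_inv_cancel, map_one]; rfl)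
      (LinearMap.ext fun u => hρinv k u)
    obtain ⟨M, hM1, hM2⟩ := D.exists_intertwiner g (hq k)
    refine ⟨⟨⟨M, (Matrix.mem_orthogonalGroup_iff' _ _).2 hM1⟩, k, hM2⟩, ?_⟩
    exact hrel_unique (hkap _) hM2
  let tt : ZMod 2 → U → O := fun s u => ⟨sgn s • D.T u, hTO s u⟩
  have htt_mul : ∀ s t u v, tt s u * tt t v = tt (s + t + D.β u v) (u + v) := fun s t u v =>
    Subtype.ext (by
      show sgn s • D.T u * (sgn t • D.T v) = _
      rw [Matrix.smul_mul, Matrix.mul_smul, Plus.T_mul, smul_smul, smul_smul, ← sgn_add, ← sgn_add,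
        add_assoc])
  have htt_one : tt 0 0 = 1 := Subtype.ext (by
    show sgn 0 • D.T 0 = 1
    rw [sgn_zero, one_smul, Plus.T_zero])
  have htt_inj : ∀ {s t u v}, tt s u = tt t v → s = t ∧ u = v := by
    intro s t u v h
    have h' : sgn s • D.T u = sgn t • D.T v := congrArg Subtype.val h
    obtain rfl := D.smul_T_inj (sgn_ne_zero s) h'
    refine ⟨sgn_inj ?_, rfl⟩
    have h2 := congrArg (fun X => ((D.T u)ᵀ * X).trace) h'
    simp only [Matrix.mul_smul, Plus.T_orth, Matrix.trace_smul, Matrix.trace_one, smul_eq_mul] at h2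
    exact mul_right_cancel₀ D.card_pos'.ne' h2
  have htt_swap : ∀ s u, Rel (tt s u) 1 := fun s u v => ⟨QuadraticMap.polarBilin q u v, by
    show sgn s • D.T u * D.T v = _
    rw [map_one, Module.End.one_apply]
    show _ = _ • (D.T v * (sgn s • D.T u))
    rw [Matrix.smul_mul, Matrix.mul_smul, Plus.T_mul, Plus.T_mul, add_comm v u, smul_smul, smul_smul,
      smul_smul, ← D.β_symm_add, sgn_add]
    congr 1
    calc sgn s * sgn (D.β u v) = sgn s * sgn (D.β u v) * (sgn (D.β v u) * sgn (D.β v u)) := by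
          rw [sgn_mul_self, mul_one]
      _ = _ := by ring⟩
  let ttR : ZMod 2 → U → Rs := fun s u => ⟨tt s u, 1, htt_swap s u⟩
  have httR_mul : ∀ s t u v, ttR s u * ttR t v = ttR (s + t + D.β u v) (u + v) := fun s t u v =>
    Subtype.ext (htt_mul s t u v)
  have hker : ∀ r, κ r = 1 ↔ ∃ s u, r = ttR s u := by
    intro r
    refine ⟨fun h => ?_, fun ⟨s, u, e⟩ => e ▸ hrel_unique (hkap _) (htt_swap s u)⟩
    have hr : Rel r.1 1 := h ▸ hkap r
    choose l hl using hr
    simp only [map_one, Module.End.one_apply] at hl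
    set M := (r.1 : Matrix D.C D.C ℝ)
    have hMo : M * Mᵀ = 1 := (Matrix.mem_orthogonalGroup_iff _ _).1 r.1.2
    have hladd : ∀ u v, l (u + v) = l u + l v := by
      intro u v
      have h1 : M * (D.T u * D.T v) = sgn (l u + l v) • (D.T u * D.T v * M) := by
        rw [← mul_assoc, hl u, Matrix.smul_mul, mul_assoc, hl v, Matrix.mul_smul, smul_smul, sgn_add,
          ← mul_assoc]
      rw [Plus.T_mul, Matrix.mul_smul, Matrix.smul_mul, hl, smul_smul, smul_smul] at h1
      have h2 := congrArg (fun X => (X * Mᵀ * (D.T (u + v))ᵀ).trace) h1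
      simp only [Matrix.smul_mul, mul_assoc (D.T (u + v)) M, hMo, mul_one, Plus.T_orth',
        Matrix.trace_smul, Matrix.trace_one, smul_eq_mul] at h2
      have h3 := mul_right_cancel₀ D.card_pos'.ne' h2
      rw [mul_comm (sgn (l u + l v))] at h3
      exact sgn_inj (mul_left_cancel₀ (sgn_ne_zero _) h3)
    let L : U →ₗ[ZMod 2] ZMod 2 :=
      { toFun := l, map_add' := hladd
        map_smul' := fun a u => by
          have h0 : l 0 = 0 := by simpa using hladd 0 0
          rcases zmod_two_cases a with rfl | rfl <;> simp [h0] }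
    obtain ⟨v, hv⟩ := ((LinearMap.BilinForm.toDual (QuadraticMap.polarBilin q) hnd).surjective L)
    have hlv : ∀ u, QuadraticMap.polarBilin q v u = l u := fun u =>
      (LinearMap.BilinForm.toDual_def hnd).symm.trans (congrArg (fun F : Module.Dual (ZMod 2) U => F u) hv)
    obtain ⟨c, hc⟩ := D.eq_scalar ((D.T v)ᵀ * M) fun u => by
      have h1 : (D.T v)ᵀ * D.T u = sgn (l u) • (D.T u * (D.T v)ᵀ) := by
        obtain h2 : D.T v * D.T u = sgn (l u) • (D.T u * D.T v) := by
          rw [Plus.T_mul, Plus.T_mul, add_comm u v, smul_smul, ← hlv, ← D.β_symm_add, sgn_add]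
          congr 1
          rw [mul_assoc, sgn_mul_self, mul_one]
        have h3 := congrArg (fun X => (D.T v)ᵀ * X * (D.T v)ᵀ) h2
        simp only [← mul_assoc, Plus.T_orth, one_mul, Matrix.mul_smul, Matrix.smul_mul] at h3
        rw [mul_assoc ((D.T v)ᵀ * D.T u), Plus.T_orth', mul_one] at h3
        rw [h3, smul_smul, sgn_mul_self, one_smul]
      rw [mul_assoc, hl, Matrix.mul_smul, ← mul_assoc, h1, Matrix.smul_mul, smul_smul, sgn_mul_self,
        one_smul, mul_assoc]
    have hM : M = c • D.T v := by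
      calc M = D.T v * ((D.T v)ᵀ * M) := by rw [← mul_assoc, Plus.T_orth', one_mul]
        _ = c • D.T v := by rw [hc, Matrix.mul_smul, mul_one]
    have hc2 : c * c = 1 := by
      have h1 := hMo
      rw [hM, Matrix.transpose_smul, Matrix.smul_mul, Matrix.mul_smul, Plus.T_orth', smul_smul] at h1
      simpa using congrFun (congrFun h1 0) 0
    obtain ⟨s, hs⟩ : ∃ s, sgn s = c := by
      rcases mul_self_eq_one_iff.1 hc2 with rfl | rfl
      · exact ⟨0, sgn_zero⟩
      · exact ⟨1, sgn_one⟩
    exact ⟨s, v, Subtype.ext (Subtype.ext (show M = sgn s • D.T v by rw [hM, hs]))⟩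
  -- move the group to the bottom universe
  haveI : Finite K := Finite.of_injective (fun k => (ρ k : U → U)) fun a b h =>
    hρ (LinearMap.ext (congrFun h))
  haveI : Finite κ.ker := Finite.of_surjective
    (fun x : ZMod 2 × U => (⟨ttR x.1 x.2, (hker _).2 ⟨_, _, rfl⟩⟩ : κ.ker))
    fun r => by
      obtain ⟨s, u, e⟩ := (hker r).1 r.2
      exact ⟨(s, u), Subtype.ext e.symm⟩
  haveI : Finite (Rs ⧸ κ.ker) :=
    Finite.of_equiv _ (QuotientGroup.quotientKerEquivOfSurjective κ hκsurj).symm.toEquiv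
  haveI : Finite Rs := Finite.of_equiv _ (Subgroup.groupEquivQuotientProdSubgroup (s := κ.ker)).symm
  let R0 : Type := Shrink.{0} Rs
  let ψ : R0 ≃* Rs := Shrink.mulEquiv
  haveI : Finite R0 := Finite.of_equiv _ ψ.symm.toEquiv
  let κ' : R0 →* K := κ.comp ψ.toMonoidHom
  have hκ'surj : Function.Surjective κ' := hκsurj.comp ψ.surjective
  -- the extraspecial kernel
  let f : ZMod 2 × U → κ'.ker := fun x => ⟨ψ.symm (ttR x.1 x.2), by
    show κ (ψ (ψ.symm _)) = 1
    rw [ψ.apply_symm_apply]; exact (hker _).2 ⟨_, _, rfl⟩⟩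
  have hfbij : Function.Bijective f := by
    refine ⟨fun x y h => ?_, fun r => ?_⟩
    · obtain ⟨h1, h2⟩ := htt_inj (congrArg Subtype.val (ψ.symm.injective (congrArg Subtype.val h)))
      exact Prod.ext h1 h2
    · obtain ⟨s, u, e⟩ := (hker (ψ r)).1 r.2
      exact ⟨(s, u), Subtype.ext (ψ.symm_apply_eq.2 e.symm)⟩
  have hf_mul : ∀ x y, f x * f y = f (x.1 + y.1 + D.β x.2 y.2, x.2 + y.2) := fun x y =>
    Subtype.ext ((map_mul ψ.symm _ _).symm.trans (congrArg ψ.symm (httR_mul _ _ _ _)))
  have hf_one : f (0, 0) = 1 :=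
    Subtype.ext ((congrArg ψ.symm (Subtype.ext htt_one : ttR 0 0 = 1)).trans (map_one ψ.symm))
  let eF := Equiv.ofBijective f hfbij
  have hsymm : ∀ a b, (eF.symm (a * b)) =
      ((eF.symm a).1 + (eF.symm b).1 + D.β (eF.symm a).2 (eF.symm b).2, (eF.symm a).2 + (eF.symm b).2) :=
    fun a b => by
      rw [Equiv.symm_apply_eq]
      show _ = f _
      rw [← hf_mul]
      exact congrArg₂ (· * ·) (eF.apply_symm_apply a).symm (eF.apply_symm_apply b).symm
  let χ : κ'.ker →* Multiplicative U :=
    MonoidHom.mk' (fun a => Multiplicative.ofAdd (eF.symm a).2) fun a b => by rw [hsymm]; rfl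
  have hχf : ∀ x, χ (f x) = Multiplicative.ofAdd x.2 := fun x =>
    congrArg (fun z : ZMod 2 × U => Multiplicative.ofAdd z.2) (eF.symm_apply_apply x)
  have hcardU : Nat.card U = 2 ^ (2 * n) := by
    rw [Module.natCard_eq_pow_finrank (K := ZMod 2), Nat.card_zmod, hn]
  have hcard : Nat.card κ'.ker = 2 ^ (2 * n + 1) := by
    rw [← Nat.card_congr eF, Nat.card_prod, Nat.card_zmod, hcardU, pow_succ']
  let e : R0 ⧸ κ'.ker ≃* K := QuotientGroup.quotientKerEquivOfSurjective κ' hκ'surj
  have hsurjχ : Function.Surjective χ := fun u => ⟨f (0, Multiplicative.toAdd u), hχf _⟩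
  have hcenter : χ.ker = Subgroup.center κ'.ker := by
    ext a
    obtain ⟨⟨s, u⟩, rfl⟩ := hfbij.2 a
    rw [MonoidHom.mem_ker, hχf, ofAdd_eq_one, Subgroup.mem_center_iff]
    refine ⟨fun h b => ?_, fun h => hnd.1 u fun v => ?_⟩
    · obtain ⟨⟨t, v⟩, rfl⟩ := hfbij.2 b
      simp only at h
      subst h
      rw [hf_mul, hf_mul]
      simp [add_comm]
    · have h0 := h (f (0, v))
      rw [hf_mul, hf_mul] at h0
      have h1 := congrArg Prod.fst (hfbij.1 h0)
      simp only [zero_add, add_zero, add_right_inj] at h1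
      rw [← D.β_symm_add, h1]
      exact add_self_zero _
  haveI : Fact (Nat.Prime 2) := ⟨Nat.prime_two⟩
  have hP : IsPGroup 2 κ'.ker := IsPGroup.of_card hcard
  have hcard_center : Nat.card (Subgroup.center κ'.ker) = 2 := by
    have h := χ.ker.card_mul_index
    rw [Subgroup.index_ker, MonoidHom.range_eq_top.2 hsurjχ, Subgroup.card_top, hcard,
      show Nat.card (Multiplicative U) = 2 ^ (2 * n) from hcardU, hcenter, pow_succ'] at h
    exact Nat.eq_of_mul_eq_mul_right (by positivity) h
  have hcomm : commutator κ'.ker = Subgroup.center κ'.ker := by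
    refine le_antisymm (hcenter ▸ Abelianization.commutator_subset_ker χ) ?_
    refine ge_of_eq (Subgroup.eq_of_le_of_card_ge (hcenter ▸ Abelianization.commutator_subset_ker χ) ?_)
    rw [hcard_center]
    refine (Subgroup.one_lt_card_iff_ne_bot _).2 fun h => ?_
    rw [commutator_def, Subgroup.commutator_eq_bot_iff_le_centralizer] at h
    have htop : Subgroup.center κ'.ker = ⊤ := eq_top_iff.2 fun a _ => Subgroup.mem_center_iff.2 fun b =>
      Subgroup.mem_centralizer_iff.1 (h (Subgroup.mem_top a)) b (Subgroup.mem_top b)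
    rw [htop, Subgroup.card_top, hcard] at hcard_center
    have : 2 ^ 2 ≤ 2 ^ (2 * n + 1) := Nat.pow_le_pow_right (by norm_num) (by omega)
    omega
  have hsq : ∀ x, f x * f x = f (q x.2, 0) := fun x => by
    rw [hf_mul, add_self_zero x.2, add_self_zero x.1, zero_add, D.β_self]
  have hfrat : frattini κ'.ker = Subgroup.center κ'.ker := by
    refine le_antisymm (CfsgLib.FrattiniLe.frattini_le_of_pow_of_commutator (p := 2) (fun a => ?_) hcomm.le)
      (hcomm.ge.trans (CfsgLib.Coprime.commutator_le_frattini hP))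
    obtain ⟨x, rfl⟩ := hfbij.2 a
    rw [← hcenter, MonoidHom.mem_ker, pow_two, hsq, hχf]
    rfl
  refine ⟨R0, inferInstance, inferInstance, κ'.ker, inferInstance, e, χ,
    ⟨⟨hP, hfrat, hcomm⟩, hcard_center⟩, hcard, hsurjχ, hcenter, fun r a => ?_, fun a => ?_⟩
  · obtain ⟨⟨t, v⟩, rfl⟩ := hfbij.2 a
    obtain ⟨s, hs⟩ := hkap (ψ r) v
    have he : (e (r : R0 ⧸ κ'.ker)) = κ (ψ r) := rfl
    rw [he, hχf]
    have h1 : r * (f (t, v) : R0) = (f (t + s, ρ (κ (ψ r)) v) : R0) * r := ψ.injective (by
      rw [map_mul, map_mul]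
      show ψ r * ψ (ψ.symm (ttR t v)) = ψ (ψ.symm (ttR (t + s) _)) * ψ r
      rw [ψ.apply_symm_apply, ψ.apply_symm_apply]
      refine Subtype.ext (Subtype.ext ?_)
      show ((ψ r).1 : Matrix D.C D.C ℝ) * (sgn t • D.T v) =
        sgn (t + s) • D.T (ρ (κ (ψ r)) v) * ((ψ r).1 : Matrix D.C D.C ℝ)
      rw [Matrix.mul_smul, hs, smul_smul, ← sgn_add, Matrix.smul_mul]
      rfl)
    have h2 : (⟨r * (f (t, v) : R0) * r⁻¹, (inferInstance : κ'.ker.Normal).conj_mem _ (f (t, v)).2 r⟩ :
        κ'.ker) = f (t + s, ρ (κ (ψ r)) v) := Subtype.ext (by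
      show r * (f (t, v) : R0) * r⁻¹ = _
      rw [h1, mul_inv_cancel_right])
    rw [h2, hχf]
    rfl
  · obtain ⟨x, rfl⟩ := hfbij.2 a
    rw [hsq, hχf, ← hf_one]
    refine ⟨fun h => ?_, fun h => ?_⟩
    · exact congrArg Prod.fst (hfbij.1 h)
    · rw [show q x.2 = 0 from h]

end

end CfsgLib.ExtraExt
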