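import Cfsg.Agent.Lib.PGroup.ExtraspecialClassify
import Cfsg.Agent.Lib.Coprime.Solvable
import Mathlib.GroupTheory.IndexNormal

/-!
# Extraspecial groups: size of abelian subgroups, and overgroups of index `p`
-/

set_option autoImplicit false
set_option linter.unusedSectionVars false
set_option linter.style.haveILetI false

open Subgroup
open scoped commutatorElement

namespace CfsgLib.PGroup

universe u

variable {p : ℕ} [Fact p.Prime]

/-- Lagrange for a pair of subgroups. -/
theorem card_mul_relIndex {G : Type u} [Group G] (A B : Subgroup G) (h : A ≤ B) :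
    Nat.card A * A.relIndex B = Nat.card B := by
  rw [← relIndex_bot_left, ← relIndex_bot_left, relIndex_mul_relIndex _ _ _ bot_le h]

/-- In a group with small centre, `|C(A)| |A| ≤ p |G|`. -/
theorem SmallCenter.card_centralizer_mul_le {G : Type u} [Group G] [Finite G]
    (h : SmallCenter p G) (A : Subgroup G) (hA : center G ≤ A) :
    Nat.card (centralizer (A : Set G)) * Nat.card A ≤ p * Nat.card G := by
  induction A using WellFoundedGT.induction with
  | ind A ih =>
    by_cases htop : A = ⊤
    · subst htop
      rw [Subgroup.coe_top, centralizer_univ, h.card_center, Subgroup.card_top]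
    obtain ⟨g, hg⟩ := SetLike.exists_not_mem_of_ne_top _ htop
    set B := A ⊔ zpowers g with hB
    have hgB : g ∈ B := mem_sup_right (mem_zpowers g)
    have hAB : A < B := lt_of_le_of_ne le_sup_left fun e => hg (e ▸ hgB)
    have hi := ih B hAB (hA.trans hAB.le)
    have hstep : Nat.card A * p ≤ Nat.card B := by
      rw [← card_mul_relIndex A B hAB.le]
      refine Nat.mul_le_mul_left _ ?_
      have hne : A.relIndex B ≠ 1 := fun e => hAB.not_ge (relIndex_eq_one.1 e)
      have hpB : IsPGroup p B := by
        obtain ⟨k, hk⟩ : ∃ k, ∀ x : G, x ^ p ^ k = 1 := ⟨2, fun x => by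
          have hx := h.pow_mem x
          have e : (⟨x ^ p, hx⟩ : center G) ^ p = 1 := by
            have := pow_card_eq_one' (G := center G) (x := ⟨x ^ p, hx⟩)
            rwa [h.card_center] at this
          rw [pow_two, pow_mul]
          exact congrArg Subtype.val e⟩
        exact fun x => ⟨k, Subtype.ext (hk x)⟩
      obtain ⟨k, hk⟩ := IsPGroup.iff_card.1 hpB
      obtain ⟨j, -, hj⟩ := (Nat.dvd_prime_pow Fact.out).1
        (hk ▸ Dvd.intro_left (Nat.card A) (card_mul_relIndex A B hAB.le))
      rcases j with _ | j
      · exact absurd (hj.trans (pow_zero p)) hne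
      · rw [hj]; exact Nat.le_self_pow (by omega) p
    have hC : Nat.card (centralizer (A : Set G)) ≤ p * Nat.card (centralizer (B : Set G)) := by
      have hle : centralizer (B : Set G) ≤ centralizer (A : Set G) := centralizer_le hAB.le
      rw [← card_mul_relIndex _ _ hle, mul_comm p]
      refine Nat.mul_le_mul_left _ ?_
      set φ : centralizer (A : Set G) →* G :=
        (commHom h.comm_mem g).comp (centralizer (A : Set G)).subtype with hφ
      have hker : φ.ker ≤ (centralizer (B : Set G)).subgroupOf (centralizer (A : Set G)) := by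
        intro x hx
        rw [mem_subgroupOf, mem_centralizer_iff]
        have hxg : g ∈ centralizer {(x : G)} := mem_centralizer_singleton_iff.2
          (commutatorElement_eq_one_iff_mul_comm.1 (show ⁅(x : G), g⁆ = 1 from hx)).symm
        have hBle : B ≤ centralizer {(x : G)} := sup_le
          (fun a ha => mem_centralizer_singleton_iff.2 (mem_centralizer_iff.1 x.2 a ha))
          (zpowers_le.2 hxg)
        exact fun b hb => mem_centralizer_singleton_iff.1 (hBle hb)
      refine le_trans (Nat.le_of_dvd (Nat.pos_of_ne_zero φ.ker.index_ne_zero_of_finite)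
        (index_dvd_of_le hker)) ?_
      rw [index_ker]
      refine le_trans (Subgroup.card_le_of_le ?_) h.card_center.le
      rintro _ ⟨x, rfl⟩
      exact h.comm_mem _ _
    calc Nat.card (centralizer (A : Set G)) * Nat.card A
        ≤ p * Nat.card (centralizer (B : Set G)) * Nat.card A := Nat.mul_le_mul_right _ hC
      _ = Nat.card (centralizer (B : Set G)) * (Nat.card A * p) := by ring
      _ ≤ Nat.card (centralizer (B : Set G)) * Nat.card B := Nat.mul_le_mul_left _ hstep
      _ ≤ p * Nat.card G := hi

/-- Abelian subgroups of a group with small centre. -/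
theorem SmallCenter.card_abelian_le {G : Type u} [Group G] [Finite G]
    (h : SmallCenter p G) (A : Subgroup G) (hA : IsMulCommutative A) :
    Nat.card A * Nat.card A ≤ p * Nat.card G := by
  have hc : A ≤ centralizer ((A ⊔ center G : Subgroup G) : Set G) := by
    intro a ha
    have hle : A ⊔ center G ≤ centralizer {a} := sup_le
      (fun b hb => mem_centralizer_singleton_iff.2
        (congrArg Subtype.val (hA.is_comm.comm ⟨b, hb⟩ ⟨a, ha⟩)))
      (center_le_centralizer _)
    exact mem_centralizer_iff.2 fun b hb => mem_centralizer_singleton_iff.1 (hle hb)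
  calc Nat.card A * Nat.card A
      ≤ Nat.card (centralizer ((A ⊔ center G : Subgroup G) : Set G)) *
        Nat.card ↥(A ⊔ center G) :=
        Nat.mul_le_mul (Subgroup.card_le_of_le hc) (Subgroup.card_le_of_le le_sup_left)
    _ ≤ p * Nat.card G := h.card_centralizer_mul_le _ le_sup_right

section indexP

variable {S : Type u} [Group S] [Finite S]

/-- The centre of an extraspecial subgroup of index `p` is central. -/
theorem center_le_of_index_prime (hS : IsPGroup p S) (Q : Subgroup S)
    (hQ : Cfsg.IsExtraspecial p Q) (hQi : Q.index = p) :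
    Q.Normal ∧ (center Q).map Q.subtype ≤ center S := by
  have hn : Q.Normal := by
    haveI : Group.IsNilpotent S := hS.isNilpotent
    refine Subgroup.normal_of_index_eq_minFac_card ?_
    rw [hQi]
    obtain ⟨k, hk⟩ := IsPGroup.iff_card.1 hS
    have hk0 : k ≠ 0 := by
      rintro rfl
      have := Q.index_dvd_card
      rw [hk, pow_zero, hQi] at this
      exact (Fact.out : p.Prime).one_lt.ne' (Nat.eq_one_of_dvd_one this)
    rw [hk, Nat.Prime.pow_minFac Fact.out hk0]
  refine ⟨hn, ?_⟩
  set Z := (center Q).map Q.subtype with hZ
  haveI : Z.Normal := inferInstance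
  have hcard : Nat.card Z = p := by
    rw [hZ, Subgroup.card_map_of_injective Q.subtype_injective]; exact hQ.2
  intro z hz
  refine mem_center_iff.2 fun s => ?_
  -- a normal subgroup of order `p` in a `p`-group
  have hact : ∀ t : S, t * z * t⁻¹ ∈ Z := fun t => (inferInstance : Z.Normal).conj_mem z hz t
  have hne : Z ⊓ center S ≠ ⊥ := by
    haveI : Nontrivial Z := by
      rw [← Finite.one_lt_card_iff_nontrivial, hcard]; exact (Fact.out : p.Prime).one_lt
    haveI : Group.IsNilpotent S := hS.isNilpotent
    exact CfsgLib.Coprime.nilpotent_inf_center_ne_bot Z ((nontrivial_iff_ne_bot Z).1 inferInstance)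
  have hle : Z ≤ center S := by
    have hd := Subgroup.card_dvd_of_le (inf_le_left : Z ⊓ center S ≤ Z)
    rw [hcard] at hd
    rcases (Nat.dvd_prime Fact.out).1 hd with e | e
    · exact absurd (eq_bot_of_card_eq _ e) hne
    · exact inf_eq_left.1 (eq_of_le_of_card_ge inf_le_left (by rw [hcard, e]))
  exact mem_center_iff.1 (hle hz) s

end indexP

end CfsgLib.PGroup
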