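import Mathlib
import Cfsg.Agent.Lib.PGroup.ExtraspecialClassify

/-!
# The commutator pairing of an extraspecial 2-group and involutory automorphisms
-/

set_option autoImplicit false
set_option linter.style.haveILetI false

open Subgroup
open scoped commutatorElement

namespace CfsgLib.ESPairing

variable {P : Type*} [Group P] [Finite P]

variable (hP : CfsgLib.PGroup.SmallCenter 2 P)

include hP in
theorem center_two {a b : P} (ha : a ∈ center P) (hb : b ∈ center P) (ha1 : a ≠ 1) (hb1 : b ≠ 1) :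
    a = b := by
  haveI : Fact (Nat.Prime 2) := ⟨Nat.prime_two⟩
  obtain ⟨k, hk⟩ := hP.zpowers_cover ha ha1 hb
  have hk' : a ^ k = b := hk
  rcases Int.even_or_odd k with ⟨m, hm⟩ | ⟨m, hm⟩
  · exfalso
    refine hb1 ?_
    rw [← hk', hm, ← two_mul, zpow_mul, zpow_ofNat, ← hP.orderOf_eq ha ha1, pow_orderOf_eq_one, one_zpow]
  · rw [← hk', hm, zpow_add, zpow_mul, zpow_ofNat, ← hP.orderOf_eq ha ha1, pow_orderOf_eq_one, one_zpow,
      one_mul, zpow_one]

include hP in
theorem comm_mul_right (a b c : P) : ⁅a, b * c⁆ = ⁅a, b⁆ * ⁅a, c⁆ := by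
  have h := mem_center_iff.1 (hP.comm_mem a c) b
  calc ⁅a, b * c⁆ = ⁅a, b⁆ * (b * ⁅a, c⁆ * b⁻¹) := by simp only [commutatorElement_def]; group
    _ = ⁅a, b⁆ * ⁅a, c⁆ := by rw [h, mul_inv_cancel_right]

include hP in
theorem comm_mul_left (a b c : P) : ⁅a * b, c⁆ = ⁅a, c⁆ * ⁅b, c⁆ := by
  have h := mem_center_iff.1 (hP.comm_mem b c) a
  calc ⁅a * b, c⁆ = (a * ⁅b, c⁆ * a⁻¹) * ⁅a, c⁆ := by simp only [commutatorElement_def]; group
    _ = ⁅b, c⁆ * ⁅a, c⁆ := by rw [h, mul_inv_cancel_right]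
    _ = ⁅a, c⁆ * ⁅b, c⁆ := mem_center_iff.1 (hP.comm_mem a c) _

include hP in
/-- The elements of `H` commuting with `d` make up half of `H` unless all do. -/
theorem card_inf_centralizer {H : Subgroup P} {d h : P} (hh : h ∈ H) (hne : ⁅h, d⁆ ≠ 1) :
    2 * Nat.card ↥(H ⊓ centralizer ({d} : Set P)) = Nat.card H ∧
      ∀ x ∈ H, x ∈ centralizer ({d} : Set P) ∨ x * h⁻¹ ∈ centralizer ({d} : Set P) := by
  set φ : H →* center P := MonoidHom.mk' (fun x => ⟨⁅(x : P), d⁆, hP.comm_mem _ _⟩)
    (fun a b => Subtype.ext (comm_mul_left hP (a : P) b d)) with hφ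
  have hker : φ.ker = (H ⊓ centralizer ({d} : Set P)).subgroupOf H := by
    ext x
    rw [MonoidHom.mem_ker, mem_subgroupOf, mem_inf, mem_centralizer_singleton_iff, Subtype.ext_iff]
    exact ⟨fun e => ⟨x.2, commutatorElement_eq_one_iff_mul_comm.1 e⟩,
      fun e => commutatorElement_eq_one_iff_mul_comm.2 e.2⟩
  have hsurj : Function.Surjective φ := by
    intro c
    by_cases hc : c = 1
    · exact ⟨1, by rw [map_one, hc]⟩
    · exact ⟨⟨h, hh⟩, Subtype.ext (center_two hP (hP.comm_mem _ _) c.2 hne fun e => hc (Subtype.ext e))⟩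
  refine ⟨?_, fun x hx => ?_⟩
  · have e1 := φ.ker.card_eq_card_quotient_mul_card_subgroup
    rw [Nat.card_congr (QuotientGroup.quotientKerEquivOfSurjective φ hsurj).toEquiv, hP.card_center,
      hker, Nat.card_congr (subgroupOfEquivOfLe inf_le_left).toEquiv] at e1
    exact e1.symm
  · by_cases hx1 : ⁅x, d⁆ = 1
    · exact Or.inl (mem_centralizer_singleton_iff.2 (commutatorElement_eq_one_iff_mul_comm.1 hx1))
    · refine Or.inr (mem_centralizer_singleton_iff.2 (commutatorElement_eq_one_iff_mul_comm.1 ?_))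
      have e := center_two hP (hP.comm_mem x d) (hP.comm_mem h d) hx1 hne
      have h1 := comm_mul_left hP (x * h⁻¹) h d
      rw [inv_mul_cancel_right, e] at h1
      exact mul_eq_right.1 h1.symm

include hP in
/-- `|H : C_H(D)| = |D : C_D(H)|`. -/
theorem pairing_card (H D : Subgroup P) :
    Nat.card H * Nat.card ↥(D ⊓ centralizer (H : Set P)) =
      Nat.card D * Nat.card ↥(H ⊓ centralizer (D : Set P)) := by
  induction D using WellFoundedLT.induction generalizing H with
  | ind D ih =>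
    by_cases hall : ∀ d ∈ D, d ∈ centralizer (H : Set P)
    · have e1 : D ⊓ centralizer (H : Set P) = D := inf_eq_left.2 hall
      have e2 : H ⊓ centralizer (D : Set P) = H := inf_eq_left.2 fun x hx =>
        mem_centralizer_iff.2 fun d hd => (mem_centralizer_iff.1 (hall d hd) x hx).symm
      rw [e1, e2, mul_comm]
    push Not at hall
    obtain ⟨d, hdD, hd⟩ := hall
    obtain ⟨h, hhH, hne⟩ : ∃ h ∈ H, ⁅h, d⁆ ≠ 1 := by
      by_contra hno
      push Not at hno
      exact hd (mem_centralizer_iff.2 fun x hx => commutatorElement_eq_one_iff_mul_comm.1 (hno x hx))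
    have hne' : ⁅d, h⁆ ≠ 1 := fun e => hne (by rw [← commutatorElement_inv, e, inv_one])
    obtain ⟨cH, sH⟩ := card_inf_centralizer hP hhH hne
    obtain ⟨cD, sD⟩ := card_inf_centralizer hP hdD hne'
    set H' := H ⊓ centralizer ({d} : Set P) with hH'
    set D' := D ⊓ centralizer ({h} : Set P) with hD'
    have hlt : D' < D := lt_of_le_of_ne inf_le_left fun e => by
      have hc : d ∈ D' := e.symm ▸ hdD
      exact hne' (commutatorElement_eq_one_iff_mul_comm.2 (mem_centralizer_singleton_iff.1 hc.2))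
    have k1 : D' ⊓ centralizer (H' : Set P) = D ⊓ centralizer (H : Set P) := by
      refine le_antisymm (fun x hx => ⟨hx.1.1, mem_centralizer_iff.2 fun y hy => ?_⟩) fun x hx =>
        ⟨⟨hx.1, mem_centralizer_singleton_iff.2 (mem_centralizer_iff.1 hx.2 h hhH).symm⟩,
          mem_centralizer_iff.2 fun y hy => mem_centralizer_iff.1 hx.2 y hy.1⟩
      have hxh : Commute x h := mem_centralizer_singleton_iff.1 hx.1.2
      rcases sH y hy with h1 | h1
      · exact mem_centralizer_iff.1 hx.2 y ⟨hy, h1⟩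
      · have h2 : Commute (y * h⁻¹) x := mem_centralizer_iff.1 hx.2 _ ⟨H.mul_mem hy (H.inv_mem hhH), h1⟩
        have h3 := h2.mul_left hxh.symm
        rw [inv_mul_cancel_right] at h3
        exact h3.eq
    have k2 : H' ⊓ centralizer (D' : Set P) = H ⊓ centralizer (D : Set P) := by
      refine le_antisymm (fun x hx => ⟨hx.1.1, mem_centralizer_iff.2 fun y hy => ?_⟩) fun x hx =>
        ⟨⟨hx.1, mem_centralizer_singleton_iff.2 (mem_centralizer_iff.1 hx.2 d hdD).symm⟩,
          mem_centralizer_iff.2 fun y hy => mem_centralizer_iff.1 hx.2 y hy.1⟩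
      have hxd : Commute x d := mem_centralizer_singleton_iff.1 hx.1.2
      rcases sD y hy with h1 | h1
      · exact mem_centralizer_iff.1 hx.2 y ⟨hy, h1⟩
      · have h2 : Commute (y * d⁻¹) x := mem_centralizer_iff.1 hx.2 _ ⟨D.mul_mem hy (D.inv_mem hdD), h1⟩
        have h3 := h2.mul_left hxd.symm
        rw [inv_mul_cancel_right] at h3
        exact h3.eq
    have := ih D' hlt H'
    rw [k1, k2] at this
    rw [← cH, ← cD, mul_assoc, this, mul_assoc]

variable (σ : P ≃* P)

/-- The commutators `[σ, q]`. -/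
def commGen : Subgroup P := closure (Set.range fun q => σ q * q⁻¹)

theorem comm_mem_gen (q : P) : σ q * q⁻¹ ∈ commGen σ := subset_closure ⟨q, rfl⟩

theorem gen_normal : (commGen σ).Normal := by
  have key : ∀ q x : P, q * (σ x * x⁻¹) * q⁻¹ ∈ commGen σ := by
    intro q x
    have e : q * (σ x * x⁻¹) * q⁻¹ = (σ q * q⁻¹)⁻¹ * (σ (q * x) * (q * x)⁻¹) := by
      rw [map_mul]; group
    rw [e]
    exact mul_mem (inv_mem (comm_mem_gen σ q)) (comm_mem_gen σ _)
  refine ⟨fun x hx q => ?_⟩
  rw [commGen] at hx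
  induction hx using closure_induction with
  | mem y hy => obtain ⟨w, rfl⟩ := hy; exact key q w
  | one => simp
  | mul a b _ _ ha hb =>
    rw [show q * (a * b) * q⁻¹ = (q * a * q⁻¹) * (q * b * q⁻¹) by group]; exact mul_mem ha hb
  | inv a _ ha =>
    rw [show q * a⁻¹ * q⁻¹ = (q * a * q⁻¹)⁻¹ by group]; exact inv_mem ha

variable {σ}

/-- The elements moved by `σ` into the centre. -/
def fixModCenter (σ : P ≃* P) : Subgroup P where
  carrier := {q | σ q * q⁻¹ ∈ center P}
  mul_mem' {a b} ha hb := by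
    show σ (a * b) * (a * b)⁻¹ ∈ center P
    have e : σ (a * b) * (a * b)⁻¹ = (σ a * a⁻¹) * (σ b * b⁻¹) := by
      rw [map_mul, show σ a * σ b * (a * b)⁻¹ = σ a * (σ b * b⁻¹) * a⁻¹ by group,
        mul_assoc (σ a), ← mem_center_iff.1 hb a⁻¹, ← mul_assoc]
    rw [e]; exact mul_mem ha hb
  one_mem' := by show σ 1 * 1⁻¹ ∈ center P; simp
  inv_mem' {a} ha := by
    show σ a⁻¹ * a⁻¹⁻¹ ∈ center P
    have e : σ a⁻¹ * a⁻¹⁻¹ = a⁻¹ * (σ a * a⁻¹)⁻¹ * a := by rw [map_inv]; group
    rw [e, mem_center_iff.1 (inv_mem ha) a⁻¹, inv_mul_cancel_right]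
    exact inv_mem ha

include hP in
/-- The commutators of an involutory automorphism generate the centre of the elements it fixes
modulo the centre. -/
theorem commGen_eq (hσ : ∀ q, σ (σ q) = q) (hne : fixModCenter σ ≠ ⊤) :
    commGen σ = fixModCenter σ ⊓ centralizer (fixModCenter σ : Set P) := by
  haveI : Fact (Nat.Prime 2) := ⟨Nat.prime_two⟩
  set Q₀ := fixModCenter σ with hQ₀
  set K := commGen σ with hK
  haveI hKn : K.Normal := gen_normal σ
  have hσZ : ∀ c ∈ center P, σ c = c := by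
    intro c hc
    by_cases hc1 : c = 1
    · rw [hc1, map_one]
    · refine center_two hP (mem_center_iff.2 fun x => ?_) hc (fun e => hc1 (σ.injective (e.trans (map_one σ).symm))) hc1
      obtain ⟨y, rfl⟩ := σ.surjective x
      rw [← map_mul, ← map_mul, mem_center_iff.1 hc y]
  have hK0 : K ≤ Q₀ ⊓ centralizer (Q₀ : Set P) := by
    rw [hK, commGen, closure_le]
    rintro _ ⟨q, rfl⟩
    refine ⟨?_, mem_centralizer_iff.2 fun r hr => ?_⟩
    · show σ (σ q * q⁻¹) * (σ q * q⁻¹)⁻¹ ∈ center P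
      rw [map_mul, map_inv, hσ,
        show q * (σ q)⁻¹ * (σ q * q⁻¹)⁻¹ = ((σ q * q⁻¹) ^ 2)⁻¹ by rw [sq]; group]
      exact inv_mem (hP.pow_mem _)
    · have hr' : σ r * r⁻¹ ∈ center P := hr
      have e1 : ⁅σ q, σ r⁆ = ⁅σ q, r⁆ := by
        conv_lhs => rw [show σ r = (σ r * r⁻¹) * r by group, comm_mul_right hP,
          show ⁅σ q, σ r * r⁻¹⁆ = 1 from commutatorElement_eq_one_iff_mul_comm.2 (mem_center_iff.1 hr' _), one_mul]
      have e2 : ⁅σ q, r⁆ = ⁅q, r⁆ := by
        rw [← e1, ← map_commutatorElement]; exact hσZ _ (hP.comm_mem _ _)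
      refine (commutatorElement_eq_one_iff_mul_comm.1 ?_).symm
      show ⁅σ q * q⁻¹, r⁆ = 1
      have h1 := comm_mul_left hP (σ q * q⁻¹) q r
      rw [inv_mul_cancel_right, e2] at h1
      exact mul_eq_right.1 h1.symm
  have hKne : K ≠ ⊥ := by
    intro h0
    refine hne (eq_top_iff.2 fun q _ => ?_)
    have := comm_mem_gen σ q
    rw [← hK, h0, mem_bot] at this
    show σ q * q⁻¹ ∈ center P
    rw [this]; exact one_mem _
  have hZK : center P ≤ K := by
    intro c hc
    by_cases hc1 : c = 1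
    · rw [hc1]; exact one_mem _
    obtain ⟨k, hk, hk1⟩ := K.bot_or_exists_ne_one.resolve_left hKne
    by_cases hkZ : k ∈ center P
    · rw [center_two hP hc hkZ hc1 hk1]; exact hk
    obtain ⟨y, hy⟩ : ∃ y, ⁅y, k⁆ ≠ 1 := by
      by_contra h
      push Not at h
      exact hkZ (mem_center_iff.2 fun y => commutatorElement_eq_one_iff_mul_comm.1 (h y))
    rw [center_two hP hc (hP.comm_mem y k) hc1 hy, commutatorElement_def]
    exact mul_mem (hKn.conj_mem k hk y) (inv_mem hk)
  -- counting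
  set φ : P →* P ⧸ center P := MonoidHom.mk' (fun q => QuotientGroup.mk (σ q * q⁻¹)) (fun a b => by
    show QuotientGroup.mk _ = QuotientGroup.mk _ * QuotientGroup.mk _
    rw [← QuotientGroup.mk_mul, map_mul, QuotientGroup.eq]
    have e : (σ a * σ b * (a * b)⁻¹)⁻¹ * (σ a * a⁻¹ * (σ b * b⁻¹)) = a * ⁅(σ b * b⁻¹)⁻¹, a⁻¹⁆ * a⁻¹ := by
      simp only [commutatorElement_def]; group
    rw [e, mem_center_iff.1 (hP.comm_mem _ _) a, mul_inv_cancel_right]
    exact hP.comm_mem _ _) with hφ
  have hker : φ.ker = Q₀ := by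
    ext q
    rw [MonoidHom.mem_ker]
    exact QuotientGroup.eq_one_iff _
  have hrange : φ.range = K.map (QuotientGroup.mk' (center P)) := by
    refine le_antisymm ?_ ?_
    · rintro _ ⟨q, rfl⟩
      exact ⟨_, comm_mem_gen σ q, rfl⟩
    · rw [hK, commGen, MonoidHom.map_closure, closure_le]
      rintro _ ⟨_, ⟨q, rfl⟩, rfl⟩
      exact ⟨q, rfl⟩
  have c1 : Nat.card P = Nat.card φ.range * Nat.card Q₀ := by
    rw [← hker, φ.ker.card_eq_card_quotient_mul_card_subgroup,
      Nat.card_congr (QuotientGroup.quotientKerEquivRange φ).toEquiv]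
  have c2 : Nat.card φ.range * 2 = Nat.card K := by
    set g := (QuotientGroup.mk' (center P)).comp K.subtype with hg
    have e1 : g.range = K.map (QuotientGroup.mk' (center P)) := by
      rw [hg, MonoidHom.range_comp, range_subtype]
    have e2 : g.ker = (center P).subgroupOf K := by
      rw [hg, ← MonoidHom.comap_ker, QuotientGroup.ker_mk']; rfl
    rw [hrange, ← e1, g.ker.card_eq_card_quotient_mul_card_subgroup,
      Nat.card_congr (QuotientGroup.quotientKerEquivRange g).toEquiv, e2,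
      Nat.card_congr (subgroupOfEquivOfLe hZK).toEquiv, hP.card_center]
  have c3 := pairing_card hP ⊤ Q₀
  rw [Subgroup.card_top, top_inf_eq, coe_top, centralizer_univ, inf_eq_right.2 (
    ((show center P ≤ Q₀ from fun c hc => by show σ c * c⁻¹ ∈ center P; rw [hσZ c hc, mul_inv_cancel]; exact one_mem _))),
    hP.card_center] at c3
  have hcard : Nat.card K = Nat.card (centralizer (Q₀ : Set P)) := by
    have hpos : 0 < Nat.card Q₀ := Nat.card_pos
    refine Nat.eq_of_mul_eq_mul_right hpos ?_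
    rw [← c2, mul_comm (Nat.card (centralizer (Q₀ : Set P))), ← c3, c1]
    ring
  refine le_antisymm hK0 ?_
  have := eq_of_le_of_card_ge (hK0.trans inf_le_right) hcard.ge
  rw [this]
  exact inf_le_right

include hP in
/-- An automorphism trivial modulo the centre agrees with conjugation by some element. -/
theorem exists_inner (htriv : ∀ q, σ q * q⁻¹ ∈ center P) : ∃ u : P, ∀ q, σ q = u * q * u⁻¹ := by
  classical
  haveI : Fact (Nat.Prime 2) := ⟨Nat.prime_two⟩
  set f : P →* center P := MonoidHom.mk' (fun q => ⟨σ q * q⁻¹, htriv q⟩) (fun a b => Subtype.ext (by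
    show σ (a * b) * (a * b)⁻¹ = (σ a * a⁻¹) * (σ b * b⁻¹)
    rw [map_mul, show σ a * σ b * (a * b)⁻¹ = σ a * (σ b * b⁻¹) * a⁻¹ by group,
      mul_assoc (σ a), ← mem_center_iff.1 (htriv b) a⁻¹, ← mul_assoc])) with hf
  by_cases hall : ∀ q, σ q = q
  · exact ⟨1, fun q => by rw [hall q]; group⟩
  push Not at hall
  obtain ⟨q₁, hq₁⟩ := hall
  have hq1' : σ q₁ * q₁⁻¹ ≠ 1 := fun e => hq₁ (mul_inv_eq_one.1 e)
  set W := f.ker with hW
  have hWne : W ≠ ⊤ := fun e => hq1' (congrArg Subtype.val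
    (MonoidHom.mem_ker.1 (show q₁ ∈ f.ker from hW ▸ e ▸ mem_top q₁)))
  have hZW : center P ≤ W := by
    intro c hc
    refine MonoidHom.mem_ker.2 (Subtype.ext ?_)
    show σ c * c⁻¹ = 1
    by_cases hc1 : c = 1
    · rw [hc1, map_one, inv_one, mul_one]
    · rw [mul_inv_eq_one]
      refine center_two hP (mem_center_iff.2 fun x => ?_) hc (fun e => hc1 (σ.injective (e.trans (map_one σ).symm))) hc1
      obtain ⟨y, rfl⟩ := σ.surjective x
      rw [← map_mul, ← map_mul, mem_center_iff.1 hc y]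
  have c3 := pairing_card hP ⊤ W
  rw [Subgroup.card_top, top_inf_eq, coe_top, centralizer_univ, inf_eq_right.2 hZW, hP.card_center] at c3
  obtain ⟨u, hu, huZ⟩ : ∃ u ∈ centralizer (W : Set P), u ∉ center P := by
    by_contra hno
    push Not at hno
    have hle : Nat.card (centralizer (W : Set P)) ≤ 2 := hP.card_center ▸ card_le_of_le hno
    refine hWne (Subgroup.eq_top_of_le_card W ?_)
    have := Nat.mul_le_mul_left (Nat.card W) hle
    omega
  refine ⟨u, fun q => ?_⟩
  obtain ⟨r, hr⟩ : ∃ r : P, ⁅u, r⁆ ≠ 1 := by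
    by_contra h
    push Not at h
    exact huZ (mem_center_iff.2 fun r => (commutatorElement_eq_one_iff_mul_comm.1 (h r)).symm)
  have hrW : σ r * r⁻¹ ≠ 1 := fun e => hr (commutatorElement_eq_one_iff_mul_comm.2
    (mem_centralizer_iff.1 hu r (MonoidHom.mem_ker.2 (Subtype.ext e))).symm)
  have key : ∀ q, σ q * q⁻¹ = ⁅u, q⁆ := by
    intro q
    by_cases hq : σ q * q⁻¹ = 1
    · rw [hq]
      exact (commutatorElement_eq_one_iff_mul_comm.2
        (mem_centralizer_iff.1 hu q (MonoidHom.mem_ker.2 (Subtype.ext hq))).symm).symm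
    · have hqr : q * r⁻¹ ∈ W := by
        refine MonoidHom.mem_ker.2 ?_
        rw [map_mul, map_inv, mul_inv_eq_one]
        exact Subtype.ext (center_two hP (htriv q) (htriv r) hq hrW)
      have h1 : ⁅u, q⁆ = ⁅u, r⁆ := by
        have h2 := comm_mul_right hP u (q * r⁻¹) r
        rw [inv_mul_cancel_right, show ⁅u, q * r⁻¹⁆ = 1 from
          commutatorElement_eq_one_iff_mul_comm.2 (mem_centralizer_iff.1 hu _ hqr).symm, one_mul] at h2
        exact h2
      rw [h1]
      exact center_two hP (htriv q) (hP.comm_mem u r) hq hr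
  have := key q
  rw [mul_inv_eq_iff_eq_mul, commutatorElement_def, inv_mul_cancel_right] at this
  exact this

end CfsgLib.ESPairing
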