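import Cfsg.Agent.Lib.Perm.Dickson.Finite
import Cfsg.Agent.Lib.Perm.Dickson.Subfield
import Cfsg.Agent.Lib.Qd.Section
import Cfsg.Agent.Lib.Fusion.Sylow
import Cfsg.Prelude.Def_Transfer

/-!
# Fused elementary planes of an extraspecial Sylow subgroup of order `p³`
-/

set_option autoImplicit false

namespace CfsgLib.ExtraPlanes

open CfsgLib.Perm.Dickson

universe u

/-! ### Finite subgroups of `PGL(2, p)` of order prime to `p` -/

theorem alt_four_orders : ∀ g : alternatingGroup (Fin 4), g ^ 2 = 1 ∨ g ^ 3 = 1 := by decide +kernel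

theorem alt_five_orders : ∀ g : alternatingGroup (Fin 5), g ^ 2 = 1 ∨ g ^ 3 = 1 ∨ g ^ 5 = 1 := by decide +kernel

theorem perm_four_orders : ∀ g : Equiv.Perm (Fin 4), g ^ 3 = 1 ∨ g ^ 4 = 1 := by decide +kernel

theorem perm_four_count :
    (Finset.univ.filter fun g : Equiv.Perm (Fin 4) => g ^ 4 = 1 ∧ g ^ 2 ≠ 1).card = 6 := by decide +kernel

set_option maxRecDepth 4000 in
theorem points_bound {p : ℕ} [hp : Fact p.Prime] (H : Subgroup (G2 (ZMod p))) (hH : ¬ p ∣ Nat.card H) {m : ℕ}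
    (hm : 4 ≤ m) (X : Finset (P2 (ZMod p))) (hX : 3 ≤ X.card)
    (h : ∀ x ∈ X, ∃ g ∈ H, g • x = x ∧ m ∣ orderOf g) : m ≤ 5 ∧ (m = 4 → X.card ≤ 12) := by
  classical
  haveI := finite_G2 (F := ZMod p)
  have hord : ∀ g ∈ H, m ∣ orderOf g → 4 ≤ orderOf g := fun g hg hd =>
    hm.trans (Nat.le_of_dvd (orderOf_pos g) hd)
  have hne1 : ∀ g ∈ H, m ∣ orderOf g → g ≠ 1 ∧ g ^ 2 ≠ 1 := by
    intro g hg hd
    have h4 := hord g hg hd
    refine ⟨fun e => by rw [e, orderOf_one] at h4; omega, fun e => ?_⟩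
    have := Nat.le_of_dvd (by norm_num) (orderOf_dvd_of_pow_eq_one e)
    omega
  have three : ∀ g : G2 (ZMod p), g ≠ 1 → (X.filter fun x => g • x = x).card ≤ 2 := by
    intro g hg
    by_contra hcon
    obtain ⟨a, b, c, ha, hb, hc, hab, hac, hbc⟩ := Finset.two_lt_card_iff.1 (not_le.1 hcon)
    exact hg (eq_one_of_three hab hac hbc (Finset.mem_filter.1 ha).2 (Finset.mem_filter.1 hb).2
      (Finset.mem_filter.1 hc).2)
  have hcard : ∀ (a b : P2 (ZMod p)), (∀ x ∈ X, x = a ∨ x = b) → False := by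
    intro a b hall
    have : X.card ≤ ({a, b} : Finset (P2 (ZMod p))).card := Finset.card_le_card fun x hx => by
      simpa using hall x hx
    have := Finset.card_le_two (a := a) (b := b)
    omega
  have hpair : ∀ (a b : P2 (Kc (ZMod p))), a ≠ b → (∀ g ∈ H, m ∣ orderOf g →
      ∃ g' : G2 (ZMod p), g' ∈ Subgroup.zpowers g ∧ g' ≠ 1 ∧ g' ∈ pairFix a b) → False := by
    intro a b hab hg'
    obtain ⟨x₁, hx₁, x₂, hx₂, x₃, hx₃, h12, h13, h23⟩ : ∃ x₁ ∈ X, ∃ x₂ ∈ X, ∃ x₃ ∈ X, x₁ ≠ x₂ ∧ x₁ ≠ x₃ ∧ x₂ ≠ x₃ := by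
      obtain ⟨a, b, c, ha, hb, hc, hab, hac, hbc⟩ := Finset.two_lt_card_iff.1 hX
      exact ⟨a, ha, b, hb, c, hc, hab, hac, hbc⟩
    have hin : ∀ x ∈ X, mapP (iF (ZMod p)) x = a ∨ mapP (iF (ZMod p)) x = b := by
      intro x hx
      obtain ⟨g, hgH, hgx, hgm⟩ := h x hx
      obtain ⟨g', hz, hne, hfa, hfb⟩ := hg' g hgH hgm
      have hg'x : g' • x = x := by
        obtain ⟨k, rfl⟩ := Subgroup.mem_zpowers_iff.1 hz
        exact (zpow_mem (show g ∈ MulAction.stabilizer (G2 (ZMod p)) x from hgx) k : _)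
      by_contra hcon
      push Not at hcon
      refine hne ((map_eq_one_iff _ (mapG_injective (iF (ZMod p)))).1
        (eq_one_of_three hab (Ne.symm hcon.1) (Ne.symm hcon.2) hfa hfb ((fix_map_iff g' x).2 hg'x)))
    have inj := mapP_injective (iF (ZMod p))
    rcases hin _ hx₁ with e1 | e1 <;> rcases hin _ hx₂ with e2 | e2 <;> rcases hin _ hx₃ with e3 | e3 <;>
      first
        | exact h12 (inj (e1.trans e2.symm))
        | exact h13 (inj (e1.trans e3.symm))
        | exact h23 (inj (e2.trans e3.symm))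
  cases classify_finite p H with
  | borel x hx =>
    exfalso
    have hsingle : ∀ g ∈ H, (∀ y : P2 (ZMod p), g • y = y → y = x) → g = 1 := by
      intro g hg hy
      have h1 := pow_char_of_single p (hx g hg) hy
      have h2 : orderOf g ∣ Nat.card H := by
        rw [show orderOf g = orderOf (⟨g, hg⟩ : H) from (Subgroup.orderOf_mk g hg).symm]
        exact orderOf_dvd_natCard _
      exact orderOf_eq_one_iff.1 (Nat.eq_one_of_dvd_coprimes (hp.out.coprime_iff_not_dvd.2 hH)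
        (orderOf_dvd_of_pow_eq_one h1) h2)
    haveI := isCyclic_of_fix H hx hsingle
    letI := IsCyclic.commGroup (α := H)
    obtain ⟨x₁, hx₁⟩ := Finset.card_pos.1 (show 0 < X.card by omega)
    obtain ⟨g, hgH, -, hgm⟩ := h x₁ hx₁
    have hg1 := (hne1 g hgH hgm).1
    obtain ⟨y, hgy, hyx⟩ : ∃ y, g • y = y ∧ y ≠ x := by
      by_contra hcon
      push Not at hcon
      exact hg1 (hsingle g hgH hcon)
    refine hcard x y fun w hw => ?_
    obtain ⟨k, hkH, hkw, hkm⟩ := h w hw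
    have hky : k • y = y := by
      have hc : k * g = g * k := congrArg Subtype.val (mul_comm (⟨k, hkH⟩ : H) ⟨g, hgH⟩)
      have h3 : g • (k • y) = k • y := by rw [← mul_smul, ← hc, mul_smul, hgy]
      by_contra hne
      have hnx : k • y ≠ x := fun e => hyx (MulAction.injective k (e.trans (hx k hkH).symm))
      exact hg1 (eq_one_of_three (Ne.symm hne) hyx hnx hgy h3 (hx g hgH))
    by_contra hcon
    push Not at hcon
    exact (hne1 k hkH hkm).1 (eq_one_of_three hyx (Ne.symm hcon.2) (Ne.symm hcon.1) hky (hx k hkH) hkw)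
  | cyclic a b hg hle _ =>
    exact (hpair a b hg.1 fun g hgH hgm => ⟨g, Subgroup.mem_zpowers g, (hne1 g hgH hgm).1, hle hgH⟩).elim
  | dihedral a b hg hle _ _ =>
    refine (hpair a b hg.1 fun g hgH hgm => ⟨g ^ 2, Subgroup.pow_mem _ (Subgroup.mem_zpowers g) 2, (hne1 g hgH hgm).2, ?_⟩).elim
    rw [pow_two]
    by_cases hf : g ∈ pairFix a b
    · exact mul_mem hf hf
    · exact mul_mem_of_swap (hle hgH) hf (hle hgH) hf
  | a4 hN h2 h3 he =>
    exfalso
    obtain ⟨e⟩ := he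
    obtain ⟨x₁, hx₁⟩ := Finset.card_pos.1 (show 0 < X.card by omega)
    obtain ⟨g, hgH, -, hgm⟩ := h x₁ hx₁
    have ho : orderOf (e ⟨g, hgH⟩) = orderOf g := by rw [MulEquiv.orderOf_eq, Subgroup.orderOf_mk]
    have h4 := hord g hgH hgm
    rcases alt_four_orders (e ⟨g, hgH⟩) with h5 | h5 <;>
      have := Nat.le_of_dvd (by norm_num) (orderOf_dvd_of_pow_eq_one h5) <;> omega
  | a5 hN h2 h3 he =>
    obtain ⟨e⟩ := he
    obtain ⟨x₁, hx₁⟩ := Finset.card_pos.1 (show 0 < X.card by omega)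
    obtain ⟨g, hgH, -, hgm⟩ := h x₁ hx₁
    have ho : orderOf (e ⟨g, hgH⟩) = orderOf g := by rw [MulEquiv.orderOf_eq, Subgroup.orderOf_mk]
    have h4 := hord g hgH hgm
    rcases alt_five_orders (e ⟨g, hgH⟩) with h5 | h5 | h5
    · have := Nat.le_of_dvd (by norm_num) (orderOf_dvd_of_pow_eq_one h5); omega
    · have := Nat.le_of_dvd (by norm_num) (orderOf_dvd_of_pow_eq_one h5); omega
    · have h6 : m ∣ 5 := hgm.trans (ho ▸ orderOf_dvd_of_pow_eq_one h5)
      have := Nat.le_of_dvd (by norm_num) h6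
      refine ⟨this, fun hm4 => ?_⟩
      rw [hm4] at h6
      norm_num at h6
  | s4 hN h2 h3 he =>
    obtain ⟨e⟩ := he
    have hq : ∀ g (hg : g ∈ H), m ∣ orderOf g → e ⟨g, hg⟩ ^ 4 = 1 ∧ e ⟨g, hg⟩ ^ 2 ≠ 1 := by
      intro g hgH hgm
      have ho : orderOf (e ⟨g, hgH⟩) = orderOf g := by rw [MulEquiv.orderOf_eq, Subgroup.orderOf_mk]
      have h4 := hord g hgH hgm
      refine ⟨(perm_four_orders _).resolve_left fun h5 => ?_, fun h5 => ?_⟩ <;>
        have := Nat.le_of_dvd (by norm_num) (orderOf_dvd_of_pow_eq_one h5) <;> omega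
    refine ⟨?_, fun _ => ?_⟩
    · obtain ⟨x₁, hx₁⟩ := Finset.card_pos.1 (show 0 < X.card by omega)
      obtain ⟨g, hgH, -, hgm⟩ := h x₁ hx₁
      have ho : orderOf (e ⟨g, hgH⟩) = orderOf g := by rw [MulEquiv.orderOf_eq, Subgroup.orderOf_mk]
      have h5 := (Nat.le_of_dvd (orderOf_pos g) hgm).trans
        (ho ▸ Nat.le_of_dvd (by norm_num) (orderOf_dvd_of_pow_eq_one (hq g hgH hgm).1))
      omega
    · have hsub : X ⊆ (Finset.univ.filter fun q : Equiv.Perm (Fin 4) => q ^ 4 = 1 ∧ q ^ 2 ≠ 1).biUnion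
          fun q => X.filter fun x => ((e.symm q : H) : G2 (ZMod p)) • x = x := by
        intro x hx
        obtain ⟨g, hgH, hgx, hgm⟩ := h x hx
        rw [Finset.mem_biUnion]
        refine ⟨e ⟨g, hgH⟩, Finset.mem_filter.2 ⟨Finset.mem_univ _, hq g hgH hgm⟩, Finset.mem_filter.2 ⟨hx, ?_⟩⟩
        rw [e.symm_apply_apply]
        exact hgx
      refine (Finset.card_le_card hsub).trans ((Finset.card_biUnion_le_card_mul _ _ 2 fun q hq' => ?_).trans ?_)
      · refine three _ fun e1 => (Finset.mem_filter.1 hq').2.2 ?_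
        have e2 : e.symm q = 1 := Subtype.ext e1
        rw [← e.apply_symm_apply q, e2, map_one, one_pow]
      · rw [perm_four_count]
  | subfield σ F1 h3 hcase =>
    exfalso
    have htop : (1 : ZMod p) ∈ F1 := one_mem F1
    have hmem : ∃ g : G2 (ZMod p), g ∈ conjG σ H ∧ g = tr 1 := by
      refine ⟨_, ?_, rfl⟩
      have hmap : mapG F1.subtype (tr (1 : F1)) = tr (1 : ZMod p) := by
        rw [mapG_tr]
        simp
      rcases hcase with e | ⟨-, e⟩ <;> rw [e]
      · exact ⟨_, hmap⟩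
      · exact ⟨_, tr_mem_psl _, hmap⟩
    obtain ⟨g, hg, rfl⟩ := hmem
    rw [mem_conjG] at hg
    apply hH
    have ho : orderOf (tr (1 : ZMod p)) = p := orderOf_eq_prime (by rw [tr_pow, ZMod.natCast_self, zero_mul, tr_zero])
      fun e => one_ne_zero (tr_injective (e.trans (tr_zero (K := ZMod p)).symm))
    have h1 : orderOf (σ⁻¹ * tr (1 : ZMod p) * σ) = p := by
      rw [show σ⁻¹ * tr (1 : ZMod p) * σ = MulAut.conj σ⁻¹ (tr 1) by simp, MulEquiv.orderOf_eq, ho]
    have h9 := orderOf_dvd_natCard (⟨_, hg⟩ : H)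
    rwa [Subgroup.orderOf_mk, h1] at h9

/-! ### The planes -/

variable {G : Type u} [Group G] [Finite G] {p : ℕ} [hp : Fact p.Prime]

/-- powers of an element acting as a transvection -/
theorem conj_pow_trans {g a c : G} (hg : g * a * g⁻¹ = a * c) (hc : g * c * g⁻¹ = c) (hac : Commute a c) (i j : ℕ) :
    g ^ i * a ^ j * (g ^ i)⁻¹ = a ^ j * c ^ (i * j) := by
  induction i with
  | zero => simp
  | succ i ih =>
    rw [pow_succ', show g * g ^ i * a ^ j * (g * g ^ i)⁻¹ = g * (g ^ i * a ^ j * (g ^ i)⁻¹) * g⁻¹ by group, ih,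
      show g * (a ^ j * c ^ (i * j)) * g⁻¹ = (g * a ^ j * g⁻¹) * (g * c ^ (i * j) * g⁻¹) by group,
      ← conj_pow, ← conj_pow, hg, hc, hac.mul_pow, mul_assoc, ← pow_add]
    congr 2
    ring

theorem pow_eq_pow_of_cast {z : G} (hz : z ^ p = 1) {i j : ℕ} (h : (i : ZMod p) = j) : z ^ i = z ^ j := by
  rw [pow_eq_pow_iff_modEq]
  exact ((ZMod.natCast_eq_natCast_iff i j p).1 h).of_dvd (orderOf_dvd_of_pow_eq_one hz)

theorem cast_eq_of_pow {z : G} (hz : orderOf z = p) {i j : ℕ} (h : z ^ i = z ^ j) : (i : ZMod p) = j := by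
  rw [pow_eq_pow_iff_modEq, hz] at h
  exact (ZMod.natCast_eq_natCast_iff i j p).2 h

/-- the torus element built from two transvections -/
theorem torus_word {z a : G} (hz : z ^ p = 1) (ha : a ^ p = 1) (hza : Commute z a) {gu gv : G}
    (hu1 : gu * z * gu⁻¹ = z) (hu2 : gu * a * gu⁻¹ = a * z) (hv1 : gv * a * gv⁻¹ = a) (hv2 : gv * z * gv⁻¹ = z * a)
    (t s : ZMod p) (hts : t * s = 1) : ∃ w : G, w * z * w⁻¹ = z ^ t.val ∧ w * a * w⁻¹ = a ^ s.val := by
  have hu : ∀ i j k : ℕ, gu ^ i * (z ^ j * a ^ k) * (gu ^ i)⁻¹ = z ^ (j + i * k) * a ^ k := by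
    intro i j k
    have hfix : gu ^ i * z ^ j * (gu ^ i)⁻¹ = z ^ j := by
      have : Commute (gu ^ i) (z ^ j) := (Commute.pow_left (show Commute gu z from mul_inv_eq_iff_eq_mul.1 hu1) i).pow_right j
      rw [this.eq, mul_inv_cancel_right]
    rw [show gu ^ i * (z ^ j * a ^ k) * (gu ^ i)⁻¹ = (gu ^ i * z ^ j * (gu ^ i)⁻¹) * (gu ^ i * a ^ k * (gu ^ i)⁻¹) by group,
      hfix, conj_pow_trans hu2 hu1 hza.symm, pow_add, mul_assoc, ((hza.symm).pow_pow k (i * k)).eq]
  have hv : ∀ i j k : ℕ, gv ^ i * (z ^ j * a ^ k) * (gv ^ i)⁻¹ = z ^ j * a ^ (i * j + k) := by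
    intro i j k
    have hfix : gv ^ i * a ^ k * (gv ^ i)⁻¹ = a ^ k := by
      have : Commute (gv ^ i) (a ^ k) := (Commute.pow_left (show Commute gv a from mul_inv_eq_iff_eq_mul.1 hv1) i).pow_right k
      rw [this.eq, mul_inv_cancel_right]
    rw [show gv ^ i * (z ^ j * a ^ k) * (gv ^ i)⁻¹ = (gv ^ i * z ^ j * (gv ^ i)⁻¹) * (gv ^ i * a ^ k * (gv ^ i)⁻¹) by group,
      hfix, conj_pow_trans hv2 hv1 hza, mul_assoc, ← pow_add]
  have half : ∀ r q : ZMod p, r * q = 1 → ∀ j k : ℕ, ∀ j' k' : ℕ,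
      (j' : ZMod p) = r * k → (k' : ZMod p) = -q * j →
      (gu ^ r.val * gv ^ (-q).val * gu ^ r.val) * (z ^ j * a ^ k) * (gu ^ r.val * gv ^ (-q).val * gu ^ r.val)⁻¹ =
        z ^ j' * a ^ k' := by
    intro r q hrq j k j' k' hj hk
    rw [show (gu ^ r.val * gv ^ (-q).val * gu ^ r.val) * (z ^ j * a ^ k) * (gu ^ r.val * gv ^ (-q).val * gu ^ r.val)⁻¹ =
      gu ^ r.val * (gv ^ (-q).val * (gu ^ r.val * (z ^ j * a ^ k) * (gu ^ r.val)⁻¹) * (gv ^ (-q).val)⁻¹) * (gu ^ r.val)⁻¹ by group,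
      hu, hv, hu]
    congr 1
    · refine pow_eq_pow_of_cast hz ?_
      push_cast
      rw [ZMod.natCast_rightInverse r, ZMod.natCast_rightInverse (-q), hj]
      linear_combination (-((j : ZMod p) + r * k)) * hrq
    · refine pow_eq_pow_of_cast ha ?_
      push_cast
      rw [ZMod.natCast_rightInverse r, ZMod.natCast_rightInverse (-q), hk]
      linear_combination (-(k : ZMod p)) * hrq
  set W1 := gu ^ (-1 : ZMod p).val * gv ^ (-(-1 : ZMod p)).val * gu ^ (-1 : ZMod p).val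
  set W2 := gu ^ t.val * gv ^ (-s).val * gu ^ t.val
  refine ⟨W2 * W1, ?_, ?_⟩
  · have e1 := half (-1) (-1) (by ring) 1 0 0 1 (by simp) (by simp)
    rw [pow_one, pow_zero, mul_one, pow_zero, one_mul, pow_one] at e1
    have e2 := half t s hts 0 1 t.val 0 (by simp [ZMod.natCast_rightInverse t]) (by simp)
    rw [pow_zero, one_mul, pow_one, pow_zero, mul_one] at e2
    calc W2 * W1 * z * (W2 * W1)⁻¹ = W2 * (W1 * z * W1⁻¹) * W2⁻¹ := by group
      _ = _ := by rw [e1, e2]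
  · have e1 := half (-1) (-1) (by ring) 0 1 (p - 1) 0 (by rw [Nat.cast_sub hp.out.one_lt.le, ZMod.natCast_self]; simp) (by simp)
    rw [pow_zero, one_mul, pow_one, pow_zero, mul_one] at e1
    have e2 := half t s hts (p - 1) 0 0 s.val (by simp)
      (by rw [Nat.cast_sub hp.out.one_lt.le, ZMod.natCast_self, ZMod.natCast_rightInverse s]; push_cast; ring)
    simp only [pow_zero, one_mul, mul_one] at e2
    calc W2 * W1 * a * (W2 * W1)⁻¹ = W2 * (W1 * a * W1⁻¹) * W2⁻¹ := by group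
      _ = _ := by rw [e1, e2]

variable (P : Sylow p G)

/-- the setting -/
structure Setting : Prop where
  extra : Cfsg.IsExtraspecial p ↥(P : Subgroup G)
  card : Nat.card (P : Subgroup G) = p ^ 3
  exp : Monoid.exponent ↥(P : Subgroup G) = p

variable {P}

theorem Setting.pow_eq_one (h : Setting P) {g : G} (hg : g ∈ (P : Subgroup G)) : g ^ p = 1 := by
  have h1 := Monoid.pow_exponent_eq_one (⟨g, hg⟩ : ↥(P : Subgroup G))
  rw [h.exp] at h1
  exact congrArg Subtype.val h1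

theorem Setting.not_comm (h : Setting P) : ∃ x ∈ (P : Subgroup G), ∃ y ∈ (P : Subgroup G), x * y ≠ y * x := by
  by_contra hcon
  push Not at hcon
  have h2 : Subgroup.center ↥(P : Subgroup G) = ⊤ := eq_top_iff.2 fun g _ => Subgroup.mem_center_iff.2 fun w =>
    Subtype.ext (hcon w w.2 g g.2)
  have h3 := h.extra.2
  rw [h2, Subgroup.card_top, h.card] at h3
  have := Nat.pow_right_injective hp.out.two_le (h3.trans (pow_one p).symm)
  omega

/-- an abelian subgroup of order `p²` of `P` containing `a` with `a` central in another Sylow subgroup through it -/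
theorem Setting.exists_trans (h : Setting P) {z a : G} (hz1 : z ≠ 1) (hza : Commute z a) (ha1 : a ≠ 1)
    (c : G) (hzQ : z ∈ CfsgLib.Fusion.conjBy c (P : Subgroup G)) (haQ : a ∈ CfsgLib.Fusion.conjBy c (P : Subgroup G))
    (hac : ∀ q ∈ CfsgLib.Fusion.conjBy c (P : Subgroup G), a * q = q * a) (hzn : z ∉ Subgroup.zpowers a) :
    ∃ y ∈ CfsgLib.Fusion.conjBy c (P : Subgroup G), y * a * y⁻¹ = a ∧ y * z * y⁻¹ = z * a := by
  classical
  set Q := CfsgLib.Fusion.conjBy c (P : Subgroup G) with hQ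
  -- pull back to `P`
  have hzP : c⁻¹ * z * c ∈ (P : Subgroup G) := CfsgLib.Fusion.mem_conjBy.1 hzQ
  have haP : c⁻¹ * a * c ∈ (P : Subgroup G) := CfsgLib.Fusion.mem_conjBy.1 haQ
  set z' : ↥(P : Subgroup G) := ⟨_, hzP⟩ with hz'
  set a' : ↥(P : Subgroup G) := ⟨_, haP⟩ with ha'
  have hac' : a' ∈ Subgroup.center ↥(P : Subgroup G) := Subgroup.mem_center_iff.2 fun w => Subtype.ext (by
    have := hac _ (CfsgLib.Fusion.conj_mem_conjBy (g := c) w.2)
    show (w : G) * (c⁻¹ * a * c) = c⁻¹ * a * c * w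
    calc (w : G) * (c⁻¹ * a * c) = c⁻¹ * (c * (w : G) * c⁻¹ * a) * c := by group
      _ = c⁻¹ * (a * (c * (w : G) * c⁻¹)) * c := by rw [this]
      _ = _ := by group)
  have ha'1 : a' ≠ 1 := fun e => ha1 (by
    have := congrArg Subtype.val e
    calc a = c * (c⁻¹ * a * c) * c⁻¹ := by group
      _ = 1 := by rw [show c⁻¹ * a * c = 1 from this]; group)
  have hcen : Subgroup.zpowers a' = Subgroup.center ↥(P : Subgroup G) :=
    Subgroup.eq_of_le_of_card_ge (Subgroup.zpowers_le.2 hac') (by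
      rw [h.extra.2, Nat.card_zpowers, orderOf_eq_prime (Subtype.ext (h.pow_eq_one haP)) ha'1])
  have hz'c : z' ∉ Subgroup.center ↥(P : Subgroup G) := fun hm => hzn (by
    rw [← hcen] at hm
    obtain ⟨k, hk⟩ := Subgroup.mem_zpowers_iff.1 hm
    have := congrArg Subtype.val hk
    rw [Subgroup.coe_zpow] at this
    refine Subgroup.mem_zpowers_iff.2 ⟨k, ?_⟩
    calc a ^ k = c * (c⁻¹ * a * c) ^ k * c⁻¹ := by
          rw [← conj_zpow]; congr 1; group
      _ = z := by rw [show (c⁻¹ * a * c) ^ k = c⁻¹ * z * c from this]; group)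
  obtain ⟨x, hx⟩ : ∃ x : ↥(P : Subgroup G), x * z' * x⁻¹ * z'⁻¹ ≠ 1 := by
    by_contra hcon
    push Not at hcon
    exact hz'c (Subgroup.mem_center_iff.2 fun w => mul_inv_eq_iff_eq_mul.1 (mul_inv_eq_one.1 (hcon w)))
  have hd : x * z' * x⁻¹ * z'⁻¹ ∈ Subgroup.center ↥(P : Subgroup G) := by
    rw [← h.extra.1.2.2]
    exact Subgroup.commutator_mem_commutator (Subgroup.mem_top x) (Subgroup.mem_top z')
  set d := x * z' * x⁻¹ * z'⁻¹ with hdd
  have hgen : Subgroup.zpowers d = Subgroup.center ↥(P : Subgroup G) := Subgroup.eq_of_le_of_card_ge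
    (Subgroup.zpowers_le.2 hd) (by rw [h.extra.2, Nat.card_zpowers,
      orderOf_eq_prime (Subtype.ext (by rw [Subgroup.coe_pow]; exact h.pow_eq_one d.2)) hx])
  obtain ⟨i, -, hi⟩ := Finset.mem_image.1
    ((isOfFinOrder_of_finite d).mem_zpowers_iff_mem_range_orderOf.1 (hgen ▸ hac'))
  have e0 : x * z' * x⁻¹ = z' * d := by
    rw [show z' * d = d * z' from Subgroup.mem_center_iff.1 hd z', hdd]; group
  have e1 : x * d * x⁻¹ = d := by rw [Subgroup.mem_center_iff.1 hd x, mul_inv_cancel_right]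
  have e2 := conj_pow_trans e0 e1 (Subgroup.mem_center_iff.1 hd z') i 1
  rw [pow_one, mul_one] at e2
  rw [show d ^ i = a' from hi] at e2
  refine ⟨c * ((x ^ i : ↥(P : Subgroup G)) : G) * c⁻¹, CfsgLib.Fusion.conj_mem_conjBy (x ^ i).2, ?_, ?_⟩
  · rw [← hac _ (CfsgLib.Fusion.conj_mem_conjBy (g := c) (x ^ i).2), mul_inv_cancel_right]
  · have e3 := congrArg Subtype.val e2
    simp only [Subgroup.coe_mul, Subgroup.coe_inv, hz', ha'] at e3
    calc (c * ((x ^ i : ↥(P : Subgroup G)) : G) * c⁻¹) * z * (c * ((x ^ i : ↥(P : Subgroup G)) : G) * c⁻¹)⁻¹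
        = c * (((x ^ i : ↥(P : Subgroup G)) : G) * (c⁻¹ * z * c) * ((x ^ i : ↥(P : Subgroup G)) : G)⁻¹) * c⁻¹ := by group
      _ = c * (c⁻¹ * z * c * (c⁻¹ * a * c)) * c⁻¹ := by rw [e3]
      _ = z * a := by group

/-- The torus element can be chosen in the normalizer of `P`. -/
theorem Setting.torus (h : Setting P) {z a x : G} (hzP : z ∈ (P : Subgroup G)) (haP : a ∈ (P : Subgroup G))
    (hz : ∀ q ∈ (P : Subgroup G), z * q = q * z) (hPd : ∀ q ∈ (P : Subgroup G), ∃ k : ℕ, q * a * q⁻¹ = a * z ^ k)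
    {gu gv : G} (hu1 : gu * z * gu⁻¹ = z) (hu2 : gu * a * gu⁻¹ = a * z) (hv1 : gv * a * gv⁻¹ = a)
    (hv2 : gv * z * gv⁻¹ = z * a) (t s : ZMod p) (hts : t * s = 1) :
    ∃ n ∈ Subgroup.normalizer ((P : Subgroup G) : Set G), n * z * n⁻¹ = z ^ t.val ∧
      ∃ k : ℕ, n * a * n⁻¹ = a ^ s.val * z ^ k := by
  have hz0 := h.pow_eq_one hzP
  have ha0 := h.pow_eq_one haP
  have hza : Commute z a := hz a haP
  obtain ⟨w, hwz, hwa⟩ := torus_word hz0 ha0 hza hu1 hu2 hv1 hv2 t s hts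
  have hinvpow : ∀ k : ℕ, (z ^ k)⁻¹ = z ^ ((p - 1) * k) := fun k => inv_eq_of_mul_eq_one_right (by
    rw [← pow_add, show k + (p - 1) * k = p * k by rw [← Nat.succ_pred_eq_of_pos hp.out.pos]; simp; ring, pow_mul, hz0,
      one_pow])
  let M : Subgroup G :=
    { carrier := {g | g * z * g⁻¹ = z ∧ ∃ k : ℕ, g * a * g⁻¹ = a * z ^ k}
      one_mem' := ⟨by group, 0, by simp⟩
      mul_mem' := by
        rintro g g' ⟨hg, k, hk⟩ ⟨hg', k', hk'⟩
        refine ⟨?_, k + k', ?_⟩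
        · rw [show g * g' * z * (g * g')⁻¹ = g * (g' * z * g'⁻¹) * g⁻¹ by group, hg', hg]
        · rw [show g * g' * a * (g * g')⁻¹ = g * (g' * a * g'⁻¹) * g⁻¹ by group, hk',
            show g * (a * z ^ k') * g⁻¹ = (g * a * g⁻¹) * (g * z ^ k' * g⁻¹) by group, ← conj_pow, hg, hk, mul_assoc,
            ← pow_add]
      inv_mem' := by
        rintro g ⟨hg, k, hk⟩
        have hg' : g⁻¹ * z * g⁻¹⁻¹ = z := by
          conv_lhs => rw [← hg]
          group
        refine ⟨hg', (p - 1) * k, ?_⟩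
        calc g⁻¹ * a * g⁻¹⁻¹ = g⁻¹ * (g * a * g⁻¹ * (z ^ k)⁻¹) * g⁻¹⁻¹ := by rw [hk, mul_inv_cancel_right]
          _ = a * (g⁻¹ * z * g⁻¹⁻¹) ^ ((p - 1) * k) := by rw [hinvpow, conj_pow]; group
          _ = _ := by rw [hg'] }
  have hPM : (P : Subgroup G) ≤ M := fun q hq =>
    ⟨by rw [← hz q hq, mul_inv_cancel_right], hPd q hq⟩
  have hwM : ∀ g ∈ M, w * g * w⁻¹ ∈ M := by
    rintro g ⟨hg, k, hk⟩
    have ht0 : t ≠ 0 := left_ne_zero_of_mul_eq_one hts
    have hcop : (t.val).Coprime (orderOf z) := Nat.Coprime.coprime_dvd_right (orderOf_dvd_of_pow_eq_one hz0) (by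
      rw [Nat.coprime_comm, hp.out.coprime_iff_not_dvd, ← ZMod.natCast_eq_zero_iff, ZMod.natCast_rightInverse t]
      exact ht0)
    obtain ⟨i, hi⟩ := exists_pow_eq_self_of_coprime hcop
    have hwz' : w⁻¹ * z * w = z ^ i := by
      calc w⁻¹ * z * w = w⁻¹ * (w * z * w⁻¹) ^ i * w := by rw [hwz, hi]
        _ = _ := by rw [conj_pow]; group
    have hfix : w * g * w⁻¹ * z * (w * g * w⁻¹)⁻¹ = z := by
      calc w * g * w⁻¹ * z * (w * g * w⁻¹)⁻¹ = w * (g * (w⁻¹ * z * w) * g⁻¹) * w⁻¹ := by group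
        _ = w * (g * z * g⁻¹) ^ i * w⁻¹ := by rw [hwz', conj_pow]
        _ = z := by rw [hg, ← hwz']; group
    refine ⟨hfix, ?_⟩
    have hs0 : s ≠ 0 := right_ne_zero_of_mul_eq_one hts
    have hcop' : (s.val).Coprime (orderOf a) := Nat.Coprime.coprime_dvd_right (orderOf_dvd_of_pow_eq_one ha0) (by
      rw [Nat.coprime_comm, hp.out.coprime_iff_not_dvd, ← ZMod.natCast_eq_zero_iff, ZMod.natCast_rightInverse s]
      exact hs0)
    obtain ⟨j, hj⟩ := exists_pow_eq_self_of_coprime hcop'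
    have hwa' : w⁻¹ * a * w = a ^ j := by
      calc w⁻¹ * a * w = w⁻¹ * (w * a * w⁻¹) ^ j * w := by rw [hwa, hj]
        _ = _ := by rw [conj_pow]; group
    refine ⟨t.val * (k * j), ?_⟩
    calc w * g * w⁻¹ * a * (w * g * w⁻¹)⁻¹ = w * (g * (w⁻¹ * a * w) * g⁻¹) * w⁻¹ := by group
      _ = w * ((a * z ^ k) ^ j) * w⁻¹ := by rw [hwa', ← conj_pow, hk]
      _ = (w * a ^ j * w⁻¹) * (w * z * w⁻¹) ^ (k * j) := by
          rw [(hza.symm.pow_right k).mul_pow, ← pow_mul, conj_pow]; group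
      _ = a * z ^ (t.val * (k * j)) := by rw [← conj_pow, hwa, hj, hwz, ← pow_mul]
  have hi : ¬ p ∣ (P : Subgroup G).relIndex M := fun hd =>
    P.not_dvd_index (hd.trans (Subgroup.relIndex_dvd_index_of_le hPM))
  obtain ⟨g, hgM, hg⟩ := CfsgLib.Fusion.exists_conj_le_of_not_dvd_relIndex P.2 hPM hi
    (CfsgLib.Fusion.isPGroup_conjBy w P.2) (CfsgLib.Fusion.conjBy_le_iff.2 fun q hq => hwM q (hPM hq))
  rw [CfsgLib.Fusion.conjBy_conjBy] at hg
  refine ⟨g * w, CfsgLib.Fusion.conjBy_eq_iff.1 (Subgroup.eq_of_le_of_card_ge hg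
    (CfsgLib.Fusion.card_conjBy _ _).ge), ?_, ?_⟩
  · calc g * w * z * (g * w)⁻¹ = g * (w * z * w⁻¹) * g⁻¹ := by group
      _ = z ^ t.val := by rw [hwz, ← conj_pow, hgM.1]
  · obtain ⟨k, hk⟩ := hgM.2
    refine ⟨k * s.val, ?_⟩
    calc g * w * a * (g * w)⁻¹ = g * (w * a * w⁻¹) * g⁻¹ := by group
      _ = a ^ s.val * z ^ (k * s.val) := by rw [hwa, ← conj_pow, hk, (hza.symm.pow_right k).mul_pow, ← pow_mul]

theorem dvd_of_dvd_three_mul {a k : ℕ} (h : a ∣ 3 * k) : a / Nat.gcd 3 a ∣ k := by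
  have hg : Nat.gcd 3 a ∣ a := Nat.gcd_dvd_right _ _
  have h1 : a ∣ Nat.gcd 3 a * k := by
    rw [← Nat.gcd_mul_right]
    exact Nat.dvd_gcd h (dvd_mul_right a k)
  obtain ⟨b, hb⟩ := hg
  have hpos : 0 < Nat.gcd 3 a := Nat.gcd_pos_of_pos_left _ (by norm_num)
  generalize Nat.gcd 3 a = g at h1 hb hpos
  subst hb
  rw [Nat.mul_div_cancel_left _ hpos]
  exact Nat.dvd_of_mul_dvd_mul_left hpos h1

theorem matrix_pow_eigen {d : ℕ} {R : Type*} [CommRing R] (M : Matrix (Fin d) (Fin d) R) (v : Fin d → R) (c : R)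
    (h : M.mulVec v = c • v) (k : ℕ) : (M ^ k).mulVec v = c ^ k • v := by
  induction k with
  | zero => simp
  | succ k ih => rw [pow_succ, ← Matrix.mulVec_mulVec, h, Matrix.mulVec_smul, ih, smul_smul, ← pow_succ']

theorem Setting.exists_zpow (h : Setting P) {z : G} (hzP : z ∈ (P : Subgroup G))
    (hz : ∀ q ∈ (P : Subgroup G), z * q = q * z) (hz1 : z ≠ 1) {c : ↥(P : Subgroup G)}
    (hc : c ∈ Subgroup.center ↥(P : Subgroup G)) : ∃ k : ℕ, (c : G) = z ^ k := by
  classical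
  have hzc : (⟨z, hzP⟩ : ↥(P : Subgroup G)) ∈ Subgroup.center ↥(P : Subgroup G) :=
    Subgroup.mem_center_iff.2 fun w => Subtype.ext (hz w w.2).symm
  have hcen : Subgroup.zpowers (⟨z, hzP⟩ : ↥(P : Subgroup G)) = Subgroup.center ↥(P : Subgroup G) :=
    Subgroup.eq_of_le_of_card_ge (Subgroup.zpowers_le.2 hzc) (by
      rw [h.extra.2, Nat.card_zpowers,
        orderOf_eq_prime (Subtype.ext (h.pow_eq_one hzP)) (fun e => hz1 (congrArg Subtype.val e))])
  obtain ⟨i, -, hi⟩ := Finset.mem_image.1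
    ((isOfFinOrder_of_finite (⟨z, hzP⟩ : ↥(P : Subgroup G))).mem_zpowers_iff_mem_range_orderOf.1 (hcen ▸ hc))
  exact ⟨i, (congrArg Subtype.val hi).symm⟩

theorem Setting.comm_mem (h : Setting P) (q r : ↥(P : Subgroup G)) :
    q * r * q⁻¹ * r⁻¹ ∈ Subgroup.center ↥(P : Subgroup G) := by
  rw [← h.extra.1.2.2]
  exact Subgroup.commutator_mem_commutator (Subgroup.mem_top q) (Subgroup.mem_top r)

theorem Setting.conj_plane (h : Setting P) {z : G} (hzP : z ∈ (P : Subgroup G))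
    (hz : ∀ q ∈ (P : Subgroup G), z * q = q * z) (hz1 : z ≠ 1) {a : G} (haP : a ∈ (P : Subgroup G)) :
    ∀ q ∈ (P : Subgroup G), ∃ k : ℕ, q * a * q⁻¹ = a * z ^ k := by
  intro q hq
  obtain ⟨k, hk⟩ := h.exists_zpow hzP hz hz1 (h.comm_mem ⟨q, hq⟩ ⟨a, haP⟩)
  refine ⟨k, ?_⟩
  rw [show a * z ^ k = z ^ k * a from ((show Commute z a from hz a haP).pow_left k).eq.symm, ← hk]
  show _ = q * a * q⁻¹ * a⁻¹ * a
  rw [inv_mul_cancel_right]

/-- At least three fused planes bound the prime. -/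
theorem Setting.bound (h : Setting P) {z : G} (hzP : z ∈ (P : Subgroup G))
    (hz : ∀ q ∈ (P : Subgroup G), z * q = q * z) (hz1 : z ≠ 1) (hm : 4 ≤ (p - 1) / Nat.gcd 3 (p - 1))
    {ι : Type*} [Fintype ι] (hι : 3 ≤ Fintype.card ι) (a : ι → G) (haP : ∀ i, a i ∈ (P : Subgroup G))
    (hdis : ∀ i j, i ≠ j → ¬ Commute (a i) (a j))
    (htr : ∀ i, ∃ gu gv : G, gu * z * gu⁻¹ = z ∧ gu * a i * gu⁻¹ = a i * z ∧ gv * a i * gv⁻¹ = a i ∧
      gv * z * gv⁻¹ = z * a i) :
    (p - 1) / Nat.gcd 3 (p - 1) ≤ 5 ∧ ((p - 1) / Nat.gcd 3 (p - 1) = 4 → Fintype.card ι ≤ 12) := by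
  classical
  set PP : Subgroup G := (P : Subgroup G) with hPP
  set Z : Subgroup ↥PP := Subgroup.center ↥PP with hZ
  set N : Subgroup G := Subgroup.normalizer ((P : Subgroup G) : Set G) with hN
  have hcomm : ∀ u v : ↥PP ⧸ Z, u * v = v * u := by
    intro u v
    induction u using QuotientGroup.induction_on with | _ q =>
    induction v using QuotientGroup.induction_on with | _ r =>
    rw [← QuotientGroup.mk_mul, ← QuotientGroup.mk_mul, QuotientGroup.eq]
    have := h.comm_mem r⁻¹ q⁻¹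
    rw [show (q * r)⁻¹ * (r * q) = r⁻¹ * q⁻¹ * r⁻¹⁻¹ * q⁻¹⁻¹ by group]
    exact this
  letI : CommGroup (↥PP ⧸ Z) := { (inferInstance : Group (↥PP ⧸ Z)) with mul_comm := hcomm }
  have hnorm : ∀ (n : N) (q : ↥PP), (n : G) * q * (n : G)⁻¹ ∈ PP := fun n q =>
    (Subgroup.mem_normalizer_iff.1 n.2 q).1 q.2
  let f : N → (↥PP →* ↥PP) := fun n => MonoidHom.mk' (fun q => ⟨(n : G) * q * (n : G)⁻¹, hnorm n q⟩)
    (fun q r => Subtype.ext (by simp))
  have hf : ∀ (n : N) (q : ↥PP), ((f n q : ↥PP) : G) = (n : G) * q * (n : G)⁻¹ := fun _ _ => rfl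
  have hfZ : ∀ n : N, Z ≤ Z.comap (f n) := by
    intro n c hc
    rw [Subgroup.mem_comap, hZ, Subgroup.mem_center_iff]
    intro w
    have hw : w = f n (f n⁻¹ w) := Subtype.ext (by rw [hf, hf]; simp [mul_assoc])
    rw [hw, ← map_mul, ← map_mul, Subgroup.mem_center_iff.1 hc]
  let cj : N → Additive (↥PP ⧸ Z) →+ Additive (↥PP ⧸ Z) := fun n =>
    MonoidHom.toAdditive (QuotientGroup.map Z Z (f n) (hfZ n))
  let mkv : ↥PP → Additive (↥PP ⧸ Z) := fun q => Additive.ofMul ((q : ↥PP) : ↥PP ⧸ Z)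
  have hsurj : ∀ v, ∃ q, mkv q = v := fun v => by
    obtain ⟨q, hq⟩ := QuotientGroup.mk_surjective v.toMul
    exact ⟨q, by simp [mkv, hq]⟩
  have hcj : ∀ n q, cj n (mkv q) = mkv (f n q) := fun _ _ => rfl
  have hnsmul : ∀ (k : ℕ) q, k • mkv q = mkv (q ^ k) := fun k q => rfl
  have heq : ∀ q r : ↥PP, mkv q = mkv r → ∃ k : ℕ, (r : G) = q * z ^ k := by
    intro q r hqr
    have h1 : q⁻¹ * r ∈ Z := QuotientGroup.eq.1 (Additive.ofMul.injective hqr)
    obtain ⟨k, hk⟩ := h.exists_zpow hzP hz hz1 h1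
    refine ⟨k, ?_⟩
    rw [← hk]
    simp
  have hexp : ∀ v : Additive (↥PP ⧸ Z), p • v = 0 := fun v => by
    obtain ⟨q, rfl⟩ := hsurj v
    rw [hnsmul, show q ^ p = 1 from Subtype.ext (h.pow_eq_one q.2)]
    rfl
  obtain ⟨d, e, R, hR⟩ := CfsgLib.Qd.exists_matrixRep hexp cj
    (fun v => by
      obtain ⟨q, rfl⟩ := hsurj v
      rw [hcj]
      exact congrArg mkv (Subtype.ext (by rw [hf]; simp)))
    (fun g g' v => by
      obtain ⟨q, rfl⟩ := hsurj v
      rw [hcj, hcj, hcj]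
      exact congrArg mkv (Subtype.ext (by rw [hf, hf, hf]; simp [mul_assoc])))
  have hd : d = 2 := by
    have h1 := Subgroup.card_eq_card_quotient_mul_card_subgroup Z
    rw [h.card, h.extra.2] at h1
    have h2 : Nat.card (Additive (↥PP ⧸ Z)) = p ^ d := by
      rw [Nat.card_congr e.toEquiv, Nat.card_fun]; simp
    rw [show Nat.card (↥PP ⧸ Z) = p ^ d from h2, ← pow_succ] at h1
    have := Nat.pow_right_injective hp.out.two_le h1
    omega
  subst hd
  let ρ : N →* G2 (ZMod p) := (Matrix.ProjGenLinGroup.mk).comp R.toHomUnits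
  have hρ : ∀ n, ρ n = Matrix.ProjGenLinGroup.mk (R.toHomUnits n) := fun _ => rfl
  have hRe : ∀ (n : N) (q : ↥PP), (R n).mulVec (e (mkv q)) = e (mkv (f n q)) := fun n q => by rw [hR, hcj]
  have hsmul : ∀ (c : ZMod p) (q : ↥PP), c • e (mkv q) = e (mkv (q ^ c.val)) := fun c q => by
    rw [← hnsmul, map_nsmul]
    conv_lhs => rw [← ZMod.natCast_rightInverse c]
    rw [Nat.cast_smul_eq_nsmul]
  -- the image has order prime to `p`
  have hH : ¬ p ∣ Nat.card ρ.range := by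
    have hker : PP.subgroupOf N ≤ ρ.ker := by
      intro n hn
      have hR1 : R n = 1 := Matrix.ext_of_mulVec_single fun i => by
        obtain ⟨q, hq⟩ := hsurj (e.symm (Pi.single i 1))
        have hv : e (mkv q) = Pi.single i 1 := by rw [hq, AddEquiv.apply_symm_apply]
        rw [← hv, hRe, Matrix.one_mulVec]
        congr 1
        refine congrArg Additive.ofMul ?_
        rw [show f n q = (⟨_, Subgroup.mem_subgroupOf.1 hn⟩ : ↥PP) * q * (⟨_, Subgroup.mem_subgroupOf.1 hn⟩ : ↥PP)⁻¹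
            from Subtype.ext (hf n q), QuotientGroup.mk_mul, QuotientGroup.mk_mul, hcomm ((_ : ↥PP) : ↥PP ⧸ Z),
          QuotientGroup.mk_inv, mul_inv_cancel_right]
      rw [MonoidHom.mem_ker, hρ, show R.toHomUnits n = 1 from Units.ext hR1, map_one]
    rw [← Subgroup.index_ker]
    intro hd
    exact P.not_dvd_index ((hd.trans (Subgroup.index_dvd_of_le hker)).trans
      (Subgroup.relIndex_dvd_index_of_le Subgroup.le_normalizer))
  have hne : ∀ i, e (mkv ⟨a i, haP i⟩) ≠ 0 := by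
    intro i h0
    obtain ⟨k, hk⟩ := heq _ 1 ((e.map_eq_zero_iff.1 h0).trans (ofMul_one).symm)
    obtain ⟨j, hj⟩ : ∃ j, j ≠ i := Fintype.exists_ne_of_one_lt_card (by omega) i
    refine hdis i j (Ne.symm hj) ?_
    have h1 : a i = (z ^ k)⁻¹ := eq_inv_of_mul_eq_one_left hk.symm
    rw [h1]
    exact ((show Commute z (a j) from hz _ (haP j)).pow_left k).inv_left
  let pt : ι → P2 (ZMod p) := fun i => Projectivization.mk _ _ (hne i)
  have hinj : Function.Injective pt := by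
    intro i j hij
    by_contra hne'
    obtain ⟨c, hc⟩ := (Projectivization.mk_eq_mk_iff' _ _ _ _ _).1 hij
    rw [hsmul] at hc
    obtain ⟨k, hk⟩ := heq _ _ (e.injective hc)
    refine hdis i j hne' ?_
    show Commute (a i) (a j)
    rw [show a i = (a j) ^ c.val * z ^ k from hk]
    exact ((Commute.refl (a j)).pow_left _).mul_left ((show Commute z (a j) from hz _ (haP j)).pow_left k)
  have hcard : (Finset.univ.image pt).card = Fintype.card ι := Finset.card_image_of_injective _ hinj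
  rw [← hcard] at hι ⊢
  refine points_bound ρ.range hH hm _ hι fun x hx => ?_
  obtain ⟨i, -, rfl⟩ := Finset.mem_image.1 hx
  obtain ⟨gu, gv, hu1, hu2, hv1, hv2⟩ := htr i
  obtain ⟨T, hT⟩ := IsCyclic.exists_generator (α := (ZMod p)ˣ)
  set t : ZMod p := (T : ZMod p) with ht
  set s : ZMod p := (↑T⁻¹ : ZMod p) with hs
  have hts : t * s = 1 := Units.mul_inv T
  obtain ⟨n, hnN, hnz, k₀, hna⟩ := h.torus hzP (x := a i) (haP i) hz (h.conj_plane hzP hz hz1 (haP i))
    hu1 hu2 hv1 hv2 t s hts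
  set nn : N := ⟨n, hnN⟩ with hnn
  refine ⟨ρ nn, ⟨nn, rfl⟩, ?_, ?_⟩
  · have h1 : (R nn).mulVec (e (mkv ⟨a i, haP i⟩)) = s • e (mkv ⟨a i, haP i⟩) := by
      rw [hRe, hsmul]
      congr 1
      refine congrArg Additive.ofMul ((QuotientGroup.eq).2 ?_)
      have hzc : (⟨z, hzP⟩ : ↥PP) ∈ Z := Subgroup.mem_center_iff.2 fun w => Subtype.ext (hz w w.2).symm
      have h2 : f nn ⟨a i, haP i⟩ = (⟨a i, haP i⟩ : ↥PP) ^ s.val * ⟨z, hzP⟩ ^ k₀ := Subtype.ext (by
        rw [hf]; simpa using hna)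
      rw [h2, mul_inv_rev, inv_mul_cancel_right]
      exact Z.inv_mem (Z.pow_mem hzc k₀)
    show Matrix.ProjGenLinGroup.mk (R.toHomUnits nn) • Projectivization.mk _ _ _ = _
    rw [mk_smul]
    exact (Projectivization.mk_eq_mk_iff' _ _ _ _ _).2 ⟨s, by rw [MonoidHom.coe_toHomUnits, h1]⟩
  · refine dvd_of_dvd_three_mul ?_
    set k := orderOf (ρ nn)
    have h1 : Matrix.ProjGenLinGroup.mk (R.toHomUnits (nn ^ k)) = Matrix.ProjGenLinGroup.mk 1 := by
      rw [map_one, ← hρ, map_pow, pow_orderOf_eq_one]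
    obtain ⟨u, hu⟩ := Matrix.ProjGenLinGroup.mk_eq_mk_iff.1 h1.symm
    rw [one_mul] at hu
    set c : ZMod p := (u : ZMod p) with hcdef
    have hscal : ∀ q : ↥PP, e (mkv (f (nn ^ k) q)) = c • e (mkv q) := by
      intro q
      rw [← hRe, ← MonoidHom.coe_toHomUnits, ← hu, Matrix.GeneralLinearGroup.coe_scalar, Matrix.scalar_apply, ← Matrix.smul_one_eq_diagonal]
      simp [Matrix.smul_mulVec, hcdef]
    have hpow : ∀ q : ↥PP, ∃ j : ℕ, ((f (nn ^ k) q : ↥PP) : G) = (q : G) ^ c.val * z ^ j := by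
      intro q
      have h2 := hscal q
      rw [hsmul] at h2
      exact heq _ _ (e.injective h2).symm
    -- `c = s ^ k`
    have hcs : c = s ^ k := by
      have h2 : (R nn).mulVec (e (mkv ⟨a i, haP i⟩)) = s • e (mkv ⟨a i, haP i⟩) := by
        rw [hRe, hsmul]
        congr 1
        refine congrArg Additive.ofMul ((QuotientGroup.eq).2 ?_)
        have hzc : (⟨z, hzP⟩ : ↥PP) ∈ Z := Subgroup.mem_center_iff.2 fun w => Subtype.ext (hz w w.2).symm
        have h2 : f nn ⟨a i, haP i⟩ = (⟨a i, haP i⟩ : ↥PP) ^ s.val * ⟨z, hzP⟩ ^ k₀ := Subtype.ext (by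
          rw [hf]; simpa using hna)
        rw [h2, mul_inv_rev, inv_mul_cancel_right]
        exact Z.inv_mem (Z.pow_mem hzc k₀)
      have h3 := matrix_pow_eigen _ _ _ h2 k
      rw [← map_pow, hRe, hscal] at h3
      exact smul_left_injective (ZMod p) (hne i) h3
    -- the action on the centre
    have hzk : ∀ j : ℕ, n ^ j * z * (n ^ j)⁻¹ = z ^ (t.val ^ j) := by
      intro j
      induction j with
      | zero => simp
      | succ j ih =>
        calc n ^ (j + 1) * z * (n ^ (j + 1))⁻¹ = n * (n ^ j * z * (n ^ j)⁻¹) * n⁻¹ := by group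
          _ = _ := by rw [ih, ← conj_pow, hnz, ← pow_mul, ← pow_succ']
    obtain ⟨w, hw⟩ : ∃ w : ↥PP, ¬ Commute (w : G) (a i) := by
      obtain ⟨j, hj⟩ : ∃ j, j ≠ i := Fintype.exists_ne_of_one_lt_card (by omega) i
      exact ⟨⟨a j, haP j⟩, hdis j i hj⟩
    obtain ⟨r, hr⟩ := h.conj_plane hzP hz hz1 (haP i) w w.2
    have hzr : z ^ r ≠ 1 := fun e0 => hw (mul_inv_eq_iff_eq_mul.1 (hr.trans (by rw [e0, mul_one])))
    obtain ⟨j₁, hj₁⟩ := hpow w
    obtain ⟨j₂, hj₂⟩ := hpow ⟨a i, haP i⟩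
    have hfk : ∀ q : ↥PP, ((f (nn ^ k) q : ↥PP) : G) = n ^ k * q * (n ^ k)⁻¹ := fun q => by rw [hf]; simp [hnn]
    rw [hfk] at hj₁ hj₂
    simp only at hj₁ hj₂
    have hcwa : Commute (a i) (z ^ r) := ((show Commute z (a i) from hz _ (haP i)).pow_left r).symm
    have hwz : (w : G) * z ^ r * (w : G)⁻¹ = z ^ r := by
      rw [← ((show Commute z (w : G) from hz _ w.2).pow_left r).eq, mul_inv_cancel_right]
    have hcc : c ^ 2 = t ^ k := by
      have h2 : n ^ k * ((w : G) * a i * (w : G)⁻¹) * (n ^ k)⁻¹ =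
          (n ^ k * (w : G) * (n ^ k)⁻¹) * (n ^ k * a i * (n ^ k)⁻¹) * (n ^ k * (w : G) * (n ^ k)⁻¹)⁻¹ := by group
      rw [hj₁, hj₂, hr] at h2
      have h3 : (w : G) ^ c.val * z ^ j₁ * (a i ^ c.val * z ^ j₂) * ((w : G) ^ c.val * z ^ j₁)⁻¹ =
          a i ^ c.val * z ^ (r * (c.val * c.val)) * z ^ j₂ := by
        have hz0 : ∀ (q : ↥PP) (j : ℕ), Commute (z ^ j) (q : G) := fun q j => (show Commute z (q : G) from hz _ q.2).pow_left j
        calc _ = (w : G) ^ c.val * (z ^ j₁ * (a i ^ c.val * z ^ j₂) * (z ^ j₁)⁻¹) * ((w : G) ^ c.val)⁻¹ := by group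
          _ = (w : G) ^ c.val * (a i ^ c.val * z ^ j₂) * ((w : G) ^ c.val)⁻¹ := by
              rw [show z ^ j₁ * (a i ^ c.val * z ^ j₂) * (z ^ j₁)⁻¹ = a i ^ c.val * z ^ j₂ from by
                rw [((hz0 ⟨a i, haP i⟩ j₁).pow_right c.val |>.mul_right ((Commute.refl z).pow_pow j₁ j₂)).eq,
                  mul_inv_cancel_right]]
          _ = ((w : G) ^ c.val * a i ^ c.val * ((w : G) ^ c.val)⁻¹) * z ^ j₂ := by
              rw [← mul_assoc, mul_assoc _ (z ^ j₂), ((hz0 w j₂).pow_right c.val).inv_right.eq]; group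
          _ = _ := by rw [conj_pow_trans hr hwz hcwa, ← pow_mul]
      rw [h3, show n ^ k * (a i * z ^ r) * (n ^ k)⁻¹ = (n ^ k * a i * (n ^ k)⁻¹) * (n ^ k * z ^ r * (n ^ k)⁻¹) by group,
        hj₂, ← conj_pow, hzk, ← pow_mul, mul_assoc, mul_assoc, ← pow_add, ← pow_add] at h2
      have hzo : orderOf z = p := orderOf_eq_prime (h.pow_eq_one hzP) hz1
      have h4 := cast_eq_of_pow hzo (mul_left_cancel h2)
      have hr0 : (r : ZMod p) ≠ 0 := fun e0 => hzr (by
        rw [pow_eq_pow_of_cast (h.pow_eq_one hzP) (j := 0) (by simpa using e0), pow_zero])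
      push_cast [ZMod.natCast_rightInverse t, ZMod.natCast_rightInverse c] at h4
      exact (mul_left_cancel₀ hr0 (by linear_combination h4)).symm
    have hT1 : T ^ (3 * k) = 1 := Units.ext (by
      rw [Units.val_pow_eq_pow_val, Units.val_one, ← ht]
      rw [hcs] at hcc
      calc t ^ (3 * k) = t ^ (2 * k) * t ^ k := by ring
        _ = (t * s) ^ (2 * k) := by rw [← hcc]; ring
        _ = 1 := by rw [hts, one_pow])
    have hord : orderOf T = p - 1 := by
      rw [orderOf_eq_card_of_forall_mem_zpowers hT, Nat.card_units, Nat.card_zmod]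
    rw [← hord]
    exact orderOf_dvd_of_pow_eq_one hT1

theorem Setting.exists_center_gen (h : Setting P) :
    ∃ z ∈ (P : Subgroup G), (∀ q ∈ (P : Subgroup G), z * q = q * z) ∧ z ≠ 1 := by
  obtain ⟨c, hc, hc1⟩ := (Subgroup.center ↥(P : Subgroup G)).bot_or_exists_ne_one.resolve_left (fun e => by
    have h2 := h.extra.2
    rw [e, Subgroup.card_bot] at h2
    exact hp.out.ne_one h2.symm)
  exact ⟨c, c.2, fun q hq => congrArg Subtype.val (Subgroup.mem_center_iff.1 hc ⟨q, hq⟩).symm,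
    fun e => hc1 (Subtype.ext e)⟩

/-- All elements fused: every noncentral element gives a fused plane. -/
theorem Setting.trans_of_conj (h : Setting P) {z a : G} (hzP : z ∈ (P : Subgroup G)) (haP : a ∈ (P : Subgroup G))
    (hz : ∀ q ∈ (P : Subgroup G), z * q = q * z) (hz1 : z ≠ 1)
    (hna : ¬ ∀ q ∈ (P : Subgroup G), Commute a q) (hg : ∃ g : G, g * z * g⁻¹ = a) :
    ∃ gu gv : G, gu * z * gu⁻¹ = z ∧ gu * a * gu⁻¹ = a * z ∧ gv * a * gv⁻¹ = a ∧ gv * z * gv⁻¹ = z * a := by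
  have hza : Commute z a := hz a haP
  have ha1 : a ≠ 1 := fun e => hna fun q _ => e ▸ Commute.one_left q
  have hP1 : CfsgLib.Fusion.conjBy 1 (P : Subgroup G) = (P : Subgroup G) := CfsgLib.Fusion.conjBy_one _
  have hanz : a ∉ Subgroup.zpowers z := fun hm => hna fun q hq => by
    obtain ⟨k, rfl⟩ := Subgroup.mem_zpowers_iff.1 hm
    exact (show Commute z q from hz q hq).zpow_left k
  have hzna : z ∉ Subgroup.zpowers a := fun hm => hanz (by
    have he : Subgroup.zpowers z = Subgroup.zpowers a := Subgroup.eq_of_le_of_card_ge (Subgroup.zpowers_le.2 hm) (by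
      rw [Nat.card_zpowers, Nat.card_zpowers, orderOf_eq_prime (h.pow_eq_one hzP) hz1,
        orderOf_eq_prime (h.pow_eq_one haP) ha1])
    rw [he]
    exact Subgroup.mem_zpowers a)
  obtain ⟨gu, -, hu1, hu2⟩ := h.exists_trans (z := a) (a := z) ha1 hza.symm hz1 1 (by rw [hP1]; exact haP)
    (by rw [hP1]; exact hzP) (by rw [hP1]; exact hz) hanz
  obtain ⟨g, rfl⟩ := hg
  set a := g * z * g⁻¹ with ha
  set C : Subgroup G := Subgroup.centralizer ({a} : Set G) with hC
  have hQC : CfsgLib.Fusion.conjBy g (P : Subgroup G) ≤ C := CfsgLib.Fusion.conjBy_le_iff.2 fun q hq => by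
    rw [hC, Subgroup.mem_centralizer_singleton_iff, ha]
    calc g * q * g⁻¹ * (g * z * g⁻¹) = g * (q * z) * g⁻¹ := by group
      _ = g * (z * q) * g⁻¹ := by rw [hz q hq]
      _ = _ := by group
  have hidx : ¬ p ∣ (CfsgLib.Fusion.conjBy g (P : Subgroup G)).relIndex C := fun hd => P.not_dvd_index (by
    have h1 := (CfsgLib.Fusion.conjBy g (P : Subgroup G)).card_mul_index
    rw [CfsgLib.Fusion.card_conjBy, ← (P : Subgroup G).card_mul_index] at h1
    rw [← Nat.eq_of_mul_eq_mul_left Nat.card_pos h1]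
    exact hd.trans (Subgroup.relIndex_dvd_index_of_le hQC))
  set A : Subgroup G := Subgroup.closure {z, a} with hA
  have hAP : A ≤ (P : Subgroup G) := (Subgroup.closure_le _).2 (by
    rintro w (rfl | rfl)
    exacts [hzP, haP])
  have hAC : A ≤ C := (Subgroup.closure_le _).2 (by
    rintro w (rfl | rfl) <;> rw [SetLike.mem_coe, hC, Subgroup.mem_centralizer_singleton_iff]
    exact hza.eq)
  obtain ⟨c, hcC, hc⟩ := CfsgLib.Fusion.exists_conj_le_of_not_dvd_relIndex
    (CfsgLib.Fusion.isPGroup_conjBy g P.2) hQC hidx (P.2.to_le hAP) hAC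
  have hmem : ∀ w ∈ A, w ∈ CfsgLib.Fusion.conjBy (c⁻¹ * g) (P : Subgroup G) := fun w hw => by
    have := CfsgLib.Fusion.conjBy_le_iff.1 hc w hw
    rw [CfsgLib.Fusion.mem_conjBy] at this ⊢
    convert this using 1
    group
  have hac : ∀ q ∈ CfsgLib.Fusion.conjBy (c⁻¹ * g) (P : Subgroup G), a * q = q * a := by
    intro q hq
    rw [CfsgLib.Fusion.mem_conjBy] at hq
    have h1 : c * q * c⁻¹ ∈ C := hQC (CfsgLib.Fusion.mem_conjBy.2 (by convert hq using 1; group))
    have h2 := mul_mem (mul_mem (inv_mem hcC) h1) hcC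
    rw [show c⁻¹ * (c * q * c⁻¹) * c = q by group, hC, Subgroup.mem_centralizer_singleton_iff] at h2
    exact h2.symm
  obtain ⟨gv, -, hv1, hv2⟩ := h.exists_trans (z := z) (a := a) hz1 hza ha1 (c⁻¹ * g)
    (hmem z (Subgroup.subset_closure (by simp))) (hmem a (Subgroup.subset_closure (by simp))) hac hzna
  exact ⟨gu, gv, hu1, hu2, hv1, hv2⟩

/-- `p + 1` pairwise noncommuting elements. -/
theorem Setting.exists_family (h : Setting P) :
    ∃ a : Option (ZMod p) → G, (∀ i, a i ∈ (P : Subgroup G)) ∧ (∀ i j, i ≠ j → ¬ Commute (a i) (a j)) := by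
  obtain ⟨x, hx, y, hy, hxy⟩ := h.not_comm
  obtain ⟨z, hzP, hz, hz1⟩ := h.exists_center_gen
  obtain ⟨r, hr⟩ := h.conj_plane hzP hz hz1 hx y hy
  have hd0 : (z ^ r) ^ p = 1 := h.pow_eq_one (pow_mem hzP r)
  have hd1 : z ^ r ≠ 1 := fun e => hxy (mul_inv_eq_iff_eq_mul.1 (hr.trans (by rw [e, mul_one]))).symm
  have hdo : orderOf (z ^ r) = p := orderOf_eq_prime hd0 hd1
  have hdc : ∀ q ∈ (P : Subgroup G), Commute (z ^ r) q := fun q hq => (show Commute z q from hz q hq).pow_left r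
  have hyd : y * z ^ r * y⁻¹ = z ^ r := by rw [← (hdc y hy).eq, mul_inv_cancel_right]
  have key : ∀ k : ℕ, y ^ k * x = x * y ^ k * (z ^ r) ^ k := by
    intro k
    have h1 := conj_pow_trans hr hyd (hdc x hx).symm k 1
    rw [pow_one, mul_one, mul_inv_eq_iff_eq_mul] at h1
    rw [h1, mul_assoc, mul_assoc, ((hdc (y ^ k) (pow_mem hy k)).pow_left k).eq]
  refine ⟨fun i => i.elim y fun k => x * y ^ k.val, fun i => ?_, fun i j hij => ?_⟩
  · cases i with
    | none => exact hy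
    | some k => exact mul_mem hx (pow_mem hy _)
  · have hy' : ∀ k : ℕ, ¬ Commute (x * y ^ k) y := fun k hc => hxy (by
      have h2 : x * y ^ k * y = y * (x * y ^ k) := hc
      rw [mul_assoc, ← pow_succ, pow_succ', ← mul_assoc, ← mul_assoc] at h2
      exact mul_right_cancel h2)
    cases i with
    | none =>
      cases j with
      | none => exact absurd rfl hij
      | some l => exact fun hc => hy' _ hc.symm
    | some k =>
      cases j with
      | none => exact hy' _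
      | some l =>
        intro hc
        refine hij (congrArg some ?_)
        have h3 : ∀ m n : ℕ, x * y ^ m * (x * y ^ n) = x * x * y ^ (m + n) * (z ^ r) ^ m := by
          intro m n
          calc x * y ^ m * (x * y ^ n) = x * (y ^ m * x) * y ^ n := by group
            _ = x * (x * y ^ m * (z ^ r) ^ m) * y ^ n := by rw [key]
            _ = x * x * y ^ m * ((z ^ r) ^ m * y ^ n) := by group
            _ = _ := by rw [((hdc (y ^ n) (pow_mem hy n)).pow_left m).eq, pow_add]; group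
        have h4 : x * y ^ k.val * (x * y ^ l.val) = x * y ^ l.val * (x * y ^ k.val) := hc
        rw [h3, h3, add_comm l.val] at h4
        have := cast_eq_of_pow hdo (mul_left_cancel h4)
        rwa [ZMod.natCast_rightInverse k, ZMod.natCast_rightInverse l] at this

theorem Setting.all_fused_bound (h : Setting P)
    (hconj : ∀ x y : ↥(P : Subgroup G), x ≠ 1 → y ≠ 1 → ∃ g : G, g * (x : G) * g⁻¹ = (y : G)) : p ≤ 7 := by
  by_contra hcon
  have h11 : 11 ≤ p := by
    by_contra h11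
    have := hp.out
    interval_cases p <;> norm_num at this
  obtain ⟨a, haP, hdis⟩ := h.exists_family
  obtain ⟨z, hzP, hz, hz1⟩ := h.exists_center_gen
  have hι : Fintype.card (Option (ZMod p)) = p + 1 := by rw [Fintype.card_option, ZMod.card]
  have hg3 : Nat.gcd 3 (p - 1) ≤ 3 := Nat.gcd_le_left _ (by norm_num)
  have hgd : Nat.gcd 3 (p - 1) ∣ p - 1 := Nat.gcd_dvd_right _ _
  have hmul : (p - 1) / Nat.gcd 3 (p - 1) * Nat.gcd 3 (p - 1) = p - 1 := Nat.div_mul_cancel hgd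
  have hm : 4 ≤ (p - 1) / Nat.gcd 3 (p - 1) := by
    by_contra hm
    have : (p - 1) / Nat.gcd 3 (p - 1) * Nat.gcd 3 (p - 1) ≤ 3 * 3 := Nat.mul_le_mul (by omega) hg3
    omega
  have hna : ∀ i, ¬ ∀ q ∈ (P : Subgroup G), Commute (a i) q := fun i hc => by
    obtain ⟨j, hj⟩ : ∃ j, j ≠ i := Fintype.exists_ne_of_one_lt_card (by rw [hι]; omega) i
    exact hdis i j hj.symm (hc _ (haP j))
  obtain ⟨h5, h4⟩ := h.bound hzP hz hz1 hm (by rw [hι]; omega) a haP hdis fun i =>
    h.trans_of_conj hzP (haP i) hz hz1 (hna i) (hconj ⟨z, hzP⟩ ⟨a i, haP i⟩ (fun e => hz1 (congrArg Subtype.val e))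
      (fun e => hna i fun q _ => by rw [show a i = 1 from congrArg Subtype.val e]; exact Commute.one_left q))
  have hle : p ≤ 16 := by
    have : (p - 1) / Nat.gcd 3 (p - 1) * Nat.gcd 3 (p - 1) ≤ 5 * 3 := Nat.mul_le_mul h5 hg3
    omega
  have hpp := hp.out
  rw [hι] at h4
  interval_cases p <;> first | (exfalso; revert hpp; norm_num; done) | exact absurd h5 (by decide +kernel) | exact absurd (h4 (by decide +kernel)) (by decide +kernel)

/-- An automorphism of order `p` of a plane. -/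
theorem shear_aut {A : Type*} [Group A] (f : Multiplicative (ZMod p × ZMod p) ≃* A) (b : Bool) :
    ∃ φ : MulAut A, orderOf φ = p ∧ ∀ i j : ZMod p, φ (f (Multiplicative.ofAdd (i, j))) =
      f (Multiplicative.ofAdd (if b then (i + j, j) else (i, i + j))) := by
  let sh : ZMod p → MulAut (Multiplicative (ZMod p × ZMod p)) := fun k => AddEquiv.toMultiplicative
    { toFun := fun v => if b then (v.1 + k * v.2, v.2) else (v.1, v.2 + k * v.1)
      invFun := fun v => if b then (v.1 - k * v.2, v.2) else (v.1, v.2 - k * v.1)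
      left_inv := fun v => by cases b <;> simp
      right_inv := fun v => by cases b <;> simp
      map_add' := fun v w => by cases b <;> simp [Prod.ext_iff] <;> ring }
  let ψ : Multiplicative (ZMod p) →* MulAut A :=
    { toFun := fun k => MulAut.congr f (sh k.toAdd)
      map_one' := by
        rw [← map_one (MulAut.congr f)]
        congr 1
        ext v <;> cases b <;> simp [sh]
      map_mul' := fun k l => by
        rw [← map_mul (MulAut.congr f)]
        congr 1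
        ext v <;> cases b <;> simp [sh, add_mul] <;> ring }
  have happ : ∀ i j : ZMod p, ψ (Multiplicative.ofAdd 1) (f (Multiplicative.ofAdd (i, j))) =
      f (Multiplicative.ofAdd (if b then (i + j, j) else (i, i + j))) := by
    intro i j
    show MulAut.congr f (sh 1) (f _) = _
    cases b <;> simp [MulAut.congr, sh, add_comm]
  refine ⟨_, orderOf_eq_prime ?_ ?_, happ⟩
  · rw [← map_pow, ← ofAdd_nsmul, nsmul_one, ZMod.natCast_self, ofAdd_zero, map_one]
  · intro e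
    have h1 := happ (if b then 0 else 1) (if b then 1 else 0)
    rw [e, MulAut.one_apply] at h1
    have h2 := f.injective h1
    cases b <;> simp [Prod.ext_iff] at h2

/-- A plane with full `SL`-automization. -/
theorem Setting.trans_of_sl (h : Setting P) (A : Subgroup G) (hAP : A ≤ (P : Subgroup G)) (hA : Nat.card A = p ^ 2)
    (hSL : ∀ φ : MulAut ↥A, orderOf φ = p → ∃ g : G, ∀ a : ↥A, (φ a : G) = g * (a : G) * g⁻¹)
    {z : G} (hzP : z ∈ (P : Subgroup G)) (hz : ∀ q ∈ (P : Subgroup G), z * q = q * z) (hz1 : z ≠ 1) :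
    ∃ a ∈ A, z ∈ A ∧ (∀ q ∈ (P : Subgroup G), Commute a q → q ∈ A) ∧ ∃ gu gv : G, gu * z * gu⁻¹ = z ∧ gu * a * gu⁻¹ = a * z ∧
      gv * a * gv⁻¹ = a ∧ gv * z * gv⁻¹ = z * a := by
  haveI := IsPGroup.isMulCommutative_of_card_eq_prime_sq (G := A) hA
  have hcomm : ∀ u ∈ A, ∀ v ∈ A, Commute u v := fun u hu v hv =>
    congrArg Subtype.val (mul_comm' (⟨u, hu⟩ : A) ⟨v, hv⟩)
  obtain ⟨a, haA, hna⟩ : ∃ a ∈ A, ¬ ∀ q ∈ (P : Subgroup G), Commute a q := by
    by_contra hcon
    push Not at hcon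
    have h1 : A.subgroupOf (P : Subgroup G) ≤ Subgroup.center ↥(P : Subgroup G) := fun w hw =>
      Subgroup.mem_center_iff.2 fun v => Subtype.ext (hcon w hw v v.2).symm
    have h2 := Subgroup.card_le_of_le h1
    rw [h.extra.2, Nat.card_congr (Subgroup.subgroupOfEquivOfLe hAP).toEquiv, hA] at h2
    nlinarith [hp.out.two_le]
  have haP := hAP haA
  set T : Subgroup G := (P : Subgroup G) ⊓ Subgroup.centralizer ({a} : Set G) with hT
  have hAT : A = T := by
    refine Subgroup.eq_of_le_of_card_ge (le_inf hAP fun u hu =>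
      Subgroup.mem_centralizer_singleton_iff.2 (hcomm u hu a haA).eq) ?_
    obtain ⟨j, hj3, hjc⟩ := (Nat.dvd_prime_pow hp.out).1 (h.card ▸ Subgroup.card_dvd_of_le (inf_le_left : T ≤ _))
    rw [hjc, hA]
    refine Nat.pow_le_pow_right hp.out.pos ?_
    by_contra hj
    have hTP : T = (P : Subgroup G) := Subgroup.eq_of_le_of_card_ge inf_le_left (by
      rw [h.card, hjc]; exact Nat.pow_le_pow_right hp.out.pos (by omega))
    refine hna fun q hq => ?_
    have := (hTP.symm ▸ hq : q ∈ T).2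
    exact (Subgroup.mem_centralizer_singleton_iff.1 this).symm
  have hzA : z ∈ A := by
    rw [hAT]
    exact ⟨hzP, Subgroup.mem_centralizer_singleton_iff.2 (hz a haP)⟩
  refine ⟨a, haA, hzA, fun q hq hc => hAT ▸ ⟨hq, Subgroup.mem_centralizer_singleton_iff.2 hc.eq.symm⟩, ?_⟩
  have hz0 := h.pow_eq_one hzP
  have ha0 := h.pow_eq_one haP
  let f₀ : Multiplicative (ZMod p × ZMod p) →* ↥A :=
    MonoidHom.mk' (fun v => ⟨z ^ v.toAdd.1.val * a ^ v.toAdd.2.val, mul_mem (pow_mem hzA _) (pow_mem haA _)⟩)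
      (fun v w => Subtype.ext (by
        show z ^ (v.toAdd.1 + w.toAdd.1).val * a ^ (v.toAdd.2 + w.toAdd.2).val = _
        rw [pow_eq_pow_of_cast hz0 (j := v.toAdd.1.val + w.toAdd.1.val) (by simp [ZMod.natCast_rightInverse _]),
          pow_eq_pow_of_cast ha0 (j := v.toAdd.2.val + w.toAdd.2.val) (by simp [ZMod.natCast_rightInverse _]), pow_add,
          pow_add]
        exact ((show Commute z a from hz a haP).pow_pow w.toAdd.1.val v.toAdd.2.val).mul_mul_mul_comm _ _))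
  have hinj : Function.Injective f₀ := by
    rw [injective_iff_map_eq_one]
    intro v hv
    have h1 : z ^ v.toAdd.1.val * a ^ v.toAdd.2.val = 1 := congrArg Subtype.val hv
    have hj : v.toAdd.2 = 0 := by
      by_contra hj
      obtain ⟨m, hm⟩ : ∃ m, (a ^ v.toAdd.2.val) ^ m = a := exists_pow_eq_self_of_coprime
        (Nat.Coprime.coprime_dvd_right (orderOf_dvd_of_pow_eq_one ha0) (by
          rw [Nat.coprime_comm, hp.out.coprime_iff_not_dvd, ← ZMod.natCast_eq_zero_iff, ZMod.natCast_rightInverse]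
          exact hj))
      refine hna fun q hq => ?_
      rw [← hm, eq_inv_of_mul_eq_one_right h1]
      exact ((show Commute z q from hz q hq).pow_left _).inv_left.pow_left _
    rw [hj, ZMod.val_zero, pow_zero, mul_one] at h1
    have hi : v.toAdd.1 = 0 := by
      have := cast_eq_of_pow (orderOf_eq_prime hz0 hz1) (h1.trans (pow_zero z).symm)
      rwa [ZMod.natCast_rightInverse, Nat.cast_zero] at this
    exact Multiplicative.toAdd.injective (Prod.ext hi hj)
  let f := MulEquiv.ofBijective f₀ ((Nat.bijective_iff_injective_and_card f₀).2 ⟨hinj, by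
    rw [hA, Nat.card_congr Multiplicative.toAdd, Nat.card_prod, Nat.card_zmod, pow_two]⟩)
  have hf : ∀ i j : ZMod p, ((f (Multiplicative.ofAdd (i, j)) : ↥A) : G) = z ^ i.val * a ^ j.val := fun _ _ => rfl
  obtain ⟨φ1, ho1, h1⟩ := shear_aut f true
  obtain ⟨φ2, ho2, h2⟩ := shear_aut f false
  obtain ⟨g1, hg1⟩ := hSL φ1 ho1
  obtain ⟨g2, hg2⟩ := hSL φ2 ho2
  have e10 : ((f (Multiplicative.ofAdd (1, 0)) : ↥A) : G) = z := by rw [hf]; simp [ZMod.val_one]
  have e01 : ((f (Multiplicative.ofAdd (0, 1)) : ↥A) : G) = a := by rw [hf]; simp [ZMod.val_one]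
  have e11 : ((f (Multiplicative.ofAdd (1, 1)) : ↥A) : G) = z * a := by rw [hf]; simp [ZMod.val_one]
  have hza : Commute z a := hz a haP
  refine ⟨g1, g2, ?_, ?_, ?_, ?_⟩
  · have := hg1 (f (Multiplicative.ofAdd (1, 0)))
    rw [h1, e10] at this
    simpa [e10] using this.symm
  · have := hg1 (f (Multiplicative.ofAdd (0, 1)))
    rw [h1, e01] at this
    simpa [e11, hza.eq] using this.symm
  · have := hg2 (f (Multiplicative.ofAdd (0, 1)))
    rw [h2, e01] at this
    simpa [e01] using this.symm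
  · have := hg2 (f (Multiplicative.ofAdd (1, 0)))
    rw [h2, e10] at this
    simpa [e11] using this.symm

theorem Setting.three_planes_bound (h : Setting P) (A : Fin 3 → Subgroup G) (hA : Function.Injective A)
    (hAP : ∀ i, A i ≤ (P : Subgroup G)) (hAcard : ∀ i, Nat.card ↥(A i) = p ^ 2)
    (hSL : ∀ i, ∀ φ : MulAut ↥(A i), orderOf φ = p → ∃ g : G, ∀ a : ↥(A i), (φ a : G) = g * (a : G) * g⁻¹) :
    p ≤ 13 := by
  by_contra hcon
  obtain ⟨z, hzP, hz, hz1⟩ := h.exists_center_gen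
  choose a haA hzA hcent htr using fun i => h.trans_of_sl (A i) (hAP i) (hAcard i) (hSL i) hzP hz hz1
  have hg3 : Nat.gcd 3 (p - 1) ≤ 3 := Nat.gcd_le_left _ (by norm_num)
  have hgd : Nat.gcd 3 (p - 1) ∣ p - 1 := Nat.gcd_dvd_right _ _
  have hmul : (p - 1) / Nat.gcd 3 (p - 1) * Nat.gcd 3 (p - 1) = p - 1 := Nat.div_mul_cancel hgd
  have hm : 4 ≤ (p - 1) / Nat.gcd 3 (p - 1) := by
    by_contra hm
    have : (p - 1) / Nat.gcd 3 (p - 1) * Nat.gcd 3 (p - 1) ≤ 3 * 3 := Nat.mul_le_mul (by omega) hg3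
    omega
  obtain ⟨h5, -⟩ := h.bound hzP hz hz1 hm (ι := Fin 3) (by simp) a (fun i => hAP i (haA i))
    (fun i j hij hc => hij (hA (by
      haveI := IsPGroup.isMulCommutative_of_card_eq_prime_sq (G := A j) (hAcard j)
      refine (Subgroup.eq_of_le_of_card_ge (fun q hq => hcent i q (hAP j hq) ?_) (by rw [hAcard, hAcard])).symm
      have hsub : ∀ w ∈ A i, Commute w (a i) := fun w hw => by
        haveI := IsPGroup.isMulCommutative_of_card_eq_prime_sq (G := A i) (hAcard i)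
        exact congrArg Subtype.val (mul_comm' (⟨w, hw⟩ : A i) ⟨a i, haA i⟩)
      have haj : a j ∈ A i := hcent i _ (hAP j (haA j)) hc
      have hq1 : Commute q (a j) := congrArg Subtype.val (mul_comm' (⟨q, hq⟩ : A j) ⟨a j, haA j⟩)
      have hai : a i ∈ A j := hcent j _ (hAP i (haA i)) hc.symm
      exact (congrArg Subtype.val (mul_comm' (⟨q, hq⟩ : A j) ⟨a i, hai⟩) : Commute q (a i)).symm)))
    htr
  have : (p - 1) / Nat.gcd 3 (p - 1) * Nat.gcd 3 (p - 1) ≤ 5 * 3 := Nat.mul_le_mul h5 hg3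
  have h16 : p ≤ 16 := by omega
  have hpp := hp.out
  interval_cases p <;> norm_num at hpp

end CfsgLib.ExtraPlanes
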