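import Cfsg.Agent.Lib.Invol.CyclicNormalAbelian
import Cfsg.Agent.Lib.Coprime.PGroupFrattini
import Cfsg.Agent.Lib.Coprime.UniqueOrderP
import Cfsg.Agent.Lib.PGroup.FrattiniLe

/-!
# The Frattini index of a 2-group acting faithfully on an abelian group of odd order
-/

set_option autoImplicit false

namespace CfsgLib.FaithfulFrattini

open Subgroup
open scoped commutatorElement

section Frattini

variable {P : Type*} [Group P] [Finite P] {p : ℕ} [Fact p.Prime]

theorem frattini_index_le_of_le {F : Subgroup P} (hpow : ∀ x : P, x ^ p ∈ F)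
    (hcomm : commutator P ≤ F) : F.index ≤ (frattini P).index := by
  haveI : (frattini P).FiniteIndex := inferInstance
  exact Subgroup.index_antitone (CfsgLib.FrattiniLe.frattini_le_of_pow_of_commutator hpow hcomm)

theorem relIndex_frattini_le (hP : IsPGroup p P) (N : Subgroup P) :
    (frattini P).relIndex N ≤ (frattini N).index :=
  frattini_index_le_of_le (F := (frattini P).subgroupOf N)
    (fun x => by
      show ((x ^ p : N) : P) ∈ frattini P
      rw [SubgroupClass.coe_pow]
      exact CfsgLib.Coprime.pow_mem_frattini hP _)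
    (by
      rw [commutator_def, commutator_le]
      intro x _ y _
      show ((⁅x, y⁆ : N) : P) ∈ frattini P
      exact CfsgLib.Coprime.commutator_le_frattini hP
        (commutator_mem_commutator (mem_top (x : P)) (mem_top (y : P))))

theorem index_frattini_le_mul {Q : Type*} [Group Q] (hP : IsPGroup p P) (ψ : P →* Q) :
    (frattini P).index ≤ (frattini ψ.range).index * (frattini ψ.ker).index := by
  set F := frattini P with hF
  haveI : Finite ψ.range := Finite.of_surjective _ ψ.rangeRestrict_surjective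
  have hF' : F ≤ F ⊔ ψ.ker := le_sup_left
  rw [← Subgroup.relIndex_mul_index hF', mul_comm]
  refine Nat.mul_le_mul ?_ ?_
  · rw [← Subgroup.index_map_eq (f := ψ.rangeRestrict) (F ⊔ ψ.ker) ψ.rangeRestrict_surjective
      (by rw [MonoidHom.ker_rangeRestrict]; exact le_sup_right)]
    refine frattini_index_le_of_le (p := p) (fun x => ?_) ?_
    · obtain ⟨y, rfl⟩ := ψ.rangeRestrict_surjective x
      rw [← map_pow]
      exact mem_map_of_mem _ (mem_sup_left (CfsgLib.Coprime.pow_mem_frattini hP y))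
    · rw [commutator_def, ← Subgroup.map_top_of_surjective _ ψ.rangeRestrict_surjective,
        ← Subgroup.map_commutator]
      exact Subgroup.map_mono ((CfsgLib.Coprime.commutator_le_frattini hP).trans le_sup_left)
  · rw [Subgroup.relIndex_sup_left]
    exact relIndex_frattini_le hP _

theorem index_frattini_le_of_injective {Q : Type*} [Group Q] (hP : IsPGroup p P) (ψ : P →* Q)
    (hψ : Function.Injective ψ) : (frattini P).index ≤ (frattini ψ.range).index := by
  refine (index_frattini_le_mul hP ψ).trans ?_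
  have h : Subsingleton ψ.ker := by
    rw [(MonoidHom.ker_eq_bot_iff ψ).2 hψ]
    infer_instance
  rw [Subgroup.index_eq_one.2 (Subsingleton.elim (frattini ψ.ker) ⊤), mul_one]

/-- A two-generated 2-group has Frattini index at most four. -/
theorem index_frattini_le_four (hP : IsPGroup 2 P) {a b : P}
    (h : ∀ x : P, ∃ i j : ℤ, x = a ^ i * b ^ j) : (frattini P).index ≤ 4 := by
  haveI : Fact (Nat.Prime 2) := ⟨Nat.prime_two⟩
  set π := QuotientGroup.mk' (frattini P)
  have hsq : ∀ c : P, ∀ i : ℤ, π (c ^ i) = π c ^ (i % 2).toNat := fun c i => by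
    have h2 : π c ^ (2 : ℤ) = 1 := by
      rw [← map_zpow, QuotientGroup.mk'_apply, QuotientGroup.eq_one_iff]
      rw [zpow_ofNat]
      exact CfsgLib.Coprime.pow_mem_frattini hP c
    rw [← zpow_natCast, Int.toNat_of_nonneg (by omega), map_zpow]
    conv_lhs => rw [← Int.mul_ediv_add_emod i 2, zpow_add, zpow_mul, h2, one_zpow, one_mul]
  have hsur : Function.Surjective
      fun x : Fin 2 × Fin 2 => π a ^ (x.1 : ℕ) * π b ^ (x.2 : ℕ) := by
    intro q
    obtain ⟨x, rfl⟩ := QuotientGroup.mk'_surjective _ q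
    obtain ⟨i, j, rfl⟩ := h x
    exact ⟨(⟨(i % 2).toNat, by omega⟩, ⟨(j % 2).toNat, by omega⟩), by
      show _ = π (a ^ i * b ^ j)
      rw [map_mul, hsq, hsq]⟩
  rw [Subgroup.index_eq_card]
  refine (Nat.card_le_card_of_surjective _ hsur).trans ?_
  simp

theorem index_frattini_le_two (hP : IsPGroup 2 P) [IsCyclic P] : (frattini P).index ≤ 2 := by
  haveI : Fact (Nat.Prime 2) := ⟨Nat.prime_two⟩
  obtain ⟨a, ha⟩ := IsCyclic.exists_generator (α := P)
  set π := QuotientGroup.mk' (frattini P)
  have hsur : Function.Surjective fun x : Fin 2 => π a ^ (x : ℕ) := by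
    intro q
    obtain ⟨x, rfl⟩ := QuotientGroup.mk'_surjective _ q
    obtain ⟨i, rfl⟩ := mem_zpowers_iff.1 (ha x)
    refine ⟨⟨(i % 2).toNat, by omega⟩, ?_⟩
    have h2 : π a ^ (2 : ℤ) = 1 := by
      rw [← map_zpow, QuotientGroup.mk'_apply, QuotientGroup.eq_one_iff]
      rw [zpow_ofNat]
      exact CfsgLib.Coprime.pow_mem_frattini hP a
    show π a ^ _ = π (a ^ i)
    rw [← zpow_natCast, Int.toNat_of_nonneg (by omega), map_zpow]
    conv_rhs => rw [← Int.mul_ediv_add_emod i 2, zpow_add, zpow_mul, h2, one_zpow, one_mul]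
  rw [Subgroup.index_eq_card]
  exact (Nat.card_le_card_of_surjective _ hsur).trans (by simp)

end Frattini

universe u

variable {V : Type u} [CommGroup V]

/-- The bound. -/
def Bd (n x : ℕ) : Prop := 2 * x ≤ n ∨ (n = 3 ∧ x ≤ 2)

theorem Bd.mul {a b x y z : ℕ} (ha : Bd a x) (hb : Bd b y) (hz : z ≤ x * y) : Bd (a * b) z := by
  left
  rcases ha with h | ⟨rfl, h⟩ <;> rcases hb with h' | ⟨rfl, h'⟩ <;> nlinarith

/-- The points fixed by a set of automorphisms. -/
def fixer (B : Subgroup (MulAut V)) : Subgroup V where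
  carrier := {v | ∀ b ∈ B, b v = v}
  one_mem' b _ := map_one b
  mul_mem' hv hw b hb := by rw [map_mul, hv b hb, hw b hb]
  inv_mem' hv b hb := by rw [map_inv, hv b hb]

theorem mem_fixer {B : Subgroup (MulAut V)} {v : V} : v ∈ fixer B ↔ ∀ b ∈ B, b v = v := Iff.rfl

theorem fixer_conj {B B' : Subgroup (MulAut V)} {g : MulAut V} {v : V}
    (hB : ∀ x ∈ B', g⁻¹ * x * g ∈ B) (hv : v ∈ fixer B) : g v ∈ fixer B' := by
  intro x hx
  have h := congrArg g (hv _ (hB x hx))
  rwa [MulAut.mul_apply, MulAut.mul_apply, MulAut.apply_inv_self] at h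

/-- An involutory automorphism without fixed points inverts everything. -/
theorem eq_inv_of_fixer_eq_bot {z : MulAut V} (hz : z ^ 2 = 1)
    (h : fixer (zpowers z) = ⊥) (v : V) : z v = v⁻¹ := by
  have hzz : z (z v) = v := by rw [← MulAut.mul_apply, ← pow_two, hz, MulAut.one_apply]
  have hm : v * z v ∈ fixer (zpowers z) := by
    intro b hb
    obtain ⟨i, rfl⟩ := mem_zpowers_iff.1 hb
    have hf : z (v * z v) = v * z v := by rw [map_mul, hzz, mul_comm]
    have : zpowers z ≤ MulAction.stabilizer (MulAut V) (v * z v) := zpowers_le.2 hf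
    exact this (zpow_mem (mem_zpowers z) i)
  rw [h, mem_bot] at hm
  exact eq_inv_of_mul_eq_one_right hm

/-- The action on an invariant subgroup. -/
def resHom {K : Type*} [Group K] (φ : K →* MulAut V) (W : Subgroup V)
    (hW : ∀ k, ∀ w ∈ W, φ k w ∈ W) : K →* MulAut W where
  toFun k :=
    { toFun := fun w => ⟨φ k w, hW k _ w.2⟩
      invFun := fun w => ⟨φ k⁻¹ w, hW _ _ w.2⟩
      left_inv := fun w => Subtype.ext (by
        show φ k⁻¹ (φ k w) = w
        rw [← MulAut.mul_apply, ← map_mul, inv_mul_cancel, map_one, MulAut.one_apply])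
      right_inv := fun w => Subtype.ext (by
        show φ k (φ k⁻¹ w) = w
        rw [← MulAut.mul_apply, ← map_mul, mul_inv_cancel, map_one, MulAut.one_apply])
      map_mul' := fun w w' => Subtype.ext (map_mul (φ k) _ _) }
  map_one' := MulEquiv.ext fun w => Subtype.ext (by show φ 1 (w : V) = w; rw [map_one]; rfl)
  map_mul' k l := MulEquiv.ext fun w => Subtype.ext (by
    show φ (k * l) (w : V) = φ k (φ l w)
    rw [map_mul]
    rfl)

/-- The action on the quotient by an invariant subgroup. -/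
def quotHom {K : Type*} [Group K] (φ : K →* MulAut V) (W : Subgroup V)
    (hW : ∀ k, ∀ w ∈ W, φ k w ∈ W) : K →* MulAut (V ⧸ W) where
  toFun k :=
    { toFun := QuotientGroup.map W W (φ k).toMonoidHom (fun w hw => hW k w hw)
      invFun := QuotientGroup.map W W (φ k⁻¹).toMonoidHom (fun w hw => hW _ w hw)
      left_inv := fun q => by
        induction q using QuotientGroup.induction_on with
        | _ v =>
          show ((φ k⁻¹ (φ k v) : V) : V ⧸ W) = (v : V ⧸ W)
          rw [← MulAut.mul_apply, ← map_mul, inv_mul_cancel, map_one, MulAut.one_apply]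
      right_inv := fun q => by
        induction q using QuotientGroup.induction_on with
        | _ v =>
          show ((φ k (φ k⁻¹ v) : V) : V ⧸ W) = (v : V ⧸ W)
          rw [← MulAut.mul_apply, ← map_mul, mul_inv_cancel, map_one, MulAut.one_apply]
      map_mul' := map_mul _ }
  map_one' := MulEquiv.ext fun q => by
    induction q using QuotientGroup.induction_on with
    | _ v => show ((φ 1 v : V) : V ⧸ W) = (v : V ⧸ W); rw [map_one]; rfl
  map_mul' k l := MulEquiv.ext fun q => by
    induction q using QuotientGroup.induction_on with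
    | _ v => show ((φ (k * l) v : V) : V ⧸ W) = ((φ k (φ l v) : V) : V ⧸ W); rw [map_mul]; rfl

/-- An element of a 2-group trivial on `W` and on `V ⧸ W` is trivial. -/
theorem eq_one_of_trivial [Finite V] (hodd : Odd (Nat.card V)) {K : Type*} [Group K]
    (hK : IsPGroup 2 K) {φ : K →* MulAut V} (hφ : Function.Injective φ) {W : Subgroup V}
    {k : K} (h1 : ∀ w ∈ W, φ k w = w) (h2 : ∀ v, v⁻¹ * φ k v ∈ W) : k = 1 := by
  obtain ⟨n, hn⟩ := hK k
  refine hφ (MulEquiv.ext fun v => ?_)
  rw [map_one, MulAut.one_apply]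
  set w := v⁻¹ * φ k v with hw
  have hkv : φ k v = v * w := by rw [hw, mul_inv_cancel_left]
  have hpow : ∀ m : ℕ, φ (k ^ m) v = v * w ^ m := by
    intro m
    induction m with
    | zero => simp
    | succ m ih =>
      rw [pow_succ', map_mul, MulAut.mul_apply, ih, map_mul, map_pow (φ k), h1 w (h2 v), hkv,
        pow_succ', mul_assoc]
  have h := hpow (2 ^ n)
  rw [hn, map_one, MulAut.one_apply, left_eq_mul] at h
  have hcop : (Nat.card V).Coprime (2 ^ n) := (Nat.coprime_two_right.2 hodd).pow_right n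
  have : w = 1 := (Nat.Coprime.pow_left_bijective hcop).injective (by simpa using h)
  rw [hkv, this, mul_one]

/-- The bound, as a property of the module. -/
def HasBd (V : Type u) [CommGroup V] : Prop :=
  ∀ P : Subgroup (MulAut V), IsPGroup 2 P → Bd (Nat.card V) (frattini P).index

theorem hasBd_range {K : Type*} [Group K] [Finite K] (hK : IsPGroup 2 K) (h : HasBd V)
    (ψ : K →* MulAut V) (hψ : Function.Injective ψ) : Bd (Nat.card V) (frattini K).index := by
  haveI : Fact (Nat.Prime 2) := ⟨Nat.prime_two⟩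
  have h1 := index_frattini_le_of_injective hK ψ hψ
  rcases h ψ.range (hK.of_surjective _ ψ.rangeRestrict_surjective) with h2 | ⟨h2, h3⟩
  · exact Or.inl (by omega)
  · exact Or.inr ⟨h2, h1.trans h3⟩

theorem ker_quot_injective [Finite V] (hodd : Odd (Nat.card V)) {K : Type*} [Group K]
    (hK : IsPGroup 2 K) {φ : K →* MulAut V} (hφ : Function.Injective φ) {W : Subgroup V}
    (hW : ∀ k, ∀ w ∈ W, φ k w ∈ W) :
    Function.Injective ((quotHom φ W hW).comp (resHom φ W hW).ker.subtype) := by
  refine (injective_iff_map_eq_one _).2 fun k hk => Subtype.ext ?_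
  refine eq_one_of_trivial hodd hK hφ (W := W) (fun w hw => ?_) fun v => ?_
  · exact congrArg Subtype.val (DFunLike.congr_fun (MonoidHom.mem_ker.1 k.2) ⟨w, hw⟩)
  · have h := DFunLike.congr_fun hk (v : V ⧸ W)
    exact QuotientGroup.eq.1 (h.symm : (v : V ⧸ W) = ((φ k v : V) : V ⧸ W))

theorem bd_of_invariant [Finite V] (hodd : Odd (Nat.card V)) {K : Type*} [Group K] [Finite K]
    (hK : IsPGroup 2 K) {φ : K →* MulAut V} (hφ : Function.Injective φ) {W : Subgroup V}
    (hW : ∀ k, ∀ w ∈ W, φ k w ∈ W) (h1 : HasBd W) (h2 : HasBd (V ⧸ W)) :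
    ∃ x y, Bd (Nat.card W) x ∧ Bd (Nat.card (V ⧸ W)) y ∧ (frattini K).index ≤ x * y := by
  haveI : Fact (Nat.Prime 2) := ⟨Nat.prime_two⟩
  exact ⟨_, _, h1 _ (hK.of_surjective _ (resHom φ W hW).rangeRestrict_surjective),
    hasBd_range (hK.to_subgroup _) h2 _ (ker_quot_injective hodd hK hφ hW),
    index_frattini_le_mul hK (resHom φ W hW)⟩

/-- Groups of order three have two automorphisms. -/
theorem card_mulAut_three {W : Type*} [Group W] (h : Nat.card W = 3) :
    Nat.card (MulAut W) = 2 := by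
  haveI : Fact (Nat.Prime 3) := ⟨Nat.prime_three⟩
  haveI : IsCyclic W := isCyclic_of_prime_card h
  haveI : Finite W := Nat.finite_of_card_ne_zero (by omega)
  rw [IsCyclic.card_mulAut, h]
  rfl

/-- **A 2-group acting faithfully on an abelian group of odd order has small Frattini index.** -/
theorem hasBd_aux : ∀ n : ℕ, ∀ (V : Type u) [CommGroup V] [Finite V] [Nontrivial V],
    Nat.card V = n → Odd (Nat.card V) → HasBd V := by
  haveI : Fact (Nat.Prime 2) := ⟨Nat.prime_two⟩
  intro n
  induction n using Nat.strong_induction_on with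
  | _ n ih =>
  intro V _ _ _ hn hodd P hP
  have hcard1 : 1 < Nat.card V := Finite.one_lt_card
  have hsub : ∀ W : Subgroup V, W ≠ ⊥ → W ≠ ⊤ → HasBd W ∧ HasBd (V ⧸ W) := by
    intro W hb ht
    have hmul : Nat.card W * Nat.card (V ⧸ W) = Nat.card V := W.card_mul_index
    haveI : Nontrivial W := (Subgroup.nontrivial_iff_ne_bot W).2 hb
    haveI : Nontrivial (V ⧸ W) := Finite.one_lt_card_iff_nontrivial.1 (by
      have := (Nat.card_pos (α := V ⧸ W))
      by_contra hc
      exact ht (Subgroup.index_eq_one.1 (show Nat.card (V ⧸ W) = 1 by omega)))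
    have hW1 : 1 < Nat.card W := Finite.one_lt_card
    have hQ1 : 1 < Nat.card (V ⧸ W) := Finite.one_lt_card
    have ho := hodd
    rw [← hmul, Nat.odd_mul] at ho
    exact ⟨ih _ (by nlinarith) W rfl ho.1, ih _ (by nlinarith) (V ⧸ W) rfl ho.2⟩
  have hinj : Function.Injective P.subtype := P.subtype_injective
  by_cases hred : ∃ W : Subgroup V, W ≠ ⊥ ∧ W ≠ ⊤ ∧ ∀ g ∈ P, ∀ w ∈ W, g w ∈ W
  · obtain ⟨W, hb, ht, hW⟩ := hred
    obtain ⟨x, y, hx, hy, hz⟩ := bd_of_invariant hodd hP hinj
      (fun k w hw => hW k k.2 w hw) (hsub W hb ht).1 (hsub W hb ht).2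
    rw [← W.card_mul_index]
    exact Bd.mul hx hy hz
  push_neg at hred
  have hirr : ∀ W : Subgroup V, (∀ g ∈ P, ∀ w ∈ W, g w ∈ W) → W = ⊥ ∨ W = ⊤ := by
    intro W hW
    by_contra h
    push_neg at h
    obtain ⟨g, hg, w, hw, hgw⟩ := hred W h.1 h.2
    exact hgw (hW g hg w hw)
  by_cases hprim : ∀ A : Subgroup P, A.Normal → IsMulCommutative A → IsCyclic A
  · by_cases hcyc : IsCyclic P
    · have := index_frattini_le_two hP
      rcases Nat.lt_or_ge (Nat.card V) 4 with h4 | h4
      · obtain ⟨m, hm⟩ := hodd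
        exact Or.inr ⟨by omega, this⟩
      · exact Or.inl (by omega)
    rcases CfsgLib.Invol.cyclic_or_std hP hprim with h | ⟨-, k, r, e, a, b, -, F, -⟩
    · exact absurd h hcyc
    have h4 : (frattini P).index ≤ 4 := index_frattini_le_four hP (a := a) (b := b) fun x => by
      obtain ⟨i, rfl | rfl⟩ := F.exists_eq x
      · exact ⟨i, 0, by simp⟩
      · exact ⟨i, 1, by simp⟩
    have h9 : 8 ≤ Nat.card V := by
      by_contra hlt
      have hp : (Nat.card V).Prime := by
        obtain ⟨m, hm⟩ := hodd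
        have : m = 1 ∨ m = 2 ∨ m = 3 := by omega
        rcases this with rfl | rfl | rfl <;> rw [hm] <;> norm_num
      haveI := Fact.mk hp
      haveI : IsCyclic V := isCyclic_of_prime_card rfl
      haveI : IsCyclic (MulAut V) :=
        (IsCyclic.mulAutMulEquiv V).isCyclic.2 inferInstance
      exact hcyc inferInstance
    exact Or.inl (by omega)
  -- a non-cyclic normal abelian subgroup
  push_neg at hprim
  obtain ⟨A₀, hA₀n, hA₀ab, hA₀c⟩ := hprim
  obtain ⟨r, y, z, hr, hy, hz, hz1, hyz⟩ :=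
    CfsgLib.Coprime.exists_elementary_pair_of_not_cyclic (E := A₀) hA₀c
  haveI := Fact.mk hr
  obtain rfl : r = 2 := by
    obtain ⟨m, hm⟩ := (hP.to_subgroup A₀) z
    have h1 := orderOf_dvd_of_pow_eq_one hm
    rw [orderOf_eq_prime hz hz1] at h1
    exact (Nat.prime_dvd_prime_iff_eq hr Nat.prime_two).1 (hr.dvd_of_dvd_pow h1)
  set A : Subgroup (MulAut V) := A₀.map P.subtype with hA
  set emb : A₀ →* MulAut V := P.subtype.comp A₀.subtype with hemb
  have hembinj : Function.Injective emb := P.subtype_injective.comp A₀.subtype_injective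
  have hembA : ∀ t, emb t ∈ A := fun t => mem_map_of_mem _ t.2
  have hAP : A ≤ P := map_subtype_le _
  have hAcomm : ∀ s ∈ A, ∀ t ∈ A, s * t = t * s := by
    rintro _ ⟨s, hs, rfl⟩ _ ⟨t, ht, rfl⟩
    rw [← map_mul, ← map_mul]
    exact congrArg P.subtype
      (congrArg Subtype.val (isMulCommutative_iff.1 hA₀ab ⟨s, hs⟩ ⟨t, ht⟩))
  have hAconj : ∀ g ∈ P, ∀ s ∈ A, g * s * g⁻¹ ∈ A := by
    rintro g hg _ ⟨s, hs, rfl⟩
    exact ⟨⟨g, hg⟩ * s * ⟨g, hg⟩⁻¹, hA₀n.conj_mem s hs _, rfl⟩
  obtain ⟨c, hc1, hc⟩ : ∃ t : A₀, t ≠ 1 ∧ fixer (zpowers (emb t)) ≠ ⊥ := by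
    by_contra hh
    push_neg at hh
    have hy1 : y ≠ 1 := fun e => hyz (e ▸ one_mem _)
    refine hyz ((hembinj (MulEquiv.ext fun v => ?_) : y = z) ▸ mem_zpowers z)
    rw [eq_inv_of_fixer_eq_bot (by rw [← map_pow, hy, map_one]) (hh y hy1),
      eq_inv_of_fixer_eq_bot (by rw [← map_pow, hz, map_one]) (hh z hz1)]
  obtain ⟨B, hcB, ⟨hBA, hBf⟩, hBmax⟩ :=
    Finite.exists_le_maximal (p := fun B : Subgroup (MulAut V) => B ≤ A ∧ fixer B ≠ ⊥)
      (a := zpowers (emb c)) ⟨zpowers_le.2 (hembA c), hc⟩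
  have hB1 : B ≠ ⊥ := fun e => hc1 (hembinj (by
    rw [map_one]; exact mem_bot.1 (e ▸ hcB (mem_zpowers _))))
  set cj : MulAut V → Subgroup (MulAut V) :=
    fun g => B.map (MulAut.conj g).toMonoidHom with hcj
  have hmemcj : ∀ g x, x ∈ cj g ↔ g⁻¹ * x * g ∈ B := by
    intro g x
    show x ∈ B.map (MulAut.conj g).toMonoidHom ↔ _
    constructor
    · rintro ⟨y, hy, rfl⟩
      show g⁻¹ * (g * y * g⁻¹) * g ∈ B
      rw [show g⁻¹ * (g * y * g⁻¹) * g = y by group]
      exact hy
    · intro h
      exact ⟨g⁻¹ * x * g, h, by show g * (g⁻¹ * x * g) * g⁻¹ = x; group⟩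
  have hcjA : ∀ g ∈ P, cj g ≤ A := by
    rintro g hg _ ⟨x, hx, rfl⟩
    exact hAconj g hg x (hBA hx)
  have hfixcj : ∀ g v, v ∈ fixer B → g v ∈ fixer (cj g) := fun g v hv =>
    fixer_conj (fun x hx => (hmemcj g x).1 hx) hv
  set N : Subgroup P := (normalizer (B : Set (MulAut V))).comap P.subtype with hN
  have hNne : N ≠ ⊤ := by
    intro e
    rcases hirr (fixer B) (fun g hg w hw => fixer_conj (fun x hx => by
      have hgN : g ∈ normalizer (B : Set (MulAut V)) :=
        show (⟨g, hg⟩ : P) ∈ N from e ▸ mem_top _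
      exact (mem_normalizer_iff''.1 hgN x).1 hx) hw) with h | h
    · exact hBf h
    · refine hB1 ((Subgroup.eq_bot_iff_forall _).2 fun b hb => MulEquiv.ext fun v => ?_)
      exact (h.symm ▸ mem_top v : v ∈ fixer B) b hb
  obtain ⟨M, hM, hNM⟩ := (eq_top_or_exists_le_coatom N).resolve_left hNne
  obtain ⟨hMn, hMi⟩ := CfsgLib.Coprime.coatom_data_of_pGroup hP hM
  obtain ⟨g, hgM⟩ : ∃ g : P, g ∉ M := by
    by_contra h
    push_neg at h
    exact hM.1 (top_le_iff.1 fun x _ => h x)
  have hsep : ∀ m ∈ M, cj ↑m ≠ cj ↑g := by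
    intro m hm e
    refine hgM ?_
    have hmem : m⁻¹ * g ∈ N := by
      show (m : MulAut V)⁻¹ * g ∈ normalizer (B : Set (MulAut V))
      rw [mem_normalizer_iff'']
      intro x
      have hx : (g : MulAut V) * ((m : MulAut V)⁻¹ * g)⁻¹ * x * ((m : MulAut V)⁻¹ * g) *
          (g : MulAut V)⁻¹ = m * x * (m : MulAut V)⁻¹ := by group
      constructor
      · intro hx'
        have h1 : (m : MulAut V) * x * (m : MulAut V)⁻¹ ∈ cj ↑m := ⟨x, hx', rfl⟩
        rw [e, hmemcj] at h1
        convert h1 using 1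
        group
      · intro hx'
        have h1 : (g : MulAut V) * (((m : MulAut V)⁻¹ * g)⁻¹ * x * ((m : MulAut V)⁻¹ * g)) *
            (g : MulAut V)⁻¹ ∈ cj ↑g := ⟨_, hx', rfl⟩
        rw [← e, hmemcj] at h1
        convert h1 using 1
        group
    simpa using M.mul_mem hm (hNM hmem)
  set W : Subgroup V := ⨆ m : M, fixer (cj ((m : P) : MulAut V)) with hW
  have hWM : ∀ x ∈ M, ∀ w ∈ W, ((x : P) : MulAut V) w ∈ W := by
    intro x hx w hw
    induction hw using Subgroup.iSup_induction' with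
    | hp m v hv =>
      refine Subgroup.mem_iSup_of_mem (⟨x, hx⟩ * m) (fixer_conj (fun t ht => ?_) hv)
      rw [hmemcj] at ht ⊢
      convert ht using 1
      show _ = (((x * (m : P) : P) : MulAut V))⁻¹ * t * ((x * (m : P) : P) : MulAut V)
      push_cast
      group
    | h1 => rw [map_one]; exact one_mem _
    | hmul a b _ _ ha hb => rw [map_mul]; exact mul_mem ha hb
  have hWb : W ≠ ⊥ := fun e => hBf (le_bot_iff.1 fun v hv => e ▸
    Subgroup.mem_iSup_of_mem (1 : M) (fixer_conj (g := 1) (fun x hx => by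
      rw [hmemcj] at hx; simpa using hx) (by simpa using hv)))
  have hWt : W ≠ ⊤ := by
    classical
    intro e
    haveI := Fintype.ofFinite (cj (g : MulAut V))
    let π : V →* V := MonoidHom.mk' (fun v => ∏ b : cj (g : MulAut V), (b : MulAut V) v)
      fun v w => by simp only [map_mul, Finset.prod_mul_distrib]
    have hπ : ∀ v ∈ W, π v = 1 := by
      show W ≤ π.ker
      refine iSup_le fun m => fun v hv => MonoidHom.mem_ker.2 ?_
      set D := cj ((m : P) : MulAut V) ⊔ cj (g : MulAut V) with hD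
      have hDA : D ≤ A := sup_le (hcjA _ (m : P).2) (hcjA _ g.2)
      have hπD : π v ∈ fixer D := by
        have : D ≤ MulAction.stabilizer (MulAut V) (π v) := by
          refine sup_le (fun t ht => ?_) fun t ht => ?_
          · show t (π v) = π v
            simp only [π, MonoidHom.mk'_apply, map_prod]
            refine Finset.prod_congr rfl fun b _ => ?_
            rw [← MulAut.mul_apply, hAcomm t (hcjA _ (m : P).2 ht) _ (hcjA _ g.2 b.2),
              MulAut.mul_apply, hv t ht]
          · show t (π v) = π v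
            simp only [π, MonoidHom.mk'_apply, map_prod]
            exact Fintype.prod_equiv (Equiv.mulLeft ⟨t, ht⟩) _ _ fun b => rfl
        exact fun t ht => this ht
      by_contra hne
      set gi : MulAut V := (g : MulAut V)⁻¹ with hgi
      set D' := D.map (MulAut.conj gi).toMonoidHom with hD'
      have hBD : B ≤ D' := fun x hx =>
        ⟨(g : MulAut V) * x * (g : MulAut V)⁻¹, mem_sup_right ⟨x, hx, rfl⟩, by
          show gi * _ * gi⁻¹ = x
          rw [hgi]
          group⟩
      have hD'A : D' ≤ A := by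
        rintro _ ⟨x, hx, rfl⟩
        exact hAconj _ (P.inv_mem g.2) x (hDA hx)
      have hD'f : fixer D' ≠ ⊥ := fun h0 => hne (by
        have h1 : gi (π v) ∈ fixer D' := fixer_conj (fun x hx => by
          obtain ⟨t, ht, rfl⟩ := hx
          show gi⁻¹ * (gi * t * gi⁻¹) * gi ∈ D
          rw [show gi⁻¹ * (gi * t * gi⁻¹) * gi = t by group]
          exact ht) hπD
        rw [h0, mem_bot] at h1
        exact (map_eq_one_iff gi gi.injective).1 h1)
      have hle : D' ≤ B := hBmax ⟨hD'A, hD'f⟩ hBD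
      refine hsep m m.2 (Subgroup.eq_of_le_of_card_ge (fun x hx => ?_) ?_)
      · rw [hmemcj]
        have := hle (mem_map_of_mem (MulAut.conj gi).toMonoidHom (mem_sup_left hx : x ∈ D))
        simpa [hgi, MulAut.conj_apply] using this
      · rw [hcj, Subgroup.card_map_of_injective (MulAut.conj _).injective,
          Subgroup.card_map_of_injective (MulAut.conj _).injective]
    obtain ⟨v, hv, hv1⟩ := (Subgroup.ne_bot_iff_exists_ne_one.1 hBf |>.imp
      fun a ha => ha : ∃ a : fixer B, a ≠ 1).elim fun a ha =>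
        (⟨(g : MulAut V) a, hfixcj _ _ a.2, fun e => ha (Subtype.ext
          ((map_eq_one_iff (g : MulAut V) (g : MulAut V).injective).1 e))⟩ :
          ∃ v, v ∈ fixer (cj (g : MulAut V)) ∧ v ≠ 1)
    have h1 := hπ v (e ▸ mem_top v)
    rw [show π v = v ^ Nat.card (cj (g : MulAut V)) from by
      simp only [π, MonoidHom.mk'_apply]
      rw [Finset.prod_eq_pow_card (b := v) (fun b _ => hv _ b.2), Finset.card_univ,
        Nat.card_eq_fintype_card]] at h1
    obtain ⟨l, hl⟩ := (hP.to_le (hcjA _ g.2 |>.trans hAP)).exists_card_eq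
    have hcop : (Nat.card V).Coprime (Nat.card (cj (g : MulAut V))) := by
      rw [hl]; exact (Nat.coprime_two_right.2 hodd).pow_right l
    exact hv1 ((Nat.Coprime.pow_left_bijective hcop).injective (by simpa using h1))
  -- the two blocks
  set U : Subgroup V := W.map (g : MulAut V).toMonoidHom with hU
  have hUM : ∀ x ∈ M, ∀ w ∈ U, ((x : P) : MulAut V) w ∈ U := by
    rintro x hx _ ⟨w, hw, rfl⟩
    refine ⟨((g⁻¹ * x * g : P) : MulAut V) w, hWM _ (by simpa using hMn.conj_mem x hx g⁻¹) w hw, ?_⟩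
    show (g : MulAut V) (((g⁻¹ * x * g : P) : MulAut V) w) = (x : MulAut V) ((g : MulAut V) w)
    rw [← MulAut.mul_apply, ← MulAut.mul_apply]
    push_cast
    congr 1
    group
  have hgg : g * g ∈ M := (Subgroup.mul_mem_iff_of_index_two hMi).2 Iff.rfl
  have hswap : ∀ w ∈ U, (g : MulAut V) w ∈ W := by
    rintro _ ⟨w, hw, rfl⟩
    exact hWM _ hgg w hw
  have hinvP : ∀ S : Subgroup V, (∀ x ∈ M, ∀ w ∈ S, ((x : P) : MulAut V) w ∈ S) →
      (∀ w ∈ S, (g : MulAut V) w ∈ S) → ∀ x ∈ P, ∀ w ∈ S, x w ∈ S := by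
    intro S hS hg x hx w hw
    by_cases hxM : (⟨x, hx⟩ : P) ∈ M
    · exact hS _ hxM w hw
    · have hm : g⁻¹ * (⟨x, hx⟩ : P) ∈ M :=
        (Subgroup.mul_mem_iff_of_index_two hMi).2 (by simp [hgM, hxM])
      have := hg _ (hS _ hm w hw)
      rw [← MulAut.mul_apply] at this
      simpa [← mul_assoc] using this
  have hgW : ∀ w ∈ W, (g : MulAut V) w ∈ U := fun w hw => mem_map_of_mem _ hw
  have hinf : W ⊓ U = ⊥ := (hirr _ (hinvP _
    (fun x hx w hw => mem_inf.2 ⟨hWM x hx w (mem_inf.1 hw).1, hUM x hx w (mem_inf.1 hw).2⟩)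
    fun w hw => mem_inf.2 ⟨hswap w (mem_inf.1 hw).2, hgW w (mem_inf.1 hw).1⟩)).resolve_right
      fun e => hWt (top_le_iff.1 (e ▸ inf_le_left))
  have hsup : W ⊔ U = ⊤ := (hirr _ (hinvP _
    (fun x hx w hw => by
      obtain ⟨a, ha, b, hb, rfl⟩ := mem_sup.1 hw
      rw [map_mul]
      exact mul_mem (mem_sup_left (hWM x hx a ha)) (mem_sup_right (hUM x hx b hb)))
    fun w hw => by
      obtain ⟨a, ha, b, hb, rfl⟩ := mem_sup.1 hw
      rw [map_mul]
      exact mul_mem (mem_sup_right (hgW a ha)) (mem_sup_left (hswap b hb)))).resolve_left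
      fun e => hWb (le_bot_iff.1 (e ▸ le_sup_left))
  have hUcard : Nat.card U = Nat.card W :=
    Subgroup.card_map_of_injective (g : MulAut V).injective
  have hsq : Nat.card V = Nat.card W * Nat.card W := by
    have hc := Subgroup.isComplement'_of_disjoint_and_mul_eq_univ (disjoint_iff.2 hinf)
      (by rw [← Subgroup.mul_normal, hsup]; rfl)
    rw [← hc.card_mul_card, hUcard]
  have hQ : Nat.card (V ⧸ W) = Nat.card W := by
    refine Nat.eq_of_mul_eq_mul_left (Nat.card_pos (α := W)) ?_
    rw [← hsq]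
    exact W.card_mul_index
  have hXM : (frattini P).index ≤ 2 * (frattini M).index := by
    rw [← Subgroup.relIndex_mul_index (show frattini P ≤ M from frattini_le_coatom hM), hMi,
      mul_comm]
    exact Nat.mul_le_mul_left 2 (relIndex_frattini_le hP M)
  have hφ : Function.Injective (P.subtype.comp M.subtype) :=
    P.subtype_injective.comp M.subtype_injective
  have hWφ : ∀ k : M, ∀ w ∈ W, P.subtype.comp M.subtype k w ∈ W := fun k w hw => hWM k k.2 w hw
  obtain ⟨a, b, hx, hy, hz⟩ := bd_of_invariant hodd (hP.to_subgroup M) hφ hWφ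
    (hsub W hWb hWt).1 (hsub W hWb hWt).2
  rw [hQ] at hy
  rcases eq_or_ne (Nat.card W) 3 with h3 | h3
  swap
  · left
    have h1 : 2 * a ≤ Nat.card W := hx.resolve_right fun h => h3 h.1
    have h2 : 2 * b ≤ Nat.card W := hy.resolve_right fun h => h3 h.1
    rw [hsq]
    nlinarith
  have hMcard : Nat.card M ≤ 4 := by
    rw [← (resHom (P.subtype.comp M.subtype) W hWφ).ker.card_mul_index,
      Subgroup.index_ker]
    have e1 := Nat.card_le_card_of_injective _ (ker_quot_injective hodd (hP.to_subgroup M) hφ hWφ)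
    rw [card_mulAut_three (hQ.trans h3)] at e1
    have e2 := Subgroup.card_le_card_group (resHom (P.subtype.comp M.subtype) W hWφ).range
    rw [card_mulAut_three h3] at e2
    exact (Nat.mul_le_mul e1 e2).trans le_rfl
  have hPcard : Nat.card P ≤ 8 := by
    rw [← M.card_mul_index, hMi]
    omega
  left
  rw [hsq, h3]
  obtain ⟨l, hl⟩ := hP.exists_card_eq
  obtain ⟨j, -, hj⟩ := (Nat.dvd_prime_pow Nat.prime_two).1
    (hl ▸ (frattini P).index_dvd_card)
  by_contra hlt
  have hj3 : j = 3 := by
    rcases le_or_gt j 2 with h | h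
    · have := Nat.pow_le_pow_right (show 0 < 2 by norm_num) h
      omega
    · by_contra h'
      have := Nat.pow_le_pow_right (show 0 < 2 by norm_num) (show 4 ≤ j by omega)
      have hd := Nat.le_of_dvd Nat.card_pos (frattini P).index_dvd_card
      omega
  have hbot : frattini P = ⊥ := by
    apply Subgroup.eq_bot_of_card_eq
    have h1 := (frattini P).card_mul_index
    rw [hj, hj3] at h1
    have h2 := Nat.card_pos (α := frattini P)
    omega
  have hsq1 : ∀ x : P, x ^ 2 = 1 := fun x =>
    mem_bot.1 (hbot ▸ CfsgLib.Coprime.pow_mem_frattini hP x)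
  have hall : ∀ x : P, x ≠ 1 → ∀ v, (x : MulAut V) v = v⁻¹ := by
    intro x hx1
    refine eq_inv_of_fixer_eq_bot (by rw [← SubgroupClass.coe_pow, hsq1, OneMemClass.coe_one]) ?_
    refine (hirr _ fun q hq w hw => fixer_conj (fun t ht => ?_) hw).resolve_right fun e => ?_
    · obtain ⟨i, rfl⟩ := mem_zpowers_iff.1 ht
      have hc : Commute (⟨q, hq⟩ : P) x := by
        have h := mem_bot.1 (hbot ▸ CfsgLib.Coprime.commutator_le_frattini hP
          (commutator_mem_commutator (mem_top (⟨q, hq⟩ : P)) (mem_top x)))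
        exact commutatorElement_eq_one_iff_commute.1 h
      have hc' : Commute q (x : MulAut V) := congrArg Subtype.val hc
      rw [mul_assoc, ← (hc'.zpow_right i).eq, inv_mul_cancel_left]
      exact zpow_mem (mem_zpowers _) i
    · exact hx1 (Subtype.ext (MulEquiv.ext fun v =>
        (e.symm ▸ mem_top v : v ∈ fixer (zpowers (x : MulAut V))) _ (mem_zpowers _)))
  have hle2 : Nat.card P ≤ 2 := by
    obtain ⟨x₀, hx₀⟩ : ∃ x : P, x ≠ 1 := ⟨g, fun e => hgM (e ▸ M.one_mem)⟩
    have : Function.Surjective fun i : Fin 2 => x₀ ^ (i : ℕ) := by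
      intro x
      by_cases hx : x = 1
      · exact ⟨0, by simp [hx]⟩
      · exact ⟨1, by
          show x₀ ^ 1 = x
          rw [pow_one]
          exact Subtype.ext (MulEquiv.ext fun v => by rw [hall x₀ hx₀, hall x hx])⟩
    simpa using Nat.card_le_card_of_surjective _ this
  have hd := Nat.le_of_dvd Nat.card_pos (frattini P).index_dvd_card
  omega

theorem hasBd {V : Type u} [CommGroup V] [Finite V] [Nontrivial V] (hodd : Odd (Nat.card V)) :
    HasBd V := hasBd_aux _ V rfl hodd

/-- **The Frattini index of a 2-group acting faithfully on an odd abelian group `V` is less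
than `|V|`.** -/
theorem index_frattini_lt {V : Type u} [CommGroup V] [Finite V] [Nontrivial V]
    (hodd : Odd (Nat.card V)) {K : Type*} [Group K] [Finite K] (hK : IsPGroup 2 K)
    (φ : K →* MulAut V) (hφ : Function.Injective φ) : (frattini K).index < Nat.card V := by
  have h1 : 1 < Nat.card V := Finite.one_lt_card
  rcases hasBd_range hK (hasBd hodd) φ hφ with h | ⟨h, h'⟩ <;> omega

end CfsgLib.FaithfulFrattini
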