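import Cfsg.Agent.Lib.CFun.Series
import Cfsg.Agent.Lib.Coprime.Component
import Cfsg.Agent.Lib.PGroup.CommutatorChain

/-!
# The Fitting subgroup of a normal subgroup and the chief factors

In a finite solvable group the Fitting subgroup of a normal subgroup `N` is the intersection of
`N` with the centralizers of the chief factors, and only those below `F(N)` are needed.
-/

set_option autoImplicit false
set_option linter.style.haveILetI false

namespace CfsgLib.PGroup

open Subgroup
open scoped commutatorElement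

universe u

variable {G : Type u} [Group G]

/-- The chief factor condition as written in the list. -/
theorem isChiefFactor_of {U V : Subgroup G}
    (h : U.Normal ∧ V.Normal ∧ V < U ∧
      ∀ W : Subgroup G, W.Normal → V ≤ W → W ≤ U → W = V ∨ W = U) :
    Cfsg.IsChiefFactor U V :=
  ⟨h.2.2.1, h.1, h.2.1, h.2.2.2⟩

/-- A normal nilpotent subgroup centralizes each chief factor. -/
theorem commutator_le_of_isChiefFactor [Finite G] {F U V : Subgroup G} [F.Normal]
    (hF : Group.IsNilpotent F) (h : Cfsg.IsChiefFactor U V) : ⁅U, F⁆ ≤ V := by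
  obtain ⟨hVU, hU, hV, hmin⟩ := h
  haveI := hU
  haveI := hV
  obtain ⟨m, hm⟩ := (Subgroup.isNilpotent_iff_lowerCentralSeries F).1 hF
  rcases hmin (⁅U, F⁆ ⊔ V) inferInstance le_sup_right
      (sup_le (commutator_le_left U F) hVU.le) with h1 | h1
  · exact le_sup_left.trans h1.le
  · exact absurd (le_of_le_commutator_sup hm h1.ge) (not_le_of_gt hVU)

/-- A normal subgroup trivial on the chief factors below a normal subgroup pushes it down to
`⊥`. -/
theorem exists_iterComm_eq_bot [Finite G] {K : Subgroup G} [K.Normal] :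
    ∀ U : Subgroup G, U.Normal →
      (∀ A B : Subgroup G, Cfsg.IsChiefFactor A B → A ≤ U → ⁅A, K⁆ ≤ B) →
      ∃ n, iterComm U K n = ⊥ := by
  intro U
  induction U using WellFoundedLT.induction with
  | _ U ih =>
    intro hU h
    haveI := hU
    rcases eq_or_ne U ⊥ with h0 | h0
    · exact ⟨0, h0⟩
    obtain ⟨V, -, hVU, hch⟩ :=
      CFun.exists_chief_above (L := (⊥ : Subgroup G)) (N := U) (bot_lt_iff_ne_bot.2 h0)
    have hlt : ⁅U, K⁆ < U := lt_of_le_of_lt (h U V hch le_rfl) hVU
    obtain ⟨n, hn⟩ := ih ⁅U, K⁆ hlt inferInstance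
      fun A B hAB hA => h A B hAB (hA.trans hlt.le)
    exact ⟨n + 1, by rw [iterComm_succ', hn]⟩

theorem isNilpotent_of_centralizes_chief [Finite G] {K F : Subgroup G} [K.Normal] [F.Normal]
    (hcen : K ⊓ centralizer (F : Set G) ≤ F)
    (h : ∀ A B : Subgroup G, Cfsg.IsChiefFactor A B → A ≤ F → ⁅A, K⁆ ≤ B) :
    Group.IsNilpotent K := by
  obtain ⟨n, hn⟩ := exists_iterComm_eq_bot (K := K) F inferInstance h
  have hD : ∀ j, n ≤ j → iterComm F K j = ⊥ := by
    intro j hj
    induction j, hj using Nat.le_induction with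
    | base => exact hn
    | succ j _ ih => rw [iterComm_succ, ih, commutator_bot_left]
  have hle : K.lowerCentralSeries n ≤ F := by
    refine le_trans (le_inf (lowerCentralSeries_le_self K n) ?_) hcen
    rw [← commutator_eq_bot_iff_le_centralizer, commutator_comm]
    exact le_bot_iff.1 ((commutator_lowerCentralSeries_le_iterComm F K n).trans
      (hD (n + 1) (Nat.le_succ n)).le)
  have hiter : ∀ j, K.lowerCentralSeries (n + j) ≤ iterComm F K j := by
    intro j
    induction j with
    | zero => exact hle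
    | succ j ih => exact commutator_mono ih le_rfl
  exact isNilpotent_of_lowerCentralSeries_eq_bot (le_bot_iff.1 ((hiter n).trans hn.le))

theorem fitting_map_iff_centralizes_chief [Finite G] (hG : Group.IsSolvable G) (N : Subgroup G)
    [N.Normal] (g : G) :
    (g ∈ (Cfsg.fittingSubgroup ↥N).map N.subtype ↔ g ∈ N ∧ ∀ U V : Subgroup G,
      (U.Normal ∧ V.Normal ∧ V < U ∧ ∀ W : Subgroup G, W.Normal → V ≤ W → W ≤ U →
        W = V ∨ W = U) → ∀ u ∈ U, u * g * u⁻¹ * g⁻¹ ∈ V) ∧
    (g ∈ (Cfsg.fittingSubgroup ↥N).map N.subtype ↔ g ∈ N ∧ ∀ U V : Subgroup G,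
      (U.Normal ∧ V.Normal ∧ V < U ∧ ∀ W : Subgroup G, W.Normal → V ≤ W → W ≤ U →
        W = V ∨ W = U) → U ≤ (Cfsg.fittingSubgroup ↥N).map N.subtype →
        ∀ u ∈ U, u * g * u⁻¹ * g⁻¹ ∈ V) := by
  rw [Coprime.fitting_map_subtype_eq]
  haveI := hG
  haveI := Coprime.fitting_normal (G := G)
  set F := Cfsg.fittingSubgroup G ⊓ N with hF
  have hup : g ∈ F → g ∈ N ∧ ∀ U V : Subgroup G, Cfsg.IsChiefFactor U V →
      ∀ u ∈ U, u * g * u⁻¹ * g⁻¹ ∈ V := by
    rintro ⟨hg, hgN⟩
    refine ⟨hgN, fun U V hch u hu => ?_⟩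
    exact commutator_le_of_isChiefFactor (F := Cfsg.fittingSubgroup G) Coprime.fitting_isNilpotent hch
      (commutator_mem_commutator hu hg)
  have hdown : (g ∈ N ∧ ∀ U V : Subgroup G, Cfsg.IsChiefFactor U V → U ≤ F →
      ∀ u ∈ U, u * g * u⁻¹ * g⁻¹ ∈ V) → g ∈ F := by
    rintro ⟨hgN, hg⟩
    haveI := CFun.trivSeries_normal (⊥ : Subgroup G) F
    let K : Subgroup G := N ⊓ CFun.trivSeries ⊥ F
    haveI : K.Normal := Subgroup.normal_inf_normal _ _
    have hgK : g ∈ K := ⟨hgN, fun U V hch _ hUF u hu => by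
      rw [← commutatorElement_inv]
      exact inv_mem (hg U V hch hUF u hu)⟩
    have hcen : N ⊓ centralizer (F : Set G) ≤ F := by
      intro x hx
      have h1 : (⟨x, hx.1⟩ : N) ∈ centralizer (Cfsg.fittingSubgroup N : Set N) := by
        refine mem_centralizer_iff.2 fun y hy => Subtype.ext ?_
        refine mem_centralizer_iff.1 hx.2 (y : G) ?_
        rw [hF, ← Coprime.fitting_map_subtype_eq]
        exact ⟨y, hy, rfl⟩
      rw [hF, ← Coprime.fitting_map_subtype_eq]
      exact ⟨⟨x, hx.1⟩, Coprime.centralizer_fitting_le h1, rfl⟩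
    haveI : F.Normal := Subgroup.normal_inf_normal _ _
    have hKn : Group.IsNilpotent K := by
      refine isNilpotent_of_centralizes_chief (F := F) ?_ fun A B hAB hA => ?_
      · exact (inf_le_inf_right _ inf_le_left).trans hcen
      · rw [commutator_comm]
        exact commutator_le.2 fun k hk a ha => hk.2 A B hAB bot_le hA a ha
    exact ⟨Coprime.le_fitting hKn hgK, hgN⟩
  constructor
  · exact ⟨fun h => ⟨(hup h).1, fun U V hch => (hup h).2 U V (isChiefFactor_of hch)⟩,
      fun h => hdown ⟨h.1, fun U V hch _ =>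
        h.2 U V ⟨hch.2.1, hch.2.2.1, hch.1, hch.2.2.2⟩⟩⟩
  · exact ⟨fun h => ⟨(hup h).1, fun U V hch _ => (hup h).2 U V (isChiefFactor_of hch)⟩,
      fun h => hdown ⟨h.1, fun U V hch => h.2 U V ⟨hch.2.1, hch.2.2.1, hch.1, hch.2.2.2⟩⟩⟩

end CfsgLib.PGroup
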