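import Cfsg.Agent.Lib.Coprime.Action
import Cfsg.Agent.Lib.PGroup.Basic

/-!
# The product of the fixed point orders in a coprime action of a `p`-group

If the `p`-group `P` acts on the `p'`-group `F` then
`(∏_{x ∈ P} |C_F(x)|) ^ p ≤ |F| ^ |P| |C_F(P)| ^ ((p - 1) |P|)`.
-/

set_option autoImplicit false
set_option linter.style.haveILetI false
set_option linter.unusedSectionVars false

open Subgroup
open scoped Classical

namespace CfsgLib.FixedProduct

universe u v

variable {G : Type u} [Group G] [Finite G]
variable {P : Type v} [Group P] [Fintype P] (φ : P →* G) {p : ℕ} [Fact p.Prime]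

/-- The fixed points of one element. -/
noncomputable def cx (x : P) (F : Subgroup G) : ℕ := Nat.card ↥(F ⊓ centralizer ({φ x} : Set G))

/-- The fixed points of the whole group. -/
noncomputable def cP (F : Subgroup G) : ℕ := Nat.card ↥(F ⊓ centralizer (φ.range : Set G))

/-- The inequality. -/
def Bound (p : ℕ) (F : Subgroup G) : Prop :=
  (∏ x : P, cx φ x F) ^ p ≤ Nat.card F ^ Fintype.card P * cP φ F ^ ((p - 1) * Fintype.card P)

theorem centralizer_zpowers (a : G) :
    centralizer ((zpowers a : Subgroup G) : Set G) = centralizer ({a} : Set G) := by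
  rw [zpowers_eq_closure, centralizer_closure]

theorem bound_of_trivial (F : Subgroup G) (hF : F ≤ centralizer (φ.range : Set G)) :
    Bound φ p F := by
  have h1 : ∀ x, cx φ x F = Nat.card F := fun x => by
    rw [cx, inf_eq_left.2 fun u hu => mem_centralizer_singleton_iff.2
      (mem_centralizer_iff.1 (hF hu) _ ⟨x, rfl⟩).symm]
  rw [Bound, cP, inf_eq_left.2 hF, Finset.prod_congr rfl (fun x _ => h1 x), Finset.prod_const,
    Finset.card_univ, ← pow_mul, ← pow_add]
  refine le_of_eq (congrArg _ ?_)
  have := (Fact.out : p.Prime).one_lt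
  rw [mul_comm]
  conv_lhs => rw [show p = 1 + (p - 1) by omega, add_mul, one_mul]

variable (hP : IsPGroup p P)

include hP in
/-- The abelian case. -/
theorem bound_abelian : ∀ (k : ℕ) (F : Subgroup G), Nat.card F = k → IsMulCommutative F →
    (Nat.card F).Coprime p → φ.range ≤ normalizer (F : Set G) → Bound φ p F := by
  intro k
  induction k using Nat.strongRecOn with
  | ind k ih =>
    intro F hk hF hcop hN
    by_cases htriv : F ≤ centralizer (φ.range : Set G)
    · exact bound_of_trivial φ F htriv
    set K := (centralizer (F : Set G)).comap φ with hK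
    haveI hKn : K.Normal := ⟨fun y hy x => by
      rw [hK, mem_comap, map_mul, map_mul, map_inv]
      exact (Subgroup.mem_normalizer_iff.1
        (CfsgLib.Coprime.normalizer_le_normalizer_centralizer F (hN ⟨x, rfl⟩)) _).1 hy⟩
    haveI : Nontrivial (P ⧸ K) := by
      rw [QuotientGroup.nontrivial_iff]
      intro hK'
      refine htriv fun u hu => mem_centralizer_iff.2 ?_
      rintro _ ⟨x, rfl⟩
      have hx : φ x ∈ centralizer (F : Set G) := (hK' ▸ mem_top x : x ∈ K)
      exact (mem_centralizer_iff.1 hx u hu).symm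
    haveI := (hP.to_quotient K).center_nontrivial
    obtain ⟨w, hw⟩ := exists_prime_orderOf_dvd_card' p (G := center (P ⧸ K)) (by
      obtain ⟨a, ha⟩ := IsPGroup.iff_card.1 ((hP.to_quotient K).to_subgroup (center (P ⧸ K)))
      rw [ha]
      refine dvd_pow_self p fun e => ?_
      rw [e, pow_zero] at ha
      exact absurd (Finite.one_lt_card (α := center (P ⧸ K))) (by omega))
    obtain ⟨z, hz⟩ := QuotientGroup.mk_surjective (w : P ⧸ K)
    have hzK : z ∉ K := fun h => by
      rw [← QuotientGroup.eq_one_iff, hz, OneMemClass.coe_eq_one] at h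
      rw [h, orderOf_one] at hw
      exact (Fact.out : p.Prime).one_lt.ne hw
    have hzp : z ^ p ∈ K := by
      rw [← QuotientGroup.eq_one_iff, QuotientGroup.mk_pow, hz, ← Subgroup.coe_pow, ← hw,
        pow_orderOf_eq_one]
      rfl
    have hzc : ∀ x : P, x * z * x⁻¹ * z⁻¹ ∈ K := fun x => by
      rw [← QuotientGroup.eq_one_iff]
      have := mem_center_iff.1 w.2 (x : P ⧸ K)
      rw [← hz] at this
      simp only [QuotientGroup.mk_mul, QuotientGroup.mk_inv, this]
      group
    haveI := hF
    letI : CommGroup F := { (inferInstance : Group F) with mul_comm := fun a b => hF.is_comm.comm a b }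
    -- the actions
    let act : P → (F →* F) := fun x => MonoidHom.mk'
      (fun u => ⟨φ x * u * (φ x)⁻¹, CfsgLib.Coprime.conj_mem_of_le_normalizer hN ⟨x, rfl⟩ u.2⟩)
      (fun u v => Subtype.ext (by simp [mul_assoc]))
    have act_mul : ∀ x y u, act (x * y) u = act x (act y u) := fun x y u => Subtype.ext (by
      show φ (x * y) * u * (φ (x * y))⁻¹ = φ x * (φ y * u * (φ y)⁻¹) * (φ x)⁻¹
      rw [map_mul]; group)
    have act_one : ∀ u, act 1 u = u := fun u => Subtype.ext (by
      show φ 1 * (u : G) * (φ 1)⁻¹ = u
      rw [map_one]; group)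
    have act_K : ∀ x ∈ K, ∀ u, act x u = u := fun x hx u => Subtype.ext (by
      show φ x * (u : G) * (φ x)⁻¹ = u
      rw [← mem_centralizer_iff.1 (show φ x ∈ centralizer (F : Set G) from hx) u u.2]
      group)
    have act_swap : ∀ x u, act x (act z u) = act z (act x u) := fun x u => by
      rw [← act_mul, ← act_mul, show x * z = (x * z * x⁻¹ * z⁻¹) * (z * x) by group,
        act_mul, act_K _ (hzc x)]
    have act_pow : ∀ (m : ℕ) u, act (z ^ (m % p)) u = act (z ^ m) u := fun m u => by
      conv_rhs => rw [← Nat.mod_add_div m p, pow_add, pow_mul, act_mul,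
        act_K _ (K.pow_mem hzp _)]
    -- the norm
    let ν : F →* F := MonoidHom.mk' (fun u => ∏ i ∈ Finset.range p, act (z ^ i) u)
      (fun u v => by simp only [map_mul, Finset.prod_mul_distrib])
    have hνfix : ∀ u, act z (ν u) = ν u := by
      intro u
      show act z (∏ i ∈ Finset.range p, act (z ^ i) u) = ∏ i ∈ Finset.range p, act (z ^ i) u
      rw [map_prod]
      have e1 := Finset.prod_range_succ' (fun i => act (z ^ i) u) p
      rw [Finset.prod_range_succ, pow_zero, act_one, act_K _ hzp, mul_right_cancel_iff] at e1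
      rw [e1]
      exact Finset.prod_congr rfl fun i _ => by rw [← act_mul, pow_succ']
    have hνperm : ∀ m, ¬ p ∣ m → ∀ u, ∏ i ∈ Finset.range p, act (z ^ (m * i)) u = ν u := by
      intro m hm u
      show _ = ∏ i ∈ Finset.range p, act (z ^ i) u
      have hp := (Fact.out : p.Prime)
      refine Finset.prod_bij (fun i _ => m * i % p)
        (fun i _ => Finset.mem_range.2 (Nat.mod_lt _ hp.pos)) ?_ ?_ ?_
      · intro a ha b hb e
        rw [Finset.mem_range] at ha hb
        have h1 : m * a ≡ m * b [MOD p] := e
        have h2 := Nat.ModEq.cancel_left_of_coprime ((hp.coprime_iff_not_dvd).2 hm) h1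
        exact Nat.ModEq.eq_of_lt_of_lt h2 ha hb
      · intro b hb
        have hsurj : (Finset.range p).image (fun i => m * i % p) = Finset.range p := by
          refine Finset.eq_of_subset_of_card_le ?_ (le_of_eq ?_)
          · intro x hx
            obtain ⟨i, -, rfl⟩ := Finset.mem_image.1 hx
            exact Finset.mem_range.2 (Nat.mod_lt _ hp.pos)
          · rw [Finset.card_image_of_injOn]
            intro a ha b hb e
            rw [Finset.mem_coe, Finset.mem_range] at ha hb
            have h1 : m * a ≡ m * b [MOD p] := e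
            exact Nat.ModEq.eq_of_lt_of_lt
              (Nat.ModEq.cancel_left_of_coprime ((hp.coprime_iff_not_dvd).2 hm) h1) ha hb
        rw [← hsurj, Finset.mem_image] at hb
        obtain ⟨a, ha, hab⟩ := hb
        exact ⟨a, ha, hab⟩
      · intro a _
        exact (act_pow _ u).symm
    set F₀ := F ⊓ centralizer ({φ z} : Set G) with hF₀
    set F₁ := ν.ker.map F.subtype with hF₁
    have hF₀F : F₀ ≤ F := inf_le_left
    have mem₀ : ∀ u : F, (u : G) ∈ F₀ ↔ act z u = u := fun u => by
      rw [hF₀, mem_inf, mem_centralizer_singleton_iff, Subtype.ext_iff]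
      show _ ↔ φ z * (u : G) * (φ z)⁻¹ = u
      rw [mul_inv_eq_iff_eq_mul]
      exact ⟨fun h => h.2.symm, fun h => ⟨u.2, h.symm⟩⟩
    have hν₀ : ∀ u, act z u = u → ν u = u ^ p := by
      intro u hu
      have : ∀ i, act (z ^ i) u = u := by
        intro i
        induction i with
        | zero => rw [pow_zero, act_one]
        | succ i ihi => rw [pow_succ, act_mul, hu, ihi]
      show ∏ i ∈ Finset.range p, act (z ^ i) u = u ^ p
      rw [Finset.prod_congr rfl (fun i _ => this i), Finset.prod_const, Finset.card_range]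
    have hpinj : ∀ u : F, u ^ p = 1 → u = 1 := fun u hu => by
      rw [← orderOf_eq_one_iff]
      exact Nat.eq_one_of_dvd_coprimes hcop (orderOf_dvd_natCard u) (orderOf_dvd_of_pow_eq_one hu)
    -- `x` respects the norm
    have hνx : ∀ x u, act x (ν u) = ν (act x u) := by
      intro x u
      show act x (∏ i ∈ Finset.range p, act (z ^ i) u) = ∏ i ∈ Finset.range p, act (z ^ i) (act x u)
      rw [map_prod]
      refine Finset.prod_congr rfl fun i hi => ?_
      clear hi
      induction i with
      | zero => simp [act_one]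
      | succ i ihi => rw [pow_succ', act_mul, act_mul, act_swap, ihi]
    have memx : ∀ (x : P) (u : F), (u : G) ∈ centralizer ({φ x} : Set G) ↔ act x u = u := fun x u => by
      rw [mem_centralizer_singleton_iff, Subtype.ext_iff]
      show _ ↔ φ x * (u : G) * (φ x)⁻¹ = u
      rw [mul_inv_eq_iff_eq_mul, eq_comm]
    have hsplit : ∀ x : P, cx φ x F ≤ cx φ x F₀ * cx φ x F₁ := by
      intro x
      let S := (centralizer ({φ x} : Set G)).subgroupOf F
      have hS : cx φ x F = Nat.card S := by
        rw [cx, inf_comm, ← Nat.card_congr (subgroupOfEquivOfLe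
          (inf_le_right : centralizer ({φ x} : Set G) ⊓ F ≤ F)).toEquiv, inf_subgroupOf_right]
      let g := ν.comp S.subtype
      rw [hS, ← g.ker.card_mul_index, index_ker, mul_comm]
      refine Nat.mul_le_mul ?_ ?_
      · rw [← card_map_of_injective F.subtype_injective, cx]
        refine card_le_of_le ?_
        rintro _ ⟨_, ⟨u, rfl⟩, rfl⟩
        refine mem_inf.2 ⟨(mem₀ _).2 (hνfix _), (memx x _).2 ?_⟩
        show act x (ν (u : F)) = ν (u : F)
        rw [hνx, (memx x _).1 u.2]
      · rw [← card_map_of_injective (f := F.subtype.comp S.subtype)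
          (F.subtype_injective.comp S.subtype_injective), cx]
        refine card_le_of_le ?_
        rintro _ ⟨u, hu, rfl⟩
        exact mem_inf.2 ⟨⟨u, hu, rfl⟩, u.2⟩
    have hcard : Nat.card F₀ * Nat.card F₁ ≤ Nat.card F := by
      have h1 := ν.ker.card_mul_index
      rw [hF₁, card_map_of_injective F.subtype_injective, ← h1, mul_comm]
      refine Nat.mul_le_mul_left _ ?_
      rw [index_ker]
      let g : F₀.subgroupOf F →* F := ν.comp (F₀.subgroupOf F).subtype
      have hginj : Function.Injective g := (injective_iff_map_eq_one g).2 fun u hu => by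
        refine Subtype.ext (hpinj _ ?_)
        rw [← hν₀ _ ((mem₀ _).1 u.2)]
        exact hu
      rw [← Nat.card_congr (subgroupOfEquivOfLe hF₀F).toEquiv,
        Nat.card_congr (MonoidHom.ofInjective hginj).toEquiv]
      refine card_le_of_le ?_
      rintro _ ⟨u, rfl⟩
      exact ⟨_, rfl⟩
    -- induction on the fixed part
    have hlt : Nat.card F₀ < k := by
      refine hk ▸ lt_of_le_of_ne (card_le_of_le hF₀F) fun e => hzK ?_
      have he := eq_of_le_of_card_ge hF₀F e.ge
      refine mem_centralizer_iff.2 fun u hu => ?_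
      exact mem_centralizer_singleton_iff.1 (he.symm ▸ hu : u ∈ F₀).2
    have hN₀ : φ.range ≤ normalizer (F₀ : Set G) := by
      have hinv : ∀ (x : P) (u : G), u ∈ F₀ → φ x * u * (φ x)⁻¹ ∈ F₀ := fun x u hu => by
        have h1 := (mem₀ ⟨u, hF₀F hu⟩).1 hu
        have h2 : act z (act x ⟨u, hF₀F hu⟩) = act x ⟨u, hF₀F hu⟩ := by
          rw [← act_swap, h1]
        exact (mem₀ _).2 h2
      rintro _ ⟨x, rfl⟩
      rw [Subgroup.mem_normalizer_iff]
      refine fun u => ⟨hinv x u, fun h => ?_⟩
      have := hinv x⁻¹ _ h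
      simpa [mul_assoc] using this
    have hab₀ : IsMulCommutative F₀ := ⟨⟨fun a b => Subtype.ext (congrArg Subtype.val
      (mul_comm (⟨a, hF₀F a.2⟩ : F) ⟨b, hF₀F b.2⟩) :)⟩⟩
    have hB₀ : Bound φ p F₀ := ih _ hlt F₀ rfl hab₀
      (hcop.coprime_dvd_left (card_dvd_of_le hF₀F)) hN₀
    have hB₁ : (∏ x : P, cx φ x F₁) ^ p ≤ Nat.card F₁ ^ Fintype.card P := by
      have hx : ∀ x : P, ∏ i : Fin p, cx φ (x * z ^ (i : ℕ)) F₁ ≤ Nat.card F₁ := by
        intro x
        let S : Fin p → Subgroup G := fun i => F₁ ⊓ centralizer ({φ (x * z ^ (i : ℕ))} : Set G)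
        have hle : ∀ i, S i ≤ F := fun i => inf_le_left.trans (map_subtype_le _)
        let f : (Π i, S i) → F₁ := fun u =>
          ⟨Subtype.val (∏ i, (⟨(u i : G), hle i (u i).2⟩ : F)), ⟨∏ i, (⟨(u i : G), hle i (u i).2⟩ : F),
            ν.ker.prod_mem fun i _ => by
              obtain ⟨v, hv, e⟩ := (mem_inf.1 (u i).2).1
              rwa [← (Subtype.ext e : v = (⟨(u i : G), hle i (u i).2⟩ : F))], rfl⟩⟩
        have key : ∀ w : Fin p → F, (∀ i : Fin p, act (x * z ^ (i : ℕ)) (w i) = w i) →
            (∀ i, ν (w i) = 1) → ∏ i, w i = 1 → ∀ j, w j = 1 := by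
          intro w hw1 hw2 hw j
          have hstep : ∀ (i : Fin p) (k : ℕ),
              act (x ^ k) (w i) = act (z ^ ((p - (i : ℕ)) * k)) (w i) := by
            intro i k
            induction k with
            | zero => simp
            | succ k ihk =>
              have e1 : act x (w i) = act (z ^ (p - (i : ℕ))) (w i) := by
                have := hw1 i
                rw [act_mul] at this
                have e2 : act (z ^ (p - (i : ℕ))) (act x (act (z ^ (i : ℕ)) (w i))) =
                    act (z ^ (p - (i : ℕ))) (w i) := by rw [this]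
                rw [← e2]
                have hsw : ∀ (m : ℕ) u, act (z ^ m) (act x u) = act x (act (z ^ m) u) := by
                  intro m
                  induction m with
                  | zero => intro u; simp [act_one]
                  | succ m ihm => intro u; rw [pow_succ, act_mul, act_mul, ← act_swap, ihm]
                rw [hsw, ← act_mul (z ^ (p - (i : ℕ))), ← pow_add,
                  Nat.sub_add_cancel i.2.le, act_K _ hzp]
              have hswk : ∀ (m : ℕ) u, act (x ^ m) (act z u) = act z (act (x ^ m) u) :=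
                fun m u => act_swap _ u
              have hswm : ∀ (m : ℕ) u,
                  act (x ^ k) (act (z ^ m) u) = act (z ^ m) (act (x ^ k) u) := by
                intro m
                induction m with
                | zero => intro u; simp [act_one]
                | succ m ihm => intro u; rw [pow_succ, act_mul, act_mul, ihm, hswk]
              rw [pow_succ, act_mul, e1, hswm, ihk, ← act_mul, ← pow_add, Nat.mul_succ, add_comm]
          have h0 : ∏ i : Fin p, ∏ k ∈ Finset.range p, act (z ^ (((j : ℕ) + (p - (i : ℕ))) * k)) (w i) = 1 := by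
            rw [Finset.prod_comm]
            refine Finset.prod_eq_one fun k _ => ?_
            have e3 : ∀ i : Fin p, act (z ^ (((j : ℕ) + (p - (i : ℕ))) * k)) (w i) =
                act (z ^ ((j : ℕ) * k)) (act (x ^ k) (w i)) := fun i => by
              rw [hstep, ← act_mul, ← pow_add, add_mul]
            rw [Finset.prod_congr rfl (fun i _ => e3 i), ← map_prod, ← map_prod, hw, map_one, map_one]
          rw [Finset.prod_eq_single j] at h0
          · refine hpinj _ ?_
            rw [Nat.add_sub_cancel' j.2.le, Finset.prod_congr rfl (fun k _ => by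
              rw [pow_mul, act_K _ (K.pow_mem hzp k)]), Finset.prod_const, Finset.card_range] at h0
            exact h0
          · intro i _ hi
            rw [hνperm _ (fun hd => hi ?_), hw2]
            obtain ⟨c, hc⟩ := hd
            have := i.2
            have := j.2
            refine Fin.ext ?_
            rcases c with _ | _ | c
            · omega
            · omega
            · rw [Nat.mul_add, Nat.mul_add] at hc; omega
          · exact fun hj => absurd (Finset.mem_univ j) hj
        have hinj : Function.Injective f := by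
          intro u v e
          funext j
          have e' : (∏ i, (⟨(u i : G), hle i (u i).2⟩ : F)) = ∏ i, (⟨(v i : G), hle i (v i).2⟩ : F) :=
            Subtype.ext (congrArg (fun t : F₁ => (t : G)) e :)
          have := key (fun i : Fin p => (⟨(u i : G), hle i (u i).2⟩ : F) / ⟨(v i : G), hle i (v i).2⟩)
            (fun i => by
              rw [map_div, (memx _ _).1 (mem_inf.1 (u i).2).2, (memx _ _).1 (mem_inf.1 (v i).2).2])
            (fun i => by
              have hm : ∀ t : S i, ν (⟨(t : G), hle i t.2⟩ : F) = 1 := fun t => by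
                obtain ⟨v', hv, e2⟩ := (mem_inf.1 t.2).1
                rw [← (Subtype.ext e2 : v' = (⟨(t : G), hle i t.2⟩ : F))]
                exact hv
              rw [map_div, hm, hm, div_one])
            (by rw [Finset.prod_div_distrib, e', div_self']) j
          rw [div_eq_one] at this
          exact Subtype.ext (congrArg Subtype.val this :)
        have := Nat.card_le_card_of_injective f hinj
        rwa [Nat.card_pi] at this
      calc (∏ x : P, cx φ x F₁) ^ p = ∏ _i : Fin p, ∏ x : P, cx φ x F₁ := by
            rw [Finset.prod_const, Finset.card_univ, Fintype.card_fin]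
        _ = ∏ i : Fin p, ∏ x : P, cx φ (x * z ^ (i : ℕ)) F₁ := Finset.prod_congr rfl fun i _ =>
            (Fintype.prod_equiv (Equiv.mulRight (z ^ (i : ℕ))) _ _ fun x => rfl).symm
        _ = ∏ x : P, ∏ i : Fin p, cx φ (x * z ^ (i : ℕ)) F₁ := Finset.prod_comm
        _ ≤ ∏ _x : P, Nat.card F₁ := Finset.prod_le_prod' fun x _ => hx x
        _ = _ := by rw [Finset.prod_const, Finset.card_univ]
    calc (∏ x : P, cx φ x F) ^ p ≤ (∏ x : P, cx φ x F₀ * cx φ x F₁) ^ p :=
          Nat.pow_le_pow_left (Finset.prod_le_prod' fun x _ => hsplit x) p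
      _ = (∏ x : P, cx φ x F₀) ^ p * (∏ x : P, cx φ x F₁) ^ p := by
          rw [Finset.prod_mul_distrib, mul_pow]
      _ ≤ (Nat.card F₀ ^ Fintype.card P * cP φ F₀ ^ ((p - 1) * Fintype.card P)) *
          Nat.card F₁ ^ Fintype.card P := Nat.mul_le_mul hB₀ hB₁
      _ = (Nat.card F₀ * Nat.card F₁) ^ Fintype.card P * cP φ F₀ ^ ((p - 1) * Fintype.card P) := by
          rw [mul_pow]; ring
      _ ≤ _ := Nat.mul_le_mul (Nat.pow_le_pow_left hcard _)
          (Nat.pow_le_pow_left (card_le_of_le (inf_le_inf_right _ hF₀F)) _)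

theorem coprime_range {φ : P →* G} (hP : IsPGroup p P) {F : Subgroup G}
    (hcop : (Nat.card F).Coprime p) : (Nat.card φ.range).Coprime (Nat.card F) := by
  obtain ⟨a, ha⟩ := IsPGroup.iff_card.1 (hP.of_surjective φ.rangeRestrict φ.rangeRestrict_surjective)
  rw [ha]
  exact (Nat.Coprime.pow_left a hcop.symm)

/-- The bound passes through an invariant normal section. -/
theorem bound_step (hP : IsPGroup p P) (F N : Subgroup G) [N.Normal] (hNF : N ≤ F)
    (hcop : (Nat.card F).Coprime p) (hN : φ.range ≤ normalizer (F : Set G))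
    (h1 : Bound φ p N) (h2 : Bound ((QuotientGroup.mk' N).comp φ) p (F.map (QuotientGroup.mk' N))) :
    Bound φ p F := by
  set π := QuotientGroup.mk' N with hπ
  have key : ∀ (S : Subgroup G),
      Nat.card ↥(F ⊓ S) = Nat.card ↥(N ⊓ S) * Nat.card ↥((F ⊓ S).map π) := by
    intro S
    have e := (N.subgroupOf (F ⊓ S)).card_mul_index
    rw [show (N.subgroupOf (F ⊓ S)).index = N.relIndex (F ⊓ S) from rfl] at e
    rw [← relIndex_ker (K := F ⊓ S) π, hπ, QuotientGroup.ker_mk', ← e]
    congr 1
    rw [← card_map_of_injective (F ⊓ S).subtype_injective, subgroupOf_map_subtype,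
      ← inf_assoc, inf_eq_left.2 hNF]
  have hxle : ∀ x, cx φ x F ≤ cx φ x N * cx (π.comp φ) x (F.map π) := fun x => by
    rw [cx, key, cx, cx]
    refine Nat.mul_le_mul_left _ (card_le_of_le ?_)
    rintro _ ⟨u, hu, rfl⟩
    refine mem_inf.2 ⟨⟨u, (mem_inf.1 hu).1, rfl⟩, mem_centralizer_singleton_iff.2 ?_⟩
    rw [MonoidHom.comp_apply, ← map_mul, ← map_mul,
      mem_centralizer_singleton_iff.1 (mem_inf.1 hu).2]
  have hPle : cP φ N * cP (π.comp φ) (F.map π) ≤ cP φ F := by
    rw [cP, cP, cP, key (centralizer (φ.range : Set G))]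
    refine Nat.mul_le_mul_left _ (card_le_of_le ?_)
    rintro w hw
    obtain ⟨⟨u, huF, rfl⟩, hc⟩ := mem_inf.1 hw
    obtain ⟨n, hn, hun⟩ := CfsgLib.Coprime.exists_fixed_in_coset (A := φ.range) (N := N) (k := u)
      (by rw [normalizer_eq_top]; exact le_top)
      ((coprime_range hP hcop).coprime_dvd_right (card_dvd_of_le hNF))
      (Or.inl (by
        haveI : Group.IsNilpotent φ.range :=
          (hP.of_surjective φ.rangeRestrict φ.rangeRestrict_surjective).isNilpotent
        infer_instance))
      (by rw [normalizer_eq_top]; exact mem_top u)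
      (fun a ha => by
        obtain ⟨x, rfl⟩ := ha
        rw [← QuotientGroup.eq_one_iff]
        show π (φ x * u * (φ x)⁻¹ * u⁻¹) = 1
        simp only [map_mul, map_inv]
        rw [mem_centralizer_iff.1 hc (π (φ x)) ⟨x, rfl⟩]
        group)
    exact ⟨u * n, mem_inf.2 ⟨F.mul_mem huF (hNF hn), hun⟩, by
      rw [map_mul, show π n = 1 from (QuotientGroup.eq_one_iff n).2 hn, mul_one]⟩
  have hcard : Nat.card N * Nat.card (F.map π) = Nat.card F := by
    have := key ⊤
    rw [inf_top_eq, inf_top_eq] at this
    exact this.symm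
  calc (∏ x : P, cx φ x F) ^ p ≤ (∏ x : P, cx φ x N * cx (π.comp φ) x (F.map π)) ^ p :=
        Nat.pow_le_pow_left (Finset.prod_le_prod' fun x _ => hxle x) p
    _ = (∏ x : P, cx φ x N) ^ p * (∏ x : P, cx (π.comp φ) x (F.map π)) ^ p := by
        rw [Finset.prod_mul_distrib, mul_pow]
    _ ≤ _ * _ := Nat.mul_le_mul h1 h2
    _ = (Nat.card N * Nat.card (F.map π)) ^ Fintype.card P *
          (cP φ N * cP (π.comp φ) (F.map π)) ^ ((p - 1) * Fintype.card P) := by
        rw [mul_pow, mul_pow]; ring
    _ ≤ _ := by
        rw [hcard]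
        exact Nat.mul_le_mul_left _ (Nat.pow_le_pow_left hPle _)

/-- The bound for groups of prime power order. -/
theorem bound_qgroup {P : Type v} [Group P] [Fintype P] (hP : IsPGroup p P) {q : ℕ} [Fact q.Prime] :
    ∀ (k : ℕ) (G : Type u) [Group G] [Finite G] (φ : P →* G) (F : Subgroup G), Nat.card F = k →
      IsPGroup q F → (Nat.card F).Coprime p → φ.range ≤ normalizer (F : Set G) → Bound φ p F := by
  intro k
  induction k using Nat.strongRecOn with
  | ind k ih =>
    intro G _ _ φ F hk hq hcop hN
    by_cases hab : IsMulCommutative F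
    · exact bound_abelian φ hP _ F rfl hab hcop hN
    set L := normalizer (F : Set G) with hL
    let φ' : P →* L := φ.codRestrict L (fun x => hN ⟨x, rfl⟩)
    set F' := F.subgroupOf L with hF'
    have hFL : F ≤ L := le_normalizer
    have hS : ∀ S : Subgroup G, Nat.card ↥(F' ⊓ S.subgroupOf L) = Nat.card ↥(F ⊓ S) := fun S => by
      rw [← card_map_of_injective L.subtype_injective]
      rw [Subgroup.map_inf _ _ _ L.subtype_injective, subgroupOf_map_subtype, subgroupOf_map_subtype,
        inf_eq_left.2 hFL, ← inf_assoc, inf_comm F S, inf_assoc, inf_eq_left.2 hFL]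
    have hx : ∀ x, cx φ' x F' = cx φ x F := fun x => by
      rw [cx, cx, ← hS]
      congr 3
      ext u
      simp only [mem_inf]
      refine and_congr_right fun _ => ?_
      rw [mem_subgroupOf, mem_centralizer_singleton_iff, mem_centralizer_singleton_iff, Subtype.ext_iff]
      rfl
    have hPc : cP φ' F' = cP φ F := by
      rw [cP, cP, ← hS]
      congr 3
      ext u
      simp only [mem_inf]
      refine and_congr_right fun _ => ?_
      rw [mem_subgroupOf, mem_centralizer_iff, mem_centralizer_iff]
      constructor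
      · rintro h _ ⟨x, rfl⟩
        exact congrArg Subtype.val (h _ ⟨x, rfl⟩)
      · rintro h _ ⟨x, rfl⟩
        exact Subtype.ext (h _ ⟨x, rfl⟩)
    have hcF : Nat.card F' = Nat.card F := Nat.card_congr (subgroupOfEquivOfLe hFL).toEquiv
    suffices h : Bound φ' p F' by
      rw [Bound, Finset.prod_congr rfl (fun x _ => hx x), hPc, hcF] at h
      exact h
    haveI : F'.Normal := normal_in_normalizer
    set N := (center F').map F'.subtype with hN'
    haveI : N.Normal := inferInstance
    have hNF : N ≤ F' := map_subtype_le _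
    have hq' : IsPGroup q F' := hq.comap_of_injective L.subtype L.subtype_injective
    have hnab : ¬ IsMulCommutative F' := fun h => hab ⟨⟨fun a b => Subtype.ext
      (congrArg (fun t : F' => ((t : L) : G))
        (h.is_comm.comm ⟨⟨a, hFL a.2⟩, a.2⟩ ⟨⟨b, hFL b.2⟩, b.2⟩) :)⟩⟩
    have hcN : IsMulCommutative N := by
      refine ⟨⟨fun a b => Subtype.ext ?_⟩⟩
      obtain ⟨c, hc, e⟩ := a.2
      obtain ⟨d, hd, e'⟩ := b.2
      show (a : L) * b = b * a
      rw [← e, ← e', ← map_mul, ← map_mul, mem_center_iff.1 hd c]
    have hrange : φ'.range ≤ normalizer (F' : Set L) := by rw [normalizer_eq_top]; exact le_top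
    refine bound_step φ' hP F' N hNF (hcF ▸ hcop) hrange
      (bound_abelian φ' hP _ N rfl hcN
        ((hcF ▸ hcop).coprime_dvd_left (card_dvd_of_le hNF))
        (by rw [normalizer_eq_top]; exact le_top)) ?_
    refine ih _ ?_ _ _ (F'.map (QuotientGroup.mk' N)) rfl (hq'.map _)
      ((hcF ▸ hcop).coprime_dvd_left (Subgroup.card_map_dvd _ _))
      (by rw [(Normal.map inferInstance _ (QuotientGroup.mk'_surjective N) :
        (F'.map (QuotientGroup.mk' N)).Normal) |> normalizer_eq_top_iff.2]; exact le_top)
    rw [← hk, ← hcF, ← relIndex_ker (K := F') (QuotientGroup.mk' N), QuotientGroup.ker_mk']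
    haveI : Nontrivial F' := by
      by_contra h
      rw [not_nontrivial_iff_subsingleton] at h
      exact hnab ⟨⟨fun a b => Subsingleton.elim _ _⟩⟩
    haveI := hq'.center_nontrivial
    have h1 := card_mul_index (N.subgroupOf F')
    rw [Nat.card_congr (subgroupOfEquivOfLe hNF).toEquiv] at h1
    have h2 : 1 < Nat.card N := by
      rw [hN', card_map_of_injective F'.subtype_injective]
      exact Finite.one_lt_card
    show N.relIndex F' < Nat.card F'
    rw [← h1]
    exact lt_mul_of_one_lt_left (Nat.pos_of_ne_zero (N.subgroupOf F').index_ne_zero_of_finite) h2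

/-- The bound for every group of order prime to `p`. -/
theorem bound_coprime {P : Type v} [Group P] [Fintype P] (hP : IsPGroup p P) (φ : P →* G)
    (F : Subgroup G) (hcop : (Nat.card F).Coprime p) (hN : φ.range ≤ normalizer (F : Set G)) :
    Bound φ p F := by
  set Q := (Nat.card F).primeFactors with hQ
  have hsolv : ∀ A : Subgroup G, IsPGroup p A → Group.IsSolvable A := fun A hA => by
    haveI : Group.IsNilpotent A := hA.isNilpotent
    infer_instance
  have hA : IsPGroup p φ.range := hP.of_surjective φ.rangeRestrict φ.rangeRestrict_surjective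
  have hchoose : ∀ q : Q, ∃ S : Subgroup G,
      CfsgLib.Coprime.IsSylowIn (q : ℕ) S F ∧ φ.range ≤ normalizer (S : Set G) := fun q => by
    haveI := Fact.mk (Nat.prime_of_mem_primeFactors q.2)
    exact CfsgLib.Coprime.exists_invariant_sylow hN (coprime_range hP hcop)
      (Or.inl (hsolv _ hA)) (q : ℕ)
  choose S hS hSA using hchoose
  have hSF : ∀ q : Q, S q ≤ F := fun q => (hS q).1
  -- decomposition of a divisor
  have hprod : ∀ C : Subgroup G, C ≤ F →
      Nat.card C = ∏ q : Q, (q : ℕ) ^ (Nat.card C).factorization (q : ℕ) := by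
    intro C hC
    have h0 : Nat.card C ≠ 0 := Nat.card_pos.ne'
    have hsub : (Nat.card C).primeFactors ⊆ Q :=
      Nat.primeFactors_mono (card_dvd_of_le hC) Nat.card_pos.ne'
    conv_lhs => rw [← Nat.prod_factorization_pow_eq_self h0]
    rw [Nat.prod_factorization_eq_prod_primeFactors,
      Finset.prod_subset hsub (fun q hq hq' => by
        rw [← Nat.support_factorization, Finsupp.notMem_support_iff] at hq'
        rw [hq', pow_zero]), ← Finset.prod_coe_sort]
  have hcardF : Nat.card F = ∏ q : Q, Nat.card (S q) := by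
    rw [hprod F le_rfl]
    exact Finset.prod_congr rfl fun q _ => (hS q).2.symm
  have hxle : ∀ x, cx φ x F ≤ ∏ q : Q, cx φ x (S q) := by
    intro x
    rw [cx, hprod _ inf_le_left]
    refine Finset.prod_le_prod' fun q _ => ?_
    haveI := Fact.mk (Nat.prime_of_mem_primeFactors q.2)
    set C := F ⊓ centralizer ({φ x} : Set G) with hC
    obtain ⟨U⟩ : Nonempty (Sylow (q : ℕ) C) := inferInstance
    have hUs : CfsgLib.Coprime.IsSylowIn (q : ℕ) ((U : Subgroup C).map C.subtype) C :=
      CfsgLib.Coprime.isSylowIn_map U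
    set A := zpowers (φ x) with hAdef
    have hAr : A ≤ φ.range := zpowers_le.2 ⟨x, rfl⟩
    have hAp : IsPGroup p A := hA.to_le hAr
    have hAN : A ≤ normalizer (F : Set G) := hAr.trans hN
    have hAcop : (Nat.card A).Coprime (Nat.card F) :=
      (coprime_range hP hcop).coprime_dvd_left (card_dvd_of_le hAr)
    have hUA : A ≤ normalizer (((U : Subgroup C).map C.subtype : Subgroup G) : Set G) := by
      refine zpowers_le.2 (centralizer_le_normalizer _ (mem_centralizer_iff.2 ?_))
      rintro _ ⟨u, -, rfl⟩
      exact (mem_centralizer_singleton_iff.1 (mem_inf.1 u.2).2)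
    obtain ⟨T, hT, hUT, hTA⟩ := CfsgLib.Coprime.le_invariant_sylow hAN hAcop
      (Or.inl (hsolv _ hAp)) (hUs.1.trans inf_le_left) hUs.isPGroup hUA
    obtain ⟨c, hc, hcT⟩ := CfsgLib.Coprime.invariant_sylow_conj hAN hAcop (Or.inl (hsolv _ hAp))
      hT (hS q) hTA (hAr.trans (hSA q))
    have hcc : c ∈ C := by
      rw [hC, ← centralizer_zpowers]; exact hc
    calc (q : ℕ) ^ (Nat.card C).factorization (q : ℕ)
        = Nat.card (CfsgLib.Coprime.conjBy c ((U : Subgroup C).map C.subtype)) := by
          rw [CfsgLib.Coprime.card_conjBy, hUs.2]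
      _ ≤ cx φ x (S q) := card_le_of_le (le_inf ((map_mono hUT).trans_eq hcT)
          ((map_mono hUs.1).trans ((le_of_eq (CfsgLib.Coprime.conjBy_eq_self_of_mem hcc)).trans
            inf_le_right)))
  have hPle : ∏ q : Q, cP φ (S q) ≤ cP φ F := by
    set C := F ⊓ centralizer (φ.range : Set G) with hC
    rw [cP, ← hC, hprod C inf_le_left]
    refine Finset.prod_le_prod' fun q _ => ?_
    haveI := Fact.mk (Nat.prime_of_mem_primeFactors q.2)
    set W := S q ⊓ centralizer (φ.range : Set G) with hW
    obtain ⟨a, ha⟩ := IsPGroup.iff_card.1 ((hS q).isPGroup.to_le (inf_le_left : W ≤ S q))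
    have hd : (q : ℕ) ^ a ∣ Nat.card C := ha ▸ card_dvd_of_le (inf_le_inf_right _ (hSF q))
    rw [cP, ← hW, ha]
    exact Nat.pow_le_pow_right (Nat.prime_of_mem_primeFactors q.2).pos
      (((Nat.prime_of_mem_primeFactors q.2).pow_dvd_iff_le_factorization Nat.card_pos.ne').1 hd)
  have hB : ∀ q : Q, Bound φ p (S q) := fun q => by
    haveI := Fact.mk (Nat.prime_of_mem_primeFactors q.2)
    exact bound_qgroup hP _ G φ (S q) rfl (hS q).isPGroup
      (hcop.coprime_dvd_left (card_dvd_of_le (hSF q))) (hSA q)
  calc (∏ x : P, cx φ x F) ^ p ≤ (∏ x : P, ∏ q : Q, cx φ x (S q)) ^ p :=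
        Nat.pow_le_pow_left (Finset.prod_le_prod' fun x _ => hxle x) p
    _ = ∏ q : Q, (∏ x : P, cx φ x (S q)) ^ p := by rw [Finset.prod_comm, Finset.prod_pow]
    _ ≤ ∏ q : Q, Nat.card (S q) ^ Fintype.card P * cP φ (S q) ^ ((p - 1) * Fintype.card P) :=
        Finset.prod_le_prod' fun q _ => hB q
    _ = (∏ q : Q, Nat.card (S q)) ^ Fintype.card P *
          (∏ q : Q, cP φ (S q)) ^ ((p - 1) * Fintype.card P) := by
        rw [Finset.prod_mul_distrib, Finset.prod_pow, Finset.prod_pow]
    _ ≤ _ := by
        rw [← hcardF]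
        exact Nat.mul_le_mul_left _ (Nat.pow_le_pow_left hPle _)

end CfsgLib.FixedProduct
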