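import Cfsg.Agent.Lib.PGroup.FpfRing

/-!
An element of prime order fixing norms: the rest of the group centralizes its abelian subgroups.
-/

set_option linter.style.haveILetI false

namespace CfsgLib.PGroup

open Subgroup
open scoped IsMulCommutative

universe u

namespace CycleAct

variable {R : Type u} [Ring R] {H : Subgroup Rˣ} {u : Rˣ} {m : ℕ}
  {Q : Subgroup Rˣ} [IsMulCommutative Q]

theorem eq_one_of_pow_eq_one [Finite R] (h : CycleAct H u m) {z : Rˣ} (hz : z ∈ H)
    (hzm : z ^ m = 1) : z = 1 := by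
  have h1 : orderOf (⟨z, hz⟩ : H) ∣ m := orderOf_dvd_of_pow_eq_one (Subtype.ext hzm)
  exact congrArg Subtype.val (orderOf_eq_one_iff.1 (Nat.eq_one_of_dvd_coprimes h.cop
    (orderOf_dvd_natCard _) h1) : (⟨z, hz⟩ : H) = 1)

/-- An element of trivial norm fixing `N` is trivial. -/
theorem eq_one_of_norm_one [Finite R] (h : CycleAct H u m) (hQH : Q ≤ H)
    (hu : u ∈ normalizer (Q : Set Rˣ)) (hinv : ∃ v : R, v * ((Nat.card Q : ℕ) : R) = 1) (z : Q)
    (hnorm : ∏ i ∈ Finset.range m, orb hu i z = 1)
    (hfix : ((z : Rˣ) : R) * powSum m u = powSum m u) : z = 1 := by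
  refine Subtype.ext (h.eq_one_of_pow_eq_one (hQH z.2) ?_)
  have h1 : z ^ m = 1 := eq_one_of_chars (z ^ m) (pow_card_eq_one') hinv fun K _ _ χ hχ => by
    rw [map_pow]
    rcases h.fix_or_kill hu (MonoidAlgebra.of ℤ Q z - 1)
      (by rw [map_sub, map_one, toR_of, sub_mul, one_mul, hfix, sub_self]) χ hχ with h1 | h1
    · rw [char_pow_eq_prod hu χ h1, hnorm, map_one]
    · rw [map_sub, map_one, charHom_of, sub_eq_zero] at h1
      rw [h1, one_pow]
  exact_mod_cast congrArg Subtype.val h1

/-- A commutator with an element centralized by `u`, of trivial norm and central, is trivial. -/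
theorem commute_of_norm_one [Finite R] (h : CycleAct H u m) (hQH : Q ≤ H)
    (hu : u ∈ normalizer (Q : Set Rˣ)) (hinv : ∃ v : R, v * ((Nat.card Q : ℕ) : R) = 1)
    {c a : Rˣ} (hc : c ∈ H) (hcu : Commute c u) (hcQ : ∀ y ∈ Q, Commute c y) (z : Q)
    (hca : c * a = (z : Rˣ) * a * c) (hza : Commute (z : Rˣ) a)
    (hnorm : ∏ i ∈ Finset.range m, orb hu i z = 1) : Commute c a := by
  set N := powSum m u with hN
  set r := (a : R) * N
  have hcN : (c : R) * N = N := h.fix c hc hcu
  have hNc : N * (c : R) = (c : R) * N := by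
    rw [hN, powSum, Finset.mul_sum, Finset.sum_mul]
    refine Finset.sum_congr rfl fun i _ => ?_
    rw [← Units.val_pow_eq_pow_val, ← Units.val_mul, ← Units.val_mul, (hcu.pow_right i).eq]
  have hcr : (c : R) * r = ((z : Rˣ) : R) * r := by
    rw [show r = (a : R) * N from rfl, ← mul_assoc, ← Units.val_mul, hca, Units.val_mul,
      Units.val_mul, mul_assoc, mul_assoc, hcN]
  have hrel : ∀ y : Q, ∑ i ∈ Finset.range m,
      (((orb hu i y : Q) : Rˣ) : R) * (((((orb hu i z : Q) : Rˣ) : R) - 1) * ((u : R) ^ i * r)) = 0 := by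
    intro y
    have e1 : N * ((y : Rˣ) : R) * (((z : Rˣ) : R) - 1) * r = 0 := by
      have e2 : (c : R) * (N * ((y : Rˣ) : R) * r) = N * ((y : Rˣ) : R) * r := by
        simp only [← mul_assoc, hcN]
      have e3 : (c : R) * (N * ((y : Rˣ) : R) * r) =
          N * ((y : Rˣ) : R) * (((z : Rˣ) : R) * r) := by
        rw [← hcr]
        simp only [← mul_assoc]
        rw [← hNc, mul_assoc N (c : R), mul_assoc N ((y : Rˣ) : R), ← Units.val_mul,
          ← Units.val_mul, (hcQ y y.2).eq]
      rw [mul_assoc, sub_mul, one_mul, mul_sub, ← e3, e2, sub_self]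
    rw [← e1, hN, powSum, Finset.sum_mul, Finset.sum_mul, Finset.sum_mul]
    refine Finset.sum_congr rfl fun i _ => ?_
    have e : ∀ X : R, (((orb hu i y : Q) : Rˣ) : R) * ((u : R) ^ i * X) =
        (u : R) ^ i * ((y : Rˣ) : R) * X := fun X => by rw [← mul_assoc, orb_mul_pow]
    rw [sub_mul, one_mul, mul_sub, ← mul_assoc (((orb hu i z : Q) : Rˣ) : R), orb_mul_pow,
      mul_assoc ((u : R) ^ i) ((z : Rˣ) : R) r, e, e, mul_sub, mul_one, sub_mul,
      mul_assoc _ ((z : Rˣ) : R) r]
  have hzm : ((((z ^ m : Q)) : Rˣ) : R) * r = r :=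
    smul_eq_of_chars r (z ^ m) (pow_card_eq_one') hinv fun K _ _ χ hχ => by
      rw [map_pow]
      rcases h.fix_or_kill' hu (MonoidAlgebra.of ℤ Q z - 1) r _ (by
        rw [orb_zero, pow_zero, one_mul, map_sub, map_one, toR_of]) hrel χ hχ with h1 | h1
      · rw [char_pow_eq_prod hu χ h1, hnorm, map_one]
      · rw [map_sub, map_one, charHom_of, sub_eq_zero] at h1
        rw [h1, one_pow]
  obtain ⟨j, hj⟩ : ∃ j : ℕ, ((z : Rˣ) ^ m) ^ j = z := by
    refine exists_pow_eq_self_of_coprime (Nat.Coprime.symm ?_)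
    rw [orderOf_coe]
    exact (h.cop.coprime_dvd_left ((orderOf_dvd_natCard z).trans (card_dvd_of_le hQH)))
  have hzr : ((z : Rˣ) : R) * r = r := by
    have hl : ∀ l : ℕ, ((((z : Rˣ) ^ m) ^ l : Rˣ) : R) * r = r := by
      intro l
      induction l with
      | zero => simp
      | succ l ih =>
        have hzm' : ((((z : Rˣ) ^ m : Rˣ)) : R) * r = r := by
          rw [← SubmonoidClass.coe_pow]; exact hzm
        rw [pow_succ, Units.val_mul, mul_assoc, hzm', ih]
    rw [← hj]; exact hl j
  have hzN : ((z : Rˣ) : R) * N = N := by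
    refine (Units.mul_right_inj a).1 ?_
    rw [← mul_assoc, ← Units.val_mul, ← hza.eq, Units.val_mul, mul_assoc]
    exact hzr
  have := h.eq_one_of_norm_one hQH hu hinv z hnorm hzN
  rw [this, OneMemClass.coe_one, one_mul] at hca
  exact hca

/-- A group acting on an abelian group of units, both invariant, acts trivially. -/
theorem centralizes_abelian [Finite R] (h : CycleAct H u m) (hQH : Q ≤ H)
    (hu : u ∈ normalizer (Q : Set Rˣ)) (hinv : ∃ v : R, v * ((Nat.card Q : ℕ) : R) = 1)
    {B : Subgroup Rˣ} (hBH : B ≤ H) (hBQ : B ≤ normalizer (Q : Set Rˣ))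
    (huB : u ∈ normalizer (B : Set Rˣ)) (hcopBQ : (Nat.card B).Coprime (Nat.card Q))
    (hBcomm : ∀ b ∈ B, ∀ b' ∈ B, ∀ z ∈ Q, b * b' * z * (b * b')⁻¹ = b' * b * z * (b' * b)⁻¹) :
    B ≤ centralizer (Q : Set Rˣ) := by
  classical
  set uN : normalizer (Q : Set Rˣ) := ⟨u, hu⟩
  -- Step 1: elements of `B` centralized by `u` centralize `Q`.
  have step1 : ∀ c : Rˣ, c ∈ B → Commute c u → ∀ z ∈ Q, c * z = z * c := by
    intro c hcB hcu z hz
    lift z to Q using hz
    let cN : normalizer (Q : Set Rˣ) := ⟨c, hBQ hcB⟩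
    have hcomm : ∀ i (y : Q), orb hu i (cj Q cN y) = cj Q cN (orb hu i y) := by
      intro i y
      rw [orb, ← cj_mul, ← cj_mul]
      congr 2
      refine Subtype.ext ?_
      simp only [coe_mul, coe_pow]
      exact (hcu.pow_right i).eq.symm
    have hcN : (c : R) * powSum m u = powSum m u := h.fix c (hBH hcB) hcu
    have hNc : powSum m u * (c : R) = (c : R) * powSum m u := by
      rw [powSum, Finset.mul_sum, Finset.sum_mul]
      refine Finset.sum_congr rfl fun i _ => ?_
      rw [← Units.val_pow_eq_pow_val, ← Units.val_mul, ← Units.val_mul, (hcu.pow_right i).eq]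
    have hciN : ((c⁻¹ : Rˣ) : R) * powSum m u = powSum m u := by
      conv_lhs => rw [← hcN]
      rw [← mul_assoc, Units.inv_mul, one_mul]
    have hNz : ∀ y : Q, toR Q (∑ i ∈ Finset.range m, MonoidAlgebra.of ℤ Q (orb hu i y)) * powSum m u
        = powSum m u * ((y : Rˣ) : R) * powSum m u := by
      intro y
      rw [map_sum, Finset.sum_mul]
      conv_rhs => rw [powSum, Finset.sum_mul, Finset.sum_mul]
      refine Finset.sum_congr rfl fun i _ => ?_
      rw [toR_of, ← orb_mul_pow hu, mul_assoc]
      rw [show ∑ i ∈ Finset.range m, (u : R) ^ i = powSum m u from rfl, h.pow_mul_powSum]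
    have hD : ∀ y : Q, toR Q ((∑ i ∈ Finset.range m, MonoidAlgebra.of ℤ Q (orb hu i (cj Q cN y))) -
        ∑ i ∈ Finset.range m, MonoidAlgebra.of ℤ Q (orb hu i y)) * powSum m u = 0 := by
      intro y
      rw [map_sub, sub_mul, hNz, hNz, sub_eq_zero, coe_cj, Units.val_mul, Units.val_mul,
        show ((cN : normalizer (Q : Set Rˣ)) : Rˣ) = c from rfl]
      simp only [← mul_assoc]
      rw [hNc, hcN, mul_assoc (powSum m u * ((y : Rˣ) : R)), hciN]
    have key : (cj Q cN z * z⁻¹) ^ m = 1 := eq_one_of_chars _ pow_card_eq_one' hinv fun K _ _ χ hχ => by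
      have hgoal : χ (cj Q cN z) ^ m = χ z ^ m → χ ((cj Q cN z * z⁻¹) ^ m) = 1 := by
        intro e
        rw [map_pow, map_mul, mul_pow, e, ← mul_pow, ← map_mul, mul_inv_cancel, map_one, one_pow]
      by_cases hmov : ∀ y, χ (orb hu 1 y) = χ y
      · refine hgoal ?_
        rw [char_pow_eq_prod hu χ hmov, char_pow_eq_prod hu χ hmov,
          Finset.prod_congr rfl fun i _ => hcomm i z, ← map_prod]
        congr 1
        refine Subtype.ext ?_
        rw [coe_cj, mul_inv_eq_iff_eq_mul]
        exact (h.comm c (hBH hcB) _ (hQH (SetLike.coe_mem _)) hcu (h.commute_prod_orb hu z)).eq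
      · -- the identity of character sums
          have hsum : ∀ y : Q, ∑ i ∈ Finset.range m, χ (orb hu i (cj Q cN y)) =
              ∑ i ∈ Finset.range m, χ (orb hu i y) := by
            intro y
            rcases h.fix_or_kill hu _ (hD y) χ hχ with h2 | h2
            · exact absurd h2 hmov
            · simpa [map_sum, charHom, sub_eq_zero] using h2
          let a : ℕ ⊕ ℕ → Q →* K := Sum.elim (fun i => (χ.comp (orb hu i)).comp (cj Q cN))
            fun i => χ.comp (orb hu i)
          let T := (Finset.range m).disjSum (Finset.range m)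
          let cf : ℕ ⊕ ℕ → K := Sum.elim (fun _ => 1) fun _ => -1
          have hrel : ∀ y, ∑ g ∈ T, (RingHom.id K) (a g y) * cf g = 0 := by
            intro y
            rw [Finset.sum_disjSum]
            simp [a, cf, hsum y]
          have hmem : Sum.inl 0 ∈ T := Finset.inl_mem_disjSum.2 (Finset.mem_range.2 h.prime.pos)
          let Y : ℕ ⊕ ℕ → Q := fun e => if he : ∃ y, a (Sum.inl 0) y ≠ a e y then he.choose else 1
          have h0 := elim_all (RingHom.id K) T a cf hrel hmem Y
          simp only [RingHom.id_apply, cf, Sum.elim_inl, mul_one] at h0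
          obtain ⟨e, he, h2⟩ := Finset.prod_eq_zero_iff.1 h0
          have hall : ∀ y, a (Sum.inl 0) y = a e y := by
            by_contra hc'
            push Not at hc'
            simp only [Y, dif_pos hc', sub_eq_zero] at h2
            exact hc'.choose_spec h2
          obtain ⟨hne, heT⟩ := Finset.mem_erase.1 he
          rcases e with i | i
          · exfalso
            have hi0 : i ≠ 0 := fun e => hne (e ▸ rfl)
            refine hmov fun y => h.fixed_of_pow_fixed hu χ hi0
              (Finset.mem_range.1 (Finset.inl_mem_disjSum.1 heT)) (fun w => ?_) y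
            have := hall (cj Q cN⁻¹ w)
            simp only [a, Sum.elim_inl, MonoidHom.comp_apply, orb_zero] at this
            rw [← cj_mul, mul_inv_cancel, cj_one] at this
            exact this.symm
          · have hci : ∀ y, χ (cj Q cN y) = χ (orb hu i y) := by
              intro y
              have := hall y
              simpa [a, orb_zero] using this
            have hl : ∀ (l : ℕ) y, χ (cj Q (cN ^ l) y) = χ (orb hu (i * l) y) := by
              intro l
              induction l with
              | zero => intro y; rw [pow_zero, cj_one, mul_zero, orb_zero]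
              | succ l ih =>
                intro y
                have hcl : orb hu i (cj Q (cN ^ l) y) = cj Q (cN ^ l) (orb hu i y) := by
                  rw [orb, ← cj_mul, ← cj_mul]
                  congr 2
                  refine Subtype.ext ?_
                  simp only [coe_mul, coe_pow]
                  exact ((hcu.pow_left l).pow_right i).eq.symm
                rw [pow_succ', cj_mul, hci, hcl, ih, orb, orb, orb, ← cj_mul, ← pow_add, mul_add, mul_one]
            have hm' : ∀ y, χ (cj Q (cN ^ m) y) = χ y := by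
              intro y
              rw [hl]
              congr 1
              refine Subtype.ext ?_
              rw [coe_orb, mul_comm i, pow_mul, h.pow_eq, one_pow]
              group
            obtain ⟨j, hj⟩ : ∃ j : ℕ, (cN ^ m) ^ j = cN := by
              refine exists_pow_eq_self_of_coprime (Nat.Coprime.symm ?_)
              rw [← orderOf_coe]
              exact h.cop.coprime_dvd_left (by
                have := orderOf_dvd_natCard (⟨c, hBH hcB⟩ : H)
                rwa [Subgroup.orderOf_mk] at this)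
            have hjm : ∀ l : ℕ, ∀ y, χ (cj Q ((cN ^ m) ^ l) y) = χ y := by
              intro l
              induction l with
              | zero => intro y; rw [pow_zero, cj_one]
              | succ l ih => intro y; rw [pow_succ', cj_mul, hm', ih]
            have hfin := hjm j z
            rw [hj] at hfin
            exact hgoal (by rw [hfin])
    have hw := h.eq_one_of_pow_eq_one (hQH (cj Q cN z * z⁻¹).2)
      (by exact_mod_cast congrArg Subtype.val key)
    rw [coe_mul, coe_inv, mul_inv_eq_one, coe_cj, mul_inv_eq_iff_eq_mul] at hw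
    exact hw
  -- the group of induced automorphisms
  let π : B →* MulAut Q := Q.normalizerMonoidHom.comp (Subgroup.inclusion hBQ)
  let G := π.range
  haveI : Fintype G := Fintype.ofFinite _
  set û : MulAut Q := Q.normalizerMonoidHom uN
  have hπcomm : ∀ b b' : B, π b * π b' = π b' * π b := by
    intro b b'
    refine MulEquiv.ext fun z => Subtype.ext ?_
    have := hBcomm b b.2 b' b'.2 z z.2
    rw [mul_inv_rev, mul_inv_rev] at this
    show (b : Rˣ) * ((b' : Rˣ) * z * (b' : Rˣ)⁻¹) * (b : Rˣ)⁻¹ =
      (b' : Rˣ) * ((b : Rˣ) * z * (b : Rˣ)⁻¹) * (b' : Rˣ)⁻¹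
    simpa only [mul_assoc] using this
  haveI hGc : IsMulCommutative G := ⟨⟨by
    rintro ⟨_, b, rfl⟩ ⟨_, b', rfl⟩
    exact Subtype.ext (hπcomm b b')⟩⟩
  have hconj : ∀ b : B, û * π b * û⁻¹ =
      π ⟨u * b * u⁻¹, (mem_normalizer_iff.1 huB _).1 b.2⟩ := by
    intro b
    rw [show π b = Q.normalizerMonoidHom ⟨b, hBQ b.2⟩ from rfl, ← map_mul, ← map_inv, ← map_mul]
    rfl
  have hGinv : ∀ g ∈ G, û * g * û⁻¹ ∈ G := by
    rintro _ ⟨b, rfl⟩
    exact ⟨_, (hconj b).symm⟩
  have hfree : ∀ g ∈ G, Commute g û → g = 1 := by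
    rintro _ ⟨b, rfl⟩ hcb
    set D := B ⊓ centralizer (Q : Set Rˣ)
    have hker : ∀ d : Rˣ, ∀ hd : d ∈ B, π ⟨d, hd⟩ = 1 → d ∈ D := by
      intro d hd e
      refine ⟨hd, mem_centralizer_iff.2 fun z hz => ?_⟩
      have := congrArg (fun f : MulAut Q => ((f ⟨z, hz⟩ : Q) : Rˣ)) e
      exact (mul_inv_eq_iff_eq_mul.1 this).symm
    have hAD : zpowers u ≤ normalizer (D : Set Rˣ) := by
      refine zpowers_le.2 (CfsgLib.Coprime.inf_le_normalizer (zpowers_le.2 huB) ?_ (mem_zpowers u))
      exact (zpowers_le.2 hu).trans (CfsgLib.Coprime.normalizer_le_normalizer_centralizer Q)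
    have hcop : (Nat.card (zpowers u)).Coprime (Nat.card D) := by
      rw [Nat.card_zpowers]
      exact ((h.cop.coprime_dvd_left (card_dvd_of_le (inf_le_left.trans hBH))).coprime_dvd_right
        (orderOf_dvd_of_pow_eq_one h.pow_eq)).symm
    have hbD : (b : Rˣ) ∈ normalizer (D : Set Rˣ) :=
      CfsgLib.Coprime.inf_le_normalizer (le_normalizer (H := B))
        (hBQ.trans (CfsgLib.Coprime.normalizer_le_normalizer_centralizer Q)) b.2
    obtain ⟨n, hn, hnc⟩ := CfsgLib.Coprime.exists_fixed_in_coset hAD hcop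
      (Or.inl (CfsgLib.Coprime.isSolvable_of_isMulCommutative inferInstance)) hbD fun a ha => by
        obtain ⟨l, rfl⟩ := (mem_zpowers_iff.1 ha)
        have hmem : u ^ l * (b : Rˣ) * (u ^ l)⁻¹ * (b : Rˣ)⁻¹ ∈ B :=
          mul_mem ((mem_normalizer_iff.1 (zpow_mem huB l) _).1 b.2) (inv_mem b.2)
        refine hker _ hmem ?_
        have e : (Subgroup.inclusion hBQ ⟨_, hmem⟩ : normalizer (Q : Set Rˣ)) =
            uN ^ l * Subgroup.inclusion hBQ b * (uN ^ l)⁻¹ * (Subgroup.inclusion hBQ b)⁻¹ :=
          Subtype.ext (by simp [uN])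
        show Q.normalizerMonoidHom _ = 1
        rw [e, map_mul, map_mul, map_mul, map_inv, map_inv, map_zpow]
        have hc2 : Commute (π b) (û ^ l) := hcb.zpow_right l
        show û ^ l * π b * (û ^ l)⁻¹ * (π b)⁻¹ = 1
        rw [← hc2.eq]
        group
    rw [mem_centralizer_iff] at hnc
    have hbn := step1 _ (mul_mem b.2 hn.1) (hnc u (mem_zpowers u)).symm
    refine MulEquiv.ext fun z => Subtype.ext ?_
    show (b : Rˣ) * z * (b : Rˣ)⁻¹ = z
    have h1 : n * z = z * n := (mem_centralizer_iff.1 hn.2 z z.2).symm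
    have h2 := hbn z z.2
    rw [mul_inv_eq_iff_eq_mul]
    refine mul_right_cancel (b := n) ?_
    rw [mul_assoc, ← h1, ← mul_assoc, h2, mul_assoc]
  have hS : ∀ (S : Subgroup G), (∀ s ∈ S, (⟨_, hGinv _ s.2⟩ : G) ∈ S) →
      ∀ g : G, (⟨_, hGinv _ g.2⟩ : G) * g⁻¹ ∈ S → g ∈ S := by
    intro S hSinv g hg
    let ψ : G → G := fun g => (⟨_, hGinv _ g.2⟩ : G) * g⁻¹
    have hinj : Function.Injective ψ := by
      intro g g' e
      have e' : û * (g : MulAut Q) * û⁻¹ * (g : MulAut Q)⁻¹ =
          û * (g' : MulAut Q) * û⁻¹ * (g' : MulAut Q)⁻¹ := congrArg Subtype.val e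
      have hgg : ((g⁻¹ * g' : G) : MulAut Q) = 1 := by
        refine hfree _ (g⁻¹ * g').2 ?_
        have c1 : (g' : MulAut Q) * (g : MulAut Q)⁻¹ = (g : MulAut Q)⁻¹ * (g' : MulAut Q) :=
          congrArg Subtype.val (mul_comm g' g⁻¹)
        have e2 : û * ((g : MulAut Q)⁻¹ * (g' : MulAut Q)) * û⁻¹ =
            (g : MulAut Q)⁻¹ * (g' : MulAut Q) := by
          have c2 : (û * (g : MulAut Q) * û⁻¹)⁻¹ * (û * (g' : MulAut Q) * û⁻¹) =
              (g : MulAut Q)⁻¹ * (g' : MulAut Q) := by
            have := congrArg (· * (g' : MulAut Q)) e'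
            simp only [inv_mul_cancel_right] at this
            rw [← this, mul_assoc (û * (g : MulAut Q) * û⁻¹), ← mul_assoc, inv_mul_cancel, one_mul]
          conv_rhs => rw [← c2]
          group
        rw [coe_mul, coe_inv]
        exact (mul_inv_eq_iff_eq_mul.1 e2).symm
      exact inv_mul_eq_one.1 (Subtype.ext hgg)
    have hmaps : ∀ s : S, ψ s ∈ S := fun s => mul_mem (hSinv _ s.2) (inv_mem s.2)
    obtain ⟨s, hs⟩ := (Finite.injective_iff_surjective (f := fun s : S => (⟨ψ s, hmaps s⟩ : S))).1
      (fun s t e => Subtype.ext (hinj (congrArg Subtype.val e))) ⟨_, hg⟩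
    rw [← hinj (congrArg Subtype.val hs)]
    exact s.2
  set n := Fintype.card G
  have hcopn : n.Coprime (Nat.card Q) := by
    refine hcopBQ.coprime_dvd_left ?_
    rw [show n = Nat.card G from (Nat.card_eq_fintype_card).symm]
    exact card_range_dvd π
  have hpowfix : ∀ (g : MulAut Q) (x : Q), g (x ^ n) = x ^ n → g x = x := by
    intro g x e
    rw [map_pow] at e
    have h1 : (g x * x⁻¹) ^ n = 1 := by rw [mul_pow, e, inv_pow, mul_inv_cancel]
    exact mul_inv_eq_one.1 (orderOf_eq_one_iff.1 (Nat.eq_one_of_dvd_coprimes hcopn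
      (orderOf_dvd_of_pow_eq_one h1) (orderOf_dvd_natCard _)))
  let P : Q → Q := fun x => ∏ g : G, (g : MulAut Q) x
  have hPfix : ∀ (g : G) x, (g : MulAut Q) (P x) = P x := by
    intro g x
    show (g : MulAut Q) (∏ f : G, (f : MulAut Q) x) = _
    rw [map_prod]
    exact Fintype.prod_equiv (Equiv.mulLeft g) _ _ fun f => rfl
  -- Step 2: fixed points of `u` are centralized.
  have step2 : ∀ x : Q, Commute (x : Rˣ) u → ∀ g : G, (g : MulAut Q) x = x := by
    intro x hx g
    have hux : û x = x := Subtype.ext (mul_inv_eq_iff_eq_mul.2 hx.eq.symm)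
    have huP : û (P x) = P x := by
      show û (∏ f : G, (f : MulAut Q) x) = _
      rw [map_prod]
      refine Fintype.prod_bijective (fun f : G => (⟨_, hGinv _ f.2⟩ : G)) ?_ _ _ fun f => ?_
      · refine (Finite.injective_iff_bijective).1 fun f f' e => Subtype.ext ?_
        simpa using congrArg Subtype.val e
      · show û ((f : MulAut Q) x) = (û * (f : MulAut Q) * û⁻¹) x
        have huxi : û⁻¹ x = x := by
          conv_lhs => rw [← hux]
          rw [MulAut.inv_apply_self]
        rw [MulAut.mul_apply, MulAut.mul_apply, huxi]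
    set x0 := x ^ n * (P x)⁻¹ with hx0
    have hux0 : Commute (x0 : Rˣ) u := by
      have e : û x0 = x0 := by rw [hx0, map_mul, map_pow, map_inv, hux, huP]
      exact (mul_inv_eq_iff_eq_mul.1 (congrArg Subtype.val e)).symm
    have hPx0 : P x0 = 1 := by
      show ∏ f : G, (f : MulAut Q) x0 = 1
      simp only [hx0, map_mul, map_pow, map_inv, hPfix, Finset.prod_mul_distrib,
        Finset.prod_const, Finset.card_univ, Finset.prod_pow, inv_pow]
      exact mul_inv_cancel _
    have h1 : x0 = 1 := eq_one_of_chars x0 pow_card_eq_one' hinv fun K _ _ χ hχ => by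
      have hD : toR Q (MonoidAlgebra.of ℤ Q x0 - 1) * powSum m u = 0 := by
        rw [map_sub, map_one, toR_of, sub_mul, one_mul, h.fix _ (hQH x0.2) hux0, sub_self]
      rcases h.fix_or_kill hu _ hD χ hχ with hfixχ | hk
      swap
      · rwa [map_sub, map_one, charHom_of, sub_eq_zero] at hk
      let S : Subgroup G :=
        { carrier := {f | ∀ z, χ ((f : MulAut Q) z) = χ z}
          one_mem' := fun z => rfl
          mul_mem' := fun {a b} ha hb z => by
            show χ ((a : MulAut Q) ((b : MulAut Q) z)) = χ z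
            rw [ha, hb]
          inv_mem' := fun {a} ha z => by
            have := ha ((a : MulAut Q)⁻¹ z)
            rw [MulAut.apply_inv_self] at this
            exact this.symm }
      have hχu : ∀ z, χ (û z) = χ z := fun z => by
        have := hfixχ z
        rwa [orb, pow_one] at this
      have hχui : ∀ z, χ (û⁻¹ z) = χ z := fun z => by
        rw [← hχu (û⁻¹ z), MulAut.apply_inv_self]
      have hval : ∀ f : G, χ ((f : MulAut Q) x0) = if f ∈ S then χ x0 else 1 := by
        intro f
        split_ifs with hfS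
        · exact hfS x0
        · obtain ⟨b, hb⟩ := f.2
          have hb' : ∀ z, (f : MulAut Q) z = cj Q (Subgroup.inclusion hBQ b) z := fun z => by
            rw [← hb]; rfl
          rcases h.fix_or_kill hu _ hD _ (hχ.comp (Subgroup.inclusion hBQ b)) with hf | hk
          swap
          · rw [map_sub, map_one, charHom_of, sub_eq_zero] at hk
            rw [hb']; exact hk
          refine absurd (hS S ?_ f ?_) hfS
          · intro s hs z
            show χ (û ((s : MulAut Q) (û⁻¹ z))) = χ z
            rw [hχu, hs, hχui]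
          · intro z
            show χ (û ((f : MulAut Q) (û⁻¹ ((f : MulAut Q)⁻¹ z)))) = χ z
            rw [hχu]
            have hfu : ∀ w, χ ((f : MulAut Q) (û w)) = χ ((f : MulAut Q) w) := fun w => by
              have := hf w
              simp only [MonoidHom.comp_apply, ← hb'] at this
              rwa [orb, pow_one] at this
            rw [← hfu, MulAut.apply_inv_self, MulAut.apply_inv_self]
      have h2 := congrArg χ hPx0
      rw [map_one, map_prod, Finset.prod_congr rfl fun f _ => hval f, Finset.prod_ite,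
        Finset.prod_const_one, mul_one, Finset.prod_const] at h2
      have hScard : (Finset.univ.filter fun f => f ∈ S).card ∣ n := by
        rw [← Fintype.card_subtype, ← Nat.card_eq_fintype_card]
        exact (card_subgroup_dvd_card S).trans (Nat.card_eq_fintype_card).dvd
      have h3 : χ x0 ^ Nat.card Q = 1 := by rw [← map_pow, pow_card_eq_one', map_one]
      have h4 := pow_gcd_eq_one.2 ⟨h2, h3⟩
      rwa [hcopn.coprime_dvd_left hScard, pow_one] at h4
    refine hpowfix _ x ?_
    rw [show x ^ n = P x from mul_inv_eq_one.1 h1, hPfix]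
  -- Step 3: norms.
  have step3 : ∀ (z : Q) (g : G), (g : MulAut Q) z = z := by
    intro z g
    have hû : ∀ (i : ℕ) (y : Q), orb hu i y = (û ^ i) y := fun i y => by
      rw [orb, ← map_pow]; rfl
    have hN : ∀ (g : G) (y : Q), (g : MulAut Q) (∏ i ∈ Finset.range m, orb hu i y) =
        ∏ i ∈ Finset.range m, orb hu i y := fun g y => step2 _ (h.commute_prod_orb hu y) g
    have hinvi : ∀ (i : ℕ) (f : G), û ^ i * (f : MulAut Q) * (û ^ i)⁻¹ ∈ G := by
      intro i f
      induction i with
      | zero => simp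
      | succ i ih =>
        have := hGinv _ ih
        rwa [pow_succ', mul_inv_rev,
          show û * û ^ i * (f : MulAut Q) * ((û ^ i)⁻¹ * û⁻¹) =
            û * (û ^ i * (f : MulAut Q) * (û ^ i)⁻¹) * û⁻¹ by group]
    have hterm : ∀ i ∈ (Finset.range m).erase 0,
        ∏ f : G, (f : MulAut Q) (orb hu i ((f : MulAut Q)⁻¹ z)) = P (orb hu i z) := by
      intro i hi
      obtain ⟨hi0, him⟩ := Finset.mem_erase.1 hi
      let φ : G → G := fun f => f * (⟨_, hinvi i f⟩ : G)⁻¹
      have hφ : Function.Injective φ := by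
        intro f f' e
        have hgg : ((f⁻¹ * f' : G) : MulAut Q) = 1 := by
          refine hfree _ (f⁻¹ * f').2 ?_
          have e1 : (⟨_, hinvi i (f⁻¹ * f')⟩ : G) = f⁻¹ * f' := by
            have e2 : (⟨_, hinvi i (f⁻¹ * f')⟩ : G) = (⟨_, hinvi i f⟩ : G)⁻¹ * ⟨_, hinvi i f'⟩ :=
              Subtype.ext (by simp only [coe_mul, coe_inv]; group)
            have e3 : f * (⟨_, hinvi i f⟩ : G)⁻¹ = f' * (⟨_, hinvi i f'⟩ : G)⁻¹ := e
            calc _ = f⁻¹ * (f * (⟨_, hinvi i f⟩ : G)⁻¹) * ⟨_, hinvi i f'⟩ := by rw [e2]; group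
              _ = f⁻¹ * (f' * (⟨_, hinvi i f'⟩ : G)⁻¹) * ⟨_, hinvi i f'⟩ := by rw [e3]
              _ = f⁻¹ * f' := by group
          obtain ⟨j, hj⟩ := h.exists_pow_eq_self (Finset.mem_range.1 him) hi0
          have hc : Commute ((f⁻¹ * f' : G) : MulAut Q) (û ^ i) :=
            (mul_inv_eq_iff_eq_mul.1 (congrArg Subtype.val e1)).symm
          have hj' : (û ^ i) ^ j = û := by
            rw [← map_pow, ← map_pow]
            exact congrArg _ (Subtype.ext (by simpa [uN] using hj))
          rw [← hj']
          exact hc.pow_right j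
        exact inv_mul_eq_one.1 (Subtype.ext hgg)
      refine Fintype.prod_bijective φ (Finite.injective_iff_bijective.1 hφ) _ _ fun f => ?_
      rw [hû, hû]
      show (f : MulAut Q) ((û ^ i) ((f : MulAut Q)⁻¹ z)) =
        ((f : MulAut Q) * (û ^ i * (f : MulAut Q) * (û ^ i)⁻¹)⁻¹) ((û ^ i) z)
      rw [mul_inv_rev, mul_inv_rev, inv_inv]
      simp only [MulAut.mul_apply, MulAut.inv_apply_self]
    have hA : ∏ f : G, ∏ i ∈ Finset.range m, orb hu i ((f : MulAut Q)⁻¹ z) =
        z ^ n * ∏ i ∈ (Finset.range m).erase 0, P (orb hu i z) := by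
      calc ∏ f : G, ∏ i ∈ Finset.range m, orb hu i ((f : MulAut Q)⁻¹ z)
          = ∏ f : G, (f : MulAut Q) (∏ i ∈ Finset.range m, orb hu i ((f : MulAut Q)⁻¹ z)) :=
            Finset.prod_congr rfl fun f _ => (hN f _).symm
        _ = ∏ i ∈ Finset.range m, ∏ f : G, (f : MulAut Q) (orb hu i ((f : MulAut Q)⁻¹ z)) := by
            rw [Finset.prod_comm]; simp only [map_prod]
        _ = _ := by
            rw [← Finset.mul_prod_erase _ _ (Finset.mem_range.2 h.prime.pos),
              Finset.prod_congr rfl hterm]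
            congr 1
            simp only [orb_zero, MulAut.apply_inv_self, Finset.prod_const, Finset.card_univ, n]
    refine hpowfix _ z ?_
    have e1 := congrArg (g : MulAut Q) hA
    rw [map_prod, Finset.prod_congr rfl fun f _ => hN g _, hA, map_mul, map_prod,
      Finset.prod_congr rfl fun i _ => hPfix g _] at e1
    exact (mul_right_cancel e1).symm
  intro b hb
  refine mem_centralizer_iff.2 fun z hz => ?_
  have := congrArg (fun y : Q => (y : Rˣ)) (step3 ⟨z, hz⟩ ⟨π ⟨b, hb⟩, _, rfl⟩)
  exact (mul_inv_eq_iff_eq_mul.1 this).symm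

end CycleAct

end CfsgLib.PGroup
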