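import Cfsg.Agent.Lib.PGroup.FpfAbelian
import Mathlib.GroupTheory.Nilpotent

/-!
The second centre of a group of units on which an element of prime order acts fixing norms.
-/

set_option linter.style.haveILetI false
set_option linter.unusedSectionVars false

namespace CfsgLib.PGroup

open Subgroup
open scoped IsMulCommutative

universe u

section Centre

variable {G : Type u} [Group G] (Q : Subgroup G)

/-- The centre of a subgroup. -/
def centreIn' : Subgroup G := Q ⊓ centralizer (Q : Set G)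

theorem centreIn'_le : centreIn' Q ≤ Q := inf_le_left

instance centreIn'_comm : IsMulCommutative (centreIn' Q) :=
  ⟨⟨fun a b => Subtype.ext (mem_centralizer_iff.1 b.2.2 a a.2.1)⟩⟩

variable {Q}

theorem commute_of_centreIn' {z x : G} (hz : z ∈ centreIn' Q) (hx : x ∈ Q) : Commute z x :=
  (mem_centralizer_iff.1 hz.2 x hx).symm

theorem br_mul_right {w x y : G} (hy : y ∈ Q)
    (hwy : w * y * w⁻¹ * y⁻¹ ∈ centreIn' Q) (hx : x ∈ Q) :
    w * (x * y) * w⁻¹ * (x * y)⁻¹ = (w * x * w⁻¹ * x⁻¹) * (w * y * w⁻¹ * y⁻¹) := by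
  calc w * (x * y) * w⁻¹ * (x * y)⁻¹ = (w * x * w⁻¹ * x⁻¹) * (x * (w * y * w⁻¹ * y⁻¹) * x⁻¹) := by
        group
    _ = _ := by
        rw [← (commute_of_centreIn' hwy hx).eq, mul_inv_cancel_right]

theorem br_mul_left {w w' x : G} (hw : w ∈ Q)
    (h' : w' * x * w'⁻¹ * x⁻¹ ∈ centreIn' Q) :
    (w * w') * x * (w * w')⁻¹ * x⁻¹ = (w' * x * w'⁻¹ * x⁻¹) * (w * x * w⁻¹ * x⁻¹) := by
  calc (w * w') * x * (w * w')⁻¹ * x⁻¹ = (w * (w' * x * w'⁻¹ * x⁻¹) * w⁻¹) * (w * x * w⁻¹ * x⁻¹) := by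
        group
    _ = _ := by
        rw [← (commute_of_centreIn' h' hw).eq, mul_inv_cancel_right]

variable (Q)

/-- The second centre of a subgroup. -/
def secondCentre : Subgroup G where
  carrier := {w | w ∈ Q ∧ ∀ x ∈ Q, w * x * w⁻¹ * x⁻¹ ∈ centreIn' Q}
  one_mem' := ⟨one_mem _, fun x _ => by simp⟩
  mul_mem' := by
    intro w w' hw hw'
    refine ⟨mul_mem hw.1 hw'.1, fun x hx => ?_⟩
    rw [br_mul_left hw.1 (hw'.2 x hx)]
    exact mul_mem (hw'.2 x hx) (hw.2 x hx)
  inv_mem' := by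
    intro w hw
    refine ⟨inv_mem hw.1, fun x hx => ?_⟩
    have h := inv_mem (hw.2 x hx)
    have e : w⁻¹ * x * w⁻¹⁻¹ * x⁻¹ = w⁻¹ * (w * x * w⁻¹ * x⁻¹)⁻¹ * w := by group
    rw [e, ← (commute_of_centreIn' h (inv_mem hw.1)).eq, inv_mul_cancel_right]
    exact h

theorem secondCentre_le : secondCentre Q ≤ Q := fun _ h => h.1

theorem centreIn'_le_secondCentre : centreIn' Q ≤ secondCentre Q := fun z hz =>
  ⟨hz.1, fun x hx => by
    rw [(commute_of_centreIn' hz hx).eq, mul_inv_cancel_right, mul_inv_cancel]; exact one_mem _⟩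

variable {Q}

/-- The commutator map of an element of the second centre. -/
def brR (w : secondCentre Q) : Q →* centreIn' Q :=
  MonoidHom.mk' (fun x => ⟨(w : G) * x * (w : G)⁻¹ * (x : G)⁻¹, w.2.2 x x.2⟩)
    fun x y => Subtype.ext (br_mul_right y.2 (w.2.2 y y.2) x.2)

/-- The commutator map with an element of the group. -/
def brL (x : Q) : secondCentre Q →* centreIn' Q :=
  MonoidHom.mk' (fun w => ⟨(w : G) * x * (w : G)⁻¹ * (x : G)⁻¹, w.2.2 x x.2⟩)
    fun w w' => Subtype.ext (by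
      show (w : G) * (w' : G) * x * ((w : G) * (w' : G))⁻¹ * (x : G)⁻¹ = _
      exact (br_mul_left w.2.1 (w'.2.2 x x.2)).trans
        (congrArg Subtype.val (mul_comm
          (⟨_, w'.2.2 x x.2⟩ : centreIn' Q) ⟨_, w.2.2 x x.2⟩)))

theorem brR_eq_brL (w : secondCentre Q) (x : Q) : brR w x = brL x w := rfl

theorem mem_centreIn'_of_brR {w : secondCentre Q} (h : ∀ x : Q, brR w x = 1) :
    (w : G) ∈ centreIn' Q := by
  refine ⟨w.2.1, mem_centralizer_iff.2 fun x hx => ?_⟩
  have := congrArg Subtype.val (h ⟨x, hx⟩)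
  simp only [brR, MonoidHom.mk'_apply, OneMemClass.coe_one, mul_inv_eq_one, mul_inv_eq_iff_eq_mul] at this
  rw [one_mul] at this
  exact this.symm

theorem normalizer_le_normalizer_centreIn' :
    normalizer (Q : Set G) ≤ normalizer (centreIn' Q : Set G) :=
  CfsgLib.Coprime.inf_le_normalizer le_rfl (CfsgLib.Coprime.normalizer_le_normalizer_centralizer Q)

theorem conj_mem_secondCentre {g w : G} (hg : g ∈ normalizer (Q : Set G)) (hw : w ∈ secondCentre Q) :
    g * w * g⁻¹ ∈ secondCentre Q := by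
  refine ⟨(mem_normalizer_iff.1 hg w).1 hw.1, fun x hx => ?_⟩
  have hx' : g⁻¹ * x * g ∈ Q := (mem_normalizer_iff''.1 hg x).1 hx
  have h := (mem_normalizer_iff.1 (normalizer_le_normalizer_centreIn' hg) _).1 (hw.2 _ hx')
  convert h using 1
  group

theorem normalizer_le_normalizer_secondCentre :
    normalizer (Q : Set G) ≤ normalizer (secondCentre Q : Set G) := by
  intro g hg
  refine mem_normalizer_iff.2 fun w => ⟨conj_mem_secondCentre hg, fun h => ?_⟩
  have := conj_mem_secondCentre (inv_mem hg) h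
  simpa [mul_assoc] using this

/-- A nilpotent group whose second centre is central is abelian. -/
theorem isMulCommutative_of_secondCentre [hQ : Group.IsNilpotent Q]
    (h : secondCentre Q ≤ centreIn' Q) : IsMulCommutative Q := by
  by_contra hna
  have hne : center Q ≠ ⊤ := fun e => hna ⟨⟨fun a b => (mem_center_iff.1 (e ▸ mem_top b) a)⟩⟩
  haveI : Nontrivial (Q ⧸ center Q) := by
    by_contra hc
    rw [not_nontrivial_iff_subsingleton] at hc
    exact hne (QuotientGroup.subgroup_eq_top_of_subsingleton _ hc)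
  obtain ⟨v, hv, hv1⟩ : ∃ v ∈ center (Q ⧸ center Q), v ≠ 1 := by
    by_contra hc
    push Not at hc
    exact Group.IsNilpotent.center_ne_bot (G := Q ⧸ center Q) ((Subgroup.eq_bot_iff_forall _).2 hc)
  obtain ⟨w, rfl⟩ := QuotientGroup.mk_surjective v
  refine hv1 ((QuotientGroup.eq_one_iff w).2 (mem_center_iff.2 fun x => ?_))
  have hw2 : (w : G) ∈ secondCentre Q := ⟨w.2, fun y hy => by
    have h1 := mem_center_iff.1 hv ((⟨y, hy⟩ : Q) : Q ⧸ center Q)
    have h2 : ((w * ⟨y, hy⟩ * w⁻¹ * (⟨y, hy⟩ : Q)⁻¹ : Q) : Q ⧸ center Q) = 1 := by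
      rw [QuotientGroup.mk_mul, QuotientGroup.mk_mul, QuotientGroup.mk_mul, QuotientGroup.mk_inv,
        QuotientGroup.mk_inv, ← h1]
      group
    have h3 := mem_center_iff.1 ((QuotientGroup.eq_one_iff _).1 h2)
    refine ⟨SetLike.coe_mem (w * ⟨y, hy⟩ * w⁻¹ * (⟨y, hy⟩ : Q)⁻¹ : Q), mem_centralizer_iff.2 fun z hz => ?_⟩
    exact congrArg Subtype.val (h3 ⟨z, hz⟩)⟩
  exact Subtype.ext (commute_of_centreIn' (h hw2) x.2).eq.symm

end Centre

/-- Product of the first `k` translates. -/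
def orbList {G : Type u} [Group G] (u x : G) : ℕ → G
  | 0 => 1
  | k + 1 => orbList u x k * (u ^ k * x * (u ^ k)⁻¹)

namespace CycleAct

variable {R : Type u} [Ring R] [Finite R] {H : Subgroup Rˣ} {u : Rˣ} {m : ℕ} {Q : Subgroup Rˣ}

theorem conj_pow_mem {S : Subgroup Rˣ} (huS : u ∈ normalizer (S : Set Rˣ)) {x : Rˣ} (hx : x ∈ S)
    (i : ℕ) : u ^ i * x * (u ^ i)⁻¹ ∈ S :=
  (mem_normalizer_iff.1 (pow_mem huS i) x).1 hx

theorem orbList_mem {S : Subgroup Rˣ} (huS : u ∈ normalizer (S : Set Rˣ)) {x : Rˣ} (hx : x ∈ S) :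
    ∀ k, orbList u x k ∈ S
  | 0 => one_mem S
  | k + 1 => mul_mem (orbList_mem huS hx k) (conj_pow_mem huS hx k)

theorem map_orbList {S : Subgroup Rˣ} (huS : u ∈ normalizer (S : Set Rˣ)) {M : Type*} [CommMonoid M]
    (f : S →* M) (x : S) (k : ℕ) :
    f ⟨orbList u (x : Rˣ) k, orbList_mem huS x.2 k⟩ =
      ∏ i ∈ Finset.range k, f ⟨u ^ i * (x : Rˣ) * (u ^ i)⁻¹, conj_pow_mem huS x.2 i⟩ := by
  induction k with
  | zero => rw [Finset.prod_range_zero]; exact map_one f
  | succ k ih => rw [Finset.prod_range_succ, ← ih, ← map_mul]; rfl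

/-- The product of an orbit is, modulo `N`, an element centralized by `u`. -/
theorem exists_fixed_norm (h : CycleAct H u m) {S N : Subgroup Rˣ} (hNS : N ≤ S) (hSH : S ≤ H)
    (huS : u ∈ normalizer (S : Set Rˣ)) (huN : u ∈ normalizer (N : Set Rˣ))
    (hcomm : ∀ a ∈ S, ∀ b ∈ S, a * b * a⁻¹ * b⁻¹ ∈ N) {x : Rˣ} (hx : x ∈ S) :
    ∃ c ∈ S, Commute c u ∧ c⁻¹ * orbList u x m ∈ N := by
  haveI hn : (N.subgroupOf S).Normal := ⟨fun n hn g => by
    have h1 := hcomm g g.2 n (hNS hn)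
    have h2 := mul_mem h1 (show ((n : S) : Rˣ) ∈ N from hn)
    rw [inv_mul_cancel_right] at h2
    exact h2⟩
  haveI : IsMulCommutative (S ⧸ N.subgroupOf S) := by
    refine ⟨⟨fun a b => ?_⟩⟩
    obtain ⟨a, rfl⟩ := QuotientGroup.mk_surjective a
    obtain ⟨b, rfl⟩ := QuotientGroup.mk_surjective b
    rw [← QuotientGroup.mk_mul, ← QuotientGroup.mk_mul, QuotientGroup.eq, mem_subgroupOf]
    have := hcomm (b : Rˣ)⁻¹ (inv_mem b.2) (a : Rˣ)⁻¹ (inv_mem a.2)
    simpa [mul_assoc] using this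
  set P := orbList u x m with hP
  have hPS : P ∈ S := orbList_mem huS hx m
  have hstep : u * P * u⁻¹ * P⁻¹ ∈ N := by
    have e := map_orbList huS (QuotientGroup.mk' (N.subgroupOf S)) ⟨x, hx⟩ m
    let σ : S →* S ⧸ N.subgroupOf S :=
      (QuotientGroup.mk' (N.subgroupOf S)).comp (S.normalizerMonoidHom ⟨u, huS⟩).toMonoidHom
    have e' := map_orbList huS σ ⟨x, hx⟩ m
    have h1 := Finset.prod_range_succ'
      (fun i => QuotientGroup.mk' (N.subgroupOf S) ⟨u ^ i * x * (u ^ i)⁻¹, conj_pow_mem huS hx i⟩) m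
    rw [Finset.prod_range_succ] at h1
    have hm0 : (⟨u ^ m * x * (u ^ m)⁻¹, conj_pow_mem huS hx m⟩ : S) =
        ⟨u ^ 0 * x * (u ^ 0)⁻¹, conj_pow_mem huS hx 0⟩ := Subtype.ext (by simp only [h.pow_eq, pow_zero])
    rw [hm0] at h1
    have h2 : σ ⟨P, hPS⟩ = QuotientGroup.mk' (N.subgroupOf S) ⟨P, hPS⟩ := by
      refine (e'.trans ?_).trans e.symm
      refine Eq.trans (Finset.prod_congr rfl fun i _ => ?_) (mul_right_cancel h1).symm
      refine congrArg (QuotientGroup.mk' (N.subgroupOf S)) (Subtype.ext ?_)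
      show u * (u ^ i * x * (u ^ i)⁻¹) * u⁻¹ = u ^ (i + 1) * x * (u ^ (i + 1))⁻¹
      rw [pow_succ']
      group
    have h3 : QuotientGroup.mk' (N.subgroupOf S)
        (⟨u * P * u⁻¹, (mem_normalizer_iff.1 huS P).1 hPS⟩ * ⟨P, hPS⟩⁻¹) = 1 := by
      rw [map_mul, map_inv, ← h2]
      exact mul_inv_cancel _
    exact (QuotientGroup.eq_one_iff (N := N.subgroupOf S) _).1 h3
  have hAN : zpowers u ≤ normalizer (N : Set Rˣ) := zpowers_le.2 huN
  have hcop : (Nat.card (zpowers u)).Coprime (Nat.card N) := by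
    rw [Nat.card_zpowers]
    exact ((h.cop.coprime_dvd_left (card_dvd_of_le (hNS.trans hSH))).coprime_dvd_right
      (orderOf_dvd_of_pow_eq_one h.pow_eq)).symm
  have hSN : S ≤ normalizer (N : Set Rˣ) := (normal_subgroupOf_iff_le_normalizer hNS).1 hn
  obtain ⟨n, hn', hc⟩ := CfsgLib.Coprime.exists_fixed_in_coset hAN hcop
    (Or.inl (CfsgLib.Coprime.isSolvable_of_isMulCommutative inferInstance)) (hSN hPS) fun a ha => by
      obtain ⟨l, rfl⟩ : ∃ l : ℕ, u ^ l = a := by
        exact (Submonoid.mem_powers_iff _ _).1 (mem_powers_iff_mem_zpowers.2 ha)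
      induction l with
      | zero => simp
      | succ l ih =>
        have ih' := ih (npow_mem_zpowers u l)
        have e : u ^ (l + 1) * P * (u ^ (l + 1))⁻¹ * P⁻¹ =
            u * (u ^ l * P * (u ^ l)⁻¹ * P⁻¹) * u⁻¹ * (u * P * u⁻¹ * P⁻¹) := by
          rw [pow_succ']; group
        rw [e]
        exact mul_mem ((mem_normalizer_iff.1 huN _).1 ih') hstep
  refine ⟨P * n, mul_mem hPS (hNS hn'), (mem_centralizer_iff.1 hc u (mem_zpowers u)).symm, ?_⟩
  rw [mul_inv_rev, inv_mul_cancel_right]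
  exact inv_mem hn'

theorem secondCentre_normalized (hu : u ∈ normalizer (Q : Set Rˣ)) :
    u ∈ normalizer (secondCentre Q : Set Rˣ) :=
  normalizer_le_normalizer_secondCentre hu

theorem centre_normalized (hu : u ∈ normalizer (Q : Set Rˣ)) :
    u ∈ normalizer (centreIn' Q : Set Rˣ) :=
  normalizer_le_normalizer_centreIn' hu

theorem orb_brR (hu : u ∈ normalizer (Q : Set Rˣ)) (i : ℕ) (w : secondCentre Q) (x : Q) :
    orb (centre_normalized hu) i (brR w x) =
      brR ⟨u ^ i * (w : Rˣ) * (u ^ i)⁻¹, conj_pow_mem (secondCentre_normalized hu) w.2 i⟩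
        ⟨u ^ i * (x : Rˣ) * (u ^ i)⁻¹, conj_pow_mem hu x.2 i⟩ := by
  refine Subtype.ext ?_
  rw [coe_orb]
  simp only [brR, MonoidHom.mk'_apply]
  group

/-- Data for a nilpotent invariant subgroup of order invertible in the ring. -/
structure NilPart (H : Subgroup Rˣ) (u : Rˣ) (Q : Subgroup Rˣ) : Prop where
  le : Q ≤ H
  norm : u ∈ normalizer (Q : Set Rˣ)
  inv : ∃ v : R, v * ((Nat.card (centreIn' Q) : ℕ) : R) = 1

/-- Elements of the second centre centralized by `u` are central. -/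
theorem fixed_secondCentre_central (h : CycleAct H u m) (hQ : NilPart H u Q) {c : Rˣ}
    (hc : c ∈ secondCentre Q) (hcu : Commute c u) : c ∈ centreIn' Q := by
  have hZH : centreIn' Q ≤ H := (centreIn'_le Q).trans hQ.le
  refine mem_centreIn'_of_brR (w := (⟨c, hc⟩ : secondCentre Q)) fun x => ?_
  set z := brR (⟨c, hc⟩ : secondCentre Q) x
  set N := (commutator Q).map Q.subtype with hN
  have huN : u ∈ normalizer (N : Set Rˣ) := by
    refine mem_normalizer_iff.2 fun y => ?_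
    have hmap : ∀ g ∈ normalizer (Q : Set Rˣ), ∀ y ∈ N, g * y * g⁻¹ ∈ N := by
      rintro g hg _ ⟨y, hy, rfl⟩
      refine ⟨Q.normalizerMonoidHom ⟨g, hg⟩ y, ?_, rfl⟩
      have : commutator Q ≤ (commutator Q).comap (Q.normalizerMonoidHom ⟨g, hg⟩).toMonoidHom :=
        commutator_le.2 fun a _ b _ => by
          rw [mem_comap, map_commutatorElement]
          exact commutator_mem_commutator (mem_top _) (mem_top _)
      exact this hy
    exact ⟨hmap u hQ.norm y, fun h => by simpa [mul_assoc] using hmap u⁻¹ (inv_mem hQ.norm) _ h⟩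
  obtain ⟨c', hc', hc'u, hmod⟩ := h.exists_fixed_norm (map_subtype_le _) hQ.le hQ.norm huN
    (fun a ha b hb => ⟨_, commutator_mem_commutator (mem_top (⟨a, ha⟩ : Q)) (mem_top ⟨b, hb⟩),
      by simp [commutatorElement_def]⟩) x.2
  have hnorm : ∏ i ∈ Finset.range m, orb (centre_normalized hQ.norm) i z = 1 := by
    have e : ∀ i, orb (centre_normalized hQ.norm) i z =
        brR (⟨c, hc⟩ : secondCentre Q) ⟨u ^ i * (x : Rˣ) * (u ^ i)⁻¹, conj_pow_mem hQ.norm x.2 i⟩ := by
      intro i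
      rw [orb_brR hQ.norm]
      congr 2
      refine Subtype.ext ?_
      show u ^ i * c * (u ^ i)⁻¹ = c
      rw [← (hcu.pow_right i).eq, mul_inv_cancel_right]
    rw [Finset.prod_congr rfl fun i _ => e i, ← map_orbList hQ.norm]
    obtain ⟨y, hy, hy'⟩ := hmod
    have e2 : (⟨orbList u (x : Rˣ) m, orbList_mem hQ.norm x.2 m⟩ : Q) = ⟨c', hc'⟩ * y := by
      refine Subtype.ext ?_
      rw [coe_mul]
      rw [coe_subtype] at hy'
      rw [hy', mul_inv_cancel_left]
    rw [e2, map_mul]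
    have h1 : brR (⟨c, hc⟩ : secondCentre Q) ⟨c', hc'⟩ = 1 := by
      refine Subtype.ext ?_
      show c * c' * c⁻¹ * c'⁻¹ = 1
      rw [(h.comm c (hQ.le hc.1) c' (hQ.le hc') hcu hc'u).eq, mul_inv_cancel_right, mul_inv_cancel]
    have h2 : brR (⟨c, hc⟩ : secondCentre Q) y = 1 :=
      MonoidHom.mem_ker.1 ((commutator_le.2 fun a _ b _ => by
        rw [MonoidHom.mem_ker, map_commutatorElement, commutatorElement_eq_one_iff_mul_comm, mul_comm]) hy)
    rw [h1, h2, one_mul]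
  have hz := h.commute_of_norm_one hZH (centre_normalized hQ.norm) hQ.inv (c := c) (a := (x : Rˣ))
    (hQ.le hc.1) hcu (fun y hy => (commute_of_centreIn' hy hc.1).symm) z
    (by show c * (x : Rˣ) = c * (x : Rˣ) * c⁻¹ * (x : Rˣ)⁻¹ * (x : Rˣ) * c; group)
    (commute_of_centreIn' z.2 x.2) hnorm
  refine Subtype.ext ?_
  show c * (x : Rˣ) * c⁻¹ * (x : Rˣ)⁻¹ = 1
  rw [hz.eq, mul_inv_cancel_right, mul_inv_cancel]

/-- Elements centralized by `u` commute with the second centre. -/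
theorem fixed_commute_secondCentre (h : CycleAct H u m) (hQ : NilPart H u Q) (c : Q)
    (hcu : Commute (c : Rˣ) u) (w : secondCentre Q) : brR w c = 1 := by
  have hZH : centreIn' Q ≤ H := (centreIn'_le Q).trans hQ.le
  obtain ⟨c', hc', hc'u, hmod⟩ := h.exists_fixed_norm (centreIn'_le_secondCentre Q)
    ((secondCentre_le Q).trans hQ.le) (secondCentre_normalized hQ.norm) (centre_normalized hQ.norm)
    (fun a ha b hb => ha.2 b hb.1) w.2
  set z := brR w c with hz0
  have hnorm : ∏ i ∈ Finset.range m, orb (centre_normalized hQ.norm) i z⁻¹ = 1 := by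
    have e : ∀ i, orb (centre_normalized hQ.norm) i z =
        brL c ⟨u ^ i * (w : Rˣ) * (u ^ i)⁻¹, conj_pow_mem (secondCentre_normalized hQ.norm) w.2 i⟩ := by
      intro i
      rw [orb_brR hQ.norm, brR_eq_brL]
      congr 2
      refine Subtype.ext ?_
      show u ^ i * (c : Rˣ) * (u ^ i)⁻¹ = (c : Rˣ)
      rw [← (hcu.pow_right i).eq, mul_inv_cancel_right]
    simp only [map_inv, Finset.prod_inv_distrib, inv_eq_one]
    rw [Finset.prod_congr rfl fun i _ => e i, ← map_orbList (secondCentre_normalized hQ.norm)]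
    have e2 : (⟨orbList u (w : Rˣ) m, orbList_mem (secondCentre_normalized hQ.norm) w.2 m⟩ :
        secondCentre Q) = ⟨c', hc'⟩ * ⟨_, centreIn'_le_secondCentre Q hmod⟩ :=
      Subtype.ext (by rw [coe_mul]; exact (mul_inv_cancel_left _ _).symm)
    rw [e2, map_mul]
    have h1 : brL c (⟨c', hc'⟩ : secondCentre Q) = 1 := by
      refine Subtype.ext ?_
      show c' * (c : Rˣ) * c'⁻¹ * (c : Rˣ)⁻¹ = 1
      rw [(h.comm c' (hQ.le hc'.1) c (hQ.le c.2) hc'u hcu).eq, mul_inv_cancel_right, mul_inv_cancel]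
    have h2 : brL c ⟨_, centreIn'_le_secondCentre Q hmod⟩ = 1 := by
      refine Subtype.ext ?_
      show _ * (c : Rˣ) * _ * (c : Rˣ)⁻¹ = 1
      rw [(commute_of_centreIn' hmod c.2).eq, mul_inv_cancel_right, mul_inv_cancel]
    rw [h1, h2, one_mul]
  have hcw := h.commute_of_norm_one hZH (centre_normalized hQ.norm) hQ.inv (c := (c : Rˣ))
    (a := (w : Rˣ)) (hQ.le c.2) hcu (fun y hy => (commute_of_centreIn' hy c.2).symm) z⁻¹
    (by rw [hz0, coe_inv, brR, MonoidHom.mk'_apply]; group)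
    (commute_of_centreIn' (inv_mem z.2) w.2.1) hnorm
  refine Subtype.ext ?_
  show (w : Rˣ) * c * (w : Rˣ)⁻¹ * (c : Rˣ)⁻¹ = 1
  rw [← hcw.eq, mul_inv_cancel_right, mul_inv_cancel]

/-- Norms are killed by commutator maps. -/
theorem prod_brL_eq_one (h : CycleAct H u m) (hQ : NilPart H u Q) (x : Q) (w : secondCentre Q) :
    ∏ i ∈ Finset.range m,
      brL x ⟨u ^ i * (w : Rˣ) * (u ^ i)⁻¹, conj_pow_mem (secondCentre_normalized hQ.norm) w.2 i⟩ = 1 := by
  rw [← map_orbList (secondCentre_normalized hQ.norm)]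
  obtain ⟨c', hc', hc'u, hmod⟩ := h.exists_fixed_norm (centreIn'_le_secondCentre Q)
    ((secondCentre_le Q).trans hQ.le) (secondCentre_normalized hQ.norm) (centre_normalized hQ.norm)
    (fun a ha b hb => ha.2 b hb.1) w.2
  have hP : orbList u (w : Rˣ) m ∈ centreIn' Q := by
    have := mul_mem (h.fixed_secondCentre_central hQ hc' hc'u) hmod
    rwa [mul_inv_cancel_left] at this
  refine Subtype.ext ?_
  show orbList u (w : Rˣ) m * (x : Rˣ) * (orbList u (w : Rˣ) m)⁻¹ * (x : Rˣ)⁻¹ = 1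
  rw [(commute_of_centreIn' hP x.2).eq, mul_inv_cancel_right, mul_inv_cancel]

/-- Commutator maps of the second centre kill norms. -/
theorem prod_brR_eq_one (h : CycleAct H u m) (hQ : NilPart H u Q) (w : secondCentre Q) (x : Q) :
    ∏ i ∈ Finset.range m, brR w ⟨u ^ i * (x : Rˣ) * (u ^ i)⁻¹, conj_pow_mem hQ.norm x.2 i⟩ = 1 := by
  set N := (commutator Q).map Q.subtype
  have huN : u ∈ normalizer (N : Set Rˣ) := by
    have hmap : ∀ g ∈ normalizer (Q : Set Rˣ), ∀ y ∈ N, g * y * g⁻¹ ∈ N := by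
      rintro g hg _ ⟨y, hy, rfl⟩
      refine ⟨Q.normalizerMonoidHom ⟨g, hg⟩ y, ?_, rfl⟩
      have : commutator Q ≤ (commutator Q).comap (Q.normalizerMonoidHom ⟨g, hg⟩).toMonoidHom :=
        commutator_le.2 fun a _ b _ => by
          rw [mem_comap, map_commutatorElement]
          exact commutator_mem_commutator (mem_top _) (mem_top _)
      exact this hy
    exact mem_normalizer_iff.2 fun y =>
      ⟨hmap u hQ.norm y, fun h => by simpa [mul_assoc] using hmap u⁻¹ (inv_mem hQ.norm) _ h⟩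
  obtain ⟨c', hc', hc'u, y, hy, hy'⟩ := h.exists_fixed_norm (map_subtype_le _) hQ.le hQ.norm huN
    (fun a ha b hb => ⟨_, commutator_mem_commutator (mem_top (⟨a, ha⟩ : Q)) (mem_top ⟨b, hb⟩),
      by simp [commutatorElement_def]⟩) x.2
  rw [← map_orbList hQ.norm]
  have e2 : (⟨orbList u (x : Rˣ) m, orbList_mem hQ.norm x.2 m⟩ : Q) = ⟨c', hc'⟩ * y := by
    refine Subtype.ext ?_
    rw [coe_mul]
    rw [coe_subtype] at hy'
    rw [hy', mul_inv_cancel_left]
  have h2 : brR w y = 1 :=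
    MonoidHom.mem_ker.1 ((commutator_le.2 fun a _ b _ => by
      rw [MonoidHom.mem_ker, map_commutatorElement, commutatorElement_eq_one_iff_mul_comm, mul_comm]) hy)
  rw [e2, map_mul, h.fixed_commute_secondCentre hQ ⟨c', hc'⟩ hc'u w, h2, one_mul]

/-- The case of an involution: invariant nilpotent subgroups are abelian. -/
theorem isMulCommutative_of_two (h : CycleAct H u 2) (hQ : NilPart H u Q) [Group.IsNilpotent Q] :
    IsMulCommutative Q := by
  refine isMulCommutative_of_secondCentre fun w hw => ?_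
  have hcop : ∀ z : centreIn' Q, z ^ 2 = 1 → z = 1 := fun z hz =>
    Subtype.ext (h.eq_one_of_pow_eq_one (hQ.le z.2.1) (congrArg Subtype.val hz))
  have hu2 : u * u = 1 := by rw [← pow_two]; exact h.pow_eq
  have hui : u⁻¹ = u := inv_eq_of_mul_eq_one_right hu2
  let w0 : secondCentre Q := ⟨w, hw⟩
  let w1 : secondCentre Q :=
    ⟨u ^ 1 * w * (u ^ 1)⁻¹, conj_pow_mem (secondCentre_normalized hQ.norm) hw 1⟩
  set n : secondCentre Q := w0 * w1⁻¹ with hn
  have hninv : u * (n : Rˣ) * u⁻¹ = (n : Rˣ)⁻¹ := by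
    simp only [hn, w0, w1, coe_mul, coe_inv, pow_one, hui, mul_inv_rev]
    calc u * (w * (u * (w⁻¹ * u))) * u = u * w * u * w⁻¹ * (u * u) := by group
      _ = u * (w * u) * w⁻¹ := by rw [hu2, mul_one, mul_assoc u w u]
      _ = _ := by rw [inv_inv]; simp only [mul_assoc]
  have hnm : ∀ q' : Q, u * (q' : Rˣ) * u⁻¹ = (q' : Rˣ)⁻¹ → brR n q' = 1 := by
    intro q' hq'
    set z := brR n q' with hz
    have hσz : orb (centre_normalized hQ.norm) 1 z = z := by
      rw [orb_brR hQ.norm]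
      have e1 : (⟨u ^ 1 * (n : Rˣ) * (u ^ 1)⁻¹,
          conj_pow_mem (secondCentre_normalized hQ.norm) n.2 1⟩ : secondCentre Q) = n⁻¹ :=
        Subtype.ext (show u ^ 1 * (n : Rˣ) * (u ^ 1)⁻¹ = (n : Rˣ)⁻¹ by simpa only [pow_one] using hninv)
      have e2 : (⟨u ^ 1 * (q' : Rˣ) * (u ^ 1)⁻¹, conj_pow_mem hQ.norm q'.2 1⟩ : Q) = q'⁻¹ :=
        Subtype.ext (show u ^ 1 * (q' : Rˣ) * (u ^ 1)⁻¹ = (q' : Rˣ)⁻¹ by simpa only [pow_one] using hq')
      rw [e1, e2, map_inv, brR_eq_brL, map_inv, inv_inv, hz, brR_eq_brL]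
    have hzu : Commute (z : Rˣ) u := by
      have := congrArg Subtype.val hσz
      rw [coe_orb, pow_one] at this
      exact (mul_inv_eq_iff_eq_mul.1 this).symm
    have hzN := h.fix _ (hQ.le z.2.1) hzu
    set D : R := ((z : Rˣ) : R) - 1 with hD
    have hDu : D * (u : R) = -D := by
      have : D * powSum 2 u = 0 := by rw [hD, sub_mul, one_mul, hzN, sub_self]
      rw [powSum, Finset.sum_range_succ, Finset.sum_range_one, pow_zero, pow_one, mul_add, mul_one] at this
      exact eq_neg_of_add_eq_zero_right this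
    have hcD : ∀ y : Rˣ, y ∈ Q → (y : R) * D = D * (y : R) := by
      intro y hy
      rw [hD, mul_sub, sub_mul, mul_one, one_mul, ← Units.val_mul, ← Units.val_mul,
        (commute_of_centreIn' z.2 hy).eq]
    have hn2 : (((n : Rˣ) ^ 2 : Rˣ) : R) * D = D := by
      have h1 : D * ((u * (n : Rˣ) : Rˣ) : R) = D * (((n : Rˣ)⁻¹ * u : Rˣ) : R) := by
        congr 2
        exact mul_inv_eq_iff_eq_mul.1 hninv
      rw [Units.val_mul, Units.val_mul, ← mul_assoc, hDu, ← mul_assoc,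
        ← hcD _ (inv_mem n.2.1), mul_assoc _ D, hDu, neg_mul, mul_neg, neg_inj,
        ← hcD _ n.2.1] at h1
      calc (((n : Rˣ) ^ 2 : Rˣ) : R) * D = ((n : Rˣ) : R) * (((n : Rˣ) : R) * D) := by
            rw [pow_two, Units.val_mul, mul_assoc]
        _ = D := by rw [h1, ← mul_assoc, Units.mul_inv, one_mul]
    obtain ⟨j, hj⟩ : ∃ j : ℕ, ((n : Rˣ) ^ 2) ^ j = n := by
      refine exists_pow_eq_self_of_coprime (Nat.Coprime.symm (h.cop.coprime_dvd_left ?_))
      have := orderOf_dvd_natCard (⟨(n : Rˣ), hQ.le n.2.1⟩ : H)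
      rwa [Subgroup.orderOf_mk] at this
    have hnD : ((n : Rˣ) : R) * D = D := by
      have hl : ∀ l : ℕ, ((((n : Rˣ) ^ 2) ^ l : Rˣ) : R) * D = D := by
        intro l
        induction l with
        | zero => simp
        | succ l ih => rw [pow_succ, Units.val_mul, mul_assoc, hn2, ih]
      rw [← hj]; exact hl j
    have hsq : (((z : Rˣ) : R) - 1) * D = 0 := by
      have h1 : ((n : Rˣ) * (q' : Rˣ)) = (z : Rˣ) * (q' : Rˣ) * (n : Rˣ) := by
        rw [hz, brR, MonoidHom.mk'_apply]; group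
      have h2 := congrArg (fun y : Rˣ => (y : R) * D) h1
      simp only [Units.val_mul] at h2
      rw [mul_assoc, mul_assoc, hnD, hcD _ q'.2, ← mul_assoc, hnD, mul_assoc, hcD _ q'.2,
        ← mul_assoc] at h2
      refine (Units.mul_left_eq_zero (q' : Rˣ)).1 ?_
      rw [sub_mul, sub_mul, one_mul, ← h2, sub_self]
    refine eq_one_of_chars z pow_card_eq_one' hQ.inv fun K _ _ χ hχ => ?_
    have h3 := hχ ((MonoidAlgebra.of ℤ _ z - 1) * (MonoidAlgebra.of ℤ _ z - 1))
      (by rw [map_mul, map_sub, map_one, toR_of, mul_one]; exact hsq)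
    rw [map_mul, map_sub, map_one, charHom_of, mul_self_eq_zero, sub_eq_zero] at h3
    exact h3
  have hnc : (n : Rˣ) ∈ centreIn' Q := mem_centreIn'_of_brR fun q => hcop _ (by
    let q1 : Q := ⟨u ^ 1 * (q : Rˣ) * (u ^ 1)⁻¹, conj_pow_mem hQ.norm q.2 1⟩
    have h1 := h.prod_brR_eq_one hQ n q
    rw [Finset.prod_range_succ, Finset.prod_range_one] at h1
    have e0 : (⟨u ^ 0 * (q : Rˣ) * (u ^ 0)⁻¹, conj_pow_mem hQ.norm q.2 0⟩ : Q) = q :=
      Subtype.ext (by simp)
    rw [e0] at h1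
    have h2 := hnm (q * q1⁻¹) (by
      simp only [q1, coe_mul, coe_inv, pow_one, hui, mul_inv_rev]
      calc u * ((q : Rˣ) * (u * ((q : Rˣ)⁻¹ * u))) * u = u * q * u * (q : Rˣ)⁻¹ * (u * u) := by group
        _ = u * ((q : Rˣ) * u) * (q : Rˣ)⁻¹ := by rw [hu2, mul_one, mul_assoc u (q : Rˣ) u]
        _ = _ := by rw [inv_inv]; simp only [mul_assoc])
    rw [map_mul, map_inv, mul_inv_eq_one] at h2
    change brR n q * brR n q1 = 1 at h1
    rwa [← h2, ← pow_two] at h1)
  refine mem_centreIn'_of_brR (w := w0) fun x => hcop _ ?_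
  have h1 := h.prod_brL_eq_one hQ x w0
  rw [Finset.prod_range_succ, Finset.prod_range_one] at h1
  have e0 : (⟨u ^ 0 * (w0 : Rˣ) * (u ^ 0)⁻¹,
      conj_pow_mem (secondCentre_normalized hQ.norm) w0.2 0⟩ : secondCentre Q) = w0 :=
    Subtype.ext (by simp)
  rw [e0] at h1
  have h2 : brL x n = 1 := by
    refine Subtype.ext ?_
    show (n : Rˣ) * x * (n : Rˣ)⁻¹ * (x : Rˣ)⁻¹ = 1
    rw [(commute_of_centreIn' hnc x.2).eq, mul_inv_cancel_right, mul_inv_cancel]
  rw [hn, map_mul, map_inv, mul_inv_eq_one] at h2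
  change brL x w0 * brL x w1 = 1 at h1
  rw [brR_eq_brL, pow_two]
  rwa [← h2] at h1

end CycleAct

end CfsgLib.PGroup
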