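import Cfsg.Agent.Lib.PGroup.FpfOperatorClassTwo

/-!
# Powers of an operator and the commutators they produce
-/

set_option autoImplicit false

open Subgroup
open scoped commutatorElement

namespace CfsgLib.PGroup.FpfClassTwoOp

variable {G : Type*} [Group G] [Finite G]

/-- If `x⁻¹ * x ^ a` stays in `E` for `x` in the invariant `Q`, then so does `⁅Q, ⟨a⟩⁆`. -/
theorem commutator_zpowers_le {Q E : Subgroup G} {a : G} (haQ : a ∈ normalizer (Q : Set G))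
    (h : ∀ x ∈ Q, x⁻¹ * (a * x * a⁻¹) ∈ E) : ⁅Q, zpowers a⁆ ≤ E := by
  have hpow : ∀ (i : ℕ), ∀ x ∈ Q, x⁻¹ * (a ^ i * x * (a ^ i)⁻¹) ∈ E := by
    intro i
    induction i with
    | zero => intro x _; simp
    | succ i hi =>
      intro x hx
      have hy : a ^ i * x * (a ^ i)⁻¹ ∈ Q := (mem_normalizer_iff.1 (pow_mem haQ i) x).1 hx
      have h2 := mul_mem (hi x hx) (h _ hy)
      rwa [show x⁻¹ * (a ^ (i + 1) * x * (a ^ (i + 1))⁻¹) = x⁻¹ * (a ^ i * x * (a ^ i)⁻¹) *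
        ((a ^ i * x * (a ^ i)⁻¹)⁻¹ * (a * (a ^ i * x * (a ^ i)⁻¹) * a⁻¹)) by rw [pow_succ']; group]
  rw [commutator_le]
  intro x hx b hb
  obtain ⟨i, rfl⟩ := mem_powers_iff_mem_zpowers.2 hb
  rw [show ⁅x, a ^ i⁆ = x⁻¹⁻¹ * (a ^ i * x⁻¹ * (a ^ i)⁻¹) by rw [commutatorElement_def]; group]
  exact hpow i _ (inv_mem hx)

end CfsgLib.PGroup.FpfClassTwoOp
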