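import Cfsg.Agent.Lib.Coprime.Action
import Mathlib.Algebra.MonoidAlgebra.MapDomain
import Mathlib.RingTheory.Ideal.Quotient.Basic
import Mathlib.RingTheory.Nilpotent.Basic

/-!
Automorphisms of a module: eliminations in the group algebra of an abelian group of units.
-/

set_option linter.style.haveILetI false

namespace CfsgLib.PGroup

open Subgroup
open scoped IsMulCommutative

universe u v

/-- Elimination in a relation whose coefficients are multiplicative in a parameter. -/
theorem elim_relation {A R M ι : Type*} [CommRing A] [Ring R] [CommMonoid M] [DecidableEq ι]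
    (F : A →+* R) (T : Finset ι) (a : ι → M →* A) (r : ι → R)
    (h : ∀ y, ∑ g ∈ T, F (a g y) * r g = 0) (E : Finset ι) (Y : ι → M) (y : M) :
    ∑ g ∈ T, F (a g y * ∏ e ∈ E, (a g (Y e) - a e (Y e))) * r g = 0 := by
  induction E using Finset.induction_on generalizing y with
  | empty => simpa using h y
  | @insert e E he ih =>
    have key : ∀ g, F (a g y * ∏ f ∈ insert e E, (a g (Y f) - a f (Y f))) * r g =
        F (a g (y * Y e) * ∏ f ∈ E, (a g (Y f) - a f (Y f))) * r g -
          F (a e (Y e)) * (F (a g y * ∏ f ∈ E, (a g (Y f) - a f (Y f))) * r g) := by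
      intro g
      rw [Finset.prod_insert he, ← mul_assoc (F (a e (Y e))), ← map_mul, ← sub_mul, ← map_sub,
        map_mul (a g)]
      congr 2
      ring
    rw [Finset.sum_congr rfl fun g _ => key g, Finset.sum_sub_distrib, ← Finset.mul_sum, ih, ih,
      mul_zero, sub_zero]

/-- Elimination of all but one term. -/
theorem elim_all {A R M ι : Type*} [CommRing A] [Ring R] [CommMonoid M] [DecidableEq ι]
    (F : A →+* R) (T : Finset ι) (a : ι → M →* A) (r : ι → R)
    (h : ∀ y, ∑ g ∈ T, F (a g y) * r g = 0) {g₀ : ι} (hg : g₀ ∈ T) (Y : ι → M) :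
    F (∏ e ∈ T.erase g₀, (a g₀ (Y e) - a e (Y e))) * r g₀ = 0 := by
  have := elim_relation F T a r h (T.erase g₀) Y 1
  rw [Finset.sum_eq_single g₀] at this
  · simpa using this
  · intro g hgT hne
    rw [Finset.prod_eq_zero (Finset.mem_erase.2 ⟨hne, hgT⟩) (sub_self _)]
    simp
  · exact fun h' => absurd hg h'

section Chars

variable {R : Type u} [Ring R] {Q : Subgroup Rˣ} [IsMulCommutative Q]

/-- The ring generated by an abelian group of units. -/
noncomputable def toR (Q : Subgroup Rˣ) [IsMulCommutative Q] : MonoidAlgebra ℤ Q →+* R :=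
  (MonoidAlgebra.lift ℤ R Q ((Units.coeHom R).comp Q.subtype)).toRingHom

theorem toR_of (z : Q) : toR Q (MonoidAlgebra.of ℤ Q z) = ((z : Rˣ) : R) := by
  simp [toR]

/-- The extension of a character to the group algebra. -/
noncomputable def charHom {k : Type u} [CommRing k] (χ : Q →* k) : MonoidAlgebra ℤ Q →+* k :=
  (MonoidAlgebra.lift ℤ k Q χ).toRingHom

theorem charHom_of {k : Type u} [CommRing k] (χ : Q →* k) (z : Q) :
    charHom χ (MonoidAlgebra.of ℤ Q z) = χ z := by simp [charHom]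

/-- A character vanishing on the annihilator of `r`. -/
def Kills {k : Type u} [CommRing k] (r : R) (χ : Q →* k) : Prop :=
  ∀ a, toR Q a * r = 0 → charHom χ a = 0

theorem Kills.one {k : Type u} [CommRing k] {r : R} {χ : Q →* k} (h : Kills r χ) :
    Kills (1 : R) χ := fun a ha => h a (by rw [mul_one] at ha; rw [ha, zero_mul])

/-- An element killed by all characters annihilates. -/
theorem smul_eq_of_chars (r : R) (w : Q) {k : ℕ} (hk : w ^ k = 1) (hinv : ∃ v : R, v * (k : R) = 1)
    (h : ∀ (K : Type u) [CommRing K] [IsDomain K] (χ : Q →* K), Kills r χ → χ w = 1) :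
    ((w : Rˣ) : R) * r = r := by
  set J : Ideal (MonoidAlgebra ℤ Q) :=
    { carrier := {a | toR Q a * r = 0}
      zero_mem' := by simp
      add_mem' := by
        intro a b ha hb
        simp only [Set.mem_setOf_eq] at *
        rw [map_add, add_mul, ha, hb, add_zero]
      smul_mem' := by
        intro c a ha
        simp only [Set.mem_setOf_eq, smul_eq_mul] at *
        rw [map_mul, mul_assoc, ha, mul_zero] }
  set x : MonoidAlgebra ℤ Q := MonoidAlgebra.of ℤ Q w with hx
  have hrad : x - 1 ∈ J.radical := by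
    rw [Ideal.radical_eq_sInf, Submodule.mem_sInf]
    rintro P ⟨hJP, hP⟩
    let χ : Q →* MonoidAlgebra ℤ Q ⧸ P := (Ideal.Quotient.mk P : _ →* _).comp (MonoidAlgebra.of ℤ Q)
    have hχ : charHom χ = Ideal.Quotient.mk P := by
      refine RingHom.ext fun a => ?_
      induction a using MonoidAlgebra.induction_on with
      | of g => rw [charHom_of]; rfl
      | add a b ha hb => rw [map_add, map_add, ha, hb]
      | smul c a ha => rw [map_zsmul, map_zsmul, ha]
    have hk1 := h (MonoidAlgebra ℤ Q ⧸ P) χ fun a ha => by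
      rw [hχ]; exact Ideal.Quotient.eq_zero_iff_mem.2 (hJP ha)
    rw [← Ideal.Quotient.eq_zero_iff_mem, map_sub, map_one, sub_eq_zero]
    exact hk1
  obtain ⟨n, hn⟩ := hrad
  have hxk : x ^ k = 1 := by rw [hx, ← map_pow, hk, map_one]
  obtain ⟨T, hT⟩ : x - 1 ∣ (∑ j ∈ Finset.range k, x ^ j) - (k : MonoidAlgebra ℤ Q) := by
    have e : (∑ j ∈ Finset.range k, x ^ j) - (k : MonoidAlgebra ℤ Q) =
        ∑ j ∈ Finset.range k, (x ^ j - 1) := by simp [Finset.sum_sub_distrib]
    rw [e]
    exact Finset.dvd_sum fun j _ => sub_one_dvd_pow_sub_one x j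
  have hsq : (k : MonoidAlgebra ℤ Q) * (x - 1) = -T * (x - 1) ^ 2 := by
    have e := geom_sum_mul x k
    rw [hxk, sub_self] at e
    have e2 : (k : MonoidAlgebra ℤ Q) = (∑ j ∈ Finset.range k, x ^ j) - (x - 1) * T := by
      rw [← hT, sub_sub_cancel]
    rw [e2, sub_mul, e]
    ring
  have hpow : ∀ j : ℕ, (k : MonoidAlgebra ℤ Q) ^ j * (x - 1) = (-T) ^ j * (x - 1) ^ (j + 1) := by
    intro j
    induction j with
    | zero => simp
    | succ j ih => linear_combination (k : MonoidAlgebra ℤ Q) * ih + (-T) ^ j * (x - 1) ^ j * hsq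
  have hmem : (k : MonoidAlgebra ℤ Q) ^ n * (x - 1) ∈ J := by
    rw [hpow, pow_succ, ← mul_assoc]
    exact Ideal.mul_mem_right _ _ (J.mul_mem_left _ hn)
  have h0 : toR Q ((k : MonoidAlgebra ℤ Q) ^ n * (x - 1)) * r = 0 := hmem
  rw [map_mul, map_pow, map_natCast, map_sub, map_one, hx, toR_of] at h0
  obtain ⟨v, hv⟩ := hinv
  have hv' : ∀ j : ℕ, v ^ j * (k : R) ^ j = 1 := by
    intro j
    induction j with
    | zero => simp
    | succ j ih => rw [pow_succ, pow_succ', mul_assoc, ← mul_assoc v, hv, one_mul, ih]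
  have h1 : (((w : Rˣ) : R) - 1) * r = 0 := by
    calc (((w : Rˣ) : R) - 1) * r = v ^ n * (k : R) ^ n * ((((w : Rˣ) : R) - 1) * r) := by
          rw [hv', one_mul]
      _ = v ^ n * ((k : R) ^ n * (((w : Rˣ) : R) - 1) * r) := by simp only [mul_assoc]
      _ = 0 := by rw [h0, mul_zero]
  rwa [sub_mul, one_mul, sub_eq_zero] at h1

/-- An element killed by all characters is trivial. -/
theorem eq_one_of_chars (w : Q) {k : ℕ} (hk : w ^ k = 1) (hinv : ∃ v : R, v * (k : R) = 1)
    (h : ∀ (K : Type u) [CommRing K] [IsDomain K] (χ : Q →* K), Kills (1 : R) χ → χ w = 1) :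
    w = 1 := by
  have := smul_eq_of_chars 1 w hk hinv h
  rw [mul_one] at this
  exact Subtype.ext (Units.ext this)

/-- Conjugation on an abelian group of units. -/
noncomputable def cj (Q : Subgroup Rˣ) (g : normalizer (Q : Set Rˣ)) : Q →* Q :=
  (Q.normalizerMonoidHom g).toMonoidHom

omit [IsMulCommutative Q] in
theorem coe_cj (g : normalizer (Q : Set Rˣ)) (z : Q) :
    ((cj Q g z : Q) : Rˣ) = (g : Rˣ) * z * (g : Rˣ)⁻¹ := rfl

omit [IsMulCommutative Q] in
theorem cj_mul (g h : normalizer (Q : Set Rˣ)) (z : Q) : cj Q (g * h) z = cj Q g (cj Q h z) := by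
  refine Subtype.ext ?_
  simp only [coe_cj, coe_mul, mul_inv_rev]
  group

omit [IsMulCommutative Q] in
theorem cj_one (z : Q) : cj Q 1 z = z := Subtype.ext (by simp [coe_cj])

omit [IsMulCommutative Q] in
theorem coe_cj_mul (g : normalizer (Q : Set Rˣ)) (z : Q) :
    (((cj Q g z : Q) : Rˣ) : R) * ((g : Rˣ) : R) = ((g : Rˣ) : R) * ((z : Rˣ) : R) := by
  rw [coe_cj, ← Units.val_mul, ← Units.val_mul, inv_mul_cancel_right]

theorem toR_cj (g : normalizer (Q : Set Rˣ)) (a : MonoidAlgebra ℤ Q) :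
    toR Q (MonoidAlgebra.mapDomainRingHom ℤ (cj Q g) a) * ((g : Rˣ) : R) =
      ((g : Rˣ) : R) * toR Q a := by
  induction a using MonoidAlgebra.induction_on with
  | of z =>
    rw [show MonoidAlgebra.mapDomainRingHom ℤ (cj Q g) (MonoidAlgebra.of ℤ Q z) =
      MonoidAlgebra.of ℤ Q (cj Q g z) by simp, toR_of, toR_of, coe_cj_mul]
  | add a b ha hb => rw [map_add, map_add, map_add, add_mul, mul_add, ha, hb]
  | smul c a ha => rw [map_zsmul, map_zsmul, map_zsmul, smul_mul_assoc, mul_smul_comm, ha]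

theorem Kills.comp {k : Type u} [CommRing k] {χ : Q →* k} (h : Kills (1 : R) χ)
    (g : normalizer (Q : Set Rˣ)) : Kills (1 : R) (χ.comp (cj Q g)) := by
  intro a ha
  rw [mul_one] at ha
  have h1 : toR Q (MonoidAlgebra.mapDomainRingHom ℤ (cj Q g) a) * 1 = 0 := by
    have := toR_cj g a
    rw [ha, mul_zero] at this
    rw [mul_one]
    exact (Units.mul_left_eq_zero (g : Rˣ)).1 this
  have h2 := h _ h1
  have e : charHom (χ.comp (cj Q g)) =
      (charHom χ).comp (MonoidAlgebra.mapDomainRingHom ℤ (cj Q g)) := by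
    refine RingHom.ext fun b => ?_
    induction b using MonoidAlgebra.induction_on with
    | of z => simp [charHom]
    | add a b ha hb => rw [map_add, map_add, ha, hb]
    | smul c a ha => rw [map_zsmul, map_zsmul, ha]
  rw [e]
  exact h2

end Chars

/-- The sum of the powers of `u`. -/
def powSum {R : Type u} [Ring R] (m : ℕ) (u : Rˣ) : R := ∑ i ∈ Finset.range m, ((u : R) ^ i)

/-- An element `u` of prime order acting on a group of units `H` so that centralized elements
fix the sum of the powers of `u`. -/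
structure CycleAct {R : Type u} [Ring R] (H : Subgroup Rˣ) (u : Rˣ) (m : ℕ) : Prop where
  prime : m.Prime
  pow_eq : u ^ m = 1
  norm : u ∈ normalizer (H : Set Rˣ)
  cop : (Nat.card H).Coprime m
  comm : ∀ a ∈ H, ∀ b ∈ H, Commute a u → Commute b u → Commute a b
  fix : ∀ c ∈ H, Commute c u → (c : R) * powSum m u = powSum m u

namespace CycleAct

variable {R : Type u} [Ring R] {H : Subgroup Rˣ} {u : Rˣ} {m : ℕ}
  {Q : Subgroup Rˣ} [IsMulCommutative Q]

theorem exists_pow_eq_self (h : CycleAct H u m) {i : ℕ} (hi : i < m) (hi0 : i ≠ 0) :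
    ∃ j : ℕ, (u ^ i) ^ j = u := by
  have hco : i.Coprime m := (Nat.Coprime.symm (h.prime.coprime_iff_not_dvd.2
    (Nat.not_dvd_of_pos_of_lt (Nat.pos_of_ne_zero hi0) hi)))
  exact exists_pow_eq_self_of_coprime (hco.coprime_dvd_right (orderOf_dvd_of_pow_eq_one h.pow_eq))

theorem mul_powSum (h : CycleAct H u m) : (u : R) * powSum m u = powSum m u := by
  have e : ((u : R) ^ m) = 1 := by rw [← Units.val_pow_eq_pow_val, h.pow_eq, Units.val_one]
  have h1 := mul_geom_sum (u : R) m
  rw [e, sub_self, sub_mul, one_mul, sub_eq_zero] at h1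
  exact h1

theorem pow_mul_powSum (h : CycleAct H u m) (i : ℕ) : (u : R) ^ i * powSum m u = powSum m u := by
  induction i with
  | zero => simp
  | succ i ih => rw [pow_succ, mul_assoc, h.mul_powSum, ih]

omit [IsMulCommutative Q] in
/-- The orbit map of `u`. -/
noncomputable def orb (hu : u ∈ normalizer (Q : Set Rˣ)) (i : ℕ) : Q →* Q :=
  cj Q (⟨u, hu⟩ ^ i)

omit [IsMulCommutative Q] in
theorem orb_zero (hu : u ∈ normalizer (Q : Set Rˣ)) (z : Q) : orb hu 0 z = z := by
  rw [orb, pow_zero, cj_one]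

omit [IsMulCommutative Q] in
theorem orb_succ (hu : u ∈ normalizer (Q : Set Rˣ)) (i : ℕ) (z : Q) :
    orb hu (i + 1) z = cj Q ⟨u, hu⟩ (orb hu i z) := by
  rw [orb, pow_succ', cj_mul]; rfl

omit [IsMulCommutative Q] in
theorem coe_orb (hu : u ∈ normalizer (Q : Set Rˣ)) (i : ℕ) (z : Q) :
    ((orb hu i z : Q) : Rˣ) = u ^ i * z * (u ^ i)⁻¹ := by
  rw [orb, coe_cj, coe_pow]

omit [IsMulCommutative Q] in
theorem orb_mul_pow (hu : u ∈ normalizer (Q : Set Rˣ)) (i : ℕ) (z : Q) :
    (((orb hu i z : Q) : Rˣ) : R) * (u : R) ^ i = (u : R) ^ i * ((z : Rˣ) : R) := by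
  rw [coe_orb, ← Units.val_pow_eq_pow_val, ← Units.val_mul, ← Units.val_mul, inv_mul_cancel_right]

omit [IsMulCommutative Q] in
theorem orb_eq_of_commute (hu : u ∈ normalizer (Q : Set Rˣ)) {z : Q} (hz : Commute (z : Rˣ) u)
    (i : ℕ) : orb hu i z = z := by
  refine Subtype.ext ?_
  rw [coe_orb, mul_inv_eq_iff_eq_mul]
  exact (hz.pow_right i).eq.symm

theorem fixed_of_pow_fixed (h : CycleAct H u m) (hu : u ∈ normalizer (Q : Set Rˣ)) {k : Type u}
    [CommRing k] (χ : Q →* k) {i : ℕ} (hi0 : i ≠ 0) (him : i < m)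
    (hall : ∀ y, χ (orb hu i y) = χ y) (z : Q) : χ (orb hu 1 z) = χ z := by
  obtain ⟨j, hj⟩ := h.exists_pow_eq_self him hi0
  have hit : ∀ (l : ℕ) y, χ (orb hu (i * l) y) = χ y := by
    intro l
    induction l with
    | zero => intro y; rw [mul_zero, orb_zero]
    | succ l ih =>
      intro y
      rw [show orb hu (i * (l + 1)) y = orb hu i (orb hu (i * l) y) by
        rw [orb, orb, orb, ← cj_mul, ← pow_add]; congr 3; ring, hall, ih]
  have e : orb hu 1 z = orb hu (i * j) z := by
    refine Subtype.ext ?_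
    rw [coe_orb, coe_orb, pow_one, pow_mul, hj]
  rw [e, hit]

/-- A relation forces `D` to vanish at characters moved by `u`. -/
theorem fix_or_kill' (h : CycleAct H u m) (hu : u ∈ normalizer (Q : Set Rˣ))
    (D : MonoidAlgebra ℤ Q) (r : R) (c : ℕ → R) (hc : c 0 = toR Q D * r)
    (hrel : ∀ y : Q, ∑ i ∈ Finset.range m, (((orb hu i y : Q) : Rˣ) : R) * c i = 0)
    {k : Type u} [CommRing k] [IsDomain k] (χ : Q →* k) (hχ : Kills r χ) :
    (∀ z, χ (orb hu 1 z) = χ z) ∨ charHom χ D = 0 := by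
  classical
  by_contra hcon
  rw [not_or, not_forall] at hcon
  obtain ⟨⟨z, hz⟩, hD0⟩ := hcon
  have hne : ∀ i ∈ (Finset.range m).erase 0, ∃ y, χ (orb hu i y) ≠ χ y := by
    intro i hi
    obtain ⟨hi0, him⟩ := Finset.mem_erase.1 hi
    by_contra hall
    push Not at hall
    exact hz (h.fixed_of_pow_fixed hu χ hi0 (Finset.mem_range.1 him) hall z)
  let Y : ℕ → Q := fun i => if hi : ∃ y, χ (orb hu i y) ≠ χ y then hi.choose else 1
  let a : ℕ → Q →* MonoidAlgebra ℤ Q := fun i => (MonoidAlgebra.of ℤ Q).comp (orb hu i)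
  have hrel' : ∀ y, ∑ i ∈ Finset.range m, toR Q (a i y) * c i = 0 := by
    intro y
    rw [← hrel y]
    refine Finset.sum_congr rfl fun i _ => ?_
    rw [show toR Q (a i y) = _ from toR_of (orb hu i y)]
  have h0 := elim_all (toR Q) _ a _ hrel' (Finset.mem_range.2 h.prime.pos) Y
  rw [hc, ← mul_assoc, ← map_mul] at h0
  have h1 := hχ _ h0
  rw [map_mul, map_prod] at h1
  rcases mul_eq_zero.1 h1 with h1 | h1
  · obtain ⟨i, hi, h2⟩ := Finset.prod_eq_zero_iff.1 h1
    have h3 : χ (orb hu 0 (Y i)) = χ (orb hu i (Y i)) := by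
      simpa [a, charHom, sub_eq_zero] using h2
    rw [orb_zero] at h3
    simp only [Y, dif_pos (hne i hi)] at h3
    exact (hne i hi).choose_spec h3.symm
  · exact hD0 h1

/-- The relation `D N = 0` forces `D` to vanish at characters moved by `u`. -/
theorem fix_or_kill (h : CycleAct H u m) (hu : u ∈ normalizer (Q : Set Rˣ))
    (D : MonoidAlgebra ℤ Q) (hD : toR Q D * powSum m u = 0)
    {k : Type u} [CommRing k] [IsDomain k] (χ : Q →* k) (hχ : Kills (1 : R) χ) :
    (∀ z, χ (orb hu 1 z) = χ z) ∨ charHom χ D = 0 := by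
  refine h.fix_or_kill' hu D 1 (fun i => toR Q D * (u : R) ^ i) (by simp) (fun y => ?_) χ hχ
  calc ∑ i ∈ Finset.range m, (((orb hu i y : Q) : Rˣ) : R) * (toR Q D * (u : R) ^ i)
      = toR Q D * powSum m u * ((y : Rˣ) : R) := by
        rw [powSum, Finset.mul_sum, Finset.sum_mul]
        refine Finset.sum_congr rfl fun i _ => ?_
        rw [← toR_of (orb hu i y), ← mul_assoc, ← map_mul, mul_comm, map_mul, mul_assoc, mul_assoc,
          toR_of, orb_mul_pow]
    _ = 0 := by rw [hD, zero_mul]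

theorem orb_one_orb (hu : u ∈ normalizer (Q : Set Rˣ)) (i : ℕ) (z : Q) :
    orb hu (i + 1) z = orb hu 1 (orb hu i z) := by
  rw [orb, orb, orb, ← cj_mul, ← pow_add, add_comm]

/-- A character fixed by `u` takes the value of the norm at `m`-th powers. -/
theorem char_pow_eq_prod (hu : u ∈ normalizer (Q : Set Rˣ)) {k : Type u} [CommRing k] (χ : Q →* k)
    (h1 : ∀ z, χ (orb hu 1 z) = χ z) (z : Q) :
    χ z ^ m = χ (∏ i ∈ Finset.range m, orb hu i z) := by
  have h2 : ∀ i, χ (orb hu i z) = χ z := by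
    intro i
    induction i with
    | zero => rw [orb_zero]
    | succ i ih => rw [orb_one_orb, h1, ih]
  rw [map_prod, Finset.prod_congr rfl fun i _ => h2 i, Finset.prod_const, Finset.card_range]

/-- Norms of elements centralized by `u`. -/
theorem prod_orb_of_commute (hu : u ∈ normalizer (Q : Set Rˣ)) {z : Q} (hz : Commute (z : Rˣ) u) :
    ∏ i ∈ Finset.range m, orb hu i z = z ^ m := by
  rw [Finset.prod_congr rfl fun i _ => orb_eq_of_commute hu hz i, Finset.prod_const,
    Finset.card_range]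

theorem commute_prod_orb (h : CycleAct H u m) (hu : u ∈ normalizer (Q : Set Rˣ)) (z : Q) :
    Commute ((∏ i ∈ Finset.range m, orb hu i z : Q) : Rˣ) u := by
  have e : cj Q ⟨u, hu⟩ (∏ i ∈ Finset.range m, orb hu i z) = ∏ i ∈ Finset.range m, orb hu i z := by
    rw [map_prod]
    simp only [← orb_succ]
    have h1 := Finset.prod_range_succ' (fun i => orb hu i z) m
    rw [Finset.prod_range_succ] at h1
    have h2 : orb hu m z = orb hu 0 z :=
      Subtype.ext (by rw [coe_orb, coe_orb, h.pow_eq, pow_zero])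
    rw [h2] at h1
    exact (mul_right_cancel h1).symm
  exact (mul_inv_eq_iff_eq_mul.1 (congrArg Subtype.val e)).symm

end CycleAct

end CfsgLib.PGroup
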