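import Cfsg.Agent.Lib.PGroup.FpfClassTwo

/-!
A symmetric group of degree 3 acting without fixed points: invariant nilpotent subgroups are abelian.
-/

set_option linter.style.haveILetI false
set_option linter.unusedSectionVars false
set_option maxHeartbeats 1000000

namespace CfsgLib.PGroup

open Subgroup
open scoped IsMulCommutative

universe u

/-- The elimination behind order three: if `b, gb` have the same traces as `g`, then `g ^ 3` is
unipotent. -/
theorem cube_nilpotent {T : Type*} [CommRing T] (g gi b bi : T) (r1 : g * gi = 1) (r2 : b * bi = 1)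
    (r3 : b + bi = g + gi) (r4 : g * b + bi * gi = g + gi) : (g ^ 3 - 1) ^ 4 = 0 := by
  have hX : (g - gi) * b = (g + gi) * (1 - gi) := by linear_combination r4 - gi * r3
  have hb2 : b * b - (g + gi) * b + 1 = 0 := by linear_combination b * r3 - r2
  have h0 : ((g + gi) * (1 - gi)) ^ 2 - (g + gi) * ((g + gi) * (1 - gi)) * (g - gi) + (g - gi) ^ 2 = 0 := by
    rw [← hX]; linear_combination (g - gi) ^ 2 * hb2
  have hM : g ^ 2 * ((g + gi) * (1 - gi)) = (g ^ 2 + 1) * (g - 1) := by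
    linear_combination (g - g ^ 2 - g * gi - 1) * r1
  have hL : g * (g - gi) = g ^ 2 - 1 := by linear_combination -r1
  have he : g * (g + gi) = g ^ 2 + 1 := by linear_combination r1
  have h1 : ((g ^ 2 + 1) * (g - 1)) ^ 2 - (g ^ 2 + 1) * ((g ^ 2 + 1) * (g - 1)) * (g ^ 2 - 1) +
      g ^ 2 * (g ^ 2 - 1) ^ 2 = 0 := by
    rw [← hM, ← hL, ← he]
    linear_combination (g ^ 4) * h0
  have h2 : g * ((g - 1) ^ 3 * (g ^ 3 - 1)) = 0 := by linear_combination -h1
  have h3 : (g - 1) ^ 3 * (g ^ 3 - 1) = 0 := by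
    linear_combination gi * h2 - (g - 1) ^ 3 * (g ^ 3 - 1) * r1
  linear_combination (g ^ 2 + g + 1) ^ 3 * h3

/-- `u, t` generate a symmetric group of degree 3 without fixed points. -/
structure S3Act {R : Type u} [Ring R] (H : Subgroup Rˣ) (u t : Rˣ) : Prop where
  u_pow : u ^ 3 = 1
  t_sq : t ^ 2 = 1
  rel : t * u * t⁻¹ = u ^ 2
  u_norm : u ∈ normalizer (H : Set Rˣ)
  t_norm : t ∈ normalizer (H : Set Rˣ)
  cop : (Nat.card H).Coprime 6
  free : ∀ c ∈ H, Commute c u → Commute c t → c = 1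
  sum : powSum 3 u * (t : R) = -powSum 3 u

namespace S3Act

variable {R : Type u} [Ring R] [Finite R] {H : Subgroup Rˣ} {u t : Rˣ}

theorem t_inv (h : S3Act H u t) : t⁻¹ = t :=
  inv_eq_of_mul_eq_one_right (by rw [← pow_two]; exact h.t_sq)

theorem t_mul_pow (h : S3Act H u t) (i : ℕ) : t * u ^ i = u ^ (2 * i) * t := by
  induction i with
  | zero => simp
  | succ i ih =>
    have h1 : t * u = u ^ 2 * t := mul_inv_eq_iff_eq_mul.1 h.rel
    rw [pow_succ, ← mul_assoc, ih, mul_assoc, h1, ← mul_assoc, ← pow_add, mul_add, mul_one]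

theorem pow_mod (h : S3Act H u t) (i : ℕ) : u ^ i = u ^ (i % 3) :=
  pow_eq_pow_mod i h.u_pow

theorem t_powSum (h : S3Act H u t) : (t : R) * powSum 3 u = -powSum 3 u := by
  have h4 : u ^ 4 = u := by rw [h.pow_mod 4]; exact pow_one u
  have e1 : (t : R) * (u : R) = (u : R) ^ 2 * (t : R) := by
    rw [← Units.val_pow_eq_pow_val, ← Units.val_mul, ← Units.val_mul]
    exact congrArg _ (by simpa using h.t_mul_pow 1)
  have e2 : (t : R) * (u : R) ^ 2 = (u : R) * (t : R) := by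
    rw [← Units.val_pow_eq_pow_val, ← Units.val_mul, ← Units.val_mul, h.t_mul_pow 2]
    exact congrArg _ (by rw [show 2 * 2 = 4 by rfl, h4])
  calc (t : R) * powSum 3 u = powSum 3 u * (t : R) := by
        simp only [powSum, Finset.sum_range_succ, Finset.sum_range_zero, zero_add, pow_zero, pow_one,
          mul_add, add_mul, mul_one, one_mul, e1, e2]
        abel
    _ = _ := h.sum

theorem inverted (h : S3Act H u t) {c : Rˣ} (hc : c ∈ H) (hcu : Commute c u) : t * c * t⁻¹ = c⁻¹ := by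
  set C := H ⊓ centralizer ({u} : Set Rˣ)
  have hmem : ∀ y : C, t * (y : Rˣ) * t⁻¹ ∈ C := by
    rintro ⟨y, hy, hyu⟩
    refine ⟨(mem_normalizer_iff.1 h.t_norm y).1 hy, mem_centralizer_singleton_iff.2 ?_⟩
    have hu2 : Commute y (u ^ 2) := Commute.pow_right (mem_centralizer_singleton_iff.1 hyu) 2
    have hb : Commute (t * y * t⁻¹) (t * u ^ 2 * t⁻¹) := hu2.map (MulAut.conj t)
    have e : t * u ^ 2 * t⁻¹ = u := by
      rw [h.t_mul_pow 2, mul_inv_cancel_right, show 2 * 2 = 3 + 1 by rfl, pow_succ, h.u_pow, one_mul]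
    rw [e] at hb
    exact hb.eq
  let φ : C → C := fun y => ⟨(y : Rˣ)⁻¹ * (t * (y : Rˣ) * t⁻¹), mul_mem (inv_mem y.2) (hmem y)⟩
  have hinj : Function.Injective φ := by
    intro a b e
    have e' : (a : Rˣ)⁻¹ * (t * (a : Rˣ) * t⁻¹) = (b : Rˣ)⁻¹ * (t * (b : Rˣ) * t⁻¹) :=
      congrArg Subtype.val e
    have hfix : Commute ((b : Rˣ) * (a : Rˣ)⁻¹) t := by
      refine (mul_inv_eq_iff_eq_mul.1 ?_).symm
      calc t * ((b : Rˣ) * (a : Rˣ)⁻¹) * t⁻¹
          = (b : Rˣ) * ((b : Rˣ)⁻¹ * (t * (b : Rˣ) * t⁻¹)) * (t * (a : Rˣ) * t⁻¹)⁻¹ := by group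
        _ = _ := by rw [← e']; group
    have h1 := h.free _ (mul_mem b.2.1 (inv_mem a.2.1))
      (Commute.mul_left (mem_centralizer_singleton_iff.1 b.2.2)
        (Commute.inv_left (mem_centralizer_singleton_iff.1 a.2.2))) hfix
    exact Subtype.ext (mul_inv_eq_one.1 h1).symm
  obtain ⟨y, hy⟩ := (Finite.injective_iff_surjective.1 hinj)
    ⟨c, hc, mem_centralizer_singleton_iff.2 hcu⟩
  have hy' : (y : Rˣ)⁻¹ * (t * (y : Rˣ) * t⁻¹) = c := congrArg Subtype.val hy
  rw [← hy', h.t_inv]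
  have ht : t * t = 1 := by rw [← pow_two]; exact h.t_sq
  calc t * ((y : Rˣ)⁻¹ * (t * y * t)) * t = t * (y : Rˣ)⁻¹ * t * y * (t * t) := by group
    _ = t * (y : Rˣ)⁻¹ * t * y := by rw [ht, mul_one]
    _ = _ := by rw [mul_inv_rev, mul_inv_rev, mul_inv_rev, inv_inv, h.t_inv]; group

theorem cop_three (h : S3Act H u t) : (Nat.card H).Coprime 3 := h.cop.coprime_dvd_right ⟨2, rfl⟩

theorem cop_two (h : S3Act H u t) : (Nat.card H).Coprime 2 := h.cop.coprime_dvd_right ⟨3, rfl⟩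

theorem eq_one_of_sq (h : S3Act H u t) {x : Rˣ} (hx : x ∈ H) (hx2 : x ^ 2 = 1) : x = 1 := by
  have h1 : orderOf (⟨x, hx⟩ : H) ∣ 2 := orderOf_dvd_of_pow_eq_one (Subtype.ext hx2)
  exact congrArg Subtype.val (orderOf_eq_one_iff.1 (Nat.eq_one_of_dvd_coprimes h.cop_two
    (orderOf_dvd_natCard _) h1) : (⟨x, hx⟩ : H) = 1)

theorem mul_eq_of_pow (_h : S3Act H u t) {x : Rˣ} (hx : x ∈ H) {k : ℕ} (hk : (Nat.card H).Coprime k)
    {r : R} (hr : ((x ^ k : Rˣ) : R) * r = r) : (x : R) * r = r := by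
  obtain ⟨j, hj⟩ : ∃ j : ℕ, (x ^ k) ^ j = x := by
    refine exists_pow_eq_self_of_coprime (Nat.Coprime.symm (hk.coprime_dvd_left ?_))
    have := orderOf_dvd_natCard (⟨x, hx⟩ : H)
    rwa [Subgroup.orderOf_mk] at this
  have hl : ∀ l : ℕ, (((x ^ k) ^ l : Rˣ) : R) * r = r := by
    intro l
    induction l with
    | zero => simp
    | succ l ih => rw [pow_succ, Units.val_mul, mul_assoc, hr, ih]
  rw [← hj]; exact hl j

theorem cycleAct (h : S3Act H u t) : CycleAct H u 3 where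
  prime := Nat.prime_three
  pow_eq := h.u_pow
  norm := h.u_norm
  cop := h.cop_three
  comm a ha b hb hau hbu := by
    have e := h.inverted (mul_mem ha hb) (hau.mul_left hbu)
    have e2 : t * (a * b) * t⁻¹ = a⁻¹ * b⁻¹ := by
      rw [← h.inverted ha hau, ← h.inverted hb hbu]; group
    have e3 : (a * b)⁻¹ = (b * a)⁻¹ := by rw [← e, e2, mul_inv_rev]
    exact inv_injective e3
  fix c hc hcu := by
    set N := powSum 3 u with hN
    have hNc : N * (c : R) = (c : R) * N := by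
      rw [hN, powSum, Finset.mul_sum, Finset.sum_mul]
      refine Finset.sum_congr rfl fun i _ => ?_
      rw [← Units.val_pow_eq_pow_val, ← Units.val_mul, ← Units.val_mul, (hcu.pow_right i).eq]
    have h1 : (t : R) * (c : R) = ((c⁻¹ : Rˣ) : R) * (t : R) := by
      rw [← Units.val_mul, ← Units.val_mul]
      exact congrArg _ (mul_inv_eq_iff_eq_mul.1 (h.inverted hc hcu))
    have h2 : ((c⁻¹ : Rˣ) : R) * N = (c : R) * N := by
      have e1 : (t : R) * ((c : R) * N) = -(((c⁻¹ : Rˣ) : R) * N) := by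
        rw [← mul_assoc, h1, mul_assoc, h.t_powSum, mul_neg]
      have e2 : (t : R) * ((c : R) * N) = -((c : R) * N) := by
        rw [← hNc, ← mul_assoc, h.t_powSum, neg_mul, hNc]
      exact neg_injective (e1.symm.trans e2)
    refine h.mul_eq_of_pow hc h.cop_two ?_
    rw [pow_two, Units.val_mul, mul_assoc, ← h2, ← mul_assoc, Units.mul_inv, one_mul]

variable {Q : Subgroup Rˣ}

/-- Differences of translates inside the second centre fix `z - 1`. -/
theorem diff_mul_eq (h : S3Act H u t) (hQ : CycleAct.NilPart H u Q) {z a : Rˣ}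
    (hz : z ∈ centreIn' Q) (hzu : Commute z u) (ha : a ∈ secondCentre Q)
    (hinvQ : ∃ v : R, v * ((Nat.card Q : ℕ) : R) = 1) :
    ((a * (u * a⁻¹ * u⁻¹) : Rˣ) : R) * ((z : R) - 1) = (z : R) - 1 := by
  set D : R := (z : R) - 1 with hD
  set S : Subring R := Subring.centralizer {D}
  let I : Ideal S :=
    { carrier := {x | (x : R) * D = 0}
      zero_mem' := by simp
      add_mem' := by
        intro x y hx hy
        simp only [Set.mem_setOf_eq] at *
        rw [AddMemClass.coe_add, add_mul, hx, hy, add_zero]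
      smul_mem' := by
        intro c x hx
        simp only [Set.mem_setOf_eq, smul_eq_mul] at *
        rw [MulMemClass.coe_mul, mul_assoc, hx, mul_zero] }
  haveI : I.IsTwoSided := ⟨fun {x} c (hx : (x : R) * D = 0) => by
    show ((x * c : S) : R) * D = 0
    rw [MulMemClass.coe_mul, mul_assoc, ← Subring.mem_centralizer_iff.1 c.2 D rfl, ← mul_assoc, hx,
      zero_mul]⟩
  let π : S →+* S ⧸ I := Ideal.Quotient.mk I
  have hS : ∀ x : Rˣ, Commute z x → (x : R) ∈ S := fun x hx => Subring.mem_centralizer_iff.2 <| by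
    rintro _ rfl
    rw [hD, mul_sub, sub_mul, mul_one, one_mul, ← Units.val_mul, ← Units.val_mul, hx.eq]
  let Cz : Subgroup Rˣ := centralizer {z}
  let el : Cz →* S ⧸ I := π.toMonoidHom.comp
    { toFun := fun x => ⟨(x : Rˣ), hS x (mem_centralizer_singleton_iff.1 x.2).symm⟩
      map_one' := rfl
      map_mul' := fun _ _ => rfl }
  have hQC : Q ≤ Cz := fun x hx => mem_centralizer_singleton_iff.2 (commute_of_centreIn' hz hx).eq.symm
  have huC : u ∈ Cz := mem_centralizer_singleton_iff.2 hzu.eq.symm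
  let uC : Cz := ⟨u, huC⟩
  let aC : Cz := ⟨a, hQC ha.1⟩
  have hu3 : uC * uC * uC = 1 := Subtype.ext (show u * u * u = 1 by
    rw [← pow_two, ← pow_succ, h.u_pow])
  have hui : uC⁻¹ = uC * uC := inv_eq_of_mul_eq_one_right (by rw [← mul_assoc]; exact hu3)
  set U := el uC with hU
  have hU2 : U * U = -1 - U := by
    have e : D * powSum 3 u = 0 := by
      rw [hD, sub_mul, one_mul, h.cycleAct.fix z (hQ.le hz.1) hzu, sub_self]
    let uS : S := ⟨(u : R), hS u hzu⟩
    have e1 : π (1 + uS + uS * uS) = 0 := Ideal.Quotient.eq_zero_iff_mem.2 (by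
      show ((1 + uS + uS * uS : S) : R) * D = 0
      rw [← Subring.mem_centralizer_iff.1 (1 + uS + uS * uS).2 D rfl]
      simpa [powSum, Finset.sum_range_succ, uS, pow_two] using e)
    rw [map_add, map_add, map_one, map_mul] at e1
    have e2 : 1 + U + U * U = 0 := e1
    rw [← sub_eq_zero]
    rw [← e2]
    abel
  have hU3 : U * U * U = 1 := by rw [hU, ← map_mul, ← map_mul, hu3, map_one]
  set Y := el (aC * uC * aC⁻¹) with hY
  have hY2 : Y * Y = -1 - Y := by
    have e : Y * Y = el aC * (U * U) * el aC⁻¹ := by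
      rw [hY, hU, ← map_mul, ← map_mul, ← map_mul, ← map_mul]
      congr 1; group
    rw [e, hU2, mul_sub, mul_neg, mul_one, sub_mul, neg_mul, ← map_mul, mul_inv_cancel, map_one,
      hU, ← map_mul, ← map_mul]
  set gC : Cz := aC * (uC * aC⁻¹ * uC⁻¹) with hgC
  set G := el gC with hG
  set Gi := el gC⁻¹ with hGi
  have hGY : G = Y * (U * U) := by
    rw [hG, hY, hU, ← map_mul, ← map_mul, hgC, hui]
    congr 1; group
  have hGiY : Gi = U * (Y * Y) := by
    rw [hGi, hY, hU, ← map_mul, ← map_mul]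
    congr 1
    rw [hgC]
    calc (aC * (uC * aC⁻¹ * uC⁻¹))⁻¹ = uC * aC * uC⁻¹ * aC⁻¹ := by group
      _ = uC * aC * (uC * uC) * aC⁻¹ := by rw [hui]
      _ = _ := by group
  have hcomm : U * (G + Gi) = (G + Gi) * U := by
    have e : G + Gi = -(U + Y + U * Y + Y * U) := by
      rw [hGY, hGiY, hU2, hY2]; noncomm_ring
    have p1 : U * U * Y = (-1 - U) * Y := by rw [hU2]
    have p2 : Y * U * U = Y * (-1 - U) := by rw [mul_assoc, hU2]
    have p3 : U * (U + Y + U * Y + Y * U) = U * U + U * Y + U * U * Y + U * Y * U := by noncomm_ring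
    have p4 : (U + Y + U * Y + Y * U) * U = U * U + Y * U + U * Y * U + Y * U * U := by noncomm_ring
    rw [e, mul_neg, neg_mul, p3, p4, p1, p2]
    noncomm_ring
  set bC : Cz := uC * gC * uC⁻¹ with hbC
  set B := el bC with hB
  set Bi := el bC⁻¹ with hBi
  have hUUi : U * el uC⁻¹ = 1 := by rw [hU, ← map_mul, mul_inv_cancel, map_one]
  have hBsum : B + Bi = G + Gi := by
    have e1 : B = U * G * el uC⁻¹ := by rw [hB, hU, hG, ← map_mul, ← map_mul]
    have e2 : Bi = U * Gi * el uC⁻¹ := by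
      rw [hBi, hU, hGi, ← map_mul, ← map_mul, hbC]
      congr 1; group
    rw [e1, e2, ← add_mul, ← mul_add, hcomm, mul_assoc, hUUi, mul_one]
  have hgs : (gC : Rˣ) ∈ secondCentre Q := mul_mem ha (conj_mem_secondCentre hQ.norm (inv_mem ha))
  have hbs : (bC : Rˣ) ∈ secondCentre Q := conj_mem_secondCentre hQ.norm hgs
  have hcen : ∀ x ∈ centreIn' Q, ∀ y ∈ Q, Commute x y := fun x hx y hy => commute_of_centreIn' hx hy
  set wC : Cz := gC * bC * gC⁻¹ * bC⁻¹ with hwC
  have hwZ : (wC : Rˣ) ∈ centreIn' Q := hgs.2 (bC : Rˣ) hbs.1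
  have hwg : Commute wC gC := Subtype.ext (hcen _ hwZ _ hgs.1).eq
  have hwb : Commute wC bC := Subtype.ext (hcen _ hwZ _ hbs.1).eq
  set W := el wC with hW
  set Wi := el wC⁻¹ with hWi
  have hWWi : Wi * W = 1 := by rw [hW, hWi, ← map_mul, inv_mul_cancel, map_one]
  have hGGi : G * Gi = 1 := by rw [hG, hGi, ← map_mul, mul_inv_cancel, map_one]
  have hGiG : Gi * G = 1 := by rw [hG, hGi, ← map_mul, inv_mul_cancel, map_one]
  have hBiB : Bi * B = 1 := by rw [hB, hBi, ← map_mul, inv_mul_cancel, map_one]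
  have hBBi : B * Bi = 1 := by rw [hB, hBi, ← map_mul, mul_inv_cancel, map_one]
  have hGB : G * B = W * B * G := by
    rw [hG, hB, hW, ← map_mul, ← map_mul, ← map_mul, hwC]; congr 1; group
  have hGBi : G * Bi = Wi * Bi * G := by
    rw [hG, hBi, hWi, ← map_mul, ← map_mul, ← map_mul]
    congr 1
    rw [← (hwb.inv_left.inv_right).eq.symm, hwC]
    group
  have hE : (W - 1) * B * B + (Wi - 1) = 0 := by
    have e1 : G * (B + Bi) = (B + Bi) * G := by rw [hBsum, mul_add, add_mul, hGGi, hGiG]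
    rw [mul_add, hGB, hGBi, ← add_mul] at e1
    have e2 : W * B + Wi * Bi = B + Bi := by
      have := congrArg (fun X => X * Gi) e1
      simpa only [mul_assoc, hGGi, mul_one] using this
    have e3 : (W * B + Wi * Bi) * B = (B + Bi) * B := by rw [e2]
    simp only [add_mul, mul_assoc, hBiB, mul_one] at e3
    rw [sub_mul, sub_mul, one_mul, mul_assoc, sub_add_sub_comm, e3, sub_self]
  have hWB : Commute W B := hwb.map el
  have hWG : Commute W G := hwg.map el
  have hWiG : Commute Wi G := hwg.inv_left.map el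
  have hBBE : B * B * (W - 1) = Wi * (W - 1) := by
    have c : B * B * (W - 1) = (W - 1) * B * B := by
      rw [mul_assoc (W - 1), mul_sub, sub_mul, mul_one, one_mul, ((hWB.mul_right hWB)).eq]
    rw [c, mul_sub, mul_one, hWWi, eq_neg_of_add_eq_zero_left hE, neg_sub]
  have hW2E : W * W * (W - 1) = W - 1 := by
    have e1 : G * (B * B) = W * W * (B * B) * G := by
      calc G * (B * B) = W * B * (G * B) := by conv_lhs => rw [← mul_assoc, hGB, mul_assoc]
        _ = W * (B * W) * (B * G) := by rw [hGB]; simp only [mul_assoc]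
        _ = _ := by rw [← hWB.eq]; simp only [mul_assoc]
    have hGE : G * (W - 1) = (W - 1) * G := by rw [mul_sub, sub_mul, mul_one, one_mul, hWG.eq]
    have e2 : W * W * (B * B * (W - 1)) * G = Wi * (W - 1) * G := by
      calc W * W * (B * B * (W - 1)) * G = W * W * (B * B) * G * (W - 1) := by
            rw [mul_assoc _ G, hGE]; simp only [mul_assoc]
        _ = G * (B * B * (W - 1)) := by rw [← e1]; simp only [mul_assoc]
        _ = Wi * (W - 1) * G := by
            rw [hBBE, ← mul_assoc, ← hWiG.eq, mul_assoc, hGE, ← mul_assoc]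
    have e3 : W * W * (Wi * (W - 1)) = Wi * (W - 1) := by
      have := congrArg (fun X => X * Gi) e2
      simp only [mul_assoc, hGGi, mul_one] at this
      rw [hBBE] at e2
      have := congrArg (fun X => X * Gi) e2
      simpa only [mul_assoc, hGGi, mul_one] using this
    have hWWi' : W * Wi = 1 := by rw [hW, hWi, ← map_mul, mul_inv_cancel, map_one]
    calc W * W * (W - 1) = W * W * (W * Wi) * (W - 1) := by rw [hWWi', mul_one]
      _ = W * (W * W * (Wi * (W - 1))) := by simp only [mul_assoc]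
      _ = W * (Wi * (W - 1)) := by rw [e3]
      _ = W - 1 := by rw [← mul_assoc, hWWi', one_mul]
  obtain ⟨v, hv⟩ := hinvQ
  have hvS : ∀ k : ℕ, k ∣ Nat.card Q → ∀ X : S ⧸ I, (k : S ⧸ I) * X = 0 → X = 0 := by
    intro k hk X hX
    obtain ⟨c, hc⟩ := hk
    obtain ⟨x, rfl⟩ := Ideal.Quotient.mk_surjective X
    rw [← map_natCast π, ← map_mul, Ideal.Quotient.eq_zero_iff_mem] at hX
    refine Ideal.Quotient.eq_zero_iff_mem.2 ?_
    have hX0 : (((k : S) * x : S) : R) * D = 0 := hX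
    have hX' : (k : R) * ((x : R) * D) = 0 := by simpa [mul_assoc] using hX0
    show (x : R) * D = 0
    calc (x : R) * D = v * ((Nat.card Q : ℕ) : R) * ((x : R) * D) := by rw [hv, one_mul]
      _ = v * ((c : R) * ((k : R) * ((x : R) * D))) := by
          rw [mul_assoc, ← mul_assoc (c : R), ← Nat.cast_mul, mul_comm c, ← hc]
      _ = 0 := by rw [hX', mul_zero, mul_zero]
  have hunip : ∀ x : Cz, (x : Rˣ) ∈ Q → ∀ n : ℕ, (el x - 1) ^ n = 0 → el x = 1 := by
    intro x hxQ n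
    have hord : orderOf x ∣ Nat.card Q := by
      have e : orderOf (⟨(x : Rˣ), hxQ⟩ : Q) = orderOf x := by rw [← orderOf_coe, ← orderOf_coe]
      rw [← e]
      exact orderOf_dvd_natCard _
    set X := el x
    have hk1 : X ^ orderOf x = 1 := by rw [← map_pow, pow_orderOf_eq_one, map_one]
    induction n with
    | zero =>
      intro h0
      have h0' : (1 : S ⧸ I) = 0 := by simpa using h0
      calc X = 1 * X := (one_mul X).symm
        _ = 0 * X := by rw [h0']
        _ = 0 := zero_mul X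
        _ = 1 := h0'.symm
    | succ n ih =>
      intro h0
      rcases n with _ | n
      · rwa [pow_one, sub_eq_zero] at h0
      · refine ih ?_
        have hl : ∀ l : ℕ, X ^ l * (X - 1) ^ n = (X - 1) ^ n + (l : S ⧸ I) * (X - 1) ^ (n + 1) := by
          intro l
          induction l with
          | zero => simp
          | succ l ihl =>
            have hXE : X * (X - 1) ^ n = (X - 1) ^ (n + 1) + (X - 1) ^ n := by
              rw [pow_succ']; noncomm_ring
            have hXE1 : X * (X - 1) ^ (n + 1) = (X - 1) ^ (n + 1) := by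
              have : (X - 1) * (X - 1) ^ (n + 1) = 0 := by rw [← pow_succ']; exact h0
              rw [sub_mul, one_mul, sub_eq_zero] at this
              exact this
            rw [pow_succ', mul_assoc, ihl, mul_add, hXE, ← mul_assoc, ← Nat.cast_comm, mul_assoc,
              hXE1, Nat.cast_succ, add_mul, one_mul]
            abel
        have := hl (orderOf x)
        rw [hk1, one_mul, left_eq_add] at this
        exact hvS _ hord _ this
  have hWone : W = 1 := by
    obtain ⟨j, hj⟩ : ∃ j : ℕ, (wC * wC) ^ j = wC := by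
      rw [← pow_two]
      refine exists_pow_eq_self_of_coprime (Nat.Coprime.symm (h.cop_two.coprime_dvd_left ?_))
      have e : orderOf (⟨(wC : Rˣ), hQ.le hwZ.1⟩ : H) = orderOf wC := by rw [← orderOf_coe, ← orderOf_coe]
      rw [← e]
      exact orderOf_dvd_natCard _
    have hl : ∀ l : ℕ, el ((wC * wC) ^ l) * (W - 1) = W - 1 := by
      intro l
      induction l with
      | zero => rw [pow_zero, map_one, one_mul]
      | succ l ih => rw [pow_succ, map_mul, mul_assoc, map_mul el wC wC, hW2E, ih]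
    have hWE := hl j
    rw [hj] at hWE
    refine hunip wC hwZ.1 2 ?_
    rw [pow_two, sub_mul, one_mul, hWE, sub_self]
  have hGBc : Commute G B := by rw [Commute, SemiconjBy, hGB, hWone, one_mul]
  have hGBic : Commute G Bi := by
    have hWi1 : Wi = 1 := by rw [← mul_one Wi, ← hWone, hWWi]; exact hWone.symm
    rw [Commute, SemiconjBy, hGBi, hWi1, one_mul]
  have hcsum : G * B + Bi * Gi = G + Gi := by
    have c1 : gC * bC * (uC * bC * uC⁻¹) = 1 := by
      rw [hbC, hgC]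
      calc _ = aC * (uC * uC * uC) * aC⁻¹ * (uC * uC * uC)⁻¹ := by group
        _ = 1 := by rw [hu3]; group
    have e1 : G * B = U * Bi * el uC⁻¹ := by
      rw [hG, hB, hU, hBi, ← map_mul, ← map_mul, ← map_mul, eq_inv_of_mul_eq_one_left c1]
      congr 1; group
    have e2 : Bi * Gi = U * B * el uC⁻¹ := by
      rw [hGi, hBi, hU, hB, ← map_mul, ← map_mul, ← map_mul, ← mul_inv_rev,
        inv_eq_of_mul_eq_one_right c1]
    rw [e1, e2, ← add_mul, ← mul_add, add_comm Bi B, hBsum, hcomm, mul_assoc, hUUi, mul_one]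
  have hfin : el (gC ^ 3) = 1 := by
    refine hunip _ (pow_mem hgs.1 3) 4 ?_
    rw [map_pow, ← hG]
    let T : Subring (S ⧸ I) := Subring.closure {G, Gi, B, Bi}
    have hTc : ∀ x ∈ ({G, Gi, B, Bi} : Set (S ⧸ I)), ∀ y ∈ ({G, Gi, B, Bi} : Set (S ⧸ I)),
        x * y = y * x := by
      have hgi : ∀ {X : S ⧸ I}, Commute G X → Commute Gi X := by
        intro X hX
        calc Gi * X = Gi * X * (G * Gi) := by rw [hGGi, mul_one]
          _ = Gi * (G * X) * Gi := by rw [hX.eq]; simp only [mul_assoc]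
          _ = X * Gi := by rw [← mul_assoc, hGiG, one_mul]
      rintro x (rfl | rfl | rfl | rfl) y (rfl | rfl | rfl | rfl)
      all_goals first
        | rfl
        | exact hGGi.trans hGiG.symm
        | exact hGiG.trans hGGi.symm
        | exact hBBi.trans hBiB.symm
        | exact hBiB.trans hBBi.symm
        | exact hGBc.eq
        | exact hGBc.eq.symm
        | exact hGBic.eq
        | exact hGBic.eq.symm
        | exact (hgi hGBc).eq
        | exact (hgi hGBc).eq.symm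
        | exact (hgi hGBic).eq
        | exact (hgi hGBic).eq.symm
    letI : CommRing T := Subring.closureCommRingOfComm hTc
    let g' : T := ⟨G, Subring.subset_closure (by simp)⟩
    let gi : T := ⟨Gi, Subring.subset_closure (by simp)⟩
    let b' : T := ⟨B, Subring.subset_closure (by simp)⟩
    let bi : T := ⟨Bi, Subring.subset_closure (by simp)⟩
    have h4 := cube_nilpotent g' gi b' bi (Subtype.ext hGGi) (Subtype.ext hBBi) (Subtype.ext hBsum)
      (Subtype.ext hcsum)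
    exact congrArg Subtype.val h4
  have hD3 : (((gC ^ 3 : Cz) : Rˣ) : R) * D = D := by
    have e : π ⟨(((gC ^ 3 : Cz) : Rˣ) : R), hS _ (mem_centralizer_singleton_iff.1 (gC ^ 3).2).symm⟩ = π 1 := by
      rw [map_one]; exact hfin
    rw [Ideal.Quotient.eq] at e
    have e' : ((((gC ^ 3 : Cz) : Rˣ) : R) - 1) * D = 0 := e
    rwa [sub_mul, one_mul, sub_eq_zero] at e'
  exact h.mul_eq_of_pow (hQ.le hgs.1) h.cop_three (by simpa using hD3)

/-- Commutators of the second centre have trivial norm. -/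
theorem norm_eq_one (h : S3Act H u t) (hQ : CycleAct.NilPart H u Q)
    (hinvQ : ∃ v : R, v * ((Nat.card Q : ℕ) : R) = 1) (w : secondCentre Q) (q : Q) :
    ∏ i ∈ Finset.range 3, CycleAct.orb (CycleAct.centre_normalized hQ.norm) i (brR w q) = 1 := by
  have hc := h.cycleAct
  set huZ := CycleAct.centre_normalized hQ.norm
  set z : centreIn' Q := ∏ i ∈ Finset.range 3, CycleAct.orb huZ i (brR w q) with hzdef
  have hzu : Commute (z : Rˣ) u := hc.commute_prod_orb huZ _
  set D : R := ((z : Rˣ) : R) - 1 with hD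
  -- translates of `w` have the same commutators on the image of `D`
  have hdiff : ∀ (x : Q) (g : secondCentre Q), ((g : Rˣ) : R) * D = D →
      ((((brL x g : centreIn' Q)) : Rˣ) : R) * D = D := by
    intro x g hg
    have hcQ : ∀ y : Rˣ, y ∈ Q → (y : R) * D = D * (y : R) := by
      intro y hy
      rw [hD, mul_sub, sub_mul, mul_one, one_mul, ← Units.val_mul, ← Units.val_mul,
        (commute_of_centreIn' z.2 hy).eq]
    set b : Rˣ := ((brL x g : centreIn' Q) : Rˣ) with hb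
    have h1 : (g : Rˣ) * (x : Rˣ) = b * (x : Rˣ) * (g : Rˣ) := by
      rw [hb]; simp only [brL, MonoidHom.mk'_apply]; group
    have h2 := congrArg (fun y : Rˣ => (y : R) * D) h1
    simp only [Units.val_mul] at h2
    rw [mul_assoc _ ((g : Rˣ) : R) D, hg, mul_assoc _ ((x : Rˣ) : R) D, hcQ x x.2, ← mul_assoc, hg,
      mul_assoc, hcQ x x.2, ← mul_assoc] at h2
    exact ((Units.mul_left_inj (x : Rˣ)).1 h2).symm
  set hu2 := CycleAct.secondCentre_normalized hQ.norm
  let σ : ℕ → secondCentre Q := fun i => ⟨u ^ i * (w : Rˣ) * (u ^ i)⁻¹, CycleAct.conj_pow_mem hu2 w.2 i⟩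
  have hg : ∀ i, (((σ i * (σ (i + 1))⁻¹ : secondCentre Q) : Rˣ) : R) * D = D := by
    intro i
    have := h.diff_mul_eq hQ z.2 hzu (σ i).2 hinvQ
    rw [show ((σ i * (σ (i + 1))⁻¹ : secondCentre Q) : Rˣ) =
      (σ i : Rˣ) * (u * (σ i : Rˣ)⁻¹ * u⁻¹) by
        simp only [σ, coe_mul, coe_inv, pow_succ']; group]
    exact this
  -- hence `z ^ 3` fixes `D`
  have hstep : ∀ x : Q, (((brL x (σ 0) ^ 3 : centreIn' Q) : Rˣ) : R) * D = D := by
    intro x
    have h1 := hc.prod_brL_eq_one hQ x w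
    simp only [Finset.prod_range_succ, Finset.prod_range_zero, one_mul] at h1
    change brL x (σ 0) * brL x (σ 1) * brL x (σ 2) = 1 at h1
    have d1 := hdiff x _ (hg 0)
    have d2 := hdiff x _ (hg 1)
    rw [map_mul, map_inv] at d1 d2
    have key : ∀ A B C : centreIn' Q,
        A ^ 3 * (A * B * C)⁻¹ = A * B⁻¹ * (A * B⁻¹) * (B * C⁻¹) := by
      intro A B C
      apply Additive.ofMul.injective
      simp only [ofMul_mul, ofMul_inv, ofMul_pow]
      abel
    have e : brL x (σ 0) ^ 3 = (brL x (σ 0) * (brL x (σ 1))⁻¹) * (brL x (σ 0) * (brL x (σ 1))⁻¹) *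
        (brL x (σ 1) * (brL x (σ 2))⁻¹) := by
      rw [← key, h1, inv_one, mul_one]
    rw [e, coe_mul, coe_mul, Units.val_mul, Units.val_mul, mul_assoc, d2, mul_assoc, d1, d1]
  have hz3 : (((z ^ 3 : centreIn' Q) : Rˣ) : R) * D = D := by
    have hterm : ∀ i, (((CycleAct.orb huZ i (brR w q) ^ 3 : centreIn' Q) : Rˣ) : R) * D = D := by
      intro i
      let q' : Q := ⟨u ^ i * (q : Rˣ) * (u ^ i)⁻¹, CycleAct.conj_pow_mem hQ.norm q.2 i⟩
      have e : brR w q = brL q (σ 0) := by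
        rw [brR_eq_brL]; congr 1; exact Subtype.ext (by simp [σ])
      induction i with
      | zero => rw [CycleAct.orb_zero, e]; exact hstep q
      | succ i ih =>
        have hcu : (u : R) * D = D * (u : R) := by
          rw [hD, mul_sub, sub_mul, mul_one, one_mul, ← Units.val_mul, ← Units.val_mul, hzu.eq]
        set y : centreIn' Q := CycleAct.orb huZ i (brR w q) ^ 3
        rw [CycleAct.orb_succ, ← map_pow]
        show (((cj (centreIn' Q) ⟨u, huZ⟩ y : centreIn' Q) : Rˣ) : R) * D = D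
        refine (Units.mul_left_inj u).1 ?_
        rw [mul_assoc, ← hcu, ← mul_assoc, coe_cj_mul, mul_assoc, ih, hcu]
    rw [hzdef, ← Finset.prod_pow]
    refine Finset.prod_induction _ (fun y : centreIn' Q => ((y : Rˣ) : R) * D = D) ?_ (by simp) fun i _ => hterm i
    intro a b ha hb
    rw [coe_mul, Units.val_mul, mul_assoc, hb, ha]
  have hz1 : z ^ 3 = 1 := eq_one_of_chars _ pow_card_eq_one' hQ.inv fun K _ _ χ hχ => by
    have h3 := hχ ((MonoidAlgebra.of ℤ _ (z ^ 3) - 1) * (MonoidAlgebra.of ℤ _ z - 1)) (by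
      rw [map_mul, map_sub, map_sub, map_one, toR_of, toR_of, mul_one, sub_mul, one_mul, ← hD, hz3,
        sub_self])
    rw [map_mul, map_sub, map_sub, map_one, charHom_of, charHom_of] at h3
    rcases mul_eq_zero.1 h3 with h4 | h4
    · exact sub_eq_zero.1 h4
    · rw [map_pow, sub_eq_zero.1 h4, one_pow]
  exact Subtype.ext (hc.eq_one_of_pow_eq_one (hQ.le z.2.1) (congrArg Subtype.val hz1))

/-- A decomposition into inverted elements kills homomorphisms. -/
theorem kill_hom (h : S3Act H u t) {S : Subgroup Rˣ} (hSH : S ≤ H)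
    (huS : u ∈ normalizer (S : Set Rˣ)) (htS : t ∈ normalizer (S : Set Rˣ))
    {M : Type*} [CommGroup M] (hM : ∀ y : M, y ^ 3 = 1 → y = 1) (f : S →* M)
    (hL : ∀ m : S, t * (m : Rˣ) * t⁻¹ = (m : Rˣ)⁻¹ → ∀ i,
      f ⟨u ^ i * (m : Rˣ) * (u ^ i)⁻¹, CycleAct.conj_pow_mem huS m.2 i⟩ = 1)
    (hN : ∀ x : S, ∏ i ∈ Finset.range 3,
      f ⟨u ^ i * (x : Rˣ) * (u ^ i)⁻¹, CycleAct.conj_pow_mem huS x.2 i⟩ = 1) (x : S) : f x = 1 := by
  have ht2 : t * t = 1 := by rw [← pow_two]; exact h.t_sq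
  have hu3 : u * u * u = 1 := by rw [← pow_two, ← pow_succ]; exact h.u_pow
  have htu : t * u * t = u * u := by
    rw [← pow_two, ← h.rel, h.t_inv]
  have htu' : t * u = u * u * t := by rw [← htu, mul_assoc (t * u), ht2, mul_one]
  have hut : u * t = t * (u * u) := by
    rw [← mul_assoc, htu', mul_assoc (u * u) t u, htu', ← mul_assoc]
    calc u * t = (u * u * u) * (u * t) := by rw [hu3, one_mul]
      _ = _ := by group
  -- `y (ᵘy)⁻¹` is killed for every `y`
  have key : ∀ y : S, f (y * ⟨u ^ 1 * (y : Rˣ) * (u ^ 1)⁻¹, CycleAct.conj_pow_mem huS y.2 1⟩⁻¹) = 1 := by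
    intro y
    have hty : t * (y : Rˣ) * t⁻¹ ∈ S := (mem_normalizer_iff.1 htS _).1 y.2
    set n1 : S := y * ⟨_, hty⟩⁻¹ with hn1
    have hinv1 : t * (n1 : Rˣ) * t⁻¹ = (n1 : Rˣ)⁻¹ := by
      simp only [hn1, coe_mul, coe_inv, h.t_inv]
      calc t * ((y : Rˣ) * (t * y * t)⁻¹) * t = t * y * (t⁻¹ * (y : Rˣ)⁻¹ * t⁻¹) * t := by group
        _ = t * y * t * (y : Rˣ)⁻¹ * (t⁻¹ * t) := by rw [h.t_inv]; group
        _ = _ := by rw [h.t_inv, ht2, mul_one]; group
    -- `m = y · (ᵘᵗy)⁻¹` translated by `u`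
    have hut' : u * t * (y : Rˣ) * (u * t)⁻¹ ∈ S :=
      (mem_normalizer_iff.1 (mul_mem huS htS) _).1 y.2
    have hm0S : u * ((y : Rˣ) * (u * t * (y : Rˣ) * (u * t)⁻¹)⁻¹) * u⁻¹ ∈ S :=
      (mem_normalizer_iff.1 huS _).1 (mul_mem y.2 (inv_mem hut'))
    have hinv0 : t * (u * ((y : Rˣ) * (u * t * (y : Rˣ) * (u * t)⁻¹)⁻¹) * u⁻¹) * t⁻¹ =
        (u * ((y : Rˣ) * (u * t * (y : Rˣ) * (u * t)⁻¹)⁻¹) * u⁻¹)⁻¹ := by
      have e1 : t * (u * ((y : Rˣ) * (u * t * (y : Rˣ) * (u * t)⁻¹)⁻¹) * u⁻¹) * t⁻¹ =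
          (t * u) * y * (u * t) * (y : Rˣ)⁻¹ * (u * t)⁻¹ * (t * u)⁻¹ := by group
      have e2 : (u * t)⁻¹ * (t * u)⁻¹ = u⁻¹ := by
        rw [← mul_inv_rev]
        congr 1
        calc t * u * (u * t) = t * (u * u) * t := by group
          _ = u * (t * t) := by rw [← hut]; group
          _ = u := by rw [ht2, mul_one]
      rw [e1, mul_assoc _ (u * t)⁻¹, e2]
      have e3 : t * u = u * (u * t) := by rw [htu', mul_assoc]
      have e4 : (u * t)⁻¹ = u * t := inv_eq_of_mul_eq_one_right (by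
        calc u * t * (u * t) = u * (t * u * t) := by group
          _ = u * u * u := by rw [htu, mul_assoc]
          _ = 1 := hu3)
      rw [e3, show (u * ((y : Rˣ) * (u * t * (y : Rˣ) * (u * t)⁻¹)⁻¹) * u⁻¹)⁻¹ =
        u * (u * t) * y * (u * t)⁻¹ * (y : Rˣ)⁻¹ * u⁻¹ by simp only [mul_inv_rev, inv_inv, mul_assoc], e4]
    have h0 := hL ⟨_, hm0S⟩ hinv0 2
    have h1 := hL n1 hinv1 1
    have e : y * ⟨u ^ 1 * (y : Rˣ) * (u ^ 1)⁻¹, CycleAct.conj_pow_mem huS y.2 1⟩⁻¹ =
        ⟨_, CycleAct.conj_pow_mem huS hm0S 2⟩ * ⟨_, CycleAct.conj_pow_mem huS n1.2 1⟩⁻¹ := by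
      refine Subtype.ext ?_
      simp only [coe_mul, coe_inv, hn1]
      have e3 : u ^ 2 * (u * ((y : Rˣ) * (u * t * (y : Rˣ) * (u * t)⁻¹)⁻¹) * u⁻¹) * (u ^ 2)⁻¹ =
          u ^ 3 * ((y : Rˣ) * (u * t * (y : Rˣ) * (u * t)⁻¹)⁻¹) * (u ^ 3)⁻¹ := by group
      rw [e3, h.u_pow]
      group
    rw [e, map_mul, map_inv, h1, h0, inv_one, mul_one]
  let σ : ℕ → S := fun i => ⟨u ^ i * (x : Rˣ) * (u ^ i)⁻¹, CycleAct.conj_pow_mem huS x.2 i⟩
  have hσ : ∀ i, f (σ (i + 1)) = f (σ i) := by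
    intro i
    have := key (σ i)
    rw [map_mul, map_inv, mul_inv_eq_one] at this
    rw [this]
    refine congrArg f (Subtype.ext ?_)
    simp only [σ, pow_succ']
    group
  have h3 := hN x
  simp only [Finset.prod_range_succ, Finset.prod_range_zero, one_mul] at h3
  change f (σ 0) * f (σ 1) * f (σ 2) = 1 at h3
  rw [hσ 1, hσ 0] at h3
  have e0 : σ 0 = x := Subtype.ext (by simp [σ])
  rw [e0] at h3
  exact hM _ (by rw [pow_succ, pow_two, h3])

theorem cj_brR {g : Rˣ} (hgQ : g ∈ normalizer (centreIn' Q : Set Rˣ)) (n n' : secondCentre Q) (m m' : Q)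
    (hn : g * (n : Rˣ) * g⁻¹ = (n' : Rˣ)) (hm : g * (m : Rˣ) * g⁻¹ = (m' : Rˣ)) :
    cj (centreIn' Q) ⟨g, hgQ⟩ (brR n m) = brR n' m' := by
  refine Subtype.ext ?_
  show g * ((n : Rˣ) * (m : Rˣ) * (n : Rˣ)⁻¹ * (m : Rˣ)⁻¹) * g⁻¹ =
    (n' : Rˣ) * (m' : Rˣ) * (n' : Rˣ)⁻¹ * (m' : Rˣ)⁻¹
  rw [← hn, ← hm]
  group

theorem cj_brR_inverted (htZ : t ∈ normalizer (centreIn' Q : Set Rˣ)) {n : secondCentre Q} {m : Q}
    (hn : t * (n : Rˣ) * t⁻¹ = (n : Rˣ)⁻¹) (hm : t * (m : Rˣ) * t⁻¹ = (m : Rˣ)⁻¹) :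
    cj (centreIn' Q) ⟨t, htZ⟩ (brR n m) = brR n m := by
  rw [cj_brR htZ n n⁻¹ m m⁻¹ (by rw [hn, coe_inv]) (by rw [hm, coe_inv]), map_inv, brR_eq_brL,
    map_inv, inv_inv, brR_eq_brL]

theorem toR_mul_comm {y : Rˣ} (hy : y ∈ Q) (A : MonoidAlgebra ℤ (centreIn' Q)) :
    toR (centreIn' Q) A * (y : R) = (y : R) * toR (centreIn' Q) A := by
  induction A using MonoidAlgebra.induction_on with
  | of k => rw [toR_of, ← Units.val_mul, ← Units.val_mul, (commute_of_centreIn' k.2 hy).eq]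
  | add A B hA hB => rw [map_add, add_mul, mul_add, hA, hB]
  | smul c A hA => rw [map_zsmul, smul_mul_assoc, mul_smul_comm, hA]

/-- Twisted group elements of the symmetric group on the centre. -/
noncomputable def twist (huZ : u ∈ normalizer (centreIn' Q : Set Rˣ))
    (htZ : t ∈ normalizer (centreIn' Q : Set Rˣ)) (g : ℕ × ℕ) :
    centreIn' Q →* MonoidAlgebra ℤ (centreIn' Q) :=
  (MonoidAlgebra.of ℤ _).comp
    (cj (centreIn' Q) ((⟨u, huZ⟩ : normalizer (centreIn' Q : Set Rˣ)) ^ g.1 *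
      (⟨t, htZ⟩ : normalizer (centreIn' Q : Set Rˣ)) ^ g.2))

theorem twist_rel (h : S3Act H u t) (huZ : u ∈ normalizer (centreIn' Q : Set Rˣ))
    (htZ : t ∈ normalizer (centreIn' Q : Set Rˣ)) (y : centreIn' Q) :
    ∑ g ∈ Finset.range 3 ×ˢ Finset.range 2,
      toR _ (twist huZ htZ g y) * ((u : R) ^ g.1 * (t : R) ^ g.2) = 0 := by
  have e : ∀ g : ℕ × ℕ, toR _ (twist huZ htZ g y) * ((u : R) ^ g.1 * (t : R) ^ g.2) =
      (u : R) ^ g.1 * (t : R) ^ g.2 * ((y : Rˣ) : R) := by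
    intro g
    rw [show toR _ (twist huZ htZ g y) = _ from toR_of _]
    simpa using coe_cj_mul ((⟨u, huZ⟩ : normalizer (centreIn' Q : Set Rˣ)) ^ g.1 *
      (⟨t, htZ⟩ : normalizer (centreIn' Q : Set Rˣ)) ^ g.2) y
  rw [Finset.sum_congr rfl fun g _ => e g, ← Finset.sum_mul, Finset.sum_product]
  have e2 : ∑ i ∈ Finset.range 3, ∑ j ∈ Finset.range 2, (u : R) ^ i * (t : R) ^ j =
      powSum 3 u + powSum 3 u * (t : R) := by
    rw [powSum, Finset.sum_mul, ← Finset.sum_add_distrib]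
    refine Finset.sum_congr rfl fun i _ => ?_
    simp [Finset.sum_range_succ]
  rw [e2, h.sum, add_neg_cancel, zero_mul]

theorem char_twist (huZ : u ∈ normalizer (centreIn' Q : Set Rˣ))
    (htZ : t ∈ normalizer (centreIn' Q : Set Rˣ)) {K : Type u} [CommRing K] (χ : centreIn' Q →* K)
    (g : ℕ × ℕ) (y : centreIn' Q) : charHom χ (twist huZ htZ g y) =
      χ (CycleAct.orb huZ g.1 (cj (centreIn' Q) (⟨t, htZ⟩ ^ g.2) y)) := by
  rw [twist, MonoidHom.comp_apply, charHom_of, CycleAct.orb, ← cj_mul]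

/-- A character fixed by `t` kills cubes of commutators of inverted elements. -/
theorem char_fixed_kills (h : S3Act H u t) (hQ : CycleAct.NilPart H u Q)
    (htQ : t ∈ normalizer (Q : Set Rˣ)) (hinvQ : ∃ v : R, v * ((Nat.card Q : ℕ) : R) = 1)
    {n : secondCentre Q} {m : Q} (hn : t * (n : Rˣ) * t⁻¹ = (n : Rˣ)⁻¹)
    (hm : t * (m : Rˣ) * t⁻¹ = (m : Rˣ)⁻¹) {K : Type u} [CommRing K] [IsDomain K]
    (χ : centreIn' Q →* K) (hχ : Kills (1 : R) χ)
    (hτ : ∀ y, χ (cj (centreIn' Q) ⟨t, normalizer_le_normalizer_centreIn' htQ⟩ y) = χ y) :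
    χ (brR n m) ^ 3 = 1 := by
    classical
    have hc := h.cycleAct
    set huZ := CycleAct.centre_normalized hQ.norm
    have htZ : t ∈ normalizer (centreIn' Q : Set Rˣ) := normalizer_le_normalizer_centreIn' htQ
    let tN : normalizer (centreIn' Q : Set Rˣ) := ⟨t, htZ⟩
    let a := twist huZ htZ
    let T : Finset (ℕ × ℕ) := Finset.range 3 ×ˢ Finset.range 2
    let r : ℕ × ℕ → R := fun g => (u : R) ^ g.1 * (t : R) ^ g.2
    have hrel := h.twist_rel huZ htZ
    have hval : ∀ (g : ℕ × ℕ) (y : centreIn' Q), charHom χ (a g y) =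
        χ (CycleAct.orb huZ g.1 (cj (centreIn' Q) (tN ^ g.2) y)) := char_twist huZ htZ χ
    set z := brR n m with hz
    have hNz : ∏ i ∈ Finset.range 3, CycleAct.orb huZ i z = 1 := h.norm_eq_one hQ hinvQ n m
    by_cases hmov : ∀ y, χ (CycleAct.orb huZ 1 y) = χ y
    · rw [CycleAct.char_pow_eq_prod huZ χ hmov, hNz, map_one]
    let E : Finset (ℕ × ℕ) := {(1, 0), (2, 0), (1, 1), (2, 1)}
    have hne : ∀ e ∈ E, ∃ y, charHom χ (a e y) ≠ χ y := by
      intro e he
      by_contra hall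
      push Not at hall
      have hall' : ∀ y, χ (CycleAct.orb huZ e.1 y) = χ y := by
        intro y
        have h1 := hall (cj (centreIn' Q) (tN ^ e.2) y)
        rw [hval, ← cj_mul, ← pow_add] at h1
        have e2 : tN ^ (e.2 + e.2) = 1 := by
          rw [← two_mul, pow_mul]
          have : tN ^ 2 = 1 := Subtype.ext (by simp [tN, h.t_sq])
          rw [this, one_pow]
        rw [e2, cj_one] at h1
        rw [h1]
        have hl : ∀ l : ℕ, χ (cj (centreIn' Q) (tN ^ l) y) = χ y := by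
          intro l
          induction l with
          | zero => rw [pow_zero, cj_one]
          | succ l ih => rw [pow_succ', cj_mul, hτ, ih]
        exact hl _
      have he1 : e.1 ≠ 0 ∧ e.1 < 3 := by
        simp only [E, Finset.mem_insert, Finset.mem_singleton] at he
        rcases he with rfl | rfl | rfl | rfl <;> decide
      exact hmov fun y => hc.fixed_of_pow_fixed huZ χ he1.1 he1.2 hall' y
    let Y : ℕ × ℕ → centreIn' Q := fun e =>
      if he : ∃ y, charHom χ (a e y) ≠ χ y then he.choose else 1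
    let c : ℕ × ℕ → MonoidAlgebra ℤ (centreIn' Q) := fun g => ∏ e ∈ E, (a g (Y e) - a e (Y e))
    have h0 := elim_relation (toR _) T a r hrel E Y 1
    have hsub : T = {(0, 0), (0, 1)} ∪ E := by decide
    rw [hsub, Finset.sum_union (by decide)] at h0
    have hzero : ∀ g ∈ E, toR _ (a g 1 * c g) * r g = 0 := by
      intro g hg
      simp only [c]
      rw [Finset.prod_eq_zero hg (sub_self _)]
      simp
    rw [Finset.sum_eq_zero hzero, add_zero, Finset.sum_pair (by decide)] at h0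
    simp only [map_one, one_mul, r, pow_zero, pow_one, mul_one] at h0
    change toR _ (c (0, 0)) + toR _ (c (0, 1)) * (t : R) = 0 at h0
    set F := toR _ (c (0, 1)) with hF
    have hFn : ∀ y : Rˣ, y ∈ Q → t * y * t⁻¹ = y⁻¹ → (y : R) * F = F := by
      intro y hy hinv
      have hty : (t : R) * (y : R) = ((y⁻¹ : Rˣ) : R) * (t : R) := by
        rw [← Units.val_mul, ← Units.val_mul]
        exact congrArg _ (mul_inv_eq_iff_eq_mul.1 hinv)
      have h1 : (toR _ (c (0, 0)) + F * (t : R)) * (y : R) = 0 := by rw [h0, zero_mul]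
      rw [add_mul, mul_assoc, hty, ← mul_assoc, toR_mul_comm hy, toR_mul_comm (inv_mem hy),
        show toR _ (c (0, 0)) = -(F * (t : R)) from eq_neg_of_add_eq_zero_left h0] at h1
      rw [mul_neg, ← mul_assoc, neg_add_eq_zero, Units.mul_left_inj] at h1
      refine h.mul_eq_of_pow (hQ.le hy) h.cop_two ?_
      rw [pow_two, Units.val_mul, mul_assoc, h1, ← mul_assoc, Units.mul_inv, one_mul]
    have hzF : ((z : Rˣ) : R) * F = F := by
      have h1 := hFn n n.2.1 hn
      have h2 := hFn m m.2 hm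
      have e : (n : Rˣ) * (m : Rˣ) = (z : Rˣ) * (m : Rˣ) * (n : Rˣ) := by
        rw [hz]; simp only [brR, MonoidHom.mk'_apply]; group
      have e2 := congrArg (fun y : Rˣ => (y : R) * F) e
      simp only [Units.val_mul] at e2
      rw [mul_assoc, h2, h1, mul_assoc, h1, mul_assoc, h2] at e2
      exact e2.symm
    have h3 := hχ ((MonoidAlgebra.of ℤ _ z - 1) * c (0, 1)) (by
      rw [map_mul, map_sub, map_one, toR_of, mul_one, sub_mul, one_mul, ← hF, hzF, sub_self])
    rw [map_mul] at h3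
    rcases mul_eq_zero.1 h3 with h4 | h4
    · rw [map_sub, map_one, charHom_of, sub_eq_zero] at h4
      rw [h4, one_pow]
    · exfalso
      rw [map_prod, Finset.prod_eq_zero_iff] at h4
      obtain ⟨e, he, h5⟩ := h4
      rw [map_sub, sub_eq_zero, hval, hval] at h5
      simp only [Y, dif_pos (hne e he), CycleAct.orb_zero, pow_one, hτ] at h5
      exact (hne e he).choose_spec (by rw [hval]; exact h5.symm.trans (hτ _))

/-- Every character kills sixth powers of commutators of inverted elements. -/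
theorem char_kills_six (h : S3Act H u t) (hQ : CycleAct.NilPart H u Q)
    (htQ : t ∈ normalizer (Q : Set Rˣ)) (hinvQ : ∃ v : R, v * ((Nat.card Q : ℕ) : R) = 1)
    {n : secondCentre Q} {m : Q} (hn : t * (n : Rˣ) * t⁻¹ = (n : Rˣ)⁻¹)
    (hm : t * (m : Rˣ) * t⁻¹ = (m : Rˣ)⁻¹) {K : Type u} [CommRing K] [IsDomain K]
    (χ : centreIn' Q →* K) (hχ : Kills (1 : R) χ) : χ (brR n m) ^ 6 = 1 := by
  classical
  have hc := h.cycleAct
  have huZ := CycleAct.centre_normalized hQ.norm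
  have htZ : t ∈ normalizer (centreIn' Q : Set Rˣ) := normalizer_le_normalizer_centreIn' htQ
  let tN : normalizer (centreIn' Q : Set Rˣ) := ⟨t, htZ⟩
  let uN : normalizer (centreIn' Q : Set Rˣ) := ⟨u, huZ⟩
  have hNz : ∏ i ∈ Finset.range 3, CycleAct.orb huZ i (brR n m) = 1 := h.norm_eq_one hQ hinvQ n m
  have htz : cj (centreIn' Q) tN (brR n m) = brR n m := cj_brR_inverted htZ hn hm
  have h5gen : ∀ l : ℕ, (∀ y, χ (CycleAct.orb huZ l (cj (centreIn' Q) tN y)) = χ (CycleAct.orb huZ l y)) →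
      χ (CycleAct.orb huZ l (brR n m)) ^ 3 = 1 := fun l hl =>
    h.char_fixed_kills hQ htQ hinvQ hn hm (χ.comp (CycleAct.orb huZ l)) (hχ.comp (uN ^ l)) hl
  generalize brR n m = z at hNz htz h5gen ⊢
  by_cases hmov : ∀ y, χ (CycleAct.orb huZ 1 y) = χ y
  · rw [pow_mul (χ z) 3 2, CycleAct.char_pow_eq_prod huZ χ hmov, hNz, map_one, one_pow]
  let a : ℕ × ℕ → centreIn' Q →* MonoidAlgebra ℤ (centreIn' Q) := twist huZ htZ
  let Y : ℕ × ℕ → centreIn' Q := fun e =>
    if he : ∃ y, charHom χ (a e y) ≠ χ y then he.choose else 1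
  have hmem : ((0, 0) : ℕ × ℕ) ∈ Finset.range 3 ×ˢ Finset.range 2 :=
    Finset.mem_product.2 ⟨Finset.mem_range.2 (by norm_num), Finset.mem_range.2 (by norm_num)⟩
  have h0 := elim_all (toR (centreIn' Q)) _ a (fun g => (u : R) ^ g.1 * (t : R) ^ g.2)
    (h.twist_rel huZ htZ) hmem Y
  rw [pow_zero, pow_zero, one_mul] at h0
  have h1 := hχ _ h0
  rw [map_prod, Finset.prod_eq_zero_iff] at h1
  obtain ⟨e, he, h2⟩ := h1
  have hall : ∀ y, charHom χ (a e y) = χ y := by
    by_contra hc'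
    push Not at hc'
    rw [map_sub, sub_eq_zero] at h2
    simp only [Y, dif_pos hc'] at h2
    simp only [a] at h2
    rw [char_twist (g := (0, 0)), pow_zero, cj_one, CycleAct.orb_zero] at h2
    exact hc'.choose_spec h2.symm
  obtain ⟨hne0, heT⟩ := Finset.mem_erase.1 he
  obtain ⟨i, j⟩ := e
  simp only [Finset.mem_product, Finset.mem_range] at heT
  obtain ⟨hi, hj⟩ := heT
  rcases (show j = 0 ∨ j = 1 by omega) with rfl | rfl
  · exfalso
    have hi0 : i ≠ 0 := fun h0 => hne0 (by rw [h0])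
    refine hmov fun y => hc.fixed_of_pow_fixed huZ χ hi0 hi (fun w => ?_) y
    have := hall w
    simp only [a] at this
    rwa [char_twist, pow_zero, cj_one] at this
  have hall' : ∀ y, χ (CycleAct.orb huZ i (cj (centreIn' Q) tN y)) = χ y := by
    intro y
    have := hall y
    simp only [a] at this
    rwa [char_twist, pow_one] at this
  have hl : ∀ y, χ (CycleAct.orb huZ (2 * i) (cj (centreIn' Q) tN y)) =
      χ (CycleAct.orb huZ (2 * i) y) := by
    intro y
    rw [← hall' (CycleAct.orb huZ (2 * i) (cj (centreIn' Q) tN y)), CycleAct.orb, CycleAct.orb,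
      ← cj_mul, ← cj_mul, ← cj_mul]
    congr 3
    refine Subtype.ext ?_
    simp only [coe_mul, coe_pow, tN]
    calc u ^ i * t * u ^ (2 * i) * t = u ^ i * (t * u ^ (2 * i)) * t := by group
      _ = u ^ i * u ^ (2 * (2 * i)) * (t * t) := by rw [h.t_mul_pow]; simp only [mul_assoc]
      _ = u ^ (2 * i) := by
          rw [← pow_two, h.t_sq, mul_one, ← pow_add, h.pow_mod (i + 2 * (2 * i)), h.pow_mod (2 * i)]
          congr 1
          omega
  have h5 := h5gen (2 * i) hl
  have h7 : χ (CycleAct.orb huZ i z) = χ z := by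
    have := hall' z
    rwa [htz] at this
  have h6 := congrArg χ hNz
  simp only [Finset.prod_range_succ, Finset.prod_range_zero, one_mul, map_mul, map_one] at h6
  rw [CycleAct.orb_zero] at h6
  have e4 : CycleAct.orb huZ 4 z = CycleAct.orb huZ 1 z :=
    Subtype.ext (by rw [CycleAct.coe_orb, CycleAct.coe_orb, h.pow_mod 4])
  rcases (show i = 0 ∨ i = 1 ∨ i = 2 by omega) with rfl | rfl | rfl
  · rw [mul_zero, CycleAct.orb_zero] at h5
    rw [pow_mul (χ z) 3 2, h5, one_pow]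
  · rw [show 2 * 1 = 2 by rfl] at h5
    rw [h7] at h6
    have h8 := congrArg (· ^ 3) h6
    simp only [one_pow, mul_pow, h5, mul_one] at h8
    rw [← h8]; ring
  · rw [show 2 * 2 = 4 by rfl, e4] at h5
    rw [h7] at h6
    have h8 := congrArg (· ^ 3) h6
    simp only [one_pow, mul_pow, h5, mul_one] at h8
    rw [← h8]; ring

/-- Elements inverted by `t` commute with those of the second centre. -/
theorem brR_inverted (h : S3Act H u t) (hQ : CycleAct.NilPart H u Q)
    (htQ : t ∈ normalizer (Q : Set Rˣ)) (hinvQ : ∃ v : R, v * ((Nat.card Q : ℕ) : R) = 1)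
    {n : secondCentre Q} {m : Q} (hn : t * (n : Rˣ) * t⁻¹ = (n : Rˣ)⁻¹)
    (hm : t * (m : Rˣ) * t⁻¹ = (m : Rˣ)⁻¹) : brR n m = 1 := by
  have hc := h.cycleAct
  have hz6 : brR n m ^ 6 = 1 := eq_one_of_chars _ pow_card_eq_one' hQ.inv fun K _ _ χ hχ => by
    rw [map_pow]
    exact h.char_kills_six hQ htQ hinvQ hn hm χ hχ
  generalize brR n m = z at hz6 ⊢
  have hz3 : (z ^ 2) ^ 3 = 1 := by rw [← pow_mul]; exact hz6
  have h2 := hc.eq_one_of_pow_eq_one (hQ.le (z ^ 2).2.1) (congrArg Subtype.val hz3)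
  exact Subtype.ext (h.eq_one_of_sq (hQ.le z.2.1) (by simpa using h2))

/-- Elements of the second centre inverted by `t` are central. -/
theorem inverted_central (h : S3Act H u t) (hQ : CycleAct.NilPart H u Q)
    (htQ : t ∈ normalizer (Q : Set Rˣ)) (hinvQ : ∃ v : R, v * ((Nat.card Q : ℕ) : R) = 1)
    {n : secondCentre Q} (hn : t * (n : Rˣ) * t⁻¹ = (n : Rˣ)⁻¹) : (n : Rˣ) ∈ centreIn' Q := by
    have hc := h.cycleAct
    set huZ := CycleAct.centre_normalized hQ.norm
    set hu2 := CycleAct.secondCentre_normalized hQ.norm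
    have htZ : t ∈ normalizer (centreIn' Q : Set Rˣ) := normalizer_le_normalizer_centreIn' htQ
    have hM3 : ∀ y : centreIn' Q, y ^ 3 = 1 → y = 1 := fun y hy =>
      Subtype.ext (hc.eq_one_of_pow_eq_one (hQ.le y.2.1) (congrArg Subtype.val hy))
    have hpair : ∀ (m : Q), t * (m : Rˣ) * t⁻¹ = (m : Rˣ)⁻¹ → brR n m = 1 :=
      fun m hm => h.brR_inverted hQ htQ hinvQ hn hm
    refine mem_centreIn'_of_brR fun x => ?_
    refine h.kill_hom hQ.le hQ.norm htQ hM3 (brR n) (fun m hm i => ?_)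
      (fun x => hc.prod_brR_eq_one hQ n x) x
    let σQ : ℕ → Q := fun i => ⟨u ^ i * (m : Rˣ) * (u ^ i)⁻¹, CycleAct.conj_pow_mem hQ.norm m.2 i⟩
    have h0 : brR n (σQ 0) = 1 := by
      have e : σQ 0 = m := Subtype.ext (by simp [σQ])
      rw [e]; exact hpair m hm
    set w0 := brR n (σQ 1) with hw0
    let tN : normalizer (centreIn' Q : Set Rˣ) := ⟨t, htZ⟩
    have hsum := hc.prod_brR_eq_one hQ n m
    simp only [Finset.prod_range_succ, Finset.prod_range_zero, one_mul] at hsum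
    change brR n (σQ 0) * brR n (σQ 1) * brR n (σQ 2) = 1 at hsum
    rw [h0, one_mul] at hsum
    have hmi : t * u ^ 1 * (m : Rˣ) * (t * u ^ 1)⁻¹ = u ^ 2 * (m : Rˣ)⁻¹ * (u ^ 2)⁻¹ := by
      rw [h.t_mul_pow 1, ← hm]; group
    have htw : cj (centreIn' Q) tN w0 = w0⁻¹ := by
      have e : cj (centreIn' Q) tN w0 = brR n⁻¹ (σQ 2)⁻¹ := by
        refine cj_brR htZ n n⁻¹ _ _ (by rw [hn, coe_inv]) ?_
        show t * (u ^ 1 * (m : Rˣ) * (u ^ 1)⁻¹) * t⁻¹ = (u ^ 2 * (m : Rˣ) * (u ^ 2)⁻¹)⁻¹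
        rw [show t * (u ^ 1 * (m : Rˣ) * (u ^ 1)⁻¹) * t⁻¹ =
          t * u ^ 1 * (m : Rˣ) * (t * u ^ 1)⁻¹ by group, hmi]
        group
      rw [e, map_inv, brR_eq_brL, map_inv, inv_inv, ← brR_eq_brL]
      exact eq_inv_of_mul_eq_one_right hsum
    -- the same relation for the translate of `n` by `u²`
    have hn2 : u ^ 2 * (n : Rˣ) * (u ^ 2)⁻¹ ∈ secondCentre Q := CycleAct.conj_pow_mem hu2 n.2 2
    have hother : brR ⟨_, hn2⟩ (σQ 1) = w0⁻¹ := by
      have h1 := hc.prod_brL_eq_one hQ (σQ 1) n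
      simp only [Finset.prod_range_succ, Finset.prod_range_zero, one_mul] at h1
      have e1 : (⟨u ^ 0 * (n : Rˣ) * (u ^ 0)⁻¹, CycleAct.conj_pow_mem hu2 n.2 0⟩ : secondCentre Q) = n :=
        Subtype.ext (by simp)
      have e2 : brL (σQ 1) ⟨u ^ 1 * (n : Rˣ) * (u ^ 1)⁻¹, CycleAct.conj_pow_mem hu2 n.2 1⟩ =
          CycleAct.orb huZ 1 (brR n m) := by
        rw [CycleAct.orb_brR hQ.norm, brR_eq_brL]
      rw [e1, e2, hpair m hm, map_one, mul_one, ← brR_eq_brL, ← brR_eq_brL] at h1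
      exact eq_inv_of_mul_eq_one_right h1
    have hσw : CycleAct.orb huZ 2 (w0⁻¹) = w0⁻¹ := by
      have e : CycleAct.orb huZ 2 (cj (centreIn' Q) tN w0) = brR ⟨_, hn2⟩⁻¹ (σQ 1)⁻¹ := by
        rw [CycleAct.orb, ← cj_mul]
        refine cj_brR ((⟨u, huZ⟩ : normalizer (centreIn' Q : Set Rˣ)) ^ 2 * tN).2 n _ _ _ ?_ ?_
        · show u ^ 2 * t * (n : Rˣ) * (u ^ 2 * t)⁻¹ = (u ^ 2 * (n : Rˣ) * (u ^ 2)⁻¹)⁻¹
          rw [show u ^ 2 * t * (n : Rˣ) * (u ^ 2 * t)⁻¹ = u ^ 2 * (t * (n : Rˣ) * t⁻¹) * (u ^ 2)⁻¹ by group, hn]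
          group
        · show u ^ 2 * t * (u ^ 1 * (m : Rˣ) * (u ^ 1)⁻¹) * (u ^ 2 * t)⁻¹ =
            (u ^ 1 * (m : Rˣ) * (u ^ 1)⁻¹)⁻¹
          rw [show u ^ 2 * t * (u ^ 1 * (m : Rˣ) * (u ^ 1)⁻¹) * (u ^ 2 * t)⁻¹ =
              u ^ 2 * (t * u ^ 1 * (m : Rˣ) * (t * u ^ 1)⁻¹) * (u ^ 2)⁻¹ by group, hmi,
            show u ^ 2 * (u ^ 2 * (m : Rˣ)⁻¹ * (u ^ 2)⁻¹) * (u ^ 2)⁻¹ =
              u ^ 4 * (m : Rˣ)⁻¹ * (u ^ 4)⁻¹ by group, h.pow_mod 4]
          group
      rw [htw] at e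
      rw [e, map_inv, brR_eq_brL, map_inv, inv_inv, ← brR_eq_brL, hother]
    have hfix : CycleAct.orb huZ 1 w0 = w0 := by
      rw [map_inv, inv_inj] at hσw
      conv_lhs => rw [← hσw]
      rw [CycleAct.orb, CycleAct.orb, ← cj_mul, ← pow_add]
      rw [show (⟨u, huZ⟩ : normalizer (centreIn' Q : Set Rˣ)) ^ (1 + 2) = 1 from
        Subtype.ext (by simpa using h.u_pow), cj_one]
    have hw1 : w0 = 1 := by
      refine hM3 _ ?_
      rw [← CycleAct.prod_orb_of_commute huZ (z := w0)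
        (mul_inv_eq_iff_eq_mul.1 (by simpa [CycleAct.coe_orb] using congrArg Subtype.val hfix)).symm]
      exact h.norm_eq_one hQ hinvQ n (σQ 1)
    rw [← hw0, hw1, one_mul] at hsum
    have hper : σQ i = σQ (i % 3) := Subtype.ext (by simp only [σQ, ← h.pow_mod i])
    show brR n (σQ i) = 1
    rw [hper]
    rcases (show i % 3 = 0 ∨ i % 3 = 1 ∨ i % 3 = 2 by omega) with e | e | e <;> rw [e]
    · exact h0
    · exact hw0.symm.trans hw1
    · exact hsum

/-- Invariant nilpotent subgroups are abelian. -/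
theorem isMulCommutative_of_nilpotent (h : S3Act H u t) (hQ : CycleAct.NilPart H u Q)
    (htQ : t ∈ normalizer (Q : Set Rˣ)) (hinvQ : ∃ v : R, v * ((Nat.card Q : ℕ) : R) = 1)
    [Group.IsNilpotent Q] : IsMulCommutative Q := by
  have hc := h.cycleAct
  set huZ := CycleAct.centre_normalized hQ.norm
  set hu2 := CycleAct.secondCentre_normalized hQ.norm
  have ht2 : t ∈ normalizer (secondCentre Q : Set Rˣ) := normalizer_le_normalizer_secondCentre htQ
  have hM3 : ∀ y : centreIn' Q, y ^ 3 = 1 → y = 1 := fun y hy =>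
    Subtype.ext (hc.eq_one_of_pow_eq_one (hQ.le y.2.1) (congrArg Subtype.val hy))
  refine isMulCommutative_of_secondCentre fun w hw => ?_
  refine mem_centreIn'_of_brR (w := (⟨w, hw⟩ : secondCentre Q)) fun x => ?_
  rw [brR_eq_brL]
  refine h.kill_hom ((secondCentre_le Q).trans hQ.le) hu2 ht2 hM3 (brL x) (fun m hm i => ?_)
    (fun w' => hc.prod_brL_eq_one hQ x w') _
  have hmc : u ^ i * (m : Rˣ) * (u ^ i)⁻¹ ∈ centreIn' Q :=
    CycleAct.conj_pow_mem huZ (h.inverted_central hQ htQ hinvQ (n := m) hm) i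
  refine Subtype.ext ?_
  show u ^ i * (m : Rˣ) * (u ^ i)⁻¹ * (x : Rˣ) * (u ^ i * (m : Rˣ) * (u ^ i)⁻¹)⁻¹ * (x : Rˣ)⁻¹ = 1
  rw [(commute_of_centreIn' hmc x.2).eq, mul_inv_cancel_right, mul_inv_cancel]


end S3Act

end CfsgLib.PGroup
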