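import Cfsg.Agent.Lib.PGroup.FpfThreeRankTwo
import Cfsg.Agent.Lib.PGroup.CharPLocal
import Cfsg.Agent.Lib.PGroup.ElementaryBasic

/-!
# An elementary abelian group of order eight from a fixed point free `3`-element
-/

set_option autoImplicit false
set_option linter.style.haveILetI false

open Subgroup

namespace CfsgLib.FpfThreeEight

variable {G : Type*} [Group G]

theorem fix_all_of_fix_one [Finite G] {W : Subgroup G} (hW2 : ∀ w ∈ W, w ^ 2 = 1)
    (hW4 : Nat.card W = 4) {c s : G} (hc3 : c ^ 3 = 1) (hcW : c ∈ normalizer (W : Set G))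
    (hs : s ∈ W) (hs1 : s ≠ 1) (hfix : c * s * c⁻¹ = s) :
    ∀ w ∈ W, c * w * c⁻¹ = w := by
  classical
  intro u hu
  by_cases h1 : u = 1
  · rw [h1]; group
  by_cases h2 : u = s
  · rw [h2]; exact hfix
  have hss : s * s = 1 := by rw [← pow_two]; exact hW2 s hs
  have h3 : s * u ≠ 1 := fun h => h2 ((eq_inv_of_mul_eq_one_right h).trans
    (inv_eq_of_mul_eq_one_right hss))
  haveI := Fintype.ofFinite W
  haveI := Fintype.ofFinite G
  have hS : ({1, s, u, s * u} : Finset G) = Finset.univ.filter (fun z => z ∈ W) := by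
    refine Finset.eq_of_subset_of_card_le (fun z hz => ?_) ?_
    · simp only [Finset.mem_insert, Finset.mem_singleton] at hz
      rcases hz with rfl | rfl | rfl | rfl
      · simp
      · simpa using hs
      · simpa using hu
      · simpa using mul_mem hs hu
    · have hcard : ({1, s, u, s * u} : Finset G).card = 4 := by
        simp [Ne.symm hs1, Ne.symm h1, Ne.symm h3, Ne.symm h2, h1, hs1]
      rw [hcard, ← hW4, Nat.card_eq_fintype_card, Fintype.card_subtype]
  have hmem : c * u * c⁻¹ ∈ ({1, s, u, s * u} : Finset G) := by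
    rw [hS]; simpa using (mem_normalizer_iff.1 hcW u).1 hu
  simp only [Finset.mem_insert, Finset.mem_singleton] at hmem
  rcases hmem with h | h | h | h
  · exact absurd (conj_eq_one_iff.1 h) h1
  · exact absurd (mul_left_cancel (mul_right_cancel (h.trans hfix.symm))) h2
  · exact h
  · exfalso
    have h4 : c ^ 3 * u * (c ^ 3)⁻¹ = s * u :=
      calc c ^ 3 * u * (c ^ 3)⁻¹ = c * (c * (c * u * c⁻¹) * c⁻¹) * c⁻¹ := by
            rw [pow_three']; group
        _ = c * (c * (s * u) * c⁻¹) * c⁻¹ := by rw [h]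
        _ = c * ((c * s * c⁻¹) * (c * u * c⁻¹)) * c⁻¹ := by group
        _ = c * (s * s * u) * c⁻¹ := by rw [hfix, h, mul_assoc s s u]
        _ = s * u := by rw [hss, one_mul, h]
    rw [hc3, one_mul, inv_one, mul_one] at h4
    exact hs1 (mul_right_cancel (h4.symm.trans (one_mul u).symm))

variable [Finite G]

theorem main (hchar : centralizer (Cfsg.pCore 2 G : Set G) ≤ Cfsg.pCore 2 G)
    (hsix : ∃ g : G, orderOf g = 6) (d : G) (hd1 : d ≠ 1) (hd : IsPGroup 3 ↥(zpowers d))
    (W : Subgroup G) (hW : Cfsg.IsElementaryAbelian 2 W) (hW1 : W ≠ ⊥)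
    (hdW : d ∈ normalizer (W : Set G)) (hfpf : W ⊓ centralizer {d} = ⊥) :
    ∃ E : Subgroup G, Cfsg.IsElementaryAbelian 2 E ∧ Nat.card E = 8 := by
  classical
  haveI : Fact (Nat.Prime 2) := ⟨Nat.prime_two⟩
  haveI : Fact (Nat.Prime 3) := ⟨Nat.prime_three⟩
  by_contra hno
  have hsmall : ∀ E : Subgroup G, IsMulCommutative E → (∀ x ∈ E, x ^ 2 = 1) →
      Nat.card E ≤ 4 := by
    intro E hEc hE2
    obtain ⟨k, hk⟩ := (show IsPGroup 2 E from
      fun x => ⟨1, Subtype.ext (by simpa using hE2 _ x.2)⟩).exists_card_eq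
    by_contra hgt
    have hk3 : 3 ≤ k := by
      by_contra h
      have := Nat.pow_le_pow_right two_pos (show k ≤ 2 by omega)
      omega
    obtain ⟨F, hF⟩ := Sylow.exists_subgroup_card_pow_prime 2 (G := E) (n := 3)
      (hk ▸ pow_dvd_pow 2 hk3)
    refine hno ⟨F.map E.subtype, ⟨?_, ?_⟩, ?_⟩
    · exact ⟨⟨fun a b => Subtype.ext (by
        have h := congrArg Subtype.val (hEc.1.comm
          ⟨_, map_subtype_le _ a.2⟩ ⟨_, map_subtype_le _ b.2⟩)
        exact h)⟩⟩
    · exact fun a ha => hE2 a (map_subtype_le _ ha)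
    · rw [card_map_of_injective E.subtype_injective, hF]; norm_num
  set P := Cfsg.pCore 2 G with hP
  haveI hPn : P.Normal := CfsgLib.Coprime.pCore_normal' 2
  have hPp : IsPGroup 2 P := CfsgLib.Coprime.pCore_isPGroup 2
  have hrank : ∀ V : Subgroup G, V ≤ P → IsMulCommutative V → Cfsg.PRankLE 2 2 V := by
    intro V _ hV A _ hA
    rw [← card_map_of_injective V.subtype_injective (K := A)]
    refine hsmall _ ⟨⟨fun a b => Subtype.ext (by
      have h := congrArg Subtype.val (hV.1.comm
        ⟨_, map_subtype_le _ a.2⟩ ⟨_, map_subtype_le _ b.2⟩)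
      exact h)⟩⟩ ?_
    rintro _ ⟨a, ha, rfl⟩
    rw [← map_pow, hA a ha, map_one]
  obtain ⟨n, hn⟩ := hd.exists_card_eq
  rw [Nat.card_zpowers] at hn
  have hn1 : 1 ≤ n := by
    by_contra h
    rw [show n = 0 by omega, pow_zero, orderOf_eq_one_iff] at hn
    exact hd1 hn
  have hfixW : ∀ x ∈ W, d * x * d⁻¹ = x → x = 1 := by
    intro x hx h
    have hm : x ∈ W ⊓ centralizer {d} := Subgroup.mem_inf.2 ⟨hx, mem_centralizer_iff.2 fun y hy =>
      by rw [Set.mem_singleton_iff.1 hy]; exact mul_inv_eq_iff_eq_mul.1 h⟩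
    rwa [hfpf] at hm
  have hW4 : Nat.card W = 4 :=
    CfsgLib.FpfThree.card_eq_four hdW hW.2 (hsmall W hW.1 hW.2) hfixW hW1
  have hWc : ∀ x ∈ W, ∀ y ∈ W, x * y = y * x := fun x hx y hy =>
    congrArg Subtype.val (hW.1.1.comm ⟨x, hx⟩ ⟨y, hy⟩)
  have absorb : ∀ z : G, z ^ 2 = 1 → (∀ w ∈ W, z * w = w * z) → z ∈ W := by
    intro z hz2 hzW
    have hn : W ≤ normalizer (zpowers z : Set G) := fun w hw =>
      centralizer_le_normalizer _ (mem_centralizer_iff.2 fun y hy => by
        obtain ⟨i, rfl⟩ := mem_zpowers_iff.1 hy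
        exact ((show Commute z w from hzW w hw).zpow_left i).eq)
    have h' : W = zpowers z ⊔ W := by
      refine eq_of_le_of_card_ge le_sup_right (hW4 ▸ hsmall _ ⟨⟨fun a b => Subtype.ext ?_⟩⟩ ?_)
      · obtain ⟨x, hx, w, hw, e⟩ := CfsgLib.Coprime.mem_sup_exists hn a.2
        obtain ⟨x', hx', w', hw', e'⟩ := CfsgLib.Coprime.mem_sup_exists hn b.2
        obtain ⟨i, rfl⟩ := mem_zpowers_iff.1 hx
        obtain ⟨j, rfl⟩ := mem_zpowers_iff.1 hx'
        show (a : G) * b = b * a
        rw [← e, ← e']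
        have h2 : Commute (z ^ i) w' := (show Commute z w' from hzW w' hw').zpow_left i
        have h3 : Commute w (z ^ j) := (show Commute w z from (hzW w hw).symm).zpow_right j
        exact (((Commute.refl z).zpow_zpow i j).mul_right h2).mul_left
          (h3.mul_right (hWc w hw w' hw'))
      · intro x hx
        obtain ⟨y, hy, w, hw, rfl⟩ := CfsgLib.Coprime.mem_sup_exists hn hx
        obtain ⟨i, rfl⟩ := mem_zpowers_iff.1 hy
        rw [((show Commute z w from hzW w hw).zpow_left i).mul_pow, hW.2 w hw, mul_one,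
          ← zpow_natCast, ← zpow_mul, mul_comm, zpow_mul, zpow_natCast, hz2, one_zpow]
    exact h'.ge (mem_sup_left (mem_zpowers _))
  -- the involutions in the centre of an invariant `2`-group
  have key : ∀ T : Subgroup G, IsPGroup 2 T → T ≠ ⊥ → d ∈ normalizer (T : Set G) →
      (∀ w ∈ W, ∀ x ∈ T, (∀ t ∈ T, t * x = x * t) → w * x = x * w) →
      ∀ w ∈ W, w ∈ T ∧ ∀ t ∈ T, t * w = w * t := by
    intro T hT hTne hdT hTW
    let Z : Subgroup G :=
      { carrier := {x | x ∈ T ∧ x ^ 2 = 1 ∧ ∀ t ∈ T, t * x = x * t}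
        one_mem' := ⟨one_mem T, one_pow 2, fun t _ => by simp⟩
        mul_mem' := fun {a b} ha hb => ⟨mul_mem ha.1 hb.1, by
          rw [(show Commute a b from hb.2.2 a ha.1).mul_pow, ha.2.1, hb.2.1, one_mul], fun t ht => by
          rw [← mul_assoc, ha.2.2 t ht, mul_assoc, hb.2.2 t ht, mul_assoc]⟩
        inv_mem' := fun {a} ha => ⟨inv_mem ha.1, by rw [inv_pow, ha.2.1, inv_one],
          fun t ht => ((show Commute t a from ha.2.2 t ht).inv_right).eq⟩ }
    have hZW : Z ≤ W := fun x hx => absorb x hx.2.1 fun w hw => (hTW w hw x hx.1 hx.2.2).symm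
    have hZne : Z ≠ ⊥ := by
      obtain ⟨z, hz, hzo, hzc⟩ := CfsgLib.CharPLoc.exists_central_order hT le_rfl le_normalizer hTne
      intro h
      have hzZ : z ∈ Z := ⟨hz, hzo ▸ pow_orderOf_eq_one z, hzc⟩
      rw [h, mem_bot] at hzZ
      rw [hzZ, orderOf_one] at hzo
      omega
    have hdZ : d ∈ normalizer (Z : Set G) := by
      have hk : ∀ g ∈ normalizer (T : Set G), ∀ x ∈ Z, g * x * g⁻¹ ∈ Z := by
        intro g hg x hx
        refine ⟨(mem_normalizer_iff.1 hg x).1 hx.1, by rw [conj_pow, hx.2.1, mul_one, mul_inv_cancel],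
          fun t ht => ?_⟩
        have h := hx.2.2 _ ((mem_normalizer_iff''.1 hg t).1 ht)
        calc t * (g * x * g⁻¹) = g * ((g⁻¹ * t * g) * x) * g⁻¹ := by group
          _ = g * (x * (g⁻¹ * t * g)) * g⁻¹ := by rw [h]
          _ = g * x * g⁻¹ * t := by group
      rw [mem_normalizer_iff]
      exact fun x => ⟨hk d hdT x, fun h => by simpa [mul_assoc] using hk d⁻¹ (inv_mem hdT) _ h⟩
    have hZ4 := CfsgLib.FpfThree.card_eq_four hdZ (fun x hx => hx.2.1)
      (hW4 ▸ Nat.le_of_dvd Nat.card_pos (card_dvd_of_le hZW)) (fun x hx => hfixW x (hZW hx)) hZne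
    have hZeq : Z = W := eq_of_le_of_card_ge hZW (by rw [hZ4, hW4])
    intro w hw
    exact ⟨(hZeq.ge hw).1, (hZeq.ge hw).2.2⟩
  have hPne : P ≠ ⊥ := by
    intro h
    apply hd1
    have hm : d ∈ P := hchar (mem_centralizer_iff.2 fun y hy => by
      have hy' : y ∈ P := hy
      rw [h, mem_bot] at hy'
      rw [hy', one_mul, mul_one])
    rw [h] at hm
    exact mem_bot.1 hm
  have hdP : d ∈ normalizer (P : Set G) := by rw [normalizer_eq_top]; exact mem_top d
  have hWpg : IsPGroup 2 W := fun x => ⟨1, Subtype.ext (by simpa using hW.2 _ x.2)⟩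
  set T := P ⊔ W with hT
  have hTcentral : ∀ w ∈ W, ∀ t ∈ T, t * w = w * t := by
    have hWP : W ≤ normalizer (P : Set G) := by rw [normalizer_eq_top]; exact le_top
    intro w hw
    refine (key T (hPp.to_sup_of_normal_left' hWpg hWP)
      (fun h => hW1 (le_bot_iff.1 (le_sup_right.trans h.le)))
      (CfsgLib.Coprime.sup_le_normalizer (A := zpowers d) (zpowers_le.2 hdP) (zpowers_le.2 hdW)
        (mem_zpowers d)) (fun w hw x _ hx => hx w (mem_sup_right hw)) w hw).2
  have hWP' := key P hPp hPne hdP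
    (fun w hw x hx _ => (hTcentral w hw x (mem_sup_left hx)).symm)
  have hWleP : W ≤ P := fun w hw => (hWP' w hw).1
  have hfixP : P ⊓ centralizer {d} = ⊥ := by
    by_contra h
    haveI : Nontrivial ↥(P ⊓ centralizer {d}) := (Subgroup.nontrivial_iff_ne_bot _).2 h
    obtain ⟨k, hk0, hk⟩ := (hPp.to_le inf_le_left :
      IsPGroup 2 ↥(P ⊓ centralizer {d})).nontrivial_iff_card.1 inferInstance
    obtain ⟨z, hz⟩ := exists_prime_orderOf_dvd_card' (G := ↥(P ⊓ centralizer {d})) 2
      (hk ▸ dvd_pow_self 2 hk0.ne')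
    obtain ⟨hzP, hzd⟩ := Subgroup.mem_inf.1 z.2
    have hz2 : (z : G) ^ 2 = 1 := by
      rw [← SubgroupClass.coe_pow, ← hz, pow_orderOf_eq_one, OneMemClass.coe_one]
    have hzW : (z : G) ∈ W :=
      absorb _ hz2 fun w hw => hTcentral w hw _ (mem_sup_left hzP)
    have := hfixW _ hzW (mul_inv_eq_iff_eq_mul.2 (mem_centralizer_iff.1 hzd d rfl))
    rw [← orderOf_eq_one_iff, orderOf_coe, hz] at this
    omega
  have hfaith : zpowers d ⊓ centralizer (P : Set G) = ⊥ := by
    have h32 : (3 : ℕ) ≠ 2 := by norm_num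
    rw [eq_bot_iff]
    exact (inf_le_inf_left _ hchar).trans (IsPGroup.disjoint_of_ne 3 2 h32 _ _ hd hPp).le_bot
  have hd3 : orderOf d = 3 :=
    CfsgLib.FpfThree.order_three d n P hn1 hn hPp hdP hfaith hfixP hrank
  haveI hWn : W.Normal := by
    refine ⟨fun w hw g => ?_⟩
    have hx : g * w * g⁻¹ ∈ P := hPn.conj_mem w (hWleP hw) g
    refine absorb _ (by rw [conj_pow, hW.2 w hw, mul_one, mul_inv_cancel]) fun v hv => ?_
    have ht' : g⁻¹ * v * g ∈ P := by simpa using hPn.conj_mem v (hWleP hv) g⁻¹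
    have h := (hWP' w hw).2 _ ht'
    calc g * w * g⁻¹ * v = g * (w * (g⁻¹ * v * g)) * g⁻¹ := by group
      _ = g * ((g⁻¹ * v * g) * w) * g⁻¹ := by rw [h]
      _ = v * (g * w * g⁻¹) := by group
  set H := centralizer (W : Set G) with hH
  haveI : H.Normal := normal_centralizer
  have hHmem : ∀ g, g ∈ H ↔ ∀ w ∈ W, g * w * g⁻¹ = w := fun g => by
    rw [hH, mem_centralizer_iff]
    exact forall₂_congr fun w _ => by rw [mul_inv_eq_iff_eq_mul, eq_comm]
  have hdH : d ∉ H := by
    intro h
    obtain ⟨u, hu, hu1⟩ := (bot_or_exists_ne_one W).resolve_left hW1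
    exact hu1 (hfixW u hu ((hHmem d).1 h u hu))
  -- an element of order three centralizing `W`
  obtain ⟨g, hg⟩ := hsix
  set c := g ^ 2 with hc
  set t := g ^ 3 with ht
  have hg6 : g ^ 6 = 1 := hg ▸ pow_orderOf_eq_one g
  have hc3 : c ^ 3 = 1 := by rw [hc, ← pow_mul]; exact hg6
  have ht2 : t ^ 2 = 1 := by rw [ht, ← pow_mul]; exact hg6
  have hc1 : c ≠ 1 := fun h => by
    have := orderOf_dvd_of_pow_eq_one h; rw [hg] at this; omega
  have ht1 : t ≠ 1 := fun h => by
    have := orderOf_dvd_of_pow_eq_one h; rw [hg] at this; omega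
  have hct : Commute c t := (Commute.refl g).pow_pow 2 3
  have hcH : c ∈ H := by
    have hcW : c ∈ normalizer (W : Set G) := by rw [normalizer_eq_top]; exact mem_top c
    obtain ⟨s, hs, hs1, hcs⟩ : ∃ s ∈ W, s ≠ 1 ∧ c * s * c⁻¹ = s := by
      by_cases htH : ∀ w ∈ W, t * w * t⁻¹ = w
      · by_cases htW : t ∈ W
        · exact ⟨t, htW, ht1, by rw [hct.eq, mul_inv_cancel_right]⟩
        · exact absurd (absorb t ht2 fun w hw => mul_inv_eq_iff_eq_mul.1 (htH w hw)) htW
      · push Not at htH
        obtain ⟨u, hu, htu⟩ := htH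
        set u' := t * u * t⁻¹ with hu'
        have hu'W : u' ∈ W := hWn.conj_mem u hu t
        have htu' : t * u' * t⁻¹ = u := by
          calc t * u' * t⁻¹ = t ^ 2 * u * (t ^ 2)⁻¹ := by rw [hu', pow_two]; group
            _ = u := by rw [ht2, one_mul, inv_one, mul_one]
        have hts : t * (u * u') * t⁻¹ = u * u' := by
          rw [show t * (u * u') * t⁻¹ = (t * u * t⁻¹) * (t * u' * t⁻¹) by group, htu']
          exact hWc u' hu'W u hu
        have hs1 : u * u' ≠ 1 := fun h => htu ((eq_inv_of_mul_eq_one_right h).trans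
          (inv_eq_of_mul_eq_one_right (by rw [← pow_two]; exact hW.2 u hu)))
        refine ⟨u * u', mul_mem hu hu'W, hs1, ?_⟩
        set s := u * u' with hs
        by_contra hcs
        set s' := c * s * c⁻¹ with hs'
        have hts' : t * s' * t⁻¹ = s' := by
          calc t * s' * t⁻¹ = (t * c) * s * (t * c)⁻¹ := by rw [hs']; group
            _ = (c * t) * s * (c * t)⁻¹ := by rw [hct.eq]
            _ = c * (t * s * t⁻¹) * c⁻¹ := by group
            _ = s' := by rw [hts, hs']
        -- `t` fixes two involutions of `W`, hence everything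
        apply htu
        have hsW : s ∈ W := mul_mem hu hu'W
        have hs'W : s' ∈ W := hWn.conj_mem s hsW c
        have hs'1 : s' ≠ 1 := by rw [hs', Ne, conj_eq_one_iff]; exact hs1
        have hss' : s * s' ≠ 1 := fun h => hcs ((eq_inv_of_mul_eq_one_right h).trans
          (inv_eq_of_mul_eq_one_right (by rw [← pow_two]; exact hW.2 s hsW)))
        haveI := Fintype.ofFinite W
        haveI := Fintype.ofFinite G
        have hS : ({1, s, s', s * s'} : Finset G) = Finset.univ.filter (fun z => z ∈ W) := by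
          refine Finset.eq_of_subset_of_card_le (fun z hz => ?_) ?_
          · simp only [Finset.mem_insert, Finset.mem_singleton] at hz
            rcases hz with rfl | rfl | rfl | rfl
            · simp
            · simpa using hsW
            · simpa using hs'W
            · simpa using mul_mem hsW hs'W
          · have hcard : ({1, s, s', s * s'} : Finset G).card = 4 := by
              simp [Ne.symm hs1, Ne.symm hs'1, Ne.symm hss', Ne.symm hcs, hs1, hs'1]
            rw [hcard, ← hW4, Nat.card_eq_fintype_card, Fintype.card_subtype]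
        have hmem : u ∈ ({1, s, s', s * s'} : Finset G) := by rw [hS]; simpa using hu
        simp only [Finset.mem_insert, Finset.mem_singleton] at hmem
        rw [hu']
        rcases hmem with h | h | h | h <;> rw [h]
        · group
        · exact hts
        · exact hts'
        · rw [show t * (s * s') * t⁻¹ = (t * s * t⁻¹) * (t * s' * t⁻¹) by group, hts, hts']
    exact (hHmem c).2 (fix_all_of_fix_one hW.2 hW4 hc3 hcW hs hs1 hcs)
  -- a central such element commuting with `d`
  obtain ⟨S, hdS⟩ := hd.exists_le_sylow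
  obtain ⟨Sc, hcS⟩ := (show IsPGroup 3 (zpowers c) from
    IsPGroup.of_card (n := 1) (by rw [Nat.card_zpowers, orderOf_eq_prime hc3 hc1, pow_one])
    ).exists_le_sylow
  obtain ⟨k, hk⟩ := MulAction.exists_smul_eq G S Sc
  have hc' : k⁻¹ * c * k ∈ (S : Subgroup G) := by
    have h := hcS (mem_zpowers c)
    rw [← hk, Sylow.coe_subgroup_smul, Subgroup.mem_pointwise_smul_iff_inv_smul_mem] at h
    simpa [MulAut.smul_def, ← map_inv] using h
  have hR : (S : Subgroup G) ⊓ H ≠ ⊥ := by
    intro h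
    have hm : k⁻¹ * c * k ∈ (S : Subgroup G) ⊓ H := Subgroup.mem_inf.2 ⟨hc', by
      simpa using (inferInstance : H.Normal).conj_mem c hcH k⁻¹⟩
    rw [h, mem_bot] at hm
    refine hc1 ?_
    calc c = k * (k⁻¹ * c * k) * k⁻¹ := by group
      _ = 1 := by rw [hm, mul_one, mul_inv_cancel]
  obtain ⟨e, heR, he3, hec⟩ := CfsgLib.CharPLoc.exists_central_order (p := 3) S.2
    (inf_le_left : (S : Subgroup G) ⊓ H ≤ S)
    (CfsgLib.Coprime.inf_le_normalizer le_normalizer (by rw [normalizer_eq_top (H := H)]; exact le_top))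
    hR
  obtain ⟨heS, heH⟩ := Subgroup.mem_inf.1 heR
  have hde : Commute d e := hec d (hdS (mem_zpowers d))
  set A := zpowers d ⊔ zpowers e with hA
  have hnd : zpowers e ≤ normalizer (zpowers d : Set G) := zpowers_le.2
    (centralizer_le_normalizer _ (mem_centralizer_iff.2 fun y hy => by
      obtain ⟨i, rfl⟩ := mem_zpowers_iff.1 hy
      exact (hde.zpow_left i).eq))
  have hAmem : ∀ a ∈ A, ∃ i j : ℤ, a = d ^ i * e ^ j := by
    intro a ha
    obtain ⟨x, hx, y, hy, rfl⟩ := CfsgLib.Coprime.mem_sup_exists hnd ha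
    obtain ⟨i, rfl⟩ := mem_zpowers_iff.1 hx
    obtain ⟨j, rfl⟩ := mem_zpowers_iff.1 hy
    exact ⟨i, j, rfl⟩
  have hd31 : d ^ 3 = 1 := hd3 ▸ pow_orderOf_eq_one d
  have he31 : e ^ 3 = 1 := he3 ▸ pow_orderOf_eq_one e
  have hA3 : ∀ a ∈ A, a ^ 3 = 1 := by
    intro a ha
    obtain ⟨i, j, rfl⟩ := hAmem a ha
    rw [(hde.zpow_zpow i j).mul_pow, ← zpow_natCast, ← zpow_natCast, ← zpow_mul, ← zpow_mul,
      mul_comm i, mul_comm j, zpow_mul, zpow_mul, zpow_natCast, zpow_natCast, hd31, he31,
      one_zpow, one_zpow, one_mul]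
  haveI hAc : IsMulCommutative A := by
    refine ⟨⟨fun a b => Subtype.ext ?_⟩⟩
    obtain ⟨i, j, h1⟩ := hAmem a a.2
    obtain ⟨i', j', h2⟩ := hAmem b b.2
    show (a : G) * b = b * a
    rw [h1, h2]
    exact ((((Commute.refl d).zpow_zpow i i').mul_right (hde.zpow_zpow i j')).mul_left
      (((hde.zpow_zpow i' j).symm).mul_right ((Commute.refl e).zpow_zpow j j'))).eq
  have he1 : e ≠ 1 := fun h => by rw [h, orderOf_one] at he3; omega
  have hnc : ¬ IsCyclic A := by
    intro h
    obtain ⟨a, ha⟩ := IsCyclic.exists_ofOrder_eq_natCard (α := A)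
    have h1 : Nat.card A ≤ 3 := by
      rw [← ha]
      exact orderOf_le_of_pow_eq_one (by norm_num) (Subtype.ext (by simpa using hA3 _ a.2))
    have h2 : zpowers e = A := eq_of_le_of_card_ge le_sup_right
      (by rw [Nat.card_zpowers, he3]; exact h1)
    exact hdH ((zpowers_le.2 heH) (h2.ge (mem_sup_left (mem_zpowers d))))
  have hAP : A ≤ normalizer (P : Set G) := by rw [normalizer_eq_top]; exact le_top
  have hcop : (Nat.card A).Coprime (Nat.card P) := by
    obtain ⟨i, hi⟩ := (show IsPGroup 3 A from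
      fun a => ⟨1, Subtype.ext (by simpa using hA3 _ a.2)⟩).exists_card_eq
    obtain ⟨j, hj⟩ := hPp.exists_card_eq
    rw [hi, hj]
    exact Nat.Coprime.pow _ _ (by norm_num)
  have hPe : P ≤ centralizer {e} := by
    refine CfsgLib.Coprime.le_of_centralizers_le hnc hAP hcop fun a ha ha1 => ?_
    by_cases haH : a ∈ H
    · have hae : zpowers a = zpowers e := by
        have hle : zpowers a ≤ zpowers e := by
          obtain ⟨i, j, rfl⟩ := hAmem a ha
          have hi : d ^ i ∈ H := by
            have h := mul_mem haH (inv_mem (zpow_mem heH j))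
            rwa [mul_inv_cancel_right] at h
          have hd0 : d ^ i = 1 := by
            by_cases hdv : ((3 : ℕ) : ℤ) ∣ i
            · obtain ⟨l, rfl⟩ := hdv
              rw [zpow_mul, zpow_natCast, hd31, one_zpow]
            · exfalso
              obtain ⟨x, y, hxy⟩ :=
                (Nat.prime_iff_prime_int.1 Nat.prime_three).coprime_iff_not_dvd.2 hdv
              apply hdH
              have e' : d = (d ^ i) ^ y := by
                conv_lhs => rw [← zpow_one d, ← hxy, zpow_add, mul_comm x, zpow_mul, zpow_natCast,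
                  hd31, one_zpow, one_mul, mul_comm y, zpow_mul]
              rw [e']
              exact zpow_mem hi y
          rw [hd0, one_mul, zpowers_le]
          exact zpow_mem (mem_zpowers e) j
        refine eq_of_le_of_card_ge hle ?_
        rw [Nat.card_zpowers, Nat.card_zpowers, he3, orderOf_eq_prime (hA3 a ha) ha1]
      intro x hx
      obtain ⟨i, hi⟩ := mem_zpowers_iff.1 (hae.ge (mem_zpowers e))
      rw [mem_centralizer_singleton_iff, ← hi]
      have hc' := (mem_centralizer_iff.1 (Subgroup.mem_inf.1 hx).2 a rfl)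
      exact ((show Commute x a from hc'.symm).zpow_right i).eq
    · have hbot : P ⊓ centralizer {a} = ⊥ := by
        by_contra hne
        apply haH
        have hdC : d ∈ normalizer ((P ⊓ centralizer {a} : Subgroup G) : Set G) := by
          refine CfsgLib.Coprime.inf_le_normalizer (A := zpowers d) (zpowers_le.2 hdP) ?_
            (mem_zpowers d)
          refine zpowers_le.2 (le_normalizer (mem_centralizer_iff.2 fun y hy => ?_))
          rw [Set.mem_singleton_iff.1 hy]
          exact congrArg Subtype.val (hAc.1.comm ⟨a, ha⟩ ⟨d, mem_sup_left (mem_zpowers d)⟩)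
        have hk := key _ (hPp.to_le inf_le_left) hne hdC fun w hw x hx _ =>
          (hTcentral w hw x (mem_sup_left (Subgroup.mem_inf.1 hx).1)).symm
        rw [hH, mem_centralizer_iff]
        exact fun w hw => (mem_centralizer_iff.1 (Subgroup.mem_inf.1 (hk w hw).1).2 a rfl).symm
      rw [hbot]; exact bot_le
  have heP : e ∈ P := hchar (mem_centralizer_iff.2 fun x hx =>
    mem_centralizer_singleton_iff.1 (hPe hx))
  obtain ⟨j, hj⟩ := hPp ⟨e, heP⟩
  exact he1 (orderOf_eq_one_iff.1 (Nat.eq_one_of_dvd_coprimes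
    (Nat.Coprime.pow_left j (by norm_num : Nat.Coprime 2 3))
    (orderOf_dvd_of_pow_eq_one (by simpa using congrArg Subtype.val hj))
    (orderOf_dvd_of_pow_eq_one he31)))

end CfsgLib.FpfThreeEight
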