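import Cfsg.Prelude.Def_CaseTheorems
import Cfsg.Agent.Lib.Coprime.Action
import Cfsg.Agent.Lib.Coprime.Core
import Cfsg.Agent.Lib.Coprime.PGroupFrattini
import Cfsg.Agent.Lib.Coprime.Solvable
import Cfsg.Agent.Lib.PGroup.CommutatorContainment
import Mathlib.GroupTheory.Commutator.Basic

/-!
# Fixed point free `3`-elements on `2`-groups of rank two
-/

set_option autoImplicit false
set_option linter.style.haveILetI false

open Subgroup
open scoped commutatorElement

namespace CfsgLib.FpfThree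

variable {X : Type*} [Group X]

/-- An element of odd order fixing the involutions of an abelian `2`-group fixes all of it. -/
theorem fixed_of_fix_involutions (e : X) (r : ℕ) (hr : Odd r) (her : e ^ r = 1) (A : Subgroup X)
    (hA : IsPGroup 2 A) (hc : ∀ x ∈ A, ∀ y ∈ A, x * y = y * x) (hn : e ∈ normalizer (A : Set X))
    (hinv : ∀ x ∈ A, x ^ 2 = 1 → e * x * e⁻¹ = x) : ∀ x ∈ A, e * x * e⁻¹ = x := by
  suffices h : ∀ n : ℕ, ∀ x ∈ A, x ^ 2 ^ n = 1 → e * x * e⁻¹ = x by
    intro x hx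
    obtain ⟨n, hn⟩ := hA ⟨x, hx⟩
    exact h n x hx (by simpa using congrArg Subtype.val hn)
  intro n
  induction n with
  | zero => intro x _ h; rw [pow_zero, pow_one] at h; rw [h]; group
  | succ n ih =>
    intro x hx hxn
    have hsq : e * x ^ 2 * e⁻¹ = x ^ 2 :=
      ih _ (pow_mem hx 2) (by rw [← pow_mul, ← pow_succ']; exact hxn)
    have hy : e * x * e⁻¹ ∈ A := (mem_normalizer_iff.1 hn x).1 hx
    set u := x⁻¹ * (e * x * e⁻¹) with hu
    have hu2 : u ^ 2 = 1 := by
      rw [hu, (show Commute x⁻¹ (e * x * e⁻¹) from hc _ (inv_mem hx) _ hy).mul_pow, conj_pow,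
        hsq, inv_pow, inv_mul_cancel]
    have hfu : e * u * e⁻¹ = u := hinv u (mul_mem (inv_mem hx) hy) hu2
    have hk : ∀ k : ℕ, e ^ k * x * (e ^ k)⁻¹ = x * u ^ k := by
      intro k
      induction k with
      | zero => simp
      | succ k ihk =>
        calc e ^ (k + 1) * x * (e ^ (k + 1))⁻¹ = e * (e ^ k * x * (e ^ k)⁻¹) * e⁻¹ := by
              rw [pow_succ']; group
          _ = e * x * e⁻¹ * (e * u * e⁻¹) ^ k := by rw [ihk, conj_pow]; group
          _ = x * u * u ^ k := by rw [hfu, hu, mul_inv_cancel_left]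
          _ = x * u ^ (k + 1) := by rw [mul_assoc, ← pow_succ']
    obtain ⟨m, rfl⟩ := hr
    have h := hk (2 * m + 1)
    rw [her, pow_succ, pow_mul, hu2, one_pow, one_mul, one_mul, inv_one, mul_one] at h
    exact (mul_inv_cancel_left x _).symm.trans (congrArg (x * ·) (mul_left_cancel
      (h.symm.trans (mul_one x).symm))) |>.trans (mul_one x)

/-- A `±1` valued form whose derivatives are multiplicative has square sum divisible by the
order of the group. -/
theorem card_dvd_sum_sq {V : Type*} [Group V] [Fintype V] (f : V → ℤ)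
    (hsq : ∀ x, f x * f x = 1)
    (hβ : ∀ h x y, f (x * y * h) * f (x * y) * f h =
      (f (x * h) * f x * f h) * (f (y * h) * f y * f h)) :
    (Fintype.card V : ℤ) ∣ (∑ x, f x) ^ 2 := by
  classical
  have h1 : (∑ x, f x) ^ 2 = ∑ h, f h * ∑ x, f (x * h) * f x * f h := by
    calc (∑ x, f x) ^ 2 = ∑ x, ∑ y, f x * f y := by rw [sq, Finset.sum_mul_sum]
      _ = ∑ x, ∑ h, f x * f (x * h) := Finset.sum_congr rfl fun x _ =>
          (Equiv.sum_comp (Equiv.mulLeft x) (fun y => f x * f y)).symm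
      _ = ∑ h, ∑ x, f x * f (x * h) := Finset.sum_comm
      _ = ∑ h, f h * ∑ x, f (x * h) * f x * f h := Finset.sum_congr rfl fun h _ => by
          rw [Finset.mul_sum]
          refine Finset.sum_congr rfl fun x _ => ?_
          linear_combination (-(f x * f (x * h))) * hsq h
  rw [h1]
  refine Finset.dvd_sum fun h _ => Dvd.dvd.mul_left ?_ _
  set β : V → ℤ := fun x => f (x * h) * f x * f h with hβd
  have hm : ∀ x y, β (x * y) = β x * β y := fun x y => hβ h x y
  show (Fintype.card V : ℤ) ∣ ∑ x, β x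
  by_cases hall : ∀ x, β x = 1
  · rw [Finset.sum_congr rfl fun x _ => hall x, Finset.sum_const, Finset.card_univ, nsmul_eq_mul,
      mul_one]
  · push Not at hall
    obtain ⟨a, ha⟩ := hall
    have h2 : (β a - 1) * ∑ x, β x = 0 := by
      rw [sub_mul, one_mul, Finset.mul_sum, ← Finset.sum_congr rfl fun x _ => hm a x]
      exact sub_eq_zero.2 (Equiv.sum_comp (Equiv.mulLeft a) β)
    rcases mul_eq_zero.1 h2 with h3 | h3
    · exact absurd (sub_eq_zero.1 h3) ha
    · rw [h3]; exact dvd_zero _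

/-- No anisotropic form into a group of order four with equal fibres on at least `32` elements. -/
theorem false_of_form {V : Type*} [Group V] [Fintype V] (m : ℕ) (hV : Fintype.card V = 2 ^ m)
    (hm : 5 ≤ m) (f : V → ℤ) (hsq : ∀ x, f x * f x = 1)
    (hβ : ∀ h x y, f (x * y * h) * f (x * y) * f h =
      (f (x * h) * f x * f h) * (f (y * h) * f y * f h))
    (hS : 3 * ∑ x, f x = 4 - (Fintype.card V : ℤ)) : False := by
  have h1 := card_dvd_sum_sq f hsq hβ
  rw [hV] at h1 hS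
  push_cast at h1 hS
  have h2 : (2 : ℤ) ^ m ∣ (4 - 2 ^ m) ^ 2 := by
    rw [← hS, mul_pow]; exact h1.mul_left _
  have h3 : (2 : ℤ) ^ m ∣ 16 := by
    have h4 : (4 - 2 ^ m : ℤ) ^ 2 = 16 + 2 ^ m * (2 ^ m - 8) := by ring
    rw [h4] at h2
    exact (dvd_add_left (dvd_mul_right _ _)).1 h2
  have h5 : (2 : ℤ) ^ m ≤ 16 := Int.le_of_dvd (by norm_num) h3
  have h6 : (2 : ℤ) ^ 5 ≤ 2 ^ m := pow_le_pow_right₀ (by norm_num) hm
  norm_num at h6
  omega

variable [Finite X]

theorem exists_conj_pow_fixed {V : Subgroup X} {f : X} {i j : ℕ} (hij : i < j) {x : X}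
    (h : (f ^ i * x * (f ^ i)⁻¹)⁻¹ * (f ^ j * x * (f ^ j)⁻¹) ∈ V)
    (hf : f ∈ normalizer (V : Set X)) :
    x⁻¹ * (f ^ (j - i) * x * (f ^ (j - i))⁻¹) ∈ V := by
  have e : f ^ j = f ^ i * f ^ (j - i) := by rw [← pow_add, Nat.add_sub_cancel' hij.le]
  rw [e] at h
  have h2 := (mem_normalizer_iff''.1 (pow_mem hf i) _).1 h
  have e2 : (f ^ i)⁻¹ * ((f ^ i * x * (f ^ i)⁻¹)⁻¹ *
      (f ^ i * f ^ (j - i) * x * (f ^ i * f ^ (j - i))⁻¹)) * f ^ i =
      x⁻¹ * (f ^ (j - i) * x * (f ^ (j - i))⁻¹) := by group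
  rwa [e2] at h2

theorem card_le_four {P E : Subgroup X}
    (hrank : ∀ V : Subgroup X, V ≤ P → IsMulCommutative V → Cfsg.PRankLE 2 2 V) (hEP : E ≤ P)
    (hc : IsMulCommutative E) (he : ∀ x ∈ E, x ^ 2 = 1) : Nat.card E ≤ 4 := by
  have h := hrank E hEP hc ⊤ ⟨⟨fun a b => Subtype.ext (hc.1.comm a.1 b.1)⟩⟩
    (fun a _ => Subtype.ext (by simpa using he _ a.2))
  rwa [card_top] at h

/-- A nontrivial fixed point free invariant elementary abelian group of order at most four has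
order four. -/
theorem card_eq_four {E : Subgroup X} {d : X} (hdE : d ∈ normalizer (E : Set X))
    (he : ∀ x ∈ E, x ^ 2 = 1) (hle : Nat.card E ≤ 4)
    (hfix : ∀ x ∈ E, d * x * d⁻¹ = x → x = 1) (hne : E ≠ ⊥) : Nat.card E = 4 := by
  haveI : Fact (Nat.Prime 2) := ⟨Nat.prime_two⟩
  have hp : IsPGroup 2 E := fun x => ⟨1, Subtype.ext (by simpa using he _ x.2)⟩
  obtain ⟨k, hk⟩ := hp.exists_card_eq
  have hk2 : k ≤ 2 := (Nat.pow_le_pow_iff_right one_lt_two).1 (by omega)
  interval_cases k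
  · exact absurd (card_eq_one.1 (by simpa using hk)) hne
  · exfalso
    obtain ⟨x, hx, hx1⟩ := ((bot_or_exists_ne_one E).resolve_left hne)
    apply hx1
    apply hfix x hx
    have hy := (mem_normalizer_iff.1 hdE x).1 hx
    obtain ⟨y, z, -, hyz⟩ := Nat.card_eq_two_iff.1 (hk.trans (pow_one 2))
    have hall : ∀ w : E, (w : X) = 1 ∨ (w : X) = x := by
      intro w
      have h1 : (⟨1, one_mem E⟩ : E) ∈ ({y, z} : Set E) := hyz ▸ Set.mem_univ _
      have h2 : (⟨x, hx⟩ : E) ∈ ({y, z} : Set E) := hyz ▸ Set.mem_univ _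
      have h3 : w ∈ ({y, z} : Set E) := hyz ▸ Set.mem_univ _
      simp only [Set.mem_insert_iff, Set.mem_singleton_iff] at h1 h2 h3
      rcases h1 with h1 | h1 <;> rcases h2 with h2 | h2 <;> rcases h3 with h3 | h3 <;>
        first
        | exact Or.inl (congrArg Subtype.val (h3.trans h1.symm))
        | exact Or.inr (congrArg Subtype.val (h3.trans h2.symm))
        | exact absurd (congrArg Subtype.val (h2.trans h1.symm)) hx1
    rcases hall ⟨_, hy⟩ with h | h
    · exact absurd (by simpa using h) hx1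
    · exact h
  · simpa using hk

/-- An element of `3`-power order fixing no nontrivial element of a group of order four permutes
the involutions transitively and its cube fixes them. -/
theorem four_orbit {E : Subgroup X} {d : X} {n : ℕ} (hd : d ^ 3 ^ n = 1)
    (hdE : d ∈ normalizer (E : Set X)) (hE : Nat.card E = 4)
    (hfix : ∀ x ∈ E, d * x * d⁻¹ = x → x = 1) {x : X} (hx : x ∈ E) (hx1 : x ≠ 1) :
    d ^ 3 * x * (d ^ 3)⁻¹ = x ∧ ∀ y ∈ E, y = 1 ∨ y = x ∨ y = d * x * d⁻¹ ∨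
      y = d * (d * x * d⁻¹) * d⁻¹ := by
  classical
  set c : X → X := fun z => d * z * d⁻¹ with hc
  have hcE : ∀ z ∈ E, c z ∈ E := fun z hz => (mem_normalizer_iff.1 hdE z).1 hz
  have hci : Function.Injective c := fun a b h => by simpa [hc] using h
  have hc1 : c 1 = 1 := by simp [hc]
  have hne1 : c x ≠ 1 := fun h => hx1 (hci (h.trans hc1.symm))
  have hne2 : c (c x) ≠ 1 := fun h => hne1 (hci (h.trans hc1.symm))
  have hxc : c x ≠ x := fun h => hx1 (hfix x hx h)
  have hcc : c (c x) ≠ c x := fun h => hxc (hci h)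
  have hper : c (c x) ≠ x := by
    intro h
    have hk : ∀ k : ℕ, d ^ (2 * k) * x * (d ^ (2 * k))⁻¹ = x := by
      intro k
      induction k with
      | zero => simp
      | succ k ih =>
        have hs : d * (d * x * d⁻¹) * d⁻¹ = x := h
        rw [show d ^ (2 * (k + 1)) = d ^ (2 * k) * (d * d) by
          rw [mul_add, mul_one, pow_add, pow_two]]
        rw [show d ^ (2 * k) * (d * d) * x * (d ^ (2 * k) * (d * d))⁻¹ =
          d ^ (2 * k) * (d * (d * x * d⁻¹) * d⁻¹) * (d ^ (2 * k))⁻¹ by group, hs, ih]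
    obtain ⟨m, hm⟩ : Odd (3 ^ n) := Odd.pow ⟨1, rfl⟩
    apply hxc
    have h1 : d ^ (2 * m) = d⁻¹ := eq_inv_of_mul_eq_one_left (by rw [← pow_succ, ← hm, hd])
    have h2 := hk m
    rw [h1, inv_inv] at h2
    show d * x * d⁻¹ = x
    nth_rewrite 1 [← h2]
    group
  set S : Finset X := {1, x, c x, c (c x)} with hS
  have hScard : S.card = 4 := by
    simp [hS, Ne.symm hne1, Ne.symm hne2, Ne.symm hx1, Ne.symm hxc, Ne.symm hcc, Ne.symm hper]
  haveI := Fintype.ofFinite E
  haveI := Fintype.ofFinite X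
  have hSE : S = Finset.univ.filter (fun z => z ∈ E) := by
    refine Finset.eq_of_subset_of_card_le (fun z hz => ?_) ?_
    · simp only [hS, Finset.mem_insert, Finset.mem_singleton] at hz
      rcases hz with rfl | rfl | rfl | rfl
      · simp
      · simpa using hx
      · simpa using hcE x hx
      · simpa using hcE _ (hcE x hx)
    · rw [hScard, ← hE, Nat.card_eq_fintype_card, Fintype.card_subtype]
  have hall : ∀ y ∈ E, y = 1 ∨ y = x ∨ y = c x ∨ y = c (c x) := by
    intro y hy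
    have h : y ∈ S := by rw [hSE]; simpa using hy
    simpa [hS] using h
  refine ⟨?_, hall⟩
  rw [show d ^ 3 * x * (d ^ 3)⁻¹ = c (c (c x)) by simp only [hc]; rw [pow_three']; group]
  rcases hall _ (hcE _ (hcE _ (hcE x hx))) with h | h | h | h
  · exact absurd (hci (h.trans hc1.symm)) hne2
  · exact h
  · exact absurd (hci h) hper
  · exact absurd (hci h) hcc

variable (d : X) (n : ℕ) (P : Subgroup X)

/-- Fixed point free `3`-elements on `2`-groups of rank at most two have order three. -/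
theorem order_three (hn : 1 ≤ n) (hd : orderOf d = 3 ^ n) (hP : IsPGroup 2 P)
    (hdP : d ∈ normalizer (P : Set X))
    (hfaith : zpowers d ⊓ centralizer (P : Set X) = ⊥)
    (hfpf : P ⊓ centralizer {d} = ⊥)
    (hrank : ∀ V : Subgroup X, V ≤ P → IsMulCommutative V → Cfsg.PRankLE 2 2 V) :
    orderOf d = 3 := by
  classical
  haveI : Fact (Nat.Prime 2) := ⟨Nat.prime_two⟩
  by_contra hne
  have hn2 : 2 ≤ n := by
    by_contra h
    exact hne (by rw [hd, show n = 1 by omega, pow_one])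
  obtain ⟨l, rfl⟩ : ∃ l, n = l + 2 := ⟨n - 2, by omega⟩
  set f := d ^ 3 ^ l with hf
  set e := d ^ 3 ^ (l + 1) with he
  have hd1 : d ^ 3 ^ (l + 2) = 1 := hd ▸ pow_orderOf_eq_one d
  have hef : e = f ^ 3 := by rw [he, hf, ← pow_mul, ← pow_succ]
  have he3 : e ^ 3 = 1 := by rw [he, ← pow_mul, ← pow_succ]; exact hd1
  have hf9 : f ^ 9 = 1 := by
    rw [show 9 = 3 * 3 from rfl, pow_mul, ← hef, he3]
  have he1 : e ≠ 1 := by
    intro h
    have := orderOf_dvd_of_pow_eq_one h
    rw [hd, Nat.pow_dvd_pow_iff_le_right (by norm_num)] at this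
    omega
  have hfix : ∀ x ∈ P, d * x * d⁻¹ = x → x = 1 := by
    intro x hx h
    have hm : x ∈ P ⊓ centralizer {d} := Subgroup.mem_inf.2 ⟨hx, mem_centralizer_iff.2 fun y hy =>
      by rw [Set.mem_singleton_iff.1 hy]; exact mul_inv_eq_iff_eq_mul.1 h⟩
    rwa [hfpf] at hm
  -- elementary invariant subgroups are centralized by `e`
  have helem : ∀ E : Subgroup X, E ≤ P → IsMulCommutative E → (∀ x ∈ E, x ^ 2 = 1) →
      d ∈ normalizer (E : Set X) → ∀ x ∈ E, e * x * e⁻¹ = x := by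
    intro E hEP hc h2 hdE x hx
    by_cases hx1 : x = 1
    · rw [hx1]; group
    have hne' : E ≠ ⊥ := fun h => hx1 (by rw [h] at hx; exact mem_bot.1 hx)
    have h4 := card_eq_four hdE h2 (card_le_four hrank hEP hc h2)
      (fun y hy => hfix y (hEP hy)) hne'
    have h3 := (four_orbit hd1 hdE h4 (fun y hy => hfix y (hEP hy)) hx hx1).1
    rw [show e = (d ^ 3) ^ 3 ^ l by rw [he, ← pow_mul, ← pow_succ']]
    have hcm : Commute (d ^ 3) x := mul_inv_eq_iff_eq_mul.1 h3
    exact mul_inv_eq_iff_eq_mul.2 (hcm.pow_left (3 ^ l))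
  -- the minimal moved subgroup
  obtain ⟨Q, -, hQmin⟩ := Finite.exists_le_minimal (p := fun Q : Subgroup X =>
    Q ≤ P ∧ d ∈ normalizer (Q : Set X) ∧ ¬ ∀ x ∈ Q, e * x * e⁻¹ = x) (a := P)
    ⟨le_rfl, hdP, fun h => he1 (by
      have hm : e ∈ zpowers d ⊓ centralizer (P : Set X) := Subgroup.mem_inf.2
        ⟨pow_mem (mem_zpowers d) _, mem_centralizer_iff.2 fun x hx =>
          (mul_inv_eq_iff_eq_mul.1 (h x hx)).symm⟩
      rwa [hfaith] at hm)⟩
  obtain ⟨hQP, hdQ, hQmoved⟩ := hQmin.prop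
  have heQ : e ∈ normalizer (Q : Set X) := pow_mem hdQ _
  have hfQ : f ∈ normalizer (Q : Set X) := pow_mem hdQ _
  have hde : Commute d e := (Commute.refl d).pow_right _
  have hprop : ∀ R : Subgroup X, R ≤ Q → R ≠ Q → d ∈ normalizer (R : Set X) →
      ∀ x ∈ R, e * x * e⁻¹ = x := by
    intro R hR hne' hdR
    by_contra h
    exact hne' (le_antisymm hR (hQmin.le_of_le ⟨hR.trans hQP, hdR, h⟩ hR))
  have hQp : IsPGroup 2 Q := hP.to_le hQP
  haveI : Group.IsNilpotent Q := hQp.isNilpotent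
  -- the fixed points
  set Z := Q ⊓ centralizer {e} with hZ
  have hZmem : ∀ x, x ∈ Z ↔ x ∈ Q ∧ e * x * e⁻¹ = x := by
    intro x
    rw [hZ, Subgroup.mem_inf]
    refine and_congr_right fun _ => ?_
    rw [mem_centralizer_singleton_iff, mul_inv_eq_iff_eq_mul, eq_comm]
  have hdZ : d ∈ normalizer (Z : Set X) := by
    rw [mem_normalizer_iff]
    intro x
    rw [hZmem, hZmem]
    refine and_congr (mem_normalizer_iff.1 hdQ x) ?_
    have : e * (d * x * d⁻¹) * e⁻¹ = d * (e * x * e⁻¹) * d⁻¹ := by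
      calc e * (d * x * d⁻¹) * e⁻¹ = (e * d) * x * (e * d)⁻¹ := by group
        _ = (d * e) * x * (d * e)⁻¹ := by rw [hde.eq]
        _ = d * (e * x * e⁻¹) * d⁻¹ := by group
    rw [this]
    exact ⟨fun h => by rw [h], fun h => mul_left_cancel (mul_right_cancel h)⟩
  have hZQ : Z ≤ Q := inf_le_left
  have hZne : Z ≠ Q := fun h => hQmoved fun x hx => ((hZmem x).1 (h.ge hx)).2
  have hprop' : ∀ R : Subgroup X, R ≤ Q → R ≠ Q → d ∈ normalizer (R : Set X) → R ≤ Z :=
    fun R hR hne' hdR x hx => (hZmem x).2 ⟨hR hx, hprop R hR hne' hdR x hx⟩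
  -- the Frattini subgroup is fixed
  have hcm : ∀ x ∈ Q, ∀ y ∈ Q, x * y * x⁻¹ * y⁻¹ ∈ Z := by
    have hlt : ⁅Q, Q⁆ ≠ Q := by
      intro h
      have hbot : Q ≠ ⊥ := fun h' => hQmoved fun x hx => by
        rw [h'] at hx; rw [mem_bot.1 hx]; group
      haveI : Nontrivial Q := (Q.nontrivial_iff_ne_bot).2 hbot
      refine (IsSolvable.commutator_lt_top_of_nontrivial ↥Q).ne ?_
      refine map_injective Q.subtype_injective ?_
      rw [← MonoidHom.range_eq_map, range_subtype]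
      conv_rhs => rw [← h]
      exact map_subtype_commutator Q
    have h1 := hprop' ⁅Q, Q⁆ (commutator_le_self Q) hlt
      ((CfsgLib.CommContain.le_normalizer_commutator (zpowers_le.2 hdQ) (zpowers_le.2 hdQ))
        (mem_zpowers d))
    exact fun x hx y hy => h1 (by
      have := commutator_mem_commutator hx hy
      rwa [commutatorElement_def] at this)
  have hsq : ∀ x ∈ Q, x ^ 2 ∈ Z := by
    intro x hx
    let Φ := (frattini ↥Q).map Q.subtype
    have hΦne : Φ ≠ Q := by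
      intro h
      have hbot : Q ≠ ⊥ := fun h' => hQmoved fun x hx => by
        rw [h'] at hx; rw [mem_bot.1 hx]; group
      haveI : Nontrivial Q := (Q.nontrivial_iff_ne_bot).2 hbot
      obtain ⟨M, hM, -⟩ := (eq_top_or_exists_le_coatom (⊥ : Subgroup Q)).resolve_left bot_ne_top
      refine hM.1 (top_le_iff.1 (le_of_eq_of_le ?_ (Order.radical_le_coatom hM)))
      refine map_injective Q.subtype_injective ?_
      rw [← MonoidHom.range_eq_map, range_subtype]
      exact h.symm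
    have hdΦ : d ∈ normalizer (Φ : Set X) := by
      haveI : (frattini ↥Q).Characteristic := inferInstance
      rw [mem_normalizer_iff]
      have key : ∀ g ∈ normalizer (Q : Set X), ∀ z ∈ Φ, g * z * g⁻¹ ∈ Φ := by
        rintro g hg _ ⟨z, hz, rfl⟩
        refine ⟨Q.normalizerMonoidHom ⟨g, hg⟩ z, ?_, rfl⟩
        exact (Subgroup.characteristic_iff_map_eq.1 inferInstance
          (Q.normalizerMonoidHom ⟨g, hg⟩)).le (mem_map_of_mem _ hz)
      exact fun z => ⟨key d hdQ z, fun h => by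
        simpa [mul_assoc] using key d⁻¹ (inv_mem hdQ) _ h⟩
    exact hprop' Φ (map_subtype_le _) hΦne hdΦ
      (mem_map_of_mem Q.subtype (CfsgLib.Coprime.pow_mem_frattini hQp ⟨x, hx⟩))
  -- a commutative invariant subgroup moved by `e` is impossible
  set D := ⁅Q, Q⁆ with hD
  have hDZ : D ≤ Z := commutator_le.2 fun x hx y hy => by
    rw [commutatorElement_def]; exact hcm x hx y hy
  -- `Z` is central
  have hgen : ∀ z ∈ Z, ∀ q ∈ Q, q * z = z * q := by
    intro z hz
    have hzQ := hZQ hz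
    have hez : Commute e z := mul_inv_eq_iff_eq_mul.1 ((hZmem z).1 hz).2
    set C := Q ⊓ centralizer {z} with hC
    have h1 : ∀ q ∈ Q, q⁻¹ * (e * q * e⁻¹) ∈ C := by
      intro q hq
      have hq' : e * q * e⁻¹ ∈ Q := (mem_normalizer_iff.1 heQ q).1 hq
      refine Subgroup.mem_inf.2 ⟨mul_mem (inv_mem hq) hq', ?_⟩
      have h := ((hZmem _).1 (hcm q hq z hzQ)).2
      have h' : (e * q * e⁻¹) * z * (e * q * e⁻¹)⁻¹ = q * z * q⁻¹ :=
        calc (e * q * e⁻¹) * z * (e * q * e⁻¹)⁻¹ = e * q * (e⁻¹ * z * e) * q⁻¹ * e⁻¹ := by group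
          _ = e * q * z * q⁻¹ * e⁻¹ := by
            rw [show e⁻¹ * z * e = z by rw [mul_assoc, ← hez.eq, inv_mul_cancel_left]]
          _ = e * (q * z * q⁻¹ * z⁻¹) * e⁻¹ * (e * z * e⁻¹) := by group
          _ = q * z * q⁻¹ := by rw [h, ((hZmem z).1 hz).2, inv_mul_cancel_right]
      rw [mem_centralizer_singleton_iff]
      calc q⁻¹ * (e * q * e⁻¹) * z = q⁻¹ * ((e * q * e⁻¹) * z * (e * q * e⁻¹)⁻¹) *
            (e * q * e⁻¹) := by group
        _ = z * (q⁻¹ * (e * q * e⁻¹)) := by rw [h']; group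
    -- the subgroup generated by these elements is moved
    set R := closure {y | ∃ q ∈ Q, y = q⁻¹ * (e * q * e⁻¹)} with hR
    have hRQ : R ≤ Q := (closure_le _).2 fun y ⟨q, hq, hy⟩ => hy ▸
      mul_mem (inv_mem hq) ((mem_normalizer_iff.1 heQ q).1 hq)
    have hdR : d ∈ normalizer (R : Set X) := by
      rw [mem_normalizer_iff_map_conj_eq, hR, MonoidHom.map_closure]
      congr 1
      ext y
      simp only [Set.mem_image, Set.mem_ofPred_eq, MulEquiv.coe_toMonoidHom, MulAut.conj_apply]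
      constructor
      · rintro ⟨_, ⟨q, hq, rfl⟩, rfl⟩
        refine ⟨d * q * d⁻¹, (mem_normalizer_iff.1 hdQ q).1 hq, ?_⟩
        calc d * (q⁻¹ * (e * q * e⁻¹)) * d⁻¹
            = (d * q * d⁻¹)⁻¹ * ((d * e) * q * (d * e)⁻¹) := by group
          _ = (d * q * d⁻¹)⁻¹ * ((e * d) * q * (e * d)⁻¹) := by rw [hde.eq]
          _ = _ := by group
      · rintro ⟨q, hq, rfl⟩
        refine ⟨_, ⟨d⁻¹ * q * d, (mem_normalizer_iff''.1 hdQ q).1 hq, rfl⟩, ?_⟩
        calc d * ((d⁻¹ * q * d)⁻¹ * (e * (d⁻¹ * q * d) * e⁻¹)) * d⁻¹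
            = q⁻¹ * ((d * e) * d⁻¹ * q * ((d * e) * d⁻¹)⁻¹) := by group
          _ = q⁻¹ * ((e * d) * d⁻¹ * q * ((e * d) * d⁻¹)⁻¹) := by rw [hde.eq]
          _ = _ := by group
    have hRQeq : R = Q := by
      by_contra hne'
      have hfixR := hprop R hRQ hne' hdR
      apply hQmoved
      intro q hq
      set u := q⁻¹ * (e * q * e⁻¹) with hu
      have hfu := hfixR u (subset_closure ⟨q, hq, rfl⟩)
      have heq : e * q * e⁻¹ = q * u := by rw [hu]; group
      have hu3 : q * u ^ 3 = q := by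
        calc q * u ^ 3 = q * u * u * u := by rw [pow_three']; group
          _ = (e * q * e⁻¹) * (e * u * e⁻¹) * (e * u * e⁻¹) := by rw [heq, hfu]
          _ = e * (q * u * u) * e⁻¹ := by group
          _ = e * (q * u) * u * e⁻¹ := by rw [mul_assoc e (q * u) u]
          _ = e * ((e * q * e⁻¹) * (e * u * e⁻¹)) * e⁻¹ := by rw [heq, hfu, mul_assoc e (q * u) u]
          _ = e * e * (q * u) * (e * e)⁻¹ := by group
          _ = e * e * (e * q * e⁻¹) * (e * e)⁻¹ := by rw [heq]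
          _ = e ^ 3 * q * (e ^ 3)⁻¹ := by rw [pow_three']; group
          _ = q := by rw [he3, one_mul, inv_one, mul_one]
      have hu3' : u ^ 3 = 1 := mul_left_cancel (hu3.trans (mul_one q).symm)
      obtain ⟨k, hk⟩ := hQp ⟨u, hRQ (subset_closure ⟨q, hq, rfl⟩)⟩
      have hu1 : u = 1 := orderOf_eq_one_iff.1 (Nat.eq_one_of_dvd_coprimes
        (Nat.Coprime.pow_left k (by norm_num : Nat.Coprime 2 3))
        (orderOf_dvd_of_pow_eq_one (by simpa using congrArg Subtype.val hk))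
        (orderOf_dvd_of_pow_eq_one hu3'))
      rw [heq, hu1, mul_one]
    intro q hq
    have hle : R ≤ C := (closure_le _).2 fun y ⟨q, hq, hy⟩ => hy ▸ h1 q hq
    exact mem_centralizer_singleton_iff.1 (Subgroup.mem_inf.1 (hle (hRQeq.ge hq))).2
  -- bilinearity of commutators
  let b : X → X → X := fun x y => x * y * x⁻¹ * y⁻¹
  have hbZ : ∀ x ∈ Q, ∀ y ∈ Q, b x y ∈ Z := hcm
  have hbl : ∀ x ∈ Q, ∀ x' ∈ Q, ∀ y ∈ Q, b (x * x') y = b x y * b x' y := by
    intro x hx x' hx' y hy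
    have h := hgen _ (hbZ x' hx' y hy) x hx
    calc b (x * x') y = x * b x' y * (y * x⁻¹ * y⁻¹) := by simp only [b]; group
      _ = b x' y * x * (y * x⁻¹ * y⁻¹) := by rw [h]
      _ = b x' y * b x y := by simp only [b]; group
      _ = b x y * b x' y := (hgen _ (hbZ x' hx' y hy) _ (hZQ (hbZ x hx y hy))).symm
  have hbr : ∀ x ∈ Q, ∀ y ∈ Q, ∀ y' ∈ Q, b x (y * y') = b x y * b x y' := by
    intro x hx y hy y' hy'
    have h := hgen _ (hbZ x hx y' hy') y hy
    calc b x (y * y') = (x * y * x⁻¹) * b x y' * y⁻¹ := by simp only [b]; group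
      _ = (x * y * x⁻¹) * (y⁻¹ * (y * b x y')) * y⁻¹ := by group
      _ = (x * y * x⁻¹) * (y⁻¹ * (b x y' * y)) * y⁻¹ := by rw [h]
      _ = b x y * b x y' := by simp only [b]; group
  have hb1 : ∀ x ∈ Q, ∀ z ∈ Z, b x z = 1 ∧ b z x = 1 := by
    intro x hx z hz
    refine ⟨?_, ?_⟩
    · simp only [b]; rw [hgen z hz x hx]; group
    · simp only [b]; rw [← hgen z hz x hx]; group
  -- the elementary abelian derived subgroup
  have hDc : IsMulCommutative D :=
    ⟨⟨fun a c => Subtype.ext (hgen _ (hDZ c.2) _ (hZQ (hDZ a.2)))⟩⟩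
  have hD2 : ∀ x ∈ D, x ^ 2 = 1 := by
    have hgen2 : ∀ x ∈ Q, ∀ y ∈ Q, b x y ^ 2 = 1 := fun x hx y hy => by
      rw [pow_two, ← hbl x hx x hx y hy, ← pow_two]
      exact (hb1 y hy _ (hsq x hx)).2
    intro x hx
    rw [hD, Subgroup.commutator_def] at hx
    induction hx using closure_induction with
    | mem x hx =>
      obtain ⟨u, hu, v, hv, rfl⟩ := hx
      rw [commutatorElement_def]; exact hgen2 u hu v hv
    | one => exact one_pow 2
    | mul x y hx hy hx2 hy2 =>
      have hxy : Commute x y := by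
        have hx' : x ∈ D := by rw [hD, Subgroup.commutator_def]; exact hx
        have hy' : y ∈ D := by rw [hD, Subgroup.commutator_def]; exact hy
        exact congrArg Subtype.val (hDc.1.comm ⟨x, hx'⟩ ⟨y, hy'⟩)
      rw [hxy.mul_pow, hx2, hy2, one_mul]
    | inv x hx hx2 => rw [inv_pow, hx2, inv_one]
  have hdD : d ∈ normalizer (D : Set X) :=
    (CfsgLib.CommContain.le_normalizer_commutator (zpowers_le.2 hdQ) (zpowers_le.2 hdQ))
      (mem_zpowers d)
  -- an abelian subgroup cannot be moved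
  have habel : ∀ A : Subgroup X, A ≤ Q → (∀ x ∈ A, ∀ y ∈ A, x * y = y * x) →
      e ∈ normalizer (A : Set X) → D ≤ A → (D = ⊥ → d ∈ normalizer (A : Set X)) →
      ∀ x ∈ A, e * x * e⁻¹ = x := by
    intro A hAQ hAc heA hDA hdA
    refine fixed_of_fix_involutions e 3 ⟨1, rfl⟩ he3 A (hQp.to_le hAQ) hAc heA ?_
    intro x hx hx2
    let E : Subgroup X :=
      { carrier := {y | y ∈ A ∧ y ^ 2 = 1}
        one_mem' := ⟨one_mem A, one_pow 2⟩
        mul_mem' := fun {a c} ha hc => ⟨mul_mem ha.1 hc.1, by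
          rw [(show Commute a c from hAc a ha.1 c hc.1).mul_pow, ha.2, hc.2, one_mul]⟩
        inv_mem' := fun {a} ha => ⟨inv_mem ha.1, by rw [inv_pow, ha.2, inv_one]⟩ }
    have hEc : IsMulCommutative E := ⟨⟨fun a c => Subtype.ext (hAc _ a.2.1 _ c.2.1)⟩⟩
    have hEP : E ≤ P := fun y hy => hQP (hAQ hy.1)
    by_cases hD0 : D = ⊥
    · refine helem E hEP hEc (fun y hy => hy.2) ?_ x ⟨hx, hx2⟩
      rw [mem_normalizer_iff]
      intro y
      refine and_congr (mem_normalizer_iff.1 (hdA hD0) y) ?_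
      rw [conj_pow, conj_eq_one_iff]
    · have h4 := card_eq_four hdD hD2 (card_le_four hrank (hDZ.trans (hZQ.trans hQP)) hDc hD2)
        (fun y hy => hfix y (hQP (hZQ (hDZ hy)))) hD0
      have hDE : D ≤ E := fun y hy => ⟨hDA hy, hD2 y hy⟩
      have hEeq : D = E := eq_of_le_of_card_ge hDE
        (h4 ▸ card_le_four hrank hEP hEc fun y hy => hy.2)
      exact ((hZmem x).1 (hDZ (hEeq.ge ⟨hx, hx2⟩))).2
  have hD0 : D ≠ ⊥ := by
    intro h
    refine hQmoved (habel Q le_rfl (fun x hx y hy => ?_) heQ (h ▸ bot_le) fun _ => hdQ)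
    exact commutatorElement_eq_one_iff_mul_comm.1
      (mem_bot.1 (h ▸ commutator_mem_commutator hx hy))
  -- the anisotropic form
  let g : X → X := fun x => b x (e * x * e⁻¹)
  have heQ' : ∀ x ∈ Q, e * x * e⁻¹ ∈ Q := fun x hx => (mem_normalizer_iff.1 heQ x).1 hx
  have hgne : ∀ x ∈ Q, g x = 1 → x ∈ Z := by
    intro x hx hgx
    have hex := heQ' x hx
    have hc1 : Commute x (e * x * e⁻¹) := by
      have h : x * (e * x * e⁻¹) * x⁻¹ * (e * x * e⁻¹)⁻¹ = 1 := hgx
      exact commutatorElement_eq_one_iff_mul_comm.1 (by rw [commutatorElement_def]; exact h)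
    set y := e * x * e⁻¹ with hy
    set w := e * y * e⁻¹ with hw
    have hwQ : w ∈ Q := heQ' y hex
    have hwx : e * w * e⁻¹ = x := by
      calc e * w * e⁻¹ = e ^ 3 * x * (e ^ 3)⁻¹ := by rw [hw, hy, pow_three']; group
        _ = x := by rw [he3, one_mul, inv_one, mul_one]
    have hc2 : Commute y w := by
      have h := congrArg (MulAut.conj e) hc1.eq
      simpa [Commute, SemiconjBy, hy, hw] using h
    have hc3 : Commute w x := by
      have h := congrArg (MulAut.conj e) hc2.eq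
      simp only [map_mul, MulAut.conj_apply] at h
      rw [hwx, ← hw] at h
      exact h
    set S : Set X := (D : Set X) ∪ {x, y, w} with hS
    have hScomm : ∀ u ∈ S, ∀ v ∈ S, u * v = v * u := by
      have hDall : ∀ u ∈ D, ∀ v ∈ Q, v * u = u * v := fun u hu => hgen u (hDZ hu)
      have hSQ : ∀ u ∈ S, u ∈ Q := by
        rintro u (hu | rfl | rfl | rfl)
        · exact hZQ (hDZ hu)
        · exact hx
        · exact hex
        · exact hwQ
      rintro u (hu | hu) v hv
      · exact (hDall u hu v (hSQ v hv)).symm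
      · rcases hv with hv | hv
        · exact hDall v hv u (hSQ u (Or.inr hu))
        · rcases hu with rfl | rfl | rfl <;> rcases hv with rfl | rfl | rfl <;>
            first
            | rfl
            | exact hc1.eq | exact hc1.eq.symm | exact hc2.eq | exact hc2.eq.symm
            | exact hc3.eq | exact hc3.eq.symm
    set A := closure S with hA
    have hAc := isMulCommutative_closure (k := S) hScomm
    have heA : e ∈ normalizer (A : Set X) := by
      rw [mem_normalizer_iff_map_conj_eq, hA, MonoidHom.map_closure]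
      congr 1
      rw [hS, Set.image_union, Set.image_insert_eq, Set.image_pair]
      simp only [MonoidHom.coe_coe, MulEquiv.coe_toMonoidHom, MulAut.conj_apply]
      rw [← hy, ← hw, hwx]
      have hDim : (fun z => e * z * e⁻¹) '' (D : Set X) = D := by
        have heD : e ∈ normalizer (D : Set X) := pow_mem hdD _
        ext z
        simp only [Set.mem_image, SetLike.mem_coe]
        refine ⟨?_, fun hz => ⟨e⁻¹ * z * e, (mem_normalizer_iff''.1 heD z).1 hz, by group⟩⟩
        rintro ⟨z', hz', rfl⟩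
        exact (mem_normalizer_iff.1 heD z').1 hz'
      refine congrArg₂ (· ∪ ·) ((Set.image_congr' fun z => MulAut.conj_apply e z).trans hDim) ?_
      rw [Set.pair_comm w x, Set.insert_comm]
    refine (hZmem x).2 ⟨hx, habel A ((closure_le _).2 ?_) ?_ heA
      (fun u hu => subset_closure (Or.inl hu)) (fun h => absurd h hD0) x
      (subset_closure (Or.inr (Or.inl rfl)))⟩
    · rintro u (hu | rfl | rfl | rfl)
      · exact hZQ (hDZ hu)
      · exact hx
      · exact hex
      · exact hwQ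
    · exact fun u hu v hv => congrArg Subtype.val (hAc.1.comm ⟨u, hu⟩ ⟨v, hv⟩)
  have hD4 := card_eq_four hdD hD2 (card_le_four hrank (hDZ.trans (hZQ.trans hQP)) hDc hD2)
    (fun y hy => hfix y (hQP (hZQ (hDZ hy)))) hD0
  have hgD : ∀ x ∈ Q, g x ∈ D := fun x hx => by
    have := commutator_mem_commutator hx (heQ' x hx)
    rwa [commutatorElement_def] at this
  have hgZ : ∀ x ∈ Q, ∀ z ∈ Z, g (x * z) = g x := by
    intro x hx z hz
    have he' : e * (x * z) * e⁻¹ = e * x * e⁻¹ * z := by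
      rw [show e * (x * z) * e⁻¹ = e * x * e⁻¹ * (e * z * e⁻¹) by group, ((hZmem z).1 hz).2]
    simp only [g]
    rw [he', hbl x hx z (hZQ hz) _ (mul_mem (heQ' x hx) (hZQ hz)),
      hbr x hx _ (heQ' x hx) z (hZQ hz), (hb1 x hx z hz).1,
      (hb1 _ (mul_mem (heQ' x hx) (hZQ hz)) z hz).2, mul_one, mul_one]
  obtain ⟨u, hu, hu1⟩ := (bot_or_exists_ne_one D).resolve_left hD0
  obtain ⟨-, horb⟩ := four_orbit hd1 hdD hD4 (fun y hy => hfix y (hQP (hZQ (hDZ hy)))) hu hu1
  set v := d * u * d⁻¹ with hv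
  set w := d * v * d⁻¹ with hw
  have hvD : v ∈ D := (mem_normalizer_iff.1 hdD u).1 hu
  have hwD : w ∈ D := (mem_normalizer_iff.1 hdD v).1 hvD
  have hv1 : v ≠ 1 := by rw [hv, Ne, conj_eq_one_iff]; exact hu1
  have hw1 : w ≠ 1 := by rw [hw, Ne, conj_eq_one_iff]; exact hv1
  have huv : v ≠ u := fun h => hu1 (hfix u (hQP (hZQ (hDZ hu))) h)
  have hvw : w ≠ v := fun h => hv1 (hfix v (hQP (hZQ (hDZ hvD))) h)
  have hd3u : d * w * d⁻¹ = u := by
    rcases horb _ ((mem_normalizer_iff.1 hdD w).1 hwD) with h | h | h | h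
    · exact absurd h (by rw [conj_eq_one_iff]; exact hw1)
    · exact h
    · exfalso
      have h' : d * w * d⁻¹ = d * u * d⁻¹ := h
      have hwu : w = u := mul_left_cancel (mul_right_cancel h')
      have hh := (four_orbit hd1 hdD hD4 (fun y hy => hfix y (hQP (hZQ (hDZ hy)))) hu hu1).1
      rw [show d ^ 3 * u * (d ^ 3)⁻¹ = d * w * d⁻¹ by rw [hw, hv, pow_three']; group, h] at hh
      exact huv (hh.trans rfl)
    · exact absurd (mul_left_cancel (mul_right_cancel h)) hvw
  have hwu : w ≠ u := fun h => huv (by rw [← hd3u, h, hv])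
  let χ : X → ℤ := fun y => if y = 1 ∨ y = u then 1 else -1
  have hχ : ∀ a ∈ D, ∀ c ∈ D, χ (a * c) = χ a * χ c := by
    have hcD : ∀ a ∈ D, ∀ c ∈ D, a * c = c * a := fun a ha c hc =>
      congrArg Subtype.val (hDc.1.comm ⟨a, ha⟩ ⟨c, hc⟩)
    have hinv : ∀ a ∈ D, a⁻¹ = a := fun a ha => inv_eq_of_mul_eq_one_right (by
      rw [← pow_two]; exact hD2 a ha)
    have h3 : u * v = w := by
      rcases horb _ (mul_mem hu hvD) with h | h | h | h
      · exact absurd ((eq_inv_of_mul_eq_one_right h).trans (hinv u hu)) huv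
      · exact absurd (mul_left_cancel (h.trans (mul_one u).symm)) hv1
      · exact absurd (mul_right_cancel (h.trans (one_mul v).symm)) hu1
      · exact h
    have huu : u * u = 1 := by rw [← pow_two]; exact hD2 u hu
    have hvv : v * v = 1 := by rw [← pow_two]; exact hD2 v hvD
    have hww : w * w = 1 := by rw [← pow_two]; exact hD2 w hwD
    have huw : u * w = v := by rw [← h3, ← mul_assoc, huu, one_mul]
    have hvw' : v * w = u := by rw [← h3, hcD u hu v hvD, ← mul_assoc, hvv, one_mul]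
    intro a ha c hc
    rcases horb a ha with h | h | h | h <;> rcases horb c hc with h' | h' | h' | h' <;>
      simp [χ, h, h', ← hv, ← hw, h3, huu, hvv, hww, huw, hvw', hcD v hvD u hu, hcD w hwD u hu,
        hcD w hwD v hvD, hu1, hv1, hw1, huv, hwu]
  have hχsq : ∀ a, χ a * χ a = 1 := fun a => by simp only [χ]; split_ifs <;> norm_num
  -- pass to the quotient
  haveI hZn : (Z.subgroupOf Q).Normal := by
    refine ⟨fun z hz q => ?_⟩
    rw [mem_subgroupOf] at hz ⊢
    have h := hgen _ hz q q.2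
    rw [Subgroup.coe_mul, Subgroup.coe_mul, Subgroup.coe_inv, h, mul_inv_cancel_right]
    exact hz
  haveI := Fintype.ofFinite (↥Q ⧸ Z.subgroupOf Q)
  let G : ↥Q ⧸ Z.subgroupOf Q → X := Quotient.lift (fun x : ↥Q => g x) (by
    intro x y h
    have h' : x⁻¹ * y ∈ Z.subgroupOf Q := QuotientGroup.leftRel_apply.1 h
    have e' : (y : X) = (x : X) * ((x : X)⁻¹ * y) := by group
    show g x = g y
    have hm : (x : X)⁻¹ * y ∈ Z := mem_subgroupOf.1 h'
    rw [e', hgZ x x.2 _ hm])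
  have hG : ∀ x : ↥Q, G (x : ↥Q ⧸ Z.subgroupOf Q) = g x := fun x => rfl
  have hGD : ∀ a, G a ∈ D := by
    intro a; obtain ⟨x, rfl⟩ := QuotientGroup.mk_surjective a; rw [hG]; exact hgD x x.2
  let F : ↥Q ⧸ Z.subgroupOf Q → ℤ := fun a => χ (G a)
  have hgmul : ∀ x ∈ Q, ∀ y ∈ Q,
      g (x * y) = g x * g y * (b x (e * y * e⁻¹) * b y (e * x * e⁻¹)) := by
    intro x hx y hy
    have h1 := hgen _ (hbZ x hx _ (heQ' y hy)) (b y (e * x * e⁻¹)) (hZQ (hbZ y hy _ (heQ' x hx)))
    simp only [g]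
    rw [show e * (x * y) * e⁻¹ = (e * x * e⁻¹) * (e * y * e⁻¹) by group,
      hbl x hx y hy _ (mul_mem (heQ' x hx) (heQ' y hy)), hbr x hx _ (heQ' x hx) _ (heQ' y hy),
      hbr y hy _ (heQ' x hx) _ (heQ' y hy)]
    have hcc : ∀ p ∈ Z, ∀ q ∈ Z, p * q = q * p := fun p hp q hq => hgen q hq p (hZQ hp)
    set A1 := b x (e * x * e⁻¹)
    set A2 := b x (e * y * e⁻¹)
    set B1 := b y (e * x * e⁻¹)
    set B2 := b y (e * y * e⁻¹)
    have hA2 : A2 ∈ Z := hbZ x hx _ (heQ' y hy)
    have hB1 : B1 ∈ Z := hbZ y hy _ (heQ' x hx)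
    have hB2 : B2 ∈ Z := hbZ y hy _ (heQ' y hy)
    calc A1 * A2 * (B1 * B2) = A1 * ((A2 * B1) * B2) := by group
      _ = A1 * (B2 * (A2 * B1)) := by rw [hcc _ (mul_mem hA2 hB1) _ hB2]
      _ = A1 * B2 * (A2 * B1) := by group
  have hbD : ∀ x ∈ Q, ∀ y ∈ Q, b x y ∈ D := fun x hx y hy => by
    have := commutator_mem_commutator hx hy
    rwa [commutatorElement_def] at this
  have hFmul : ∀ x y : ↥Q, F ((x * y : ↥Q) : ↥Q ⧸ Z.subgroupOf Q) =
      F x * F y * (χ (b (x : X) (e * y * e⁻¹)) * χ (b (y : X) (e * x * e⁻¹))) := by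
    intro x y
    simp only [F, hG]
    rw [Subgroup.coe_mul, hgmul _ x.2 _ y.2,
      hχ _ (mul_mem (hgD _ x.2) (hgD _ y.2)) _
        (mul_mem (hbD _ x.2 _ (heQ' _ y.2)) (hbD _ y.2 _ (heQ' _ x.2))),
      hχ _ (hgD _ x.2) _ (hgD _ y.2),
      hχ _ (hbD _ x.2 _ (heQ' _ y.2)) _ (hbD _ y.2 _ (heQ' _ x.2))]
  have hFsq : ∀ a, F a * F a = 1 := fun a => hχsq _
  have hβ : ∀ h x y, F (x * y * h) * F (x * y) * F h =
      (F (x * h) * F x * F h) * (F (y * h) * F y * F h) := by
    intro h x y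
    obtain ⟨h, rfl⟩ := QuotientGroup.mk_surjective h
    obtain ⟨x, rfl⟩ := QuotientGroup.mk_surjective x
    obtain ⟨y, rfl⟩ := QuotientGroup.mk_surjective y
    rw [← QuotientGroup.mk_mul, ← QuotientGroup.mk_mul, ← QuotientGroup.mk_mul,
      ← QuotientGroup.mk_mul, hFmul (x * y) h, hFmul x h, hFmul y h]
    simp only [Subgroup.coe_mul]
    rw [hbl _ x.2 _ y.2 _ (heQ' _ h.2), show e * ((x : X) * y) * e⁻¹ = (e * x * e⁻¹) * (e * y * e⁻¹)
      by group, hbr _ h.2 _ (heQ' _ x.2) _ (heQ' _ y.2),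
      hχ _ (hbD _ x.2 _ (heQ' _ h.2)) _ (hbD _ y.2 _ (heQ' _ h.2)),
      hχ _ (hbD _ h.2 _ (heQ' _ x.2)) _ (hbD _ h.2 _ (heQ' _ y.2))]
    set p1 := χ (b (x : X) (e * h * e⁻¹))
    set p2 := χ (b (y : X) (e * h * e⁻¹))
    set q1 := χ (b (h : X) (e * x * e⁻¹))
    set q2 := χ (b (h : X) (e * y * e⁻¹))
    set a := F ((x * y : ↥Q) : ↥Q ⧸ Z.subgroupOf Q)
    set c := F (h : ↥Q ⧸ Z.subgroupOf Q)
    set ax := F (x : ↥Q ⧸ Z.subgroupOf Q)
    set ay := F (y : ↥Q ⧸ Z.subgroupOf Q)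
    have e1 : a * a = 1 := hFsq _
    have e2 : c * c = 1 := hFsq _
    have e3 : ax * ax = 1 := hFsq _
    have e4 : ay * ay = 1 := hFsq _
    calc a * c * (p1 * p2 * (q1 * q2)) * a * c = (a * a) * (c * c) * (p1 * p2 * (q1 * q2)) := by ring
      _ = (p1 * q1) * (p2 * q2) := by rw [e1, e2]; ring
      _ = ((ax * ax) * (c * c) * (p1 * q1)) * ((ay * ay) * (c * c) * (p2 * q2)) := by
        rw [e2, e3, e4]; ring
      _ = _ := by ring
  -- the action of `d` on the quotient
  have hGd : ∀ x : ↥Q, g (d * x * d⁻¹) = d * g x * d⁻¹ := by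
    intro x
    have h : e * (d * (x : X) * d⁻¹) * e⁻¹ = d * (e * x * e⁻¹) * d⁻¹ := by
      calc e * (d * (x : X) * d⁻¹) * e⁻¹ = (e * d) * x * (e * d)⁻¹ := by group
        _ = (d * e) * x * (d * e)⁻¹ := by rw [hde.eq]
        _ = _ := by group
    simp only [g, b]
    rw [h]; group
  have hZd : ∀ x : ↥Q, (x : X) ∈ Z ↔ d * (x : X) * d⁻¹ ∈ Z := fun x => mem_normalizer_iff.1 hdZ x
  let σ : ↥Q →* ↥Q := (Q.normalizerMonoidHom ⟨d, hdQ⟩).toMonoidHom
  have hσ : ∀ x : ↥Q, (σ x : X) = d * x * d⁻¹ := fun x => rfl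
  let τ : ↥Q ⧸ Z.subgroupOf Q →* ↥Q ⧸ Z.subgroupOf Q :=
    QuotientGroup.map (Z.subgroupOf Q) (Z.subgroupOf Q) σ fun x hx => by
      rw [mem_comap, mem_subgroupOf, hσ]; exact (hZd x).1 hx
  have hτ : ∀ a, G (τ a) = d * G a * d⁻¹ := by
    intro a
    obtain ⟨x, rfl⟩ := QuotientGroup.mk_surjective a
    rw [show τ (x : ↥Q ⧸ Z.subgroupOf Q) = ((σ x : ↥Q) : ↥Q ⧸ Z.subgroupOf Q) from rfl, hG, hG,
      hσ, hGd]
  have hτi : Function.Injective τ := by
    rw [injective_iff_map_eq_one]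
    intro a
    obtain ⟨x, rfl⟩ := QuotientGroup.mk_surjective a
    intro h
    rw [show τ (x : ↥Q ⧸ Z.subgroupOf Q) = ((σ x : ↥Q) : ↥Q ⧸ Z.subgroupOf Q) from rfl,
      QuotientGroup.eq_one_iff, mem_subgroupOf, hσ] at h
    exact (QuotientGroup.eq_one_iff x).2 ((hZd x).2 h)
  have hG1 : ∀ a, G a = 1 ↔ a = 1 := by
    intro a
    obtain ⟨x, rfl⟩ := QuotientGroup.mk_surjective a
    rw [hG, QuotientGroup.eq_one_iff, mem_subgroupOf]
    refine ⟨hgne x x.2, fun h => ?_⟩
    show b (x : X) (e * x * e⁻¹) = 1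
    rw [((hZmem _).1 h).2]
    exact (hb1 _ x.2 _ h).1
  let fib : X → Finset (↥Q ⧸ Z.subgroupOf Q) := fun y => Finset.univ.filter (fun a => G a = y)
  have hfibd : ∀ y, (fib y).card ≤ (fib (d * y * d⁻¹)).card := by
    intro y
    refine Finset.card_le_card_of_injOn τ (fun a ha => ?_) (hτi.injOn)
    simp only [fib, Finset.coe_filter, Finset.mem_univ, true_and, Set.mem_ofPred_eq] at ha ⊢
    rw [hτ, ha]
  have h1 := hfibd u
  have h2 := hfibd v
  have h3 := hfibd w
  rw [← hv] at h1; rw [← hw] at h2; rw [hd3u] at h3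
  set N := (fib u).card with hN
  have hNv : (fib v).card = N := by omega
  have hNw : (fib w).card = N := by omega
  have hsum : ∀ φ : X → ℤ, ∑ a, φ (G a) = φ 1 + (N : ℤ) * (φ u + φ v + φ w) := by
    intro φ
    have h4 : ({1, u, v, w} : Finset X) = insert 1 {u, v, w} := rfl
    rw [← Finset.sum_fiberwise_of_maps_to (g := G) (t := ({1, u, v, w} : Finset X))
      (fun a _ => by
        simp only [Finset.mem_insert, Finset.mem_singleton]
        exact horb _ (hGD a)) (fun a => φ (G a))]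
    have hf' : ∀ y, ∑ a ∈ Finset.univ.filter (fun a => G a = y), φ (G a) = (fib y).card • φ y := by
      intro y
      rw [Finset.sum_congr rfl fun a ha => by rw [(Finset.mem_filter.1 ha).2], Finset.sum_const]
    simp only [hf']
    rw [h4, Finset.sum_insert (by simp [Ne.symm hu1, Ne.symm hv1, Ne.symm hw1]),
      Finset.sum_insert (by simp [Ne.symm huv, Ne.symm hwu]),
      Finset.sum_insert (by simp [Ne.symm hvw]), Finset.sum_singleton, hNv, hNw, ← hN]
    have hone : fib 1 = {1} := by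
      ext a; simp [fib, hG1]
    rw [hone, Finset.card_singleton]
    simp only [nsmul_eq_mul, Nat.cast_one, one_mul]
    ring
  have hcardV : (Fintype.card (↥Q ⧸ Z.subgroupOf Q) : ℤ) = 1 + 3 * N := by
    have h := hsum (fun _ => 1)
    simp only [Finset.sum_const, Finset.card_univ, nsmul_eq_mul, mul_one] at h
    linarith
  have hS : 3 * ∑ a, F a = 4 - (Fintype.card (↥Q ⧸ Z.subgroupOf Q) : ℤ) := by
    have h := hsum χ
    have e1 : χ 1 = 1 := by simp [χ]
    have e2 : χ u = 1 := by simp [χ]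
    have e3 : χ v = -1 := by simp [χ, hv1, huv]
    have e4 : χ w = -1 := by simp [χ, hw1, hwu]
    rw [e1, e2, e3, e4] at h
    simp only [F]
    rw [h, hcardV]; ring
  -- the quotient has at least 32 elements
  obtain ⟨m, hm⟩ := (hQp.to_quotient (Z.subgroupOf Q)).exists_card_eq
  rw [Nat.card_eq_fintype_card] at hm
  have hfree : ∀ x ∈ Q, x ∉ Z → ∀ k : ℕ, 0 < k → k < 9 →
      x⁻¹ * (f ^ k * x * (f ^ k)⁻¹) ∉ Z := by
    intro x hx hxZ k hk0 hk9 hmem
    apply hxZ
    let T : Subgroup X :=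
      { carrier := {g | g ∈ normalizer (Z : Set X) ∧ g ∈ normalizer (Q : Set X) ∧
            x⁻¹ * (g * x * g⁻¹) ∈ Z}
        one_mem' := ⟨one_mem _, one_mem _, by simp⟩
        mul_mem' := fun {a c} ha hc => ⟨mul_mem ha.1 hc.1, mul_mem ha.2.1 hc.2.1, by
          have e' : x⁻¹ * (a * c * x * (a * c)⁻¹) = x⁻¹ * (a * x * a⁻¹) *
              (a * (x⁻¹ * (c * x * c⁻¹)) * a⁻¹) := by group
          rw [e']
          exact mul_mem ha.2.2 ((mem_normalizer_iff.1 ha.1 _).1 hc.2.2)⟩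
        inv_mem' := fun {a} ha => ⟨inv_mem ha.1, inv_mem ha.2.1, by
          have h2 := (mem_normalizer_iff''.1 ha.1 _).1 (inv_mem ha.2.2)
          have e3 : x⁻¹ * (a⁻¹ * x * a⁻¹⁻¹) = a⁻¹ * (x⁻¹ * (a * x * a⁻¹))⁻¹ * a := by group
          rw [e3]
          exact h2⟩ }
    have hfk : f ^ k ∈ T := ⟨pow_mem (pow_mem hdZ _) _, pow_mem hfQ _, hmem⟩
    have heT : e ∈ T := by
      rcases (by omega : k = 1 ∨ k = 2 ∨ k = 3 ∨ k = 4 ∨ k = 5 ∨ k = 6 ∨ k = 7 ∨ k = 8) with
        rfl | rfl | rfl | rfl | rfl | rfl | rfl | rfl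
      · have := pow_mem hfk 3; rwa [pow_one, ← hef] at this
      · have := pow_mem hfk 6
        rwa [← pow_mul, show 2 * 6 = 9 + 3 from rfl, pow_add, hf9, one_mul, ← hef] at this
      · rwa [← hef] at hfk
      · have := pow_mem hfk 3
        rwa [← pow_mul, show 4 * 3 = 9 + 3 from rfl, pow_add, hf9, one_mul, ← hef] at this
      · have := pow_mem hfk 6
        rwa [← pow_mul, show 5 * 6 = 9 + 9 + 9 + 3 from rfl, pow_add, pow_add, pow_add, hf9,
          one_mul, one_mul, one_mul, ← hef] at this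
      · have := pow_mem hfk 2
        rwa [← pow_mul, show 6 * 2 = 9 + 3 from rfl, pow_add, hf9, one_mul, ← hef] at this
      · have := pow_mem hfk 3
        rwa [← pow_mul, show 7 * 3 = 9 + 9 + 3 from rfl, pow_add, pow_add, hf9, one_mul, one_mul,
          ← hef] at this
      · have := pow_mem hfk 6
        rwa [← pow_mul, show 8 * 6 = 9 + 9 + 9 + 9 + 9 + 3 from rfl, pow_add, pow_add, pow_add,
          pow_add, pow_add, hf9, one_mul, one_mul, one_mul, one_mul, one_mul, ← hef] at this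
    set z := x⁻¹ * (e * x * e⁻¹) with hz
    have hzZ : z ∈ Z := heT.2.2
    have hex : e * x * e⁻¹ = x * z := by rw [hz]; group
    have hez := ((hZmem z).1 hzZ).2
    have h3 : x * z ^ 3 = x := by
      calc x * z ^ 3 = x * z * z * z := by rw [pow_three']; group
        _ = (e * x * e⁻¹) * (e * z * e⁻¹) * (e * z * e⁻¹) := by rw [hex, hez]
        _ = e * (x * z) * z * e⁻¹ := by group
        _ = e * ((e * x * e⁻¹) * (e * z * e⁻¹)) * e⁻¹ := by rw [hex, hez, mul_assoc e (x * z) z]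
        _ = e * e * (x * z) * (e * e)⁻¹ := by group
        _ = e * e * (e * x * e⁻¹) * (e * e)⁻¹ := by rw [hex]
        _ = e ^ 3 * x * (e ^ 3)⁻¹ := by rw [pow_three']; group
        _ = x := by rw [he3, one_mul, inv_one, mul_one]
    have hz3 : z ^ 3 = 1 := mul_left_cancel (h3.trans (mul_one x).symm)
    obtain ⟨l', hl'⟩ := hQp ⟨z, hZQ hzZ⟩
    have hz1 : z = 1 := orderOf_eq_one_iff.1 (Nat.eq_one_of_dvd_coprimes
      (Nat.Coprime.pow_left l' (by norm_num : Nat.Coprime 2 3))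
      (orderOf_dvd_of_pow_eq_one (by simpa using congrArg Subtype.val hl'))
      (orderOf_dvd_of_pow_eq_one hz3))
    exact (hZmem x).2 ⟨hx, by rw [hex, hz1, mul_one]⟩
  let orb : ↥Q → Fin 9 → ↥Q ⧸ Z.subgroupOf Q := fun x k =>
    ((⟨f ^ (k : ℕ) * x * (f ^ (k : ℕ))⁻¹,
      (mem_normalizer_iff.1 (pow_mem hfQ _) _).1 x.2⟩ : ↥Q) : ↥Q ⧸ Z.subgroupOf Q)
  have horbinj : ∀ x : ↥Q, (x : X) ∉ Z → Function.Injective (orb x) := by
    intro x hx i j hij
    have h : ∀ i j : Fin 9, orb x i = orb x j → ¬ (i : ℕ) < j := fun i j hij hlt =>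
      hfree x x.2 hx _ (Nat.sub_pos_of_lt hlt) (lt_of_le_of_lt (Nat.sub_le _ _) j.isLt)
        (exists_conj_pow_fixed hlt (mem_subgroupOf.1 (QuotientGroup.eq.1 hij)) (pow_mem hdZ _))
    exact Fin.ext (le_antisymm (not_lt.1 (h j i hij.symm)) (not_lt.1 (h i j hij)))
  have horb1 : ∀ x : ↥Q, (x : X) ∉ Z → ∀ k, orb x k ≠ 1 := by
    intro x hx k h
    apply hx
    rw [QuotientGroup.eq_one_iff, mem_subgroupOf] at h
    exact (mem_normalizer_iff.1 (pow_mem (pow_mem hdZ _) _) _).2 h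
  obtain ⟨x, hxQ, hxZ⟩ := SetLike.exists_of_lt (lt_of_le_of_ne hZQ hZne)
  have hinj1 := horbinj ⟨x, hxQ⟩ hxZ
  have h10 : 10 ≤ Fintype.card (↥Q ⧸ Z.subgroupOf Q) := by
    have h : (insert 1 (Finset.univ.image (orb ⟨x, hxQ⟩))).card = 10 := by
      rw [Finset.card_insert_of_notMem (fun h => by
        obtain ⟨k, -, hk⟩ := Finset.mem_image.1 h
        exact horb1 ⟨x, hxQ⟩ hxZ k hk), Finset.card_image_of_injective _ hinj1]
      simp
    exact h ▸ Finset.card_le_univ _
  by_cases hm5 : 5 ≤ m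
  · exact false_of_form m hm hm5 F hFsq hβ hS
  have hm4 : m = 4 := by
    have h : 2 ^ 3 < 2 ^ m := by rw [← hm]; omega
    have := (Nat.pow_lt_pow_iff_right one_lt_two).1 h
    omega
  -- a second orbit
  obtain ⟨y, hy⟩ : ∃ y, y ∉ insert 1 (Finset.univ.image (orb ⟨x, hxQ⟩)) := by
    by_contra h
    push Not at h
    have h' := Finset.card_le_card (fun a (_ : a ∈ Finset.univ) => h a)
    have h'' := h'.trans (Finset.card_insert_le _ _)
    rw [Finset.card_univ, hm, hm4] at h''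
    have h''' := Finset.card_image_le (s := (Finset.univ : Finset (Fin 9))) (f := orb ⟨x, hxQ⟩)
    simp only [Finset.card_univ, Fintype.card_fin] at h'''
    omega
  rw [Finset.mem_insert, not_or] at hy
  obtain ⟨y, rfl⟩ := QuotientGroup.mk_surjective y
  have hyZ : (y : X) ∉ Z := fun h => hy.1 ((QuotientGroup.eq_one_iff y).2 h)
  have hdisj : Disjoint (Finset.univ.image (orb ⟨x, hxQ⟩)) (Finset.univ.image (orb y)) := by
    rw [Finset.disjoint_left]
    intro a ha ha'
    obtain ⟨i, -, rfl⟩ := Finset.mem_image.1 ha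
    obtain ⟨j, -, hj⟩ := Finset.mem_image.1 ha'
    apply hy.2
    refine Finset.mem_image.2 ⟨⟨((i : ℕ) + (9 - j)) % 9, Nat.mod_lt _ (by norm_num)⟩,
      Finset.mem_univ _, ?_⟩
    have h := mem_subgroupOf.1 (QuotientGroup.eq.1 hj.symm)
    simp only [Subgroup.coe_mul, Subgroup.coe_inv] at h
    rw [QuotientGroup.eq, mem_subgroupOf]
    simp only [Subgroup.coe_mul, Subgroup.coe_inv]
    have hp : f ^ (((i : ℕ) + (9 - j)) % 9) = (f ^ (j : ℕ))⁻¹ * f ^ (i : ℕ) := by
      rw [← pow_eq_pow_mod _ hf9]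
      refine eq_inv_mul_of_mul_eq ?_
      rw [← pow_add, show (j : ℕ) + ((i : ℕ) + (9 - j)) = 9 + i by have := j.isLt; omega,
        pow_add, hf9, one_mul]
    rw [hp]
    have h2 := (mem_normalizer_iff''.1 (pow_mem (pow_mem hdZ (3 ^ l)) (j : ℕ)) _).1 h
    rw [← hf] at h2
    convert h2 using 1
    group
  have h18 : 19 ≤ Fintype.card (↥Q ⧸ Z.subgroupOf Q) := by
    have h : (insert 1 (Finset.univ.image (orb ⟨x, hxQ⟩) ∪ Finset.univ.image (orb y))).card = 19 := by
      rw [Finset.card_insert_of_notMem, Finset.card_union_of_disjoint hdisj,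
        Finset.card_image_of_injective _ hinj1,
        Finset.card_image_of_injective _ (horbinj y hyZ)]
      · simp
      · intro h
        rcases Finset.mem_union.1 h with h | h <;> obtain ⟨k, -, hk⟩ := Finset.mem_image.1 h
        · exact horb1 ⟨x, hxQ⟩ hxZ k hk
        · exact horb1 y hyZ k hk
    exact h ▸ Finset.card_le_univ _
  rw [hm, hm4] at h18
  omega

end CfsgLib.FpfThree
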