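import Cfsg.Agent.Lib.PGroup.RepWeights
import Mathlib.LinearAlgebra.Charpoly.Basic
import Mathlib.LinearAlgebra.Eigenspace.Minpoly
import Mathlib.RingTheory.Finiteness.Basic
import Mathlib.LinearAlgebra.Dimension.Constructions
import Mathlib.RepresentationTheory.Basic
import Mathlib.GroupTheory.PGroup

/-!
Fixed points in characteristic two of groups acting freely on an abelian subgroup of odd order,
and unipotence in dimension two.
-/

set_option autoImplicit false
set_option linter.style.haveILetI false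
set_option linter.unusedSectionVars false

namespace CfsgLib.FrobTwo

open Polynomial TensorProduct

/-- In dimension at most two, determinant one and a fixed vector give a unipotent map. -/
theorem sub_one_sq {F V : Type*} [Field F] [AddCommGroup V] [Module F V] [FiniteDimensional F V]
    (hd : Module.finrank F V ≤ 2) (L : Module.End F V) {v : V} (hv : v ≠ 0) (hLv : L v = v)
    (hdet : LinearMap.det L = 1) : (L - 1) * (L - 1) = 0 := by
  set b := Module.Free.chooseBasis F V
  set M := L.charpoly with hM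
  have hdeg : M.natDegree = Module.finrank F V := by
    rw [hM, LinearMap.charpoly_def, Matrix.charpoly_natDegree_eq_dim,
      Module.finrank_eq_card_chooseBasisIndex]
  have hc : (-1 : F) ^ Module.finrank F V * M.coeff 0 = 1 := by
    rw [Module.finrank_eq_card_chooseBasisIndex, hM, LinearMap.charpoly_def,
      ← Matrix.det_eq_sign_charpoly_coeff, LinearMap.det_toMatrix, hdet]
  have hev : M.eval 1 = 0 := by
    have h := Module.End.aeval_apply_of_mem_apply_eq_smul (f := L) (p := M) (μ := (1 : F)) (x := v)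
      (by rw [one_smul, hLv])
    rw [hM, LinearMap.aeval_self_charpoly, LinearMap.zero_apply] at h
    exact (smul_eq_zero.1 h.symm).resolve_right hv
  haveI : Nontrivial V := nontrivial_of_ne v 0 hv
  have hpos : 0 < Module.finrank F V := Module.finrank_pos
  have hsum := L.charpoly_monic.as_sum
  have hzero : aeval L M = 0 := LinearMap.aeval_self_charpoly L
  rw [← hM] at hsum
  rw [hdeg] at hsum
  rcases (by omega : Module.finrank F V = 1 ∨ Module.finrank F V = 2) with h | h
  · rw [h] at hc hsum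
    have h0 : M.coeff 0 = -1 := by linear_combination -hc
    have e : M = X - 1 := by
      rw [hsum, Finset.sum_range_one, h0]
      simp only [pow_one, pow_zero, mul_one, map_neg, map_one]
      ring
    rw [e, map_sub, aeval_X, map_one] at hzero
    rw [hzero, mul_zero]
  · rw [h] at hc hsum
    have h0 : M.coeff 0 = 1 := by linear_combination hc
    have h1 : M.coeff 1 = -2 := by
      rw [hsum, Finset.sum_range_succ, Finset.sum_range_one, h0] at hev
      simp at hev
      linear_combination hev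
    have e : M = (X - 1) * (X - 1) := by
      rw [hsum, Finset.sum_range_succ, Finset.sum_range_one, h0, h1, map_neg, map_ofNat, map_one]
      ring
    rwa [e, map_mul, map_sub, aeval_X, map_one] at hzero

/-- Powers of a map with square-zero difference from one. -/
theorem pow_eq_one_add {F V : Type*} [Field F] [AddCommGroup V] [Module F V] {L : Module.End F V}
    (h : (L - 1) * (L - 1) = 0) : ∀ n : ℕ, L ^ n = 1 + n • (L - 1)
  | 0 => by rw [pow_zero, zero_smul, add_zero]
  | n + 1 => by
    rw [pow_succ, pow_eq_one_add h n]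
    have e : (L - 1) * L = L - 1 := by
      calc (L - 1) * L = (L - 1) * (L - 1) + (L - 1) := by noncomm_ring
        _ = L - 1 := by rw [h, zero_add]
    rw [add_mul, one_mul, smul_mul_assoc, e, succ_nsmul]
    abel

universe u v

variable {S : Type u} [Group S] [Finite S] {E : Type v} [AddCommGroup E] [Module (ZMod 2) E]
  [Finite E] (ρ : Representation (ZMod 2) S E) (P K : Subgroup S)

/-- A sum over a nonempty subset of a freely acting group is not the zero operator. -/
theorem sum_ne_zero [Nontrivial E] (hc : ∀ x ∈ P, ∀ y ∈ P, x * y = y * x)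
    (hodd : Odd (Nat.card P)) (hn : ∀ g ∈ K, g ∈ Subgroup.normalizer (P : Set S))
    (hfix : ∀ v : E, (∀ x ∈ P, ρ x v = v) → v = 0)
    (hfree : ∀ g ∈ K, g ≠ 1 → ∀ x ∈ P, g * x = x * g → x = 1)
    (s : Finset S) (hs : ∀ g ∈ s, g ∈ K) (hne : s.Nonempty) : ∃ v : E, ∑ g ∈ s, ρ g v ≠ 0 := by
  classical
  by_contra hcon
  push Not at hcon
  letI := Fintype.ofFinite P
  let k := AlgebraicClosure (ZMod 2)
  let B := Module.End.baseChangeHom (ZMod 2) k E
  let ρ' : S →* Module.End k (k ⊗[ZMod 2] E) := (B : _ →* _).comp ρ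
  have hρ' : ∀ g, ρ' g = B (ρ g) := fun g => rfl
  have hsum : ∑ g ∈ s, ρ g = 0 := LinearMap.ext fun v => by
    rw [LinearMap.sum_apply, hcon v, LinearMap.zero_apply]
  have hP0 : ∑ x : P, ρ (x : S) = 0 := LinearMap.ext fun v => by
    rw [LinearMap.sum_apply, LinearMap.zero_apply]
    refine hfix _ fun z hz => ?_
    rw [map_sum]
    refine Fintype.sum_equiv (Equiv.mulLeft (⟨z, hz⟩ : P)) _ _ fun x => ?_
    rw [Equiv.coe_mulLeft, Subgroup.coe_mul, map_mul]
    rfl
  haveI : FiniteDimensional k (k ⊗[ZMod 2] E) := inferInstance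
  haveI : Nontrivial (k ⊗[ZMod 2] E) := Module.nontrivial_of_finrank_pos (R := k) (by
    rw [Module.finrank_baseChange]
    exact Module.finrank_pos)
  obtain ⟨χ, v, -, hv, hev⟩ := CfsgLib.PGroup.exists_eigen (Y := P) ρ'
    (fun y hy z hz => by rw [hc y hy z hz]) (U := ⊤) (fun _ _ _ _ => Submodule.mem_top) top_ne_bot
  have hcard : (Fintype.card P : k) = 1 := by
    obtain ⟨m, hm⟩ := hodd
    rw [← Nat.card_eq_fintype_card, hm]
    haveI : CharP k 2 := charP_of_injective_algebraMap (algebraMap (ZMod 2) k).injective 2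
    rw [Nat.cast_add, Nat.cast_mul, CharP.cast_eq_zero k 2, zero_mul, zero_add, Nat.cast_one]
  have hχ : χ ≠ 1 := by
    rintro rfl
    refine hv ?_
    have h : B (∑ x : P, ρ (x : S)) v = 0 := by rw [hP0, map_zero, LinearMap.zero_apply]
    rw [map_sum, LinearMap.sum_apply] at h
    rw [Finset.sum_congr rfl (g := fun _ => v) fun x _ => by
      rw [← hρ', hev x, MonoidHom.one_apply, Units.val_one, one_smul]] at h
    rwa [Finset.sum_const, Finset.card_univ, ← Nat.cast_smul_eq_nsmul k, hcard, one_smul] at h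
  obtain ⟨g₀, hg₀⟩ := hne
  have h0 : CfsgLib.PGroup.eigProj ρ' χ ((∑ g ∈ s, ρ' g) (ρ' g₀⁻¹ v)) = v := by
    rw [LinearMap.sum_apply, map_sum, Finset.sum_eq_single g₀]
    · rw [CfsgLib.PGroup.rep_apply_inv, CfsgLib.PGroup.eigProj_self ρ' hev, hcard, one_smul]
    · intro g hg hgne
      rw [← CfsgLib.PGroup.rep_mul_apply]
      have hgK : g * g₀⁻¹ ∈ K := mul_mem (hs g hg) (inv_mem (hs g₀ hg₀))
      refine CfsgLib.PGroup.eigProj_ne ρ' (hev.map ρ' (hn _ hgK)) fun he => hχ ?_
      set a := g * g₀⁻¹ with ha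
      have ha1 : a ≠ 1 := fun e => hgne (mul_inv_eq_one.1 e)
      let f : P → P := fun x => ⟨(x : S)⁻¹ * (a⁻¹ * x * a),
        mul_mem (inv_mem x.2) ((Subgroup.mem_normalizer_iff''.1 (hn _ hgK) _).1 x.2)⟩
      have hinj : Function.Injective f := by
        intro x x' hxx
        have e : (x : S)⁻¹ * (a⁻¹ * x * a) = (x' : S)⁻¹ * (a⁻¹ * x' * a) := congrArg Subtype.val hxx
        have hd : a * ((x' : S) * (x : S)⁻¹) = (x' : S) * (x : S)⁻¹ * a := by
          have e1 : (x' : S) * (x : S)⁻¹ = a⁻¹ * x' * a * (a⁻¹ * x * a)⁻¹ := by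
            have := congrArg (fun t => (x' : S) * t * (a⁻¹ * x * a)⁻¹) e
            simpa [mul_assoc] using this
          conv_lhs => rw [e1]
          group
        exact (Subtype.ext (mul_inv_eq_one.1
          (hfree a hgK ha1 _ (mul_mem x'.2 (inv_mem x.2)) hd))).symm
      refine MonoidHom.ext fun z => ?_
      obtain ⟨x, rfl⟩ := Finite.surjective_of_injective hinj z
      have e := DFunLike.congr_fun he x
      rw [CfsgLib.PGroup.twist_apply] at e
      rw [show f x = x⁻¹ * ⟨a⁻¹ * x * a, (Subgroup.mem_normalizer_iff''.1 (hn _ hgK) _).1 x.2⟩ from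
        Subtype.ext rfl, map_mul, map_inv, ← e, inv_mul_cancel, MonoidHom.one_apply]
    · exact fun h => absurd hg₀ h
  refine hv ?_
  rw [← h0, show ∑ g ∈ s, ρ' g = 0 by
    rw [Finset.sum_congr rfl fun g _ => hρ' g, ← map_sum, hsum, map_zero],
    LinearMap.zero_apply, map_zero]

/-- Nonzero fixed points of the free group, and fixed points of a normal subgroup moved by it. -/
theorem exists_fixed [Nontrivial E] (hc : ∀ x ∈ P, ∀ y ∈ P, x * y = y * x)
    (hodd : Odd (Nat.card P)) (hn : ∀ g ∈ K, g ∈ Subgroup.normalizer (P : Set S))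
    (hfix : ∀ v : E, (∀ x ∈ P, ρ x v = v) → v = 0)
    (hfree : ∀ g ∈ K, g ≠ 1 → ∀ x ∈ P, g * x = x * g → x = 1) :
    (∃ v : E, v ≠ 0 ∧ ∀ g ∈ K, ρ g v = v) ∧
      ∀ R : Subgroup S, R ≤ K → ∀ y ∈ K, y ∉ R → ∃ v : E, (∀ g ∈ R, ρ g v = v) ∧ ρ y v ≠ v := by
  classical
  have inv : ∀ (J : Subgroup S) (v : E), ∀ z ∈ J,
      ρ z (∑ g ∈ (J : Set S).toFinite.toFinset, ρ g v) =
        ∑ g ∈ (J : Set S).toFinite.toFinset, ρ g v := by
    intro J v z hz
    rw [map_sum]
    refine Finset.sum_equiv (Equiv.mulLeft z) (fun g => ?_) fun g _ => ?_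
    · simp only [Set.Finite.mem_toFinset, SetLike.mem_coe, Equiv.coe_mulLeft]
      exact (J.mul_mem_cancel_left hz).symm
    · rw [Equiv.coe_mulLeft, map_mul]
      rfl
  refine ⟨?_, fun R hRK y hy hyR => ?_⟩
  · obtain ⟨v, hv⟩ := sum_ne_zero ρ P K hc hodd hn hfix hfree (K : Set S).toFinite.toFinset
      (fun g hg => (Set.Finite.mem_toFinset _).1 hg) ⟨1, (Set.Finite.mem_toFinset _).2 K.one_mem⟩
    exact ⟨_, hv, inv K v⟩
  · set r := (R : Set S).toFinite.toFinset
    have hr : ∀ {g}, g ∈ r ↔ g ∈ R := fun {g} => Set.Finite.mem_toFinset _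
    have hdis : Disjoint r (r.image (y * ·)) := Finset.disjoint_left.2 fun g hg hg' => by
      obtain ⟨g', hg'', rfl⟩ := Finset.mem_image.1 hg'
      exact hyR ((R.mul_mem_cancel_right (hr.1 hg'')).1 (hr.1 hg))
    obtain ⟨v, hv⟩ := sum_ne_zero ρ P K hc hodd hn hfix hfree (r ∪ r.image (y * ·)) (fun g hg => by
      rcases Finset.mem_union.1 hg with h | h
      · exact hRK (hr.1 h)
      · obtain ⟨g', hg', rfl⟩ := Finset.mem_image.1 h
        exact mul_mem hy (hRK (hr.1 hg'))) ⟨1, Finset.mem_union_left _ (hr.2 R.one_mem)⟩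
    refine ⟨∑ g ∈ r, ρ g v, inv R v, fun he => hv ?_⟩
    rw [Finset.sum_union hdis, Finset.sum_image fun a _ b _ h => mul_left_cancel h]
    have e : ∑ g ∈ r, ρ (y * g) v = ρ y (∑ g ∈ r, ρ g v) := by
      rw [map_sum]
      exact Finset.sum_congr rfl fun g _ => by rw [map_mul]; rfl
    rw [e, he]
    exact ZModModule.add_self _

variable {ρ}

/-- A two-group fixes a nonzero vector of a nonzero invariant subspace. -/
theorem exists_fixed_two {T : Subgroup S} (hT : IsPGroup 2 T) (U : Submodule (ZMod 2) E)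
    (hU : ∀ t ∈ T, ∀ u ∈ U, ρ t u ∈ U) {u : E} (hu : u ∈ U) (hu0 : u ≠ 0) :
    ∃ w ∈ U, w ≠ 0 ∧ ∀ t ∈ T, ρ t w = w := by
  letI : MulAction T U :=
    { smul := fun t x => ⟨ρ (t : S) (x : E), hU t t.2 x x.2⟩
      one_smul := fun x => Subtype.ext (show ρ 1 (x : E) = x by rw [map_one]; rfl)
      mul_smul := fun a b x => Subtype.ext (show ρ ((a : S) * b) (x : E) = ρ a (ρ b x) by
        rw [map_mul]; rfl) }
  have h2 : 2 ∣ Nat.card U := by
    have h : addOrderOf (⟨u, hu⟩ : U) = 2 := addOrderOf_eq_prime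
      (Subtype.ext (show (2 : ℕ) • u = 0 by rw [two_nsmul]; exact ZModModule.add_self u))
      fun e => hu0 (congrArg Subtype.val e)
    exact (dvd_of_eq h.symm).trans (addOrderOf_dvd_natCard _)
  obtain ⟨w, hw, hne⟩ := hT.exists_fixed_point_of_prime_dvd_card_of_fixed_point (α := U) h2
    (a := (0 : U)) (fun t => Subtype.ext (map_zero _))
  exact ⟨w, w.2, fun e => hne (Subtype.ext e.symm), fun t ht =>
    congrArg Subtype.val (hw ⟨t, ht⟩)⟩

end CfsgLib.FrobTwo
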