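import Cfsg.Agent.Lib.Coprime.PGroupFrattini
import Cfsg.Agent.Lib.PGroup.OmegaCentral

/-!
# Bounds on numbers of generators of finite `p`-groups

Thompson's lemma: for odd `p`, if all elements of order `p` of `Q` are central, then `Q` needs
no more generators than its subgroup of elements of order dividing `p`.
-/

set_option autoImplicit false

namespace CfsgLib.PGroup.GenBound

open Subgroup

variable {G : Type*} [Group G] [Finite G] {p : ℕ} [hp : Fact p.Prime]

theorem exists_generators_of_frattini_index (hG : IsPGroup p G) {a : ℕ}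
    (h : Nat.card G ≤ p ^ a * Nat.card (frattini G)) :
    ∃ S : Finset G, S.card ≤ a ∧ closure (S : Set G) = ⊤ := by
  classical
  haveI := Fintype.ofFinite G
  obtain ⟨T, -, hT, hcard⟩ := CfsgLib.Coprime.card_closure_sup_frattini hG (Finset.univ : Finset G)
  have htop : closure ((Finset.univ : Finset G) : Set G) = ⊤ := by simp
  rw [htop, top_sup_eq] at hT hcard
  refine ⟨T, ?_, frattini_nongenerating hT⟩
  rw [card_top] at hcard
  have h1 : p ^ T.card * Nat.card (frattini G) ≤ p ^ a * Nat.card (frattini G) := hcard ▸ h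
  exact (Nat.pow_le_pow_iff_right hp.out.one_lt).1 (Nat.le_of_mul_le_mul_right h1 Nat.card_pos)

/-- An abelian group of exponent `p` generated by at most `k` elements has order at most `p ^ k`. -/
theorem card_le_pow_of_generators (hG : ∀ x : G, x ^ p = 1) (hc : ∀ x y : G, x * y = y * x)
    {k : ℕ} (S : Finset G) (hS : S.card ≤ k) (hgen : closure (S : Set G) = ⊤) :
    Nat.card G ≤ p ^ k := by
  classical
  suffices h : ∀ T : Finset G, Nat.card (closure (T : Set G)) ≤ p ^ T.card by
    have h1 := h S
    rw [hgen, card_top] at h1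
    exact h1.trans (Nat.pow_le_pow_right hp.out.pos hS)
  intro T
  induction T using Finset.induction_on with
  | empty => simp
  | insert x T hxT ih =>
    haveI hn : (closure (T : Set G)).Normal := ⟨fun n hn g => by
      rw [hc g n, mul_inv_cancel_right]; exact hn⟩
    rw [Finset.coe_insert, Set.insert_eq, Subgroup.closure_union, ← zpowers_eq_closure,
      Finset.card_insert_of_notMem hxT, pow_succ']
    have h2 : Nat.card ↥(zpowers x ⊔ closure (T : Set G)) ≤
        Nat.card (zpowers x) * Nat.card (closure (T : Set G)) := by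
      have h4 : ∀ z : ↥(zpowers x ⊔ closure (T : Set G)),
          ∃ w : ↥(zpowers x) × ↥(closure (T : Set G)), (w.1 : G) * w.2 = z := fun z => by
        obtain ⟨y, hy, t, ht, h⟩ := mem_sup_of_normal_right.1 z.2
        exact ⟨⟨⟨y, hy⟩, ⟨t, ht⟩⟩, h⟩
      choose f hf using h4
      rw [← Nat.card_prod]
      exact Nat.card_le_card_of_injective f fun z z' e => Subtype.ext (by rw [← hf z, ← hf z', e])
    refine h2.trans (Nat.mul_le_mul ?_ ih)
    rw [Nat.card_zpowers]
    exact orderOf_le_of_pow_eq_one hp.out.pos (hG x)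

/-- Thompson's lemma on groups with central elements of order `p`. -/
theorem exists_generators_of_central_omega (hp2 : p ≠ 2) (hG : IsPGroup p G)
    (hZ : ∀ x : G, x ^ p = 1 → ∀ y : G, Commute x y) {a : ℕ} {Ω : Set G}
    (hΩ : ∀ x : G, x ^ p = 1 → x ∈ Ω) (hΩc : Ω.ncard ≤ p ^ a) :
    ∃ S : Finset G, S.card ≤ a ∧ closure (S : Set G) = ⊤ := by
  refine exists_generators_of_frattini_index hG ?_
  classical
  haveI := Fintype.ofFinite G
  have hdiv : ∀ x y : G, x ^ p = y ^ p → x⁻¹ * y ∈ Ω := fun x y h =>
    hΩ _ (CfsgLib.PGroup.mul_pow_eq_one_of_pow_eq hp2 (Q := (⊤ : Subgroup G))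
      (fun g => by obtain ⟨n, hn⟩ := hG g; exact ⟨n, Subtype.ext hn⟩)
      (fun x _ hx y _ => hZ x hx y) x (mem_top x) y (mem_top y) h)
  let root : G → G := fun z => if h : ∃ x, x ^ p = z then h.choose else 1
  have hroot : ∀ x : G, root (x ^ p) ^ p = x ^ p := fun x => by
    have h : ∃ y, y ^ p = x ^ p := ⟨x, rfl⟩
    simp only [root, dif_pos h]
    exact h.choose_spec
  let f : G → ↥(frattini G) × ↥Ω := fun x =>
    (⟨x ^ p, CfsgLib.Coprime.pow_mem_frattini hG x⟩,
      ⟨(root (x ^ p))⁻¹ * x, hdiv _ _ (hroot x)⟩)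
  have hf : Function.Injective f := by
    intro x y h
    simp only [f, Prod.mk.injEq, Subtype.mk.injEq] at h
    obtain ⟨h1, h2⟩ := h
    rw [h1] at h2
    exact mul_left_cancel h2
  calc Nat.card G ≤ Nat.card (↥(frattini G) × ↥Ω) := Nat.card_le_card_of_injective f hf
    _ = Nat.card (frattini G) * Ω.ncard := by rw [Nat.card_prod, Nat.card_coe_set_eq]
    _ ≤ Nat.card (frattini G) * p ^ a := Nat.mul_le_mul_left _ hΩc
    _ = p ^ a * Nat.card (frattini G) := mul_comm _ _

end CfsgLib.PGroup.GenBound
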