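import Cfsg.Agent.Lib.PGroup.PolySeq
import Cfsg.Agent.Lib.PGroup.MaxClassShift
import Cfsg.Agent.Lib.PGroup.RegularPowers

/-!
Sequences of degree zero and the Hall–Petrescu congruence `(ab)^p ≡ a^p b^p`.
-/
set_option autoImplicit false

namespace CfsgLib.PolySeq

open Subgroup
open scoped commutatorElement

variable {M : Type*} [Group M] {G : ℕ → Subgroup M} {N : ℕ}
variable (hG : Filt G N) (h1 : G 1 = ⊤) (h0 : G 0 = ⊤)
include hG h1 h0

/-- A sequence of degree zero moves degree `b` into itself. -/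
theorem cm_zero (hN : 1 ≤ N) : ∀ (k b : ℕ), 1 ≤ b → N ≤ b + k → ∀ u v : ℕ → M,
    InW G 0 u → InW G b v → InW G b ⁅u, v⁆ := by
  intro k
  induction k with
  | zero =>
    intro b hb hNb u v _ hv
    rw [inW_eq_one hG (by omega) hN hv, commutatorElement_one_right]
    exact inW_one b
  | succ k ih =>
    intro b hb hNb u v hu hv
    obtain ⟨hL, hC⟩ := lazard hG hN N 1 le_rfl (by omega)
    refine inW_iff.2 ⟨fun n => hG.anti b (1 + b) hb (by omega)
      (hG.comm 1 b le_rfl hb _ (h1 ▸ mem_top _) _ (hv.mem n)), ?_⟩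
    rw [dif_comm]
    have hz : InW G (b + 1) (⁅v⁻¹, dif u⁆ * ⁅dif u, dif v⁆) :=
      (hL _ (by omega)).1 _ _
        (hC b 1 hb le_rfl _ _ ((hL b hb).2 v hv) hu.dif)
        ((hC 1 (b + 1) le_rfl (by omega) _ _ hu.dif hv.dif).mono hG (by omega) (by omega))
    set z := ⁅v⁻¹, dif u⁆ * ⁅dif u, dif v⁆
    have hw : InW G (b + 1) (u * z * u⁻¹ * ⁅u, dif v⁆) := by
      refine (hL _ (by omega)).1 _ _ ?_ (ih (b + 1) (by omega) (by omega) u _ hu hv.dif)
      rw [show u * z * u⁻¹ = ⁅u, z⁆ * z by rw [commutatorElement_def]; group]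
      exact (hL _ (by omega)).1 _ _ (ih (b + 1) (by omega) (by omega) u _ hu hz) hz
    set w := u * z * u⁻¹ * ⁅u, dif v⁆
    rw [show v * w * v⁻¹ = ⁅v, w⁆ * w by rw [commutatorElement_def]; group]
    exact (hL _ (by omega)).1 _ _
      ((hC b (b + 1) hb (by omega) _ _ hv hw).mono hG (by omega) (by omega)) hw

theorem inW_zero_inv (hN : 1 ≤ N) {u : ℕ → M} (hu : InW G 0 u) : InW G 0 u⁻¹ := by
  obtain ⟨hL, -⟩ := lazard hG hN N 1 le_rfl (by omega)
  refine inW_iff.2 ⟨fun n => h0 ▸ mem_top _, ?_⟩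
  rw [dif_inv]
  exact (hL 1 le_rfl).1 _ _
    (cm_zero hG h1 h0 hN N 1 le_rfl (by omega) u _ hu ((hL 1 le_rfl).2 _ hu.dif))
    ((hL 1 le_rfl).2 _ hu.dif)

theorem inW_zero_mul (hN : 1 ≤ N) {u v : ℕ → M} (hu : InW G 0 u) (hv : InW G 0 v) :
    InW G 0 (u * v) := by
  obtain ⟨hL, -⟩ := lazard hG hN N 1 le_rfl (by omega)
  refine inW_iff.2 ⟨fun n => h0 ▸ mem_top _, ?_⟩
  rw [dif_mul]
  exact (hL 1 le_rfl).1 _ _
    (cm_zero hG h1 h0 hN N 1 le_rfl (by omega) _ _ (inW_zero_inv hG h1 h0 hN hv) hu.dif)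
    ((hL 1 le_rfl).1 _ _ hu.dif hv.dif)

/-- Hall–Petrescu: in class less than `p`, `(ab)^p` differs from `a^p b^p` by products of `p`-th
powers from any subgroup containing the commutator values. -/
theorem hallPetrescu {p : ℕ} (hp : p.Prime) (hN : N = p) (a b : M) (D : Subgroup M)
    (hD : ∀ n : ℕ, (b ^ n)⁻¹ * (a ^ n)⁻¹ * (a * b) ^ n ∈ D) :
    (b ^ p)⁻¹ * (a ^ p)⁻¹ * (a * b) ^ p ∈ closure {y : M | ∃ x ∈ D, y = x ^ p} := by
  have hp2 := hp.two_le
  have hN1 : 1 ≤ N := by omega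
  have hpw : ∀ x : M, InW G 0 (fun n => x ^ n) := fun x => by
    refine inW_iff.2 ⟨fun n => h0 ▸ mem_top _, ?_⟩
    rw [show dif (fun n => x ^ n) = bseq x 0 from funext fun n => by simp [dif, bseq, pow_succ]]
    exact inW_bseq hG le_rfl (h1 ▸ mem_top _)
  set u : ℕ → M := fun n => (b ^ n)⁻¹ * (a ^ n)⁻¹ * (a * b) ^ n with hudef
  have hu : InW G 0 u := by
    rw [show u = (fun n => b ^ n)⁻¹ * (fun n => a ^ n)⁻¹ * (fun n => (a * b) ^ n) from rfl]
    exact inW_zero_mul hG h1 h0 hN1 (inW_zero_mul hG h1 h0 hN1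
      (inW_zero_inv hG h1 h0 hN1 (hpw b)) (inW_zero_inv hG h1 h0 hN1 (hpw a))) (hpw _)
  set P := closure {y : M | ∃ x ∈ D, y = x ^ p}
  have loop : ∀ k, 2 ≤ k → k ≤ p → ∃ h : ℕ → M, InW G 0 h ∧ (∀ j < k, h j = 1) ∧
      (∀ n, h n ∈ D) ∧ (h p ∈ P → u p ∈ P) := by
    intro k hk
    induction k, hk using Nat.le_induction with
    | base =>
      intro _
      refine ⟨u, hu, fun j hj => ?_, hD, id⟩
      rcases (show j = 0 ∨ j = 1 by omega) with rfl | rfl
      · simp [hudef]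
      · simp [hudef]
    | succ k hk ihk =>
      intro hkp
      obtain ⟨h, hh, hvan, hhD, hP⟩ := ihk (by omega)
      have hck : h k ∈ G k := by
        have h3 := hh k 0
        rwa [(iterate_dif_of_vanish hvan k 0).2 (by omega), zero_add] at h3
      have hb : InW G 0 (bseq (h k) k) := by
        obtain ⟨j, rfl⟩ : ∃ j, k = j + 1 := ⟨k - 1, by omega⟩
        refine inW_iff.2 ⟨fun n => h0 ▸ mem_top _, ?_⟩
        rw [dif_bseq]
        exact inW_bseq hG le_rfl (by rwa [zero_add, add_comm 1 j])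
      set c := h k with hc
      refine ⟨(bseq c k)⁻¹ * h, inW_zero_mul hG h1 h0 hN1 (inW_zero_inv hG h1 h0 hN1 hb) hh,
        fun j hj => ?_, fun n => mul_mem (inv_mem (pow_mem (hhD k) _)) (hhD n), ?_⟩
      · simp only [Pi.mul_apply, Pi.inv_apply, bseq]
        rcases Nat.lt_or_ge j k with hjk | hjk
        · rw [Nat.choose_eq_zero_of_lt hjk, pow_zero, hvan j hjk, inv_one, one_mul]
        · obtain rfl : j = k := by omega
          rw [Nat.choose_self, pow_one, ← hc, inv_mul_cancel]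
      have hcp : c ^ p.choose k ∈ P := by
        obtain ⟨q, hq⟩ := hp.dvd_choose_self (by omega) (show k < p by omega)
        rw [hq, pow_mul']
        exact subset_closure ⟨c ^ q, pow_mem (hhD k) _, rfl⟩
      have hstep : ((bseq c k)⁻¹ * h) p ∈ P → u p ∈ P := by
        intro hm
        refine hP ?_
        have := mul_mem hcp hm
        simp only [Pi.mul_apply, Pi.inv_apply, bseq] at this
        rwa [mul_inv_cancel_left] at this
      exact hstep
  obtain ⟨h, hh, hvan, -, hP⟩ := loop p hp2 le_rfl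
  refine hP ?_
  have h3 := hh p 0
  rw [(iterate_dif_of_vanish hvan p 0).2 (by omega), zero_add, ← hN, hG.bot, mem_bot] at h3
  rw [← hN, h3]
  exact one_mem P

end CfsgLib.PolySeq
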