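import Mathlib

/-!
Transfer from a weakly closed subgroup satisfying the Engel condition of Hall and Wielandt.
-/
set_option autoImplicit false

namespace CfsgLib.HallWielandt

open Subgroup

variable {G A : Type*} [Group G] [Finite G] [CommGroup A]

theorem smul_coset_mem {H : Subgroup G} (s : G ⧸ H → G)
    (hs : ∀ q, (s q : G ⧸ H) = q) (g : G) (q : G ⧸ H) : (s (g • q))⁻¹ * g * s q ∈ H := by
  rw [mul_assoc, ← QuotientGroup.eq, hs]
  conv_lhs => rw [← hs q]
  rfl

/-- The transfer computed with any choice of coset representatives. -/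
theorem transfer_eq_prod {H : Subgroup G} [Fintype (G ⧸ H)] (φ : H →* A) (g : G) (s : G ⧸ H → G)
    (hs : ∀ q, (s q : G ⧸ H) = q) :
    MonoidHom.transfer φ g =
      ∏ q : G ⧸ H, φ ⟨(s (g • q))⁻¹ * g * s q, smul_coset_mem s hs g q⟩ := by
  classical
  let T : H.LeftTransversal := ⟨Set.range s, Subgroup.isComplement_range_left hs⟩
  rw [MonoidHom.transfer_def φ T g]
  unfold Subgroup.leftTransversals.diff
  simp only []
  refine (Finset.prod_equiv (M := A) (MulAction.toPerm g : Equiv.Perm (G ⧸ H))
    ?_ ?_).symm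
  · intro i
    simp
  intro q _
  refine congrArg φ (Subtype.ext ?_)
  symm
  show ((T.2.leftQuotientEquiv (g • q) : G))⁻¹ * ((g • T).2.leftQuotientEquiv (g • q) : G) = _
  rw [Subgroup.smul_apply_eq_smul_apply_inv_smul, inv_smul_smul,
    Subgroup.IsComplement.leftQuotientEquiv_apply hs, Subgroup.IsComplement.leftQuotientEquiv_apply hs,
    smul_eq_mul]
  exact (mul_assoc _ _ _).symm

/-- Transitivity of the transfer. -/
theorem transfer_transfer {H L : Subgroup G} (hHL : H ≤ L) (φ : H →* A) (g : G) :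
    MonoidHom.transfer φ g =
      MonoidHom.transfer (MonoidHom.transfer (φ.comp (subgroupOfEquivOfLe hHL).toMonoidHom)) g := by
  classical
  haveI := Fintype.ofFinite (G ⧸ H)
  haveI := Fintype.ofFinite (G ⧸ L)
  haveI := Fintype.ofFinite (L ⧸ H.subgroupOf L)
  let a : G ⧸ L → G := Quotient.out
  have ha : ∀ q, (a q : G ⧸ L) = q := fun q => Quotient.out_eq q
  let b : L ⧸ H.subgroupOf L → L := Quotient.out
  have hb : ∀ q, (b q : L ⧸ H.subgroupOf L) = q := fun q => Quotient.out_eq q
  let F : (G ⧸ L) × (L ⧸ H.subgroupOf L) → G ⧸ H := fun x => ((a x.1 * (b x.2 : G) : G) : G ⧸ H)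
  have hFinj : Function.Injective F := by
    rintro ⟨i, j⟩ ⟨i', j'⟩ h
    have hm := QuotientGroup.eq.1 h
    have h1 : i = i' := by
      rw [← ha i, ← ha i', QuotientGroup.eq]
      have := mul_mem (mul_mem (b j).2 (hHL hm)) (inv_mem (b j').2)
      rwa [show ((b j : G)) * ((a i * b j)⁻¹ * (a i' * b j')) * ((b j' : G))⁻¹ = (a i)⁻¹ * a i' by
        group] at this
    subst h1
    have h2 : j = j' := by
      rw [← hb j, ← hb j', QuotientGroup.eq, mem_subgroupOf]
      rw [show (a i * b j)⁻¹ * (a i * b j') = ((b j : G))⁻¹ * b j' by group] at hm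
      exact hm
    rw [h2]
  have hFsurj : Function.Surjective F := fun q => by
    induction q using QuotientGroup.induction_on with
    | _ x =>
      have hl : (a (x : G ⧸ L))⁻¹ * x ∈ L := QuotientGroup.eq.1 (ha _)
      refine ⟨((x : G ⧸ L), ((⟨_, hl⟩ : L) : L ⧸ H.subgroupOf L)), QuotientGroup.eq.2 ?_⟩
      have := QuotientGroup.eq.1 (hb ((⟨_, hl⟩ : L) : L ⧸ H.subgroupOf L))
      rw [mem_subgroupOf] at this
      simpa [mul_assoc] using this
  let e := Equiv.ofBijective F ⟨hFinj, hFsurj⟩
  let s : G ⧸ H → G := fun q => a (e.symm q).1 * (b (e.symm q).2 : G)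
  have hs : ∀ q, (s q : G ⧸ H) = q := fun q => e.apply_symm_apply q
  rw [transfer_eq_prod φ g s hs, transfer_eq_prod _ g a ha, ← e.prod_comp, Fintype.prod_prod_type]
  refine Finset.prod_congr rfl fun i _ => ?_
  rw [transfer_eq_prod _ _ b hb]
  refine Finset.prod_congr rfl fun j _ => ?_
  set l : L := ⟨(a (g • i))⁻¹ * g * a i, smul_coset_mem a ha g i⟩ with hl
  show φ _ = φ _
  refine congrArg φ (Subtype.ext ?_)
  have hmove : e.symm (g • e (i, j)) = (g • i, l • j) := by
    rw [Equiv.symm_apply_eq]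
    show ((g * (a i * b j) : G) : G ⧸ H) = F (g • i, l • j)
    refine QuotientGroup.eq.2 ?_
    have := QuotientGroup.eq.1 ((hb (l • j)).trans (show l • j = ((l * b j : L) : L ⧸ H.subgroupOf L) by
      conv_lhs => rw [← hb j]
      rfl))
    rw [mem_subgroupOf] at this
    have h2 := inv_mem this
    have hlv : ((l : L) : G) = (a (g • i))⁻¹ * g * a i := rfl
    push_cast [hlv] at h2
    simpa [mul_assoc] using h2
  show (a (e.symm (g • e (i, j))).1 * (b (e.symm (g • e (i, j))).2 : G))⁻¹ * g *
      (a (e.symm (e (i, j))).1 * (b (e.symm (e (i, j))).2 : G)) = _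
  rw [hmove, Equiv.symm_apply_apply]
  show _ = (((b (l • j))⁻¹ * l * b j : L) : G)
  rw [hl]
  push_cast
  group

section PGroup

open scoped BigOperators

variable {p : ℕ} [hp : Fact p.Prime]

/-- The map whose iterates enter the Engel condition. -/
def eng (z : G) : G → G := fun y => y⁻¹ * z⁻¹ * y * z

omit [Finite G] hp in
/-- The weakened Engel condition: the iterates are killed by the homomorphisms to `A` of the
subgroups of relative index `p`. -/
def EngCond (p : ℕ) (A : Type*) [CommGroup A] (Z : Subgroup G) : Prop :=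
  ∀ u : G, ∀ z ∈ Z, ∀ L : Subgroup G, u ∈ L → z ∉ L → L.relIndex Z = p →
    ∀ (h : (eng z)^[p - 1] u ∈ L) (φ : L →* A), φ ⟨_, h⟩ = 1

omit [Finite G] in
theorem engCond_of_eq_one {Z : Subgroup G} (h : ∀ u : G, ∀ z ∈ Z, (eng z)^[p - 1] u = 1) :
    EngCond p A Z := fun u z hz L _ _ _ hm φ =>
  (congrArg φ (Subtype.ext (h u z hz) : (⟨_, hm⟩ : L) = 1)).trans φ.map_one

omit [Finite G] in
theorem prod_conj_eq {L : Subgroup G} [L.Normal] (ψ : L →* A) (hA : ∀ a : A, a ^ p = 1) (z : G) {x : G}
    (hx : x ∈ L) (hz : ∀ h : (eng z)^[p - 1] x ∈ L, ψ ⟨_, h⟩ = 1) :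
    ∏ i ∈ Finset.range p, ψ ⟨(z ^ i)⁻¹ * x * z ^ i,
      by simpa using (inferInstance : L.Normal).conj_mem x hx (z ^ i)⁻¹⟩ = 1 := by
  classical
  have hmem : ∀ (i : ℕ) (y : G), y ∈ L → (z ^ i)⁻¹ * y * z ^ i ∈ L := fun i y hy => by
    simpa using (inferInstance : L.Normal).conj_mem y hy (z ^ i)⁻¹
  have hengL : ∀ y ∈ L, eng z y ∈ L := fun y hy => by
    have := mul_mem (inv_mem hy) (hmem 1 y hy)
    simpa [eng, pow_one, mul_assoc] using this
  let F : ℕ → G → A := fun i y => if h : y ∈ L then ψ ⟨(z ^ i)⁻¹ * y * z ^ i, hmem i y h⟩ else 1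
  have hstep : ∀ i, ∀ y ∈ L, F i (eng z y) * F i y = F (i + 1) y := by
    intro i y hy
    simp only [F, dif_pos hy, dif_pos (hengL y hy), ← map_mul]
    rw [show ψ ⟨(z ^ (i+1))⁻¹ * y * z ^ (i+1), hmem (i+1) y hy⟩ =
      ψ (⟨(z ^ i)⁻¹ * y * z ^ i, hmem i y hy⟩ * ⟨(z ^ i)⁻¹ * eng z y * z ^ i, hmem i _ (hengL y hy)⟩) from
      congrArg ψ (Subtype.ext (by simp only [eng, Subgroup.coe_mul, pow_succ']; group))]
    rw [map_mul, map_mul, mul_comm]
  -- the partial products of an element and of its Engel image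
  have key : ∀ n, n < p → ∀ i, ∀ y ∈ L,
      F i ((eng z)^[n] y) = ∏ j ∈ Finset.range (n + 1), F (i + j) y ^ ((-1 : ℤ) ^ (n - j) * n.choose j) := by
    intro n
    induction n with
    | zero => intro _ i y _; simp
    | succ n ih =>
      intro hn i y hy
      have hyn : (eng z)^[n] y ∈ L := by
        clear ih hn
        induction n with
        | zero => exact hy
        | succ n ih => rw [Function.iterate_succ_apply']; exact hengL _ ih
      have h := hstep i _ hyn
      rw [← eq_mul_inv_iff_mul_eq] at h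
      rw [Function.iterate_succ_apply', h, ih (by omega) (i + 1) y hy, ih (by omega) i y hy,
        Finset.prod_range_succ' (fun j => F (i + j) y ^ ((-1 : ℤ) ^ (n + 1 - j) * ((n + 1).choose j : ℕ))),
        Finset.prod_range_succ' (fun j => F (i + j) y ^ ((-1 : ℤ) ^ (n - j) * (n.choose j : ℕ)))]
      rw [mul_inv, ← Finset.prod_inv_distrib, ← mul_assoc]
      congr 1
      · rw [Finset.prod_range_succ (fun j => F (i + 1 + j) y ^ ((-1 : ℤ) ^ (n - j) * (n.choose j : ℕ))),
          Finset.prod_range_succ (fun j => F (i + (j + 1)) y ^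
            ((-1 : ℤ) ^ (n + 1 - (j + 1)) * ((n + 1).choose (j + 1) : ℕ))),
          mul_right_comm, ← Finset.prod_mul_distrib]
        congr 1
        · refine Finset.prod_congr rfl fun j hj => ?_
          rw [Finset.mem_range] at hj
          rw [show i + 1 + j = i + (j + 1) by omega, ← zpow_neg, ← zpow_add]
          congr 1
          rw [show n + 1 - (j + 1) = n - j by omega, Nat.choose_succ_succ',
            show n - j = n - (j + 1) + 1 by omega, pow_succ]
          push_cast; ring
        · rw [show i + 1 + n = i + (n + 1) by omega]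
          simp
      · rw [← zpow_neg]
        congr 1
        simp [pow_succ]
  have h1 := key (p - 1) (by have := hp.out.pos; omega) 0 x hx
  rw [show p - 1 + 1 = p by have := hp.out.pos; omega] at h1
  have hF1 : F 0 ((eng z)^[p - 1] x) = 1 := by
    by_cases hm : (eng z)^[p - 1] x ∈ L
    · simp only [F, dif_pos hm]
      exact Eq.trans (congrArg ψ (Subtype.ext (by simp))) (hz hm)
    · simp only [F, dif_neg hm]
  rw [hF1] at h1
  refine Eq.trans (Finset.prod_congr rfl fun j hj => ?_) h1.symm
  rw [Finset.mem_range] at hj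
  simp only [zero_add, F, dif_pos hx]
  set a := ψ ⟨(z ^ j)⁻¹ * x * z ^ j, hmem j x hx⟩
  -- the binomial coefficients are signs modulo `p`
  have hmod : ((-1 : ℤ) ^ (p - 1 - j) * ((p - 1).choose j : ℕ)) ≡ 1 [ZMOD p] := by
    rw [← ZMod.intCast_eq_intCast_iff]
    push_cast
    have hc : ((p - 1).choose j : ZMod p) = (-1) ^ j := by
      clear h1 hF1
      induction j with
      | zero => simp
      | succ j ih =>
        have h2 : (p.choose (j + 1) : ZMod p) = 0 :=
          (ZMod.natCast_eq_zero_iff _ _).2 (hp.out.dvd_choose_self (by omega) hj)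
        have h3 : p.choose (j + 1) = (p - 1).choose j + (p - 1).choose (j + 1) := by
          conv_lhs => rw [show p = p - 1 + 1 by omega]
          exact Nat.choose_succ_succ' _ _
        rw [h3, Nat.cast_add, ih (by omega)] at h2
        rw [eq_neg_of_add_eq_zero_right h2, pow_succ]; ring
    rw [hc, ← pow_add, show p - 1 - j + j = p - 1 by omega]
    rcases hp.out.eq_two_or_odd' with rfl | hodd
    · simp [ZMod.neg_eq_self_mod_two]
    · exact (Nat.Odd.sub_odd hodd odd_one).neg_one_pow
  obtain ⟨c, hc⟩ := Int.modEq_iff_dvd.1 hmod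
  rw [show (-1 : ℤ) ^ (p - 1 - j) * ((p - 1).choose j : ℕ) = 1 - p * c by linarith, zpow_sub, zpow_one,
    zpow_mul, zpow_natCast, hA, one_zpow, inv_one, mul_one]

omit [Finite G] in
/-- One step: the transfer from a normal subgroup of prime index. -/
theorem transfer_step [Finite G] {L : Subgroup G} [L.Normal] (hidx : L.index = p) (ψ : L →* A)
    (hA : ∀ a : A, a ^ p = 1) {x : G} (hx : x ∈ L) {z : G} (hz : z ∉ L)
    (heng : ∀ h : (eng z)^[p - 1] x ∈ L, ψ ⟨_, h⟩ = 1) : MonoidHom.transfer ψ x = 1 := by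
  classical
  haveI := Fintype.ofFinite (G ⧸ L)
  have hord : orderOf (QuotientGroup.mk' L z) = p := by
    refine ((Nat.dvd_prime hp.out).1 ?_).resolve_left fun h => hz ?_
    · rw [← hidx, index_eq_card]; exact orderOf_dvd_natCard _
    · exact (QuotientGroup.eq_one_iff z).1 (orderOf_eq_one_iff.1 h)
  let e : Fin p → G ⧸ L := fun i => ((z ^ (i : ℕ) : G) : G ⧸ L)
  have hinj : Function.Injective e := fun i j h => by
    have h' : (QuotientGroup.mk' L z) ^ (i : ℕ) = (QuotientGroup.mk' L z) ^ (j : ℕ) := by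
      rw [← map_pow, ← map_pow]; exact h
    exact Fin.ext (pow_injOn_Iio_orderOf (show (i : ℕ) ∈ Set.Iio _ by rw [Set.mem_Iio, hord]; exact i.2)
      (show (j : ℕ) ∈ Set.Iio _ by rw [Set.mem_Iio, hord]; exact j.2) h')
  have hbij : Function.Bijective e := by
    refine (Nat.bijective_iff_injective_and_card e).2 ⟨hinj, ?_⟩
    rw [Nat.card_fin, ← index_eq_card, hidx]
  let E := Equiv.ofBijective e hbij
  let s : G ⧸ L → G := fun q => z ^ ((E.symm q : Fin p) : ℕ)
  have hs : ∀ q, (s q : G ⧸ L) = q := fun q => E.apply_symm_apply q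
  rw [transfer_eq_prod ψ x s hs, ← E.prod_comp]
  refine Eq.trans ?_ (prod_conj_eq ψ hA z hx heng)
  rw [← Fin.prod_univ_eq_prod_range]
  refine Finset.prod_congr rfl fun i _ => congrArg ψ (Subtype.ext ?_)
  have hfix : x • E i = E i := by
    show ((x * z ^ (i : ℕ) : G) : G ⧸ L) = ((z ^ (i : ℕ) : G) : G ⧸ L)
    exact QuotientGroup.eq.2 (by
      simpa [mul_assoc] using (inferInstance : L.Normal).conj_mem x⁻¹ (inv_mem hx) (z ^ (i : ℕ))⁻¹)
  show (s (x • E i))⁻¹ * x * s (E i) = _
  rw [hfix]
  simp only [s, Equiv.symm_apply_apply]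

/-- In a `p`-group the transfer from a subgroup not containing an Engel subgroup is trivial on
an element whose small powers are already killed. -/
theorem transfer_eq_one (n : ℕ) : ∀ {S : Type*} [Group S] [Finite S], Nat.card S = n →
    IsPGroup p S → ∀ (M Z : Subgroup S), ¬ Z ≤ M → EngCond p A Z →
    ∀ (μ : M →* A), (∀ a : A, a ^ p = 1) → ∀ x : S,
    (∀ (j : ℕ) (s : S) (h : s * x ^ (p * j) * s⁻¹ ∈ M), μ ⟨_, h⟩ = 1) →
      MonoidHom.transfer μ x = 1 := by
  induction n using Nat.strong_induction_on with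
  | _ n ih =>
  intro S _ _ hn hS M Z hZM heng μ hA x hyp
  classical
  have hM : M ≠ ⊤ := fun h => hZM (h ▸ le_top)
  obtain ⟨L, hL, hML⟩ := (IsCoatomic.eq_top_or_exists_le_coatom M).resolve_left hM
  haveI := hS.isNilpotent
  haveI hLn : L.Normal := NormalizerCondition.normal_of_coatom L normalizerCondition_of_isNilpotent hL
  have hidx : L.index = p := by
    obtain ⟨k, hk⟩ := hS.index L
    rcases k with _ | k
    · exact absurd (index_eq_one.1 (hk.trans (pow_zero p))) hL.1
    obtain ⟨w, hw⟩ := exists_prime_orderOf_dvd_card' (G := S ⧸ L) p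
      (by rw [← index_eq_card, hk]; exact dvd_pow_self p (Nat.succ_ne_zero k))
    have htop : (zpowers w).comap (QuotientGroup.mk' L) = ⊤ := by
      refine hL.2 _ (lt_of_le_of_ne (fun l hl => ?_) fun h => ?_)
      · show (QuotientGroup.mk' L) l ∈ zpowers w
        rw [show (QuotientGroup.mk' L) l = 1 from (QuotientGroup.eq_one_iff l).2 hl]
        exact one_mem _
      · obtain ⟨v, rfl⟩ := QuotientGroup.mk'_surjective L w
        have hv : v ∈ L := by rw [h]; exact mem_zpowers _
        rw [show (QuotientGroup.mk' L) v = 1 from (QuotientGroup.eq_one_iff v).2 hv, orderOf_one] at hw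
        exact hp.out.ne_one hw.symm
    have h1 := congrArg (Subgroup.map (QuotientGroup.mk' L)) htop
    rw [map_comap_eq_self_of_surjective (QuotientGroup.mk'_surjective L),
      map_top_of_surjective _ (QuotientGroup.mk'_surjective L)] at h1
    rw [index_eq_card, ← card_top, ← h1, Nat.card_zpowers, hw]
  set μ' : M.subgroupOf L →* A := μ.comp (subgroupOfEquivOfLe hML).toMonoidHom with hμ'
  set ψ := MonoidHom.transfer μ'
  rw [transfer_transfer hML μ x]
  have hlt : Nat.card L < n := by
    have := L.card_mul_index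
    rw [hidx, hn] at this
    have := hp.out.two_le
    have := Nat.card_pos (α := L)
    nlinarith
  -- values of the lower transfer
  have hsmall : ∀ (j : ℕ) (s : S) (l : L), (l : S) = s * x ^ j * s⁻¹ → (p ∣ j ∨ Z ≤ L) → ψ l = 1 := by
    intro j s l hl hor
    by_cases hj : p ∣ j
    · obtain ⟨i, rfl⟩ := hj
      haveI := Fintype.ofFinite (Quotient (MulAction.orbitRel (zpowers l) (L ⧸ M.subgroupOf L)))
      rw [MonoidHom.transfer_eq_prod_quotient_orbitRel_zpowers_quot]
      refine Finset.prod_eq_one fun q _ => ?_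
      set m := Function.minimalPeriod (l • ·) q.out
      set t : L := q.out.out
      have hM' : ((t : S)⁻¹ * (s * x ^ (p * i) * s⁻¹) ^ m * t) ∈ M := by
        have := mem_subgroupOf.1 (QuotientGroup.out_conj_pow_minimalPeriod_mem (M.subgroupOf L) l q.out)
        push_cast at this
        rwa [hl] at this
      have e : (t : S)⁻¹ * s * x ^ (p * (i * m)) * ((t : S)⁻¹ * s)⁻¹ =
          (t : S)⁻¹ * (s * x ^ (p * i) * s⁻¹) ^ m * t := by
        rw [conj_pow, ← pow_mul, mul_assoc p]; group
      refine Eq.trans ?_ (hyp (i * m) ((t : S)⁻¹ * s) (e ▸ hM'))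
      show μ _ = μ _
      refine congrArg μ (Subtype.ext ?_)
      show ((t⁻¹ * l ^ m * t : L) : S) = _
      push_cast
      rw [hl, e]
    · have hZL := hor.resolve_left hj
      refine ih _ hlt rfl (hS.to_subgroup L) (M.subgroupOf L) (Z.subgroupOf L) (fun h => hZM ?_) ?_ μ' hA l ?_
      · intro z hz
        exact mem_subgroupOf.1 (h (show (⟨z, hZL hz⟩ : L) ∈ Z.subgroupOf L from mem_subgroupOf.2 hz))
      · intro u z hz L' hu hzL' hrel hm φ
        have hc : Function.Semiconj (fun y : L => (y : S)) (eng z) (eng (z : S)) := fun y => by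
          simp [eng]
        have he : (((eng z)^[p-1] u : L) : S) = (eng (z : S))^[p - 1] u := hc.iterate_right (p - 1) u
        have hm' : (eng (z : S))^[p - 1] (u : S) ∈ L'.map L.subtype := ⟨_, hm, he⟩
        have hrel' : (L'.map L.subtype).relIndex Z = p := by
          rw [← hrel, ← Subgroup.relIndex_map_map_of_injective L' (Z.subgroupOf L) L.subtype_injective,
            Subgroup.subgroupOf_map_subtype, inf_eq_left.2 hZL]
        have h1 := heng (u : S) z (mem_subgroupOf.1 hz) (L'.map L.subtype) ⟨u, hu, rfl⟩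
          (fun ⟨w, hw, hwe⟩ => hzL' (by rwa [← Subtype.ext hwe])) hrel' hm'
          (φ.comp (Subgroup.equivMapOfInjective L' _ L.subtype_injective).symm.toMonoidHom)
        refine Eq.trans (congrArg φ ?_) h1
        show _ = (Subgroup.equivMapOfInjective L' _ L.subtype_injective).symm ⟨_, hm'⟩
        rw [eq_comm, MulEquiv.symm_apply_eq]
        exact Subtype.ext he.symm
      · intro i s' h'
        have hM' : (s' : S) * (s * x ^ j * s⁻¹) ^ (p * i) * (s' : S)⁻¹ ∈ M := by
          have := mem_subgroupOf.1 h'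
          push_cast at this
          rwa [hl] at this
        have e : (s' : S) * s * x ^ (p * (j * i)) * ((s' : S) * s)⁻¹ =
            (s' : S) * (s * x ^ j * s⁻¹) ^ (p * i) * (s' : S)⁻¹ := by
          rw [conj_pow, ← pow_mul, show j * (p * i) = p * (j * i) by ring]; group
        refine Eq.trans ?_ (hyp (j * i) ((s' : S) * s) (e ▸ hM'))
        show μ _ = μ _
        refine congrArg μ (Subtype.ext ?_)
        show ((s' * l ^ (p * i) * s'⁻¹ : L) : S) = _
        push_cast
        rw [hl, e]
  by_cases hxL : x ∈ L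
  · by_cases hZL : Z ≤ L
    · haveI := Fintype.ofFinite (S ⧸ L)
      rw [transfer_eq_prod ψ x Quotient.out (fun q => Quotient.out_eq q)]
      refine Finset.prod_eq_one fun q _ => ?_
      have hfix : x • q = q := by
        induction q using QuotientGroup.induction_on with
        | _ w => exact QuotientGroup.eq.2 (by simpa [mul_assoc] using hLn.conj_mem x⁻¹ (inv_mem hxL) w⁻¹)
      refine hsmall 1 (Quotient.out q)⁻¹ _ ?_ (Or.inr hZL)
      show (Quotient.out (x • q))⁻¹ * x * Quotient.out q = _
      rw [hfix, pow_one, inv_inv]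
    · obtain ⟨z, hz, hzL⟩ := SetLike.not_le_iff_exists.1 hZL
      refine transfer_step hidx ψ hA hxL hzL fun h => heng x z hz L hxL hzL ?_ h ψ
      rcases (Nat.dvd_prime hp.out).1 (hidx ▸ relIndex_dvd_index_of_normal L Z) with h1 | h1
      · exact absurd (relIndex_eq_one.1 h1) hZL
      · exact h1
  · haveI := Fintype.ofFinite (Quotient (MulAction.orbitRel (zpowers x) (S ⧸ L)))
    rw [MonoidHom.transfer_eq_prod_quotient_orbitRel_zpowers_quot]
    refine Finset.prod_eq_one fun q _ => ?_
    refine hsmall (Function.minimalPeriod (x • ·) q.out) q.out.out⁻¹ _ (by simp) (Or.inl ?_)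
    set m := Function.minimalPeriod (x • ·) q.out
    by_contra hnd
    have hcm : x ^ m ∈ L := by
      have := hLn.conj_mem _ (QuotientGroup.out_conj_pow_minimalPeriod_mem L x q.out) q.out.out
      simpa [mul_assoc] using this
    refine hxL ((QuotientGroup.eq_one_iff x).1 (orderOf_eq_one_iff.1 (Nat.eq_one_of_dvd_coprimes
      ((Nat.Prime.coprime_iff_not_dvd hp.out).2 hnd) ?_
      (orderOf_dvd_of_pow_eq_one (show (QuotientGroup.mk' L x) ^ m = 1 by
        rw [← map_pow]; exact (QuotientGroup.eq_one_iff _).2 hcm)))))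
    rw [← hidx, index_eq_card]
    exact orderOf_dvd_natCard _

end PGroup

end CfsgLib.HallWielandt
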