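import Cfsg.Prelude.Def_Transfer
import Cfsg.Agent.Lib.PGroup.FrattiniLe
import Cfsg.Agent.Lib.Coprime.PGroupFrattini
import Mathlib.LinearAlgebra.Matrix.GeneralLinearGroup.Defs
import Mathlib.Data.Matrix.Mul
import Mathlib.Tactic.Ring
import Mathlib.Tactic.Abel
import Mathlib.Algebra.Field.ZMod
import Mathlib.Data.Nat.Choose.Dvd

/-!
# The Heisenberg group of dimension `2n+1` as a group of matrices

Upper unitriangular matrices of degree `n + 2` supported on the first row and the last column.
-/

namespace CfsgLib.PGroup.HeisenbergMatrix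

open Matrix
open scoped commutatorElement

variable {F : Type*} [CommRing F] {n : ℕ}

/-- The matrix with first row `a`, corner `c` and last column `b`; the index `none` comes
first and `some none` last. -/
def mat (a b : Fin n → F) (c : F) : Matrix (Option (Option (Fin n))) (Option (Option (Fin n))) F :=
  fun i j => match i, j with
    | none, none => 1
    | none, some none => c
    | none, some (some k) => a k
    | some none, none => 0
    | some none, some none => 1
    | some none, some (some _) => 0
    | some (some _), none => 0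
    | some (some k), some none => b k
    | some (some k), some (some l) => if k = l then 1 else 0

theorem mat_mul (a b a' b' : Fin n → F) (c c' : F) :
    mat a b c * mat a' b' c' = mat (a + a') (b + b') (c + c' + ∑ k, a k * b' k) := by
  ext i j
  rcases i with _ | _ | k <;> rcases j with _ | _ | l <;>
    simp [mat, Matrix.mul_apply, Fintype.sum_option, ite_mul, mul_ite, Finset.sum_ite_eq,
      Finset.sum_ite_eq', eq_comm] <;> ring

theorem mat_zero : mat (0 : Fin n → F) 0 0 = 1 := by
  ext i j
  rcases i with _ | _ | k <;> rcases j with _ | _ | l <;> simp [mat, Matrix.one_apply]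

/-- The matrices `mat a b c` as units. -/
def unit (a b : Fin n → F) (c : F) : GL (Option (Option (Fin n))) F where
  val := mat a b c
  inv := mat (-a) (-b) (-c + ∑ k, a k * b k)
  val_inv := by
    rw [mat_mul, add_neg_cancel, add_neg_cancel, ← mat_zero]; congr 1
    simp [Finset.sum_neg_distrib]
  inv_val := by
    rw [mat_mul, neg_add_cancel, neg_add_cancel, ← mat_zero]; congr 1
    simp [Finset.sum_neg_distrib]

theorem unit_mul (a b a' b' : Fin n → F) (c c' : F) :
    unit a b c * unit a' b' c' = unit (a + a') (b + b') (c + c' + ∑ k, a k * b' k) :=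
  Units.ext (mat_mul a b a' b' c c')

theorem unit_inj {a b a' b' : Fin n → F} {c c' : F} (h : unit a b c = unit a' b' c') :
    a = a' ∧ b = b' ∧ c = c' := by
  have h' : mat a b c = mat a' b' c' := congrArg Units.val h
  exact ⟨funext fun k => congrFun (congrFun h' none) (some (some k)),
    funext fun k => congrFun (congrFun h' (some (some k))) (some none),
    congrFun (congrFun h' none) (some none)⟩

theorem unit_zero : unit (0 : Fin n → F) 0 0 = 1 := Units.ext mat_zero

/-- The Heisenberg group. -/
def heis (n : ℕ) (F : Type*) [CommRing F] : Subgroup (GL (Option (Option (Fin n))) F) where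
  carrier := {g | ∃ a b c, unit a b c = g}
  one_mem' := ⟨0, 0, 0, unit_zero⟩
  mul_mem' := by
    rintro _ _ ⟨a, b, c, rfl⟩ ⟨a', b', c', rfl⟩
    exact ⟨_, _, _, (unit_mul a b a' b' c c').symm⟩
  inv_mem' := by
    rintro _ ⟨a, b, c, rfl⟩
    exact ⟨-a, -b, -c + ∑ k, a k * b k, Units.ext rfl⟩

/-- The elements of the Heisenberg group. -/
def el (a b : Fin n → F) (c : F) : heis n F := ⟨unit a b c, a, b, c, rfl⟩

theorem el_surj (g : heis n F) : ∃ a b c, el a b c = g :=
  let ⟨a, b, c, h⟩ := g.2; ⟨a, b, c, Subtype.ext h⟩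

theorem el_mul (a b a' b' : Fin n → F) (c c' : F) :
    el a b c * el a' b' c' = el (a + a') (b + b') (c + c' + ∑ k, a k * b' k) :=
  Subtype.ext (unit_mul a b a' b' c c')

theorem el_inj {a b a' b' : Fin n → F} {c c' : F} (h : el a b c = el a' b' c') :
    a = a' ∧ b = b' ∧ c = c' := unit_inj (congrArg Subtype.val h)

theorem el_zero : el (0 : Fin n → F) 0 0 = 1 := Subtype.ext unit_zero

theorem el_pow (a b : Fin n → F) (c : F) : ∀ m : ℕ,
    el a b c ^ m = el (m • a) (m • b) (m • c + m.choose 2 • ∑ k, a k * b k) := by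
  intro m
  induction m with
  | zero => simp [el_zero]
  | succ m ih =>
    rw [pow_succ, ih, el_mul, show (m + 1).choose 2 = m + m.choose 2 by
      rw [Nat.choose_succ_succ, Nat.choose_one_right]]
    have hs : ∑ k, (m • a) k * b k = m • ∑ k, a k * b k := by
      rw [Finset.smul_sum]; exact Finset.sum_congr rfl fun k _ => by simp [mul_assoc]
    congr 1
    · rw [succ_nsmul]
    · rw [succ_nsmul]
    · rw [hs, add_nsmul, add_nsmul, one_nsmul]; abel

theorem mem_center {a b : Fin n → F} {c : F} :
    el a b c ∈ Subgroup.center (heis n F) ↔ a = 0 ∧ b = 0 := by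
  rw [Subgroup.mem_center_iff]
  refine ⟨fun h => ⟨funext fun k => ?_, funext fun k => ?_⟩, ?_⟩
  · have h' := h (el 0 (Pi.single k 1) 0)
    rw [el_mul, el_mul] at h'
    simpa [Pi.single_apply, Finset.sum_ite_eq'] using ((el_inj h').2.2).symm
  · have h' := h (el (Pi.single k 1) 0 0)
    rw [el_mul, el_mul] at h'
    simpa [Pi.single_apply, Finset.sum_ite_eq'] using (el_inj h').2.2
  · rintro ⟨rfl, rfl⟩ g
    obtain ⟨a', b', c', rfl⟩ := el_surj g
    rw [el_mul, el_mul]
    congr 1
    · simp
    · simp
    · simp [add_comm]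

theorem el_central (c : F) : el (0 : Fin n → F) 0 c ∈ Subgroup.center (heis n F) :=
  mem_center.2 ⟨rfl, rfl⟩

theorem commutator_el (k : Fin n) (c : F) :
    ⁅el (Pi.single k c) (0 : Fin n → F) (0 : F), el 0 (Pi.single k 1) 0⁆ = el 0 0 c := by
  rw [commutatorElement_def, mul_inv_eq_iff_eq_mul, mul_inv_eq_iff_eq_mul, el_mul, el_mul, el_mul]
  congr 1 <;> simp [Pi.single_apply, Finset.sum_ite_eq']

theorem commutator_le : commutator (heis n F) ≤ Subgroup.center (heis n F) := by
  rw [commutator_def, Subgroup.commutator_le]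
  intro g _ h _
  obtain ⟨a, b, c, rfl⟩ := el_surj g
  obtain ⟨a', b', c', rfl⟩ := el_surj h
  obtain ⟨x, y, z, he⟩ := el_surj ⁅el a b c, el a' b' c'⁆
  rw [← he, mem_center]
  have h2 : el x y z * (el a' b' c' * el a b c) = el a b c * el a' b' c' := by
    rw [he, commutatorElement_def]; group
  rw [el_mul, el_mul, el_mul] at h2
  obtain ⟨hx, hy, -⟩ := el_inj h2
  constructor
  · rw [add_comm a' a] at hx; simpa using hx
  · rw [add_comm b' b] at hy; simpa using hy

/-- An extraspecial group of exponent `p` and order `p^(1+2n)` in `GL (n+2) p`. -/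
theorem exists_extraspecial (p : ℕ) [Fact p.Prime] (hp : p ≠ 2) (n : ℕ) (hn : 1 ≤ n) :
    ∃ E : Subgroup (GL (Fin (n + 2)) (ZMod p)),
      Cfsg.IsExtraspecial p ↥E ∧ Nat.card E = p ^ (1 + 2 * n) ∧ ∀ x ∈ E, x ^ p = 1 := by
  classical
  let H := heis n (ZMod p)
  let e : Fin (n + 2) ≃ Option (Option (Fin n)) :=
    (finSuccEquiv (n + 1)).trans (Equiv.optionCongr (finSuccEquiv n))
  let ψ : GL (Option (Option (Fin n))) (ZMod p) ≃* GL (Fin (n + 2)) (ZMod p) :=
    Units.mapEquiv (Matrix.reindexAlgEquiv (ZMod p) (ZMod p) e.symm).toMulEquiv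
  let θ : H →* GL (Fin (n + 2)) (ZMod p) := ψ.toMonoidHom.comp H.subtype
  have hθ : Function.Injective θ := ψ.injective.comp H.subtype_injective
  let q : ((Fin n → ZMod p) × (Fin n → ZMod p)) × ZMod p → H := fun t => el t.1.1 t.1.2 t.2
  have hq : Function.Bijective q := ⟨fun s t h => by
      obtain ⟨h1, h2, h3⟩ := el_inj h
      exact Prod.ext (Prod.ext h1 h2) h3,
    fun g => let ⟨a, b, c, h⟩ := el_surj g; ⟨((a, b), c), h⟩⟩
  have hcard : Nat.card H = p ^ (1 + 2 * n) := by
    rw [← Nat.card_eq_of_bijective q hq]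
    simp [Nat.card_prod, Nat.card_pi]
    ring
  have hexp : ∀ x : H, x ^ p = 1 := fun x => by
    obtain ⟨a, b, c, rfl⟩ := el_surj x
    have h2 : 2 < p := lt_of_le_of_ne (Fact.out : p.Prime).two_le (Ne.symm hp)
    have hc : ((p.choose 2 : ℕ) : ZMod p) = 0 :=
      (ZMod.natCast_eq_zero_iff _ _).2 (Nat.Prime.dvd_choose_self (Fact.out : p.Prime) (by norm_num) h2)
    rw [el_pow, ← el_zero]
    congr 1
    · ext k; simp
    · ext k; simp
    · simp [nsmul_eq_mul, hc]
  have hpg : IsPGroup p H := IsPGroup.of_card hcard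
  have hZ : Nat.card (Subgroup.center H) = p := by
    rw [← Nat.card_eq_of_bijective (fun c : ZMod p => (⟨el 0 0 c, el_central c⟩ : Subgroup.center H))]
    · simp
    refine ⟨fun c d h => (el_inj (congrArg Subtype.val h)).2.2, ?_⟩
    rintro ⟨g, hg⟩
    obtain ⟨a, b, c, rfl⟩ := el_surj g
    obtain ⟨rfl, rfl⟩ := mem_center.1 hg
    exact ⟨c, rfl⟩
  have hcomm : commutator H = Subgroup.center H := by
    refine le_antisymm commutator_le fun g hg => ?_
    obtain ⟨a, b, c, rfl⟩ := el_surj g
    obtain ⟨rfl, rfl⟩ := mem_center.1 hg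
    rw [← commutator_el ⟨0, hn⟩ c]
    exact Subgroup.commutator_mem_commutator (Subgroup.mem_top _) (Subgroup.mem_top _)
  have hfr : frattini H = Subgroup.center H := by
    refine le_antisymm (CfsgLib.FrattiniLe.frattini_le_of_pow_of_commutator (p := p)
      (fun x => by rw [hexp]; exact one_mem _) commutator_le) ?_
    rw [← hcomm]
    exact CfsgLib.Coprime.commutator_le_frattini hpg
  let ε : H ≃* θ.range := MonoidHom.ofInjective hθ
  have hcR : Subgroup.center θ.range = (Subgroup.center H).map ε.toMonoidHom := by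
    ext x
    rw [Subgroup.mem_map_equiv, Subgroup.mem_center_iff, Subgroup.mem_center_iff]
    exact ⟨fun h y => ε.injective (by simpa using h (ε y)),
      fun h y => ε.symm.injective (by simpa using h (ε.symm y))⟩
  have hkR : commutator θ.range = (commutator H).map ε.toMonoidHom := by
    rw [commutator_def, commutator_def, Subgroup.map_commutator,
      Subgroup.map_top_of_surjective ε.toMonoidHom ε.surjective]
  have hexp' : ∀ x ∈ θ.range, x ^ p = 1 := by
    rintro _ ⟨h, rfl⟩
    rw [← map_pow, hexp, map_one]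
  haveI : Finite H := Finite.of_surjective q hq.2
  haveI : Finite θ.range := Finite.of_equiv _ ε.toEquiv
  have hcard' : Nat.card θ.range = p ^ (1 + 2 * n) := by
    rw [← Nat.card_congr ε.toEquiv, hcard]
  have hpgR : IsPGroup p θ.range := IsPGroup.of_card hcard'
  have hck : commutator θ.range = Subgroup.center θ.range := by rw [hkR, hcomm, hcR]
  refine ⟨θ.range, ⟨⟨hpgR, ?_, hck⟩, ?_⟩, hcard', hexp'⟩
  · refine le_antisymm (CfsgLib.FrattiniLe.frattini_le_of_pow_of_commutator (p := p)
      (fun x => ?_) hck.le) (hck ▸ CfsgLib.Coprime.commutator_le_frattini hpgR)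
    have : x ^ p = 1 := Subtype.ext (hexp' x.1 x.2)
    rw [this]; exact one_mem _
  · rw [hcR]
    exact (Subgroup.card_map_of_injective (f := ε.toMonoidHom) ε.injective).trans hZ

end CfsgLib.PGroup.HeisenbergMatrix
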