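import Mathlib

/-!
# Counting involutions in two-groups with at most one nontrivial square and commutator

If all squares and commutators lie in `{1, z}` then the sum of the signs `±1` over the group
(`+1` at square roots of `1`, `-1` elsewhere) squares to `|G| |Z(G)|` or to `0`.
-/

set_option autoImplicit false
set_option linter.unusedSectionVars false
set_option linter.style.haveILetI false

open Subgroup
open scoped commutatorElement

namespace CfsgLib.PGroup

universe u v

variable {G : Type u} [Group G]

/-- All squares and all commutators are `1` or the central involution `z`. -/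
structure SquareData (z : G) : Prop where
  /-- The element is central. -/
  mem_center : z ∈ center G
  /-- The element is nontrivial. -/
  ne_one : z ≠ 1
  /-- The element is an involution. -/
  sq_eq : z ^ 2 = 1
  /-- The squares. -/
  sq_mem : ∀ g : G, g ^ 2 = 1 ∨ g ^ 2 = z
  /-- The commutators. -/
  comm_mem : ∀ a b : G, ⁅a, b⁆ = 1 ∨ ⁅a, b⁆ = z

open Classical in
/-- `+1` at the identity and `-1` elsewhere. -/
noncomputable def markSign (c : G) : ℤ := if c = 1 then 1 else -1

/-- `+1` at the square roots of the identity and `-1` elsewhere. -/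
noncomputable def invSign (g : G) : ℤ := markSign (g ^ 2)

/-- Twice the number of square roots of the identity, minus the order. -/
noncomputable def signSum (G : Type u) [Group G] : ℤ :=
  2 * Nat.card {x : G // x ^ 2 = 1} - Nat.card G

theorem markSign_one : markSign (1 : G) = 1 := if_pos rfl

theorem invSign_of_sq {g : G} (h : g ^ 2 = 1) : invSign g = 1 := if_pos h

theorem invSign_of_ne {g : G} (h : g ^ 2 ≠ 1) : invSign g = -1 := if_neg h

theorem invSign_mul_self (g : G) : invSign g * invSign g = 1 := by
  by_cases h : g ^ 2 = 1
  · rw [invSign_of_sq h, one_mul]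
  · rw [invSign_of_ne h]; rfl

open Classical in
theorem signSum_eq [Fintype G] : signSum G = ∑ g : G, invSign g := by
  simp only [invSign, markSign, Finset.sum_ite, Finset.sum_const, nsmul_eq_mul, mul_one, mul_neg]
  have h := Finset.card_filter_add_card_filter_not (s := (Finset.univ : Finset G))
    (fun g => g ^ 2 = 1)
  rw [signSum, Nat.card_eq_fintype_card, Nat.card_eq_fintype_card, Fintype.card_subtype,
    ← Finset.card_univ (α := G), ← h]
  push_cast
  ring

namespace SquareData

variable {z : G} (h : SquareData z)

include h

theorem markSign_z : markSign z = -1 := if_neg h.ne_one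

theorem markSign_mul {a b : G} (ha : a = 1 ∨ a = z) (hb : b = 1 ∨ b = z) :
    markSign (a * b) = markSign a * markSign b := by
  rcases ha with rfl | rfl
  · rw [one_mul, markSign_one, one_mul]
  · rcases hb with rfl | rfl
    · rw [mul_one, markSign_one, mul_one]
    · rw [← pow_two, h.sq_eq, markSign_one, h.markSign_z]; rfl

theorem mul_mem_pair {a b : G} (ha : a = 1 ∨ a = z) (hb : b = 1 ∨ b = z) :
    a * b = 1 ∨ a * b = z := by
  rcases ha with rfl | rfl <;> rcases hb with rfl | rfl <;> simp [← pow_two, h.sq_eq]

theorem comm_central (a b c : G) : c * ⁅a, b⁆ = ⁅a, b⁆ * c := by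
  rcases h.comm_mem a b with e | e <;> rw [e]
  · simp
  · exact mem_center_iff.1 h.mem_center c

theorem comm_mul (t a b : G) : ⁅a * b, t⁆ = ⁅a, t⁆ * ⁅b, t⁆ := by
  have e : ⁅a * b, t⁆ = a * ⁅b, t⁆ * a⁻¹ * ⁅a, t⁆ := by
    simp only [commutatorElement_def]; group
  rw [e, h.comm_central b t a, mul_inv_cancel_right, h.comm_central a t]

theorem comm_symm (a b : G) : ⁅a, b⁆ = ⁅b, a⁆ := by
  rw [← commutatorElement_inv]
  rcases h.comm_mem b a with e | e <;> rw [e]
  · exact inv_one
  · exact inv_eq_of_mul_eq_one_right (by rw [← pow_two, h.sq_eq])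

theorem invSign_mul (x t : G) : invSign (x * t) = markSign ⁅t, x⁆ * (invSign x * invSign t) := by
  have e1 : t * x = ⁅t, x⁆ * (x * t) := by simp only [commutatorElement_def]; group
  have e2 : (x * t) ^ 2 = ⁅t, x⁆ * (x ^ 2 * t ^ 2) := by
    calc (x * t) ^ 2 = x * (t * x) * t := by rw [pow_two]; group
      _ = x * ⁅t, x⁆ * (x * t * t) := by rw [e1]; group
      _ = ⁅t, x⁆ * (x ^ 2 * t ^ 2) := by rw [h.comm_central, pow_two, pow_two]; group
  simp only [invSign, e2]
  rw [h.markSign_mul (h.comm_mem t x) (h.mul_mem_pair (h.sq_mem x) (h.sq_mem t)),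
    h.markSign_mul (h.sq_mem x) (h.sq_mem t)]

open Classical in
/-- A sign character sums to the order or to zero. -/
theorem sum_markSign {H : Type v} [Group H] [Fintype H] (f : H → G) (hf : ∀ a, f a = 1 ∨ f a = z)
    (hm : ∀ a b, f (a * b) = f a * f b) :
    ∑ a, markSign (f a) = if ∀ a, f a = 1 then (Fintype.card H : ℤ) else 0 := by
  split_ifs with hc
  · simp [hc, markSign_one]
  · push Not at hc
    obtain ⟨y, hy⟩ := hc
    have hyz : f y = z := (hf y).resolve_left hy
    have e := Fintype.sum_equiv (Equiv.mulLeft y) (fun a => markSign (f (y * a)))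
      (fun a => markSign (f a)) (fun a => rfl)
    have e' : ∀ a, markSign (f (y * a)) = - markSign (f a) := fun a => by
      rw [hm, h.markSign_mul (hf y) (hf a), hyz, h.markSign_z, neg_one_mul]
    simp only [e', Finset.sum_neg_distrib] at e
    omega

open Classical in
/-- The sign sum is supported on the centralizer of a group of square roots of one. -/
theorem sum_eq_centralizer [Fintype G] (A : Subgroup G) (hA : ∀ a ∈ A, a ^ 2 = 1) :
    ∑ g : G, invSign g =
      ∑ g ∈ Finset.univ.filter (· ∈ centralizer (A : Set G)), invSign g := by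
  have key : ∀ g : G, ∑ a : A, markSign ⁅(a : G), g⁆ =
      if g ∈ centralizer (A : Set G) then (Fintype.card A : ℤ) else 0 := by
    intro g
    rw [h.sum_markSign (fun a : A => ⁅(a : G), g⁆) (fun a => h.comm_mem _ _)
      (fun a b => by simpa using h.comm_mul g a b)]
    refine if_congr ?_ rfl rfl
    rw [mem_centralizer_iff]
    exact ⟨fun hh a ha => commutatorElement_eq_one_iff_mul_comm.1 (hh ⟨a, ha⟩),
      fun hh a => commutatorElement_eq_one_iff_mul_comm.2 (hh a a.2)⟩
  have h1 : (Fintype.card A : ℤ) * ∑ g : G, invSign g =
      (Fintype.card A : ℤ) *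
        ∑ g ∈ Finset.univ.filter (· ∈ centralizer (A : Set G)), invSign g := by
    calc (Fintype.card A : ℤ) * ∑ g : G, invSign g
        = ∑ a : A, ∑ g : G, invSign g := by
          rw [Finset.sum_const, nsmul_eq_mul, Finset.card_univ]
      _ = ∑ a : A, ∑ g : G, markSign ⁅(a : G), g⁆ * invSign g := by
          refine Finset.sum_congr rfl fun a _ => ?_
          rw [← Fintype.sum_equiv (Equiv.mulRight (a : G)) (fun g => invSign (g * (a : G)))
            (fun g => invSign g) (fun g => rfl)]
          refine Finset.sum_congr rfl fun g _ => ?_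
          rw [h.invSign_mul, invSign_of_sq (hA a a.2), mul_one]
      _ = ∑ g : G, invSign g * ∑ a : A, markSign ⁅(a : G), g⁆ := by
          rw [Finset.sum_comm]
          exact Finset.sum_congr rfl fun g _ => by
            rw [Finset.mul_sum]
            exact Finset.sum_congr rfl fun a _ => mul_comm _ _
      _ = _ := by
          rw [Finset.mul_sum, Finset.sum_filter]
          refine Finset.sum_congr rfl fun g _ => ?_
          rw [key]
          split_ifs <;> ring
  exact mul_left_cancel₀ (by exact_mod_cast Fintype.card_ne_zero) h1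

open Classical in
/-- The square of the sign sum. -/
theorem sq_signSum [Finite G] : signSum G * signSum G =
    if ∀ t ∈ center G, t ^ 2 = 1 then (Nat.card G : ℤ) * Nat.card (center G) else 0 := by
  letI := Fintype.ofFinite G
  rw [signSum_eq]
  have inner : ∀ t : G, ∑ x : G, markSign ⁅t, x⁆ =
      if t ∈ center G then (Fintype.card G : ℤ) else 0 := by
    intro t
    rw [Fintype.sum_congr _ (fun x => markSign ⁅x, t⁆) (fun x => by rw [h.comm_symm]),
      h.sum_markSign (fun x => ⁅x, t⁆) (fun x => h.comm_mem _ _) (fun a b => h.comm_mul t a b)]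
    refine if_congr ?_ rfl rfl
    rw [Subgroup.mem_center_iff]
    exact forall_congr' fun x => commutatorElement_eq_one_iff_mul_comm
  have hpow : ∀ a b : center G, ((a * b : center G) : G) ^ 2 = (a : G) ^ 2 * (b : G) ^ 2 :=
    fun a b => by
      rw [Subgroup.coe_mul]
      exact Commute.mul_pow (Subgroup.mem_center_iff.1 b.2 (a : G)) 2
  calc (∑ x : G, invSign x) * ∑ y : G, invSign y
      = ∑ x : G, ∑ y : G, invSign x * invSign y := Finset.sum_mul_sum _ _ _ _
    _ = ∑ x : G, ∑ t : G, invSign x * invSign (x * t) :=
        Finset.sum_congr rfl fun x _ => (Fintype.sum_equiv (Equiv.mulLeft x)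
          (fun t => invSign x * invSign (x * t)) (fun y => invSign x * invSign y)
          fun t => rfl).symm
    _ = ∑ t : G, invSign t * ∑ x : G, markSign ⁅t, x⁆ := by
        rw [Finset.sum_comm]
        refine Finset.sum_congr rfl fun t _ => ?_
        rw [Finset.mul_sum]
        refine Finset.sum_congr rfl fun x _ => ?_
        rw [h.invSign_mul]
        linear_combination (invSign t * markSign ⁅t, x⁆) * invSign_mul_self x
    _ = ∑ t ∈ Finset.univ.filter (· ∈ center G), invSign t * (Fintype.card G : ℤ) := by
        rw [Finset.sum_filter]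
        refine Finset.sum_congr rfl fun t _ => ?_
        rw [inner]
        split_ifs <;> simp
    _ = (∑ t : center G, markSign ((t : G) ^ 2)) * (Fintype.card G : ℤ) := by
        rw [← Finset.sum_mul]
        congr 1
        exact Finset.sum_subtype _ (by simp) _
    _ = _ := by
        rw [h.sum_markSign (fun t : center G => (t : G) ^ 2) (fun t => h.sq_mem _) hpow]
        simp only [Subtype.forall, Nat.card_eq_fintype_card]
        split_ifs <;> ring

end SquareData

end CfsgLib.PGroup
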