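import Mathlib.RingTheory.Ideal.Defs
import Mathlib.FieldTheory.Finite.Basic
import Mathlib.Algebra.CharP.Algebra
import Mathlib.GroupTheory.PGroup

/-!
An irreducible operator of prime order on an elementary abelian group.
-/

set_option autoImplicit false
set_option linter.style.haveILetI false

namespace CfsgLib.PGroup

theorem card_le_of_forall_pow_eq_self {R : Type*} [CommRing R] [IsDomain R] [Finite R] {n : ℕ}
    (hn : 1 < n) (h : ∀ r : R, r ^ n = r) : Nat.card R ≤ n := by
  classical
  haveI := Fintype.ofFinite R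
  let f : Polynomial R := Polynomial.X ^ n - Polynomial.X
  have hm : f.Monic := (Polynomial.monic_X_pow_sub (n := n) (by
    rw [Polynomial.degree_X]; exact_mod_cast hn))
  have hdeg : f.natDegree = n := by
    simp only [f]
    rw [Polynomial.natDegree_sub_eq_left_of_natDegree_lt] <;> simp [hn]
  have h1 := Polynomial.card_le_degree_of_subset_roots (p := f) (Z := Finset.univ) (fun r _ => by
    rw [Polynomial.mem_roots hm.ne_zero]
    simp [f, h r])
  rw [hdeg, Finset.card_univ] at h1
  rwa [Nat.card_eq_fintype_card]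

theorem card_of_irreducible_operator {V : Type*} [AddCommGroup V] [Finite V] {p q : ℕ}
    (hp : p.Prime) (hq : q.Prime) (hpq : q ≠ p) (hqV : ∀ v : V, q • v = 0)
    (T : AddMonoid.End V) (hT : T ^ p = 1) (hT1 : T ≠ 1)
    (hirr : ∀ U : AddSubgroup V, (∀ u ∈ U, T u ∈ U) → U = ⊥ ∨ U = ⊤) :
    Nat.card V = q ^ orderOf (q : ZMod p) := by
  classical
  haveI := Fact.mk hp
  haveI := Fact.mk hq
  obtain ⟨v, hv⟩ : ∃ v : V, v ≠ 0 := by
    by_contra h
    push Not at h
    exact hT1 (AddMonoidHom.ext fun v => (h (T v)).trans (h ((1 : AddMonoid.End V) v)).symm)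
  haveI : Finite (AddMonoid.End V) := Finite.of_injective (fun f => (f : V → V)) DFunLike.coe_injective
  let S : Subring (AddMonoid.End V) := Subring.closure {T}
  have hSc : ∀ a ∈ S, ∀ b ∈ S, a * b = b * a := by
    have h1 : S ≤ Subring.centralizer {T} := Subring.closure_le.2 fun a ha => by
      rw [Set.mem_singleton_iff.1 ha]
      exact Subring.mem_centralizer_iff.2 fun g hg => by rw [Set.mem_singleton_iff.1 hg]
    have h2 : S ≤ Subring.centralizer (S : Set (AddMonoid.End V)) := Subring.closure_le.2 fun a ha =>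
      Subring.mem_centralizer_iff.2 fun g hg => by
        rw [Set.mem_singleton_iff.1 ha]
        exact (Subring.mem_centralizer_iff.1 (h1 hg) T rfl).symm
    exact fun a ha b hb => (Subring.mem_centralizer_iff.1 (h2 hb) a ha)
  letI hS : CommRing S :=
    { (inferInstance : Ring S) with mul_comm := fun a b => Subtype.ext (hSc a a.2 b b.2) }
  have hcomm : ∀ s : S, ∀ w : V, (s : AddMonoid.End V) (T w) = T ((s : AddMonoid.End V) w) := by
    intro s w
    have h : (s : AddMonoid.End V) * T = T * s :=
      congrArg Subtype.val (mul_comm s ⟨T, Subring.subset_closure rfl⟩)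
    exact DFunLike.congr_fun h w
  have hTS : T ∈ S := Subring.subset_closure rfl
  have hinj : ∀ s : S, s ≠ 0 → ∀ w, (s : AddMonoid.End V) w = 0 → w = 0 := by
    intro s hs w hw
    rcases hirr (AddMonoidHom.ker (s : AddMonoid.End V)) (fun u hu => by
      show (s : AddMonoid.End V) (T u) = 0
      rw [hcomm, show (s : AddMonoid.End V) u = 0 from hu, map_zero]) with h | h
    · have : w ∈ AddMonoidHom.ker (s : AddMonoid.End V) := hw
      rwa [h, AddSubgroup.mem_bot] at this
    · refine absurd (Subtype.ext (AddMonoidHom.ext fun u => ?_)) hs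
      have : u ∈ AddMonoidHom.ker (s : AddMonoid.End V) := h ▸ AddSubgroup.mem_top u
      exact this
  let ev : S →+ V := (AddMonoidHom.eval v).comp S.subtype.toAddMonoidHom
  have hev : Function.Bijective ev := by
    refine ⟨(injective_iff_map_eq_zero ev).2 fun s hs => ?_, ?_⟩
    · by_contra h
      exact hv (hinj s h v hs)
    · rw [← AddMonoidHom.range_eq_top]
      refine (hirr ev.range ?_).resolve_left ?_
      · rintro _ ⟨s, rfl⟩
        exact ⟨⟨T, hTS⟩ * s, rfl⟩
      · intro h
        have : v ∈ ev.range := ⟨1, rfl⟩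
        rw [h, AddSubgroup.mem_bot] at this
        exact hv this
  have hcard : Nat.card S = Nat.card V := Nat.card_eq_of_bijective ev hev
  haveI : Nontrivial S := ⟨⟨1, 0, fun h => hv (DFunLike.congr_fun (congrArg Subtype.val h) v)⟩⟩
  haveI hdom : IsDomain S := by
    refine @NoZeroDivisors.to_isDomain _ _ _ ⟨fun {a b} hab => ?_⟩
    by_contra h
    push Not at h
    refine h.2 (hev.1 ?_)
    rw [map_zero]
    refine hinj a h.1 _ ?_
    exact DFunLike.congr_fun (congrArg Subtype.val hab) v
  haveI hSq : CharP S q := by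
    refine (CharP.charP_iff_prime_eq_zero hq).2 ?_
    refine Subtype.ext (AddMonoidHom.ext fun w => ?_)
    show ((q : S) : AddMonoid.End V) w = 0
    rw [← nsmul_one q, AddSubmonoidClass.coe_nsmul]
    exact hqV w
  set d := orderOf (q : ZMod p)
  have hq0 : (q : ZMod p) ≠ 0 := by
    rw [Ne, ZMod.natCast_eq_zero_iff]
    exact fun h => hpq ((Nat.prime_dvd_prime_iff_eq hp hq).1 h).symm
  have hd0 : 0 < d := orderOf_pos_iff.2 (isOfFinOrder_iff_pow_eq_one.2 ⟨p - 1, by have := hp.two_le; omega, ZMod.pow_card_sub_one_eq_one hq0⟩)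
  -- every element is fixed by the `d`-th Frobenius power
  have hTd : T ^ q ^ d = T := by
    have h1 : q ^ d % p = 1 := by
      have : ((q ^ d : ℕ) : ZMod p) = ((1 : ℕ) : ZMod p) := by
        push_cast; exact pow_orderOf_eq_one _
      rw [ZMod.natCast_eq_natCast_iff'] at this
      rwa [Nat.one_mod_eq_one.2 hp.ne_one] at this
    rw [← Nat.mod_add_div (q ^ d) p, h1, pow_add, pow_one, pow_mul, hT, one_pow, mul_one]
  have hfix : ∀ s : S, s ^ q ^ d = s := by
    rintro ⟨s, hs⟩
    induction hs using Subring.closure_induction with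
    | mem a ha =>
      obtain rfl : a = T := ha
      exact Subtype.ext hTd
    | zero => exact zero_pow (pow_ne_zero d hq.ne_zero)
    | one => exact one_pow _
    | add a b ha hb iha ihb =>
      have := add_pow_char_pow (R := S) (p := q) (n := d) ⟨a, ha⟩ ⟨b, hb⟩
      rw [iha, ihb] at this
      exact this
    | neg a ha iha =>
      rcases hq.eq_two_or_odd' with rfl | hodd
      · have h2 : (-⟨a, ha⟩ : S) = ⟨a, ha⟩ := CharTwo.neg_eq _
        show (-⟨a, ha⟩ : S) ^ 2 ^ d = -⟨a, ha⟩
        rw [h2, iha]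
      · show (-⟨a, ha⟩ : S) ^ q ^ d = -⟨a, ha⟩
        rw [(hodd.pow).neg_pow, iha]
    | mul a b ha hb iha ihb =>
      show ((⟨a, ha⟩ : S) * ⟨b, hb⟩) ^ q ^ d = ⟨a, ha⟩ * ⟨b, hb⟩
      rw [mul_pow, iha, ihb]
  haveI := Fintype.ofFinite S
  have hle : Nat.card S ≤ q ^ d :=
    card_le_of_forall_pow_eq_self (Nat.one_lt_pow hd0.ne' hq.one_lt) hfix
  -- the order of `q` divides the exponent
  have hpg : IsPGroup q (Multiplicative V) := fun w => ⟨1, by rw [pow_one]; exact hqV w.toAdd⟩
  obtain ⟨n, hn⟩ := IsPGroup.iff_card.1 hpg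
  have hn' : Nat.card V = q ^ n := by rw [← hn]; exact Nat.card_congr Multiplicative.ofAdd
  have hn0 : n ≠ 0 := by
    rintro rfl
    haveI : Nontrivial V := ⟨v, 0, hv⟩
    have := Finite.one_lt_card (α := V)
    rw [hn'] at this
    simp at this
  have hdn : d ∣ n := by
    letI := Fintype.fieldOfDomain S
    let u : Sˣ := Units.mk0 ⟨T, hTS⟩ fun h => by
      have h' : T = 0 := congrArg Subtype.val h
      have : (1 : AddMonoid.End V) = 0 := by rw [← hT, h', zero_pow hp.ne_zero]
      exact hv (DFunLike.congr_fun this v)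
    have hu : orderOf u = p := by
      refine orderOf_eq_prime (Units.ext (Subtype.ext ?_)) fun h => hT1 ?_
      · exact hT
      · exact congrArg (fun w : Sˣ => ((w : S) : AddMonoid.End V)) h
    have h1 := orderOf_dvd_natCard u
    rw [hu, Nat.card_units, hcard, hn'] at h1
    refine orderOf_dvd_of_pow_eq_one ?_
    have h2 : ((q ^ n - 1 : ℕ) : ZMod p) = 0 := (ZMod.natCast_eq_zero_iff ..).2 h1
    rw [Nat.cast_sub (Nat.one_le_pow _ _ hq.pos), sub_eq_zero] at h2
    exact_mod_cast h2
  refine hn'.trans (congrArg (q ^ ·) (le_antisymm ?_ (Nat.le_of_dvd (Nat.pos_of_ne_zero hn0) hdn)))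
  rw [hcard, hn'] at hle
  exact (Nat.pow_le_pow_iff_right hq.one_lt).1 hle

end CfsgLib.PGroup
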