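import Cfsg.Agent.Lib.PGroup.NilpotentCover
import Mathlib.LinearAlgebra.Matrix.GeneralLinearGroup.Basic
import Mathlib.LinearAlgebra.Matrix.SpecialLinearGroup
import Mathlib.LinearAlgebra.Matrix.Transvection
import Mathlib.LinearAlgebra.Matrix.Block
import Mathlib.FieldTheory.Finite.Basic

/-!
# Nilpotent covers of groups between `PSL n F` and `PGL n F`: the cases with a torus or `n ≥ 3`

A nilpotent subgroup containing the regular unipotent `1 + N` is upper triangular.
-/

set_option autoImplicit false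
set_option linter.style.haveILetI false

namespace CfsgLib.PGroup.LinCov

open Matrix CfsgLib.PGroup

variable {F : Type*} [Field F] {n : ℕ}

local notation "⟪" g "⟫" => ((g : GL (Fin n) F) : Matrix (Fin n) (Fin n) F)

/-- A multiplicatively closed subset of a finite group as a subgroup. -/
def ofMulClosed {G : Type*} [Group G] [Finite G] (S : Set G) (h1 : 1 ∈ S)
    (hmul : ∀ x y, x ∈ S → y ∈ S → x * y ∈ S) : Subgroup G where
  carrier := S
  one_mem' := h1
  mul_mem' := fun hx hy => hmul _ _ hx hy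
  inv_mem' := fun {x} hx => by
    obtain ⟨k, hk⟩ : x⁻¹ ∈ Submonoid.powers x :=
      ((isOfFinOrder_of_finite x).mem_powers_iff_mem_zpowers).2
        (inv_mem (Subgroup.mem_zpowers x))
    rw [← hk]
    exact Submonoid.pow_mem
      { carrier := S, one_mem' := h1, mul_mem' := fun ha hb => hmul _ _ ha hb } hx k

theorem mem_ofMulClosed {G : Type*} [Group G] [Finite G] {S : Set G} {h1 : 1 ∈ S}
    {hmul : ∀ x y, x ∈ S → y ∈ S → x * y ∈ S} {x : G} :
    x ∈ ofMulClosed S h1 hmul ↔ x ∈ S := Iff.rfl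

variable [Finite F]

/-- Upper triangular matrices. -/
def utGL (F : Type*) [Field F] [Finite F] (n : ℕ) : Subgroup (GL (Fin n) F) :=
  ofMulClosed {x | ∀ i j : Fin n, j < i → (x : Matrix (Fin n) (Fin n) F) i j = 0}
    (fun i j hij => by rw [Units.val_one, Matrix.one_apply_ne (ne_of_gt hij)])
    (fun x y hx hy i j hij => by
      rw [Units.val_mul, Matrix.mul_apply]
      refine Finset.sum_eq_zero fun k _ => ?_
      by_cases hk : k < i
      · rw [hx i k hk, zero_mul]
      · rw [hy k j (lt_of_lt_of_le hij (not_lt.1 hk)), mul_zero])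

theorem mem_utGL {x : GL (Fin n) F} : x ∈ utGL F n ↔ ∀ i j : Fin n, j < i → ⟪x⟫ i j = 0 := Iff.rfl

/-- The stabilizer of the first coordinate line. -/
def lineGL (F : Type*) [Field F] [Finite F] (n : ℕ) : Subgroup (GL (Fin n) F) :=
  ofMulClosed {x | ∀ i j : Fin n, j.val = 0 → i.val ≠ 0 → (x : Matrix (Fin n) (Fin n) F) i j = 0}
    (fun i j hj hi => by rw [Units.val_one, Matrix.one_apply_ne (by rintro rfl; exact hi hj)])
    (fun x y hx hy i j hj hi => by
      rw [Units.val_mul, Matrix.mul_apply]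
      refine Finset.sum_eq_zero fun k _ => ?_
      by_cases hk : k.val = 0
      · rw [hx i k hk hi, zero_mul]
      · rw [hy k j hj hk, mul_zero])

theorem utGL_le_lineGL : utGL F n ≤ lineGL F n := fun x hx i j hj hi =>
  hx i j (Fin.lt_def.2 (by omega))

theorem center_le_utGL : Subgroup.center (GL (Fin n) F) ≤ utGL F n := by
  intro z hz i j hij
  obtain ⟨c, hc⟩ := Matrix.GeneralLinearGroup.mem_center_iff_val_mem_range_scalar.1 hz
  rw [← hc, Matrix.scalar_apply, Matrix.diagonal_apply_ne _ (ne_of_gt hij)]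

/-- `1 + N` with `N` the nilpotent shift. -/
def regUni (F : Type*) [Field F] (n : ℕ) : Matrix.SpecialLinearGroup (Fin n) F :=
  ⟨Matrix.of fun i j => if i = j then 1 else if i.val + 1 = j.val then 1 else 0, by
    refine (Matrix.det_of_isUpperTriangular ?_).trans ?_
    · intro i j hij
      simp only [id] at hij
      rw [Matrix.of_apply, if_neg (ne_of_gt hij), if_neg (by have := Fin.lt_def.1 hij; omega)]
    · simp⟩

omit [Finite F] in
theorem regUni_apply (i j : Fin n) :
    ⟪SpecialLinearGroup.toGL (regUni F n)⟫ i j =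
      if i = j then 1 else if i.val + 1 = j.val then 1 else 0 := rfl

theorem regUni_mem : SpecialLinearGroup.toGL (regUni F n) ∈ utGL F n := by
  intro i j hij
  rw [regUni_apply, if_neg (ne_of_gt hij), if_neg (by have := Fin.lt_def.1 hij; omega)]

/-- Only upper triangular matrices move `1 + N` into the upper triangular group. -/
theorem mem_utGL_of_conj_regUni {y : GL (Fin n) F}
    (h : y * SpecialLinearGroup.toGL (regUni F n) * y⁻¹ ∈ utGL F n) : y ∈ utGL F n := by
  set u : GL (Fin n) F := SpecialLinearGroup.toGL (regUni F n) with hu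
  set b : GL (Fin n) F := y * u * y⁻¹ with hb
  rw [← inv_mem_iff]
  set z : GL (Fin n) F := y⁻¹ with hz
  have huz : u * z = z * b := by simp only [hz, hb]; group
  suffices hcol : ∀ c : ℕ, ∀ i j : Fin n, j.val = c → j < i → ⟪z⟫ i j = 0 from
    fun i j hij => hcol _ i j rfl hij
  intro c
  induction c using Nat.strong_induction_on with
  | _ c ih =>
    intro i₀ j hjc hij₀
    have hrow : ∀ i : Fin n, j ≤ i →
        (∀ k : Fin n, k.val = i.val + 1 → ⟪z⟫ k j = ⟪z⟫ i j * (⟪b⟫ j j - 1)) ∧
        (i.val + 1 = n → ⟪z⟫ i j * (⟪b⟫ j j - 1) = 0) := by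
      intro i hi
      have he := congrFun (congrFun
        (congrArg (fun g : GL (Fin n) F => (g : Matrix (Fin n) (Fin n) F)) huz) i) j
      have hL : (⟪u⟫ * ⟪z⟫) i j = ⟪z⟫ i j + ∑ k, if i.val + 1 = k.val then ⟪z⟫ k j else 0 := by
        rw [Matrix.mul_apply]
        have hsplit : ∀ k, ⟪u⟫ i k * ⟪z⟫ k j =
            (if i = k then ⟪z⟫ k j else 0) + (if i.val + 1 = k.val then ⟪z⟫ k j else 0) := by
          intro k
          rw [hu, regUni_apply]
          by_cases h1 : i = k
          · subst h1; simp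
          · by_cases h2 : i.val + 1 = k.val <;> simp [h1, h2]
        rw [Finset.sum_congr rfl fun k _ => hsplit k, Finset.sum_add_distrib, Finset.sum_ite_eq]
        simp
      have hR : (⟪z⟫ * ⟪b⟫) i j = ⟪z⟫ i j * ⟪b⟫ j j := by
        rw [Matrix.mul_apply]
        refine Finset.sum_eq_single j (fun k _ hk => ?_) (by simp)
        rcases lt_or_gt_of_ne hk with hkj | hkj
        · rw [ih k.val (by have := Fin.lt_def.1 hkj; omega) i k rfl (lt_of_lt_of_le hkj hi),
            zero_mul]
        · rw [h k j hkj, mul_zero]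
      simp only [Units.val_mul] at he
      rw [hL, hR] at he
      refine ⟨fun k hk => ?_, fun hlast => ?_⟩
      · rw [Finset.sum_eq_single k (fun l _ hl => if_neg (fun hc => hl (Fin.ext (by omega))))
          (by simp), if_pos hk.symm] at he
        linear_combination he
      · rw [Finset.sum_eq_zero (fun l _ => if_neg (by omega))] at he
        linear_combination -he
    by_cases hc0 : ⟪b⟫ j j - 1 = 0
    · have hlt := Fin.lt_def.1 hij₀
      have h1 := (hrow ⟨i₀.val - 1, by omega⟩ (Fin.le_def.2 (by simp only; omega))).1 i₀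
        (by simp only; omega)
      rw [h1, hc0, mul_zero]
    · suffices hdown : ∀ d : ℕ, ∀ i : Fin n, j ≤ i → i.val + d + 1 = n → ⟪z⟫ i j = 0 from
        hdown (n - 1 - i₀.val) i₀ hij₀.le (by omega)
      intro d
      induction d with
      | zero =>
        intro i hi hlast
        exact (mul_eq_zero.1 ((hrow i hi).2 (by omega))).resolve_right hc0
      | succ d ihd =>
        intro i hi hlast
        have h1 := (hrow i hi).1 ⟨i.val + 1, by omega⟩ rfl
        rw [ihd ⟨i.val + 1, by omega⟩ (Fin.le_def.2 (by simp only; have := Fin.le_def.1 hi; omega))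
          (by simp only; omega)] at h1
        exact (mul_eq_zero.1 h1.symm).resolve_right hc0

theorem le_utGL_of_nilpotent (A : Subgroup (GL (Fin n) F)) (hA : Group.IsNilpotent A)
    (hu : SpecialLinearGroup.toGL (regUni F n) ∈ A) : A ≤ utGL F n :=
  le_of_nilpotent_of_conj_mem A _ hA hu regUni_mem fun _ _ => mem_utGL_of_conj_regUni

/-- The statement that a group has no nilpotent minimal cover. -/
def NoNilCover (G : Type*) [Group G] : Prop :=
  ¬ ∃ 𝓐 : Finset (Subgroup G), ((∀ A ∈ 𝓐, A ≠ ⊤) ∧ (∀ g : G, ∃ A ∈ 𝓐, g ∈ A)) ∧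
    (∀ 𝓑 : Finset (Subgroup G), (∀ A ∈ 𝓑, A ≠ ⊤) ∧ (∀ g : G, ∃ A ∈ 𝓑, g ∈ A) → 𝓐.card ≤ 𝓑.card) ∧
    (∀ A ∈ 𝓐, Group.IsNilpotent ↥A)

variable (G : Subgroup (GL (Fin n) F ⧸ Subgroup.center (GL (Fin n) F)))
  (hG : ∀ s : Matrix.SpecialLinearGroup (Fin n) F,
    QuotientGroup.mk' _ (SpecialLinearGroup.toGL s) ∈ G)

include hG in
theorem noNilCover_of_three_le (hn : 3 ≤ n) : NoNilCover G := by
  set a0 : Fin n := ⟨0, by omega⟩
  set a1 : Fin n := ⟨1, by omega⟩
  set a2 : Fin n := ⟨2, by omega⟩
  have h01 : a1 ≠ a0 := by simp [a0, a1]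
  set t : Matrix.SpecialLinearGroup (Fin n) F :=
    ⟨Matrix.transvection a1 a0 1, Matrix.det_transvection_of_ne _ _ h01 _⟩ with ht
  set σ : Equiv.Perm (Fin n) := Equiv.swap a1 a2 with hσ
  set U : Matrix (Fin n) (Fin n) F := (regUni F n : Matrix (Fin n) (Fin n) F) with hU
  set s : Matrix.SpecialLinearGroup (Fin n) F :=
    ⟨U.submatrix σ σ, by rw [Matrix.det_submatrix_equiv_self]; exact (regUni F n).2⟩ with hs
  set P : Matrix (Fin n) (Fin n) F := (1 : Matrix (Fin n) (Fin n) F).submatrix σ id with hP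
  have hσσ : ∀ i, σ (σ i) = i := fun i => by rw [hσ, Equiv.swap_apply_self]
  have hPl : ∀ (M : Matrix (Fin n) (Fin n) F) i j, (P * M) i j = M (σ i) j := by
    intro M i j
    rw [Matrix.mul_apply, Finset.sum_eq_single (σ i) (fun k _ hk => by
      rw [hP, Matrix.submatrix_apply, id, Matrix.one_apply_ne (Ne.symm hk), zero_mul]) (by simp),
      hP, Matrix.submatrix_apply, id, Matrix.one_apply_eq, one_mul]
  have hPr : ∀ (M : Matrix (Fin n) (Fin n) F) i j, (M * P) i j = M i (σ j) := by
    intro M i j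
    rw [Matrix.mul_apply, Finset.sum_eq_single (σ j) (fun k _ hk => by
      rw [hP, Matrix.submatrix_apply, id, Matrix.one_apply_ne (fun h => hk (by rw [← h, hσσ])),
        mul_zero]) (by simp),
      hP, Matrix.submatrix_apply, id, hσσ, Matrix.one_apply_eq, mul_one]
  have hPP : P * P = 1 := by
    ext i j
    rw [hPl, hP, Matrix.submatrix_apply, id, hσσ]
  set W : GL (Fin n) F := ⟨P, P, hPP, hPP⟩ with hW
  have hWs : SpecialLinearGroup.toGL s = W * SpecialLinearGroup.toGL (regUni F n) * W⁻¹ := by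
    apply Units.ext
    ext i j
    change U (σ i) (σ j) = (P * U * P) i j
    rw [hPr, hPl]
  have hWline : W ∈ lineGL F n := by
    intro i j hj hi
    change (1 : Matrix (Fin n) (Fin n) F) (σ i) j = 0
    refine Matrix.one_apply_ne ?_
    intro hc
    have hja : σ j = j := by
      refine Equiv.swap_apply_of_ne_of_ne ?_ ?_ <;> (intro hh; rw [hh] at hj; simp [a1, a2] at hj)
    rw [← hja] at hc
    have := σ.injective hc
    exact hi (by rw [this]; exact hj)
  refine no_nilpotent_minimal_cover_lift (QuotientGroup.mk' _) (QuotientGroup.mk'_surjective _)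
    (by rw [QuotientGroup.ker_mk']) G (lineGL F n)
    (by rw [QuotientGroup.ker_mk']; exact center_le_utGL.trans utGL_le_lineGL)
    (SpecialLinearGroup.toGL t) (hG t) ?_
    (SpecialLinearGroup.toGL (regUni F n)) (SpecialLinearGroup.toGL s) (hG _) (hG _) ?_ ?_ ?_
  · intro h
    have h1 := h a1 a0 rfl (by simp [a1])
    change Matrix.transvection a1 a0 (1 : F) a1 a0 = 0 at h1
    simp [Matrix.transvection, Matrix.single, h01] at h1
  · exact fun A hA hu => (le_utGL_of_nilpotent A hA hu).trans utGL_le_lineGL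
  · intro A hA hu x hx
    haveI := hA
    have hu' : SpecialLinearGroup.toGL (regUni F n) ∈ A.map (MulAut.conj W⁻¹).toMonoidHom :=
      ⟨_, hu, by rw [hWs]; simp [mul_assoc]⟩
    have h := utGL_le_lineGL (le_utGL_of_nilpotent _
      (Group.nilpotent_of_mulEquiv (A.equivMapOfInjective _ (MulAut.conj W⁻¹).injective)) hu'
      ⟨x, hx, rfl⟩)
    have hx' : x = W * (MulAut.conj W⁻¹ x) * W⁻¹ := by simp [mul_assoc]
    rw [hx']
    exact mul_mem (mul_mem hWline h) (inv_mem hWline)
  · intro A hA hu hu'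
    have h := le_utGL_of_nilpotent A hA hu hu' a2 a1 (Fin.lt_def.2 (by simp [a1, a2]))
    change U (σ a2) (σ a1) = 0 at h
    rw [hσ, Equiv.swap_apply_right, Equiv.swap_apply_left, hU] at h
    change ⟪SpecialLinearGroup.toGL (regUni F n)⟫ a1 a2 = 0 at h
    rw [regUni_apply] at h
    simp [a1, a2] at h

end CfsgLib.PGroup.LinCov
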