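import Cfsg.Agent.Lib.PGroup.LinearCover

/-!
# Nilpotent covers of groups between `PSL 2 F` and `PGL 2 F`

If `q - 1` has an odd prime divisor the Borel replacement works; if `q + 1` has an odd prime
divisor, the point stabilizers and the nonsplit tori cover with fewer members than a nilpotent
cover needs.
-/

set_option autoImplicit false
set_option linter.style.haveILetI false

namespace CfsgLib.PGroup.LinCov

open Matrix CfsgLib.PGroup

variable {F : Type*} [Field F] [Finite F]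

local notation "⟪" g "⟫" => ((g : GL (Fin 2) F) : Matrix (Fin 2) (Fin 2) F)

/-- The transvection with axis and centre the line of `v`. -/
def tvec (v : Fin 2 → F) : Matrix.SpecialLinearGroup (Fin 2) F :=
  ⟨!![1 - v 0 * v 1, v 0 * v 0; -(v 1 * v 1), 1 + v 0 * v 1], by
    rw [Matrix.det_fin_two_of]; ring⟩

/-- `diag(a, a⁻¹)` -/
def dtor (a : Fˣ) : Matrix.SpecialLinearGroup (Fin 2) F :=
  ⟨!![(a : F), 0; 0, (a⁻¹ : Fˣ)], by rw [Matrix.det_fin_two_of]; simp⟩

/-- Stabilizer of the line of `v`. -/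
def vstab (v : Fin 2 → F) : Subgroup (GL (Fin 2) F) :=
  ofMulClosed {y | ∃ c : F, ⟪y⟫ *ᵥ v = c • v}
    ⟨1, by rw [Units.val_one, Matrix.one_mulVec, one_smul]⟩
    (fun x y ⟨c, hc⟩ ⟨d, hd⟩ => ⟨d * c, by
      rw [Units.val_mul, ← Matrix.mulVec_mulVec, hd, Matrix.mulVec_smul, hc, smul_smul]⟩)

/-- No eigenvector over `F`. -/
def Ellip (x : GL (Fin 2) F) : Prop := ∀ v : Fin 2 → F, v ≠ 0 → ∀ c : F, ⟪x⟫ *ᵥ v ≠ c • v

omit [Finite F] in
theorem parallel_of_cross {v x : Fin 2 → F} (hv : v ≠ 0) (h : v 0 * x 1 - v 1 * x 0 = 0) :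
    ∃ e : F, x = e • v := by
  by_cases h0 : v 0 = 0
  · have h1 : v 1 ≠ 0 := fun h1 => hv (funext fun i => by fin_cases i <;> assumption)
    refine ⟨x 1 / v 1, funext fun i => ?_⟩
    fin_cases i
    · have : x 0 = 0 := by simpa [h0, h1] using h
      simp [this, h0]
    · simp [h1]
  · refine ⟨x 0 / v 0, funext fun i => ?_⟩
    fin_cases i
    · simp [h0]
    · simp only [Fin.mk_one, Fin.isValue, Pi.smul_apply, smul_eq_mul]
      field_simp
      linear_combination h

omit [Finite F] in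
theorem tvec_mulVec (v x : Fin 2 → F) :
    ⟪SpecialLinearGroup.toGL (tvec v)⟫ *ᵥ x = x + (v 0 * x 1 - v 1 * x 0) • v := by
  funext i
  change ((!![1 - v 0 * v 1, v 0 * v 0; -(v 1 * v 1), 1 + v 0 * v 1] : Matrix _ _ F) *ᵥ x) i = _
  fin_cases i <;> simp [dotProduct, Fin.sum_univ_two] <;> ring

omit [Finite F] in
theorem tvec_eigen {v x : Fin 2 → F} (hv : v ≠ 0) {c : F}
    (h : ⟪SpecialLinearGroup.toGL (tvec v)⟫ *ᵥ x = c • x) : ∃ e : F, x = e • v := by
  rw [tvec_mulVec] at h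
  set δ := v 0 * x 1 - v 1 * x 0 with hδ
  by_cases h0 : δ = 0
  · exact parallel_of_cross hv h0
  · exfalso
    have e0 := congrFun h 0
    have e1 := congrFun h 1
    simp only [Pi.add_apply, Pi.smul_apply, smul_eq_mul] at e0 e1
    have hc : c - 1 = 0 ∨ δ = 0 := by
      rw [← mul_eq_zero]
      linear_combination (c - 1) * hδ - v 0 * e1 + v 1 * e0
    rcases hc with hc | hc
    · have hc1 : c = 1 := by linear_combination hc
      rw [hc1] at e0 e1
      have v0 : v 0 = 0 := (mul_eq_zero.1 (by linear_combination e0 : δ * v 0 = 0)).resolve_left h0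
      have v1 : v 1 = 0 := (mul_eq_zero.1 (by linear_combination e1 : δ * v 1 = 0)).resolve_left h0
      exact hv (funext fun i => by fin_cases i <;> assumption)
    · exact h0 hc

theorem tvec_mem_vstab (v : Fin 2 → F) : SpecialLinearGroup.toGL (tvec v) ∈ vstab v :=
  ⟨1, by rw [tvec_mulVec, mul_comm (v 1) (v 0), sub_self, zero_smul, add_zero, one_smul]⟩

theorem le_vstab_of_nilpotent {v : Fin 2 → F} (hv : v ≠ 0) (A : Subgroup (GL (Fin 2) F))
    (hA : Group.IsNilpotent A) (hu : SpecialLinearGroup.toGL (tvec v) ∈ A) : A ≤ vstab v := by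
  refine le_of_nilpotent_of_conj_mem A _ hA hu (tvec_mem_vstab v) fun y _ hy => ?_
  obtain ⟨c, hc⟩ := hy
  have h2 : ⟪SpecialLinearGroup.toGL (tvec v)⟫ *ᵥ (⟪y⁻¹⟫ *ᵥ v) = c • (⟪y⁻¹⟫ *ᵥ v) := by
    rw [← Matrix.mulVec_smul, ← hc, Matrix.mulVec_mulVec, Matrix.mulVec_mulVec, ← Units.val_mul,
      ← Units.val_mul]
    congr 2
    group
  obtain ⟨e, he⟩ := tvec_eigen hv h2
  refine inv_mem_iff.1 ?_
  exact ⟨e, he⟩

theorem vstab_eq_of_tvec_mem {v w : Fin 2 → F} (hv : v ≠ 0) (hw : w ≠ 0)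
    (h : SpecialLinearGroup.toGL (tvec v) ∈ vstab w) : vstab v = vstab w := by
  obtain ⟨c, hc⟩ := h
  obtain ⟨e, rfl⟩ := tvec_eigen hv hc
  have he : e ≠ 0 := fun h => hw (by rw [h, zero_smul])
  ext y
  constructor
  · rintro ⟨d, hd⟩
    exact ⟨d, by rw [Matrix.mulVec_smul, hd, smul_comm]⟩
  · rintro ⟨d, hd⟩
    rw [Matrix.mulVec_smul, smul_comm] at hd
    exact ⟨d, smul_right_injective _ he hd⟩

omit [Finite F] in
theorem exists_comb {x y : GL (Fin 2) F} (hx : Ellip x) (h : Commute y x) :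
    ∃ α β : F, ⟪y⟫ = α • (1 : Matrix (Fin 2) (Fin 2) F) + β • ⟪x⟫ := by
  have h10 : ⟪x⟫ 1 0 ≠ 0 := fun h0 => by
    refine hx ![1, 0] (fun e => by simpa using congrFun e 0) (⟪x⟫ 0 0) (funext fun i => ?_)
    fin_cases i <;> simp [dotProduct, Fin.sum_univ_two, h0]
  have hm := congrArg (fun g : GL (Fin 2) F => (g : Matrix (Fin 2) (Fin 2) F)) h.eq
  simp only [Units.val_mul] at hm
  have e00 := congrFun (congrFun hm 0) 0
  have e10 := congrFun (congrFun hm 1) 0
  simp [Matrix.mul_apply, Fin.sum_univ_two] at e00 e10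
  refine ⟨⟪y⟫ 0 0 - ⟪y⟫ 1 0 / ⟪x⟫ 1 0 * ⟪x⟫ 0 0, ⟪y⟫ 1 0 / ⟪x⟫ 1 0, ?_⟩
  ext i j
  fin_cases i <;> fin_cases j <;> simp
  · field_simp
    linear_combination e00
  · field_simp
  · field_simp
    linear_combination e10

theorem commute_of_comb {x y : GL (Fin 2) F} {α β : F}
    (h : ⟪y⟫ = α • (1 : Matrix (Fin 2) (Fin 2) F) + β • ⟪x⟫) : Commute y x := by
  apply Units.ext
  simp only [Units.val_mul, h]
  rw [add_mul, mul_add, smul_mul_assoc, one_mul, smul_mul_assoc, mul_smul_comm, mul_one,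
    mul_smul_comm]

theorem comb_mulVec {x y : GL (Fin 2) F} {α β : F}
    (h : ⟪y⟫ = α • (1 : Matrix (Fin 2) (Fin 2) F) + β • ⟪x⟫) (v : Fin 2 → F) :
    ⟪y⟫ *ᵥ v = α • v + β • (⟪x⟫ *ᵥ v) := by
  rw [h, Matrix.add_mulVec, Matrix.smul_mulVec, Matrix.smul_mulVec, Matrix.one_mulVec]

theorem mem_cent_iff {x y : GL (Fin 2) F} :
    y ∈ Subgroup.centralizer ({x} : Set (GL (Fin 2) F)) ↔ Commute y x :=
  Subgroup.mem_centralizer_singleton_iff

/-- A nonscalar element of the centralizer of an elliptic element is elliptic with the same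
centralizer. -/
theorem cent_eq_of_mem {x z : GL (Fin 2) F} (hx : Ellip x) (hz : Commute z x)
    (hns : ∀ α : F, ⟪z⟫ ≠ α • (1 : Matrix (Fin 2) (Fin 2) F)) :
    Ellip z ∧ Subgroup.centralizer ({z} : Set (GL (Fin 2) F)) = Subgroup.centralizer {x} := by
  obtain ⟨α, β, hab⟩ := exists_comb hx hz
  have hβ : β ≠ 0 := fun h => hns α (by rw [hab, h, zero_smul, add_zero])
  refine ⟨fun v hv c hc => hx v hv ((c - α) / β) (funext fun i => ?_), ?_⟩
  · have := congrFun ((comb_mulVec hab v).symm.trans hc) i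
    simp only [Pi.add_apply, Pi.smul_apply, smul_eq_mul] at this ⊢
    field_simp
    linear_combination this
  ext y
  rw [mem_cent_iff, mem_cent_iff]
  constructor
  · intro hy
    have h1 := congrArg (fun g : GL (Fin 2) F => (g : Matrix (Fin 2) (Fin 2) F)) hy.eq
    simp only [Units.val_mul, hab, add_mul, mul_add, smul_mul_assoc, mul_smul_comm, one_mul,
      mul_one] at h1
    exact Units.ext (smul_right_injective _ hβ (add_left_cancel h1))
  · intro hy
    have h1 := congrArg (fun g : GL (Fin 2) F => (g : Matrix (Fin 2) (Fin 2) F)) hy.eq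
    simp only [Units.val_mul] at h1
    apply Units.ext
    simp only [Units.val_mul, hab, add_mul, mul_add, smul_mul_assoc, mul_smul_comm, one_mul,
      mul_one, h1]

theorem sq_sub_one_dvd_card_cent {x : GL (Fin 2) F} (hx : Ellip x) :
    Nat.card F ^ 2 - 1 = Nat.card (Subgroup.centralizer ({x} : Set (GL (Fin 2) F))) := by
  classical
  haveI := Fintype.ofFinite F
  have hdet : ∀ p : {p : F × F // p ≠ 0},
      (p.1.1 • (1 : Matrix (Fin 2) (Fin 2) F) + p.1.2 • ⟪x⟫).det ≠ 0 := by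
    intro p h0
    obtain ⟨v, hv, hv0⟩ := Matrix.exists_mulVec_eq_zero_iff.2 h0
    rw [Matrix.add_mulVec, Matrix.smul_mulVec, Matrix.smul_mulVec, Matrix.one_mulVec] at hv0
    by_cases h2 : p.1.2 = 0
    · rw [h2, zero_smul, add_zero, smul_eq_zero] at hv0
      exact p.2 (Prod.ext (hv0.resolve_right hv) h2)
    · refine hx v hv (-p.1.1 / p.1.2) (funext fun i => ?_)
      have := congrFun hv0 i
      simp only [Pi.add_apply, Pi.smul_apply, smul_eq_mul, Pi.zero_apply] at this ⊢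
      field_simp
      linear_combination this
  let f : {p : F × F // p ≠ 0} → Subgroup.centralizer ({x} : Set (GL (Fin 2) F)) := fun p =>
    ⟨GeneralLinearGroup.mkOfDetNeZero _ (hdet p),
      mem_cent_iff.2 (commute_of_comb (α := p.1.1) (β := p.1.2) rfl)⟩
  have hf : Function.Bijective f := by
    constructor
    · intro p p' h
      have h1 : p.1.1 • (1 : Matrix (Fin 2) (Fin 2) F) + p.1.2 • ⟪x⟫ =
          p'.1.1 • (1 : Matrix (Fin 2) (Fin 2) F) + p'.1.2 • ⟪x⟫ :=
        congrArg (fun g : Subgroup.centralizer ({x} : Set (GL (Fin 2) F)) => ⟪(g : GL (Fin 2) F)⟫) h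
      have h10 : ⟪x⟫ 1 0 ≠ 0 := fun h0 => by
        refine hx ![1, 0] (fun e => by simpa using congrFun e 0) (⟪x⟫ 0 0) (funext fun i => ?_)
        fin_cases i <;> simp [dotProduct, Fin.sum_univ_two, h0]
      have e10 := congrFun (congrFun h1 1) 0
      have e00 := congrFun (congrFun h1 0) 0
      simp [h10] at e10 e00
      rw [e10] at e00
      exact Subtype.ext (Prod.ext (by linear_combination e00) e10)
    · rintro ⟨y, hy⟩
      obtain ⟨α, β, hab⟩ := exists_comb hx (mem_cent_iff.1 hy)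
      have hne : (α, β) ≠ (0 : F × F) := fun h => by
        simp only [Prod.mk_eq_zero] at h
        rw [h.1, h.2, zero_smul, zero_smul, add_zero] at hab
        exact y.ne_zero hab
      exact ⟨⟨(α, β), hne⟩, Subtype.ext (Units.ext hab.symm)⟩
  rw [← Nat.card_eq_of_bijective f hf, Nat.card_eq_fintype_card, Nat.card_eq_fintype_card,
    Fintype.card_subtype_compl, Fintype.card_subtype_eq, Fintype.card_prod, sq]

/-- A nilpotent subgroup containing an elliptic element of odd prime order lies in its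
centralizer. -/
theorem le_cent_of_nilpotent {r : ℕ} (hr : r.Prime) (hr2 : r ≠ 2) (h2 : (2 : F) ≠ 0)
    (A : Subgroup (GL (Fin 2) F)) (hA : Group.IsNilpotent A) {h : GL (Fin 2) F} (hh : h ∈ A)
    (hord : orderOf h = r) (hell : Ellip h) :
    A ≤ Subgroup.centralizer ({h} : Set (GL (Fin 2) F)) := by
  haveI := Fact.mk hr
  refine le_of_nilpotent_of_conj_mem A _ hA hh (mem_cent_iff.2 (Commute.refl h))
    fun y hyA hy => ?_
  obtain ⟨α, β, hab⟩ := exists_comb hell (mem_cent_iff.1 hy)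
  obtain ⟨c, t, hct⟩ := exists_comb hell ((Commute.refl h).mul_left (Commute.refl h))
  rw [Units.val_mul] at hct
  have h10 : ⟪h⟫ 1 0 ≠ 0 := fun h0 => by
    refine hell ![1, 0] (fun e => by simpa using congrFun e 0) (⟪h⟫ 0 0) (funext fun i => ?_)
    fin_cases i <;> simp [dotProduct, Fin.sum_univ_two, h0]
  have hind : ∀ a b : F, a • (1 : Matrix (Fin 2) (Fin 2) F) + b • ⟪h⟫ = 0 → a = 0 ∧ b = 0 := by
    intro a b hab0
    have e10 := congrFun (congrFun hab0 1) 0
    have e00 := congrFun (congrFun hab0 0) 0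
    simp [h10] at e10 e00
    rw [e10] at e00
    exact ⟨by linear_combination e00, e10⟩
  have hrel : (⟪y * h * y⁻¹⟫) * ⟪y * h * y⁻¹⟫ =
      c • (1 : Matrix (Fin 2) (Fin 2) F) + t • ⟪y * h * y⁻¹⟫ := by
    simp only [Units.val_mul]
    calc ⟪y⟫ * ⟪h⟫ * ⟪y⁻¹⟫ * (⟪y⟫ * ⟪h⟫ * ⟪y⁻¹⟫)
        = ⟪y⟫ * (⟪h⟫ * (⟪y⁻¹⟫ * ⟪y⟫) * ⟪h⟫) * ⟪y⁻¹⟫ := by simp only [mul_assoc]
      _ = _ := by
        rw [Units.inv_mul, mul_one, hct, mul_add, add_mul, mul_smul_comm, mul_one, smul_mul_assoc,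
          Units.mul_inv, mul_smul_comm, smul_mul_assoc]
  rw [hab] at hrel
  have hexp : (α * α + β * β * c - c - t * α) • (1 : Matrix (Fin 2) (Fin 2) F) +
      (2 * α * β + β * β * t - t * β) • ⟪h⟫ = 0 := by
    have h3 : (α • (1 : Matrix (Fin 2) (Fin 2) F) + β • ⟪h⟫) * (α • 1 + β • ⟪h⟫) =
        (α * α + β * β * c) • (1 : Matrix (Fin 2) (Fin 2) F) + (2 * α * β + β * β * t) • ⟪h⟫ := by
      simp only [add_mul, mul_add, smul_mul_assoc, mul_smul_comm, one_mul, mul_one, hct]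
      module
    rw [h3] at hrel
    rw [← sub_eq_zero] at hrel
    rw [← hrel]
    module
  obtain ⟨hI, hII⟩ := hind _ _ hexp
  have hdisc : t * t + 4 * c ≠ 0 := by
    intro h0
    have hsq : (⟪h⟫ - (t / 2) • 1) * (⟪h⟫ - (t / 2) • (1 : Matrix (Fin 2) (Fin 2) F)) = 0 := by
      simp only [sub_mul, mul_sub, smul_mul_assoc, mul_smul_comm, one_mul, mul_one, hct]
      have hc' : c = -(t / 2 * (t / 2)) := by field_simp; linear_combination h0
      rw [hc']
      match_scalars <;> field_simp <;> ring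
    have hd0 : (⟪h⟫ - (t / 2) • (1 : Matrix (Fin 2) (Fin 2) F)).det = 0 := by
      have := congrArg Matrix.det hsq
      rwa [Matrix.det_mul, Matrix.det_zero, mul_self_eq_zero] at this
    obtain ⟨v, hv, hv0⟩ := Matrix.exists_mulVec_eq_zero_iff.2 hd0
    rw [Matrix.sub_mulVec, Matrix.smul_mulVec, Matrix.one_mulVec, sub_eq_zero] at hv0
    exact hell v hv _ hv0
  have hβ : β ≠ 0 := by
    intro h0
    rw [h0, zero_smul, add_zero] at hab
    have h3 : ⟪h⟫ = α • (1 : Matrix (Fin 2) (Fin 2) F) := by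
      have h4 : ⟪h⟫ = ⟪y⁻¹⟫ * ⟪y * h * y⁻¹⟫ * ⟪y⟫ := by
        rw [← Units.val_mul, ← Units.val_mul]; congr 1; group
      rw [h4, hab, mul_smul_comm, mul_one, smul_mul_assoc, Units.inv_mul]
    exact hell ![1, 0] (fun e => by simpa using congrFun e 0) α
      (by rw [h3, Matrix.smul_mulVec, Matrix.one_mulVec])
  have hII' : 2 * α + β * t - t = 0 := by
    refine (mul_eq_zero.1 ?_).resolve_left hβ
    linear_combination hII
  have hβ1 : β * β = 1 := by
    have h3 : (β * β - 1) * (t * t + 4 * c) = 0 := by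
      linear_combination 4 * hI - (2 * α + t * (1 - β) - 2 * t) * hII'
    exact sub_eq_zero.1 ((mul_eq_zero.1 h3).resolve_right hdisc)
  have hy2 : ⟪y * (y * h * y⁻¹) * y⁻¹⟫ = ⟪h⟫ := by
    rw [Units.val_mul, Units.val_mul, hab, mul_add, add_mul, mul_smul_comm, mul_one, smul_mul_assoc,
      Units.mul_inv, mul_smul_comm, smul_mul_assoc, ← Units.val_mul, ← Units.val_mul, hab,
      smul_add, smul_smul, smul_smul, hβ1, one_smul, ← add_assoc, ← add_smul]
    have h0 : α + β * α = 0 := by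
      rcases mul_self_eq_one_iff.1 hβ1 with h | h
      · rw [h] at hII'
        have : α = 0 := (mul_eq_zero.1 (by linear_combination hII' : (2 : F) * α = 0)).resolve_left h2
        rw [this, mul_zero, add_zero]
      · rw [h]; ring
    rw [h0, zero_smul, zero_add]
  have hc2 : Commute (y * y) h := by
    have h3 : y * (y * h * y⁻¹) * y⁻¹ = h := Units.ext hy2
    calc y * y * h = y * (y * h * y⁻¹) * y⁻¹ * (y * y) := by group
      _ = h * (y * y) := by rw [h3]
  obtain ⟨a, s, hs, hys⟩ := Nat.exists_eq_pow_mul_and_not_dvd (orderOf_pos y).ne' r hr.ne_one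
  have hc1 : Commute (y ^ r ^ a) h := by
    haveI := hA
    have hcop : (orderOf (⟨y, hyA⟩ ^ r ^ a : A)).Coprime r := by
      rw [← orderOf_injective A.subtype A.subtype_injective, Subgroup.coe_subtype,
        SubgroupClass.coe_pow, orderOf_pow_of_dvd (pow_ne_zero _ hr.ne_zero) ⟨s, hys⟩, hys,
        Nat.mul_div_cancel_left _ (pow_pos hr.pos a)]
      exact ((hr.coprime_iff_not_dvd).2 hs).symm
    have hh' : orderOf (⟨h, hh⟩ : A) = r := by
      rw [← orderOf_injective A.subtype A.subtype_injective]; exact hord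
    have hcomm := CfsgLib.Coprime.commute_of_coprime_pow (G := A) hcop
      (P := Subgroup.zpowers (⟨h, hh⟩ : A))
      (IsPGroup.of_card (n := 1) (by rw [Nat.card_zpowers, hh', pow_one]))
      (Subgroup.mem_zpowers _)
    exact congrArg Subtype.val hcomm.eq
  obtain ⟨k, hk⟩ : Odd (r ^ a) := (hr.odd_of_ne_two hr2).pow
  refine mem_cent_iff.2 ?_
  have hy' : y = y ^ r ^ a * ((y * y) ^ k)⁻¹ := by
    rw [hk, ← pow_two, ← pow_mul, pow_succ']
    group
  rw [hy']
  exact hc1.mul_left ((hc2.pow_left k).inv_left)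

end CfsgLib.PGroup.LinCov
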