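import Cfsg.Agent.S0015
import Mathlib.GroupTheory.Solvable
import Mathlib.GroupTheory.Sylow
import Mathlib.LinearAlgebra.FiniteDimensional.Basic
import Mathlib.RingTheory.IntegralDomain
import Mathlib.Data.Nat.Log

/-!
# Derived length of linear `p`-groups in coprime characteristic
-/

set_option autoImplicit false
set_option linter.unusedSectionVars false
set_option linter.style.haveILetI false

open Subgroup Module
open scoped commutatorElement

namespace CfsgLib.LinDerived

universe u v

theorem derivedSeries_mono_bot {P : Type*} [Group P] {j k : ℕ} (hjk : j ≤ k)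
    (h : derivedSeries P j = ⊥) : derivedSeries P k = ⊥ := by
  induction hjk with
  | refl => exact h
  | step _ ih => rw [derivedSeries_succ, ih, commutator_bot_left]

theorem derivedSeries_succ_le {P : Type*} [Group P] {M : Subgroup P} (hM : commutator P ≤ M) :
    ∀ d, derivedSeries P (d + 1) ≤ (derivedSeries M d).map M.subtype
  | 0 => by
    rw [derivedSeries_one, derivedSeries_zero, ← MonoidHom.range_eq_map, range_subtype]
    exact hM
  | d + 1 => by
    rw [derivedSeries_succ (G := P) (d + 1), derivedSeries_succ (G := M) d, map_commutator]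
    exact commutator_mono (derivedSeries_succ_le hM d) (derivedSeries_succ_le hM d)

variable {F : Type u} [Field F]

/-- The restriction of a representation to an invariant subspace. -/
def res {P : Type*} [Monoid P] {V : Type*} [AddCommGroup V] [Module F V] (ρ : P →* Module.End F V)
    (W : Submodule F V) (hW : ∀ g, ∀ x ∈ W, ρ g x ∈ W) : P →* Module.End F W where
  toFun g := (ρ g).restrict (hW g)
  map_one' := LinearMap.ext fun x => Subtype.ext (by simp [LinearMap.restrict_apply])
  map_mul' a b := LinearMap.ext fun x => Subtype.ext (by simp [LinearMap.restrict_apply])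

theorem res_eq_one {P : Type*} [Monoid P] {V : Type*} [AddCommGroup V] [Module F V]
    {ρ : P →* Module.End F V} {W : Submodule F V} {hW : ∀ g, ∀ x ∈ W, ρ g x ∈ W} {g : P}
    (h : res ρ W hW g = 1) {x : V} (hx : x ∈ W) : ρ g x = x :=
  congrArg (fun f : Module.End F W => (f ⟨x, hx⟩ : V)) h

variable {P : Type v} [Group P] [Finite P] {V : Type u} [AddCommGroup V] [Module F V]

theorem card_ne_zero {p : ℕ} [Fact p.Prime] (hp0 : (p : F) ≠ 0) (hP : IsPGroup p P) : (Nat.card P : F) ≠ 0 := by
  obtain ⟨k, hk⟩ := hP.exists_card_eq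
  rw [hk, Nat.cast_pow]
  exact pow_ne_zero k hp0

theorem exists_compl (hcard : (Nat.card P : F) ≠ 0) (ρ : P →* Module.End F V) (U : Submodule F V)
    (hU : ∀ g, ∀ x ∈ U, ρ g x ∈ U) :
    ∃ C : Submodule F V, (∀ g, ∀ x ∈ C, ρ g x ∈ C) ∧ IsCompl U C := by
  classical
  haveI := Fintype.ofFinite P
  obtain ⟨U', hU'⟩ := Submodule.exists_isCompl U
  let π : Module.End F V := U.subtype ∘ₗ U.projectionOnto U' hU'
  have hπmem : ∀ x, π x ∈ U := fun x => (U.projectionOnto U' hU' x).2
  have hπid : ∀ x ∈ U, π x = x := fun x hx =>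
    congrArg Subtype.val (Submodule.projectionOnto_apply_left hU' ⟨x, hx⟩)
  let Φ : Module.End F V := (Fintype.card P : F)⁻¹ • ∑ g : P, ρ g * π * ρ g⁻¹
  have happ : ∀ x, Φ x = (Fintype.card P : F)⁻¹ • ∑ g : P, ρ g (π (ρ g⁻¹ x)) := fun x => by
    simp [Φ, Module.End.mul_apply]
  have hΦmem : ∀ x, Φ x ∈ U := fun x => by
    rw [happ]
    exact U.smul_mem _ (sum_mem fun g _ => hU g _ (hπmem _))
  have hΦid : ∀ x ∈ U, Φ x = x := fun x hx => by
    have : ∀ g : P, ρ g (π (ρ g⁻¹ x)) = x := fun g => by
      rw [hπid _ (hU _ x hx), ← Module.End.mul_apply, ← map_mul, mul_inv_cancel, map_one]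
      rfl
    rw [happ, Finset.sum_congr rfl fun g _ => this g, Finset.sum_const, Finset.card_univ, ← Nat.cast_smul_eq_nsmul F,
      smul_smul, inv_mul_cancel₀ (by rwa [← Nat.card_eq_fintype_card]), one_smul]
  refine ⟨LinearMap.ker Φ, fun h x hx => ?_, ?_⟩
  · rw [LinearMap.mem_ker] at hx ⊢
    have : ∑ g : P, ρ g (π (ρ g⁻¹ (ρ h x))) = ρ h (∑ g : P, ρ g (π (ρ g⁻¹ x))) := by
      rw [map_sum]
      refine Fintype.sum_equiv (Equiv.mulLeft h⁻¹) _ _ fun g => ?_
      have key : ∀ u, ρ h (ρ (h⁻¹ * g) u) = ρ g u := fun u => by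
        rw [← Module.End.mul_apply, ← map_mul, mul_inv_cancel_left]
      rw [Equiv.coe_mulLeft, key, ← Module.End.mul_apply (ρ g⁻¹), ← map_mul, mul_inv_rev, inv_inv]
    rw [happ, this, ← map_smul, ← happ, hx, map_zero]
  · constructor
    · rw [Submodule.disjoint_def]
      intro x hx hx'
      rw [← hΦid x hx]
      exact LinearMap.mem_ker.1 hx'
    · rw [codisjoint_iff, eq_top_iff]
      intro x _
      exact Submodule.mem_sup.2 ⟨Φ x, hΦmem x, x - Φ x,
        LinearMap.mem_ker.2 (by rw [map_sub, hΦid _ (hΦmem x), sub_self]), add_sub_cancel _ _⟩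

/-- The hypothesis on `e`: no field inside an endomorphism algebra of dimension below `e` has an element of order `p`. -/
def FieldBound (F : Type u) [Field F] (p e : ℕ) : Prop :=
  ∀ (V : Type u) [AddCommGroup V] [Module F V] [FiniteDimensional F V] [Nontrivial V] (R : Subalgebra F (Module.End F V)),
    (∀ r ∈ R, ∀ s ∈ R, r * s = s * r) → (∀ r ∈ R, r ≠ 0 → Function.Injective r) →
      (∃ z ∈ R, z ≠ 1 ∧ z ^ p = 1) → e ≤ finrank F R

/-- The hypothesis on `b`: a field with an element of order `p` and a nontrivial automorphism of `p`-power order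
fixing it has dimension at least `b * e`. -/
def SemiBound (F : Type u) [Field F] (p e b : ℕ) : Prop :=
  ∀ (V : Type u) [AddCommGroup V] [Module F V] [FiniteDimensional F V] [Nontrivial V] (R : Subalgebra F (Module.End F V)),
    (∀ r ∈ R, ∀ s ∈ R, r * s = s * r) → (∀ r ∈ R, r ≠ 0 → Function.Injective r) →
      ∀ z ∈ R, z ≠ 1 → z ^ p = 1 → ∀ s s' : Module.End F V, s * s' = 1 → s' * s = 1 →
        (∀ r ∈ R, s * r * s' ∈ R) → (∃ k, s ^ p ^ k = 1) → s * z = z * s →
          ∀ a ∈ R, s * a ≠ a * s → b * e ≤ finrank F R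

theorem semiBound_two {p e : ℕ} (He : FieldBound F p e) : SemiBound F p e 2 := by
  intro V _ _ _ _ R hcomm hinj z hzR hz1 hzp s s' _ _ _ _ hsz a ha hsa
  let K := R ⊓ Subalgebra.centralizer F ({s} : Set (Module.End F V))
  have hKc : ∀ k ∈ K, k * s = s * k := fun k hk =>
    ((Subalgebra.mem_centralizer_iff F).1 hk.2 _ (Set.mem_singleton _)).symm
  have hzK : z ∈ K := ⟨hzR, (Subalgebra.mem_centralizer_iff F).2 (by rintro _ rfl; exact hsz)⟩
  have heK := He V K (fun r hr t ht => hcomm r hr.1 t ht.1) (fun r hr => hinj r hr.1) ⟨_, hzK, hz1, hzp⟩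
  have haK : a ∉ K := fun h => hsa (hKc _ h).symm
  have hsurj : ∀ v ∈ K, v ≠ 0 → ∃ w ∈ K, v * w = 1 := by
    intro v hv hv0
    let L : K →ₗ[F] K := LinearMap.mulLeft F (⟨v, hv⟩ : K)
    have hL : Function.Injective L := by
      intro x y hxy
      refine Subtype.ext (LinearMap.ext fun m => hinj v hv.1 hv0 ?_)
      exact LinearMap.congr_fun (congrArg Subtype.val hxy) m
    obtain ⟨w, hw⟩ := (LinearMap.injective_iff_surjective.1 hL) 1
    exact ⟨w, w.2, congrArg Subtype.val hw⟩
  have h2K : finrank F K + finrank F K ≤ finrank F R := by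
    rw [← Module.finrank_prod]
    let T : (K × K) →ₗ[F] R := LinearMap.coprod
      (Subalgebra.inclusion (inf_le_left : K ≤ R)).toLinearMap
      ((LinearMap.mulLeft F (⟨a, ha⟩ : R)).comp (Subalgebra.inclusion (inf_le_left : K ≤ R)).toLinearMap)
    refine LinearMap.finrank_le_finrank_of_injective (f := T) ?_
    rw [← LinearMap.ker_eq_bot, Submodule.eq_bot_iff]
    rintro ⟨u, v⟩ huv
    have h : (u : Module.End F V) + a * v = 0 := congrArg Subtype.val (LinearMap.mem_ker.1 huv)
    by_cases hv : (v : Module.End F V) = 0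
    · rw [hv, mul_zero, add_zero] at h
      exact Prod.ext (Subtype.ext h) (Subtype.ext hv)
    · obtain ⟨w, hw, hvw⟩ := hsurj v v.2 hv
      refine absurd ?_ haK
      rw [eq_neg_of_add_eq_zero_right h |> fun h' => show a = -(u : Module.End F V) * w by
        rw [← mul_one a, ← hvw, ← mul_assoc, h']]
      exact mul_mem (neg_mem u.2) hw
  omega

variable {p : ℕ} [hpF : Fact p.Prime] {e b : ℕ}

theorem main (hp0 : (p : F) ≠ 0) (he : 0 < e) (He : FieldBound F p e) (hb1 : 1 < b) (hbp : b ≤ p)
    (Hs : SemiBound F p e b) :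
    ∀ (n : ℕ) {P : Type v} [Group P] [Finite P], IsPGroup p P → ∀ {V : Type u} [AddCommGroup V] [Module F V]
      [FiniteDimensional F V], finrank F V = n → ∀ ρ : P →* Module.End F V, Function.Injective ρ →
      Nontrivial P → e ≤ n ∧ derivedSeries P (Nat.log b (n / e) + 1) = ⊥ := by
  classical
  intro n
  induction n using Nat.strong_induction_on with
  | _ n ih =>
    intro P _ _ hP V _ _ _ hn ρ hρ hPn
    -- the bound for smaller representations of any `p`-group
    have sub : ∀ {Q : Type v} [Group Q] [Finite Q], IsPGroup p Q → ∀ {W : Submodule F V}, finrank F W < n →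
        ∀ σ : Q →* Module.End F W, (∀ x ∈ derivedSeries Q (Nat.log b (finrank F W / e) + 1), σ x = 1) ∧
          ((∃ x, σ x ≠ 1) → e ≤ finrank F W) := by
      intro Q _ _ hQ W hW σ
      let τ := σ.toHomUnits
      by_cases htr : ∀ x, σ x = 1
      · exact ⟨fun x _ => htr x, fun ⟨x, hx⟩ => absurd (htr x) hx⟩
      push Not at htr
      obtain ⟨y, hy⟩ := htr
      let θ : Q ⧸ τ.ker →* Module.End F W := (Units.coeHom (Module.End F W)).comp (QuotientGroup.kerLift τ)
      have hθ : Function.Injective θ := fun a b hab => QuotientGroup.kerLift_injective τ (Units.ext hab)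
      have hne : Nontrivial (Q ⧸ τ.ker) := ⟨⟨QuotientGroup.mk' _ y, 1, fun h => hy (by
        have := congrArg θ h
        exact this.trans (map_one θ))⟩⟩
      have h := ih _ hW (hQ.to_quotient τ.ker) rfl θ hθ hne
      refine ⟨fun x hx => ?_, fun _ => h.1⟩
      have hm := map_derivedSeries_le_derivedSeries (QuotientGroup.mk' τ.ker) _ (mem_map_of_mem _ hx)
      rw [h.2, mem_bot] at hm
      exact (congrArg θ hm).trans (map_one θ)
    have hlog : ∀ {m : ℕ}, m ≤ n → Nat.log b (m / e) + 1 ≤ Nat.log b (n / e) + 1 := fun hm =>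
      Nat.add_le_add_right (Nat.log_mono_right (Nat.div_le_div_right hm)) 1
    have hcard := card_ne_zero hp0 hP
    have hmul : ∀ g h x, ρ g (ρ h x) = ρ (g * h) x := fun g h x => by rw [map_mul]; rfl
    have hext : ∀ g, (∀ x, ρ g x = x) → g = 1 := fun g hg =>
      hρ ((LinearMap.ext hg : ρ g = 1).trans (map_one ρ).symm)
    by_cases hred : ∃ U : Submodule F V, (∀ g, ∀ x ∈ U, ρ g x ∈ U) ∧ U ≠ ⊥ ∧ U ≠ ⊤
    · obtain ⟨U, hU, hU0, hU1⟩ := hred
      obtain ⟨C, hC, hUC⟩ := exists_compl hcard ρ U hU
      have hCn : C ≠ ⊤ := fun h => hU0 (by simpa [h] using hUC.disjoint.eq_bot)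
      have hlt : ∀ W : Submodule F V, W ≠ ⊤ → finrank F W < n := fun W hW => hn ▸ Submodule.finrank_lt hW
      have hsU := sub hP (hlt U hU1) (res ρ U hU)
      have hsC := sub hP (hlt C hCn) (res ρ C hC)
      have hfix : ∀ g, res ρ U hU g = 1 → res ρ C hC g = 1 → g = 1 := by
        intro g h1 h2
        refine hext g fun x => ?_
        obtain ⟨a, ha, b, hb, rfl⟩ := Submodule.mem_sup.1 (hUC.sup_eq_top.ge (Submodule.mem_top (x := x)))
        rw [map_add, res_eq_one h1 ha, res_eq_one h2 hb]
      refine ⟨?_, ?_⟩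
      · obtain ⟨g, hg⟩ := exists_ne (1 : P)
        by_cases h1 : res ρ U hU g = 1
        · exact (hsC.2 ⟨g, fun h2 => hg (hfix g h1 h2)⟩).trans (hlt C hCn).le
        · exact (hsU.2 ⟨g, h1⟩).trans (hlt U hU1).le
      · rw [eq_bot_iff]
        intro x hx
        exact mem_bot.2 (hfix x (hsU.1 x (derivedSeries_antitone _ (hlog (hlt U hU1).le) hx))
          (hsC.1 x (derivedSeries_antitone _ (hlog (hlt C hCn).le) hx)))
    push Not at hred
    haveI : Nontrivial V := by
      by_contra h
      rw [not_nontrivial_iff_subsingleton] at h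
      obtain ⟨g, hg⟩ := exists_ne (1 : P)
      exact hg (hext g fun x => Subsingleton.elim _ _)
    haveI : Group.IsNilpotent P := hP.isNilpotent
    -- a maximal abelian normal subgroup
    obtain ⟨A, hZA, hA⟩ := Finite.exists_le_maximal (p := fun A : Subgroup P => A.Normal ∧ IsMulCommutative A)
      (a := center P) ⟨inferInstance, inferInstance⟩
    haveI := hA.prop.1
    haveI := hA.prop.2
    have hCA : centralizer (A : Set P) = A := Cfsg.Agent.S0015.result A
      fun M hMn hMc hle => le_antisymm (hA.le_of_ge ⟨hMn, hMc⟩ hle) hle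
    have hAc : ∀ a ∈ A, ∀ b ∈ A, a * b = b * a := fun a ha b hb =>
      congrArg Subtype.val (mul_comm' (⟨a, ha⟩ : A) ⟨b, hb⟩)
    obtain ⟨z, hz⟩ : ∃ z : P, z ∈ center P ∧ orderOf z = p := by
      haveI := hP.center_nontrivial
      obtain ⟨k, hk⟩ := (hP.to_subgroup (center P)).exists_card_eq
      have hk' := Finite.one_lt_card (α := center P)
      obtain ⟨⟨z, hz⟩, hzo⟩ := exists_prime_orderOf_dvd_card' (G := center P) p (by
        rcases k with _ | k
        · rw [hk, pow_zero] at hk'; omega
        · exact hk ▸ dvd_pow_self p (Nat.succ_ne_zero k))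
      exact ⟨z, hz, by rw [← hzo, ← orderOf_coe]⟩
    let S : Set (Module.End F V) := ρ '' (A : Set P)
    let R := Algebra.adjoin F S
    have hcomm : ∀ r ∈ R, ∀ s ∈ R, r * s = s * r := by
      have h1 : R ≤ Subalgebra.centralizer F S := Algebra.adjoin_le (by
        rintro _ ⟨a, ha, rfl⟩
        refine (Subalgebra.mem_centralizer_iff F).2 ?_
        rintro _ ⟨b, hb, rfl⟩
        rw [← map_mul, ← map_mul, hAc b hb a ha])
      have h2 : R ≤ Subalgebra.centralizer F (R : Set (Module.End F V)) := Algebra.adjoin_le (by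
        intro s hs
        refine (Subalgebra.mem_centralizer_iff F).2 fun r hr => ?_
        exact ((Subalgebra.mem_centralizer_iff F).1 (h1 hr) s hs).symm)
      exact fun r hr s hs => ((Subalgebra.mem_centralizer_iff F).1 (h2 hs) r hr)
    have hSR : ∀ a ∈ A, ρ a ∈ R := fun a ha => Algebra.subset_adjoin ⟨a, ha, rfl⟩
    have hconj : ∀ g : P, ∀ r ∈ R, ρ g * r * ρ g⁻¹ ∈ R := by
      intro g r hr
      have hg : ρ g⁻¹ * ρ g = 1 := by rw [← map_mul, inv_mul_cancel, map_one]
      have hg' : ρ g * ρ g⁻¹ = 1 := by rw [← map_mul, mul_inv_cancel, map_one]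
      induction hr using Algebra.adjoin_induction with
      | mem x hx =>
        obtain ⟨a, ha, rfl⟩ := hx
        rw [← map_mul, ← map_mul]
        exact hSR _ ((inferInstance : A.Normal).conj_mem a ha g)
      | algebraMap c => rw [← Algebra.commutes, mul_assoc, hg', mul_one]; exact R.algebraMap_mem c
      | add x y _ _ hx hy => rw [mul_add, add_mul]; exact add_mem hx hy
      | mul x y _ _ hx hy =>
        rw [show ρ g * (x * y) * ρ g⁻¹ = (ρ g * x * ρ g⁻¹) * (ρ g * y * ρ g⁻¹) by
          simp only [mul_assoc]; rw [← mul_assoc (ρ g⁻¹) (ρ g), hg, one_mul]]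
        exact mul_mem hx hy
    have hne1 : ρ z ≠ 1 := fun h => by
      rw [← map_one ρ] at h
      rw [hρ h, orderOf_one] at hz
      exact hpF.out.ne_one hz.2.symm
    by_cases hinj : ∀ r ∈ R, r ≠ 0 → Function.Injective r
    · -- `R` is a field
      have hRn : finrank F R ≤ n := by
        obtain ⟨v, hv⟩ := exists_ne (0 : V)
        rw [← hn]
        refine LinearMap.finrank_le_finrank_of_injective (f := (LinearMap.applyₗ v).comp R.val.toLinearMap) ?_
        intro r s hrs
        by_contra hne
        refine hv (hinj _ (sub_mem r.2 s.2) (sub_ne_zero.2 fun h => hne (Subtype.ext h)) ?_)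
        rw [map_zero, LinearMap.sub_apply, sub_eq_zero]
        exact hrs
      have hzR : ρ z ∈ R := hSR z (hZA hz.1)
      have hzp : ρ z ^ p = 1 := by rw [← map_pow, ← hz.2, pow_orderOf_eq_one, map_one]
      have hen : e ≤ n := (He V R hcomm hinj ⟨_, hzR, hne1, hzp⟩).trans hRn
      refine ⟨hen, ?_⟩
      by_cases hAtop : A = ⊤
      · refine derivedSeries_mono_bot (j := 1) (by omega) ?_
        rw [derivedSeries_one, _root_.commutator_def, commutator_eq_bot_iff_le_centralizer, ← hAtop, hCA]
      obtain ⟨g, -, hg⟩ := SetLike.exists_of_lt (lt_top_iff_ne_top.2 hAtop)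
      obtain ⟨a, ha, hag⟩ : ∃ a ∈ A, a * g ≠ g * a := by
        by_contra h
        push Not at h
        exact hg (hCA ▸ mem_centralizer_iff.2 h)
      have hbe : b * e ≤ finrank F R := by
        refine Hs V R hcomm hinj _ hzR hne1 hzp (ρ g) (ρ g⁻¹) (by rw [← map_mul, mul_inv_cancel, map_one])
          (by rw [← map_mul, inv_mul_cancel, map_one]) (hconj g) ?_
          (by rw [← map_mul, ← map_mul, mem_center_iff.1 hz.1 g]) (ρ a) (hSR a ha)
          (fun h => hag (hρ (by rw [map_mul, map_mul]; exact h.symm)))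
        obtain ⟨k, hk⟩ := hP g
        exact ⟨k, by rw [← map_pow, hk, map_one]⟩
      have h2 : b ≤ n / e := (Nat.le_div_iff_mul_le he).2 (hbe.trans hRn)
      refine derivedSeries_mono_bot (j := 2)
        (Nat.add_le_add_right (Nat.log_pos hb1 h2) 1) ?_
      -- `A` is cyclic
      letI : CommRing R := { (inferInstance : Ring R) with mul_comm := fun r s => Subtype.ext (hcomm r r.2 s s.2) }
      haveI : NoZeroDivisors R := ⟨fun {r s} hrs => by
        by_contra h
        push Not at h
        refine h.2 (Subtype.ext (LinearMap.ext fun m => hinj r r.2 (fun h' => h.1 (Subtype.ext h')) ?_))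
        simpa using LinearMap.congr_fun (congrArg Subtype.val hrs) m⟩
      haveI : IsDomain R := NoZeroDivisors.to_isDomain R
      haveI : IsCyclic A := isCyclic_of_subgroup_isDomain
        ({ toFun := fun x => ⟨ρ (x : P), hSR x x.2⟩
           map_one' := Subtype.ext (map_one ρ)
           map_mul' := fun x y => Subtype.ext (map_mul ρ (x : P) y) } : A →* R)
        (fun x y hxy => Subtype.ext (hρ (congrArg Subtype.val hxy)))
      obtain ⟨c, hc⟩ := IsCyclic.exists_generator (α := A)
      have hle : commutator P ≤ A := by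
        rw [_root_.commutator_def, commutator_le]
        intro g₁ _ g₂ _
        let f := MulAut.conjNormal (H := A)
        have hautc : ∀ s t : MulAut A, s * t = t * s := by
          intro s t
          obtain ⟨i, hi⟩ := mem_zpowers_iff.1 (hc (s c))
          obtain ⟨j, hj⟩ := mem_zpowers_iff.1 (hc (t c))
          refine MulEquiv.ext fun x => ?_
          obtain ⟨k, rfl⟩ := mem_zpowers_iff.1 (hc x)
          rw [MulAut.mul_apply, MulAut.mul_apply]
          simp only [map_zpow, ← hi, ← hj, ← zpow_mul]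
          congr 1
          ring
        have h1 : f ⁅g₁, g₂⁆ = 1 := by
          rw [map_commutatorElement, commutatorElement_eq_one_iff_mul_comm]
          exact hautc _ _
        rw [← hCA]
        refine mem_centralizer_iff.2 fun y hy => ?_
        have := congrArg Subtype.val (DFunLike.congr_fun h1 ⟨y, hy⟩)
        rw [MulAut.conjNormal_apply] at this
        exact (mul_inv_eq_iff_eq_mul.1 this).symm
      rw [eq_bot_iff]
      refine (derivedSeries_succ_le hle 1).trans ?_
      have : derivedSeries A 1 = ⊥ := by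
        rw [derivedSeries_one, eq_bot_iff, _root_.commutator_def, commutator_le]
        intro x _ y _
        rw [mem_bot, commutatorElement_eq_one_iff_mul_comm]
        exact mul_comm' x y
      rw [this, Subgroup.map_bot]
    -- imprimitive case
    push Not at hinj
    obtain ⟨r₀, hr₀, hr₀0, hr₀i⟩ := hinj
    let rk : Module.End F V → ℕ := fun r => finrank F (LinearMap.range r)
    have hex : ∃ k, ∃ r ∈ R, r ≠ 0 ∧ rk r = k := ⟨_, r₀, hr₀, hr₀0, rfl⟩
    obtain ⟨a, haR, ha0, hak⟩ := Nat.find_spec hex
    have hmin : ∀ r ∈ R, r ≠ 0 → rk a ≤ rk r := fun r hr hr0 =>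
      hak ▸ Nat.find_min' hex ⟨r, hr, hr0, rfl⟩
    have halt : LinearMap.range a ≠ ⊤ := fun h => hr₀i <| by
      have h1 := hmin r₀ hr₀ hr₀0
      have h3 : rk a = n := by show finrank F (LinearMap.range a) = n; rw [h, finrank_top, hn]
      refine LinearMap.injective_iff_surjective.2 (LinearMap.range_eq_top.1 ?_)
      refine Submodule.eq_top_of_finrank_eq (le_antisymm (Submodule.finrank_le _) ?_)
      rw [hn]; exact h3 ▸ h1
    let W₀ := LinearMap.range a
    let H : Subgroup P :=
      { carrier := {h | (∀ x ∈ W₀, ρ h x ∈ W₀) ∧ ∀ x ∈ W₀, ρ h⁻¹ x ∈ W₀}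
        mul_mem' := fun {g h} hg hh => ⟨fun x hx => by rw [← hmul]; exact hg.1 _ (hh.1 x hx),
          fun x hx => by rw [mul_inv_rev, ← hmul]; exact hh.2 _ (hg.2 x hx)⟩
        one_mem' := ⟨fun x hx => by rw [map_one]; exact hx, fun x hx => by rw [inv_one, map_one]; exact hx⟩
        inv_mem' := fun {g} hg => ⟨hg.2, by rw [inv_inv]; exact hg.1⟩ }
    have hHtop : H ≠ ⊤ := fun h => by
      rcases eq_or_ne W₀ ⊥ with hb | hb
      · exact ha0 (LinearMap.range_eq_bot.1 hb)
      · exact halt (hred W₀ (fun g x hx => (show g ∈ H from h ▸ mem_top g).1 x hx) hb)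
    have hAH : A ≤ H := by
      have key : ∀ b ∈ A, ∀ x ∈ W₀, ρ b x ∈ W₀ := by
        rintro b hb _ ⟨y, rfl⟩
        exact ⟨ρ b y, LinearMap.congr_fun (hcomm a haR (ρ b) (hSR b hb)) y⟩
      exact fun b hb => ⟨key b hb, key b⁻¹ (inv_mem hb)⟩
    obtain ⟨M, hM, hHM⟩ := (eq_top_or_exists_le_coatom H).resolve_left hHtop
    haveI hMn : M.Normal := NormalizerCondition.normal_of_coatom M Group.normalizerCondition_of_isNilpotent hM
    have hPM : commutator P ≤ M := by
      haveI : Nontrivial (P ⧸ M) := QuotientGroup.nontrivial_iff.2 hM.1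
      haveI := (hP.to_quotient M).center_nontrivial
      have hlt : M < (center (P ⧸ M)).comap (QuotientGroup.mk' M) := by
        refine lt_of_le_of_ne (QuotientGroup.le_comap_mk' M _) fun h => ?_
        obtain ⟨⟨w, hw⟩, hw1⟩ := exists_ne (1 : center (P ⧸ M))
        obtain ⟨y, rfl⟩ := QuotientGroup.mk'_surjective M w
        exact hw1 (Subtype.ext ((QuotientGroup.eq_one_iff y).2 (h.ge hw)))
      rw [_root_.commutator_def, commutator_le]
      intro x _ y _
      rw [← QuotientGroup.eq_one_iff]
      show QuotientGroup.mk' M _ = 1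
      rw [map_commutatorElement, commutatorElement_eq_one_iff_mul_comm]
      exact ((mem_center_iff.1 ((hM.2 _ hlt).ge (mem_top x) : _)) _).symm
    obtain ⟨g₀, -, hg₀⟩ := SetLike.exists_of_lt (lt_top_iff_ne_top.2 hM.1)
    let ah : P → Module.End F V := fun h => ρ h * a * ρ h⁻¹
    have hshift : ∀ h m x, ah h (ρ m x) = ρ m (ah (m⁻¹ * h) x) := by
      intro h m x
      simp only [ah, Module.End.mul_apply]
      rw [hmul h⁻¹ m, hmul m (m⁻¹ * h), mul_inv_cancel_left, mul_inv_rev, inv_inv]
    let W : Submodule F V := ⨅ h ∈ {h : P | h ∉ M}, LinearMap.ker (ah h)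
    have hWmem : ∀ x, x ∈ W ↔ ∀ h ∉ M, ah h x = 0 := fun x => by
      simp [W, Submodule.mem_iInf]
    have hWM : ∀ m : M, ∀ x ∈ W, ρ m x ∈ W := fun m x hx => (hWmem _).2 fun h hh => by
      rw [hshift, (hWmem x).1 hx _ (fun h' => hh (by simpa using mul_mem m.2 h')), map_zero]
    have hW0 : W ≠ ⊥ := by
      have hle : W₀ ≤ W := by
        rintro _ ⟨y, rfl⟩
        refine (hWmem _).2 fun h hh => ?_
        by_contra hne
        refine hh (hHM ?_)
        have hprod : ah h * a ≠ 0 := fun h0 => hne (LinearMap.congr_fun h0 y)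
        have hR := hconj h a haR
        have hmax : ∀ r ∈ R, rk r = rk a → ∀ s ∈ R, r * s ≠ 0 → LinearMap.range (r * s) = LinearMap.range r :=
          fun r hr hrk s hs hne => Submodule.eq_of_le_of_finrank_le (LinearMap.range_comp_le_range s r)
            (hrk.trans_le (hmin _ (mul_mem hr hs) hne))
        have hrange : LinearMap.range (ah h) = W₀.map (ρ h) := by
          refine le_antisymm ?_ ?_
          · rintro _ ⟨x, rfl⟩
            exact ⟨a (ρ h⁻¹ x), ⟨_, rfl⟩, rfl⟩
          · rintro _ ⟨_, ⟨x, rfl⟩, rfl⟩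
            refine ⟨ρ h x, ?_⟩
            show ρ h (a (ρ h⁻¹ (ρ h x))) = _
            rw [hmul, inv_mul_cancel, map_one]
            rfl
        have hinjh : ∀ g, Function.Injective (ρ g) := fun g x x' hxx => by
          have := congrArg (ρ g⁻¹) hxx
          rwa [hmul, hmul, inv_mul_cancel, map_one] at this
        have hrk : rk (ah h) = rk a := by
          show finrank F (LinearMap.range (ah h)) = finrank F (LinearMap.range a)
          rw [hrange]
          exact (Submodule.equivMapOfInjective _ (hinjh h) W₀).finrank_eq.symm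
        have h1 := hmax (ah h) hR hrk a haR hprod
        have h2 := hmax a haR rfl (ah h) hR (hcomm _ hR a haR ▸ hprod)
        rw [hcomm _ hR a haR, h2, hrange] at h1
        refine ⟨fun x hx => h1.ge ⟨x, hx, rfl⟩, fun x hx => ?_⟩
        obtain ⟨w, hw, rfl⟩ := h1.le hx
        rw [hmul, inv_mul_cancel, map_one]
        exact hw
      intro hb
      exact ha0 (LinearMap.range_eq_bot.1 (le_bot_iff.1 (hb ▸ hle)))
    have hdim : b * finrank F W ≤ n := by
      let K : Submodule F V := ⨅ h : P, LinearMap.ker (ah h)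
      have hKmem : ∀ x, x ∈ K ↔ ∀ h, ah h x = 0 := fun x => by simp [K, Submodule.mem_iInf]
      have hK : K = ⊥ := by
        by_contra hb
        have htop := hred K (fun g x hx => (hKmem _).2 fun h => by
          rw [hshift, (hKmem x).1 hx _, map_zero]) hb
        refine ha0 (LinearMap.ext fun x => ?_)
        have := (hKmem x).1 (htop ▸ Submodule.mem_top) 1
        simpa [ah] using this
      letI : Fintype (P ⧸ M) := Fintype.ofFinite _
      let Φ : ((P ⧸ M) → W) →ₗ[F] V :=
        ∑ c : P ⧸ M, ((ρ c.out).comp W.subtype).comp (LinearMap.proj c)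
      have hΦ : Function.Injective Φ := by
        rw [← LinearMap.ker_eq_bot, Submodule.eq_bot_iff]
        intro f hf
        funext c₀
        have hf' : ∑ c : P ⧸ M, ρ c.out (f c : V) = 0 := by
          rw [← LinearMap.mem_ker.1 hf]
          simp [Φ]
        have hzero : ∀ h, ah h (ρ c₀.out (f c₀ : V)) = 0 := by
          intro h
          by_cases hh : c₀.out⁻¹ * h ∈ M
          · have h0 := congrArg (ah h) hf'
            rw [map_sum, map_zero, Finset.sum_eq_single c₀] at h0
            · exact h0
            · intro c _ hc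
              rw [hshift, (hWmem _).1 (f c).2 _ (fun h' => hc ?_), map_zero]
              rw [← c.out_eq', ← c₀.out_eq']
              refine QuotientGroup.eq.2 ?_
              have := mul_mem h' (inv_mem hh)
              simpa [mul_assoc] using this
            · simp
          · rw [hshift, (hWmem _).1 (f c₀).2 _ hh, map_zero]
        have h1 := (hKmem _).2 hzero
        rw [hK, Submodule.mem_bot] at h1
        have h2 := congrArg (ρ c₀.out⁻¹) h1
        rw [hmul, inv_mul_cancel, map_one, map_zero] at h2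
        exact Subtype.ext h2
      have h1 := LinearMap.finrank_le_finrank_of_injective hΦ
      rw [Module.finrank_pi_fintype, Finset.sum_const, Finset.card_univ, smul_eq_mul, hn] at h1
      refine le_trans (Nat.mul_le_mul_right _ (hbp.trans ?_)) h1
      haveI : Nontrivial (P ⧸ M) := QuotientGroup.nontrivial_iff.2 hM.1
      obtain ⟨k, hk⟩ := (hP.to_quotient M).exists_card_eq
      have hlt := Finite.one_lt_card (α := P ⧸ M)
      rw [← Nat.card_eq_fintype_card, hk]
      rcases k with _ | k
      · rw [hk, pow_zero] at hlt; omega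
      · exact Nat.le_self_pow (Nat.succ_ne_zero k) p
    have hWpos : 0 < finrank F W := Submodule.one_le_finrank_iff.2 hW0
    let σ : P → (M →* Module.End F W) := fun g =>
      (res (ρ.comp M.subtype) W hWM).comp (MulAut.conjNormal (H := M) g⁻¹).toMonoidHom
    have hfix : ∀ x : M, (∀ g, σ g x = 1) → x = 1 := by
      intro x hx
      let Z : Submodule F V := ⨅ g : P, LinearMap.ker ((ρ (x : P) - 1) * ρ g)
      have hZ : ∀ y, y ∈ Z ↔ ∀ g, ρ (x : P) (ρ g y) = ρ g y := fun y => by
        simp [Z, Submodule.mem_iInf, sub_eq_zero]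
      have hWZ : W ≤ Z := fun w hw => (hZ w).2 fun g => by
        have h1 := res_eq_one (ρ := ρ.comp M.subtype) (hW := hWM) (hx g) hw
        simp only [MonoidHom.comp_apply, MulEquiv.coe_toMonoidHom, Subgroup.coe_subtype, MulAut.conjNormal_apply,
          inv_inv] at h1
        have h2 := congrArg (ρ g) h1
        rwa [hmul, show g * (g⁻¹ * x * g) = x * g by group, ← hmul] at h2
      have htop := hred Z (fun g y hy => (hZ _).2 fun g' => by
        rw [hmul g' g]; exact (hZ y).1 hy (g' * g)) (fun hb => hW0 (le_bot_iff.1 (hb ▸ hWZ)))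
      refine Subtype.ext (hext _ fun y => ?_)
      have := (hZ y).1 (htop ▸ Submodule.mem_top) 1
      simpa using this
    have hsub : ∀ g, (∀ x ∈ derivedSeries M (Nat.log b (finrank F W / e) + 1), σ g x = 1) ∧
        ((∃ x, σ g x ≠ 1) → e ≤ finrank F W) := fun g =>
      sub (hP.to_subgroup M) (by nlinarith) (σ g)
    have heW : e ≤ finrank F W := by
      by_contra hlt
      have : (⟨z, hHM (hAH (hZA hz.1))⟩ : M) = 1 := hfix _ fun g => by
        by_contra h
        exact hlt ((hsub g).2 ⟨_, h⟩)
      rw [show z = 1 from congrArg Subtype.val this, orderOf_one] at hz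
      exact hpF.out.ne_one hz.2.symm
    refine ⟨by nlinarith, ?_⟩
    have hd : derivedSeries M (Nat.log b (finrank F W / e) + 1) = ⊥ := by
      rw [eq_bot_iff]
      exact fun x hx => mem_bot.2 (hfix x fun g => (hsub g).1 x hx)
    have hd' : derivedSeries P (Nat.log b (finrank F W / e) + 1 + 1) = ⊥ := by
      refine le_bot_iff.1 ((derivedSeries_succ_le hPM _).trans ?_)
      rw [hd, Subgroup.map_bot]
    refine derivedSeries_mono_bot (Nat.add_le_add_right ?_ 1) hd'
    rw [← Nat.log_mul_base hb1 (Nat.div_pos heW he).ne']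
    refine Nat.log_mono_right ((Nat.le_div_iff_mul_le he).2 ?_)
    calc finrank F W / e * b * e = finrank F W / e * e * b := by ring
      _ ≤ finrank F W * b := Nat.mul_le_mul_right b (Nat.div_mul_le_self _ _)
      _ ≤ n := by rwa [mul_comm]

/-- Derived length of a `p`-group with a faithful representation in coprime characteristic. -/
theorem derivedSeries_eq_bot_base (hp0 : (p : F) ≠ 0) (he : 0 < e) (He : FieldBound F p e) (hb1 : 1 < b)
    (hbp : b ≤ p) (Hs : SemiBound F p e b) [FiniteDimensional F V]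
    (hP : IsPGroup p P) (ρ : P →* Module.End F V) (hρ : Function.Injective ρ) :
    derivedSeries P (Nat.log b (finrank F V / e) + 1) = ⊥ := by
  rcases subsingleton_or_nontrivial P with h | h
  · exact eq_bot_iff.2 fun x _ => mem_bot.2 (Subsingleton.elim _ _)
  · exact (main hp0 he He hb1 hbp Hs _ hP rfl ρ hρ h).2

/-- The same bound with logarithms to base two. -/
theorem derivedSeries_eq_bot (hp0 : (p : F) ≠ 0) (he : 0 < e) (He : FieldBound F p e) [FiniteDimensional F V]
    (hP : IsPGroup p P) (ρ : P →* Module.End F V) (hρ : Function.Injective ρ) :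
    derivedSeries P (Nat.log 2 (finrank F V / e) + 1) = ⊥ :=
  derivedSeries_eq_bot_base hp0 he He Nat.one_lt_two (Fact.out : p.Prime).two_le (semiBound_two He) hP ρ hρ

end CfsgLib.LinDerived
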