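import Cfsg.Agent.Lib.PGroup.LinearDerived
import Cfsg.Agent.Lib.Char.TITransfer
import Mathlib.Algebra.CharP.Basic

/-!
# Derived length of linear `p`-groups in the defining characteristic
-/

set_option autoImplicit false
set_option linter.unusedSectionVars false

open Subgroup Module
open scoped commutatorElement

namespace CfsgLib.LinDerived

universe u v

variable {F : Type u} [Field F] {p : ℕ} [Fact p.Prime] [CharP F p]

theorem exists_invariant_finrank {P : Type v} [Group P] [Finite P] (hP : IsPGroup p P) {V : Type u}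
    [AddCommGroup V] [Module F V] [FiniteDimensional F V] (ρ : P →* Module.End F V) :
    ∀ m ≤ finrank F V, ∃ U : Submodule F V, (∀ g, ∀ x ∈ U, ρ g x ∈ U) ∧ finrank F U = m
  | 0, _ => ⟨⊥, fun g x hx => by rw [Submodule.mem_bot] at hx ⊢; rw [hx, map_zero], finrank_bot F V⟩
  | m + 1, hm => by
    obtain ⟨U, hU, hUm⟩ := exists_invariant_finrank hP ρ m (by omega)
    haveI := Fintype.ofFinite P
    let σ : P →* Module.End F (V ⧸ U) :=
      { toFun := fun g => U.mapQ U (ρ g) (fun x hx => hU g x hx)
        map_one' := Submodule.linearMap_qext _ (LinearMap.ext fun x => by simp)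
        map_mul' := fun g h => Submodule.linearMap_qext _ (LinearMap.ext fun x => by simp) }
    haveI : Nontrivial (V ⧸ U) := Submodule.Quotient.nontrivial_iff.2 fun h => by
      rw [h, finrank_top] at hUm; omega
    obtain ⟨v, hv⟩ := exists_ne (0 : V ⧸ U)
    obtain ⟨w, -, hw0, hw⟩ :=
      CfsgLib.Char.TITransfer.exists_fixed_ne_zero (k := F) hP σ ⊤ (fun _ _ _ => trivial) (v := v) trivial hv
    let L := Submodule.span F ({w} : Set (V ⧸ U))
    refine ⟨L.comap U.mkQ, fun g x hx => ?_, ?_⟩
    · obtain ⟨c, hc⟩ := Submodule.mem_span_singleton.1 (Submodule.mem_comap.1 hx)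
      refine Submodule.mem_comap.2 (Submodule.mem_span_singleton.2 ⟨c, ?_⟩)
      have : U.mkQ (ρ g x) = σ g (U.mkQ x) := rfl
      rw [this, ← hc, map_smul, hw]
    · have h1 := (U.mkQ.domRestrict (L.comap U.mkQ)).finrank_range_add_finrank_ker
      have hr : LinearMap.range (U.mkQ.domRestrict (L.comap U.mkQ)) = L := by
        rw [LinearMap.range_domRestrict, Submodule.map_comap_eq_of_surjective (Submodule.mkQ_surjective U)]
      have hk : finrank F (LinearMap.ker (U.mkQ.domRestrict (L.comap U.mkQ))) = finrank F U := by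
        have hle : U ≤ L.comap U.mkQ := fun x hx => by simp [(Submodule.Quotient.mk_eq_zero U).2 hx]
        rw [LinearMap.ker_domRestrict, Submodule.ker_mkQ]
        exact (Submodule.comapSubtypeEquivOfLe hle).finrank_eq
      rw [hr, hk, hUm, finrank_span_singleton hw0] at h1
      omega

theorem derivedSeries_unipotent (d : ℕ) : ∀ {P : Type v} [Group P] [Finite P], IsPGroup p P →
    ∀ {V : Type u} [AddCommGroup V] [Module F V] [FiniteDimensional F V], finrank F V ≤ 2 ^ d →
      ∀ ρ : P →* Module.End F V, Function.Injective ρ → derivedSeries P d = ⊥ := by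
  induction d with
  | zero =>
    intro P _ _ hP V _ _ _ hd ρ hρ
    rw [derivedSeries_zero, eq_bot_iff]
    intro g _
    refine mem_bot.2 (hρ ?_)
    rw [map_one]
    rcases subsingleton_or_nontrivial V with hV | hV
    · exact LinearMap.ext fun x => Subsingleton.elim _ _
    haveI := Fintype.ofFinite P
    obtain ⟨v, hv⟩ := exists_ne (0 : V)
    obtain ⟨w, -, hw0, hw⟩ :=
      CfsgLib.Char.TITransfer.exists_fixed_ne_zero (k := F) hP ρ ⊤ (fun _ _ _ => trivial) (v := v) trivial hv
    refine LinearMap.ext fun x => ?_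
    obtain ⟨c, rfl⟩ := exists_smul_eq_of_finrank_eq_one (le_antisymm (by simpa using hd) Module.finrank_pos) hw0 x
    rw [map_smul, hw g]
    rfl
  | succ d ih =>
    intro P _ _ hP V _ _ _ hd ρ hρ
    obtain ⟨U, hU, hUn⟩ := exists_invariant_finrank hP ρ (finrank F V / 2) (Nat.div_le_self _ _)
    let σ₂ : P →* Module.End F (V ⧸ U) :=
      { toFun := fun g => U.mapQ U (ρ g) (fun x hx => hU g x hx)
        map_one' := Submodule.linearMap_qext _ (LinearMap.ext fun x => by simp)
        map_mul' := fun g h => Submodule.linearMap_qext _ (LinearMap.ext fun x => by simp) }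
    have hq := U.finrank_quotient_add_finrank
    rw [pow_succ] at hd
    have key : ∀ {W : Type u} [AddCommGroup W] [Module F W] [FiniteDimensional F W], finrank F W ≤ 2 ^ d →
        ∀ σ : P →* Module.End F W, ∀ x ∈ derivedSeries P d, σ x = 1 := by
      intro W _ _ _ hW σ x hx
      let τ := σ.toHomUnits
      let θ : P ⧸ τ.ker →* Module.End F W := (Units.coeHom _).comp (QuotientGroup.kerLift τ)
      have hθ : Function.Injective θ := fun a b hab => QuotientGroup.kerLift_injective τ (Units.ext hab)
      have hm := map_derivedSeries_le_derivedSeries (QuotientGroup.mk' τ.ker) _ (mem_map_of_mem _ hx)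
      rw [ih (hP.to_quotient _) hW θ hθ, mem_bot] at hm
      exact (congrArg θ hm).trans (map_one θ)
    have h1 := key (W := U) (by omega) (res ρ U hU)
    have h2 := key (W := V ⧸ U) (by omega) σ₂
    rw [derivedSeries_succ, eq_bot_iff, commutator_le]
    intro x hx y hy
    rw [mem_bot, commutatorElement_eq_one_iff_mul_comm]
    refine hρ (LinearMap.ext fun v => ?_)
    have hd' : ∀ z ∈ derivedSeries P d, ∀ u, ρ z u - u ∈ U := fun z hz u => by
      refine (Submodule.Quotient.eq U).1 ?_
      exact LinearMap.congr_fun (h2 z hz) (Submodule.Quotient.mk u)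
    have hfix : ∀ z ∈ derivedSeries P d, ∀ u ∈ U, ρ z u = u := fun z hz u hu => res_eq_one (h1 z hz) hu
    simp only [map_mul, Module.End.mul_apply]
    have ex : ρ x (ρ y v) = ρ x v + (ρ y v - v) := by
      conv_lhs => rw [show ρ y v = v + (ρ y v - v) from (add_sub_cancel v _).symm]
      rw [map_add, hfix x hx _ (hd' y hy v)]
    have ey : ρ y (ρ x v) = ρ y v + (ρ x v - v) := by
      conv_lhs => rw [show ρ x v = v + (ρ x v - v) from (add_sub_cancel v _).symm]
      rw [map_add, hfix y hy _ (hd' x hx v)]
    rw [ex, ey]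
    abel

end CfsgLib.LinDerived
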