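import Cfsg.Agent.Lib.PGroup.MaxClassUniform
import Cfsg.Agent.Lib.PGroup.PolySeq
import Cfsg.Agent.Lib.PGroup.Subnormalizer
import Cfsg.Agent.Lib.Fusion.Sylow

/-!
# Self-centralizing elementary abelian subgroups of order `p³` in groups of maximal class

If the normalizer of such a subgroup `E` has order `p⁴` and the group has order `p ^ n`, `5 ≤ n`,
then `n ≤ p + 1`, `E` is not contained in the derived subgroup, and the quotient of the normalizer
of `cz E = Z(N(E))` by `cz E` has `E` as a uniform element.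
-/

set_option autoImplicit false
set_option linter.style.haveILetI false
set_option linter.unusedSectionVars false
set_option maxHeartbeats 1000000

open Subgroup
open scoped commutatorElement

namespace CfsgLib.MaxClassCube

open CfsgLib.MaxClassShift (gam gam_normal gam_anti gam_comm)
open CfsgLib.MaxClassUniform (Uniform)
open CfsgLib.Fusion (conjBy conjBy_le_iff conjBy_eq_iff mem_conjBy card_conjBy conjBy_normalizer
  conjBy_centralizer conj_mem_conjBy)

universe u

variable {G : Type u} [Group G] [Finite G] {p n : ℕ} [Fact p.Prime]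

/-- A group of maximal class and order `p ^ n`, `5 ≤ n`. -/
structure Amb (G : Type u) [Group G] (p n : ℕ) : Prop where
  isP : IsPGroup p G
  card : Nat.card G = p ^ n
  five : 5 ≤ n
  cls : Group.nilpotencyClass G = n - 1

/-- An elementary abelian self-centralizing subgroup of order `p³` with normalizer of order `p⁴`. -/
structure Cubic (p : ℕ) (E : Subgroup G) : Prop where
  card : Nat.card E = p ^ 3
  comm : ∀ x ∈ E, ∀ y ∈ E, x * y = y * x
  exp : ∀ x ∈ E, x ^ p = 1
  cent : centralizer (E : Set G) ≤ E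
  norm : Nat.card (normalizer (E : Set G)) = p ^ 4

/-- The centre of the normalizer. -/
abbrev cz (E : Subgroup G) : Subgroup G :=
  E ⊓ centralizer ((normalizer (E : Set G) : Subgroup G) : Set G)

theorem exists_exp (hG : IsPGroup p G) (H : Subgroup G) : ∃ k, Nat.card H = p ^ k :=
  (hG.to_subgroup H).exists_card_eq

theorem mul_card_le (hG : IsPGroup p G) {A B : Subgroup G} (hlt : A < B) :
    p * Nat.card A ≤ Nat.card B := by
  have hp := (Fact.out : p.Prime)
  obtain ⟨i, hi⟩ := exists_exp hG A
  obtain ⟨j, hj⟩ := exists_exp hG B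
  have h1 : Nat.card A < Nat.card B := lt_of_le_of_ne (card_le_of_le hlt.le) fun e =>
    hlt.ne (eq_of_le_of_card_ge hlt.le e.ge)
  rw [hi, hj] at h1
  rw [hi, hj, ← pow_succ']
  exact Nat.pow_le_pow_right hp.pos ((Nat.pow_lt_pow_iff_right hp.one_lt).1 h1)

theorem eq_sup_zpowers (hG : IsPGroup p G) {A B : Subgroup G} (hAB : A ≤ B)
    (hc : Nat.card B ≤ p * Nat.card A) {x : G} (hx : x ∈ B) (hxA : x ∉ A) :
    B = A ⊔ zpowers x := by
  have hlt : A < A ⊔ zpowers x :=
    lt_of_le_of_ne le_sup_left fun e => hxA (e.ge (mem_sup_right (mem_zpowers x)))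
  exact (eq_of_le_of_card_ge (sup_le hAB (zpowers_le.2 hx)) (hc.trans (mul_card_le hG hlt))).symm

/-- Two different subgroups of index `p` in a group. -/
theorem card_inf_of_index (hG : IsPGroup p G) {A B N : Subgroup G} (hA : A ≤ N) (hB : B ≤ N)
    (hAc : Nat.card N ≤ p * Nat.card A) (hBA : ¬ B ≤ A) (hn : N ≤ normalizer (A : Set G)) :
    p * Nat.card (A ⊓ B : Subgroup G) = Nat.card B := by
  have hp := (Fact.out : p.Prime)
  refine le_antisymm (mul_card_le hG (lt_of_le_of_ne inf_le_right fun e => hBA (e.ge.trans inf_le_left))) ?_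
  haveI : (A.subgroupOf N).Normal := normal_subgroupOf_iff_le_normalizer hA |>.2 hn
  have h1 : (A ⊓ B).relIndex B ∣ A.relIndex N := by
    rw [inf_relIndex_right, relIndex, relIndex]
    have h3 := relIndex_dvd_index_of_normal (A.subgroupOf N) (B.subgroupOf N)
    rwa [← relIndex, relIndex_subgroupOf hB] at h3
  have h2 : A.relIndex N ≤ p := by
    have e := relIndex_mul_relIndex ⊥ A N bot_le hA
    rw [relIndex_bot_left, relIndex_bot_left] at e
    refine Nat.le_of_mul_le_mul_left ?_ (Nat.card_pos (α := A))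
    rw [e, mul_comm _ p]
    exact hAc
  have e := relIndex_mul_relIndex ⊥ (A ⊓ B) B bot_le inf_le_right
  rw [relIndex_bot_left, relIndex_bot_left] at e
  rw [← e, mul_comm p]
  refine Nat.mul_le_mul_left _ ((Nat.le_of_dvd ?_ h1).trans h2)
  exact Nat.pos_of_ne_zero fun h0 => by
    have e2 := relIndex_mul_relIndex ⊥ A N bot_le hA
    rw [relIndex_bot_left, relIndex_bot_left, h0, mul_zero] at e2
    exact (Nat.card_pos (α := N)).ne e2

/-- A group generated by two commuting elements is commutative. -/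
theorem comm_of_two_gen {Q : Type*} [Group Q] {x y : Q} (h : closure ({x, y} : Set Q) = ⊤)
    (hc : x * y = y * x) (a b : Q) : a * b = b * a := by
  have h1 : ∀ z ∈ ({x, y} : Set Q), ∀ w : Q, w * z = z * w := fun z hz w => by
    have hle : closure ({x, y} : Set Q) ≤ centralizer ({z} : Set Q) := (closure_le _).2 fun u hu =>
      mem_centralizer_singleton_iff.2 (by
        rcases hz with rfl | rfl <;> rcases hu with rfl | rfl <;>
          first | rfl | exact hc | exact hc.symm)
    exact mem_centralizer_singleton_iff.1 (hle (h ▸ mem_top w))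
  have h2 : closure ({x, y} : Set Q) ≤ centralizer ({a} : Set Q) := (closure_le _).2 fun u hu =>
    mem_centralizer_singleton_iff.2 (h1 u hu a).symm
  exact (mem_centralizer_singleton_iff.1 (h2 (h ▸ mem_top b))).symm

section Ambient

variable (hA : Amb G p n)
include hA

theorem Amb.index_gam {i : ℕ} (h2 : 2 ≤ i) (hi : i ≤ n) : (gam G i).index = p ^ i :=
  CfsgLib.PGroup.MaxClassRank.index_gam hA.isP hA.card (by have := hA.five; omega) hA.cls h2 hi

theorem Amb.card_gam {i : ℕ} (h2 : 2 ≤ i) (hi : i ≤ n) : Nat.card (gam G i) = p ^ (n - i) := by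
  have e := (gam G i).card_mul_index
  rw [hA.index_gam h2 hi, hA.card, show p ^ n = p ^ (n - i) * p ^ i by
    rw [← pow_add]; congr 1; omega] at e
  exact Nat.eq_of_mul_eq_mul_right (pow_pos (Fact.out : p.Prime).pos i) e

theorem Amb.gam_eq_bot {i : ℕ} (hi : n ≤ i) : gam G i = ⊥ :=
  CfsgLib.MaxClassUniform.gam_last_eq_bot hA.isP hA.card (by have := hA.five; omega) hA.cls hi

theorem Amb.commute_of_gam {i j : ℕ} (hi : 1 ≤ i) (hj : 1 ≤ j) (hij : n ≤ i + j) {x y : G}
    (hx : x ∈ gam G i) (hy : y ∈ gam G j) : x * y = y * x := by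
  have h1 := gam_comm hi hj hx hy
  rw [hA.gam_eq_bot hij, mem_bot, commutatorElement_eq_one_iff_mul_comm] at h1
  exact h1

theorem Amb.center_eq : center G = gam G (n - 1) := by
  have h5 := hA.five
  refine (eq_of_le_of_card_ge (fun z hz => mem_center_iff.2 fun g =>
    (hA.commute_of_gam (i := n - 1) (j := 1) (by omega) le_rfl (by omega) hz (mem_top g)).symm) ?_).symm
  rw [CfsgLib.PGroup.card_center_of_maximal hA.isP hA.card (by omega) hA.cls,
    hA.card_gam (by omega) (by omega), show n - (n - 1) = 1 by omega, pow_one]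

theorem Amb.eq_top_of_sup {H : Subgroup G} (h : H ⊔ gam G 2 = ⊤) : H = ⊤ := by
  have h2 : H ⊔ frattini G = ⊤ := by
    refine eq_top_iff.2 (h.ge.trans (sup_le_sup_left ?_ H))
    rw [show gam G 2 = commutator G from Subgroup.top_lowerCentralSeries_one]
    exact CfsgLib.Coprime.commutator_le_frattini hA.isP
  exact frattini_nongenerating h2

theorem Amb.card_sup_gam {H : Subgroup G} (hH : H ≠ ⊤) :
    Nat.card (H ⊔ gam G 2 : Subgroup G) ≤ p ^ (n - 1) := by
  have hp := (Fact.out : p.Prime)
  have hlt : H ⊔ gam G 2 < ⊤ := lt_top_iff_ne_top.2 fun e => hH (hA.eq_top_of_sup e)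
  have h1 := mul_card_le hA.isP hlt
  rw [card_top, hA.card, show p ^ n = p * p ^ (n - 1) by
    rw [← pow_succ']; congr 1; have := hA.five; omega] at h1
  exact Nat.le_of_mul_le_mul_left h1 hp.pos

/-- An element outside the derived subgroup of order `p` has centralizer of order `p²` when
`p + 2 ≤ n`. -/
theorem Amb.uniform_of_pow (hn : p + 2 ≤ n) {e : G} (he : e ∉ gam G 2) (hep : e ^ p = 1) :
    Uniform e p n := by
  have hp := (Fact.out : p.Prime)
  have hp2 := hp.two_le
  have h3 : 3 ≤ n := by omega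
  have hM : zpowers e ⊔ gam G 2 ≠ ⊤ := fun h => by
    have h1 := hA.eq_top_of_sup h
    have h2 : Nat.card (zpowers e) = Nat.card G := by rw [h1, card_top]
    rw [Nat.card_zpowers, hA.card] at h2
    have h4 := Nat.le_of_dvd hp.pos (orderOf_dvd_of_pow_eq_one hep)
    rw [h2] at h4
    exact absurd h4 (not_le.2 (by simpa using Nat.pow_lt_pow_right hp.one_lt (show 1 < n by omega)))
  obtain ⟨x, hx, hxM⟩ := CfsgLib.MaxClassUniform.exists_uniform n G hA.isP hA.card h3 hA.cls _ hM
  -- small layers
  have hsmall : ∀ i, 2 ≤ i → i ≤ p → e ∉ CfsgLib.PGroup.MaxClassRank.twoStepAt G i := by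
    intro i hi2 hip hei
    set w := ⁅x, e⁆ with hw
    have hw2 : w ∈ gam G 2 := gam_comm (a := 1) (b := 1) le_rfl le_rfl (mem_top x) (mem_top e)
    have hw3 : w ∉ gam G 3 := by
      intro hw3
      haveI := gam_normal (G := G) 3
      have hgen : closure ({x, e} : Set G) = ⊤ := by
        have hmem : x ∈ closure ({x, e} : Set G) := subset_closure (Set.mem_insert x {e})
        have hle : zpowers e ≤ closure ({x, e} : Set G) :=
          zpowers_le.2 (subset_closure (Set.mem_insert_of_mem x (Set.mem_singleton e)))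
        refine hA.eq_top_of_sup (H := closure ({x, e} : Set G)) ?_
        by_contra hne
        have hlt : zpowers e ⊔ gam G 2 < closure ({x, e} : Set G) ⊔ gam G 2 := by
          refine lt_of_le_of_ne (sup_le_sup_right hle _) fun h => hxM ?_
          rw [h]
          exact mem_sup_left hmem
        have h1 : gam G 2 < zpowers e ⊔ gam G 2 := by
          refine lt_of_le_of_ne le_sup_right fun h => he ?_
          rw [h]
          exact mem_sup_left (mem_zpowers e)
        have a1 := mul_card_le hA.isP h1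
        have a2 := mul_card_le hA.isP hlt
        have a3 := mul_card_le hA.isP (lt_top_iff_ne_top.2 hne)
        rw [card_top, hA.card] at a3
        rw [hA.card_gam le_rfl (by omega)] at a1
        have a4 : p * (p * (p * p ^ (n - 2))) ≤ p ^ n :=
          ((Nat.mul_le_mul_left p ((Nat.mul_le_mul_left p a1).trans a2))).trans a3
        rw [← pow_succ', ← pow_succ', ← pow_succ'] at a4
        have := (Nat.pow_le_pow_iff_right hp.one_lt).1 a4
        omega
      have hab : ∀ a b : G ⧸ gam G 3, a * b = b * a := by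
        refine comm_of_two_gen (x := QuotientGroup.mk' (gam G 3) x) (y := QuotientGroup.mk' (gam G 3) e) ?_ ?_
        · rw [← Set.image_pair (QuotientGroup.mk' (gam G 3)), ← MonoidHom.map_closure, hgen,
            map_top_of_surjective _ (QuotientGroup.mk'_surjective _)]
        · rw [← commutatorElement_eq_one_iff_mul_comm, ← map_commutatorElement]
          exact (QuotientGroup.eq_one_iff _).2 hw3
      have hle : gam G 2 ≤ gam G 3 := by
        rw [show gam G 2 = commutator G from Subgroup.top_lowerCentralSeries_one, commutator_def,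
          commutator_le]
        intro a _ b _
        rw [← QuotientGroup.eq_one_iff, ← QuotientGroup.mk'_apply, map_commutatorElement,
          commutatorElement_eq_one_iff_mul_comm]
        exact hab _ _
      have h2 := card_le_of_le hle
      rw [hA.card_gam le_rfl (by omega), hA.card_gam (by omega) (by omega)] at h2
      have := (Nat.pow_le_pow_iff_right hp.one_lt).1 h2
      omega
    obtain ⟨hwp, hwp'⟩ := hx.pow_shift n 2 le_rfl (by omega) w hw2
    set N := gam G (2 + p)
    haveI : N.Normal := gam_normal _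
    set q := QuotientGroup.mk' N
    have hF : CfsgLib.PolySeq.Filt (fun j => (gam G j).map q) (2 + p) := by
      refine ⟨fun a b _ hab => map_mono (gam_anti hab), fun a b ha hb y hy z hz => ?_, ?_⟩
      · obtain ⟨y, hy, rfl⟩ := hy
        obtain ⟨z, hz, rfl⟩ := hz
        rw [← map_commutatorElement]
        exact mem_map_of_mem q (gam_comm ha hb hy hz)
      · show N.map q = ⊥
        rw [Subgroup.map_eq_bot_iff, QuotientGroup.ker_mk']
    have hform := CfsgLib.PolySeq.mul_pow_prime hF hp le_rfl rfl (mem_map_of_mem q hw2)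
      (mem_map_of_mem q (show e ∈ gam G 1 from mem_top e)) (by
        rintro _ ⟨y, hy, rfl⟩
        rw [← map_pow, ← MonoidHom.mem_ker, QuotientGroup.ker_mk']
        have h1 := (hx.pow_shift n 3 (by omega) (by omega) y hy).1
        rwa [show 3 + p - 1 = 2 + p by omega] at h1)
    have hdl : ∀ m, (fun y => ⁅y⁻¹, e⁆)^[m] w ∈ gam G (2 + m) ∧
        (i - 2 < m → (fun y => ⁅y⁻¹, e⁆)^[m] w ∈ gam G (3 + m)) := by
      intro m
      induction m with
      | zero => exact ⟨hw2, fun h => absurd h (by omega)⟩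
      | succ m ih =>
        rw [Function.iterate_succ_apply']
        refine ⟨gam_comm (a := 2 + m) (by omega) le_rfl (inv_mem ih.1) (mem_top e), fun hlt => ?_⟩
        rcases (show m = i - 2 ∨ i - 2 < m by omega) with hm | hm
        · have h1 := hei _ (inv_mem (by simpa [show 2 + m = i by omega] using ih.1))
          rw [← commutatorElement_inv]
          exact gam_anti (show 3 + (m + 1) ≤ i + 2 by omega) (inv_mem h1)
        · exact gam_comm (a := 3 + m) (by omega) le_rfl (inv_mem (ih.2 hm)) (mem_top e)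
    have hzero : q ((fun y => ⁅y⁻¹, e⁆)^[p - 1] w) = 1 := by
      refine (QuotientGroup.eq_one_iff _).2 (gam_anti ?_ ((hdl (p - 1)).2 (by omega)))
      omega
    have hsemi : Function.Semiconj q (fun y => ⁅y⁻¹, e⁆) (fun y => ⁅y⁻¹, q e⁆) := fun y => by
      rw [map_commutatorElement, map_inv]
    rw [← (hsemi.iterate_right (p - 1)).eq, hzero, mul_one, ← map_mul, ← map_pow q (w * e),
      show w * e = x * e * x⁻¹ by rw [hw, commutatorElement_def]; group, conj_pow, hep,
      ← map_pow q e, hep, mul_one, mul_inv_cancel, map_one, one_mul, inv_one, ← map_pow] at hform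
    exact hwp' hw3 (by omega) ((QuotientGroup.eq_one_iff _).1 hform.symm)
  have hall : ∀ j, 2 ≤ j → j + 2 ≤ n → e ∉ CfsgLib.PGroup.MaxClassRank.twoStepAt G j := by
    intro j
    induction j using Nat.strong_induction_on with
    | _ j ihj =>
      intro h1 h2
      by_cases hj : j ≤ p
      · exact hsmall j h1 hj
      · have h5 := hx.twoStep_periodic (i := j + 1 - p) (by omega) (by omega)
          (ihj (j + 1 - p) (by omega) (by omega) (by omega))
        rwa [show j + 1 - p + p - 1 = j by omega] at h5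
  exact CfsgLib.MaxClassUniform.uniform_of_notMem hA.isP hA.card h3 hA.cls he hall

end Ambient

section CubicFacts

variable {E : Subgroup G} (hA : Amb G p n) (hE : Cubic p E)
include hA hE

theorem Cubic.normalizer_lt : normalizer (E : Set G) < ⊤ := by
  refine lt_top_iff_ne_top.2 fun e => ?_
  have h := hE.norm
  rw [e, card_top, hA.card] at h
  have := Nat.pow_right_injective (Fact.out : p.Prime).two_le h
  have := hA.five
  omega

theorem Cubic.mem_cz {x : G} (hx : x ∈ normalizer (E : Set G))
    (hc : ∀ y ∈ normalizer (E : Set G), y * x = x * y) : x ∈ cz E :=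
  mem_inf.2 ⟨hE.cent (mem_centralizer_iff.2 fun y hy => hc y (le_normalizer hy)),
    mem_centralizer_iff.2 hc⟩

theorem Cubic.card_cz : Nat.card (cz E) = p ^ 2 ∧ normalizer ((normalizer (E : Set G) : Subgroup G) : Set G) ≤
    normalizer ((cz E : Subgroup G) : Set G) := by
  classical
  have hp := (Fact.out : p.Prime)
  set N := normalizer (E : Set G) with hN
  have hEN : E ≤ N := le_normalizer
  have hnorm : normalizer ((N : Subgroup G) : Set G) ≤ normalizer ((cz E : Subgroup G) : Set G) := by
    intro g hg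
    refine conjBy_eq_iff.1 (CfsgLib.Fusion.conjBy_eq_of_le (conjBy_le_iff.2 fun x hx => ?_))
    obtain ⟨hxE, hxC⟩ := mem_inf.1 hx
    refine hE.mem_cz hA ((mem_normalizer_iff.1 hg x).1 (hEN hxE)) fun y hy => ?_
    have h1 := mem_centralizer_iff.1 hxC (g⁻¹ * y * g) ((mem_normalizer_iff.1 hg _).2 (by
      simpa [mul_assoc] using hy))
    calc y * (g * x * g⁻¹) = g * (g⁻¹ * y * g * x) * g⁻¹ := by group
      _ = g * x * g⁻¹ * y := by rw [h1]; group
  refine ⟨?_, hnorm⟩
  have hlt := CfsgLib.Subnormalizer.lt_inf_normalizer (hA.isP.to_subgroup ⊤) (hE.normalizer_lt hA)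
  rw [top_inf_eq] at hlt
  obtain ⟨s, hs, hsN⟩ := SetLike.exists_of_lt hlt
  have hsN' : conjBy s N = N := conjBy_eq_iff.2 hs
  have hB : conjBy s E ≤ N := hsN' ▸ CfsgLib.Fusion.conjBy_mono hEN
  have hBE : ¬ conjBy s E ≤ E := fun h => hsN (hN ▸ conjBy_eq_iff.1 (CfsgLib.Fusion.conjBy_eq_of_le h))
  have h1 := card_inf_of_index hA.isP hEN hB (by rw [hE.norm, hE.card, ← pow_succ']) hBE le_rfl
  rw [card_conjBy, hE.card, show p ^ 3 = p * p ^ 2 by rw [← pow_succ']] at h1
  have h2 : Nat.card (E ⊓ conjBy s E : Subgroup G) = p ^ 2 := Nat.eq_of_mul_eq_mul_left hp.pos h1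
  obtain ⟨y, hy, hyE⟩ := SetLike.not_le_iff_exists.1 hBE
  have hgen : N = E ⊔ zpowers y :=
    eq_sup_zpowers hA.isP hEN (by rw [hE.norm, hE.card, ← pow_succ']) (hB hy) hyE
  have hle : E ⊓ conjBy s E ≤ cz E := by
    intro x hx
    obtain ⟨hxE, hxB⟩ := mem_inf.1 hx
    refine mem_inf.2 ⟨hxE, ?_⟩
    have : N ≤ centralizer ({x} : Set G) := hgen ▸ sup_le
      (fun w hw => mem_centralizer_singleton_iff.2 (hE.comm w hw x hxE))
      (zpowers_le.2 (mem_centralizer_singleton_iff.2 (by
        obtain ⟨a, ha, rfl⟩ := hy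
        obtain ⟨b, hb, rfl⟩ := hxB
        rw [← map_mul, ← map_mul, hE.comm a ha b hb])))
    exact mem_centralizer_iff.2 fun w hw => mem_centralizer_singleton_iff.1 (this hw)
  have hne : cz E < E := by
    refine lt_of_le_of_ne inf_le_left fun e => ?_
    have h3 : N ≤ centralizer (E : Set G) := fun w hw => mem_centralizer_iff.2 fun x hx =>
      (mem_centralizer_iff.1 (mem_inf.1 (e.ge hx)).2 w hw).symm
    have h4 := card_le_of_le (h3.trans hE.cent)
    rw [hE.norm, hE.card] at h4
    have := (Nat.pow_le_pow_iff_right hp.one_lt).1 h4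
    omega
  refine le_antisymm ?_ (h2 ▸ card_le_of_le hle)
  have h3 := mul_card_le hA.isP hne
  rw [hE.card, show p ^ 3 = p * p ^ 2 by rw [← pow_succ']] at h3
  exact Nat.le_of_mul_le_mul_left h3 hp.pos

theorem Cubic.cz_lt : cz E < E := by
  refine lt_of_le_of_ne inf_le_left fun e => ?_
  have h := (hE.card_cz hA).1
  rw [e, hE.card] at h
  have := Nat.pow_right_injective (Fact.out : p.Prime).two_le h
  omega

theorem Cubic.eq_cz_sup {e : G} (he : e ∈ E) (hez : e ∉ cz E) : E = cz E ⊔ zpowers e :=
  eq_sup_zpowers hA.isP inf_le_left (by rw [hE.card, (hE.card_cz hA).1, ← pow_succ']) he hez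

theorem Cubic.le_normalizer_cz : normalizer (E : Set G) ≤ normalizer ((cz E : Subgroup G) : Set G) :=
  le_normalizer.trans (hE.card_cz hA).2

/-- `x` normalizes `E` as soon as it normalizes `cz E` and `[x, e] ∈ cz E`. -/
theorem Cubic.mem_normalizer {e x : G} (he : e ∈ E) (hez : e ∉ cz E)
    (hx : x ∈ normalizer ((cz E : Subgroup G) : Set G)) (hc : ⁅x, e⁆ ∈ cz E) :
    x ∈ normalizer (E : Set G) := by
  refine conjBy_eq_iff.1 (CfsgLib.Fusion.conjBy_eq_of_le ?_)
  conv_lhs => rw [hE.eq_cz_sup hA he hez]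
  rw [show conjBy x (cz E ⊔ zpowers e) = conjBy x (cz E) ⊔ conjBy x (zpowers e) from
    Subgroup.map_sup _ _ _, conjBy_eq_iff.2 hx]
  refine sup_le inf_le_left ?_
  rw [show conjBy x (zpowers e) = zpowers (x * e * x⁻¹) from MonoidHom.map_zpowers _ _]
  refine zpowers_le.2 ?_
  have h1 := mul_mem (mem_inf.1 hc).1 he
  rwa [commutatorElement_def, inv_mul_cancel_right] at h1

theorem Cubic.comm_mem_cz {e x : G} (he : e ∈ E) (hx : x ∈ normalizer (E : Set G)) : ⁅x, e⁆ ∈ cz E := by
  -- the quotient of the normalizer by `cz E` has order `p²`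
  have hle : cz E ≤ normalizer (E : Set G) := inf_le_left.trans le_normalizer
  haveI : ((cz E).subgroupOf (normalizer (E : Set G))).Normal :=
    (normal_subgroupOf_iff_le_normalizer hle).2 (hE.le_normalizer_cz hA)
  have hq : Nat.card (↥(normalizer (E : Set G)) ⧸ (cz E).subgroupOf (normalizer (E : Set G))) = p ^ 2 := by
    have e1 := ((cz E).subgroupOf (normalizer (E : Set G))).card_mul_index
    rw [Nat.card_congr (subgroupOfEquivOfLe hle).toEquiv, (hE.card_cz hA).1, hE.norm,
      show p ^ 4 = p ^ 2 * p ^ 2 by rw [← pow_add], index_eq_card] at e1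
    exact Nat.eq_of_mul_eq_mul_left (pow_pos (Fact.out : p.Prime).pos 2) e1
  haveI := IsPGroup.isMulCommutative_of_card_eq_prime_sq hq
  set q := QuotientGroup.mk' ((cz E).subgroupOf (normalizer (E : Set G)))
  have h1 : q ⁅(⟨x, hx⟩ : normalizer (E : Set G)), ⟨e, le_normalizer he⟩⁆ = 1 := by
    rw [map_commutatorElement, commutatorElement_eq_one_iff_mul_comm]
    exact mul_comm' _ _
  exact mem_subgroupOf.1 ((QuotientGroup.eq_one_iff _).1 h1)

/-- Modulo `cz E`, an element of `E` outside is uniform. -/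
theorem Cubic.uniform_quot {U : Subgroup G} (hNU : normalizer (E : Set G) ≤ U)
    (hUZ : U ≤ normalizer ((cz E : Subgroup G) : Set G)) [((cz E).subgroupOf U).Normal] {m : ℕ}
    (hm : 3 ≤ m) (hU : Nat.card U = p ^ (m + 2)) {e : G} (he : e ∈ E) (hez : e ∉ cz E) :
    Uniform (QuotientGroup.mk (⟨e, hNU (le_normalizer he)⟩ : U) : ↥U ⧸ (cz E).subgroupOf U) p m := by
  classical
  have hp := (Fact.out : p.Prime)
  have hle : cz E ≤ U := inf_le_left.trans (le_normalizer.trans hNU)
  set Z := (cz E).subgroupOf U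
  have hZc : Nat.card Z = p ^ 2 := by
    rw [Nat.card_congr (subgroupOfEquivOfLe hle).toEquiv, (hE.card_cz hA).1]
  refine ⟨?_, ?_, hm⟩
  · have e1 := Z.card_mul_index
    rw [hZc, hU, show p ^ (m + 2) = p ^ 2 * p ^ m by rw [← pow_add]; congr 1; omega,
      index_eq_card] at e1
    exact Nat.eq_of_mul_eq_mul_left (pow_pos hp.pos 2) e1
  set E' : ↥U := ⟨e, hNU (le_normalizer he)⟩
  have hcomap : (centralizer ({(QuotientGroup.mk E' : ↥U ⧸ Z)} : Set (↥U ⧸ Z))).comap (QuotientGroup.mk' Z) =
      (normalizer (E : Set G)).subgroupOf U := by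
    ext x
    rw [mem_comap, mem_centralizer_singleton_iff, mem_subgroupOf, ← commutatorElement_eq_one_iff_mul_comm,
      ← QuotientGroup.mk'_apply, ← map_commutatorElement, QuotientGroup.mk'_apply, QuotientGroup.eq_one_iff,
      mem_subgroupOf]
    have hco : ((⁅x, E'⁆ : ↥U) : G) = ⁅(x : G), e⁆ := map_commutatorElement U.subtype x E'
    rw [hco]
    exact ⟨fun h => hE.mem_normalizer hA he hez (hUZ x.2) h, fun h => hE.comm_mem_cz hA he h⟩
  have e1 := congrArg (fun H : Subgroup ↥U => Nat.card H) hcomap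
  rw [Nat.card_congr (subgroupOfEquivOfLe hNU).toEquiv, hE.norm] at e1
  set C := centralizer ({(QuotientGroup.mk E' : ↥U ⧸ Z)} : Set (↥U ⧸ Z))
  have e2 : Nat.card (C.comap (QuotientGroup.mk' Z)) = Nat.card Z * Nat.card C := by
    have h1 := (C.comap (QuotientGroup.mk' Z)).card_mul_index
    rw [index_comap_of_surjective _ (QuotientGroup.mk'_surjective Z)] at h1
    have h2 := Z.card_mul_index
    rw [index_eq_card Z, ← C.card_mul_index, ← mul_assoc] at h2
    exact Nat.eq_of_mul_eq_mul_right (Nat.pos_of_ne_zero Subgroup.FiniteIndex.index_ne_zero)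
      (h1.trans h2.symm)
  rw [e2, hZc, show p ^ 4 = p ^ 2 * p ^ 2 by rw [← pow_add]] at e1
  exact Nat.eq_of_mul_eq_mul_left (pow_pos hp.pos 2) e1

theorem Cubic.cz_ne_bot_center : ¬ cz E ≤ center G := by
  intro h
  have h1 := card_le_of_le h
  rw [(hE.card_cz hA).1, hA.center_eq, hA.card_gam (by have := hA.five; omega) (by omega)] at h1
  have := (Nat.pow_le_pow_iff_right (Fact.out : p.Prime).one_lt).1 h1
  have := hA.five
  omega

theorem Cubic.center_le : center G ≤ cz E := fun z hz =>
  mem_inf.2 ⟨hE.cent (mem_centralizer_iff.2 fun y _ => mem_center_iff.1 hz y),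
    mem_centralizer_iff.2 fun y _ => mem_center_iff.1 hz y⟩

theorem Cubic.gam_pred_le_normalizer : gam G (n - 2) ≤ normalizer (E : Set G) := by
  have h5 := hA.five
  intro z hz
  refine conjBy_eq_iff.1 (CfsgLib.Fusion.conjBy_eq_of_le (conjBy_le_iff.2 fun y hy => ?_))
  have h1 : ⁅z, y⁆ ∈ gam G (n - 2 + 1) := gam_comm (by omega) le_rfl hz (mem_top y)
  rw [show n - 2 + 1 = n - 1 by omega, ← hA.center_eq] at h1
  have h2 := mul_mem (mem_inf.1 (hE.center_le hA h1)).1 hy
  rwa [commutatorElement_def, inv_mul_cancel_right] at h2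

/-- `E` is not contained in the derived subgroup. -/
theorem Cubic.not_le_gam : ¬ E ≤ gam G 2 := by
  intro hle
  have hp := (Fact.out : p.Prime)
  have h5 := hA.five
  have hlt : E < gam G 2 := lt_of_le_of_ne hle fun e => by
    have h := hE.normalizer_lt hA
    rw [e, normalizer_eq_top] at h
    exact lt_irrefl _ h
  have hlt2 := CfsgLib.Subnormalizer.lt_inf_normalizer (hA.isP.to_subgroup (gam G 2)) hlt
  have hN : normalizer (E : Set G) ≤ gam G 2 := by
    have h1 := mul_card_le hA.isP hlt2
    rw [hE.card, ← pow_succ'] at h1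
    exact (eq_of_le_of_card_ge inf_le_right (hE.norm ▸ h1)).ge.trans inf_le_left
  have hZ2 : gam G (n - 2) ≤ cz E := fun z hz => hE.mem_cz hA (hE.gam_pred_le_normalizer hA hz)
    fun y hy => (hA.commute_of_gam (i := n - 2) (j := 2) (by omega) (by omega) (by omega) hz (hN hy)).symm
  have hZeq : gam G (n - 2) = cz E := eq_of_le_of_card_ge hZ2 (by
    rw [(hE.card_cz hA).1, hA.card_gam (by omega) (by omega), show n - (n - 2) = 2 by omega])
  have htop : normalizer ((cz E : Subgroup G) : Set G) = ⊤ := by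
    rw [← hZeq]; exact normalizer_eq_top _
  obtain ⟨e, he, hez⟩ := SetLike.exists_of_lt (hE.cz_lt hA)
  haveI : ((cz E).subgroupOf (⊤ : Subgroup G)).Normal :=
    (normal_subgroupOf_iff_le_normalizer le_top).2 htop.ge
  have hu := hE.uniform_quot hA (U := ⊤) le_top htop.ge (m := n - 2) (by omega)
    (by rw [card_top, hA.card]; congr 1; omega) he hez
  refine hu.notMem_gam ?_
  rw [← CfsgLib.MaxClassUniform.map_gam (hA.isP.to_subgroup ⊤) ((cz E).subgroupOf (⊤ : Subgroup G)) 2]
  refine mem_map_of_mem _ ?_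
  have h2 : (gam (↥(⊤ : Subgroup G)) 2).map (⊤ : Subgroup G).subtype = gam G 2 := by
    rw [Subgroup.map_lowerCentralSeries, ← MonoidHom.range_eq_map, range_subtype]
  have h3 : e ∈ (gam (↥(⊤ : Subgroup G)) 2).map (⊤ : Subgroup G).subtype := h2.symm ▸ hle he
  obtain ⟨w, hw, hwe⟩ := h3
  exact (Subtype.ext hwe : w = ⟨e, mem_top e⟩) ▸ hw

/-- `cz E` lies in the derived subgroup. -/
theorem Cubic.cz_le_gam : cz E ≤ gam G 2 := by
  have hp := (Fact.out : p.Prime)
  have h5 := hA.five
  by_contra hcon
  set W := E ⊓ gam G 2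
  have hEtop : E ≠ ⊤ := fun e => by
    have h := hE.normalizer_lt hA
    rw [e, normalizer_eq_top] at h
    exact lt_irrefl _ h
  have hW : p ^ 2 ≤ Nat.card W := by
    have h1 := card_inf_of_index hA.isP (le_sup_right : gam G 2 ≤ E ⊔ gam G 2)
      (le_sup_left : E ≤ E ⊔ gam G 2) ((hA.card_sup_gam hEtop).trans (by
        rw [hA.card_gam le_rfl (by omega), ← pow_succ']
        exact Nat.pow_le_pow_right hp.pos (by omega)))
      (hE.not_le_gam hA) (by rw [normalizer_eq_top]; exact le_top)
    rw [hE.card, inf_comm, show p ^ 3 = p * p ^ 2 by rw [← pow_succ']] at h1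
    exact (Nat.eq_of_mul_eq_mul_left hp.pos h1).ge
  obtain ⟨f, hf, hfg⟩ := SetLike.not_le_iff_exists.1 hcon
  have hEW : E = W ⊔ zpowers f := eq_sup_zpowers hA.isP inf_le_left
    (by rw [hE.card, show p ^ 3 = p * p ^ 2 by rw [← pow_succ']]; exact Nat.mul_le_mul_left _ hW)
    (mem_inf.1 hf).1 fun h => hfg (mem_inf.1 h).2
  set P := centralizer ((gam G (n - 2) : Subgroup G) : Set G)
  have hgP : gam G 2 ≤ P := fun y hy => mem_centralizer_iff.2 fun z hz =>
    hA.commute_of_gam (i := n - 2) (j := 2) (by omega) (by omega) (by omega) hz hy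
  have hfP : f ∈ P := mem_centralizer_iff.2 fun z hz =>
    mem_centralizer_iff.1 (mem_inf.1 hf).2 z (hE.gam_pred_le_normalizer hA hz)
  have hEP : E ≤ P := hEW ▸ sup_le (inf_le_right.trans hgP) (zpowers_le.2 hfP)
  have hEP' : E < P := lt_of_le_of_ne hEP fun e =>
    hE.not_le_gam hA (by
      have : gam G 2 ≤ E := hgP.trans e.ge
      refine le_of_eq (eq_of_le_of_card_ge this ?_).symm
      rw [hE.card, hA.card_gam le_rfl (by omega)]
      exact Nat.pow_le_pow_right hp.pos (by omega))
  have hlt2 := CfsgLib.Subnormalizer.lt_inf_normalizer (hA.isP.to_subgroup P) hEP'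
  have hN : normalizer (E : Set G) ≤ P := by
    have h1 := mul_card_le hA.isP hlt2
    rw [hE.card, ← pow_succ'] at h1
    exact (eq_of_le_of_card_ge inf_le_right (hE.norm ▸ h1)).ge.trans inf_le_left
  have hZ2 : gam G (n - 2) ≤ cz E := fun z hz => hE.mem_cz hA (hE.gam_pred_le_normalizer hA hz)
    fun y hy => (mem_centralizer_iff.1 (hN hy) z hz).symm
  have hZeq : gam G (n - 2) = cz E := eq_of_le_of_card_ge hZ2 (by
    rw [(hE.card_cz hA).1, hA.card_gam (by omega) (by omega), show n - (n - 2) = 2 by omega])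
  exact hcon (hZeq ▸ gam_anti (by omega))

/-- The order of the ambient group is at most `p ^ (p + 1)`. -/
theorem Cubic.le_succ : n ≤ p + 1 := by
  by_contra hn
  have hp := (Fact.out : p.Prime)
  obtain ⟨e, he, heg⟩ := SetLike.not_le_iff_exists.1 (hE.not_le_gam hA)
  have h1 := (hA.uniform_of_pow (by omega) heg (hE.exp e he)).cent
  have h2 : E ≤ centralizer ({e} : Set G) := fun y hy =>
    mem_centralizer_singleton_iff.2 (hE.comm y hy e he)
  have h3 := card_le_of_le h2
  rw [hE.card, h1] at h3
  have := (Nat.pow_le_pow_iff_right hp.one_lt).1 h3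
  omega

end CubicFacts

end CfsgLib.MaxClassCube
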