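import Cfsg.Agent.Lib.PGroup.MaxClassShift
import Cfsg.Agent.Lib.Coprime.Solvable

/-!
# 3-groups with an element of order 3 whose centralizer has order 9

From order `3⁵` on every subgroup is generated by two elements; in order `81` this holds unless
a subgroup of order `9` has trivial core.
-/

set_option autoImplicit false
set_option linter.style.haveILetI false
set_option linter.unusedSectionVars false

open Subgroup
open scoped commutatorElement

namespace CfsgLib.MaxClassShift

universe u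

variable {G : Type u} [Group G] {n : ℕ} {x : G} [Finite G] [hf3 : Fact (Nat.Prime 3)]

/-- The elements centralizing `γ₂ / γ₄`. -/
def twoStep (G : Type u) [Group G] : Subgroup G where
  carrier := {g | ∀ v ∈ gam G 2, ⁅g, v⁆ ∈ gam G 4}
  one_mem' := fun v _ => by rw [commutatorElement_one_left]; exact one_mem _
  mul_mem' := fun {a b} ha hb v hv => by
    rw [show ⁅a * b, v⁆ = a * ⁅b, v⁆ * a⁻¹ * ⁅a, v⁆ by simp only [commutatorElement_def]; group]
    exact mul_mem ((inferInstance : (gam G 4).Normal).conj_mem _ (hb v hv) a) (ha v hv)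
  inv_mem' := fun {a} ha v hv => by
    rw [show ⁅a⁻¹, v⁆ = a⁻¹ * ⁅a, v⁆⁻¹ * a⁻¹⁻¹ by simp only [commutatorElement_def]; group]
    exact (inferInstance : (gam G 4).Normal).conj_mem _ (inv_mem (ha v hv)) a⁻¹

theorem mem_twoStep {g : G} : g ∈ twoStep G ↔ ∀ v ∈ gam G 2, ⁅g, v⁆ ∈ gam G 4 := Iff.rfl

theorem gam_le_twoStep : gam G 2 ≤ twoStep G := fun _ hg _ hv =>
  gam_comm (a := 2) (b := 2) (by omega) (by omega) hg hv

theorem quot_eq_one {k : ℕ} {g : G} (hg : g ∈ gam G k) : QuotientGroup.mk' (gam G k) g = 1 :=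
  (QuotientGroup.eq_one_iff g).2 hg

theorem quot_commute {k : ℕ} {a b : G} (h : ⁅a, b⁆ ∈ gam G k) :
    Commute (QuotientGroup.mk' (gam G k) a) (QuotientGroup.mk' (gam G k) b) := by
  rw [← commutatorElement_eq_one_iff_commute, ← map_commutatorElement]
  exact quot_eq_one h

theorem mem_of_quot {k : ℕ} {g : G} (h : QuotientGroup.mk' (gam G k) g = 1) : g ∈ gam G k :=
  (QuotientGroup.eq_one_iff g).1 h

variable (h : Small x 3 n)
include h

theorem Small.exists_layer {k : ℕ} (h2 : 2 ≤ k) (hk : k < n) :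
    ∃ v ∈ gam G k, v ∉ gam G (k + 1) := by
  refine SetLike.exists_of_lt (lt_of_le_of_ne (gam_anti (Nat.le_succ k)) fun e => ?_)
  have h1 := h.card_gam h2 hk.le
  rw [← e, h.card_gam (k := k + 1) (by omega) hk] at h1
  have := Nat.pow_right_injective (show 2 ≤ 3 by norm_num) h1
  omega

theorem Small.layer_gen {k : ℕ} (h2 : 2 ≤ k) (hk : k < n) {v : G} (hv : v ∈ gam G k)
    (hv' : v ∉ gam G (k + 1)) {y : G} (hy : y ∈ gam G k) :
    ∃ j : ℤ, (v ^ j)⁻¹ * y ∈ gam G (k + 1) := by
  set L := (gam G (k + 1)).subgroupOf (gam G k)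
  haveI : L.Normal := inferInstance
  have hL : Nat.card (gam G k ⧸ L) = 3 := by
    have e1 := L.card_mul_index
    rw [Nat.card_congr (subgroupOfEquivOfLe (gam_anti (Nat.le_succ k))).toEquiv,
      h.card_gam (k := k + 1) (by omega) hk, h.card_gam h2 hk.le,
      show n - k = n - (k + 1) + 1 by omega, pow_succ, index_eq_card] at e1
    exact Nat.eq_of_mul_eq_mul_left (pow_pos (by norm_num) _) e1
  obtain ⟨j, hj⟩ := mem_zpowers_iff.1 (mem_zpowers_of_prime_card hL
    (g := QuotientGroup.mk' L ⟨v, hv⟩)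
    (fun e1 => hv' (mem_subgroupOf.1 ((QuotientGroup.eq_one_iff _).1 e1)))
    (g' := QuotientGroup.mk' L ⟨y, hy⟩))
  rw [← map_zpow, QuotientGroup.mk'_apply, QuotientGroup.mk'_apply, QuotientGroup.eq,
    mem_subgroupOf] at hj
  simp only [Subgroup.coe_mul, Subgroup.coe_inv, Subgroup.coe_zpow] at hj
  exact ⟨j, hj⟩

theorem Small.comm_x {k : ℕ} (h2 : 2 ≤ k) (hk : k + 2 ≤ n) {v : G} (hv : v ∈ gam G k)
    (hv' : v ∉ gam G (k + 1)) : ⁅x, v⁆ ∉ gam G (k + 2) := fun hc => by
  refine hv' (inv_mem_iff.1 (h.mem_of_comm h2 hk (inv_mem hv) ?_))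
  rw [inv_inv, ← commutatorElement_inv]
  exact inv_mem hc

theorem Small.x_notMem (h4 : 4 ≤ n) : x ∉ twoStep G := fun hx => by
  obtain ⟨v, hv, hv'⟩ := h.exists_layer (k := 2) le_rfl (by omega)
  exact h.comm_x le_rfl h4 hv hv' (hx v hv)

theorem Small.exists_mul_mem (h4 : 4 ≤ n) (g : G) :
    ∃ j : ℤ, g * x ^ j ∈ twoStep G := by
  obtain ⟨v, hv, hv'⟩ := h.exists_layer (k := 2) le_rfl (by omega)
  have hc : ∀ y : G, ⁅y, v⁆ ∈ gam G 3 := fun y => gam_comm (a := 1) (b := 2) le_rfl (by omega)
    (mem_top y) hv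
  obtain ⟨j, hj⟩ := h.layer_gen (k := 3) (by omega) (by omega) (hc x)
    (h.comm_x le_rfl h4 hv hv') (hc g)
  refine ⟨-j, mem_twoStep.2 fun w hw => ?_⟩
  set q := QuotientGroup.mk' (gam G 4)
  have hcen : ∀ (y z : G), y ∈ gam G 3 → Commute (q y) (q z) := fun y z hy =>
    quot_commute (gam_comm (a := 3) (b := 1) (by omega) le_rfl hy (mem_top z))
  -- `y ↦ [y, v]` is multiplicative modulo `γ₄`
  let φ : G →* G ⧸ gam G 4 := MonoidHom.mk' (fun y => q ⁅y, v⁆) fun a b => by
    rw [show ⁅a * b, v⁆ = a * ⁅b, v⁆ * a⁻¹ * ⁅a, v⁆ by simp only [commutatorElement_def]; group,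
      map_mul, map_mul, map_mul, map_inv, ← (hcen _ a (hc b)).eq, mul_inv_cancel_right]
    exact hcen _ _ (hc b)
  have h1 : φ (g * x ^ (-j)) = 1 := by
    have e : q ((⁅x, v⁆ ^ j)⁻¹ * ⁅g, v⁆) = 1 := quot_eq_one hj
    rw [map_mul, map_inv, map_zpow] at e
    rw [map_mul, map_zpow, zpow_neg]
    show q ⁅g, v⁆ * (q ⁅x, v⁆ ^ j)⁻¹ = 1
    rw [← inv_mul_eq_one.1 e, mul_inv_cancel]
  obtain ⟨i, hi⟩ := h.layer_gen le_rfl (by omega) hv hv' hw
  rw [show w = v ^ i * ((v ^ i)⁻¹ * w) by group]
  set a := g * x ^ (-j)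
  have hav : Commute (q a) (q v) := by
    rw [← commutatorElement_eq_one_iff_commute, ← map_commutatorElement]
    exact h1
  refine mem_of_quot ?_
  rw [map_commutatorElement, commutatorElement_eq_one_iff_commute, map_mul, map_zpow]
  exact (hav.zpow_right i).mul_right
    (quot_commute (gam_comm (a := 1) (b := 3) le_rfl (by omega) (mem_top a) hi))

theorem Small.gam_two_comm {a b : G} (ha : a ∈ gam G 2) (hb : b ∈ gam G 2) :
    ⁅a, b⁆ ∈ gam G 5 := by
  by_cases h2 : n ≤ 2
  · rw [h.gam_eq_bot h2, mem_bot] at ha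
    subst ha
    rw [commutatorElement_one_left]
    exact one_mem _
  obtain ⟨v, hv, hv'⟩ := h.exists_layer (k := 2) le_rfl (by omega)
  obtain ⟨i, hi⟩ := h.layer_gen le_rfl (by omega) hv hv' ha
  obtain ⟨j, hj⟩ := h.layer_gen le_rfl (by omega) hv hv' hb
  refine mem_of_quot ?_
  rw [map_commutatorElement, commutatorElement_eq_one_iff_commute,
    show a = v ^ i * ((v ^ i)⁻¹ * a) by group, show b = v ^ j * ((v ^ j)⁻¹ * b) by group,
    map_mul _ (v ^ i), map_mul _ (v ^ j), map_zpow, map_zpow]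
  have h23 : ∀ c d : G, c ∈ gam G 2 → d ∈ gam G 3 →
      Commute (QuotientGroup.mk' (gam G 5) c) (QuotientGroup.mk' (gam G 5) d) := fun c d hc hd =>
    quot_commute (gam_comm (a := 2) (b := 3) (by omega) (by omega) hc hd)
  refine Commute.mul_left ((Commute.zpow_zpow (Commute.refl _) i j).mul_right ?_)
    (Commute.mul_right ?_ ?_)
  · rw [← map_zpow]
    exact h23 _ _ (zpow_mem hv i) hj
  · rw [← map_zpow]
    exact (h23 _ _ (zpow_mem hv j) hi).symm
  · exact h23 _ _ (gam_anti (show 2 ≤ 3 by omega) hi) hj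

/-- `twoStep G` moves every layer two steps down. -/
theorem Small.twoStep_comm : ∀ k, 2 ≤ k → ∀ b ∈ twoStep G, ∀ v ∈ gam G k,
    ⁅b, v⁆ ∈ gam G (k + 2) := by
  intro k
  induction k using Nat.strong_induction_on with
  | _ k ih =>
  intro h2 b hb v hv
  rcases (show k = 2 ∨ k = 3 ∨ 4 ≤ k by omega) with rfl | rfl | h4
  · exact hb v hv
  · haveI : (gam G 5).Normal := gam_normal 5
    have h1 : ⁅⁅gam G 2, (⊤ : Subgroup G)⁆, twoStep G⁆ ≤ gam G 5 := by
      refine CfsgLib.PGroup.commutator_commutator_le_of_rotate_normal ?_ ?_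
      · refine (commutator_mono (show ⁅(⊤ : Subgroup G), twoStep G⁆ ≤ gam G 2 from
          commutator_le.2 fun a _ c _ => gam_comm (a := 1) (b := 1) le_rfl le_rfl (mem_top a)
            (mem_top c)) le_rfl).trans ?_
        exact commutator_le.2 fun a ha c hc => h.gam_two_comm ha hc
      · refine (commutator_mono (show ⁅twoStep G, gam G 2⁆ ≤ gam G 4 from
          commutator_le.2 fun a ha c hc => ha c hc) le_rfl).trans ?_
        exact commutator_le.2 fun a ha c _ => gam_comm (a := 4) (b := 1) (by omega) le_rfl ha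
          (mem_top c)
    have h3 : gam G 3 = ⁅gam G 2, (⊤ : Subgroup G)⁆ := rfl
    rw [← h3] at h1
    rw [← commutatorElement_inv]
    exact inv_mem (h1 (commutator_mem_commutator hv hb))
  by_cases hkn : n ≤ k
  · rw [h.gam_eq_bot hkn, mem_bot] at hv
    subst hv
    rw [commutatorElement_one_right]
    exact one_mem _
  obtain ⟨w, hw, hw'⟩ := h.exists_layer (k := k - 2) (by omega) (by omega)
  obtain ⟨hc1, hc2⟩ := h.pow_shift n (k - 2) (by omega) (by omega) w hw
  rw [show k - 2 + 3 - 1 = k by omega] at hc1 hc2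
  have hgen : w ^ 3 ∉ gam G (k + 1) := by
    have := hc2 hw' (by omega)
    rwa [show k - 2 + 3 = k + 1 by omega] at this
  obtain ⟨j, hj⟩ := h.layer_gen h2 (by omega) hc1 hgen hv
  have hu : ⁅b, w⁆ ∈ gam G k := by
    have := ih (k - 2) (by omega) (by omega) b hb w hw
    rwa [show k - 2 + 2 = k by omega] at this
  set q := QuotientGroup.mk' (gam G (k + 2))
  have huw : Commute (q ⁅b, w⁆) (q w) := quot_commute
    (gam_anti (show k + 2 ≤ k + (k - 2) by omega)
      (gam_comm (a := k) (b := k - 2) (by omega) (by omega) hu hw))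
  have hu3 : q ⁅b, w⁆ ^ 3 = 1 := by
    rw [← map_pow]
    refine quot_eq_one ?_
    have := (h.pow_shift n k h2 (by omega) _ hu).1
    rwa [show k + 3 - 1 = k + 2 by omega] at this
  refine mem_of_quot ?_
  rw [map_commutatorElement, commutatorElement_eq_one_iff_commute,
    show v = (w ^ 3) ^ j * (((w ^ 3) ^ j)⁻¹ * v) by group, map_mul, map_zpow]
  refine (Commute.zpow_right ?_ j).mul_right
    (quot_commute (gam_anti (show k + 2 ≤ 1 + (k + 1) by omega)
      (gam_comm (a := 1) (b := k + 1) le_rfl (by omega) (mem_top b) hj)))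
  show q b * q (w ^ 3) = q (w ^ 3) * q b
  have e : q b * q w * (q b)⁻¹ = q ⁅b, w⁆ * q w := by
    rw [← map_inv, ← map_mul, ← map_mul, ← map_mul, commutatorElement_def]
    congr 1
    group
  rw [map_pow, ← mul_inv_eq_iff_eq_mul, ← conj_pow, e, huw.mul_pow, hu3, one_mul]

theorem Small.comm_notMem {g : G} (hg : g ∉ twoStep G) {k : ℕ} (h2 : 2 ≤ k) (hk : k + 2 ≤ n)
    {v : G} (hv : v ∈ gam G k) (hv' : v ∉ gam G (k + 1)) : ⁅g, v⁆ ∉ gam G (k + 2) := by
  obtain ⟨j, hj⟩ := h.exists_mul_mem (by omega) g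
  intro hc
  set q := QuotientGroup.mk' (gam G (k + 2))
  have hb : Commute (q (g * x ^ j)) (q v) := quot_commute (h.twoStep_comm k h2 _ hj v hv)
  have hgq : Commute (q g) (q v) := quot_commute hc
  have hxj : Commute (q x ^ j) (q v) := by
    have := (hgq.inv_left).mul_left hb
    rwa [← map_inv, ← map_mul, inv_mul_cancel_left, map_zpow] at this
  have hj3 : ¬ (3 : ℤ) ∣ j := by
    rintro ⟨c, rfl⟩
    rw [zpow_mul, zpow_ofNat, h.pow, one_zpow, mul_one] at hj
    exact hg hj
  have hqx : Commute (q x) (q v) := by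
    have hq3 : q x ^ (3 : ℤ) = 1 := by rw [zpow_ofNat, ← map_pow, h.pow, map_one]
    obtain ⟨s, t, hst⟩ : ∃ s t : ℤ, j * s + 3 * t = 1 := by
      rcases (show j % 3 = 1 ∨ j % 3 = 2 by omega) with e | e
      · exact ⟨1, -(j / 3), by omega⟩
      · exact ⟨-1, j / 3 + 1, by omega⟩
    have := hxj.zpow_left s
    rwa [← zpow_mul, show j * s = 1 - 3 * t by omega, zpow_sub, zpow_one, zpow_mul, hq3,
      one_zpow, inv_one, mul_one] at this
  refine h.comm_x h2 hk hv hv' (mem_of_quot ?_)
  rw [map_commutatorElement, commutatorElement_eq_one_iff_commute]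
  exact hqx

/-- The cube of an element of `twoStep G` outside `γ₂`. -/
theorem Small.pow_three {b : G} (h4 : 4 ≤ n) (hb : b ∈ twoStep G) (hb' : b ∉ gam G 2) :
    b ^ 3 ∈ gam G 3 ∧ (5 ≤ n → b ^ 3 ∉ gam G 4) := by
  set c := ⁅x, b⁆
  have hc2 : c ∈ gam G 2 := gam_comm (a := 1) (b := 1) le_rfl le_rfl (mem_top x) (mem_top b)
  have hcb : ⁅c, b⁆ ∈ gam G 4 := by
    rw [← commutatorElement_inv]
    exact inv_mem (hb c hc2)
  have hxb : x * b * x⁻¹ = c * b := by rw [show c = x * b * x⁻¹ * b⁻¹ from rfl, inv_mul_cancel_right]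
  -- `x` and `b` generate
  have hgen : closure ({x, b} : Set G) = ⊤ := by
    haveI := gam_normal (G := G) 2
    refine frattini_nongenerating (top_unique ?_)
    refine le_trans ?_ (sup_le_sup_left (show gam G 2 ≤ frattini G from fun y hy =>
      CfsgLib.Coprime.commutator_le_frattini h.isPGroup (by
        rw [← Subgroup.top_lowerCentralSeries_one]; exact hy)) _)
    set L := gam G 2 ⊔ zpowers b
    set K := closure ({x, b} : Set G) ⊔ gam G 2
    have hLK : L ≤ K := sup_le le_sup_right
      ((zpowers_le.2 (subset_closure (by simp))).trans le_sup_left)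
    have hL1 : gam G 2 < L :=
      lt_of_le_of_ne le_sup_left fun e => hb' (e.ge (mem_sup_right (mem_zpowers b)))
    have hK1 : L < K := lt_of_le_of_ne hLK fun e => h.x_notMem h4
      ((sup_le gam_le_twoStep (zpowers_le.2 hb)) (e.ge (mem_sup_left (subset_closure (by simp)))))
    have c1 := CfsgLib.PGroup.mul_index_le_of_lt h.isPGroup hL1
    have c2 := CfsgLib.PGroup.mul_index_le_of_lt h.isPGroup hK1
    rw [h.index_gam (k := 2) le_rfl (by omega)] at c1
    have hKpos : 0 < K.index := Nat.pos_of_ne_zero index_ne_zero_of_finite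
    have hK : K.index = 1 := by
      norm_num at c1
      omega
    exact (index_eq_one.1 hK).ge
  have hc3 : c ∉ gam G 3 := by
    intro hc
    have hcom : ∀ y z : G, Commute (QuotientGroup.mk' (gam G 3) y) (QuotientGroup.mk' (gam G 3) z) := by
      have hxy := quot_commute hc
      have hle : closure ({x, b} : Set G) ≤
          (centralizer {QuotientGroup.mk' (gam G 3) x, QuotientGroup.mk' (gam G 3) b}).comap
            (QuotientGroup.mk' (gam G 3)) := by
        refine (closure_le _).2 fun y hy => mem_centralizer_iff.2 fun w hw => ?_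
        rcases hy with rfl | rfl <;> rcases hw with rfl | rfl
        exacts [rfl, hxy.symm.eq, hxy.eq, rfl]
      intro y z
      have hle2 : closure ({x, b} : Set G) ≤
          (centralizer {QuotientGroup.mk' (gam G 3) y}).comap (QuotientGroup.mk' (gam G 3)) := by
        refine (closure_le _).2 fun w hw => mem_centralizer_iff.2 fun u hu => ?_
        rw [Set.mem_singleton_iff.1 hu]
        have hy := mem_centralizer_iff.1 (hle (hgen ▸ mem_top y))
        rcases hw with rfl | rfl
        · exact (hy _ (Or.inl rfl)).symm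
        · exact (hy _ (Or.inr rfl)).symm
      exact mem_centralizer_iff.1 (hle2 (hgen ▸ mem_top z)) _ rfl
    have hle : gam G 2 ≤ gam G 3 := by
      show ⁅(⊤ : Subgroup G).lowerCentralSeries 0, (⊤ : Subgroup G)⁆ ≤ gam G 3
      refine commutator_le.2 fun y _ z _ => mem_of_quot ?_
      rw [map_commutatorElement, commutatorElement_eq_one_iff_commute]
      exact hcom y z
    obtain ⟨v, hv, hv'⟩ := h.exists_layer (k := 2) le_rfl (by omega)
    exact hv' (hle hv)
  obtain ⟨hc31, hc32⟩ := h.pow_shift n 2 le_rfl (by omega) c hc2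
  have hb2 : b ^ 3 ∈ gam G 2 := by
    refine mem_of_quot ?_
    rw [map_pow]
    have hq : Nat.card (G ⧸ gam G 2) = 3 ^ 2 :=
      (index_eq_card _).symm.trans (h.index_gam le_rfl (by omega))
    by_contra hne
    obtain ⟨i, hi2, hi⟩ := (Nat.dvd_prime_pow (Fact.out : Nat.Prime 3)).1
      (hq ▸ orderOf_dvd_natCard (QuotientGroup.mk' (gam G 2) b))
    have hi' : i = 2 := by
      by_contra hi0
      refine hne (orderOf_dvd_iff_pow_eq_one.1 ?_)
      rw [hi]
      exact Nat.pow_dvd_pow 3 (show i ≤ 1 by omega)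
    have htop : zpowers (QuotientGroup.mk' (gam G 2) b) = ⊤ :=
      eq_top_of_card_eq _ (by rw [Nat.card_zpowers, hi, hi', hq])
    have hx : QuotientGroup.mk' (gam G 2) x ∈ zpowers (QuotientGroup.mk' (gam G 2) b) :=
      htop ▸ mem_top _
    obtain ⟨k, hk⟩ := mem_zpowers_iff.1 hx
    rw [← map_zpow, QuotientGroup.mk'_apply, QuotientGroup.mk'_apply, QuotientGroup.eq] at hk
    have hx' := mul_mem (zpow_mem hb k) (gam_le_twoStep hk)
    rw [mul_inv_cancel_left] at hx'
    exact h.x_notMem h4 hx'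
  have hb3 : b ^ 3 ∈ gam G 3 := by
    set q := QuotientGroup.mk' (gam G 4)
    have e : ⁅x, b ^ 3⁆ ∈ gam G 4 := by
      refine mem_of_quot ?_
      have e1 : q (x * b ^ 3 * x⁻¹) = q (b ^ 3) := by
        rw [← conj_pow, hxb, map_pow, map_mul, (quot_commute hcb).mul_pow, ← map_pow, ← map_pow,
          quot_eq_one (show c ^ 3 ∈ gam G 4 from hc31), one_mul]
      rw [commutatorElement_def, map_mul, e1, ← map_mul, mul_inv_cancel, map_one]
    by_contra hb3
    exact h.comm_x le_rfl h4 hb2 hb3 e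
  refine ⟨hb3, fun h5 hb4 => ?_⟩
  set q := QuotientGroup.mk' (gam G 5)
  set w := ⁅b, c⁆
  have hw : w ∈ gam G 4 := hb c hc2
  have hwc : ∀ y : G, Commute (q w) (q y) := fun y =>
    quot_commute (gam_comm (a := 4) (b := 1) (by omega) le_rfl hw (mem_top y))
  have hw3 : q w ^ 3 = 1 := by
    rw [← map_pow]
    have := (h.pow_shift n 4 (by omega) (by omega) _ hw).1
    exact quot_eq_one (gam_anti (show 5 ≤ 4 + 3 - 1 by omega) this)
  have hbc : q b * q c = q w * (q c * q b) := by
    rw [← map_mul, ← map_mul, ← map_mul]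
    congr 1
    simp only [w, commutatorElement_def]
    group
  have e1 : (q c * q b) ^ 3 = q c ^ 3 * q b ^ 3 := by
    have hA : q c * q b * (q c * q b) * (q c * q b) = q c * (q b * q c) * (q b * q c) * q b := by
      group
    rw [pow_three', hA, hbc]
    have hB : q c * (q w * (q c * q b)) * (q w * (q c * q b)) * q b =
        q w ^ 2 * (q c * q c * (q b * q c) * q b * q b) := by
      rw [← mul_assoc (q c) (q w), ← (hwc c).eq]
      calc q w * q c * (q c * q b) * (q w * (q c * q b)) * q b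
          = q w * (q c * q c * q b * q w) * (q c * q b) * q b := by group
        _ = q w * (q w * (q c * q c * q b)) * (q c * q b) * q b := by
          rw [show q c * q c * q b * q w = q w * (q c * q c * q b) from
            ((((hwc c).mul_right (hwc c)).mul_right (hwc b))).symm.eq]
        _ = q w ^ 2 * (q c * q c * (q b * q c) * q b * q b) := by
          simp only [pow_succ, pow_zero, one_mul, mul_assoc]
    rw [hB, hbc]
    calc q w ^ 2 * (q c * q c * (q w * (q c * q b)) * q b * q b)
        = q w ^ 2 * (q c * q c * q w) * (q c * q b * q b * q b) := by group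
      _ = q w ^ 2 * (q w * (q c * q c)) * (q c * q b * q b * q b) := by
        rw [show q c * q c * q w = q w * (q c * q c) from (((hwc c).mul_right (hwc c))).symm.eq]
      _ = q w ^ 3 * (q c ^ 3 * q b ^ 3) := by
        simp only [pow_succ, pow_zero, one_mul, mul_assoc]
      _ = q c ^ 3 * q b ^ 3 := by rw [hw3, one_mul]
  have e2 : q (x * b ^ 3 * x⁻¹) = q (b ^ 3) := by
    rw [map_mul, map_mul, map_inv, (quot_commute (gam_comm (a := 1) (b := 4) le_rfl (by omega)
      (mem_top x) hb4) : Commute (q x) (q (b ^ 3))).eq, mul_inv_cancel_right]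
  rw [← conj_pow, hxb, map_pow, map_mul, e1, map_pow, mul_eq_right, ← map_pow] at e2
  exact hc32 hc3 (by omega) (mem_of_quot e2)

/-- A subgroup with an element in each layer of `H` contains `H ⊓ γ₂`. -/
theorem Small.le_of_layers {H K : Subgroup G} (hKH : K ≤ H)
    (hlayer : ∀ k, 2 ≤ k → k < n → ∀ y ∈ H, y ∈ gam G k → y ∉ gam G (k + 1) →
      ∃ v ∈ K, v ∈ gam G k ∧ v ∉ gam G (k + 1)) : H ⊓ gam G 2 ≤ K := by
  suffices key : ∀ t k, 2 ≤ k → n ≤ k + t → H ⊓ gam G k ≤ K from key n 2 le_rfl (by omega)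
  intro t
  induction t with
  | zero =>
    intro k _ hk y hy
    have h1 : y ∈ gam G k := hy.2
    rw [h.gam_eq_bot (by omega), mem_bot] at h1
    subst h1
    exact one_mem K
  | succ t ih =>
    intro k h2 hk y hy
    by_cases hy1 : y ∈ gam G (k + 1)
    · exact ih (k + 1) (by omega) (by omega) (mem_inf.2 ⟨hy.1, hy1⟩)
    have hkn : k < n := by
      by_contra hkn
      have h1 : y ∈ gam G k := hy.2
      rw [h.gam_eq_bot (by omega), mem_bot] at h1
      exact hy1 (h1 ▸ one_mem _)
    obtain ⟨v, hvK, hv, hv'⟩ := hlayer k h2 hkn y hy.1 hy.2 hy1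
    obtain ⟨j, hj⟩ := h.layer_gen h2 hkn hv hv' hy.2
    have h1 := ih (k + 1) (by omega) (by omega)
      (mem_inf.2 ⟨mul_mem (inv_mem (zpow_mem (hKH hvK) j)) hy.1, hj⟩)
    have h3 := mul_mem (zpow_mem hvK j) h1
    rwa [mul_inv_cancel_left] at h3

theorem Small.pair_gen {H : Subgroup G} {a v : G} (ha : a ∈ H) (hv : v ∈ H)
    (hr : (gam G 2).relIndex H = 3) (ha' : a ∉ gam G 2)
    (hle : H ⊓ gam G 2 ≤ closure ({a, v} : Set G)) :
    ∃ T : Finset G, T.card ≤ 2 ∧ closure (T : Set G) = H := by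
  classical
  haveI := gam_normal (G := G) 2
  refine ⟨{a, v}, Finset.card_le_two, ?_⟩
  rw [Finset.coe_insert, Finset.coe_singleton]
  refine le_antisymm ((closure_le H).2 ?_) fun y hy => ?_
  · rintro z (rfl | rfl) <;> assumption
  · set L := (gam G 2).subgroupOf H
    have hL : Nat.card (H ⧸ L) = 3 := by rw [← index_eq_card]; exact hr
    obtain ⟨j, hj⟩ := mem_zpowers_iff.1 (mem_zpowers_of_prime_card hL
      (g := QuotientGroup.mk' L ⟨a, ha⟩)
      (fun e1 => ha' (mem_subgroupOf.1 ((QuotientGroup.eq_one_iff _).1 e1)))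
      (g' := QuotientGroup.mk' L ⟨y, hy⟩))
    rw [← map_zpow, QuotientGroup.mk'_apply, QuotientGroup.mk'_apply, QuotientGroup.eq,
      mem_subgroupOf] at hj
    simp only [Subgroup.coe_mul, Subgroup.coe_inv, Subgroup.coe_zpow] at hj
    have h1 : (a ^ j)⁻¹ * y ∈ closure ({a, v} : Set G) :=
      hle (mem_inf.2 ⟨mul_mem (inv_mem (zpow_mem ha j)) hy, hj⟩)
    have h2 : a ^ j ∈ closure ({a, v} : Set G) := zpow_mem (subset_closure (by simp)) j
    have h3 := mul_mem h2 h1
    rwa [mul_inv_cancel_left] at h3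

/-- A subgroup of order 9 with trivial core, from two commuting elements of order 3. -/
theorem Small.core_free_nine (hn : n = 4) {b v : G} (hb : b ∈ twoStep G) (hb' : b ∉ gam G 2)
    (hb3 : b ^ 3 = 1) (hv : v ∈ gam G 2) (hv' : v ∉ gam G 3) :
    ∃ K : Subgroup G, Nat.card K = 9 ∧ K.normalCore = ⊥ := by
  have h4 : gam G 4 = ⊥ := h.gam_eq_bot (by omega)
  have hcomm : Commute b v := by
    have h1 : ⁅b, v⁆ ∈ gam G 4 := hb v hv
    rw [h4, mem_bot] at h1
    exact commutatorElement_eq_one_iff_commute.1 h1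
  have hv3 : v ^ 3 = 1 := by
    have h1 := (h.pow_shift n 2 le_rfl (by omega) v hv).1
    rw [show 2 + 3 - 1 = 4 by omega, h4, mem_bot] at h1
    exact h1
  have hb1 : b ≠ 1 := fun e => hb' (e ▸ one_mem _)
  have hv1 : v ≠ 1 := fun e => hv' (e ▸ one_mem _)
  have hob : orderOf b = 3 := orderOf_eq_prime hb3 hb1
  have hov : orderOf v = 3 := orderOf_eq_prime hv3 hv1
  have hbn : zpowers b ≤ normalizer ((zpowers v : Subgroup G) : Set G) :=
    zpowers_le.2 (centralizer_le_normalizer _ (mem_centralizer_iff.2 fun w hw => by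
      obtain ⟨i, rfl⟩ := mem_zpowers_iff.1 hw
      exact (hcomm.symm.zpow_left i).eq))
  have hKmem : ∀ y ∈ zpowers b ⊔ zpowers v, ∃ i j : ℤ, y = b ^ i * v ^ j := fun y hy => by
    have hy' : y ∈ ((zpowers b ⊔ zpowers v : Subgroup G) : Set G) := hy
    rw [coe_mul_of_left_le_normalizer_right (zpowers b) (zpowers v) hbn] at hy'
    obtain ⟨s, hs, t, ht, he : s * t = y⟩ := Set.mem_mul.1 hy'
    obtain ⟨i, rfl⟩ := mem_zpowers_iff.1 hs
    obtain ⟨j, rfl⟩ := mem_zpowers_iff.1 ht
    exact ⟨i, j, he.symm⟩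
  have hdb : ∀ i : ℤ, b ^ i ∈ gam G 2 → b ^ i = 1 := fun i hi => by
    by_contra hne
    refine hb' (?_ : b ∈ gam G 2)
    have h1 : zpowers (b ^ i) = zpowers b := by
      refine eq_of_le_of_card_ge (zpowers_le.2 (zpow_mem (mem_zpowers b) i)) ?_
      rw [Nat.card_zpowers, Nat.card_zpowers, hob, orderOf_eq_prime (by
        rw [← zpow_natCast, ← zpow_mul, mul_comm, zpow_mul, zpow_natCast, hb3, one_zpow]) hne]
    exact (zpowers_le.2 hi) (h1.ge (mem_zpowers b))
  refine ⟨zpowers b ⊔ zpowers v, ?_, ?_⟩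
  · have hdisj : zpowers b ⊓ zpowers v = ⊥ := eq_bot_iff.2 fun y hy => by
      obtain ⟨i, rfl⟩ := mem_zpowers_iff.1 hy.1
      exact mem_bot.2 (hdb i (zpowers_le.2 hv hy.2))
    haveI : ((zpowers v).subgroupOf (zpowers b ⊔ zpowers v)).Normal := by
      rw [normal_subgroupOf_iff_le_normalizer le_sup_right]
      exact sup_le hbn le_normalizer
    have hr : (zpowers v).relIndex (zpowers b ⊔ zpowers v) = 3 := by
      have e : ((zpowers v).subgroupOf (zpowers b ⊔ zpowers v)).relIndex
          ((zpowers b).subgroupOf (zpowers b ⊔ zpowers v) ⊔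
            (zpowers v).subgroupOf (zpowers b ⊔ zpowers v)) = 3 := by
        rw [relIndex_sup_right, relIndex_subgroupOf le_sup_left, ← inf_relIndex_right, inf_comm,
          hdisj, relIndex_bot_left, Nat.card_zpowers, hob]
      rwa [← subgroupOf_sup le_sup_left le_sup_right, subgroupOf_self, relIndex_top_right] at e
    have e := relIndex_mul_relIndex ⊥ (zpowers v) (zpowers b ⊔ zpowers v) bot_le le_sup_right
    rw [relIndex_bot_left, relIndex_bot_left, Nat.card_zpowers, hov, hr] at e
    exact e.symm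
  · set N := (zpowers b ⊔ zpowers v).normalCore
    by_contra hN
    haveI : Nontrivial N := (nontrivial_iff_ne_bot N).2 hN
    haveI : N.Normal := normalCore_normal _
    haveI := h.isPGroup.isNilpotent
    have hne : N ⊓ center G ≠ ⊥ := CfsgLib.Coprime.nilpotent_inf_center_ne_bot N hN
    obtain ⟨z, hz, hz1⟩ := (ne_bot_iff_exists_ne_one).1 hne |> fun ⟨z, hz⟩ =>
      (⟨(z : G), z.2, fun e => hz (Subtype.ext e)⟩ : ∃ z : G, z ∈ N ⊓ center G ∧ z ≠ 1)
    -- it lies in `γ₃`
    have hz3 : z ∈ gam G 3 := by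
      have hzC : z ∈ centralizer ({x} : Set G) := mem_centralizer_iff.2 fun y hy => by
        rw [Set.mem_singleton_iff.1 hy]; exact mem_center_iff.1 hz.2 x
      obtain ⟨i, j, e⟩ := hKmem z (normalCore_le _ hz.1)
      have hzP : z ∈ twoStep G := e ▸ mul_mem (zpow_mem hb i) (zpow_mem (gam_le_twoStep hv) j)
      have hle : gam G 3 ≤ centralizer ({x} : Set G) ⊓ twoStep G := le_inf (by
        have := h.inf_centralizer
        rw [show n - 1 = 3 by omega] at this
        exact this ▸ inf_le_left) ((gam_anti (by omega)).trans gam_le_twoStep)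
      have heq := eq_of_le_of_card_ge hle (by
        rw [h.card_gam (k := 3) (by omega) (by omega), show n - 3 = 1 by omega, pow_one]
        obtain ⟨i, hi2, hi⟩ := (Nat.dvd_prime_pow (Fact.out : Nat.Prime 3)).1
          (h.cent ▸ card_dvd_of_le (inf_le_left : centralizer ({x} : Set G) ⊓ twoStep G ≤ _))
        rw [hi]
        have : i ≠ 2 := fun e2 => h.x_notMem (by omega) (by
          have hC := eq_of_le_of_card_ge (inf_le_left : centralizer ({x} : Set G) ⊓ twoStep G ≤ _)
            (by rw [hi, e2, h.cent])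
          exact (inf_eq_left.1 hC) (mem_centralizer_iff.2 fun y hy => by
            rw [Set.mem_singleton_iff.1 hy]))
        exact (Nat.pow_le_pow_right (by norm_num) (show i ≤ 1 by omega)).trans (pow_one 3).le)
      exact heq.ge (mem_inf.2 ⟨hzC, hzP⟩)
    obtain ⟨i, j, e⟩ := hKmem z (normalCore_le _ hz.1)
    have hi : b ^ i = 1 := hdb i (by
      rw [show b ^ i = z * (v ^ j)⁻¹ by rw [e, mul_inv_cancel_right]]
      exact mul_mem (gam_anti (by omega) hz3) (inv_mem (zpow_mem hv j)))
    rw [hi, one_mul] at e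
    refine hv' ?_
    have h1 : zpowers z = zpowers v := by
      refine eq_of_le_of_card_ge (zpowers_le.2 (e ▸ zpow_mem (mem_zpowers v) j)) ?_
      rw [Nat.card_zpowers, Nat.card_zpowers, hov, orderOf_eq_prime (by
        rw [e, ← zpow_natCast, ← zpow_mul, mul_comm, zpow_mul, zpow_natCast, hv3, one_zpow]) hz1]
    exact (zpowers_le.2 hz3) (h1.ge (mem_zpowers v))

/-- Every subgroup is generated by two elements, or a subgroup of order 9 has trivial core. -/
theorem Small.two_gen_or (h4 : 4 ≤ n) :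
    (∀ H : Subgroup G, ∃ T : Finset G, T.card ≤ 2 ∧ closure (T : Set G) = H) ∨
      (n = 4 ∧ ∃ K : Subgroup G, Nat.card K = 9 ∧ K.normalCore = ⊥) := by
  classical
  refine or_iff_not_imp_right.2 fun hW H => ?_
  push Not at hW
  haveI := gam_normal (G := G) 2
  by_cases hH : H ≤ gam G 2
  · exact h.exists_gen_le hH
  have hidx := h.index_gam (k := 2) le_rfl (by omega)
  obtain ⟨i, hi, hri⟩ := (Nat.dvd_prime_pow (Fact.out : Nat.Prime 3)).1
    (hidx ▸ relIndex_dvd_index_of_normal (gam G 2) H)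
  have hi0 : i ≠ 0 := fun e => hH (relIndex_eq_one.1 (by rw [hri, e, pow_zero]))
  obtain ⟨a, haH, ha⟩ := SetLike.not_le_iff_exists.1 hH
  rcases (show i = 1 ∨ i = 2 by omega) with rfl | rfl
  · rw [pow_one] at hri
    by_cases hex : ∃ k, 2 ≤ k ∧ k < n ∧ (Odd k → a ∉ twoStep G) ∧
        ∃ y ∈ H, y ∈ gam G k ∧ y ∉ gam G (k + 1)
    · set m := Nat.find hex
      obtain ⟨hm2, hmn, -, v, hvH, hv, hv'⟩ := Nat.find_spec hex
      refine h.pair_gen haH hvH hri ha (h.le_of_layers ((closure_le H).2 ?_) fun k hk hkn y hyH hy hy' => ?_)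
      · rintro z (rfl | rfl) <;> assumption
      have haK : a ∈ closure ({a, v} : Set G) := subset_closure (by simp)
      have hvK : v ∈ closure ({a, v} : Set G) := subset_closure (by simp)
      by_cases haP : a ∈ twoStep G
      · rcases Nat.even_or_odd k with hkev | hkodd
        · have hmk : m ≤ k := Nat.find_min' hex ⟨hk, hkn,
            fun ho => absurd hkev (Nat.not_even_iff_odd.2 ho), y, hyH, hy, hy'⟩
          have hmev : Even m := by
            by_contra hne
            exact (Nat.find_spec hex).2.2.1 (Nat.not_even_iff_odd.1 hne) haP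
          obtain ⟨d, rfl⟩ := hkev
          obtain ⟨c, hc⟩ := hmev
          have hmd : m ≤ d + d := hmk
          have hmc : m = c + c := hc
          have hP := h.pow_iterate hm2 hv hv' (d - c) (by omega)
          rw [show m + (d - c) * (3 - 1) = d + d by omega] at hP
          exact ⟨_, pow_mem hvK _, hP⟩
        · obtain ⟨d, rfl⟩ := hkodd
          obtain ⟨hb1, hb2⟩ := h.pow_three h4 haP ha
          have hb4 : a ^ 3 ∉ gam G 4 := by
            by_cases h5 : 5 ≤ n
            · exact hb2 h5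
            intro hmem
            rw [h.gam_eq_bot (by omega), mem_bot] at hmem
            -- then the second layer meets `H` in nothing new
            have hn4 : n = 4 := by omega
            obtain ⟨v₂, hv₂, hv₂'⟩ := h.exists_layer (k := 2) le_rfl (by omega)
            obtain ⟨K, hK9, hKc⟩ := h.core_free_nine hn4 haP ha hmem hv₂ hv₂'
            exact hW hn4 K hK9 hKc
          have hP := h.pow_iterate (k := 3) (by omega) hb1 hb4 (d - 1) (by omega)
          rw [show 3 + (d - 1) * (3 - 1) = 2 * d + 1 by omega] at hP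
          exact ⟨_, pow_mem (pow_mem haK _) _, hP⟩
      · have hmk : m ≤ k := Nat.find_min' hex ⟨hk, hkn, fun _ => haP, y, hyH, hy, hy'⟩
        have hit : ∀ t, m + t < n → (fun w => ⁅a, w⁆)^[t] v ∈ closure ({a, v} : Set G) ∧
            (fun w => ⁅a, w⁆)^[t] v ∈ gam G (m + t) ∧
            (fun w => ⁅a, w⁆)^[t] v ∉ gam G (m + t + 1) := by
          intro t
          induction t with
          | zero => exact fun _ => ⟨hvK, hv, hv'⟩
          | succ t ih =>
            intro ht
            rw [Function.iterate_succ_apply']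
            obtain ⟨h1, h2, h3⟩ := ih (by omega)
            refine ⟨?_, ?_, ?_⟩
            · rw [commutatorElement_def]
              exact mul_mem (mul_mem (mul_mem haK h1) (inv_mem haK)) (inv_mem h1)
            · have := gam_comm (a := 1) (b := m + t) le_rfl (by omega) (mem_top a) h2
              rwa [show 1 + (m + t) = m + (t + 1) by omega] at this
            · rw [show m + (t + 1) + 1 = m + t + 2 by ring]
              exact h.comm_notMem haP (k := m + t) (by omega) (by omega) h2 h3
        have hP := hit (k - m) (by omega)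
        rw [show m + (k - m) = k by omega] at hP
        exact ⟨_, hP.1, hP.2⟩
    · push Not at hex
      refine h.pair_gen haH haH hri ha (h.le_of_layers ((closure_le H).2 ?_) fun k hk hkn y hyH hy hy' => ?_)
      · rintro z (rfl | rfl) <;> assumption
      by_cases haP : a ∈ twoStep G
      · rcases Nat.even_or_odd k with hkev | hkodd
        · exact absurd (hex k hk hkn (fun ho => absurd hkev (Nat.not_even_iff_odd.2 ho)) y hyH hy) hy'
        · obtain ⟨d, rfl⟩ := hkodd
          obtain ⟨hb1, hb2⟩ := h.pow_three h4 haP ha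
          have hb4 : a ^ 3 ∉ gam G 4 := by
            by_cases h5 : 5 ≤ n
            · exact hb2 h5
            intro hmem
            rw [h.gam_eq_bot (by omega), mem_bot] at hmem
            have hn4 : n = 4 := by omega
            obtain ⟨v₂, hv₂, hv₂'⟩ := h.exists_layer (k := 2) le_rfl (by omega)
            obtain ⟨K, hK9, hKc⟩ := h.core_free_nine hn4 haP ha hmem hv₂ hv₂'
            exact hW hn4 K hK9 hKc
          have hP := h.pow_iterate (k := 3) (by omega) hb1 hb4 (d - 1) (by omega)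
          rw [show 3 + (d - 1) * (3 - 1) = 2 * d + 1 by omega] at hP
          exact ⟨_, pow_mem (pow_mem (subset_closure (Set.mem_insert a _)) _) _, hP⟩
      · exact absurd (hex k hk hkn (fun _ => haP) y hyH hy) hy'
  · have hQ : Nat.card (G ⧸ gam G 2) = 3 ^ 2 := (index_eq_card _).symm.trans hidx
    set q := QuotientGroup.mk' (gam G 2)
    obtain ⟨b', hb'⟩ := exists_pair_gen hQ le_rfl (q a)
      (Or.inl fun e1 => ha ((QuotientGroup.eq_one_iff _).1 e1))
    obtain ⟨b, rfl⟩ := QuotientGroup.mk'_surjective (gam G 2) b'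
    have hgen : ∀ K : Subgroup G, K.map q = ⊤ → K = ⊤ := fun K hK => by
      refine frattini_nongenerating (top_unique fun y _ => ?_)
      obtain ⟨w, hw, hwe⟩ : q y ∈ K.map q := hK ▸ mem_top _
      rw [← mul_inv_cancel_left w y]
      refine mul_mem_sup hw (CfsgLib.Coprime.commutator_le_frattini h.isPGroup ?_)
      have h1 : w⁻¹ * y ∈ gam G 2 := (QuotientGroup.eq).1 hwe
      rw [← Subgroup.top_lowerCentralSeries_one]
      exact h1
    have hH' : H = ⊤ := hgen H (eq_top_of_card_eq _ (by
      rw [← relIndex_ker, QuotientGroup.ker_mk', hri, hQ]))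
    refine ⟨{a, b}, Finset.card_le_two, ?_⟩
    rw [hH']
    refine hgen _ ?_
    rw [MonoidHom.map_closure, Finset.coe_insert, Finset.coe_singleton, Set.image_insert_eq,
      Set.image_singleton]
    exact hb'

end CfsgLib.MaxClassShift
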