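import Cfsg.Agent.Lib.PGroup.MaxClassRank
import Cfsg.Agent.Lib.PGroup.MaxClassShift
import Cfsg.Agent.Lib.PGroup.MaximalClassCenter

/-!
# Uniform elements of `p`-groups of maximal class

An element with centralizer of order `p²` makes the `p`-th power move the lower central series down
exactly `p - 1` steps; hence the two step centralizers are periodic, and such an element exists
outside every proper subgroup.
-/

set_option autoImplicit false
set_option linter.style.haveILetI false
set_option linter.unusedSectionVars false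

open Subgroup
open scoped commutatorElement

namespace CfsgLib.MaxClassUniform

open CfsgLib.PolySeq
open CfsgLib.MaxClassShift (gam gam_normal gam_anti gam_one gam_comm)

universe u

variable {G : Type u} [Group G] {p n : ℕ} {x : G}

/-- An element with centralizer of order `p²` in a group of order `p ^ n`. -/
structure Uniform (x : G) (p n : ℕ) : Prop where
  card : Nat.card G = p ^ n
  cent : Nat.card (centralizer ({x} : Set G)) = p ^ 2
  three : 3 ≤ n

variable [Finite G] [Fact p.Prime]

section

variable (h : Uniform x p n)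
include h

theorem Uniform.isPGroup : IsPGroup p G := IsPGroup.of_card h.card

theorem Uniform.class_eq : Group.nilpotencyClass G = n - 1 := by
  refine CfsgLib.PGroup.maximalClass_of_selfCentralizing n G h.card
    (centralizer ({x} : Set G)) h.cent ?_
  haveI : IsMulCommutative (centralizer ({x} : Set G)) :=
    IsPGroup.isMulCommutative_of_card_eq_prime_sq h.cent
  refine le_antisymm (centralizer_le (Set.singleton_subset_iff.2
    (mem_centralizer_iff.2 fun y hy => by rw [Set.mem_singleton_iff.1 hy]))) fun y hy => ?_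
  exact mem_centralizer_iff.2 fun z hz => congrArg Subtype.val
    (isMulCommutative_iff.1 ‹IsMulCommutative (centralizer ({x} : Set G))› ⟨z, hz⟩ ⟨y, hy⟩)

theorem Uniform.index_gam {k : ℕ} (h2 : 2 ≤ k) (hk : k ≤ n) : (gam G k).index = p ^ k := by
  have := CfsgLib.PGroup.index_lowerCentralSeries_of_maximal h.isPGroup h.card h.three h.class_eq
    (k - 1) (by omega) (by omega)
  rwa [show k - 1 + 1 = k by omega] at this

theorem Uniform.card_gam {k : ℕ} (h2 : 2 ≤ k) (hk : k ≤ n) : Nat.card (gam G k) = p ^ (n - k) := by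
  have e := (gam G k).card_mul_index
  rw [h.index_gam h2 hk, h.card, show p ^ n = p ^ (n - k) * p ^ k by
    rw [← pow_add]; congr 1; omega] at e
  exact Nat.eq_of_mul_eq_mul_right (pow_pos (Fact.out : p.Prime).pos k) e

theorem Uniform.gam_eq_bot {k : ℕ} (hk : n ≤ k) : gam G k = ⊥ := by
  refine le_bot_iff.1 ((gam_anti hk).trans (le_of_eq ?_))
  apply Subgroup.eq_bot_of_card_eq
  rw [h.card_gam (by have := h.three; omega) le_rfl, Nat.sub_self, pow_zero]

/-- Every element of `γ₂ x` is a conjugate of `x`. -/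
theorem Uniform.exists_conj {c : G} (hc : c ∈ gam G 2) : ∃ g, g * x * g⁻¹ = c * x := by
  set C := centralizer ({x} : Set G)
  have hcard : Nat.card (G ⧸ C) = Nat.card (gam G 2) := by
    rw [← index_eq_card, h.card_gam le_rfl (by have := h.three; omega)]
    have e := C.card_mul_index
    rw [h.cent, h.card, show p ^ n = p ^ 2 * p ^ (n - 2) by
      rw [← pow_add]; congr 1; have := h.three; omega] at e
    exact Nat.eq_of_mul_eq_mul_left (pow_pos (Fact.out : p.Prime).pos 2) e
  let φ : G ⧸ C → gam G 2 := fun q =>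
    ⟨⁅q.out, x⁆, gam_comm (a := 1) (b := 1) le_rfl le_rfl (mem_top _) (mem_top _)⟩
  have hinj : Function.Injective φ := fun q r hqr => by
    have e : q.out * x * q.out⁻¹ * x⁻¹ = r.out * x * r.out⁻¹ * x⁻¹ := congrArg Subtype.val hqr
    have e2 := mul_right_cancel e
    rw [← QuotientGroup.out_eq' q, ← QuotientGroup.out_eq' r, QuotientGroup.eq]
    refine mem_centralizer_iff.2 fun y hy => ?_
    rw [Set.mem_singleton_iff.1 hy]
    calc x * (q.out⁻¹ * r.out) = q.out⁻¹ * (q.out * x * q.out⁻¹) * r.out := by group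
      _ = q.out⁻¹ * r.out * x := by rw [e2]; group
  haveI := Fintype.ofFinite (G ⧸ C)
  haveI := Fintype.ofFinite (gam G 2)
  have hsurj : Function.Surjective φ :=
    ((Fintype.bijective_iff_injective_and_card φ).2
      ⟨hinj, by rw [← Nat.card_eq_fintype_card, ← Nat.card_eq_fintype_card, hcard]⟩).2
  obtain ⟨q, hq⟩ := hsurj ⟨c, hc⟩
  refine ⟨q.out, ?_⟩
  rw [← show q.out * x * q.out⁻¹ * x⁻¹ = c from congrArg Subtype.val hq, inv_mul_cancel_right]

theorem Uniform.notMem_gam : x ∉ gam G 2 := by
  intro hx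
  have hp := (Fact.out : p.Prime)
  have := h.three
  -- all conjugates would lie in `γ₃ x`
  have hle : gam G 2 ≤ gam G 3 := by
    intro c hc
    obtain ⟨g, hg⟩ := h.exists_conj hc
    have h1 : ⁅g, x⁆ ∈ gam G (1 + 2) := gam_comm le_rfl (by omega) (mem_top g) hx
    rwa [commutatorElement_def, hg, mul_inv_cancel_right] at h1
  have h2 := Subgroup.card_le_of_le hle
  rw [h.card_gam le_rfl (by omega), h.card_gam (by omega) this] at h2
  have := (Nat.pow_le_pow_iff_right hp.one_lt).1 h2
  omega

theorem Uniform.inf_centralizer : centralizer ({x} : Set G) ⊓ gam G 2 = gam G (n - 1) := by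
  have hp := (Fact.out : p.Prime)
  have h3 := h.three
  refine (eq_of_le_of_card_ge (le_inf (fun z hz => mem_centralizer_iff.2 fun y hy => ?_)
    (gam_anti (by omega))) ?_).symm
  · have h1 : ⁅z, x⁆ ∈ gam G (n - 1 + 1) := gam_comm (by omega) le_rfl hz (mem_top x)
    rw [show n - 1 + 1 = n by omega, h.gam_eq_bot le_rfl, mem_bot,
      commutatorElement_eq_one_iff_mul_comm] at h1
    rw [Set.mem_singleton_iff.1 hy]
    exact h1.symm
  · rw [h.card_gam (k := n - 1) (by omega) (by omega), show n - (n - 1) = 1 by omega, pow_one]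
    set C := centralizer ({x} : Set G)
    obtain ⟨i, hi2, hi⟩ := (Nat.dvd_prime_pow hp).1
      (h.cent ▸ card_dvd_of_le (inf_le_left : C ⊓ gam G 2 ≤ C))
    rw [hi]
    have hi1 : i ≠ 2 := fun e => h.notMem_gam <| by
      have hC : C ⊓ gam G 2 = C := eq_of_le_of_card_ge inf_le_left (by rw [hi, e, h.cent])
      exact (inf_eq_left.1 hC) (mem_centralizer_iff.2 fun y hy => by rw [Set.mem_singleton_iff.1 hy])
    exact (Nat.pow_le_pow_right hp.pos (show i ≤ 1 by omega)).trans (pow_one p).le

theorem Uniform.pow_comm (g : G) : g * x ^ p * g⁻¹ = x ^ p := by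
  have h3 := h.three
  have hx : x ^ p ∈ gam G (n - 1) := by
    rw [← h.inf_centralizer]
    exact mem_inf.2 ⟨mem_centralizer_singleton_iff.2 ((Commute.refl x).pow_left p).eq,
      CfsgLib.PGroup.MaxClassRank.pow_mem_two h.isPGroup h.card h.three h.class_eq x⟩
  have h1 : ⁅g, x ^ p⁆ ∈ gam G (1 + (n - 1)) := gam_comm le_rfl (by omega) (mem_top g) hx
  rw [h.gam_eq_bot (by omega), mem_bot, commutatorElement_def, mul_inv_eq_one] at h1
  exact h1

theorem Uniform.pow_mul_x {c : G} (hc : c ∈ gam G 2) : (c * x) ^ p = x ^ p := by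
  obtain ⟨g, hg⟩ := h.exists_conj hc
  rw [← hg, conj_pow, h.pow_comm]

/-- `y ↦ [y⁻¹, x]` moves each layer to the next one. -/
theorem Uniform.mem_of_comm {k : ℕ} (h2 : 2 ≤ k) (hk : k + 2 ≤ n) {b : G} (hb : b ∈ gam G k)
    (hc : ⁅b⁻¹, x⁆ ∈ gam G (k + 2)) : b ∈ gam G (k + 1) := by
  have hp := (Fact.out : p.Prime)
  have h3 := h.three
  set Z := (gam G (n - 1)).subgroupOf (gam G (k + 1))
  let φ : gam G (k + 1) ⧸ Z → gam G (k + 2) := fun q =>
    ⟨⁅((q.out : gam G (k + 1)) : G)⁻¹, x⁆,
      gam_comm (a := k + 1) (by omega) le_rfl (inv_mem q.out.2) (mem_top x)⟩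
  have key : ∀ c d : G, c ∈ gam G 2 → d ∈ gam G 2 → ⁅c⁻¹, x⁆ = ⁅d⁻¹, x⁆ →
      c * d⁻¹ ∈ gam G (n - 1) := by
    intro c d hc hd e
    rw [← h.inf_centralizer]
    refine mem_inf.2 ⟨mem_centralizer_iff.2 fun y hy => ?_, mul_mem hc (inv_mem hd)⟩
    rw [Set.mem_singleton_iff.1 hy]
    rw [commutatorElement_def, commutatorElement_def, inv_inv, inv_inv] at e
    have e2 := mul_right_cancel e
    calc x * (c * d⁻¹) = c * (c⁻¹ * x * c) * d⁻¹ := by group
      _ = c * d⁻¹ * x := by rw [e2]; group
  have hinj : Function.Injective φ := fun q r hqr => by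
    have e := key _ _ (gam_anti (by omega) q.out.2) (gam_anti (by omega) r.out.2)
      (congrArg Subtype.val hqr)
    rw [← QuotientGroup.out_eq' q, ← QuotientGroup.out_eq' r, QuotientGroup.eq, mem_subgroupOf]
    have h1 := inv_mem ((gam_normal (G := G) (n - 1)).conj_mem _ e (q.out : G)⁻¹)
    simpa [mul_assoc] using h1
  have hcard : Nat.card (gam G (k + 1) ⧸ Z) = Nat.card (gam G (k + 2)) := by
    rw [h.card_gam (k := k + 2) (by omega) hk]
    have e := Z.card_mul_index
    rw [Nat.card_congr (subgroupOfEquivOfLe (gam_anti (show k + 1 ≤ n - 1 by omega))).toEquiv,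
      h.card_gam (k := n - 1) (by omega) (by omega), h.card_gam (k := k + 1) (by omega) (by omega),
      show n - (k + 1) = n - (n - 1) + (n - (k + 2)) by omega, pow_add, index_eq_card] at e
    exact Nat.eq_of_mul_eq_mul_left (pow_pos hp.pos _) e
  haveI := Fintype.ofFinite (gam G (k + 1) ⧸ Z)
  haveI := Fintype.ofFinite (gam G (k + 2))
  obtain ⟨q, hq⟩ := ((Fintype.bijective_iff_injective_and_card φ).2
      ⟨hinj, by rw [← Nat.card_eq_fintype_card, ← Nat.card_eq_fintype_card, hcard]⟩).2 ⟨_, hc⟩
  have e := key b _ (gam_anti h2 hb) (gam_anti (by omega) q.out.2) (congrArg Subtype.val hq).symm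
  have h1 := mul_mem (gam_anti (show k + 1 ≤ n - 1 by omega) e) q.out.2
  rwa [inv_mul_cancel_right] at h1

theorem Uniform.iterate_comm {k : ℕ} (h2 : 2 ≤ k) {b : G} (hb : b ∈ gam G k) :
    ∀ m, (fun y => ⁅y⁻¹, x⁆)^[m] b ∈ gam G (k + m) ∧
      (b ∉ gam G (k + 1) → k + m < n → (fun y => ⁅y⁻¹, x⁆)^[m] b ∉ gam G (k + m + 1)) := by
  intro m
  induction m with
  | zero => exact ⟨hb, fun hn _ => hn⟩
  | succ m ih =>
    rw [Function.iterate_succ_apply']
    refine ⟨gam_comm (a := k + m) (by omega) le_rfl (inv_mem ih.1) (mem_top x), fun hn hlt hmem => ?_⟩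
    exact ih.2 hn (by omega) (h.mem_of_comm (k := k + m) (by omega) (by omega) ih.1 hmem)

/-- The `p`-th power moves the series down exactly `p - 1` steps. -/
theorem Uniform.pow_shift : ∀ t k, 2 ≤ k → n ≤ k + t → ∀ b ∈ gam G k,
    b ^ p ∈ gam G (k + p - 1) ∧
      (b ∉ gam G (k + 1) → k + p - 1 < n → b ^ p ∉ gam G (k + p)) := by
  have hp := (Fact.out : p.Prime)
  intro t
  induction t with
  | zero =>
    intro k _ hk b hb
    rw [h.gam_eq_bot (by omega), mem_bot] at hb
    subst hb
    exact ⟨by simp, fun hn _ => absurd (one_mem _) hn⟩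
  | succ t ih =>
    intro k h2 hk b hb
    set N := gam G (k + p)
    haveI : N.Normal := gam_normal _
    set q := QuotientGroup.mk' N
    have hF : Filt (fun j => (gam G j).map q) (k + p) := by
      refine ⟨fun a b _ hab => map_mono (gam_anti hab), fun a b ha hb y hy z hz => ?_, ?_⟩
      · obtain ⟨y, hy, rfl⟩ := hy
        obtain ⟨z, hz, rfl⟩ := hz
        rw [← map_commutatorElement]
        exact mem_map_of_mem q (gam_comm ha hb hy hz)
      · show N.map q = ⊥
        rw [Subgroup.map_eq_bot_iff, QuotientGroup.ker_mk']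
    have hform := mul_pow_prime hF hp h2 rfl (mem_map_of_mem q hb)
      (mem_map_of_mem q (show x ∈ gam G 1 from mem_top x)) (by
        rintro _ ⟨y, hy, rfl⟩
        rw [← map_pow, ← MonoidHom.mem_ker, QuotientGroup.ker_mk']
        have h1 := (ih (k + 1) (by omega) (by omega) y hy).1
        rwa [show k + 1 + p - 1 = k + p by omega] at h1)
    rw [← map_mul, ← map_pow, h.pow_mul_x (gam_anti h2 hb), ← map_pow q x,
      mul_inv_cancel] at hform
    have hsemi : Function.Semiconj q (fun y => ⁅y⁻¹, x⁆) (fun y => ⁅y⁻¹, q x⁆) := fun y => by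
      rw [map_commutatorElement, map_inv]
    rw [← (hsemi.iterate_right (p - 1)).eq, ← map_pow, ← map_mul, eq_comm, ← MonoidHom.mem_ker,
      QuotientGroup.ker_mk'] at hform
    obtain ⟨h1, h3⟩ := h.iterate_comm h2 hb (p - 1)
    rw [show k + (p - 1) = k + p - 1 by have := hp.two_le; omega] at h1 h3
    rw [show k + p - 1 + 1 = k + p by have := hp.two_le; omega] at h3
    constructor
    · have h4 := mul_mem (gam_anti (show k + p - 1 ≤ k + p by omega) hform) (inv_mem h1)
      rwa [mul_inv_cancel_right] at h4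
    · intro hn hlt hmem
      refine h3 hn hlt ?_
      have h4 := mul_mem (inv_mem hmem) hform
      rwa [inv_mul_cancel_left] at h4

/-- A two step centralizer contains the ones `p - 1` layers above it. -/
theorem Uniform.twoStep_periodic {i : ℕ} (hi : 2 ≤ i) (hin : i + p + 1 ≤ n) {g : G}
    (hg : g ∉ PGroup.MaxClassRank.twoStepAt G i) :
    g ∉ PGroup.MaxClassRank.twoStepAt G (i + p - 1) := by
  have hp := (Fact.out : p.Prime)
  have hp2 := hp.two_le
  obtain ⟨v, hv, hw⟩ : ∃ v ∈ gam G i, ⁅g, v⁆ ∉ gam G (i + 2) := by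
    by_contra hcon
    push Not at hcon
    exact hg hcon
  intro hgj
  set w := ⁅g, v⁆ with hwdef
  have hw1 : w ∈ gam G (i + 1) := by
    have := gam_comm (a := 1) (b := i) le_rfl (by omega) (mem_top g) hv
    rwa [add_comm] at this
  obtain ⟨hwp, hwp'⟩ := h.pow_shift n (i + 1) (by omega) (by omega) w hw1
  have hwp2 : w ^ p ∉ gam G (i + 1 + p) := hwp' hw (by omega)
  have hvp : v ^ p ∈ gam G (i + p - 1) := (h.pow_shift n i hi (by omega) v hv).1
  have hgv : ⁅g, v ^ p⁆ ∈ gam G (i + 1 + p) := by
    have := hgj _ hvp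
    rwa [show i + p - 1 + 2 = i + 1 + p by omega] at this
  set N := gam G (i + 1 + p)
  haveI : N.Normal := gam_normal _
  set q := QuotientGroup.mk' N
  have hF : Filt (fun j => (gam G j).map q) (i + 1 + p) := by
    refine ⟨fun a b _ hab => map_mono (gam_anti hab), fun a b ha hb y hy z hz => ?_, ?_⟩
    · obtain ⟨y, hy, rfl⟩ := hy
      obtain ⟨z, hz, rfl⟩ := hz
      rw [← map_commutatorElement]
      exact mem_map_of_mem q (gam_comm ha hb hy hz)
    · show N.map q = ⊥
      rw [Subgroup.map_eq_bot_iff, QuotientGroup.ker_mk']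
  have hform := mul_pow_prime hF hp (show 2 ≤ i + 1 by omega) rfl (mem_map_of_mem q hw1)
    (mem_map_of_mem q (show v ∈ gam G 1 from mem_top v)) (by
      rintro _ ⟨y, hy, rfl⟩
      rw [← map_pow, ← MonoidHom.mem_ker, QuotientGroup.ker_mk']
      have h1 := (h.pow_shift n (i + 2) (by omega) (by omega) y hy).1
      rwa [show i + 2 + p - 1 = i + 1 + p by omega] at h1)
  have hdl : ∀ m, (fun y => ⁅y⁻¹, v⁆)^[m] w ∈ gam G (i + 1 + m * i) := by
    intro m
    induction m with
    | zero => rw [zero_mul, add_zero]; exact hw1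
    | succ m ih =>
      rw [Function.iterate_succ_apply', Nat.succ_mul, ← add_assoc]
      exact gam_comm (by omega) (by omega) (inv_mem ih) hv
  have hsemi : Function.Semiconj q (fun y => ⁅y⁻¹, v⁆) (fun y => ⁅y⁻¹, q v⁆) := fun y => by
    rw [map_commutatorElement, map_inv]
  have hzero : q ((fun y => ⁅y⁻¹, v⁆)^[p - 1] w) = 1 := by
    refine (QuotientGroup.eq_one_iff _).2 (gam_anti ?_ (hdl (p - 1)))
    have : p ≤ (p - 1) * i := by
      calc p ≤ (p - 1) * 2 := by omega
        _ ≤ (p - 1) * i := Nat.mul_le_mul le_rfl hi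
    omega
  rw [← (hsemi.iterate_right (p - 1)).eq, hzero, mul_one, ← map_mul, ← map_pow q (w * v),
    ← map_pow q v, ← map_pow q w, ← map_inv, ← map_mul,
    show w * v = g * v * g⁻¹ by rw [hwdef, commutatorElement_def]; group, conj_pow,
    show g * v ^ p * g⁻¹ * (v ^ p)⁻¹ = ⁅g, v ^ p⁆ by rw [commutatorElement_def],
    show q ⁅g, v ^ p⁆ = 1 from (QuotientGroup.eq_one_iff _).2 hgv] at hform
  exact hwp2 ((QuotientGroup.eq_one_iff _).1 hform.symm)

end

open CfsgLib.PGroup.MaxClassRank (twoStepAt index_gam layer_gen twoStepAt_ne_top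
  exists_notMem_of_card_le)

variable (hG : IsPGroup p G) (hn : Nat.card G = p ^ n) (h3 : 3 ≤ n)
  (hcl : Group.nilpotencyClass G = n - 1)
include hG hn h3 hcl

theorem gam_last_eq_bot {k : ℕ} (hk : n ≤ k) : gam G k = ⊥ := by
  haveI := hG.isNilpotent
  exact Subgroup.lowerCentralSeries_eq_bot_iff_nilpotencyClass_le.2 (by omega)

theorem card_gam_pred : Nat.card (gam G (n - 1)) = p := by
  have e := (gam G (n - 1)).card_mul_index
  rw [index_gam hG hn h3 hcl (by omega) (by omega), hn,
    show p ^ n = p * p ^ (n - 1) by rw [← pow_succ']; congr 1; omega] at e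
  exact Nat.eq_of_mul_eq_mul_right (pow_pos (Fact.out : p.Prime).pos _) e

/-- An element avoiding the two step centralizers is uniform. -/
theorem uniform_of_notMem {y : G} (hy : y ∉ gam G 2)
    (hj : ∀ j, 2 ≤ j → j + 2 ≤ n → y ∉ twoStepAt G j) : Uniform y p n := by
  have hp := (Fact.out : p.Prime)
  haveI := hG.isNilpotent
  refine ⟨hn, ?_, h3⟩
  set C := centralizer ({y} : Set G)
  have hdown : ∀ j v, v ∈ gam G 2 → v ∈ C → 2 ≤ j → j + 1 ≤ n → v ∈ gam G j := by
    intro j
    induction j with
    | zero => intro v _ _ h2 _; omega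
    | succ j ih =>
      intro v hv hvC h2 hjn
      rcases (show j = 1 ∨ 2 ≤ j by omega) with rfl | h2'
      · exact hv
      have hvj := ih v hv hvC h2' (by omega)
      by_contra hv'
      refine hj j h2' (by omega) fun w hw => ?_
      obtain ⟨t, ht⟩ := layer_gen hG hn h3 hcl h2' (by omega) hvj hv' hw
      have hcv : Commute y (v ^ t) := Commute.zpow_right
        ((mem_centralizer_singleton_iff.1 hvC).symm : Commute y v) t
      rw [show w = v ^ t * ((v ^ t)⁻¹ * w) by group,
        show ⁅y, v ^ t * ((v ^ t)⁻¹ * w)⁆ = ⁅y, v ^ t⁆ * (v ^ t * ⁅y, (v ^ t)⁻¹ * w⁆ * (v ^ t)⁻¹) by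
          simp only [commutatorElement_def]; group,
        commutatorElement_eq_one_iff_commute.2 hcv, one_mul]
      refine (gam_normal (j + 2)).conj_mem _ ?_ _
      have := gam_comm (a := 1) (b := j + 1) le_rfl (by omega) (mem_top y) ht
      rwa [show 1 + (j + 1) = j + 2 by omega] at this
  have hle : C ⊓ gam G 2 ≤ gam G (n - 1) := fun v hv =>
    hdown (n - 1) v (mem_inf.1 hv).2 (mem_inf.1 hv).1 (by omega) (by omega)
  have hge : gam G (n - 1) ≤ C ⊓ gam G 2 := by
    refine le_inf (fun v hv => mem_centralizer_singleton_iff.2 ?_) (gam_anti (by omega))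
    have h1 : ⁅v, y⁆ ∈ gam G (n - 1 + 1) := gam_comm (by omega) le_rfl hv (mem_top y)
    rw [gam_last_eq_bot hG hn h3 hcl (by omega), mem_bot, commutatorElement_eq_one_iff_mul_comm] at h1
    exact h1
  have hinf : Nat.card ↥(C ⊓ gam G 2) = p := by
    rw [le_antisymm hle hge]; exact card_gam_pred hG hn h3 hcl
  haveI : (gam G 2).Normal := gam_normal 2
  have hmul : Nat.card C = p * (gam G 2).relIndex C := by
    rw [← hinf, inf_comm]
    have h := relIndex_mul_relIndex (⊥ : Subgroup G) (gam G 2 ⊓ C) C bot_le inf_le_right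
    rw [relIndex_bot_left, relIndex_bot_left, inf_relIndex_right] at h
    exact h.symm
  obtain ⟨k, hk⟩ : ∃ k, (gam G 2).relIndex C = p ^ k := (hG.to_subgroup C).index _
  have hk2 : p ^ k ∣ p ^ 2 := by
    rw [← hk, ← index_gam hG hn h3 hcl le_rfl (show 2 ≤ n by omega)]
    exact relIndex_dvd_index_of_normal _ _
  have hk0 : k ≠ 0 := by
    rintro rfl
    exact hy (relIndex_eq_one.1 (hk.trans (pow_zero p)) (mem_centralizer_singleton_iff.2 rfl))
  have hk2' : k ≠ 2 := by
    rintro rfl
    have htop : C ⊔ frattini G = ⊤ := by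
      refine eq_top_iff.2 (le_trans ?_ (sup_le_sup_left (show gam G 2 ≤ frattini G by
        rw [show gam G 2 = commutator G from Subgroup.top_lowerCentralSeries_one]
        exact CfsgLib.Coprime.commutator_le_frattini hG) C))
      rw [top_le_iff, ← index_eq_one]
      have h1 := relIndex_mul_index (le_sup_right : gam G 2 ≤ C ⊔ gam G 2)
      rw [Subgroup.relIndex_sup_right, hk, index_gam hG hn h3 hcl le_rfl (by omega)] at h1
      exact (mul_eq_left₀ (pow_ne_zero 2 hp.ne_zero)).1 h1
    have hC := frattini_nongenerating htop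
    have hyZ : y ∈ gam G (n - 1) := by
      refine hle (mem_inf.2 ⟨mem_centralizer_singleton_iff.2 rfl, ?_⟩)
      by_contra hy2
      have h4 := Subgroup.card_le_of_le (le_inf (hC ▸ le_top : gam G 2 ≤ C) le_rfl)
      rw [hinf] at h4
      have e := (gam G 2).card_mul_index
      rw [index_gam hG hn h3 hcl le_rfl (by omega), hn,
        show p ^ n = p ^ (n - 2) * p ^ 2 by rw [← pow_add]; congr 1; omega] at e
      rw [Nat.eq_of_mul_eq_mul_right (pow_pos hp.pos 2) e] at h4
      rcases (show n = 3 ∨ 4 ≤ n by omega) with hn3 | hn4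
      · -- `y` would be central
        have hyc : y ∈ center G := mem_center_iff.2 fun g =>
          mem_centralizer_singleton_iff.1 (hC.ge (mem_top g) : g ∈ C)
        have hz : gam G 2 = center G := by
          refine eq_of_le_of_card_ge (fun v hv => mem_center_iff.2 fun g => ?_) ?_
          · have h1 : ⁅v, g⁆ ∈ gam G (2 + 1) := gam_comm (by omega) le_rfl hv (mem_top g)
            rw [gam_last_eq_bot hG hn h3 hcl (by omega), mem_bot,
              commutatorElement_eq_one_iff_mul_comm] at h1
            exact h1.symm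
          · rw [CfsgLib.PGroup.card_center_of_maximal hG hn h3 hcl,
              Nat.eq_of_mul_eq_mul_right (pow_pos hp.pos 2) e, hn3, pow_one]
        exact hy2 (hz.ge hyc)
      · have : p ^ 2 ≤ p ^ (n - 2) := Nat.pow_le_pow_right hp.pos (by omega)
        nlinarith [hp.two_le]
    exact hy (gam_anti (by omega) hyZ)
  have hk1 : k = 1 := by
    have := (Nat.pow_dvd_pow_iff_le_right hp.one_lt).1 hk2
    omega
  rw [hmul, hk, hk1, pow_one, pow_two]

omit h3 in
theorem nilpotencyClass_quotient (h4 : 4 ≤ n) :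
    Nat.card (G ⧸ gam G (n - 1)) = p ^ (n - 1) ∧
      Group.nilpotencyClass (G ⧸ gam G (n - 1)) = n - 1 - 1 := by
  have hp := (Fact.out : p.Prime)
  haveI := hG.isNilpotent
  have hc : Nat.card (G ⧸ gam G (n - 1)) = p ^ (n - 1) := by
    rw [← index_eq_card]
    exact index_gam hG hn (by omega) hcl (by omega) (by omega)
  refine ⟨hc, le_antisymm (CfsgLib.PGroup.nilpotencyClass_le_pred (hG.to_quotient _) hc (by omega)) ?_⟩
  haveI := (hG.to_quotient (gam G (n - 1))).isNilpotent
  by_contra hlt
  have hbot : (⊤ : Subgroup (G ⧸ gam G (n - 1))).lowerCentralSeries (n - 3) = ⊥ :=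
    Subgroup.lowerCentralSeries_eq_bot_iff_nilpotencyClass_le.2 (by omega)
  have hle : gam G (n - 2) ≤ gam G (n - 1) := by
    intro v hv
    have h1 := mem_map_of_mem (QuotientGroup.mk' (gam G (n - 1))) hv
    rw [Subgroup.map_lowerCentralSeries, Subgroup.map_top_of_surjective _
      (QuotientGroup.mk'_surjective _), show n - 2 - 1 = n - 3 by omega, hbot, mem_bot] at h1
    exact (QuotientGroup.eq_one_iff v).1 h1
  have := PGroup.MaxClassRank.gam_succ_lt hG hn (by omega) hcl (i := n - 2) (by omega) (by omega)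
    (by omega)
  rw [show n - 2 + 1 = n - 1 by omega] at this
  exact this hle

omit hn h3 hcl in
theorem map_gam (N : Subgroup G) [N.Normal] (j : ℕ) :
    (gam G j).map (QuotientGroup.mk' N) = gam (G ⧸ N) j := by
  rw [Subgroup.map_lowerCentralSeries,
    Subgroup.map_top_of_surjective _ (QuotientGroup.mk'_surjective N)]

omit hn h3 hcl in
theorem twoStepAt_quotient {N : Subgroup G} [N.Normal] {j : ℕ} (hN : N ≤ gam G (j + 2)) (g : G) :
    (g : G ⧸ N) ∈ twoStepAt (G ⧸ N) j ↔ g ∈ twoStepAt G j := by
  constructor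
  · intro hg v hv
    have h1 := hg (QuotientGroup.mk' N v) (map_gam hG N j ▸ mem_map_of_mem _ hv)
    rw [← map_gam hG N] at h1
    obtain ⟨w, hw, e⟩ := h1
    rw [← QuotientGroup.mk'_apply, ← map_commutatorElement] at e
    have h2 := hN ((QuotientGroup.eq).1 e)
    simpa using mul_mem hw h2
  · intro hg v hv
    rw [← map_gam hG N] at hv ⊢
    obtain ⟨v, hv, rfl⟩ := hv
    rw [← QuotientGroup.mk'_apply, ← map_commutatorElement]
    exact mem_map_of_mem _ (hg v hv)

omit hn h3 hcl in
theorem gam_le_twoStepAt {j : ℕ} (hj : 1 ≤ j) : gam G 2 ≤ twoStepAt G j := fun g hg v hv => by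
  have := gam_comm (a := 2) (b := j) (by omega) hj hg hv
  rwa [add_comm] at this

omit hG hn h3 hcl in
/-- A `p`-group of maximal class has a uniform element outside any proper subgroup. -/
theorem exists_uniform : ∀ (n : ℕ) (G : Type u) [Group G] [Finite G], IsPGroup p G →
    Nat.card G = p ^ n → 3 ≤ n → Group.nilpotencyClass G = n - 1 → ∀ M : Subgroup G, M ≠ ⊤ →
      ∃ y, Uniform y p n ∧ y ∉ M := by
  intro n
  induction n with
  | zero => intro G _ _ _ _ h3; omega
  | succ m ih =>
    intro G _ _ hG hn h3 hcl M hM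
    have hp := (Fact.out : p.Prime)
    have hp2 := hp.two_le
    have hG1 : p ≤ Nat.card G := by rw [hn]; exact Nat.le_self_pow (by omega) p
    have hgam2 : gam G 2 ≠ ⊤ := fun e => by
      have := index_gam hG hn h3 hcl (i := 2) le_rfl (by omega)
      rw [e, index_top] at this
      exact absurd this.symm (Nat.one_lt_pow two_ne_zero hp.one_lt).ne'
    rcases (show m + 1 = 3 ∨ 4 ≤ m + 1 by omega) with hm | h4
    · obtain ⟨y, hy⟩ := exists_notMem_of_card_le hG ({0, 1} : Finset ℕ)
        (fun i => if i = 0 then gam G 2 else M) ((Finset.card_le_two).trans hp2)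
        (fun i _ => by split_ifs; exacts [hgam2, hM]) hG1
      exact ⟨y, uniform_of_notMem hG hn h3 hcl (by simpa using hy 0 (by simp)) (fun j h1 h2 => by omega),
        by simpa using hy 1 (by simp)⟩
    obtain ⟨hqc, hqcl⟩ := nilpotencyClass_quotient hG hn hcl h4
    rw [show m + 1 - 1 = m by omega] at hqc hqcl
    obtain ⟨x₀, hx₀, -⟩ := ih (G ⧸ gam G m) (hG.to_quotient _) hqc (by omega) hqcl ⊥ (by
      intro e
      have := hqc.symm.trans (card_top (G := G ⧸ gam G m)).symm
      rw [← e, Subgroup.card_bot] at this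
      exact absurd this (Nat.one_lt_pow (by omega) hp.one_lt).ne')
    -- periodicity below the last layer
    have hper : ∀ i g, 2 ≤ i → i + p + 1 ≤ m → g ∉ twoStepAt G i →
        g ∉ twoStepAt G (i + p - 1) := by
      intro i g hi hin hg h
      rw [← twoStepAt_quotient hG (N := gam G m) (gam_anti (by omega))] at hg h
      exact hx₀.twoStep_periodic hi hin hg h
    have hne : ∀ j, 2 ≤ j → j + 2 ≤ m + 1 → twoStepAt G j ≠ ⊤ := fun j h1 h2 =>
      twoStepAt_ne_top hG hn h3 hcl (by omega) h2
    obtain ⟨y₁, hy₁⟩ := exists_notMem_of_card_le hG (insert (m - 1) (Finset.Icc 2 (min (m - 2) p)))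
      (fun j => twoStepAt G j) ((Finset.card_insert_le _ _).trans (by rw [Nat.card_Icc]; omega))
      (fun j hj => by
        simp only [Finset.mem_insert, Finset.mem_Icc] at hj
        exact hne j (by omega) (by omega)) hG1
    have hall₁ : ∀ j, 2 ≤ j → j + 2 ≤ m + 1 → y₁ ∉ twoStepAt G j := by
      intro j
      induction j using Nat.strong_induction_on with
      | _ j ihj =>
        intro h1 h2
        by_cases hj : j ≤ min (m - 2) p ∨ j = m - 1
        · exact hy₁ j (by simp only [Finset.mem_insert, Finset.mem_Icc]; omega)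
        · have h5 := hper (j + 1 - p) y₁ (by omega) (by omega)
            (ihj (j + 1 - p) (by omega) (by omega) (by omega))
          rwa [show j + 1 - p + p - 1 = j by omega] at h5
    have hu₁ : Uniform y₁ p (m + 1) := uniform_of_notMem hG hn h3 hcl
      (fun h => hall₁ 2 le_rfl (by omega) (gam_le_twoStepAt hG (by omega) h)) hall₁
    obtain ⟨y, hy⟩ := exists_notMem_of_card_le hG (insert 0 (Finset.Icc 2 (min (m - 1) p)))
      (fun j => if j = 0 then M else twoStepAt G j)
      ((Finset.card_insert_le _ _).trans (by rw [Nat.card_Icc]; omega))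
      (fun j hj => by
        simp only [Finset.mem_insert, Finset.mem_Icc] at hj
        split_ifs
        · exact hM
        · exact hne j (by omega) (by omega)) hG1
    have hall : ∀ j, 2 ≤ j → j + 2 ≤ m + 1 → y ∉ twoStepAt G j := by
      intro j
      induction j using Nat.strong_induction_on with
      | _ j ihj =>
        intro h1 h2
        by_cases hj : j ≤ min (m - 1) p
        · have := hy j (by simp only [Finset.mem_insert, Finset.mem_Icc]; omega)
          rwa [if_neg (by omega)] at this
        · have h5 := hu₁.twoStep_periodic (i := j + 1 - p) (by omega) (by omega)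
            (ihj (j + 1 - p) (by omega) (by omega) (by omega))
          rwa [show j + 1 - p + p - 1 = j by omega] at h5
    exact ⟨y, uniform_of_notMem hG hn h3 hcl
      (fun h => hall 2 le_rfl (by omega) (gam_le_twoStepAt hG (by omega) h)) hall,
      by simpa using hy 0 (by simp)⟩

end CfsgLib.MaxClassUniform
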