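import Cfsg.Agent.Lib.Fusion.ThompsonComplement
import Cfsg.Agent.Lib.Fusion.Residual
import Cfsg.Agent.Lib.Coprime.Frobenius

/-!
# Groups in which every centralizer of a non-central element is maximal
-/

set_option autoImplicit false
set_option linter.style.haveILetI false
set_option linter.unusedSectionVars false

open Subgroup
open scoped Pointwise

namespace CfsgLib.PGroup.MaximalCentralizers

universe u

variable {G : Type u} [Group G] [Finite G]

/-- An element lies in a subgroup as soon as its powers of prime power order do. -/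
theorem mem_of_primary (H : Subgroup G) {g : G}
    (h : ∀ (r : ℕ), r.Prime → ∀ a ∈ zpowers g, (∃ k, orderOf a = r ^ k) → a ∈ H) : g ∈ H := by
  suffices ∀ n, ∀ a ∈ zpowers g, orderOf a = n → a ∈ H from this _ g (mem_zpowers g) rfl
  intro n
  induction n using Nat.recOnPrimeCoprime with
  | zero => intro a _ ha; exact absurd ha (orderOf_pos a).ne'
  | prime_pow p k hp => intro a haz ha; exact h p hp a haz ⟨k, ha⟩
  | coprime x y hx hy hxy ihx ihy =>
    intro a haz ha
    have e : a = (a ^ x) ^ (Nat.gcdA x y) * (a ^ y) ^ (Nat.gcdB x y) := by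
      rw [← zpow_natCast a x, ← zpow_natCast a y, ← zpow_mul, ← zpow_mul, ← zpow_add,
        ← Nat.gcd_eq_gcd_ab, hxy.gcd_eq_one]
      simp
    have o1 : orderOf (a ^ x) = y := by
      rw [orderOf_pow_of_dvd (by omega) (ha ▸ dvd_mul_right x y), ha,
        Nat.mul_div_cancel_left _ (by omega)]
    have o2 : orderOf (a ^ y) = x := by
      rw [orderOf_pow_of_dvd (by omega) (ha ▸ dvd_mul_left y x), ha,
        Nat.mul_div_cancel _ (by omega)]
    rw [e]
    exact mul_mem (H.zpow_mem (ihy _ (pow_mem haz x) o1) _) (H.zpow_mem (ihx _ (pow_mem haz y) o2) _)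

/-! ### The hypothesis -/

/-- Every centralizer of a non-central element is maximal. -/
def MaxCent (G : Type u) [Group G] : Prop :=
  ∀ x : G, x ∉ center G → IsCoatom (centralizer ({x} : Set G))

local notation:max "C" x:max => centralizer ({x} : Set G)

theorem mem_cent {x y : G} : (y ∈ C x) ↔ y * x = x * y := mem_centralizer_singleton_iff

theorem mem_cent_self (x : G) : x ∈ C x := mem_cent.2 rfl

theorem mem_cent_symm {x y : G} (h : y ∈ C x) : x ∈ C y := mem_cent.2 (mem_cent.1 h).symm

theorem center_le_cent (x : G) : center G ≤ C x := fun z hz =>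
  mem_cent.2 (Subgroup.mem_center_iff.1 hz x).symm

theorem cent_eq_top_iff {x : G} : (C x) = ⊤ ↔ x ∈ center G := by
  rw [Subgroup.centralizer_eq_top_iff_subset, Set.singleton_subset_iff]
  rfl

theorem cent_eq_of_le (h : MaxCent G) {x y : G} (hx : x ∉ center G) (hy : y ∉ center G)
    (hle : (C x) ≤ C y) : (C x) = C y := by
  rcases (h x hx).le_iff.1 hle with e | e
  · exact absurd (cent_eq_top_iff.1 e) hy
  · exact e.symm

/-- Commuting non-central elements of coprime orders have the same centralizer. -/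
theorem cent_eq_of_coprime (h : MaxCent G) {x y : G} (hx : x ∉ center G) (hy : y ∉ center G)
    (hc : y * x = x * y) (hcop : (orderOf x).Coprime (orderOf y)) : (C x) = C y := by
  have hcomm : Commute x y := hc.symm
  have hxy : x * y ∉ center G := by
    intro hz
    apply hx
    obtain ⟨m, hm⟩ := exists_pow_eq_self_of_coprime (x := x) hcop.symm
    rw [← hm]
    refine pow_mem ?_ m
    have := pow_mem hz (orderOf y)
    rwa [hcomm.mul_pow, pow_orderOf_eq_one, mul_one] at this
  have h1 : (C (x * y)) ≤ C x := by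
    intro w hw
    obtain ⟨m, hm⟩ := exists_pow_eq_self_of_coprime (x := x) hcop.symm
    have e : (x * y) ^ orderOf y = x ^ orderOf y := by
      rw [hcomm.mul_pow, pow_orderOf_eq_one, mul_one]
    have hw2 : Commute w (x ^ orderOf y) := e ▸ Commute.pow_right (mem_cent.1 hw) (orderOf y)
    have hw3 := hw2.pow_right m
    rw [hm] at hw3
    exact mem_cent.2 hw3
  have h2 : (C (x * y)) ≤ C y := by
    intro w hw
    obtain ⟨m, hm⟩ := exists_pow_eq_self_of_coprime (x := y) hcop
    have e : (x * y) ^ orderOf x = y ^ orderOf x := by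
      rw [hcomm.mul_pow, pow_orderOf_eq_one, one_mul]
    have hw2 : Commute w (y ^ orderOf x) := e ▸ Commute.pow_right (mem_cent.1 hw) (orderOf x)
    have hw3 := hw2.pow_right m
    rw [hm] at hw3
    exact mem_cent.2 hw3
  rw [← cent_eq_of_le h hxy hx h1, cent_eq_of_le h hxy hy h2]

/-- Every centralizer is that of an element of prime power order. -/
theorem exists_primary (h : MaxCent G) {x : G} (hx : x ∉ center G) :
    ∃ (r : ℕ) (a : G), r.Prime ∧ (∃ k, orderOf a = r ^ k) ∧ a ∉ center G ∧ (C a) = C x := by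
  by_contra hcon
  push Not at hcon
  apply hx
  refine mem_of_primary (center G) fun r hr a ha hk => ?_
  by_contra haz
  refine hcon r a hr hk haz (cent_eq_of_le h hx haz fun w hw => ?_).symm
  obtain ⟨n, rfl⟩ := ha
  exact mem_cent.2 (Commute.zpow_right (mem_cent.1 hw) n)

theorem cent_le_of_mem {x y : G} (hab : IsMulCommutative (C x)) (hy : y ∈ C x) : (C x) ≤ C y :=
  fun _ hw => mem_cent.2 (setLike_mul_comm hw hy)

/-- A centralizer is abelian or a `p`-group modulo the center. -/
theorem abelian_or_pgroup (h : MaxCent G) {x : G} (hx : x ∉ center G) :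
    IsMulCommutative (C x) ∨ ∃ r : ℕ, r.Prime ∧ ∀ m ∈ C x, ∃ k, m ^ r ^ k ∈ center G := by
  obtain ⟨r, a, hr, ⟨n, hn⟩, haz, hCa⟩ := exists_primary h hx
  rw [← hCa]
  by_cases hall : ∀ s : ℕ, s.Prime → s ≠ r → ∀ b ∈ C a, (∃ k, orderOf b = s ^ k) → b ∈ center G
  · right
    refine ⟨r, hr, fun m hm => ?_⟩
    haveI := Fact.mk hr
    set j := (orderOf m).factorization r with hj
    refine ⟨j, mem_of_primary _ fun s hs b hb hk => ?_⟩
    have hb2 : b ∈ C a := (zpowers_le.2 (pow_mem hm _)) hb
    rcases eq_or_ne s r with rfl | hsr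
    · -- the `r`-part of `m ^ r ^ j` is trivial
      obtain ⟨k, hk⟩ := hk
      have h1 : orderOf b ∣ orderOf m / s ^ j := by
        obtain ⟨i, rfl⟩ := hb
        refine (orderOf_dvd_of_mem_zpowers ⟨i, rfl⟩).trans ?_
        rw [orderOf_pow_of_dvd (pow_ne_zero _ hr.ne_zero) (Nat.ordProj_dvd _ _)]
      have h2 : Nat.Coprime (s ^ k) (orderOf m / s ^ j) :=
        ((hr.coprime_iff_not_dvd).2 (Nat.not_dvd_ordCompl hr (orderOf_pos m).ne')).pow_left k
      rw [hk] at h1
      have h3 : orderOf b = 1 := by rw [hk]; exact Nat.eq_one_of_dvd_coprimes h2 dvd_rfl h1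
      rw [orderOf_eq_one_iff] at h3
      exact h3 ▸ one_mem _
    · exact hall s hs hsr b hb2 hk
  · left
    push Not at hall
    obtain ⟨s, hs, hsr, b, hb, ⟨k, hk⟩, hbz⟩ := hall
    have hab : (C a) = C b := cent_eq_of_coprime h haz hbz (mem_cent.1 hb)
      (by rw [hn, hk]; exact Nat.Coprime.pow _ _ ((Nat.coprime_primes hr hs).2 hsr.symm))
    refine ⟨⟨fun ⟨u, hu⟩ ⟨v, hv⟩ => Subtype.ext ?_⟩⟩
    -- every element of prime power order is central in `C a`
    have hcen : ∀ t : ℕ, t.Prime → ∀ c ∈ C a, (∃ i, orderOf c = t ^ i) → (C a) ≤ C c := by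
      intro t ht c hc ⟨i, hi⟩
      by_cases hcz : c ∈ center G
      · exact le_trans le_top (cent_eq_top_iff.2 hcz).ge
      rcases eq_or_ne t r with rfl | htr
      · have := cent_eq_of_coprime h hbz hcz (mem_cent.1 (hab ▸ hc))
          (by rw [hk, hi]; exact Nat.Coprime.pow _ _ ((Nat.coprime_primes hs hr).2 hsr))
        rw [hab, this]
      · rw [cent_eq_of_coprime h haz hcz (mem_cent.1 hc)
          (by rw [hn, hi]; exact Nat.Coprime.pow _ _ ((Nat.coprime_primes hr ht).2 htr.symm))]
    have hv' : v ∈ C u := by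
      suffices v ∈ (C a) ⊓ C u from this.2
      refine mem_of_primary _ fun t ht c hc hi => ?_
      have hcA : c ∈ C a := zpowers_le.2 hv hc
      exact ⟨hcA, mem_cent_symm (hcen t ht c hcA hi hu)⟩
    exact (mem_cent.1 hv').symm

/-! ### The quotient by the center -/

local notation "π" => QuotientGroup.mk' (center G)

theorem comap_map_of_center_le {M : Subgroup G} (hM : center G ≤ M) : (M.map π).comap π = M :=
  comap_map_eq_self (by rwa [QuotientGroup.ker_mk'])

theorem isCoatom_map {M : Subgroup G} (hM : IsCoatom M) (hZ : center G ≤ M) :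
    IsCoatom (M.map π) := by
  refine ⟨fun e => hM.1 ?_, fun B hB => ?_⟩
  · rw [← comap_map_of_center_le hZ, e, comap_top]
  · have h1 : M < B.comap π := by
      refine lt_of_le_of_ne (map_le_iff_le_comap.1 hB.le) fun e => hB.ne ?_
      rw [e, map_comap_eq_self_of_surjective (QuotientGroup.mk'_surjective _)]
    have h2 := congrArg (Subgroup.map π) (hM.2 _ h1)
    rwa [map_comap_eq_self_of_surjective (QuotientGroup.mk'_surjective _),
      map_top_of_surjective _ (QuotientGroup.mk'_surjective _)] at h2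

theorem mem_conj_smul_iff {M : Subgroup G} {g w : G} :
    π w ∈ MulAut.conj (π g) • M.map π ↔ π (g⁻¹ * w * g) ∈ M.map π := by
  rw [Subgroup.mem_pointwise_smul_iff_inv_smul_mem]
  simp [MulAut.smul_def, map_mul, map_inv]

theorem pi_eq_one {g : G} : π g = 1 ↔ g ∈ center G := QuotientGroup.eq_one_iff g

theorem mem_of_pi_mem {M : Subgroup G} (hZ : center G ≤ M) {g : G} (hg : π g ∈ M.map π) : g ∈ M := by
  rw [← comap_map_of_center_le hZ]
  exact hg

theorem index_prime_of_normal_coatom {Q : Type*} [Group Q] [Finite Q] {A : Subgroup Q} [A.Normal]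
    (hA : IsCoatom A) : A.index.Prime := by
  haveI : Nontrivial (Q ⧸ A) :=
    QuotientGroup.nontrivial_iff.2 hA.1
  have hsub : ∀ B : Subgroup (Q ⧸ A), B = ⊥ ∨ B = ⊤ := by
    intro B
    have hle : A ≤ B.comap (QuotientGroup.mk' A) := QuotientGroup.le_comap_mk' A B
    rcases hA.le_iff.1 hle with e | e
    · right
      rw [← map_comap_eq_self_of_surjective (QuotientGroup.mk'_surjective A) B, e,
        map_top_of_surjective _ (QuotientGroup.mk'_surjective _)]
    · left
      rw [← map_comap_eq_self_of_surjective (QuotientGroup.mk'_surjective A) B, e,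
        QuotientGroup.map_mk'_self]
  obtain ⟨p, hp, hdvd⟩ := Nat.exists_prime_and_dvd (Finite.one_lt_card (α := Q ⧸ A)).ne'
  haveI := Fact.mk hp
  obtain ⟨a, ha⟩ := exists_prime_orderOf_dvd_card' p hdvd
  rcases hsub (zpowers a) with e | e
  · rw [zpowers_eq_bot] at e
    rw [e, orderOf_one] at ha
    exact absurd ha.symm hp.ne_one
  · have h2 : Nat.card (Q ⧸ A) = p := by rw [← ha, ← Nat.card_zpowers a, e, card_top]
    show (Nat.card (Q ⧸ A)).Prime
    rwa [h2]

/-- If `G/Z(G)` is a `p`-group it is elementary abelian. -/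
theorem elementary_of_pgroup (h : MaxCent G) {p : ℕ} [hp : Fact p.Prime]
    (hQ : IsPGroup p (G ⧸ center G)) :
    Cfsg.IsElementaryAbelian p (⊤ : Subgroup (G ⧸ center G)) := by
  haveI := hQ.isNilpotent
  have hkey : ∀ x : G, x ∉ center G → ∃ _ : (C x).Normal, (C x).index = p := by
    intro x hx
    set B := (C x).map π with hB
    have hc := isCoatom_map (h x hx) (center_le_cent x)
    haveI : B.Normal := NormalizerCondition.normal_of_coatom B Group.normalizerCondition_of_isNilpotent hc
    have e := comap_map_of_center_le (center_le_cent x)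
    have hn : (C x).Normal := e ▸ (inferInstance : B.Normal).comap π
    refine ⟨hn, ?_⟩
    rw [← e, index_comap_of_surjective _ (QuotientGroup.mk'_surjective _), ← hB]
    obtain ⟨k, hk⟩ := (hQ.index B)
    have hpr := index_prime_of_normal_coatom hc
    rw [hk] at hpr ⊢
    rw [hpr.eq_one_of_pow, pow_one]
  have hcomm : ∀ a b : G, a * b * a⁻¹ * b⁻¹ ∈ center G := by
    intro a b
    rw [Subgroup.mem_center_iff]
    intro x
    by_cases hx : x ∈ center G
    · exact (Subgroup.mem_center_iff.1 hx _).symm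
    obtain ⟨hn, hi⟩ := hkey x hx
    haveI : IsCyclic (G ⧸ C x) := isCyclic_of_prime_card (p := p) (by rw [← index_eq_card]; exact hi)
    have hmem : a * b * a⁻¹ * b⁻¹ ∈ C x := by
      rw [← QuotientGroup.eq_one_iff]
      simp only [QuotientGroup.mk_mul, QuotientGroup.mk_inv]
      rw [IsCyclic.commGroup.mul_comm (a : G ⧸ C x) (b : G ⧸ C x)]
      group
    exact (mem_cent.1 hmem).symm
  refine ⟨⟨⟨fun ⟨a, _⟩ ⟨b, _⟩ => Subtype.ext ?_⟩⟩, fun a _ => ?_⟩
  · obtain ⟨a, rfl⟩ := QuotientGroup.mk'_surjective (center G) a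
    obtain ⟨b, rfl⟩ := QuotientGroup.mk'_surjective (center G) b
    have h1 := pi_eq_one.2 (hcomm a b)
    simp only [map_mul, map_inv] at h1
    show π a * π b = π b * π a
    calc π a * π b = (π a * π b * (π a)⁻¹ * (π b)⁻¹) * (π b * π a) := by group
      _ = _ := by rw [h1, one_mul]
  · obtain ⟨a, rfl⟩ := QuotientGroup.mk'_surjective (center G) a
    rw [← map_pow, pi_eq_one, Subgroup.mem_center_iff]
    intro x
    by_cases hx : x ∈ center G
    · exact (Subgroup.mem_center_iff.1 hx _).symm
    obtain ⟨hn, hi⟩ := hkey x hx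
    have hmem : a ^ p ∈ C x := by
      rw [← hi]
      exact Subgroup.pow_index_mem (C x) a
    exact (mem_cent.1 hmem).symm

/-- The target structure of a group. -/
def Target (Q : Type u) [Group Q] : Prop :=
  (∃ p : ℕ, p.Prime ∧ Cfsg.IsElementaryAbelian p (⊤ : Subgroup Q)) ∨
    (¬ IsMulCommutative Q ∧ (∀ H : Subgroup Q, H ≠ ⊤ → IsMulCommutative H) ∧
      ∃ p q a : ℕ, p.Prime ∧ q.Prime ∧ p ≠ q ∧ Nat.card Q = p ^ a * q ∧
        ∀ P : Subgroup Q, Nat.card P = p ^ a → P.Normal)

/-- An abelian normal subgroup of prime index with all outside elements of order `q` generating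
maximal subgroups. -/
theorem target_of_shape {Q : Type u} [Group Q] [Finite Q] (A : Subgroup Q) [A.Normal]
    [IsMulCommutative A] (hA1 : A ≠ ⊥) {q : ℕ} (hq : q.Prime) (hidx : A.index = q)
    (hout : ∀ y : Q, y ∉ A → orderOf y = q ∧ IsCoatom (zpowers y)) : Target Q := by
  haveI := Fact.mk hq
  have hAt : A ≠ ⊤ := fun e => hq.ne_one (by rw [← hidx, e, index_top])
  obtain ⟨y, hy⟩ : ∃ y, y ∉ A := by
    by_contra hcon
    push Not at hcon
    exact hAt (eq_top_iff.2 fun g _ => hcon g)
  obtain ⟨hyo, hyc⟩ := hout y hy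
  have hinf : A ⊓ zpowers y = ⊥ := by
    rw [eq_bot_iff]
    rintro z ⟨hz1, i, rfl⟩
    by_contra hne
    apply hy
    have h2 : zpowers (y ^ i) = zpowers y := by
      haveI : Fact (Nat.card (zpowers y)).Prime := ⟨by rw [Nat.card_zpowers, hyo]; exact hq⟩
      rcases Subgroup.eq_bot_or_eq_top_of_prime_card ((zpowers (y ^ i)).subgroupOf (zpowers y)) with e | e
      · exfalso
        rw [subgroupOf_eq_bot, disjoint_iff, inf_of_le_left (zpowers_le.2 (zpow_mem (mem_zpowers y) i)),
          zpowers_eq_bot] at e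
        exact hne (mem_bot.2 e)
      · exact le_antisymm (zpowers_le.2 (zpow_mem (mem_zpowers y) i)) (subgroupOf_eq_top.1 e)
    exact (zpowers_le.2 hz1) (h2 ▸ mem_zpowers y)
  -- the subgroups of `A` invariant under `y`
  have hinv : ∀ B : Subgroup Q, B ≤ A → (∀ b ∈ B, y * b * y⁻¹ ∈ B) → B = ⊥ ∨ B = A := by
    intro B hBA hB
    have hyN : y ∈ normalizer (B : Set Q) := by
      exact mem_normalizer_fintype fun n hn => hB n hn
    rcases hyc.le_iff.1 (le_sup_right : zpowers y ≤ B ⊔ zpowers y) with e | e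
    · right
      refine le_antisymm hBA fun a ha => ?_
      have ha' : a ∈ B ⊔ zpowers y := e ▸ mem_top a
      rw [← SetLike.mem_coe, Subgroup.coe_mul_of_right_le_normalizer_left B _ (zpowers_le.2 hyN)] at ha'
      obtain ⟨b, hb, z, hz, rfl⟩ := ha'
      have hzA : z ∈ A := (A.mul_mem_cancel_left (hBA hb)).1 ha
      have hz1 : z ∈ A ⊓ zpowers y := ⟨hzA, hz⟩
      rw [hinf, mem_bot] at hz1
      show b * z ∈ B
      rw [hz1, mul_one]
      exact hb
    · left
      rw [eq_bot_iff, ← hinf]
      exact le_inf hBA (e ▸ le_sup_left)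
  obtain ⟨p, hp, hpd⟩ := Nat.exists_prime_and_dvd (n := Nat.card A)
    (fun e => hA1 (card_eq_one.1 e))
  haveI := Fact.mk hp
  have hexp : ∀ a ∈ A, a ^ p = 1 := by
    let B : Subgroup Q :=
      { carrier := {a | a ∈ A ∧ a ^ p = 1}
        one_mem' := ⟨A.one_mem, one_pow _⟩
        mul_mem' := fun {a b} ha hb => ⟨A.mul_mem ha.1 hb.1, by
          rw [Commute.mul_pow (setLike_mul_comm ha.1 hb.1), ha.2, hb.2, one_mul]⟩
        inv_mem' := fun {a} ha => ⟨A.inv_mem ha.1, by rw [inv_pow, ha.2, inv_one]⟩ }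
    obtain ⟨a, ha⟩ := exists_prime_orderOf_dvd_card' p hpd
    rcases hinv B (fun z hz => hz.1) (fun z hz => ⟨(inferInstance : A.Normal).conj_mem z hz.1 y,
        by rw [conj_pow, hz.2, mul_one, mul_inv_cancel]⟩) with e | e
    · exfalso
      have hmem : (a : Q) ∈ B := ⟨a.2, by rw [← SubgroupClass.coe_pow, ← ha, pow_orderOf_eq_one]; rfl⟩
      rw [e, mem_bot, OneMemClass.coe_eq_one] at hmem
      rw [hmem, orderOf_one] at ha
      exact hp.ne_one ha.symm
    · intro a ha; rw [← e] at ha; exact ha.2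
  have hAp : IsPGroup p A := fun a => ⟨1, Subtype.ext (by simpa using hexp a a.2)⟩
  obtain ⟨n, hn⟩ := IsPGroup.iff_card.1 hAp
  have hcard : Nat.card Q = p ^ n * q := by rw [← A.card_mul_index, hn, hidx]
  by_cases hab : IsMulCommutative Q
  · left
    refine ⟨q, hq, ⟨⟨⟨fun a b => Subtype.ext (mul_comm' a.1 b.1)⟩⟩, fun a _ => ?_⟩⟩
    by_cases ha : a ∈ A
    · have hay : a * y ∉ A := fun e => hy ((A.mul_mem_cancel_left ha).1 e)
      have h1 := orderOf_dvd_iff_pow_eq_one.1 (hout _ hay).1.dvd
      rwa [Commute.mul_pow (mul_comm' a y), orderOf_dvd_iff_pow_eq_one.1 hyo.dvd, mul_one] at h1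
    · exact orderOf_dvd_iff_pow_eq_one.1 (hout a ha).1.dvd
  · right
    have hne : p ≠ q := by
      rintro rfl
      apply hab
      -- a `p`-group: the maximal subgroup `⟨y⟩` is normal
      have hQp : IsPGroup p Q := IsPGroup.of_card (n := n + 1) (by rw [hcard, pow_succ])
      haveI := hQp.isNilpotent
      haveI hyn : (zpowers y).Normal :=
        NormalizerCondition.normal_of_coatom _ Group.normalizerCondition_of_isNilpotent hyc
      have hcomm : ∀ a ∈ A, a * y = y * a := fun a ha =>
        (Subgroup.commute_of_normal_of_disjoint A (zpowers y) inferInstance hyn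
          (disjoint_iff.2 hinf) a y ha (mem_zpowers y)).eq
      have hc : A ⊔ zpowers y ≤ center Q := by
        have htop : A ⊔ zpowers y = ⊤ := by
          rcases hyc.le_iff.1 (le_sup_right : zpowers y ≤ A ⊔ zpowers y) with e | e
          · exact e
          · exfalso
            exact hA1 (le_bot_iff.1 (hinf ▸ le_inf le_rfl (e ▸ le_sup_left)))
        have hycen : y ∈ center Q := by
          rw [← centralizer_univ, ← coe_top, ← htop]
          refine mem_centralizer_iff.2 fun z hz => ?_
          have : A ⊔ zpowers y ≤ centralizer ({y} : Set Q) := sup_le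
            (fun a ha => mem_centralizer_singleton_iff.2 (hcomm a ha))
            (zpowers_le.2 (mem_centralizer_singleton_iff.2 rfl))
          exact mem_centralizer_singleton_iff.1 (this hz)
        refine sup_le (fun a ha => Subgroup.mem_center_iff.2 fun z => ?_) (zpowers_le.2 hycen)
        have : A ⊔ zpowers y ≤ centralizer ({a} : Set Q) := sup_le
          (fun b hb => mem_centralizer_singleton_iff.2 (setLike_mul_comm hb ha))
          (zpowers_le.2 (mem_centralizer_singleton_iff.2 (hcomm a ha).symm))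
        exact mem_centralizer_singleton_iff.1 (this (htop ▸ mem_top z))
      refine ⟨⟨fun a b => ?_⟩⟩
      have htop : A ⊔ zpowers y = ⊤ := by
        rcases hyc.le_iff.1 (le_sup_right : zpowers y ≤ A ⊔ zpowers y) with e | e
        · exact e
        · exact absurd (le_bot_iff.1 (hinf ▸ le_inf le_rfl (e ▸ le_sup_left))) hA1
      exact (Subgroup.mem_center_iff.1 (hc (htop ▸ mem_top a)) b).symm
    refine ⟨hab, fun H hH => ?_, p, q, n, hp, hq, hne, hcard, fun P hP => ?_⟩
    · by_cases hHA : H ≤ A
      · exact ⟨⟨fun a b => Subtype.ext (setLike_mul_comm (hHA a.2) (hHA b.2))⟩⟩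
      obtain ⟨w, hwH, hwA⟩ := SetLike.not_le_iff_exists.1 hHA
      rcases (hout w hwA).2.le_iff.1 (zpowers_le.2 hwH) with e | e
      · exact absurd e hH
      · rw [e]; infer_instance
    · have hPA : P ≤ A := by
        intro w hw
        by_contra hwA
        have h1 := Subgroup.orderOf_dvd_natCard P hw
        rw [(hout w hwA).1, hP] at h1
        exact hne ((Nat.prime_dvd_prime_iff_eq hq hp).1 (hq.dvd_of_dvd_pow h1)).symm
      rw [eq_of_le_of_card_ge hPA (by rw [hP, hn])]
      infer_instance

/-! ### The main theorem -/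

theorem quot_ne_bot_of_noncentral {M : Subgroup G} {x : G} (hx : x ∈ M) (hxz : x ∉ center G) :
    M.map π ≠ ⊥ := fun e => hxz (pi_eq_one.1 (mem_bot.1 (e ▸ mem_map_of_mem π hx)))

/-- The case of an abelian normal centralizer. -/
theorem target_of_abelian_normal (h : MaxCent G) {x : G} (hx : x ∉ center G) [(C x).Normal]
    [IsMulCommutative (C x)] : Target (G ⧸ center G) := by
  set M := C x with hM
  have hMc := h x hx
  set q := M.index with hqdef
  have hq : q.Prime := index_prime_of_normal_coatom hMc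
  haveI := Fact.mk hq
  haveI : (M.map π).Normal := (inferInstance : M.Normal).map _ (QuotientGroup.mk'_surjective _)
  haveI : IsMulCommutative (M.map π) := Subgroup.map_isMulCommutative M π
  refine target_of_shape (M.map π) (quot_ne_bot_of_noncentral (mem_cent_self x) hx) hq ?_ ?_
  · rw [hqdef, ← index_comap_of_surjective (M.map π) (QuotientGroup.mk'_surjective _),
      comap_map_of_center_le (center_le_cent x)]
  intro y' hy'
  obtain ⟨y, rfl⟩ := QuotientGroup.mk'_surjective (center G) y'
  have hyM : y ∉ M := fun e => hy' (mem_map_of_mem π e)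
  have hyz : y ∉ center G := fun e => hyM (center_le_cent x e)
  have hinter : ∀ w ∈ M, w ∈ C y → w ∈ center G := by
    intro w hw hwy
    by_contra hwz
    have he := cent_eq_of_le h hx hwz (cent_le_of_mem inferInstance hw)
    exact hyM (he ▸ mem_cent_symm hwy : y ∈ C x)
  have hyq : y ^ q ∈ center G :=
    hinter _ (Subgroup.pow_index_mem M y) (pow_mem (mem_cent_self y) q)
  have hord : orderOf (π y) = q := orderOf_eq_prime (by rw [← map_pow, pi_eq_one]; exact hyq)
    (fun e => hyz (pi_eq_one.1 e))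
  refine ⟨hord, ?_⟩
  have hC := isCoatom_map (h y hyz) (center_le_cent y)
  suffices zpowers (π y) = (C y).map π by rwa [this]
  refine le_antisymm (zpowers_le.2 (mem_map_of_mem π (mem_cent_self y))) ?_
  rintro z ⟨c, hc, rfl⟩
  haveI : Fact (Nat.card (G ⧸ M)).Prime := ⟨hq⟩
  obtain ⟨i, hi⟩ : (QuotientGroup.mk' M c) ∈ zpowers (QuotientGroup.mk' M y) := by
    have htop : zpowers (QuotientGroup.mk' M y) = ⊤ :=
      zpowers_eq_top_of_prime_card (p := q) rfl (fun e => hyM ((QuotientGroup.eq_one_iff y).1 e))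
    rw [htop]; exact mem_top _
  refine ⟨i, ?_⟩
  have hi' : (y ^ i)⁻¹ * c ∈ M := by
    rw [← QuotientGroup.eq]
    simpa using hi
  have h2 := pi_eq_one.2 (hinter _ hi' (mul_mem (inv_mem (zpow_mem (mem_cent_self y) i)) hc))
  rw [map_mul, map_inv, map_zpow, inv_mul_eq_one] at h2
  exact h2

theorem main (hna : ¬ IsMulCommutative G) (h : MaxCent G) : Target (G ⧸ center G) := by
  classical
  obtain ⟨x₀, hx₀⟩ : ∃ x, x ∉ center G := by
    by_contra hcon
    push Not at hcon
    exact hna ⟨⟨fun a b => (Subgroup.mem_center_iff.1 (hcon a) b).symm⟩⟩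
  -- `p`-group quotient
  have hpcase : ∀ (p : ℕ), p.Prime → IsPGroup p (G ⧸ center G) → Target (G ⧸ center G) :=
    fun p hp hQ => haveI := Fact.mk hp; Or.inl ⟨p, hp, elementary_of_pgroup h hQ⟩
  by_cases hN : ∃ x : G, x ∉ center G ∧ (C x).Normal
  · obtain ⟨x, hx, hn⟩ := hN
    haveI := hn
    rcases abelian_or_pgroup h hx with hab | ⟨r, hr, hpow⟩
    · haveI := hab
      exact target_of_abelian_normal h hx
    set M := C x with hM
    set q := M.index with hqdef
    have hq : q.Prime := index_prime_of_normal_coatom (h x hx)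
    haveI := Fact.mk hr
    haveI := Fact.mk hq
    by_cases hqr : q = r
    · refine hpcase r hr fun z => ?_
      obtain ⟨g, rfl⟩ := QuotientGroup.mk'_surjective (center G) z
      obtain ⟨k, hk⟩ := hpow _ (Subgroup.pow_index_mem M g)
      exact ⟨k + 1, by rw [← map_pow, pi_eq_one, pow_succ', pow_mul, ← hqr]; rwa [← hqr] at hk⟩
    -- `M` is abelian
    suffices hab : IsMulCommutative M by
      haveI := hab
      exact target_of_abelian_normal h hx
    obtain ⟨y, hyM⟩ : ∃ y, y ∉ M := by
      by_contra hcon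
      push Not at hcon
      exact (h x hx).1 (eq_top_iff.2 fun g _ => hcon g)
    have hyz : y ∉ center G := fun e => hyM (center_le_cent x e)
    set L := C y with hL
    set ZM := M ⊓ centralizer (M : Set G) with hZM
    have hxZ : x ∈ ZM := ⟨mem_cent_self x, mem_centralizer_iff.2 fun m hm => mem_cent.1 hm⟩
    have hZn : ZM.Normal := by
      haveI : (centralizer (M : Set G)).Normal := Subgroup.normal_centralizer
      exact Subgroup.normal_inf_normal _ _
    have htop : L ⊔ ZM = ⊤ := by
      rcases (h y hyz).le_iff.1 (le_sup_left : L ≤ L ⊔ ZM) with e | e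
      · exact e
      · exfalso
        exact hyM (mem_cent_symm ((le_sup_right.trans e.le : ZM ≤ L) hxZ))
    -- the part of `L` in `M` is central
    have hW : ∀ w ∈ L, w ∈ M → w ∈ center G := by
      intro w hwL hwM
      rcases abelian_or_pgroup h hyz with hLab | ⟨t, ht, htpow⟩
      · rw [← centralizer_univ, ← coe_top, ← htop]
        refine mem_centralizer_iff.2 fun g hg => ?_
        have : L ⊔ ZM ≤ centralizer ({w} : Set G) := sup_le
          (fun l hl => mem_cent.2 (setLike_mul_comm hl hwL))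
          (fun z hz => mem_cent.2 (mem_centralizer_iff.1 hz.2 w hwM).symm)
        exact mem_cent.1 (this hg)
      · have htr : t ≠ r := by
          rintro rfl
          obtain ⟨k, hk⟩ := htpow y (mem_cent_self y)
          have hk' : y ^ t ^ k ∈ M := center_le_cent x hk
          rw [← QuotientGroup.eq_one_iff, QuotientGroup.mk_pow] at hk'
          have h1 : orderOf (y : G ⧸ M) ∣ q := orderOf_dvd_natCard _
          have h2 := orderOf_dvd_of_pow_eq_one hk'
          have hne : orderOf (y : G ⧸ M) ≠ 1 := fun e =>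
            hyM ((QuotientGroup.eq_one_iff y).1 (orderOf_eq_one_iff.1 e))
          rw [(hq.eq_one_or_self_of_dvd _ h1).resolve_left hne] at h2
          exact hqr ((Nat.prime_dvd_prime_iff_eq hq hr).1 (hq.dvd_of_dvd_pow h2))
        obtain ⟨i, hi⟩ := htpow w hwL
        obtain ⟨j, hj⟩ := hpow w hwM
        rw [← pi_eq_one, map_pow] at hi hj
        have h1 := orderOf_dvd_of_pow_eq_one hi
        have h2 := orderOf_dvd_of_pow_eq_one hj
        exact pi_eq_one.1 (orderOf_eq_one_iff.1 (Nat.eq_one_of_dvd_coprimes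
          (Nat.Coprime.pow i j ((Nat.coprime_primes ht hr).2 htr)) h1 h2))
    refine ⟨⟨fun ⟨a, ha⟩ ⟨b, hb⟩ => Subtype.ext ?_⟩⟩
    have ha' : a ∈ ((L ⊔ ZM : Subgroup G) : Set G) := htop ▸ mem_top a
    rw [Subgroup.mul_normal] at ha'
    obtain ⟨l, hl, z, hz, rfl⟩ := ha'
    have hlz : l ∈ center G := hW l hl (by
      have := M.mul_mem ha (M.inv_mem hz.1)
      rwa [mul_inv_cancel_right] at this)
    show l * z * b = b * (l * z)
    rw [mul_assoc, (mem_centralizer_iff.1 hz.2 b hb).symm, ← mul_assoc,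
      ← Subgroup.mem_center_iff.1 hlz b, mul_assoc]
  push Not at hN
  have hnn : ∀ x, x ∉ center G → ¬ ((C x).map π).Normal := fun x hx hn =>
    hN x hx (comap_map_of_center_le (center_le_cent x) ▸ hn.comap π)
  have hself : ∀ x, x ∉ center G → normalizer ((C x).map π : Set (G ⧸ center G)) = (C x).map π := by
    intro x hx
    rcases (isCoatom_map (h x hx) (center_le_cent x)).le_iff.1 le_normalizer with e | e
    · exact absurd (normalizer_eq_top_iff.1 e) (hnn x hx)
    · exact e
  by_cases hA : ∃ x : G, x ∉ center G ∧ IsMulCommutative (C x)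
  · -- the Frobenius kernel would be a normal centralizer
    exfalso
    obtain ⟨x, hx, hab⟩ := hA
    haveI := hab
    set M' := (C x).map π with hM'
    have hsame : ∀ g w : G, w ∈ C x → g⁻¹ * w * g ∈ C x → w ∉ center G → π g ∈ M' := by
      intro g w hw hw' hwz
      refine (hself x hx).le (mem_normalizer_fintype ?_)
      have hwz' : g⁻¹ * w * g ∉ center G := fun e => hwz (by
        have := (inferInstance : (center G).Normal).conj_mem _ e g
        rwa [show g * (g⁻¹ * w * g) * g⁻¹ = w by group] at this)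
      have e1 := cent_eq_of_le h hx hwz (cent_le_of_mem hab hw)
      have e2 := cent_eq_of_le h hx hwz' (cent_le_of_mem hab hw')
      have hconj : ∀ m ∈ C x, g * m * g⁻¹ ∈ C x := fun m hm => by
        rw [e2] at hm
        rw [e1]
        have h3 := mem_cent.1 hm
        refine mem_cent.2 ?_
        calc g * m * g⁻¹ * w = g * (m * (g⁻¹ * w * g)) * g⁻¹ := by group
          _ = g * (g⁻¹ * w * g * m) * g⁻¹ := by rw [h3]
          _ = _ := by group
      rintro z ⟨m, hm, rfl⟩
      refine ⟨g * m * g⁻¹, hconj m hm, ?_⟩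
      rw [map_mul, map_mul, map_inv]
    have hF : Cfsg.IsFrobeniusComplement M' := by
      refine ⟨quot_ne_bot_of_noncentral (mem_cent_self x) hx,
        (isCoatom_map (h x hx) (center_le_cent x)).1, fun g' hg' => ?_⟩
      obtain ⟨g, rfl⟩ := QuotientGroup.mk'_surjective (center G) g'
      rw [eq_bot_iff]
      rintro z ⟨hz1, hz2⟩
      obtain ⟨w, hw, rfl⟩ := hz1
      by_contra hne
      apply hg'
      have hwz : w ∉ center G := fun e => hne (mem_bot.2 (pi_eq_one.2 e))
      exact hsame g w hw (mem_of_pi_mem (center_le_cent x) (mem_conj_smul_iff.1 hz2)) hwz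
    obtain ⟨K, hK, hKn, hKc⟩ := CfsgLib.Coprime.frob_kernel_subgroup hF
    have hK1 : K ≠ ⊥ := by
      rintro rfl
      exact hF.2.1 (Subgroup.isComplement'_bot_left.1 hKc)
    have hKt : K ≠ ⊤ := by
      rintro rfl
      exact hF.1 (Subgroup.isComplement'_top_left.1 hKc)
    obtain ⟨k', hk', hk1⟩ := K.bot_or_exists_ne_one.resolve_left hK1
    obtain ⟨k, rfl⟩ := QuotientGroup.mk'_surjective (center G) k'
    have hkz : k ∉ center G := fun e => hk1 (pi_eq_one.2 e)
    have hle : (C k).map π ≤ K := by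
      rintro z ⟨w, hw, rfl⟩
      rw [← SetLike.mem_coe, hK]
      by_cases hwz : w ∈ center G
      · exact Or.inl (pi_eq_one.2 hwz)
      refine Or.inr fun g' hg' => ?_
      obtain ⟨g, rfl⟩ := QuotientGroup.mk'_surjective (center G) g'
      have hw' : g⁻¹ * w * g ∈ C x := mem_of_pi_mem (center_le_cent x) (mem_conj_smul_iff.1 hg')
      have hwz' : g⁻¹ * w * g ∉ center G := fun e => hwz (by
        have := (inferInstance : (center G).Normal).conj_mem _ e g
        rwa [show g * (g⁻¹ * w * g) * g⁻¹ = w by group] at this)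
      have e2 := cent_eq_of_le h hx hwz' (cent_le_of_mem hab hw')
      have hk2 : g⁻¹ * k * g ∈ C x := by
        rw [e2]
        refine mem_cent.2 ?_
        have h3 := mem_cent.1 hw
        calc g⁻¹ * k * g * (g⁻¹ * w * g) = g⁻¹ * (k * w) * g := by group
          _ = g⁻¹ * (w * k) * g := by rw [h3]
          _ = _ := by group
      have hkm : π k ∈ MulAut.conj (π g) • M' := mem_conj_smul_iff.2 (mem_map_of_mem π hk2)
      have hkK : π k ∈ Cfsg.frobeniusKernel M' := by rw [← hK]; exact hk'
      rcases hkK with e | e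
      · exact hk1 e
      · exact e _ hkm
    rcases (isCoatom_map (h k hkz) (center_le_cent k)).le_iff.1 hle with e | e
    · exact hKt e
    · exact hnn k hkz (e ▸ hKn)
  -- every centralizer is a maximal Sylow subgroup of the quotient
  exfalso
  push Not at hA
  set Q := G ⧸ center G
  have hQ1 : Nontrivial Q := ⟨⟨π x₀, 1, fun e => hx₀ (pi_eq_one.1 e)⟩⟩
  have hsyl : ∀ r : ℕ, r.Prime → r ∣ Nat.card Q → ∃ P : Sylow r Q,
      IsCoatom (P : Subgroup Q) ∧ normalizer ((P : Subgroup Q) : Set Q) = P := by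
    intro r hr hd
    haveI := Fact.mk hr
    obtain ⟨z, hz⟩ := exists_prime_orderOf_dvd_card' r hd
    obtain ⟨g, rfl⟩ := QuotientGroup.mk'_surjective (center G) z
    have hgz : g ∉ center G := fun e => by
      rw [pi_eq_one.2 e, orderOf_one] at hz; exact hr.ne_one hz.symm
    obtain ⟨s, hs, hpow⟩ := (abelian_or_pgroup h hgz).resolve_left (hA g hgz)
    have hsr : s = r := by
      obtain ⟨k, hk⟩ := hpow g (mem_cent_self g)
      rw [← pi_eq_one, map_pow] at hk
      have h1 := orderOf_dvd_of_pow_eq_one hk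
      rw [hz] at h1
      exact ((Nat.prime_dvd_prime_iff_eq hr hs).1 (hr.dvd_of_dvd_pow h1)).symm
    subst hsr
    set M' := (C g).map π
    have hMp : IsPGroup s M' := by
      rintro ⟨z, m, hm, rfl⟩
      obtain ⟨k, hk⟩ := hpow m hm
      exact ⟨k, Subtype.ext (by rw [SubgroupClass.coe_pow, ← map_pow]; exact pi_eq_one.2 hk)⟩
    obtain ⟨P, hP⟩ := hMp.exists_le_sylow
    have hc := isCoatom_map (h g hgz) (center_le_cent g)
    rcases hc.le_iff.1 hP with e | e
    · exfalso
      have hQp : IsPGroup s Q := (P.2.of_equiv ((MulEquiv.subgroupCongr e).trans topEquiv))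
      haveI := hQp.isNilpotent
      exact hnn g hgz (NormalizerCondition.normal_of_coatom _ Group.normalizerCondition_of_isNilpotent hc)
    · exact ⟨P, e.symm ▸ hc, e.symm ▸ hself g hgz⟩
  -- a second prime
  have hsecond : ∀ r : ℕ, r.Prime → ∃ q, q.Prime ∧ q ≠ r ∧ q ∣ Nat.card Q := by
    intro r hr
    by_contra hcon
    push Not at hcon
    haveI := Fact.mk hr
    have hQp : IsPGroup r Q := IsPGroup.of_card (n := (Nat.card Q).primeFactorsList.length)
      (Nat.eq_prime_pow_of_unique_prime_dvd Nat.card_pos.ne' fun {d} hd hdd => by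
        by_contra hne; exact hcon d hd hne hdd)
    haveI := hQp.isNilpotent
    exact hnn x₀ hx₀ (NormalizerCondition.normal_of_coatom _ Group.normalizerCondition_of_isNilpotent
      (isCoatom_map (h x₀ hx₀) (center_le_cent x₀)))
  -- no normal subgroup of prime power order
  have hcore : ∀ (r : ℕ), r.Prime → ∀ E : Subgroup Q, E.Normal → IsPGroup r E → E = ⊥ := by
    intro r hr E hE hEp
    by_contra hne
    haveI := Fact.mk hr
    obtain ⟨k, hk⟩ := IsPGroup.iff_card.1 hEp
    have hrd : r ∣ Nat.card Q := by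
      refine dvd_trans ?_ (Subgroup.card_subgroup_dvd_card E)
      rw [hk]
      refine dvd_pow_self r fun e => hne ?_
      rw [e, pow_zero] at hk
      exact card_eq_one.1 hk
    obtain ⟨q, hq, hqr, hqd⟩ := hsecond r hr
    haveI := Fact.mk hq
    obtain ⟨S, hS, -⟩ := hsyl q hq hqd
    obtain ⟨P, hP, hPN⟩ := hsyl r hr hrd
    have hinf : ∀ {z : Q}, z ∈ (S : Subgroup Q) → z ∈ (P : Subgroup Q) → z = 1 := by
      intro z hz1 hz2
      obtain ⟨i, hi⟩ := S.2 ⟨z, hz1⟩
      obtain ⟨j, hj⟩ := P.2 ⟨z, hz2⟩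
      exact orderOf_eq_one_iff.1 (Nat.eq_one_of_dvd_coprimes
        (Nat.Coprime.pow i j ((Nat.coprime_primes hq hr).2 hqr))
        (orderOf_dvd_of_pow_eq_one (congrArg Subtype.val hi))
        (orderOf_dvd_of_pow_eq_one (congrArg Subtype.val hj)))
    have hEP : E ≤ P := hEp.le_sylow_of_normal P
    have htop : (S : Subgroup Q) ⊔ E = ⊤ := by
      rcases hS.le_iff.1 (le_sup_left : (S : Subgroup Q) ≤ (S : Subgroup Q) ⊔ E) with e | e
      · exact e
      · exact absurd ((eq_bot_iff_forall _).2 fun z hz => hinf ((le_sup_right.trans e.le : E ≤ (S : Subgroup Q)) hz) (hEP hz)) hne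
    have hPE : (P : Subgroup Q) ≤ E := by
      intro w hw
      have hw' : w ∈ (((S : Subgroup Q) ⊔ E : Subgroup Q) : Set Q) := htop ▸ mem_top w
      rw [Subgroup.mul_normal] at hw'
      obtain ⟨a, ha, e, he, rfl⟩ := hw'
      have ha' : a ∈ (P : Subgroup Q) := by
        have := mul_mem hw (inv_mem (hEP he))
        rwa [mul_inv_cancel_right] at this
      show a * e ∈ E
      rw [hinf ha ha', one_mul]
      exact he
    have hn' : (P : Subgroup Q).Normal := le_antisymm hEP hPE ▸ hE
    rw [normalizer_eq_top_iff.2 hn'] at hPN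
    exact hP.1 hPN.symm
  -- an odd prime
  obtain ⟨r, hr, hr2, hrd⟩ := hsecond 2 Nat.prime_two
  haveI := Fact.mk hr
  obtain ⟨P, hP, hPN⟩ := hsyl r hr hrd
  have hP1 : (P : Subgroup Q) ≠ ⊥ := by
    intro e
    have h1 := P.card_eq_multiplicity
    rw [e, card_bot] at h1
    exact absurd h1 (Nat.one_lt_pow (hr.factorization_pos_of_dvd Nat.card_pos.ne' hrd).ne' hr.one_lt).ne
  have hlocal : ∀ H : Subgroup Q, (P : Subgroup Q) ≤ H →
      (∃ E : Subgroup Q, E ≠ ⊥ ∧ IsPGroup r E ∧ (H = ⊤ → E.Normal)) → Cfsg.HasNormalPComplement r H := by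
    intro H hPH ⟨E, hE1, hEp, hEn⟩
    rcases hP.le_iff.1 hPH with e | e
    · exact absurd (hcore r hr E (hEn e) hEp) hE1
    · rw [e]
      exact CfsgLib.Fusion.hasNormalPComplement_of_isPGroup P.2
  have hcompl : Cfsg.HasNormalPComplement r Q := by
    refine CfsgLib.Fusion.hasNormalPComplement_of_thompson hr2 Q P ?_ ?_
    · refine hlocal _ (le_normalizer.trans (CfsgLib.Fusion.normalizer_le_normalizer_thompsonSubgroupOf _))
        ⟨_, ?_, P.2.to_le (CfsgLib.Fusion.thompsonSubgroupOf_le _), fun e => normalizer_eq_top_iff.1 e⟩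
      exact CfsgLib.Fusion.thompsonSubgroupOf_ne_bot P.2 hP1
    · refine hlocal _ ?_ ⟨CfsgLib.Fusion.centerOf (P : Subgroup Q),
        CfsgLib.Fusion.centerOf_ne_bot P.2 hP1, P.2.to_le inf_le_left, fun e => ?_⟩
      · rw [le_centralizer_iff]; exact inf_le_right
      · rw [centralizer_eq_top_iff_subset] at e
        refine ⟨fun z hz g => ?_⟩
        rw [Subgroup.mem_center_iff.1 (e hz) g, mul_inv_cancel_right]
        exact hz
  obtain ⟨P', N, hN', hc⟩ := hcompl
  obtain ⟨q, hq, hqr, hqd⟩ := hsecond r hr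
  haveI := Fact.mk hq
  obtain ⟨S, hS, hSN⟩ := hsyl q hq hqd
  haveI := hN'
  have hcop : ¬ r ∣ Nat.card N := by
    have := hc.card_mul
    intro hdvd
    rw [P'.card_eq_multiplicity] at this
    obtain ⟨c, hc'⟩ := hdvd
    refine Nat.pow_succ_factorization_not_dvd (n := Nat.card Q) Nat.card_pos.ne' hr ⟨c, ?_⟩
    generalize (Nat.card Q).factorization r = f at this ⊢
    rw [← this, hc']
    ring
  have hSle : (S : Subgroup Q) ≤ N := by
    intro z hz
    obtain ⟨i, hi⟩ := S.2 ⟨z, hz⟩
    rw [← QuotientGroup.eq_one_iff]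
    have h1 : orderOf (z : Q ⧸ N) ∣ q ^ i := by
      refine (orderOf_map_dvd (QuotientGroup.mk' N) z).trans (orderOf_dvd_of_pow_eq_one ?_)
      exact congrArg Subtype.val hi
    have h2 : orderOf (z : Q ⧸ N) ∣ r ^ (Nat.card Q).factorization r := by
      refine (_root_.orderOf_dvd_natCard _).trans (dvd_of_eq ?_)
      rw [← P'.card_eq_multiplicity, ← Subgroup.index_eq_card]
      exact hc.symm.index_eq_card
    exact orderOf_eq_one_iff.1 (Nat.eq_one_of_dvd_coprimes
      (Nat.Coprime.pow _ _ ((Nat.coprime_primes hq hr).2 hqr)) h1 h2)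
  rcases hS.le_iff.1 hSle with e | e
  · rw [e, card_top] at hcop; exact hcop hrd
  · have : (S : Subgroup Q).Normal := e ▸ hN'
    rw [normalizer_eq_top_iff.2 this] at hSN
    exact hS.1 hSN.symm

end CfsgLib.PGroup.MaximalCentralizers
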