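import Cfsg.Agent.Lib.PGroup.MaximalCentralizers
import Cfsg.Agent.Lib.Coprime.FpfAction
import Cfsg.Agent.Lib.PGroup.ElementaryBasic

/-!
# Normal subgroups all of whose non-central elements have maximal centralizers

Abstract form: a group `H` of automorphisms containing the inner ones, in which the stabilizer of
every non-central element is maximal.
-/

set_option autoImplicit false
set_option linter.style.haveILetI false
set_option linter.unusedSectionVars false

open Subgroup
open scoped Pointwise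

namespace CfsgLib.PGroup.MaximalCentralizers.NormalVersion

open CfsgLib.PGroup.MaximalCentralizers

universe u

variable {Γ : Type u} [Group Γ] [Finite Γ]

local notation:max "C" x:max => centralizer ({x} : Set Γ)
local notation "π" => QuotientGroup.mk' (center Γ)

/-- The stabilizer in `H` of an element. -/
def stab (H : Subgroup (MulAut Γ)) (x : Γ) : Subgroup (MulAut Γ) :=
  H ⊓ MulAction.stabilizer (MulAut Γ) x

/-- A subgroup invariant under `H`. -/
def Inv (H : Subgroup (MulAut Γ)) (D : Subgroup Γ) : Prop := ∀ h ∈ H, ∀ d ∈ D, h d ∈ D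

/-- `H` contains the inner automorphisms and the stabilizers of non-central elements are maximal. -/
structure MaxStab (H : Subgroup (MulAut Γ)) : Prop where
  inn : ∀ n : Γ, MulAut.conj n ∈ H
  max : ∀ x : Γ, x ∉ center Γ → ∀ K : Subgroup (MulAut Γ), stab H x ≤ K → K ≤ H →
    K = stab H x ∨ K = H

variable {H : Subgroup (MulAut Γ)}

theorem mem_stab {h : MulAut Γ} {x : Γ} : h ∈ stab H x ↔ h ∈ H ∧ h x = x := Iff.rfl

theorem conj_mem_stab (hM : MaxStab H) {x n : Γ} : MulAut.conj n ∈ stab H x ↔ n ∈ C x := by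
  rw [mem_stab, and_iff_right (hM.inn n), mem_cent, MulAut.conj_apply, mul_inv_eq_iff_eq_mul]

theorem map_center_mem (h : MulAut Γ) {z : Γ} (hz : z ∈ center Γ) : h z ∈ center Γ := by
  rw [Subgroup.mem_center_iff] at hz ⊢
  intro g
  have h1 := congrArg h (hz (h.symm g))
  rwa [map_mul, map_mul, MulEquiv.apply_symm_apply] at h1

theorem cent_eq_of_stab (hM : MaxStab H) {x y : Γ} (h : stab H x = stab H y) : (C x) = C y := by
  ext n
  rw [← conj_mem_stab hM, ← conj_mem_stab hM, h]

theorem stab_eq_of_le (hM : MaxStab H) {x y : Γ} (hx : x ∉ center Γ) (hy : y ∉ center Γ)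
    (hle : stab H x ≤ stab H y) : stab H x = stab H y := by
  rcases hM.max x hx _ hle inf_le_left with e | e
  · exact e.symm
  · exfalso
    refine hy (Subgroup.mem_center_iff.2 fun n => ?_)
    have h1 : MulAut.conj n ∈ stab H y := by rw [e]; exact hM.inn n
    exact mem_cent.1 ((conj_mem_stab hM).1 h1)

theorem cent_eq_of_coprime (hM : MaxStab H) {x y : Γ} (hx : x ∉ center Γ) (hy : y ∉ center Γ)
    (hc : y * x = x * y) (hcop : (orderOf x).Coprime (orderOf y)) : (C x) = C y := by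
  have hcomm : Commute x y := hc.symm
  obtain ⟨m, hm⟩ := exists_pow_eq_self_of_coprime (x := x) hcop.symm
  obtain ⟨m', hm'⟩ := exists_pow_eq_self_of_coprime (x := y) hcop
  have e : (x * y) ^ orderOf y = x ^ orderOf y := by rw [hcomm.mul_pow, pow_orderOf_eq_one, mul_one]
  have e' : (x * y) ^ orderOf x = y ^ orderOf x := by rw [hcomm.mul_pow, pow_orderOf_eq_one, one_mul]
  have hxy : x * y ∉ center Γ := by
    intro hz
    apply hx
    rw [← hm, ← e]
    exact pow_mem (pow_mem hz _) _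
  have h1 : stab H (x * y) ≤ stab H x := fun g hg => ⟨hg.1, by
    show g x = x
    rw [← hm, ← e, map_pow, map_pow, show g (x * y) = x * y from hg.2]⟩
  have h2 : stab H (x * y) ≤ stab H y := fun g hg => ⟨hg.1, by
    show g y = y
    rw [← hm', ← e', map_pow, map_pow, show g (x * y) = x * y from hg.2]⟩
  exact cent_eq_of_stab hM ((stab_eq_of_le hM hxy hx h1).symm.trans (stab_eq_of_le hM hxy hy h2))

theorem exists_primary (hM : MaxStab H) {x : Γ} (hx : x ∉ center Γ) :
    ∃ (r : ℕ) (a : Γ), r.Prime ∧ (∃ k, orderOf a = r ^ k) ∧ a ∉ center Γ ∧ (C a) = C x := by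
  by_contra hcon
  push Not at hcon
  apply hx
  refine mem_of_primary (center Γ) fun r hr a ha hk => ?_
  by_contra haz
  refine hcon r a hr hk haz (cent_eq_of_stab hM (stab_eq_of_le hM hx haz fun g hg => ⟨hg.1, ?_⟩)).symm
  obtain ⟨n, rfl⟩ := ha
  show g (x ^ n) = x ^ n
  rw [map_zpow, show g x = x from hg.2]

/-- A centralizer is abelian or an `r`-group modulo the center. -/
theorem abelian_or_pgroup (hM : MaxStab H) {x : Γ} (hx : x ∉ center Γ) :
    IsMulCommutative (C x) ∨ ∃ r : ℕ, r.Prime ∧ ∀ m ∈ C x, ∃ k, m ^ r ^ k ∈ center Γ := by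
  obtain ⟨r, a, hr, ⟨n, hn⟩, haz, hCa⟩ := exists_primary hM hx
  rw [← hCa]
  by_cases hall : ∀ s : ℕ, s.Prime → s ≠ r → ∀ b ∈ C a, (∃ k, orderOf b = s ^ k) → b ∈ center Γ
  · right
    refine ⟨r, hr, fun m hm => ?_⟩
    haveI := Fact.mk hr
    set j := (orderOf m).factorization r with hj
    refine ⟨j, mem_of_primary _ fun s hs b hb hk => ?_⟩
    have hb2 : b ∈ C a := (zpowers_le.2 (pow_mem hm _)) hb
    rcases eq_or_ne s r with rfl | hsr
    · obtain ⟨k, hk⟩ := hk
      have h1 : orderOf b ∣ orderOf m / s ^ j := by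
        obtain ⟨i, rfl⟩ := hb
        refine (orderOf_dvd_of_mem_zpowers ⟨i, rfl⟩).trans ?_
        rw [orderOf_pow_of_dvd (pow_ne_zero _ hr.ne_zero) (Nat.ordProj_dvd _ _)]
      have h2 : Nat.Coprime (s ^ k) (orderOf m / s ^ j) :=
        ((hr.coprime_iff_not_dvd).2 (Nat.not_dvd_ordCompl hr (orderOf_pos m).ne')).pow_left k
      rw [hk] at h1
      have h3 : orderOf b = 1 := by rw [hk]; exact Nat.eq_one_of_dvd_coprimes h2 dvd_rfl h1
      rw [orderOf_eq_one_iff] at h3
      exact h3 ▸ one_mem _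
    · exact hall s hs hsr b hb2 hk
  · left
    push Not at hall
    obtain ⟨s, hs, hsr, b, hb, ⟨k, hk⟩, hbz⟩ := hall
    have hab : (C a) = C b := cent_eq_of_coprime hM haz hbz (mem_cent.1 hb)
      (by rw [hn, hk]; exact Nat.Coprime.pow _ _ ((Nat.coprime_primes hr hs).2 hsr.symm))
    have hcen : ∀ t : ℕ, t.Prime → ∀ c ∈ C a, (∃ i, orderOf c = t ^ i) → (C a) ≤ C c := by
      intro t ht c hc ⟨i, hi⟩
      by_cases hcz : c ∈ center Γ
      · exact le_trans le_top (cent_eq_top_iff.2 hcz).ge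
      rcases eq_or_ne t r with rfl | htr
      · have := cent_eq_of_coprime hM hbz hcz (mem_cent.1 (hab ▸ hc))
          (by rw [hk, hi]; exact Nat.Coprime.pow _ _ ((Nat.coprime_primes hs hr).2 hsr))
        rw [hab, this]
      · rw [cent_eq_of_coprime hM haz hcz (mem_cent.1 hc)
          (by rw [hn, hi]; exact Nat.Coprime.pow _ _ ((Nat.coprime_primes hr ht).2 htr.symm))]
    refine ⟨⟨fun ⟨u, hu⟩ ⟨v, hv⟩ => Subtype.ext ?_⟩⟩
    have hv' : v ∈ C u := by
      suffices v ∈ (C a) ⊓ C u from this.2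
      refine mem_of_primary _ fun t ht c hc hi => ?_
      have hcA : c ∈ C a := zpowers_le.2 hv hc
      exact ⟨hcA, mem_cent_symm (hcen t ht c hcA hi hu)⟩
    exact (mem_cent.1 hv').symm

/-! ### Invariant subgroups -/

theorem Inv.normal (hM : MaxStab H) {D : Subgroup Γ} (hD : Inv H D) : D.Normal :=
  ⟨fun d hd n => hD _ (hM.inn n) d hd⟩

/-- An invariant subgroup not centralizing `x` covers `Γ` together with the centralizer. -/
theorem exists_mul (hM : MaxStab H) {B : Subgroup Γ} (hB : Inv H B) {x : Γ} (hx : x ∉ center Γ)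
    (hBx : ¬ B ≤ C x) (n : Γ) : ∃ b ∈ B, ∃ c ∈ C x, n = b * c := by
  let T : Subgroup (MulAut Γ) :=
    { carrier := {h | h ∈ H ∧ ∃ b ∈ B, h x = b * x * b⁻¹}
      one_mem' := ⟨one_mem _, 1, one_mem _, by simp⟩
      mul_mem' := by
        rintro h h' ⟨hh, b, hb, e⟩ ⟨hh', b', hb', e'⟩
        refine ⟨mul_mem hh hh', h b' * b, mul_mem (hB h hh b' hb') hb, ?_⟩
        rw [MulAut.mul_apply, e', map_mul, map_mul, map_inv, e]
        group
      inv_mem' := by
        rintro h ⟨hh, b, hb, e⟩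
        have e1 : h⁻¹ * h = 1 := inv_mul_cancel h
        have key : ∀ z, h⁻¹ (h z) = z := fun z => by rw [← MulAut.mul_apply, e1, MulAut.one_apply]
        refine ⟨inv_mem hh, (h⁻¹ b)⁻¹, inv_mem (hB _ (inv_mem hh) b hb), ?_⟩
        have e2 := key x
        rw [e, map_mul, map_mul, map_inv] at e2
        conv_rhs => rw [← e2]
        group }
  have h1 : stab H x ≤ T := fun g hg => ⟨hg.1, 1, one_mem _, by simp [show g x = x from hg.2]⟩
  rcases hM.max x hx T h1 (fun g hg => hg.1) with e | e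
  · exfalso
    refine hBx fun b hb => (conj_mem_stab hM).1 ?_
    rw [← e]
    exact ⟨hM.inn b, b, hb, rfl⟩
  · obtain ⟨-, b, hb, hbx⟩ : MulAut.conj n ∈ T := e ▸ hM.inn n
    refine ⟨b, hb, b⁻¹ * n, mem_cent.2 ?_, by group⟩
    have h3 : n * x * n⁻¹ = b * x * b⁻¹ := hbx
    calc b⁻¹ * n * x = b⁻¹ * (n * x * n⁻¹) * n := by group
      _ = b⁻¹ * (b * x * b⁻¹) * n := by rw [h3]
      _ = _ := by group

/-- A subgroup preserved by a stabilizer is invariant or its normalizer lies in the centralizer. -/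
theorem normalizer_le (hM : MaxStab H) {D : Subgroup Γ} {x : Γ} (hx : x ∉ center Γ)
    (hD : ∀ g ∈ stab H x, ∀ d ∈ D, g d ∈ D) (hni : ¬ Inv H D) :
    normalizer (D : Set Γ) ≤ C x := by
  intro n hn
  let T : Subgroup (MulAut Γ) :=
    { carrier := {h | h ∈ H ∧ D.map h.toMonoidHom = D}
      one_mem' := ⟨one_mem _, by rw [show (1 : MulAut Γ).toMonoidHom = MonoidHom.id Γ from rfl, map_id]⟩
      mul_mem' := by
        rintro h h' ⟨hh, e⟩ ⟨hh', e'⟩
        refine ⟨mul_mem hh hh', ?_⟩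
        rw [show (h * h').toMonoidHom = h.toMonoidHom.comp h'.toMonoidHom from rfl, ← map_map, e', e]
      inv_mem' := by
        rintro h ⟨hh, e⟩
        refine ⟨inv_mem hh, ?_⟩
        conv_lhs => rw [← e]
        rw [map_map, show h⁻¹.toMonoidHom.comp h.toMonoidHom = MonoidHom.id Γ from
          MonoidHom.ext fun z => by simp, map_id] }
  have hcard : ∀ g : MulAut Γ, (∀ d ∈ D, g d ∈ D) → D.map g.toMonoidHom = D := by
    intro g hg
    refine eq_of_le_of_card_ge ?_ (card_map_of_injective g.injective).ge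
    rintro z ⟨d, hd, rfl⟩
    exact hg d hd
  have h1 : stab H x ≤ T := fun g hg => ⟨hg.1, hcard g (hD g hg)⟩
  rcases hM.max x hx T h1 (fun g hg => hg.1) with e | e
  · refine (conj_mem_stab hM).1 (e ▸ (⟨hM.inn n, hcard _ fun d hd => ?_⟩ : MulAut.conj n ∈ T))
    exact (mem_normalizer_iff.1 hn d).1 hd
  · exfalso
    refine hni fun g hg d hd => ?_
    have h2 : g ∈ T := e.symm ▸ hg
    rw [← h2.2]
    exact mem_map_of_mem _ hd

theorem cent_stable {x : Γ} : ∀ g ∈ stab H x, ∀ d ∈ C x, g d ∈ C x := fun g hg d hd => by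
  refine mem_cent.2 ?_
  have := congrArg g (mem_cent.1 hd)
  rwa [map_mul, map_mul, show g x = x from hg.2] at this

theorem self_normalizing (hM : MaxStab H) {x : Γ} (hx : x ∉ center Γ) (hni : ¬ Inv H (C x)) :
    normalizer ((C x : Subgroup Γ) : Set Γ) = C x :=
  le_antisymm (normalizer_le hM hx cent_stable hni) le_normalizer

theorem normalizer_map_le (hM : MaxStab H) {x : Γ} (hx : x ∉ center Γ) (hni : ¬ Inv H (C x)) :
    normalizer (((C x).map π : Subgroup (Γ ⧸ center Γ)) : Set (Γ ⧸ center Γ)) ≤ (C x).map π := by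
  intro z hz
  obtain ⟨n, rfl⟩ := QuotientGroup.mk'_surjective (center Γ) z
  refine mem_map_of_mem π ((self_normalizing hM hx hni).le (mem_normalizer_fintype fun d hd => ?_))
  refine mem_of_pi_mem (center_le_cent x) ?_
  rw [map_mul, map_mul, map_inv]
  exact (mem_normalizer_iff.1 hz _).1 (mem_map_of_mem π hd)

theorem exists_normal_coatom_above {Q : Type*} [Group Q] [Finite Q] [Group.IsNilpotent Q]
    {A : Subgroup Q} (hA : A ≠ ⊤) : ∃ B : Subgroup Q, A ≤ B ∧ B.Normal ∧ B.index.Prime := by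
  obtain ⟨B, hB, hAB⟩ := (eq_top_or_exists_le_coatom A).resolve_left hA
  haveI := NormalizerCondition.normal_of_coatom B Group.normalizerCondition_of_isNilpotent hB
  exact ⟨B, hAB, inferInstance, index_prime_of_normal_coatom hB⟩

/-- Powers and commutators fall into any maximal invariant subgroup with nilpotent quotient. -/
theorem exists_prime_exponent {A : Subgroup Γ} [A.Normal] (hA : Inv H A) (hAt : A ≠ ⊤)
    (hmax : ∀ B : Subgroup Γ, Inv H B → A ≤ B → B = A ∨ B = ⊤) (hnil : Group.IsNilpotent (Γ ⧸ A)) :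
    ∃ q : ℕ, q.Prime ∧ (∃ B : Subgroup Γ, A ≤ B ∧ B.index = q) ∧
      ∀ a b : Γ, a ^ q ∈ A ∧ a * b * a⁻¹ * b⁻¹ ∈ A := by
  haveI := hnil
  have hne : (⊥ : Subgroup (Γ ⧸ A)) ≠ ⊤ := by
    intro e
    refine hAt (eq_top_iff.2 fun g _ => ?_)
    have h1 : (g : Γ ⧸ A) ∈ (⊥ : Subgroup (Γ ⧸ A)) := e ▸ mem_top _
    exact (QuotientGroup.eq_one_iff g).1 (mem_bot.1 h1)
  obtain ⟨B', -, hBn, hBp⟩ := exists_normal_coatom_above hne
  haveI := hBn
  set q := B'.index with hq
  set B := B'.comap (QuotientGroup.mk' A) with hBdef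
  haveI : B.Normal := hBn.comap _
  have hBi : B.index = q := index_comap_of_surjective _ (QuotientGroup.mk'_surjective A)
  have hAB : A ≤ B := QuotientGroup.le_comap_mk' A B'
  refine ⟨q, hBp, ⟨B, hAB, hBi⟩, ?_⟩
  set S : Set Γ := (A : Set Γ) ∪ {z | ∃ a, z = a ^ q} ∪ {z | ∃ a b, z = a * b * a⁻¹ * b⁻¹} with hS
  haveI : Fact q.Prime := ⟨hBp⟩
  haveI : IsCyclic (Γ ⧸ B) := isCyclic_of_prime_card (p := q) (by rw [← index_eq_card, hBi])
  have hSB : closure S ≤ B := by
    rw [closure_le]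
    rintro z ((hz | ⟨a, rfl⟩) | ⟨a, b, rfl⟩)
    · exact hAB hz
    · have := Subgroup.pow_index_mem B a
      rwa [hBi] at this
    · show a * b * a⁻¹ * b⁻¹ ∈ B
      rw [← QuotientGroup.eq_one_iff]
      simp only [QuotientGroup.mk_mul, QuotientGroup.mk_inv]
      rw [IsCyclic.commGroup.mul_comm (a : Γ ⧸ B) (b : Γ ⧸ B)]
      group
  have hSinv : Inv H (closure S) := by
    intro g hg d hd
    have hle : (closure S).map g.toMonoidHom ≤ closure S := by
      rw [MonoidHom.map_closure, closure_le]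
      rintro _ ⟨z, (hz | ⟨a, rfl⟩) | ⟨a, b, rfl⟩, rfl⟩
      · exact subset_closure (Or.inl (Or.inl (hA g hg z hz)))
      · exact subset_closure (Or.inl (Or.inr ⟨g a, map_pow g a q⟩))
      · exact subset_closure (Or.inr ⟨g a, g b, by simp⟩)
    exact hle (mem_map_of_mem _ hd)
  rcases hmax _ hSinv (fun z hz => subset_closure (Or.inl (Or.inl hz))) with e | e
  · intro a b
    exact ⟨e ▸ subset_closure (Or.inl (Or.inr ⟨a, rfl⟩)),
      e ▸ subset_closure (Or.inr ⟨a, b, rfl⟩)⟩
  · exfalso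
    have : B = ⊤ := top_le_iff.1 (e ▸ hSB)
    rw [this, index_top] at hBi
    exact hBp.ne_one hBi.symm

/-- An invariant subgroup strictly containing `C x` is everything. -/
theorem cent_maximal (hM : MaxStab H) {x : Γ} (hx : x ∉ center Γ) {B : Subgroup Γ} (hB : Inv H B)
    (hle : (C x) ≤ B) : B = C x ∨ B = ⊤ := by
  by_cases hBx : B ≤ C x
  · exact Or.inl (le_antisymm hBx hle)
  · refine Or.inr (eq_top_iff.2 fun n _ => ?_)
    obtain ⟨b, hb, c, hc, rfl⟩ := exists_mul hM hB hx hBx n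
    exact mul_mem hb (hle hc)

/-- If `Γ/Z` is a `p`-group it is elementary abelian. -/
theorem elementary_of_pgroup (hM : MaxStab H) {p : ℕ} [hp : Fact p.Prime]
    (hQ : IsPGroup p (Γ ⧸ center Γ)) :
    Cfsg.IsElementaryAbelian p (⊤ : Subgroup (Γ ⧸ center Γ)) := by
  haveI := hQ.isNilpotent
  have hkey : ∀ x : Γ, x ∉ center Γ → ∀ a b : Γ, a ^ p ∈ C x ∧ a * b * a⁻¹ * b⁻¹ ∈ C x := by
    intro x hx
    have hinv : Inv H (C x) := by
      by_contra hni
      have hne : (C x).map π ≠ ⊤ := fun e => hx (cent_eq_top_iff.1 (by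
        rw [← comap_map_of_center_le (center_le_cent x), e, comap_top]))
      exact (Group.normalizerCondition_of_isNilpotent ((C x).map π) hne.lt_top).not_ge
        (normalizer_map_le hM hx hni)
    haveI := hinv.normal hM
    have hQ2 : IsPGroup p (Γ ⧸ C x) := hQ.of_surjective
      (QuotientGroup.map (center Γ) (C x) (MonoidHom.id Γ) (fun z hz => center_le_cent x hz))
      (fun z => by
        obtain ⟨g, rfl⟩ := QuotientGroup.mk'_surjective (C x) z
        exact ⟨(g : Γ ⧸ center Γ), rfl⟩)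
    obtain ⟨q, hq, ⟨B, hxB, hBi⟩, hall⟩ := exists_prime_exponent hinv
      (fun e => hx (cent_eq_top_iff.1 e)) (fun B hB hle => cent_maximal hM hx hB hle) hQ2.isNilpotent
    have hqp : q = p := by
      obtain ⟨k, hk⟩ := hQ2.exists_card_eq
      have h1 : q ∣ p ^ k := by
        rw [← hBi, ← hk, ← index_eq_card]
        exact index_dvd_of_le hxB
      exact (Nat.prime_dvd_prime_iff_eq hq hp.out).1 (hq.dvd_of_dvd_pow h1)
    exact hqp ▸ hall
  refine ⟨⟨⟨fun ⟨a, _⟩ ⟨b, _⟩ => Subtype.ext ?_⟩⟩, fun a _ => ?_⟩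
  · obtain ⟨a, rfl⟩ := QuotientGroup.mk'_surjective (center Γ) a
    obtain ⟨b, rfl⟩ := QuotientGroup.mk'_surjective (center Γ) b
    have hz : a * b * a⁻¹ * b⁻¹ ∈ center Γ := Subgroup.mem_center_iff.2 fun x => by
      by_cases hx : x ∈ center Γ
      · exact (Subgroup.mem_center_iff.1 hx _).symm
      exact (mem_cent.1 ((hkey x hx a b).2)).symm
    have h1 := pi_eq_one.2 hz
    simp only [map_mul, map_inv] at h1
    show π a * π b = π b * π a
    calc π a * π b = (π a * π b * (π a)⁻¹ * (π b)⁻¹) * (π b * π a) := by group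
      _ = _ := by rw [h1, one_mul]
  · obtain ⟨a, rfl⟩ := QuotientGroup.mk'_surjective (center Γ) a
    rw [← map_pow, pi_eq_one, Subgroup.mem_center_iff]
    intro x
    by_cases hx : x ∈ center Γ
    · exact (Subgroup.mem_center_iff.1 hx _).symm
    exact (mem_cent.1 ((hkey x hx a a).1)).symm

/-- The target structure. -/
def Target (Q : Type u) [Group Q] : Prop :=
  (∃ p : ℕ, p.Prime ∧ Cfsg.IsElementaryAbelian p (⊤ : Subgroup Q)) ∨
    ∃ (L K : Subgroup Q) (p : ℕ), p.Prime ∧ Cfsg.IsFrobeniusComplement L ∧ (Nat.card L).Prime ∧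
      K.Normal ∧ (K : Set Q) = Cfsg.frobeniusKernel L ∧ Cfsg.IsElementaryAbelian p K

theorem pgroup_of_prime_dvd {Q : Type*} [Group Q] [Finite Q] {r : ℕ}
    (h : ∀ q, q.Prime → q ∣ Nat.card Q → q = r) : IsPGroup r Q :=
  IsPGroup.of_card (n := (Nat.card Q).primeFactorsList.length)
    (Nat.eq_prime_pow_of_unique_prime_dvd Nat.card_pos.ne' fun {d} hd hdd => h d hd hdd)

theorem eq_of_pows_mem {r s : ℕ} (hr : r.Prime) (hs : s.Prime) {g : Γ} (hg : g ∉ center Γ)
    {i j : ℕ} (hi : g ^ r ^ i ∈ center Γ) (hj : g ^ s ^ j ∈ center Γ) : r = s := by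
  by_contra hne
  rw [← pi_eq_one, map_pow] at hi hj
  exact hg (pi_eq_one.1 (orderOf_eq_one_iff.1 (Nat.eq_one_of_dvd_coprimes
    (Nat.Coprime.pow i j ((Nat.coprime_primes hr hs).2 hne))
    (orderOf_dvd_of_pow_eq_one hi) (orderOf_dvd_of_pow_eq_one hj))))

/-- Some centralizer is invariant. -/
theorem target_of_inv (hM : MaxStab H) {x : Γ} (hx : x ∉ center Γ) (hinv : Inv H (C x)) :
    Target (Γ ⧸ center Γ) := by
  classical
  by_cases hpg : ∃ p : ℕ, p.Prime ∧ IsPGroup p (Γ ⧸ center Γ)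
  · obtain ⟨p, hp, hQ⟩ := hpg
    haveI := Fact.mk hp
    exact Or.inl ⟨p, hp, elementary_of_pgroup hM hQ⟩
  push Not at hpg
  set M := C x with hMdef
  haveI hMn : M.Normal := hinv.normal hM
  set A := M ⊓ centralizer (M : Set Γ) with hA
  have hxA : x ∈ A := ⟨mem_cent_self x, mem_centralizer_iff.2 fun m hm => mem_cent.1 hm⟩
  have hAinv : Inv H A := by
    intro g hg d hd
    refine ⟨hinv g hg d hd.1, mem_centralizer_iff.2 fun m hm => ?_⟩
    have h1 := mem_centralizer_iff.1 hd.2 (g⁻¹ m) (hinv _ (inv_mem hg) m hm)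
    have h2 := congrArg g h1
    rw [map_mul, map_mul, ← MulAut.mul_apply, mul_inv_cancel, MulAut.one_apply] at h2
    exact h2
  haveI hAn : A.Normal := hAinv.normal hM
  have hyA : ∀ y, y ∉ M → y ∉ center Γ ∧ ¬ A ≤ C y := fun y hy =>
    ⟨fun e => hy (center_le_cent x e), fun e => hy (mem_cent_symm (e hxA))⟩
  -- non-central elements of `A` centralized outside `M`
  have hAw : ∀ y, y ∉ M → ∀ w ∈ A, w ∈ C y → w ∉ center Γ →
      ∃ r : ℕ, r.Prime ∧ (∀ m ∈ C w, ∃ k, m ^ r ^ k ∈ center Γ) := by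
    intro y hy w hw hwy hwz
    refine (abelian_or_pgroup hM hwz).resolve_left fun hab => hy (mem_cent.2 ?_)
    exact (setLike_mul_comm (mem_cent_symm hwy : y ∈ C w)
      (mem_cent.2 (mem_centralizer_iff.1 hw.2 x (mem_cent_self x)) : x ∈ C w))
  have hW : ∀ y, y ∉ M → ∀ w ∈ A, w ∈ C y → w ∈ center Γ := by
    intro y hy w hw hwy
    by_contra hwz
    obtain ⟨r, hr, hrK⟩ := hAw y hy w hw hwy hwz
    haveI := Fact.mk hr
    set K := C w with hK
    have hMK : M ≤ K := fun m hm => mem_cent.2 (mem_centralizer_iff.1 hw.2 m hm)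
    have hKni : ¬ Inv H K := by
      intro hKi
      rcases cent_maximal hM hx hKi hMK with e | e
      · exact hy (e.le (mem_cent_symm hwy : y ∈ K))
      · exact hwz (cent_eq_top_iff.1 e)
    -- an element of prime order `q ≠ r` modulo the center
    obtain ⟨q, hq, hqd, hqr⟩ : ∃ q, q.Prime ∧ q ∣ Nat.card (Γ ⧸ center Γ) ∧ q ≠ r := by
      by_contra hcon
      push Not at hcon
      exact hpg r hr (pgroup_of_prime_dvd hcon)
    haveI := Fact.mk hq
    obtain ⟨z, hz⟩ := exists_prime_orderOf_dvd_card' q hqd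
    obtain ⟨y', rfl⟩ := QuotientGroup.mk'_surjective (center Γ) z
    have hy'z : y' ∉ center Γ := fun e => hq.ne_one (by rw [← hz, pi_eq_one.2 e, orderOf_one])
    have hy'q : y' ^ q ^ 1 ∈ center Γ := by
      rw [← pi_eq_one, map_pow, pow_one, ← hz, pow_orderOf_eq_one]
    have hy'M : y' ∉ M := fun e => by
      obtain ⟨i, hi⟩ := hrK y' (hMK e)
      exact hqr (eq_of_pows_mem hq hr hy'z hy'q hi)
    have hWy : ∀ v ∈ A, v ∈ C y' → v ∈ center Γ := by
      intro v hv hvy
      by_contra hvz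
      obtain ⟨s, hs, hsK⟩ := hAw y' hy'M v hv hvy hvz
      obtain ⟨i, hi⟩ := hsK x (mem_cent.2 (mem_centralizer_iff.1 hv.2 x (mem_cent_self x)))
      obtain ⟨j, hj⟩ := hrK x (hMK (mem_cent_self x))
      obtain ⟨k, hk⟩ := hsK y' (mem_cent_symm hvy)
      exact hqr ((eq_of_pows_mem hq hs hy'z hy'q hk).trans (eq_of_pows_mem hs hr hx hi hj))
    rcases abelian_or_pgroup hM hy'z with hab | ⟨t, ht, htL⟩
    · -- `Γ/A` is abelian, so `K` is normal
      haveI := hab
      have hKn : K.Normal := by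
        refine ⟨fun k hk g => ?_⟩
        obtain ⟨b, hb, c, hc, rfl⟩ := exists_mul hM hAinv hy'z (hyA y' hy'M).2 g
        obtain ⟨b', hb', c', hc', rfl⟩ := exists_mul hM hAinv hy'z (hyA y' hy'M).2 k
        have h1 : b * c * (b' * c') * (b * c)⁻¹ * (b' * c')⁻¹ ∈ A := by
          rw [← QuotientGroup.eq_one_iff]
          simp only [QuotientGroup.mk_mul, QuotientGroup.mk_inv]
          rw [(QuotientGroup.eq_one_iff b).2 hb, (QuotientGroup.eq_one_iff b').2 hb', one_mul, one_mul]
          simp only [← QuotientGroup.mk_mul, ← QuotientGroup.mk_inv]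
          rw [setLike_mul_comm hc hc', mul_inv_cancel_right, mul_inv_cancel]
          rfl
        have := mul_mem (hMK h1.1) hk
        rwa [inv_mul_cancel_right] at this
      have h1 := self_normalizing hM hwz hKni
      rw [normalizer_eq_top_iff.2 hKn] at h1
      exact hwz (cent_eq_top_iff.1 h1.symm)
    · obtain ⟨i, hi⟩ := htL y' (mem_cent_self y')
      have htq : t = q := eq_of_pows_mem ht hq hy'z hi hy'q
      refine hy (?_ : y ∈ M)
      obtain ⟨b, hb, c, hc, e⟩ := exists_mul hM hAinv hy'z (hyA y' hy'M).2 y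
      have hcK : c ∈ K := by
        have h1 : b⁻¹ * y ∈ K := mul_mem (inv_mem (hMK hb.1)) (mem_cent_symm hwy)
        rwa [e, inv_mul_cancel_left] at h1
      by_cases hcz : c ∈ center Γ
      · rw [e]; exact mul_mem hb.1 (center_le_cent x hcz)
      obtain ⟨i, hi⟩ := htL c hc
      obtain ⟨j, hj⟩ := hrK c hcK
      exact absurd (htq ▸ eq_of_pows_mem ht hr hcz hi hj) hqr
  have hdec : ∀ y, y ∉ M → ∀ n, ∃ b ∈ A, ∃ c ∈ C y, n = b * c := fun y hy n =>
    exists_mul hM hAinv (hyA y hy).1 (hyA y hy).2 n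
  obtain ⟨y₀, hy₀⟩ : ∃ y, y ∉ M := by
    by_contra hcon
    push Not at hcon
    exact hx (cent_eq_top_iff.1 (eq_top_iff.2 fun g _ => hcon g))
  -- `M` is abelian
  have hMA : M ≤ A := by
    rcases abelian_or_pgroup hM hx with hab | ⟨r, hr, hrM⟩
    · exact fun m hm => ⟨hm, mem_centralizer_iff.2 fun g hg => setLike_mul_comm hg hm⟩
    obtain ⟨q, hq, hqd, hqr⟩ : ∃ q, q.Prime ∧ q ∣ Nat.card (Γ ⧸ center Γ) ∧ q ≠ r := by
      by_contra hcon
      push Not at hcon
      exact hpg r hr (pgroup_of_prime_dvd hcon)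
    haveI := Fact.mk hq
    obtain ⟨z, hz⟩ := exists_prime_orderOf_dvd_card' q hqd
    obtain ⟨y, rfl⟩ := QuotientGroup.mk'_surjective (center Γ) z
    have hyz : y ∉ center Γ := fun e => hq.ne_one (by rw [← hz, pi_eq_one.2 e, orderOf_one])
    have hyq : y ^ q ^ 1 ∈ center Γ := by
      rw [← pi_eq_one, map_pow, pow_one, ← hz, pow_orderOf_eq_one]
    have hyM : y ∉ M := fun e => by
      obtain ⟨i, hi⟩ := hrM y e
      exact hqr (eq_of_pows_mem hq hr hyz hyq hi)
    intro m hm
    obtain ⟨b, hb, c, hc, rfl⟩ := hdec y hyM m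
    have hcM : c ∈ M := by
      have := mul_mem (inv_mem (show b ∈ M from hb.1)) hm
      rwa [inv_mul_cancel_left] at this
    suffices hcz : c ∈ center Γ from
      mul_mem hb ⟨hcM, mem_centralizer_iff.2 fun g _ => Subgroup.mem_center_iff.1 hcz g⟩
    by_contra hcz
    rcases abelian_or_pgroup hM hcz with hab | ⟨t, ht, htK⟩
    · exact hyM (mem_cent.2 (setLike_mul_comm (mem_cent_symm hc : y ∈ C c)
        (mem_cent_symm hcM : x ∈ C c)))
    · obtain ⟨i, hi⟩ := htK y (mem_cent_symm hc)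
      obtain ⟨j, hj⟩ := htK x (mem_cent_symm hcM)
      obtain ⟨k, hk⟩ := hrM x (mem_cent_self x)
      exact hqr ((eq_of_pows_mem hq ht hyz hyq hi).trans (eq_of_pows_mem ht hr hx hj hk))
  haveI hMab : IsMulCommutative M := ⟨⟨fun a b => Subtype.ext
    (mem_centralizer_iff.1 (hMA b.2).2 a a.2)⟩⟩
  have hW' : ∀ y, y ∉ M → ∀ w ∈ M, w ∈ C y → w ∈ center Γ := fun y hy w hw => hW y hy w (hMA hw)
  -- `M/Z` is a minimal invariant subgroup
  have hchief : ∀ B : Subgroup Γ, Inv H B → center Γ ≤ B → B ≤ M → B = center Γ ∨ B = M := by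
    intro B hB hZB hBM
    by_cases hBy : B ≤ C y₀
    · exact Or.inl (le_antisymm (fun b hb => hW' y₀ hy₀ b (hBM hb) (hBy hb)) hZB)
    · refine Or.inr (le_antisymm hBM fun m hm => ?_)
      obtain ⟨b, hb, c, hc, rfl⟩ := exists_mul hM hB (hyA y₀ hy₀).1 hBy m
      have hcM : c ∈ M := by
        have := mul_mem (inv_mem (hBM hb)) hm
        rwa [inv_mul_cancel_left] at this
      exact mul_mem hb (hZB (hW' y₀ hy₀ c hcM hc))
  set Mb := M.map π with hMb
  haveI : Mb.Normal := hMn.map _ (QuotientGroup.mk'_surjective _)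
  haveI : IsMulCommutative Mb := Subgroup.map_isMulCommutative M π
  have hMb1 : Mb ≠ ⊥ := quot_ne_bot_of_noncentral (mem_cent_self x) hx
  obtain ⟨p, hp, hpd⟩ := Nat.exists_prime_and_dvd (n := Nat.card Mb) (fun e => hMb1 (card_eq_one.1 e))
  haveI := Fact.mk hp
  have hexp : ∀ a ∈ M, a ^ p ∈ center Γ := by
    let B : Subgroup Γ :=
      { carrier := {a | a ∈ M ∧ a ^ p ∈ center Γ}
        one_mem' := ⟨M.one_mem, by rw [one_pow]; exact one_mem _⟩
        mul_mem' := fun {a b} ha hb => ⟨M.mul_mem ha.1 hb.1, by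
          rw [Commute.mul_pow (setLike_mul_comm ha.1 hb.1)]; exact mul_mem ha.2 hb.2⟩
        inv_mem' := fun {a} ha => ⟨M.inv_mem ha.1, by rw [inv_pow]; exact inv_mem ha.2⟩ }
    obtain ⟨⟨_, a, haM, rfl⟩, ha⟩ := exists_prime_orderOf_dvd_card' (G := Mb) p hpd
    rw [← orderOf_coe] at ha
    rcases hchief B (fun g hg d hd => ⟨hinv g hg d hd.1, by rw [← map_pow]; exact map_center_mem g hd.2⟩)
      (fun z hz => ⟨center_le_cent x hz, pow_mem hz p⟩) (fun z hz => hz.1) with e | e
    · exfalso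
      have hmem : a ∈ B := ⟨haM, by rw [← pi_eq_one, map_pow, ← ha, pow_orderOf_eq_one]⟩
      rw [e, ← pi_eq_one] at hmem
      simp only at ha
      rw [hmem, orderOf_one] at ha
      exact hp.ne_one ha.symm
    · intro a ha; rw [← e] at ha; exact ha.2
  have hMbe : Cfsg.IsElementaryAbelian p Mb := by
    refine ⟨inferInstance, ?_⟩
    rintro _ ⟨a, ha, rfl⟩
    rw [← map_pow]
    exact pi_eq_one.2 (hexp a ha)
  have hMbp : IsPGroup p Mb := fun a => ⟨1, Subtype.ext (by simpa using hMbe.2 a a.2)⟩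
  -- the top factor
  have hnil : Group.IsNilpotent (Γ ⧸ M) := by
    have hy := (hyA y₀ hy₀).1
    set f : ↥(C y₀) →* Γ ⧸ M := (QuotientGroup.mk' M).comp (C y₀).subtype with hf
    have hfs : Function.Surjective f := fun z => by
      obtain ⟨g, rfl⟩ := QuotientGroup.mk'_surjective M z
      obtain ⟨b, hb, c, hc, rfl⟩ := hdec y₀ hy₀ g
      refine ⟨⟨c, hc⟩, ?_⟩
      show QuotientGroup.mk' M c = QuotientGroup.mk' M (b * c)
      rw [map_mul, show QuotientGroup.mk' M b = 1 from (QuotientGroup.eq_one_iff b).2 hb.1, one_mul]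
    rcases abelian_or_pgroup hM hy with hab | ⟨t, ht, htL⟩
    · haveI := hab
      have hc : ∀ a b : Γ ⧸ M, a * b = b * a := by
        intro a b
        obtain ⟨a, rfl⟩ := hfs a
        obtain ⟨b, rfl⟩ := hfs b
        rw [← map_mul, ← map_mul]
        exact congrArg f (Subtype.ext (setLike_mul_comm a.2 b.2))
      letI : CommGroup (Γ ⧸ M) := { (inferInstance : Group (Γ ⧸ M)) with mul_comm := hc }
      infer_instance
    · haveI := Fact.mk ht
      have : IsPGroup t (Γ ⧸ M) := by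
        intro z
        obtain ⟨c, rfl⟩ := hfs z
        obtain ⟨i, hi⟩ := htL c c.2
        refine ⟨i, ?_⟩
        rw [← map_pow]
        exact (QuotientGroup.eq_one_iff _).2 (by simpa using center_le_cent x hi)
      exact this.isNilpotent
  obtain ⟨q, hq, -, hall⟩ := exists_prime_exponent hinv (fun e => hx (cent_eq_top_iff.1 e))
    (fun B hB hle => cent_maximal hM hx hB hle) hnil
  haveI := Fact.mk hq
  have hout : ∀ y, y ∉ M → y ^ q ∈ center Γ := fun y hy =>
    hW' y hy _ (hall y y).1 (pow_mem (mem_cent_self y) q)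
  have hpq : p ≠ q := by
    rintro rfl
    refine hpg p hp fun z => ?_
    obtain ⟨g, rfl⟩ := QuotientGroup.mk'_surjective (center Γ) z
    refine ⟨1, ?_⟩
    rw [pow_one, ← map_pow, pi_eq_one]
    by_cases hg : g ∈ M
    · exact hexp g hg
    · exact hout g hg
  set L := (C y₀).map π with hL
  have hLM : ∀ z ∈ L, z ∈ Mb → z = 1 := by
    rintro _ ⟨c, hc, rfl⟩ hz
    exact pi_eq_one.2 (hW' y₀ hy₀ c (mem_of_pi_mem (center_le_cent x) hz) hc)
  haveI hLab : IsMulCommutative L := by
    refine ⟨⟨?_⟩⟩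
    rintro ⟨_, a, ha, rfl⟩ ⟨_, b, hb, rfl⟩
    refine Subtype.ext ?_
    show π a * π b = π b * π a
    have h1 : π (a * b * a⁻¹ * b⁻¹) = 1 :=
      hLM _ (mem_map_of_mem π (by
        exact mul_mem (mul_mem (mul_mem ha hb) (inv_mem ha)) (inv_mem hb)))
        (mem_map_of_mem π (hall a b).2)
    simp only [map_mul, map_inv] at h1
    calc π a * π b = (π a * π b * (π a)⁻¹ * (π b)⁻¹) * (π b * π a) := by group
      _ = _ := by rw [h1, one_mul]
  have hLq : ∀ z ∈ L, z ^ q = 1 := by
    rintro _ ⟨c, hc, rfl⟩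
    rw [← map_pow]
    exact hLM _ (mem_map_of_mem π (pow_mem hc q)) (mem_map_of_mem π (hall c c).1)
  -- the top acts fixed-point-freely
  have hfpf : CfsgLib.Coprime.IsFpfOn L Mb := by
    rintro _ ⟨l, hl, rfl⟩ hl1
    rw [eq_bot_iff]
    rintro _ ⟨⟨m, hm, rfl⟩, hc⟩
    refine mem_bot.2 (pi_eq_one.2 ?_)
    have hlM : l ∉ M := fun e => hl1 (pi_eq_one.2 (hW' y₀ hy₀ l e hl))
    have hlz : l ∉ center Γ := fun e => hl1 (pi_eq_one.2 e)
    have hc' := mem_centralizer_singleton_iff.1 hc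
    rw [← map_mul, ← map_mul] at hc'
    set z := (l * m)⁻¹ * (m * l) with hz
    have hzc : z ∈ center Γ := by rw [← pi_eq_one, hz, map_mul, map_inv, hc', inv_mul_cancel]
    have e : m * l = l * m * z := by rw [hz]; group
    have hzq : z ^ q = 1 ∧ z ^ p = 1 := by
      have e1 : m * l * m⁻¹ = l * z := by
        rw [e, mul_assoc l m z, Subgroup.mem_center_iff.1 hzc m]
        group
      have e2 : l⁻¹ * m * l = m * z := by rw [mul_assoc, e]; group
      constructor
      · have h1 : m * l ^ q * m⁻¹ = (l * z) ^ q := by rw [← e1, conj_pow]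
        rw [Commute.mul_pow (Subgroup.mem_center_iff.1 hzc l : Commute l z)] at h1
        rw [Subgroup.mem_center_iff.1 (hout l hlM) m, mul_inv_cancel_right, left_eq_mul] at h1
        exact h1
      · have h1 : l⁻¹ * m ^ p * l = (m * z) ^ p := by
          rw [← e2]
          have := conj_pow (a := l⁻¹) (b := m) (i := p)
          rw [inv_inv] at this
          exact this.symm
        rw [Commute.mul_pow (Subgroup.mem_center_iff.1 hzc m : Commute m z)] at h1
        rw [mul_assoc, ← Subgroup.mem_center_iff.1 (hexp m hm) l, inv_mul_cancel_left, left_eq_mul] at h1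
        exact h1
    have hz1 : z = 1 := orderOf_eq_one_iff.1 (Nat.eq_one_of_dvd_coprimes
      ((Nat.coprime_primes hp hq).2 hpq) (orderOf_dvd_of_pow_eq_one hzq.2)
      (orderOf_dvd_of_pow_eq_one hzq.1))
    rw [hz1, mul_one] at e
    exact hW' l hlM m hm (mem_cent.2 e)
  haveI := CfsgLib.Coprime.IsFpfOn.isCyclic
    (normalizer_eq_top_iff.2 (inferInstance : Mb.Normal) ▸ le_top) hfpf hMb1
  have hy1 : π y₀ ≠ 1 := fun e => (hyA y₀ hy₀).1 (pi_eq_one.1 e)
  have hy₀L : π y₀ ∈ L := mem_map_of_mem π (mem_cent_self y₀)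
  have hLcard : Nat.card L = q := by
    obtain ⟨g, hg⟩ := IsCyclic.exists_generator (α := L)
    rw [← orderOf_eq_card_of_forall_mem_zpowers hg]
    refine orderOf_eq_prime (Subtype.ext (by simpa using hLq _ g.2)) fun e => hy1 ?_
    obtain ⟨i, hi⟩ := hg ⟨_, hy₀L⟩
    simp only [e, one_zpow] at hi
    exact (congrArg Subtype.val hi).symm
  -- every element splits
  have hsplit : ∀ z, ∃ a ∈ Mb, ∃ l ∈ L, z = a * l := by
    intro z
    obtain ⟨g, rfl⟩ := QuotientGroup.mk'_surjective (center Γ) z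
    obtain ⟨b, hb, c, hc, rfl⟩ := hdec y₀ hy₀ g
    exact ⟨π b, mem_map_of_mem π hb.1, π c, mem_map_of_mem π hc, map_mul π b c⟩
  have hLn : ∀ z, (∀ l ∈ L, z * l * z⁻¹ ∈ L) → z ∈ L := by
    intro z hz
    obtain ⟨a, ha, l₀, hl₀, rfl⟩ := hsplit z
    suffices a = 1 by rw [this, one_mul]; exact hl₀
    have h1 := hz _ hy₀L
    have h2 : a * π y₀ * a⁻¹ ∈ L := by
      rwa [show a * l₀ * π y₀ * (a * l₀)⁻¹ = a * (l₀ * π y₀ * l₀⁻¹) * a⁻¹ by group,
        setLike_mul_comm hl₀ hy₀L, mul_inv_cancel_right] at h1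
    have h3 : a * π y₀ * a⁻¹ * (π y₀)⁻¹ = 1 := by
      refine hLM _ (mul_mem h2 (inv_mem hy₀L)) ?_
      rw [show a * π y₀ * a⁻¹ * (π y₀)⁻¹ = a * (π y₀ * a⁻¹ * (π y₀)⁻¹) by group]
      exact mul_mem ha ((inferInstance : Mb.Normal).conj_mem _ (inv_mem ha) _)
    have h4 : a * π y₀ = π y₀ * a := by
      calc a * π y₀ = (a * π y₀ * a⁻¹ * (π y₀)⁻¹) * (π y₀ * a) := by group
        _ = _ := by rw [h3, one_mul]
    exact mem_bot.1 (hfpf _ hy₀L hy1 ▸ ⟨ha, mem_centralizer_singleton_iff.2 h4⟩)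
  have hprime : ∀ l ∈ L, l ≠ 1 → zpowers l = L := by
    intro l hl h1
    refine eq_of_le_of_card_ge (zpowers_le.2 hl) ?_
    rw [Nat.card_zpowers, hLcard, orderOf_eq_prime (hLq l hl) h1]
  have hF : Cfsg.IsFrobeniusComplement L := by
    refine ⟨fun e => hy1 (mem_bot.1 (e ▸ hy₀L)), fun e => ?_, fun g hg => ?_⟩
    · apply hMb1
      rw [eq_bot_iff]
      intro z hz
      exact mem_bot.2 (hLM z (e ▸ mem_top z) hz)
    · rw [eq_bot_iff]
      rintro z ⟨hz1, w, hw, rfl⟩
      by_contra hne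
      apply hg
      refine hLn g fun l hl => ?_
      have hw1 : w ≠ 1 := fun e => hne (mem_bot.2 (by rw [e]; exact map_one _))
      rw [← hprime w hw hw1] at hl
      obtain ⟨i, rfl⟩ := hl
      rw [← conj_zpow]
      exact L.zpow_mem hz1 i
  refine Or.inr ⟨L, Mb, p, hp, hF, by rw [hLcard]; exact hq, inferInstance, ?_, hMbe⟩
  ext z
  constructor
  · intro hz
    by_cases h1 : z = 1
    · exact Or.inl h1
    refine Or.inr fun g hg => h1 ?_
    obtain ⟨w, hw, rfl⟩ := hg
    have hwM : w ∈ Mb := by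
      have := (inferInstance : Mb.Normal).conj_mem _ hz g⁻¹
      simpa [mul_assoc] using this
    rw [hLM w hw hwM]
    exact map_one _
  · rintro (rfl | hz)
    · exact one_mem _
    by_contra hzM
    obtain ⟨g, rfl⟩ := QuotientGroup.mk'_surjective (center Γ) z
    have hgM : g ∉ M := fun e => hzM (mem_map_of_mem π e)
    have ho : orderOf (π g) = q := orderOf_eq_prime (by rw [← map_pow]; exact pi_eq_one.2 (hout g hgM))
      (fun e => hzM (e ▸ one_mem _))
    have hcop : ¬ q ∣ Nat.card Mb := fun h => by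
      obtain ⟨n, hn⟩ := IsPGroup.iff_card.1 hMbp
      rw [hn] at h
      exact hpq ((Nat.prime_dvd_prime_iff_eq hq hp).1 (hq.dvd_of_dvd_pow h)).symm
    have hcard : Nat.card (Γ ⧸ center Γ) = Nat.card Mb * q := by
      have hsup : L ⊔ Mb = ⊤ := by
        refine eq_top_iff.2 fun w _ => ?_
        obtain ⟨a, ha, l, hl, rfl⟩ := hsplit w
        exact mul_mem (mem_sup_right ha) (mem_sup_left hl)
      have h := CfsgLib.EABasic.card_sup_mul_card_inf_of_le_normalizer
        (normalizer_eq_top_iff.2 (inferInstance : Mb.Normal) ▸ le_top : L ≤ normalizer (Mb : Set _))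
      have hinf : L ⊓ Mb = ⊥ := (eq_bot_iff_forall _).2 fun w hw => hLM w hw.1 hw.2
      rw [hsup, hinf, card_bot, card_top, mul_one, hLcard] at h
      rw [h, mul_comm]
    have hfac : (Nat.card (Γ ⧸ center Γ)).factorization q = 1 := by
      rw [hcard, Nat.factorization_mul Nat.card_pos.ne' hq.ne_zero, Finsupp.add_apply,
        Nat.factorization_eq_zero_of_not_dvd hcop, hq.factorization_self]
    let SL : Sylow q (Γ ⧸ center Γ) := Sylow.ofCard L (by rw [hLcard, hfac, pow_one])
    let Sg : Sylow q (Γ ⧸ center Γ) := Sylow.ofCard (zpowers (π g))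
      (by rw [Nat.card_zpowers, ho, hfac, pow_one])
    obtain ⟨c, hc⟩ := MulAction.exists_smul_eq (Γ ⧸ center Γ) SL Sg
    have hc' : MulAut.conj c • L = zpowers (π g) := by
      have := congrArg Sylow.toSubgroup hc
      rwa [Sylow.coe_subgroup_smul] at this
    exact hz c (hc' ▸ mem_zpowers _)

theorem main (hM : MaxStab H) (hΓ : ∃ x : Γ, x ∉ center Γ) : Target (Γ ⧸ center Γ) := by
  classical
  obtain ⟨x₀, hx₀⟩ := hΓ
  by_cases hN : ∃ x : Γ, x ∉ center Γ ∧ Inv H (C x)
  · obtain ⟨x, hx, hi⟩ := hN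
    exact target_of_inv hM hx hi
  push Not at hN
  exfalso
  have hnn : ∀ x, x ∉ center Γ → ¬ ((C x).map π).Normal := by
    intro x hx hn
    have h1 := normalizer_map_le hM hx (hN x hx)
    rw [normalizer_eq_top_iff.2 hn, top_le_iff] at h1
    exact hx (cent_eq_top_iff.1 (by rw [← comap_map_of_center_le (center_le_cent x), h1, comap_top]))
  -- the normalizer grows inside nilpotent subgroups
  have hgrow : ∀ x, x ∉ center Γ → ∀ N : Subgroup (Γ ⧸ center Γ), Group.IsNilpotent N →
      (C x).map π ≤ N → (C x).map π = N := by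
    intro x hx N hN' hle
    haveI := hN'
    by_contra hne
    set D := ((C x).map π).subgroupOf N with hD
    have hlt : D < ⊤ := by
      rw [lt_top_iff_ne_top, hD, Ne, subgroupOf_eq_top]
      exact fun h => hne (le_antisymm hle h)
    obtain ⟨n, hn, hnD⟩ := SetLike.exists_of_lt (Group.normalizerCondition_of_isNilpotent D hlt)
    apply hnD
    rw [hD, mem_subgroupOf]
    refine normalizer_map_le hM hx (hN x hx) (mem_normalizer_fintype fun d hd => ?_)
    exact (mem_normalizer_iff.1 hn ⟨d, hle hd⟩).1 hd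
  by_cases hA : ∃ x : Γ, x ∉ center Γ ∧ IsMulCommutative (C x)
  · obtain ⟨x, hx, hab⟩ := hA
    haveI := hab
    set M' := (C x).map π with hM'
    have hsame : ∀ w ∈ C x, w ∉ center Γ → (C w) = C x := by
      intro w hw hwz
      have hle : (C x) ≤ C w := fun v hv => mem_cent.2 (setLike_mul_comm hv hw)
      rcases abelian_or_pgroup hM hwz with hab' | ⟨r, hr, hrK⟩
      · haveI := hab'
        exact le_antisymm (fun v hv => mem_cent.2 (setLike_mul_comm hv (hle (mem_cent_self x)))) hle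
      · haveI := Fact.mk hr
        have hp' : IsPGroup r ((C w).map π) := by
          rintro ⟨z, m, hm, rfl⟩
          obtain ⟨k, hk⟩ := hrK m hm
          exact ⟨k, Subtype.ext (by rw [SubgroupClass.coe_pow, ← map_pow]; exact pi_eq_one.2 hk)⟩
        have e := hgrow x hx _ hp'.isNilpotent (map_mono hle)
        rw [← comap_map_of_center_le (center_le_cent w), ← e, comap_map_of_center_le (center_le_cent x)]
    have hnc : ∀ g w : Γ, g⁻¹ * w * g ∈ center Γ → w ∈ center Γ := fun g w h => by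
      have := (inferInstance : (center Γ).Normal).conj_mem _ h g
      rwa [show g * (g⁻¹ * w * g) * g⁻¹ = w by group] at this
    have hsame2 : ∀ g w : Γ, w ∈ C x → g⁻¹ * w * g ∈ C x → w ∉ center Γ → π g ∈ M' := by
      intro g w hw hw' hwz
      refine normalizer_map_le hM hx (hN x hx) (mem_normalizer_fintype ?_)
      rintro z ⟨m, hm, rfl⟩
      refine ⟨g * m * g⁻¹, ?_, by rw [map_mul, map_mul, map_inv]⟩
      rw [SetLike.mem_coe, ← hsame w hw hwz]
      have hm' : m ∈ C (g⁻¹ * w * g) := by rw [hsame _ hw' (fun e => hwz (hnc g w e))]; exact hm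
      have h3 := mem_cent.1 hm'
      refine mem_cent.2 ?_
      calc g * m * g⁻¹ * w = g * (m * (g⁻¹ * w * g)) * g⁻¹ := by group
        _ = g * (g⁻¹ * w * g * m) * g⁻¹ := by rw [h3]
        _ = _ := by group
    have hF : Cfsg.IsFrobeniusComplement M' := by
      refine ⟨quot_ne_bot_of_noncentral (mem_cent_self x) hx,
        fun e => hnn x hx (by rw [show (C x).map π = ⊤ from e]; infer_instance),
        fun g' hg' => ?_⟩
      obtain ⟨g, rfl⟩ := QuotientGroup.mk'_surjective (center Γ) g'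
      rw [eq_bot_iff]
      rintro z ⟨hz1, hz2⟩
      obtain ⟨w, hw, rfl⟩ := hz1
      by_contra hne
      apply hg'
      exact hsame2 g w hw (mem_of_pi_mem (center_le_cent x) (mem_conj_smul_iff.1 hz2))
        (fun e => hne (mem_bot.2 (pi_eq_one.2 e)))
    obtain ⟨K, hK, hKn, hKc, hKnil⟩ := CfsgLib.Coprime.frob_kernel_data hF
    have hK1 : K ≠ ⊥ := by
      rintro rfl
      exact hF.2.1 (Subgroup.isComplement'_bot_left.1 hKc)
    obtain ⟨k', hk', hk1⟩ := K.bot_or_exists_ne_one.resolve_left hK1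
    obtain ⟨k, rfl⟩ := QuotientGroup.mk'_surjective (center Γ) k'
    have hkz : k ∉ center Γ := fun e => hk1 (pi_eq_one.2 e)
    have hle : (C k).map π ≤ K := by
      rintro z ⟨w, hw, rfl⟩
      rw [← SetLike.mem_coe, hK]
      by_cases hwz : w ∈ center Γ
      · exact Or.inl (pi_eq_one.2 hwz)
      refine Or.inr fun g' hg' => ?_
      obtain ⟨g, rfl⟩ := QuotientGroup.mk'_surjective (center Γ) g'
      have hw' : g⁻¹ * w * g ∈ C x := mem_of_pi_mem (center_le_cent x) (mem_conj_smul_iff.1 hg')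
      have hk2 : g⁻¹ * k * g ∈ C x := by
        rw [← hsame _ hw' (fun e => hwz (hnc g w e))]
        refine mem_cent.2 ?_
        have h3 := mem_cent.1 hw
        calc g⁻¹ * k * g * (g⁻¹ * w * g) = g⁻¹ * (k * w) * g := by group
          _ = g⁻¹ * (w * k) * g := by rw [h3]
          _ = _ := by group
      have hkm : π k ∈ MulAut.conj (π g) • M' := mem_conj_smul_iff.2 (mem_map_of_mem π hk2)
      have hkK : π k ∈ Cfsg.frobeniusKernel M' := by rw [← hK]; exact hk'
      rcases hkK with e | e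
      · exact hk1 e
      · exact e _ hkm
    exact hnn k hkz (hgrow k hkz K hKnil hle ▸ hKn)
  -- every centralizer is a Sylow subgroup of the quotient
  push Not at hA
  set Q := Γ ⧸ center Γ
  have hsyl : ∀ r : ℕ, r.Prime → r ∣ Nat.card Q → ∃ (P : Sylow r Q) (g : Γ), g ∉ center Γ ∧
      (C g).map π = (P : Subgroup Q) := by
    intro r hr hd
    haveI := Fact.mk hr
    obtain ⟨z, hz⟩ := exists_prime_orderOf_dvd_card' r hd
    obtain ⟨g, rfl⟩ := QuotientGroup.mk'_surjective (center Γ) z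
    have hgz : g ∉ center Γ := fun e => by
      rw [pi_eq_one.2 e, orderOf_one] at hz; exact hr.ne_one hz.symm
    obtain ⟨s, hs, hpow⟩ := (abelian_or_pgroup hM hgz).resolve_left (hA g hgz)
    have hsr : s = r := by
      obtain ⟨k, hk⟩ := hpow g (mem_cent_self g)
      refine eq_of_pows_mem hs hr hgz hk (?_ : g ^ r ^ 1 ∈ center Γ)
      rw [← pi_eq_one, map_pow, pow_one, ← hz, pow_orderOf_eq_one]
    subst hsr
    have hMp : IsPGroup s ((C g).map π) := by
      rintro ⟨z, m, hm, rfl⟩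
      obtain ⟨k, hk⟩ := hpow m hm
      exact ⟨k, Subtype.ext (by rw [SubgroupClass.coe_pow, ← map_pow]; exact pi_eq_one.2 hk)⟩
    obtain ⟨P, hP⟩ := hMp.exists_le_sylow
    exact ⟨P, g, hgz, hgrow g hgz _ P.2.isNilpotent hP⟩
  have hsecond : ∀ r : ℕ, r.Prime → ∃ q, q.Prime ∧ q ≠ r ∧ q ∣ Nat.card Q := by
    intro r hr
    by_contra hcon
    push Not at hcon
    haveI := Fact.mk hr
    have hQp : IsPGroup r Q := pgroup_of_prime_dvd fun q hq hqd => by
      by_contra hne; exact hcon q hq hne hqd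
    haveI := hQp.isNilpotent
    have hnil : Group.IsNilpotent (⊤ : Subgroup Q) := Subgroup.isNilpotent _
    exact hnn x₀ hx₀ (hgrow x₀ hx₀ ⊤ hnil le_top ▸ inferInstance)
  -- induced automorphisms of the quotient
  let ind : MulAut Γ → MulAut Q := fun h => QuotientGroup.congr (center Γ) (center Γ) h (by
    ext z
    constructor
    · rintro ⟨w, hw, rfl⟩; exact map_center_mem h hw
    · exact fun hz => ⟨h.symm z, map_center_mem h.symm hz, h.apply_symm_apply z⟩)
  have hind : ∀ (h : MulAut Γ) (n : Γ), ind h (π n) = π (h n) := fun h n => rfl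
  -- no normal subgroup of prime power order
  have hcore : ∀ (r : ℕ), r.Prime → ∀ E : Subgroup Q, E.Normal → IsPGroup r E → E = ⊥ := by
    intro r hr E hE hEp
    by_contra hne
    haveI := Fact.mk hr
    obtain ⟨k, hk⟩ := IsPGroup.iff_card.1 hEp
    have hrd : r ∣ Nat.card Q := by
      refine dvd_trans ?_ (Subgroup.card_subgroup_dvd_card E)
      rw [hk]
      refine dvd_pow_self r fun e => hne ?_
      rw [e, pow_zero] at hk
      exact card_eq_one.1 hk
    obtain ⟨P, g, hg, hgP⟩ := hsyl r hr hrd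
    obtain ⟨q, hq, hqr, hqd⟩ := hsecond r hr
    haveI := Fact.mk hq
    obtain ⟨S, y, hy, hyS⟩ := hsyl q hq hqd
    set Ec := (P : Subgroup Q).normalCore with hEc
    have hEcP : Ec ≤ P := normalCore_le _
    have hEle : E ≤ Ec := Subgroup.normal_le_normalCore.2 (hEp.le_sylow_of_normal P)
    have hEinv : Inv H (Ec.comap π) := by
      intro h _ d hd
      have h1 : (Ec.map (ind h).toMonoidHom).Normal :=
        (normalCore_normal _).map _ (ind h).surjective
      have h2 : IsPGroup r (Ec.map (ind h).toMonoidHom) := (P.2.to_le hEcP).map _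
      have h3 := Subgroup.normal_le_normalCore.2 (h2.le_sylow_of_normal P)
      show π (h d) ∈ Ec
      rw [← hind]
      exact h3 (mem_map_of_mem _ hd)
    have hinf : ∀ {z : Q}, z ∈ (S : Subgroup Q) → z ∈ (P : Subgroup Q) → z = 1 := by
      intro z hz1 hz2
      obtain ⟨i, hi⟩ := S.2 ⟨z, hz1⟩
      obtain ⟨j, hj⟩ := P.2 ⟨z, hz2⟩
      exact orderOf_eq_one_iff.1 (Nat.eq_one_of_dvd_coprimes
        (Nat.Coprime.pow i j ((Nat.coprime_primes hq hr).2 hqr))
        (orderOf_dvd_of_pow_eq_one (congrArg Subtype.val hi))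
        (orderOf_dvd_of_pow_eq_one (congrArg Subtype.val hj)))
    have hnot : ¬ Ec.comap π ≤ C y := by
      intro hle
      refine hne ((eq_bot_iff_forall E).2 fun z hz => ?_)
      obtain ⟨w, rfl⟩ := QuotientGroup.mk'_surjective (center Γ) z
      exact hinf (hyS ▸ mem_map_of_mem π (hle (mem_comap.2 (hEle hz)))) (hEcP (hEle hz))
    have hPE : (P : Subgroup Q) ≤ Ec := by
      intro z hz
      obtain ⟨w, rfl⟩ := QuotientGroup.mk'_surjective (center Γ) z
      obtain ⟨b, hb, c, hc, rfl⟩ := exists_mul hM hEinv hy hnot w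
      rw [map_mul] at hz ⊢
      have hcP : π c ∈ (P : Subgroup Q) := by
        have := mul_mem (inv_mem (hEcP hb)) hz
        rwa [inv_mul_cancel_left] at this
      rw [hinf (hyS ▸ mem_map_of_mem π hc) hcP, mul_one]
      exact hb
    exact hnn g hg (by rw [hgP, le_antisymm hPE hEcP]; exact normalCore_normal _)
  obtain ⟨r, hr, hr2, hrd⟩ := hsecond 2 Nat.prime_two
  haveI := Fact.mk hr
  obtain ⟨P, g, hg, hgP⟩ := hsyl r hr hrd
  have hP1 : (P : Subgroup Q) ≠ ⊥ := hgP ▸ quot_ne_bot_of_noncentral (mem_cent_self g) hg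
  have hPstab : ∀ h ∈ stab H g, (P : Subgroup Q).map (ind h).toMonoidHom = P := by
    intro h hh
    refine eq_of_le_of_card_ge ?_ (card_map_of_injective (ind h).injective).ge
    rw [← hgP]
    rintro _ ⟨_, ⟨d, hd, rfl⟩, rfl⟩
    exact ⟨h d, cent_stable h hh d hd, (hind h d).symm⟩
  -- normalizers of subgroups preserved by the stabilizer
  have hlocal : ∀ E : Subgroup Q, E ≠ ⊥ → IsPGroup r E →
      (∀ h ∈ stab H g, E.map (ind h).toMonoidHom ≤ E) → normalizer (E : Set Q) ≤ (P : Subgroup Q) := by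
    intro E hE hEp hst
    have hst' : ∀ h ∈ stab H g, ∀ d ∈ E.comap π, h d ∈ E.comap π := fun h hh d hd => by
      show π (h d) ∈ E
      rw [← hind]
      exact hst h hh (mem_map_of_mem _ hd)
    have hni : ¬ Inv H (E.comap π) := by
      intro hi
      refine hE (hcore r hr E ?_ hEp)
      have := (hi.normal hM).map π (QuotientGroup.mk'_surjective _)
      rwa [map_comap_eq_self_of_surjective (QuotientGroup.mk'_surjective _)] at this
    intro z hz
    obtain ⟨n, rfl⟩ := QuotientGroup.mk'_surjective (center Γ) z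
    rw [← hgP]
    refine mem_map_of_mem π (normalizer_le hM hg hst' hni (mem_normalizer_fintype fun d hd => ?_))
    show π (n * d * n⁻¹) ∈ E
    rw [map_mul, map_mul, map_inv]
    exact (mem_normalizer_iff.1 hz _).1 hd
  have hcompl : Cfsg.HasNormalPComplement r Q := by
    have hlift : ∀ X : Subgroup Q, X ≤ (P : Subgroup Q) → Cfsg.HasNormalPComplement r X :=
      fun X hX => CfsgLib.Fusion.hasNormalPComplement_of_isPGroup (P.2.to_le hX)
    refine CfsgLib.Fusion.hasNormalPComplement_of_thompson hr2 Q P (hlift _ ?_) (hlift _ ?_)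
    · refine hlocal _ (CfsgLib.Fusion.thompsonSubgroupOf_ne_bot P.2 hP1)
        (P.2.to_le (CfsgLib.Fusion.thompsonSubgroupOf_le _)) fun h hh => ?_
      rw [CfsgLib.Fusion.map_thompsonSubgroupOf _ (fun z _ hz => (ind h).injective (hz.trans (map_one _).symm)),
        hPstab h hh]
    · refine le_trans ?_ (hlocal _ (CfsgLib.Fusion.centerOf_ne_bot P.2 hP1) (P.2.to_le inf_le_left)
        fun h hh => ?_)
      · intro z hz
        refine mem_normalizer_fintype fun d hd => ?_
        rw [← mem_centralizer_iff.1 hz d hd, mul_inv_cancel_right]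
        exact hd
      · rintro _ ⟨z, hz, rfl⟩
        refine ⟨(hPstab h hh).le (mem_map_of_mem _ hz.1), mem_centralizer_iff.2 fun w hw => ?_⟩
        obtain ⟨w', hw', rfl⟩ := (hPstab h hh).ge hw
        show ind h w' * ind h z = ind h z * ind h w'
        rw [← map_mul, ← map_mul, mem_centralizer_iff.1 hz.2 w' hw']
  obtain ⟨P', N, hN', hc⟩ := hcompl
  obtain ⟨q, hq, hqr, hqd⟩ := hsecond r hr
  haveI := Fact.mk hq
  obtain ⟨S, y, hy, hyS⟩ := hsyl q hq hqd
  haveI := hN'
  have hSle : (S : Subgroup Q) ≤ N := by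
    intro z hz
    obtain ⟨i, hi⟩ := S.2 ⟨z, hz⟩
    rw [← QuotientGroup.eq_one_iff]
    have h1 : orderOf (z : Q ⧸ N) ∣ q ^ i := by
      refine (orderOf_map_dvd (QuotientGroup.mk' N) z).trans (orderOf_dvd_of_pow_eq_one ?_)
      exact congrArg Subtype.val hi
    have h2 : orderOf (z : Q ⧸ N) ∣ r ^ (Nat.card Q).factorization r := by
      refine (_root_.orderOf_dvd_natCard _).trans (dvd_of_eq ?_)
      rw [← P'.card_eq_multiplicity, ← Subgroup.index_eq_card]
      exact hc.symm.index_eq_card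
    exact orderOf_eq_one_iff.1 (Nat.eq_one_of_dvd_coprimes
      (Nat.Coprime.pow _ _ ((Nat.coprime_primes hq hr).2 hqr)) h1 h2)
  have hfr := Sylow.normalizer_sup_eq_top' S hSle
  have hns : normalizer ((S : Subgroup Q) : Set Q) ≤ N := by
    refine le_trans ?_ hSle
    rw [← hyS]
    exact normalizer_map_le hM hy (hN y hy)
  replace hfr : N = ⊤ := top_le_iff.1 (hfr.ge.trans (sup_le hns le_rfl))
  have hcard := hc.card_mul_card
  rw [hfr, card_top, P'.card_eq_multiplicity] at hcard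
  have h1 : 1 < r ^ (Nat.card Q).factorization r :=
    Nat.one_lt_pow (hr.factorization_pos_of_dvd Nat.card_pos.ne' hrd).ne' hr.one_lt
  have h2 := Nat.mul_lt_mul_of_pos_left h1 (Nat.card_pos (α := Q))
  rw [mul_one] at h2
  omega

/-- Transfer from an ambient group. -/
theorem main_normal {G : Type u} [Group G] [Finite G] (N : Subgroup G) [N.Normal]
    (hne : ∃ x : N, x ∉ center N)
    (h : ∀ x : G, x ∈ N → x ∉ centralizer (N : Set G) → IsCoatom (centralizer ({x} : Set G))) :
    Target (N ⧸ center N) := by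
  set φ : G →* MulAut N := MulAut.conjNormal with hφ
  refine main (H := φ.range) ⟨fun n => ⟨(n : G), MulEquiv.ext fun m => Subtype.ext (by simp [hφ])⟩,
    fun x hx K hK hKH => ?_⟩ hne
  have hxG : (x : G) ∉ centralizer (N : Set G) := fun e => hx (Subgroup.mem_center_iff.2 fun m =>
    Subtype.ext (mem_centralizer_iff.1 e m m.2))
  have hfix : ∀ g : G, φ g x = x ↔ g ∈ centralizer ({(x : G)} : Set G) := fun g => by
    rw [mem_centralizer_singleton_iff, ← mul_inv_eq_iff_eq_mul, hφ, Subtype.ext_iff,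
      MulAut.conjNormal_apply]
  have hle : centralizer ({(x : G)} : Set G) ≤ K.comap φ := fun g hg =>
    hK ⟨⟨g, rfl⟩, (hfix g).2 hg⟩
  rcases (h x x.2 hxG).le_iff.1 hle with e | e
  · refine Or.inr (le_antisymm hKH ?_)
    rintro _ ⟨g, rfl⟩
    exact (e ▸ mem_top g : g ∈ K.comap φ)
  · refine Or.inl (le_antisymm ?_ hK)
    intro k hk
    obtain ⟨g, rfl⟩ := hKH hk
    exact ⟨⟨g, rfl⟩, (hfix g).2 (e ▸ hk : g ∈ centralizer ({(x : G)} : Set G))⟩

end CfsgLib.PGroup.MaximalCentralizers.NormalVersion
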