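import Mathlib
import Cfsg.Prelude.Def_Transfer
import Cfsg.Agent.Lib.Coprime.Action
import Cfsg.Agent.Lib.PGroup.SmallElementsIndex
import Cfsg.Agent.Lib.PGroup.JordanCover

/-!
# A `p`-element whose class has the largest possible `p`-part
-/

set_option autoImplicit false
open Subgroup

namespace CfsgLib.MaxPPart

universe u

/-- If `x` is a `p`-element of class size `p ^ a` and no class size is divisible by `p ^ (a+1)`,
then `G` has a normal `p`-complement. -/
theorem hasNormalPComplement {G : Type u} [Group G] [Finite G] (p : ℕ) [hp : Fact p.Prime] (a : ℕ)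
    (hmax : ∀ y : G, ¬ p ^ (a + 1) ∣ (centralizer ({y} : Set G)).index) {x : G} {k : ℕ}
    (hx : orderOf x = p ^ k) (hidx : (centralizer ({x} : Set G)).index = p ^ a) :
    Cfsg.HasNormalPComplement p G := by
  set C := centralizer ({x} : Set G) with hC
  obtain ⟨PC⟩ : Nonempty (Sylow p C) := inferInstance
  -- `C = PC * C_C(PC)`
  set D : Subgroup C := centralizer ((PC : Subgroup C) : Set C) with hD
  have hcover : ∀ g : C, ∃ c : C, c⁻¹ * g * c ∈ (PC : Subgroup C) ⊔ D := by
    intro g
    obtain ⟨j, m, hm, hord⟩ := Nat.exists_eq_pow_mul_and_not_dvd (orderOf_pos g).ne' p hp.out.ne_one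
    obtain ⟨u', v', huv⟩ := (Nat.Coprime.isCoprime (Nat.Coprime.pow_left j
      (hp.out.coprime_iff_not_dvd.2 hm)) : IsCoprime (((p ^ j : ℕ)) : ℤ) (m : ℤ))
    set u : C := g ^ ((v' : ℤ) * m)
    set v : C := g ^ (u' * ((p ^ j : ℕ) : ℤ))
    have hguv : g = u * v := by
      rw [← zpow_add, add_comm, huv, zpow_one]
    have hupow : u ^ (p ^ j) = 1 := by
      rw [← zpow_natCast, ← zpow_mul, mul_assoc, show ((m : ℤ) * ((p ^ j : ℕ) : ℤ)) = (orderOf g : ℤ) by
        rw [hord]; push_cast; ring, zpow_mul', zpow_natCast, pow_orderOf_eq_one, one_zpow]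
    have hvpow : v ^ m = 1 := by
      rw [← zpow_natCast, ← zpow_mul, mul_assoc, show (((p ^ j : ℕ) : ℤ) * (m : ℤ)) = (orderOf g : ℤ) by
        rw [hord]; push_cast; ring, zpow_mul', zpow_natCast, pow_orderOf_eq_one, one_zpow]
    have hcomm : Commute u v := (Commute.refl g).zpow_zpow _ _
    -- `v` centralizes a Sylow subgroup of `C`
    have hxv : Commute x (v : G) := ((mem_centralizer_singleton_iff.1 v.2).symm : x * (v : G) = v * x)
    have hcop : Nat.Coprime (orderOf x) (orderOf (v : G)) := by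
      rw [hx, Subgroup.orderOf_coe]
      exact Nat.Coprime.coprime_dvd_right (orderOf_dvd_of_pow_eq_one hvpow)
        (Nat.Coprime.pow_left k (hp.out.coprime_iff_not_dvd.2 hm))
    have hle : centralizer ({x * (v : G)} : Set G) ≤ C ⊓ centralizer ({(v : G)} : Set G) := by
      intro w hw
      rw [mem_centralizer_singleton_iff] at hw
      have hwc : Commute w (x * (v : G)) := hw
      obtain ⟨s, t, hst⟩ := Nat.Coprime.isCoprime hcop
      refine Subgroup.mem_inf.2 ⟨?_, ?_⟩ <;> rw [mem_centralizer_singleton_iff]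
      · have e : x = (x * (v : G)) ^ (t * (orderOf (v : G) : ℤ)) := by
          rw [hxv.mul_zpow, mul_comm t, zpow_mul (v : G), zpow_natCast, pow_orderOf_eq_one, one_zpow, mul_one]
          conv_lhs => rw [← zpow_one x, ← hst, zpow_add, mul_comm s, zpow_mul, zpow_natCast, pow_orderOf_eq_one,
            one_zpow, one_mul, mul_comm]
        rw [e]; exact (hwc.zpow_right _).eq
      · have e : (v : G) = (x * (v : G)) ^ (s * (orderOf x : ℤ)) := by
          rw [hxv.mul_zpow, mul_comm s, zpow_mul x, zpow_natCast, pow_orderOf_eq_one, one_zpow, one_mul]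
          conv_lhs => rw [← zpow_one (v : G), ← hst, zpow_add, mul_comm t, zpow_mul (v : G) (orderOf (v : G) : ℤ),
            zpow_natCast, pow_orderOf_eq_one, one_zpow, mul_one, mul_comm]
        rw [e]; exact (hwc.zpow_right _).eq
    let Cv : Subgroup C := centralizer ({v} : Set C)
    have hCv : ¬ p ∣ Cv.index := by
      intro hd
      refine hmax (x * (v : G)) ?_
      refine dvd_trans ?_ (Subgroup.index_dvd_of_le hle)
      rw [← Subgroup.relIndex_mul_index (inf_le_left : C ⊓ centralizer ({(v : G)} : Set G) ≤ C), hidx,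
        pow_succ']
      refine Nat.mul_dvd_mul_right ?_ _
      rw [Subgroup.inf_relIndex_left]
      have e : (centralizer ({(v : G)} : Set G)).subgroupOf C = Cv := by
        ext w
        simp only [Cv, Subgroup.mem_subgroupOf, mem_centralizer_singleton_iff, Subtype.ext_iff, Subgroup.coe_mul]
      rwa [Subgroup.relIndex, e]
    have huCv : u ∈ Cv := mem_centralizer_singleton_iff.2 hcomm.eq
    obtain ⟨S, hS⟩ := IsPGroup.exists_le_sylow (IsPGroup.of_card_dvd_pow (n := j) (p := p)
      (G := zpowers (⟨u, huCv⟩ : Cv)) (by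
        rw [Nat.card_zpowers, Subgroup.orderOf_mk]
        exact orderOf_dvd_of_pow_eq_one hupow))
    have hSC : ¬ p ∣ ((S : Subgroup Cv).map Cv.subtype).index := by
      rw [Subgroup.index_map_subtype]
      exact hp.out.not_dvd_mul S.not_dvd_index hCv
    let S' : Sylow p C := (S.2.map Cv.subtype).toSylow hSC
    obtain ⟨c, hc⟩ := MulAction.exists_smul_eq C PC S'
    have hc' : ∀ w ∈ (S : Subgroup Cv).map Cv.subtype, c⁻¹ * w * c ∈ (PC : Subgroup C) := by
      intro w hw
      have : w ∈ ((c • PC : Sylow p C) : Subgroup C) := by rw [hc]; exact hw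
      rw [Sylow.coe_subgroup_smul, Subgroup.mem_smul_pointwise_iff_exists] at this
      obtain ⟨z, hz, rfl⟩ := this
      simpa [MulAut.smul_def, MulAut.conj_apply, mul_assoc] using hz
    refine ⟨c, ?_⟩
    rw [hguv, show c⁻¹ * (u * v) * c = c⁻¹ * u * c * (c⁻¹ * v * c) by group]
    refine mul_mem_sup (hc' u ⟨⟨u, huCv⟩, hS (mem_zpowers _), rfl⟩) ?_
    refine mem_centralizer_iff.2 fun w hw => ?_
    have hw' : c * w * c⁻¹ ∈ (S : Subgroup Cv).map Cv.subtype := by
      have : c * w * c⁻¹ ∈ ((c • PC : Sylow p C) : Subgroup C) := by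
        rw [Sylow.coe_subgroup_smul, Subgroup.mem_smul_pointwise_iff_exists]
        exact ⟨w, hw, by simp [MulAut.smul_def, MulAut.conj_apply]⟩
      rwa [hc] at this
    obtain ⟨w', -, hw'e⟩ := hw'
    have h1 : (w' : C) * v = v * w' := mem_centralizer_singleton_iff.1 w'.2
    rw [show w = c⁻¹ * (w' : C) * c by rw [show ((w' : Cv) : C) = c * w * c⁻¹ from hw'e]; group]
    rw [show c⁻¹ * (w' : C) * c * (c⁻¹ * v * c) = c⁻¹ * ((w' : C) * v) * c by group, h1]
    group
  have htop : (PC : Subgroup C) ⊔ D = ⊤ := CfsgLib.PGroup.eq_top_of_forall_conj_mem _ hcover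
  haveI hPn : (PC : Subgroup C).Normal := by
    refine Subgroup.normalizer_eq_top_iff.1 (top_le_iff.1 ?_)
    rw [← htop]
    exact sup_le le_normalizer (CfsgLib.Coprime.centralizer_le_normalizer_self _)
  haveI hDn : D.Normal := by rw [hD]; exact Subgroup.normal_centralizer
  -- the complement of `PC` in `C`
  obtain ⟨K0, hK0⟩ := Subgroup.exists_right_complement'_of_coprime PC.card_coprime_index
  have hK0c : ¬ p ∣ Nat.card K0 := by
    rw [← hK0.symm.index_eq_card]; exact PC.not_dvd_index
  have hK0D : K0 ≤ D := by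
    have h1 : D.index ∣ Nat.card (PC : Subgroup C) := by
      have h0 : D.relIndex ((PC : Subgroup C) ⊔ D) = D.relIndex (PC : Subgroup C) :=
        Subgroup.relIndex_sup_right _ _
      rw [htop, Subgroup.relIndex_top_right] at h0
      rw [h0]; exact Subgroup.relIndex_dvd_card _ _
    have h2 : D.relIndex K0 ∣ Nat.card K0 := Subgroup.relIndex_dvd_card _ _
    have h3 : D.relIndex K0 ∣ D.index := Subgroup.relIndex_dvd_index_of_normal _ _
    rw [← Subgroup.relIndex_eq_one]
    refine Nat.eq_one_of_dvd_coprimes ?_ (h3.trans h1) h2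
    obtain ⟨i, hi⟩ := IsPGroup.iff_card.1 PC.isPGroup'
    rw [hi]; exact Nat.Coprime.pow_left _ (hp.out.coprime_iff_not_dvd.2 hK0c)
  haveI hK0n : K0.Normal := by
    refine Subgroup.normalizer_eq_top_iff.1 (top_le_iff.1 ?_)
    rw [← hK0.sup_eq_top]
    refine sup_le ?_ le_normalizer
    intro w hw
    refine (CfsgLib.Coprime.centralizer_le_normalizer_self K0) (mem_centralizer_iff.2 fun z hz => ?_)
    exact (mem_centralizer_iff.1 (hK0D hz) w hw).symm
  set K : Subgroup G := K0.map C.subtype with hK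
  have hKcard : Nat.card K = Nat.card K0 := Subgroup.card_map_of_injective C.subtype_injective
  have hKidx : ∃ i, K.index = p ^ i := by
    obtain ⟨i, hi⟩ := IsPGroup.iff_card.1 PC.isPGroup'
    refine ⟨i + a, ?_⟩
    rw [hK, Subgroup.index_map_subtype, hK0.index_eq_card, hi, hidx, pow_add]
  -- `K` centralizes `O_p(G)`
  have hxO : x ∈ Cfsg.pCore p G :=
    CfsgLib.PGroup.mem_pCore_of_class_pPower (k := k) (a := a) (by rw [← hx]; exact pow_orderOf_eq_one x) hidx
  haveI := CfsgLib.Coprime.pCore_normal' (G := G) p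
  set O := Cfsg.pCore p G with hO
  have hcentK : ∀ w, ∀ hw : w ∈ C, ∀ z ∈ K, (⟨w, hw⟩ : C) ∈ (PC : Subgroup C) → w * z = z * w := by
    rintro w hw _ ⟨z, hz, rfl⟩ hwP
    exact congrArg Subtype.val (mem_centralizer_iff.1 (hK0D hz) _ hwP)
  have hKO : K ≤ centralizer (O : Set G) := by
    have hOP : IsPGroup p O := CfsgLib.PGroup.isPGroup_pCore p G
    refine CfsgLib.Coprime.pq_lemma (P := zpowers x) (Q := K) (U := O)
      (IsPGroup.of_card (n := k) (by rw [Nat.card_zpowers, hx])) ?_ hOP ?_ ?_ ?_ ?_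
    · rw [hKcard]; exact (hp.out.coprime_iff_not_dvd.2 hK0c).symm
    · rw [zpowers_le, mem_centralizer_iff]
      rintro z ⟨z0, -, rfl⟩
      exact mem_centralizer_singleton_iff.1 z0.2
    · rw [Subgroup.normalizer_eq_top]; exact le_top
    · rw [Subgroup.normalizer_eq_top]; exact le_top
    · rintro w ⟨hwO, hwx⟩
      have hwC : w ∈ C := mem_centralizer_singleton_iff.2 ((mem_centralizer_iff.1 hwx) x (mem_zpowers x)).symm
      have hOC : IsPGroup p (O.subgroupOf C) := hOP.comap_of_injective C.subtype C.subtype_injective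
      have hwP : (⟨w, hwC⟩ : C) ∈ (PC : Subgroup C) :=
        hOC.le_sylow_of_normal PC (show (⟨w, hwC⟩ : C) ∈ O.subgroupOf C from hwO)
      exact mem_centralizer_iff.2 fun z hz => (hcentK w hwC z hz hwP).symm
  have hMC : centralizer (O : Set G) ≤ C := centralizer_le (Set.singleton_subset_iff.2 hxO)
  haveI : (centralizer (O : Set G)).Normal := Subgroup.normal_centralizer
  have hKn : K.Normal := by
    constructor
    intro z hz g
    have h1 : g * z * g⁻¹ ∈ C := hMC (Normal.conj_mem ‹_› z (hKO hz) g)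
    refine ⟨⟨_, h1⟩, ?_, rfl⟩
    refine (QuotientGroup.eq_one_iff (N := K0) _).1 (orderOf_eq_one_iff.1 ?_)
    refine Nat.eq_one_of_dvd_coprimes (a := orderOf (g * z * g⁻¹)) (b := Nat.card (C ⧸ K0)) ?_ ?_
      (orderOf_dvd_natCard _)
    · change Nat.Coprime _ K0.index
      rw [hK0.index_eq_card]
      obtain ⟨i, hi⟩ := IsPGroup.iff_card.1 PC.isPGroup'
      rw [hi]
      refine Nat.Coprime.pow_right _ ?_
      rw [show orderOf (g * z * g⁻¹) = orderOf z from MulEquiv.orderOf_eq (MulAut.conj g) z]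
      refine Nat.Coprime.coprime_dvd_left ?_ (hp.out.coprime_iff_not_dvd.2 hK0c).symm
      rw [← hKcard]
      exact Subgroup.orderOf_dvd_natCard K hz
    · have h2 : orderOf ((⟨g * z * g⁻¹, h1⟩ : C) : C ⧸ K0) ∣ orderOf (⟨g * z * g⁻¹, h1⟩ : C) :=
        orderOf_map_dvd (QuotientGroup.mk' K0) _
      rwa [Subgroup.orderOf_mk] at h2
  obtain ⟨P0⟩ : Nonempty (Sylow p G) := inferInstance
  refine ⟨P0, K, hKn, Subgroup.isComplement'_of_card_mul_and_disjoint ?_ ?_⟩
  · obtain ⟨i, hi⟩ := hKidx
    rw [← K.card_mul_index, hi, P0.card_eq_multiplicity, ← K.card_mul_index, hi]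
    congr 2
    rw [Nat.factorization_mul Nat.card_pos.ne' (pow_ne_zero _ hp.out.ne_zero)]
    have : (Nat.card K).factorization p = 0 := by
      rw [hKcard]; exact Nat.factorization_eq_zero_of_not_dvd hK0c
    simp [Finsupp.add_apply, this, hp.out.factorization_pow]
  · rw [disjoint_iff]
    refine Subgroup.inf_eq_bot_of_coprime ?_
    obtain ⟨i, hi⟩ := IsPGroup.iff_card.1 P0.isPGroup'
    rw [hKcard, hi]
    exact Nat.Coprime.pow_right _ (hp.out.coprime_iff_not_dvd.2 hK0c).symm

end CfsgLib.MaxPPart
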