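import Mathlib
import Cfsg.Prelude.Def_OddOrderLocal
import Cfsg.Agent.Lib.PGroup.CyclicDerivedRegular
import Cfsg.Agent.Lib.PGroup.RegularOmega
import Cfsg.Agent.Lib.Coprime.PGroupFrattini

/-!
# The subgroup lattice over the centre of a metacyclic `p`-group, `p` odd

For a generating pair `y, h` every element is `y ^ i * h ^ j` modulo the centre, with `i, j`
unique modulo `p ^ n`, where `p ^ n` is the order of the derived subgroup.  Every subgroup above
the centre is cut out by `p ^ d ∣ i` and `p ^ e ∣ j` for a suitable pair.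
-/

set_option autoImplicit false
open Subgroup
open scoped commutatorElement

namespace CfsgLib.Metacyclic

universe u

/-- An odd metacyclic `p`-group together with the order of its derived subgroup. -/
structure Setup (p n : ℕ) (G : Type u) [Group G] : Prop where
  odd_p : p ≠ 2
  pGroup : IsPGroup p G
  card_derived : Nat.card (_root_.commutator G) = p ^ n
  meta' : Cfsg.IsMetacyclic G

variable {G : Type u} [Group G] [Finite G] {p n : ℕ} [hp : Fact p.Prime]

theorem exists_setup (hp2 : p ≠ 2) (hG : IsPGroup p G) (hmc : Cfsg.IsMetacyclic G) :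
    ∃ n, Setup p n G :=
  let ⟨n, hn⟩ := (hG.to_subgroup (_root_.commutator G)).exists_card_eq
  ⟨n, hp2, hG, hn, hmc⟩

/-- A normal cyclic subgroup and a second generator. -/
theorem exists_normal_pair (hmc : Cfsg.IsMetacyclic G) : ∃ a b : G, (zpowers a).Normal ∧
    _root_.commutator G ≤ zpowers a ∧ ∀ g : G, ∃ i j : ℤ, g = a ^ i * b ^ j := by
  obtain ⟨N, hN, hNc, hQc⟩ := hmc
  haveI := hN
  obtain ⟨⟨a, ha⟩, hgen⟩ := hNc.exists_generator
  have hNa : N = zpowers a := le_antisymm (fun x hx => by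
    obtain ⟨i, hi⟩ := hgen ⟨x, hx⟩
    exact ⟨i, congrArg Subtype.val hi⟩) (zpowers_le.2 ha)
  obtain ⟨bq, hbq⟩ := hQc.exists_generator
  obtain ⟨b, rfl⟩ := QuotientGroup.mk'_surjective N bq
  refine ⟨a, b, hNa ▸ hN, hNa ▸ ?_, fun g => ?_⟩
  · rw [_root_.commutator_def, commutator_le]
    intro x _ y _
    refine (QuotientGroup.eq_one_iff _).1 ?_
    obtain ⟨i, hi⟩ := hbq (QuotientGroup.mk' N x)
    obtain ⟨j, hj⟩ := hbq (QuotientGroup.mk' N y)
    change QuotientGroup.mk' N ⁅x, y⁆ = 1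
    rw [map_commutatorElement, ← hi, ← hj, commutatorElement_eq_one_iff_mul_comm]
    exact ((Commute.refl (QuotientGroup.mk' N b)).zpow_zpow i j).eq
  · obtain ⟨j, hj⟩ := hbq (QuotientGroup.mk' N g)
    have h1 : g * (b ^ j)⁻¹ ∈ N := by
      refine (QuotientGroup.eq_one_iff _).1 ?_
      change QuotientGroup.mk' N (g * (b ^ j)⁻¹) = 1
      rw [map_mul, map_inv, map_zpow]
      exact mul_inv_eq_one.2 hj.symm
    rw [hNa] at h1
    obtain ⟨i, hi⟩ := mem_zpowers_iff.1 h1
    exact ⟨i, j, by rw [hi, inv_mul_cancel_right]⟩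

namespace Setup

variable (S : Setup p n G)
include S

theorem isCyclic_derived : IsCyclic (_root_.commutator G) := by
  obtain ⟨a, -, -, hle, -⟩ := exists_normal_pair S.meta'
  exact isCyclic_of_injective (Subgroup.inclusion hle) (Subgroup.inclusion_injective hle)

theorem regular : Cfsg.IsRegularPGroup p G :=
  CfsgLib.RegularPowers.isRegular_of_isCyclic_commutator S.odd_p S.pGroup S.isCyclic_derived

/-- Two powers commute exactly when the power of the commutator vanishes. -/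
theorem commute_pow_pow_iff (x y : G) (k m : ℕ) :
    Commute (x ^ p ^ k) (y ^ p ^ m) ↔ ⁅x, y⁆ ^ p ^ (k + m) = 1 := by
  have hR := CfsgLib.RegularPowers.regular_pow_eq_iff S.regular
  calc Commute (x ^ p ^ k) (y ^ p ^ m)
      ↔ (y ^ p ^ m * x * (y ^ p ^ m)⁻¹) ^ p ^ k = x ^ p ^ k := by
        rw [conj_pow, mul_inv_eq_iff_eq_mul, commute_iff_eq]
        exact eq_comm
    _ ↔ (y ^ p ^ m * ((x * y⁻¹ * x⁻¹) ^ p ^ m)) ^ p ^ k = 1 := by
        rw [hR, conj_pow, inv_pow, show y ^ p ^ m * x * (y ^ p ^ m)⁻¹ * x⁻¹ =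
          y ^ p ^ m * (x * (y ^ p ^ m)⁻¹ * x⁻¹) by group]
    _ ↔ (y ^ p ^ m) ^ p ^ k = (((x * y⁻¹ * x⁻¹)⁻¹) ^ p ^ m) ^ p ^ k := by
        rw [hR, inv_pow (x * y⁻¹ * x⁻¹), inv_inv]
    _ ↔ y ^ p ^ (k + m) = (x * y⁻¹ * x⁻¹)⁻¹ ^ p ^ (k + m) := by
        rw [← pow_mul, ← pow_mul, ← pow_add, add_comm m k]
    _ ↔ (y * (x * y⁻¹ * x⁻¹)) ^ p ^ (k + m) = 1 := by rw [hR, inv_inv]
    _ ↔ ⁅x, y⁆ ^ p ^ (k + m) = 1 := by
        rw [show y * (x * y⁻¹ * x⁻¹) = ⁅x, y⁆⁻¹ by simp only [commutatorElement_def]; group,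
          inv_pow, inv_eq_one]

theorem orderOf_commutator {y h : G} (hyh : Subgroup.closure ({y, h} : Set G) = ⊤) :
    orderOf ⁅y, h⁆ = p ^ n := by
  haveI := S.isCyclic_derived
  have hmem : ⁅y, h⁆ ∈ _root_.commutator G := commutator_mem_commutator (mem_top _) (mem_top _)
  have hn := CfsgLib.RegularPowers.normal_zpowers_of_mem_cyclic (N := _root_.commutator G) hmem
  have heq : _root_.commutator G = zpowers ⁅y, h⁆ := by
    refine le_antisymm ?_ (zpowers_le.2 hmem)
    rw [_root_.commutator_def, ← hyh]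
    exact CfsgLib.RegularPowers.commutator_closure_pair_le (fun g _ x hx => hn.conj_mem x hx g)
      (mem_zpowers _)
  rw [← Nat.card_zpowers, ← heq, S.card_derived]

theorem pair_commute_pow_iff {y h : G} (hyh : Subgroup.closure ({y, h} : Set G) = ⊤) (k m : ℕ) :
    Commute (y ^ p ^ k) (h ^ p ^ m) ↔ n ≤ k + m := by
  rw [S.commute_pow_pow_iff, ← orderOf_dvd_iff_pow_eq_one, S.orderOf_commutator hyh,
    Nat.pow_dvd_pow_iff_le_right hp.out.one_lt]

theorem pow_mem_center (x : G) : x ^ p ^ n ∈ center G := by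
  refine mem_center_iff.2 fun g => ?_
  have h : ⁅x, g⁆ ^ p ^ (n + 0) = 1 := by
    have hmem : ⁅x, g⁆ ∈ _root_.commutator G := commutator_mem_commutator (mem_top _) (mem_top _)
    rw [add_zero, ← S.card_derived]
    exact congrArg Subtype.val (pow_card_eq_one' (x := (⟨_, hmem⟩ : _root_.commutator G)))
  have := (S.commute_pow_pow_iff x g n 0).2 h
  rw [pow_zero, pow_one] at this
  exact this.eq.symm

/-- Commuting with the powers of one generator bounds the exponent of the other. -/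
theorem commute_pow_zpow_iff {y h : G} (hyh : Subgroup.closure ({y, h} : Set G) = ⊤) {d : ℕ} (hd : d ≤ n)
    (j : ℤ) : Commute (y ^ p ^ d) (h ^ j) ↔ ((p ^ (n - d) : ℕ) : ℤ) ∣ j := by
  constructor
  · intro hc
    rcases eq_or_ne j 0 with rfl | hj0
    · exact dvd_zero _
    obtain ⟨v, u, hu, hv⟩ := Nat.exists_eq_pow_mul_and_not_dvd (Int.natAbs_ne_zero.2 hj0) p hp.out.ne_one
    have hc1 : Commute (y ^ p ^ d) ((h ^ p ^ v) ^ u) := by
      rw [← pow_mul, ← hv]
      rcases Int.natAbs_eq j with e | e <;> rw [e] at hc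
      · rwa [zpow_natCast] at hc
      · rw [zpow_neg, Commute.inv_right_iff, zpow_natCast] at hc
        exact hc
    obtain ⟨k, hk⟩ := IsPGroup.iff_orderOf.1 S.pGroup (h ^ p ^ v)
    obtain ⟨r, hr⟩ := exists_pow_eq_self_of_coprime (x := h ^ p ^ v) (n := u) (by
      rw [hk]; exact (hp.out.coprime_iff_not_dvd.2 hu).symm.pow_right k)
    have hc2 := hc1.pow_right r
    rw [hr] at hc2
    have := (S.pair_commute_pow_iff hyh d v).1 hc2
    rw [Int.natCast_dvd, hv]
    exact dvd_mul_of_dvd_left (pow_dvd_pow p (by omega)) u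
  · rintro ⟨c, rfl⟩
    rw [zpow_mul, zpow_natCast]
    exact ((S.pair_commute_pow_iff hyh d (n - d)).2 (by omega)).zpow_right c

theorem center_frame {y h : G} (hyh : Subgroup.closure ({y, h} : Set G) = ⊤) {i j : ℤ}
    (hz : y ^ i * h ^ j ∈ center G) : ((p ^ n : ℕ) : ℤ) ∣ i ∧ ((p ^ n : ℕ) : ℤ) ∣ j := by
  have hy : Commute y (y ^ i * h ^ j) := (mem_center_iff.1 hz y)
  have hh : Commute h (y ^ i * h ^ j) := (mem_center_iff.1 hz h)
  constructor
  · have h1 : Commute (h ^ p ^ 0) (y ^ i) := by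
      rw [pow_zero, pow_one]
      have := hh.mul_right ((Commute.refl h).zpow_right j).inv_right
      rwa [mul_inv_cancel_right] at this
    have := (S.commute_pow_zpow_iff (y := h) (h := y) (by rw [Set.pair_comm]; exact hyh) (Nat.zero_le n) i).1 h1
    simpa using this
  · have h1 : Commute (y ^ p ^ 0) (h ^ j) := by
      rw [pow_zero, pow_one]
      have := ((Commute.refl y).zpow_right i).inv_right.mul_right hy
      rwa [inv_mul_cancel_left] at this
    have := (S.commute_pow_zpow_iff hyh (Nat.zero_le n) j).1 h1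
    simpa using this

/-- Coordinates modulo the centre are unique modulo `p ^ n`. -/
theorem frame_unique {y h : G} (hyh : Subgroup.closure ({y, h} : Set G) = ⊤) {i j i' j' : ℤ}
    (hz : (y ^ i' * h ^ j')⁻¹ * (y ^ i * h ^ j) ∈ center G) :
    ((p ^ n : ℕ) : ℤ) ∣ i - i' ∧ ((p ^ n : ℕ) : ℤ) ∣ j - j' := by
  refine S.center_frame hyh ?_
  have hz' := (Subgroup.center G).mul_mem hz (Subgroup.one_mem _)
  have h1 : h ^ j' * ((y ^ i' * h ^ j')⁻¹ * (y ^ i * h ^ j)) * (h ^ j')⁻¹ = y ^ (i - i') * h ^ (j - j') := by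
    group
  rw [← h1]
  exact (inferInstance : (Subgroup.center G).Normal).conj_mem _ hz _

theorem closure_normal_pair {a b : G} (hall : ∀ g : G, ∃ i j : ℤ, g = a ^ i * b ^ j) :
    Subgroup.closure ({a, b} : Set G) = ⊤ := by
  refine eq_top_iff.2 fun g _ => ?_
  obtain ⟨i, j, rfl⟩ := hall g
  have ha : a ∈ Subgroup.closure ({a, b} : Set G) := Subgroup.subset_closure (Or.inl rfl)
  have hb : b ∈ Subgroup.closure ({a, b} : Set G) := Subgroup.subset_closure (Or.inr rfl)
  exact mul_mem (zpow_mem ha i) (zpow_mem hb j)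

/-- The map recording coordinates. -/
theorem card_pairs_le {L : Subgroup G} {y h : G} (hyh : Subgroup.closure ({y, h} : Set G) = ⊤) {d e : ℕ}
    (hd : d ≤ n) (he : e ≤ n) (hZ : center G ≤ L)
    (hyd : y ^ p ^ d ∈ L) (hhe : h ^ p ^ e ∈ L) :
    Nat.card (center G) * (p ^ (n - d) * p ^ (n - e)) ≤ Nat.card L := by
  let f : center G × Fin (p ^ (n - d)) × Fin (p ^ (n - e)) → L := fun z =>
    ⟨(y ^ p ^ d) ^ (z.2.1 : ℕ) * (h ^ p ^ e) ^ (z.2.2 : ℕ) * z.1,
      mul_mem (mul_mem (pow_mem hyd _) (pow_mem hhe _)) (hZ z.1.2)⟩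
  have hf : Function.Injective f := by
    rintro ⟨z, i, j⟩ ⟨z', i', j'⟩ heq
    have h1 : (y ^ p ^ d) ^ (i : ℕ) * (h ^ p ^ e) ^ (j : ℕ) * z =
        (y ^ p ^ d) ^ (i' : ℕ) * (h ^ p ^ e) ^ (j' : ℕ) * z' := congrArg Subtype.val heq
    have h2 : (y ^ ((p ^ d * i' : ℕ) : ℤ) * h ^ ((p ^ e * j' : ℕ) : ℤ))⁻¹ *
        (y ^ ((p ^ d * i : ℕ) : ℤ) * h ^ ((p ^ e * j : ℕ) : ℤ)) ∈ center G := by
      simp only [zpow_natCast, pow_mul]
      rw [show ((y ^ p ^ d) ^ (i' : ℕ) * (h ^ p ^ e) ^ (j' : ℕ))⁻¹ *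
        ((y ^ p ^ d) ^ (i : ℕ) * (h ^ p ^ e) ^ (j : ℕ)) = (z' : G) * (z : G)⁻¹ by
          rw [eq_mul_inv_iff_mul_eq, mul_assoc, h1]; group]
      exact mul_mem z'.2 (inv_mem z.2)
    obtain ⟨hi, hj⟩ := S.frame_unique hyh h2
    have key : ∀ (c : ℕ) (_ : c ≤ n) (u v : Fin (p ^ (n - c))),
        ((p ^ n : ℕ) : ℤ) ∣ ((p ^ c * u : ℕ) : ℤ) - ((p ^ c * v : ℕ) : ℤ) → u = v := by
      intro c hc u v hd'
      have h3 := (Nat.modEq_iff_dvd.2 hd').symm
      rw [show p ^ n = p ^ c * p ^ (n - c) by rw [← pow_add, Nat.add_sub_cancel' hc]] at h3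
      exact Fin.ext ((Nat.ModEq.mul_left_cancel' (pow_ne_zero _ hp.out.ne_zero) h3).eq_of_lt_of_lt u.2 v.2)
    obtain rfl := key d hd i i' hi
    obtain rfl := key e he j j' hj
    simp only [Prod.mk.injEq, and_self, and_true]
    exact Subtype.ext (mul_left_cancel h1)
  have := Nat.card_le_card_of_injective f hf
  simpa [Nat.card_prod] using this

theorem index_center : Nat.card (center G) * (p ^ n * p ^ n) = Nat.card G := by
  obtain ⟨a, b, -, -, hall⟩ := exists_normal_pair S.meta'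
  have hab := S.closure_normal_pair hall
  refine le_antisymm ?_ ?_
  · have := S.card_pairs_le (L := ⊤) hab (d := 0) (e := 0) (Nat.zero_le n) (Nat.zero_le n) le_top
      (mem_top _) (mem_top _)
    simpa using this
  · let f : center G × Fin (p ^ n) × Fin (p ^ n) → G := fun z => a ^ (z.2.1 : ℕ) * b ^ (z.2.2 : ℕ) * z.1
    have hf : Function.Surjective f := by
      intro g
      obtain ⟨i, j, rfl⟩ := hall g
      have hq : (0 : ℤ) < (p ^ n : ℕ) := by exact_mod_cast pow_pos hp.out.pos n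
      have hz1 : a ^ ((i / (p ^ n : ℕ)) * (p ^ n : ℕ)) ∈ center G := by
        rw [mul_comm, zpow_mul, zpow_natCast]; exact zpow_mem (S.pow_mem_center a) _
      have hz2 : b ^ ((j / (p ^ n : ℕ)) * (p ^ n : ℕ)) ∈ center G := by
        rw [mul_comm, zpow_mul, zpow_natCast]; exact zpow_mem (S.pow_mem_center b) _
      refine ⟨⟨⟨_, mul_mem hz1 hz2⟩, ⟨(i % (p ^ n : ℕ)).toNat, ?_⟩, ⟨(j % (p ^ n : ℕ)).toNat, ?_⟩⟩, ?_⟩
      · have := Int.emod_lt_of_pos i hq
        have := Int.emod_nonneg i hq.ne'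
        omega
      · have := Int.emod_lt_of_pos j hq
        have := Int.emod_nonneg j hq.ne'
        omega
      · simp only [f, ← zpow_natCast a, ← zpow_natCast b, Int.toNat_of_nonneg (Int.emod_nonneg _ hq.ne')]
        have e1 : a ^ i = a ^ (i % (p ^ n : ℕ)) * a ^ ((i / (p ^ n : ℕ)) * (p ^ n : ℕ)) := by
          rw [← zpow_add, Int.emod_add_ediv_mul]
        have e2 : b ^ j = b ^ (j % (p ^ n : ℕ)) * b ^ ((j / (p ^ n : ℕ)) * (p ^ n : ℕ)) := by
          rw [← zpow_add, Int.emod_add_ediv_mul]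
        rw [e1, e2, ← mul_assoc]
        simp only [mul_assoc]
        congr 1
        rw [← mul_assoc, mem_center_iff.1 hz1, mul_assoc]
    have := Nat.card_le_card_of_surjective f hf
    simpa [Nat.card_prod] using this

theorem exists_coords {y h : G} (hyh : Subgroup.closure ({y, h} : Set G) = ⊤) (g : G) :
    ∃ i j : ℕ, ∃ z ∈ center G, g = y ^ i * h ^ j * z := by
  let f : center G × Fin (p ^ n) × Fin (p ^ n) → G := fun z => y ^ (z.2.1 : ℕ) * h ^ (z.2.2 : ℕ) * z.1
  have hf : Function.Injective f := by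
    rintro ⟨z, i, j⟩ ⟨z', i', j'⟩ heq
    have h1 : y ^ (i : ℕ) * h ^ (j : ℕ) * z = y ^ (i' : ℕ) * h ^ (j' : ℕ) * z' := heq
    have h2 : (y ^ ((i' : ℕ) : ℤ) * h ^ ((j' : ℕ) : ℤ))⁻¹ *
        (y ^ ((i : ℕ) : ℤ) * h ^ ((j : ℕ) : ℤ)) ∈ center G := by
      simp only [zpow_natCast]
      rw [show (y ^ (i' : ℕ) * h ^ (j' : ℕ))⁻¹ * (y ^ (i : ℕ) * h ^ (j : ℕ)) = (z' : G) * (z : G)⁻¹ by
          rw [eq_mul_inv_iff_mul_eq, mul_assoc, h1]; group]
      exact mul_mem z'.2 (inv_mem z.2)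
    obtain ⟨hi, hj⟩ := S.frame_unique hyh h2
    obtain rfl : i = i' := Fin.ext (((Nat.modEq_iff_dvd.2 hi).eq_of_lt_of_lt i'.2 i.2).symm)
    obtain rfl : j = j' := Fin.ext (((Nat.modEq_iff_dvd.2 hj).eq_of_lt_of_lt j'.2 j.2).symm)
    simp only [Prod.mk.injEq, and_self, and_true]
    exact Subtype.ext (mul_left_cancel h1)
  obtain ⟨⟨z, i, j⟩, hz⟩ := ((Nat.bijective_iff_injective_and_card f).2 ⟨hf, by
    simpa [Nat.card_prod] using S.index_center⟩).2 g
  exact ⟨i, j, z, z.2, hz.symm⟩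

/-- Exact count of a subgroup given by its coordinates. -/
theorem card_frame {L : Subgroup G} {y h : G} (hyh : Subgroup.closure ({y, h} : Set G) = ⊤) {d e : ℕ}
    (hd : d ≤ n) (he : e ≤ n) (hZ : center G ≤ L) (hyd : y ^ p ^ d ∈ L) (hhe : h ^ p ^ e ∈ L)
    (hL : ∀ i j : ℕ, y ^ i * h ^ j ∈ L → p ^ d ∣ i ∧ p ^ e ∣ j) :
    Nat.card L * p ^ (d + e) = Nat.card G := by
  have h1 := S.card_pairs_le hyh hd he hZ hyd hhe
  have h2 : Nat.card L ≤ Nat.card (center G) * (p ^ (n - d) * p ^ (n - e)) := by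
    let f : center G × Fin (p ^ (n - d)) × Fin (p ^ (n - e)) → G := fun z =>
      (y ^ p ^ d) ^ (z.2.1 : ℕ) * (h ^ p ^ e) ^ (z.2.2 : ℕ) * z.1
    have hsub : (L : Set G) ⊆ Set.range f := by
      intro g hg
      obtain ⟨i, j, z, hz, rfl⟩ := S.exists_coords hyh g
      have hg' : y ^ i * h ^ j ∈ L := by
        have := mul_mem hg (inv_mem (hZ hz))
        rwa [mul_inv_cancel_right] at this
      obtain ⟨⟨i', rfl⟩, ⟨j', rfl⟩⟩ := hL i j hg'
      have ei : y ^ (p ^ d * i') = (y ^ p ^ d) ^ (i' % p ^ (n - d)) * (y ^ p ^ n) ^ (i' / p ^ (n - d)) := by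
        rw [← pow_mul, ← pow_mul, ← pow_add]
        congr 1
        conv_lhs => rw [← Nat.mod_add_div i' (p ^ (n - d))]
        rw [mul_add, ← mul_assoc, ← pow_add, Nat.add_sub_cancel' hd]
      have ej : h ^ (p ^ e * j') = (h ^ p ^ e) ^ (j' % p ^ (n - e)) * (h ^ p ^ n) ^ (j' / p ^ (n - e)) := by
        rw [← pow_mul, ← pow_mul, ← pow_add]
        congr 1
        conv_lhs => rw [← Nat.mod_add_div j' (p ^ (n - e))]
        rw [mul_add, ← mul_assoc, ← pow_add, Nat.add_sub_cancel' he]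
      have hcy := pow_mem (S.pow_mem_center y) (i' / p ^ (n - d))
      have hch := pow_mem (S.pow_mem_center h) (j' / p ^ (n - e))
      refine ⟨⟨⟨_, mul_mem (mul_mem hcy hch) hz⟩, ⟨i' % p ^ (n - d), Nat.mod_lt _ (pow_pos hp.out.pos _)⟩,
        ⟨j' % p ^ (n - e), Nat.mod_lt _ (pow_pos hp.out.pos _)⟩⟩, ?_⟩
      simp only [f, ei, ej]
      simp only [mul_assoc]
      congr 1
      rw [← mul_assoc, mem_center_iff.1 hcy, mul_assoc]
    calc Nat.card L ≤ Nat.card (Set.range f) := Nat.card_mono (Set.toFinite _) hsub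
      _ ≤ Nat.card (center G × Fin (p ^ (n - d)) × Fin (p ^ (n - e))) := Finite.card_range_le f
      _ = _ := by simp [Nat.card_prod]
  rw [le_antisymm h2 h1, ← S.index_center, mul_assoc, ← pow_add, ← pow_add, ← pow_add]
  congr 2
  omega

theorem mem_centralizer_pow_iff {y h : G} (hyh : Subgroup.closure ({y, h} : Set G) = ⊤) {d : ℕ} (hd : d ≤ n)
    (i j : ℕ) : Commute (y ^ p ^ d) (y ^ i * h ^ j) ↔ p ^ (n - d) ∣ j := by
  have h1 : Commute (y ^ p ^ d) (y ^ i) := (Commute.refl y).pow_pow _ _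
  rw [← Int.natCast_dvd_natCast, ← S.commute_pow_zpow_iff hyh hd, zpow_natCast]
  refine ⟨fun hc => ?_, fun hc => h1.mul_right hc⟩
  have := h1.inv_right.mul_right hc
  rwa [inv_mul_cancel_left] at this

theorem mem_centralizer_pow_iff' {y h : G} (hyh : Subgroup.closure ({y, h} : Set G) = ⊤) {e : ℕ} (he : e ≤ n)
    (i j : ℕ) : Commute (h ^ p ^ e) (y ^ i * h ^ j) ↔ p ^ (n - e) ∣ i := by
  have h1 : Commute (h ^ p ^ e) (h ^ j) := (Commute.refl h).pow_pow _ _
  rw [← Int.natCast_dvd_natCast, ← S.commute_pow_zpow_iff (y := h) (h := y)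
    (by rw [Set.pair_comm]; exact hyh) he, zpow_natCast]
  refine ⟨fun hc => ?_, fun hc => hc.mul_right h1⟩
  have := hc.mul_right h1.inv_right
  rwa [mul_inv_cancel_right] at this

/-- The centralizer of a power of a generator. -/
theorem card_centralizer_pow {y h : G} (hyh : Subgroup.closure ({y, h} : Set G) = ⊤) {m : ℕ} (hm : m ≤ n) :
    (centralizer ({y ^ p ^ m} : Set G)).index = p ^ (n - m) := by
  have hc : Nat.card (centralizer ({y ^ p ^ m} : Set G)) * p ^ (0 + (n - m)) = Nat.card G := by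
    refine S.card_frame hyh (Nat.zero_le n) (Nat.sub_le n m) (center_le_centralizer _) ?_ ?_ ?_
    · exact mem_centralizer_singleton_iff.2 ((Commute.refl y).pow_pow _ _).eq
    · exact mem_centralizer_singleton_iff.2 ((S.pair_commute_pow_iff hyh m (n - m)).2 (by omega)).eq.symm
    · intro i j hij
      exact ⟨by simp, (S.mem_centralizer_pow_iff hyh hm i j).1 (mem_centralizer_singleton_iff.1 hij).symm⟩
  rw [zero_add, ← (centralizer ({y ^ p ^ m} : Set G)).card_mul_index] at hc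
  exact (Nat.eq_of_mul_eq_mul_left Nat.card_pos hc).symm

/-- Every non-identity element is a `p`-power power of a member of a generating pair. -/
theorem exists_root {g : G} (hg : g ≠ 1) :
    ∃ (y h : G) (m : ℕ), Subgroup.closure ({y, h} : Set G) = ⊤ ∧ g = y ^ p ^ m := by
  obtain ⟨a, b, -, -, hall⟩ := exists_normal_pair S.meta'
  have hab := S.closure_normal_pair hall
  suffices key : ∀ (r : ℕ) (g : G), g ≠ 1 → Nat.card G ≤ orderOf g + r →
      ∃ (y h : G) (m : ℕ), Subgroup.closure ({y, h} : Set G) = ⊤ ∧ g = y ^ p ^ m from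
    key (Nat.card G) g hg (Nat.le_add_left _ _)
  intro r
  induction r using Nat.strong_induction_on with
  | _ r ih =>
    intro g hg hr
    obtain ⟨i, j, rfl⟩ := hall g
    have hgen : ∀ (x : G) (k : ℤ), ¬ (p : ℤ) ∣ k → x ∈ zpowers (x ^ k) := by
      intro x k hk
      obtain ⟨c, hc⟩ := IsPGroup.iff_orderOf.1 S.pGroup x
      obtain ⟨u, v, huv⟩ := ((Nat.prime_iff_prime_int.1 hp.out).coprime_iff_not_dvd.2 hk).pow_left (m := c)
      refine ⟨v, ?_⟩
      change (x ^ k) ^ v = x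
      calc (x ^ k) ^ v = x ^ (u * (p : ℤ) ^ c + v * k) := by
            rw [zpow_add, mul_comm u, zpow_mul, ← Nat.cast_pow, zpow_natCast, ← hc, pow_orderOf_eq_one,
              _root_.one_zpow, one_mul, ← zpow_mul, mul_comm]
        _ = x := by rw [huv, zpow_one]
    by_cases hi : (p : ℤ) ∣ i
    swap
    · refine ⟨_, b, 0, eq_top_iff.2 (hab ▸ (closure_le _).2 ?_), by rw [pow_zero, pow_one]⟩
      rintro x (rfl | rfl)
      · refine zpowers_le.2 ?_ (hgen x i hi)
        have := mul_mem (Subgroup.subset_closure (Or.inl rfl) : _ ∈ Subgroup.closure ({x ^ i * b ^ j, b} : Set G))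
          (inv_mem (zpow_mem (Subgroup.subset_closure (Or.inr rfl) : b ∈ Subgroup.closure ({x ^ i * b ^ j, b} : Set G)) j))
        rwa [mul_inv_cancel_right] at this
      · exact Subgroup.subset_closure (Or.inr rfl)
    by_cases hj : (p : ℤ) ∣ j
    swap
    · refine ⟨_, a, 0, eq_top_iff.2 (hab ▸ (closure_le _).2 ?_), by rw [pow_zero, pow_one]⟩
      rintro x (rfl | rfl)
      · exact Subgroup.subset_closure (Or.inr rfl)
      · refine zpowers_le.2 ?_ (hgen x j hj)
        have := mul_mem (inv_mem (zpow_mem (Subgroup.subset_closure (Or.inr rfl) : a ∈ Subgroup.closure ({a ^ i * x ^ j, a} : Set G)) i))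
          (Subgroup.subset_closure (Or.inl rfl) : _ ∈ Subgroup.closure ({a ^ i * x ^ j, a} : Set G))
        rwa [inv_mul_cancel_left] at this
    obtain ⟨i', rfl⟩ := hi
    obtain ⟨j', rfl⟩ := hj
    obtain ⟨x, -, hx⟩ := CfsgLib.RegularPowers.exists_pow_eq S.pGroup (n := 1)
      (fun u v => S.regular.2 u v 1) _ ⊤ rfl (a ^ i') (mem_top _) (b ^ j') (mem_top _)
    have hg' : a ^ ((p : ℤ) * i') * b ^ ((p : ℤ) * j') = x ^ p := by
      rw [pow_one] at hx
      rw [mul_comm (p : ℤ), zpow_mul, mul_comm (p : ℤ), zpow_mul, zpow_natCast, zpow_natCast]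
      exact hx
    rw [hg'] at hg hr ⊢
    have hx1 : x ≠ 1 := fun e => hg (by rw [e, one_pow])
    have hlt : orderOf (x ^ p) < orderOf x := by
      obtain ⟨c, hc⟩ := IsPGroup.iff_orderOf.1 S.pGroup x
      have hc0 : c ≠ 0 := fun e => hx1 (orderOf_eq_one_iff.1 (by rw [hc, e, pow_zero]))
      rw [orderOf_pow_of_dvd hp.out.ne_zero (hc ▸ dvd_pow_self p hc0)]
      exact Nat.div_lt_self (orderOf_pos x) hp.out.one_lt
    have hle : orderOf x ≤ Nat.card G := orderOf_le_card
    obtain ⟨y, h, m, hyh, rfl⟩ := ih (Nat.card G - orderOf x) (by omega) x hx1 (by omega)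
    exact ⟨y, h, m + 1, hyh, by rw [← pow_mul, ← pow_succ]⟩

/-- Every subgroup above the centre has a frame. -/
theorem exists_frame {L : Subgroup G} (hZ : center G ≤ L) :
    ∃ (y h : G) (d e : ℕ), Subgroup.closure ({y, h} : Set G) = ⊤ ∧ d ≤ n ∧ e ≤ n ∧ y ^ p ^ d ∈ L ∧
      h ^ p ^ e ∈ L ∧ (∀ i j : ℕ, y ^ i * h ^ j ∈ L → p ^ d ∣ i ∧ p ^ e ∣ j) := by
  classical
  obtain ⟨a, b, -, -, hall⟩ := exists_normal_pair S.meta'
  have hab := S.closure_normal_pair hall
  have hex : ∃ d, ∃ y h : G, Subgroup.closure ({y, h} : Set G) = ⊤ ∧ y ^ p ^ d ∈ L :=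
    ⟨n, a, b, hab, hZ (S.pow_mem_center a)⟩
  obtain ⟨y, h, hyh, hyd⟩ := Nat.find_spec hex
  set d := Nat.find hex
  have hd : d ≤ n := Nat.find_le ⟨a, b, hab, hZ (S.pow_mem_center a)⟩
  have hex' : ∃ e, h ^ p ^ e ∈ L := ⟨n, hZ (S.pow_mem_center h)⟩
  set e := Nat.find hex'
  have he : e ≤ n := Nat.find_le (hZ (S.pow_mem_center h))
  refine ⟨y, h, d, e, hyh, hd, he, hyd, Nat.find_spec hex', fun i j hij => ?_⟩
  have hi : p ^ d ∣ i := by
    rcases eq_or_ne (y ^ i * h ^ j) 1 with h1 | h1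
    · have := (S.center_frame hyh (i := i) (j := j) (by rw [zpow_natCast, zpow_natCast, h1]; exact one_mem _)).1
      exact (pow_dvd_pow p hd).trans (Int.natCast_dvd_natCast.1 this)
    obtain ⟨y₁, h₁, m, hyh₁, hm⟩ := S.exists_root h1
    have hdm : d ≤ m := Nat.find_le ⟨y₁, h₁, hyh₁, hm ▸ hij⟩
    have hc : Commute (h ^ p ^ (n - d)) (y ^ i * h ^ j) := by
      rw [hm]
      refine ((S.commute_pow_pow_iff y₁ h m (n - d)).2 ?_).symm
      have hmem : ⁅y₁, h⁆ ∈ _root_.commutator G := commutator_mem_commutator (mem_top _) (mem_top _)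
      have hpow : ⁅y₁, h⁆ ^ p ^ n = 1 := by
        rw [← S.card_derived]
        exact congrArg Subtype.val (pow_card_eq_one' (x := (⟨_, hmem⟩ : _root_.commutator G)))
      exact orderOf_dvd_iff_pow_eq_one.1 ((orderOf_dvd_of_pow_eq_one hpow).trans (pow_dvd_pow p (by omega)))
    have := (S.mem_centralizer_pow_iff' hyh (Nat.sub_le n d) i j).1 hc
    rwa [show n - (n - d) = d by omega] at this
  refine ⟨hi, ?_⟩
  have hj : h ^ j ∈ L := by
    obtain ⟨c, rfl⟩ := hi
    have := mul_mem (inv_mem (pow_mem hyd c)) hij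
    rwa [← pow_mul, inv_mul_cancel_left] at this
  rcases Nat.eq_zero_or_pos j with rfl | hj0
  · exact dvd_zero _
  obtain ⟨v, u, hu, rfl⟩ := Nat.exists_eq_pow_mul_and_not_dvd hj0.ne' p hp.out.ne_one
  obtain ⟨c, hc⟩ := IsPGroup.iff_orderOf.1 S.pGroup (h ^ p ^ v)
  obtain ⟨r, hr⟩ := exists_pow_eq_self_of_coprime (x := h ^ p ^ v) (n := u) (by
    rw [hc]; exact (hp.out.coprime_iff_not_dvd.2 hu).symm.pow_right c)
  have hv : h ^ p ^ v ∈ L := by rw [← hr, ← pow_mul (a := h) (m := p ^ v) (n := u)]; exact pow_mem hj r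
  exact dvd_mul_of_dvd_left (pow_dvd_pow p (Nat.find_le hv)) u

/-- Orders of a subgroup above the centre and of its centralizer, and the abelian criterion. -/
theorem lattice {L : Subgroup G} (hZ : center G ≤ L) :
    ∃ k ≤ 2 * n, Nat.card L * p ^ k = Nat.card G ∧
      Nat.card (centralizer (L : Set G)) * p ^ (2 * n - k) = Nat.card G ∧
      (IsMulCommutative L ↔ n ≤ k) ∧ (k ≤ n → centralizer (L : Set G) ≤ L) := by
  obtain ⟨y, h, d, e, hyh, hd, he, hyd, hhe, hL⟩ := S.exists_frame hZ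
  have hgen : ∀ g ∈ L, ∃ i j : ℕ, ∃ z ∈ center G, g = (y ^ p ^ d) ^ i * (h ^ p ^ e) ^ j * z := by
    intro g hg
    obtain ⟨i, j, z, hz, rfl⟩ := S.exists_coords hyh g
    have hg' : y ^ i * h ^ j ∈ L := by
      have := mul_mem hg (inv_mem (hZ hz))
      rwa [mul_inv_cancel_right] at this
    obtain ⟨⟨i', rfl⟩, ⟨j', rfl⟩⟩ := hL i j hg'
    exact ⟨i', j', z, hz, by rw [← pow_mul, ← pow_mul]⟩
  have hmem : ∀ g, Commute (y ^ p ^ d) g → Commute (h ^ p ^ e) g → g ∈ centralizer (L : Set G) := by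
    intro g h1 h2
    refine mem_centralizer_iff.2 fun l hl => ?_
    obtain ⟨i, j, z, hz, rfl⟩ := hgen l hl
    exact (((h1.pow_left i).mul_left (h2.pow_left j)).mul_left
      (Commute.symm (mem_center_iff.1 hz g))).eq
  have hC : Nat.card (centralizer (L : Set G)) * p ^ ((n - e) + (n - d)) = Nat.card G := by
    refine S.card_frame hyh (Nat.sub_le n e) (Nat.sub_le n d) (center_le_centralizer _) ?_ ?_ ?_
    · refine hmem _ ((Commute.refl y).pow_pow _ _) ?_
      exact ((S.pair_commute_pow_iff hyh (n - e) e).2 (by omega)).symm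
    · refine hmem _ ((S.pair_commute_pow_iff hyh d (n - d)).2 (by omega)) ((Commute.refl h).pow_pow _ _)
    · intro i j hij
      exact ⟨(S.mem_centralizer_pow_iff' hyh he i j).1 (mem_centralizer_iff.1 hij _ hhe),
        (S.mem_centralizer_pow_iff hyh hd i j).1 (mem_centralizer_iff.1 hij _ hyd)⟩
  refine ⟨d + e, by omega, S.card_frame hyh hd he hZ hyd hhe hL, ?_, ?_, ?_⟩
  · rwa [show 2 * n - (d + e) = (n - e) + (n - d) by omega]
  · constructor
    · intro hab
      refine (S.pair_commute_pow_iff hyh d e).1 ?_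
      exact congrArg Subtype.val (mul_comm' (⟨_, hyd⟩ : L) ⟨_, hhe⟩)
    · intro hde
      have hc := (S.pair_commute_pow_iff hyh d e).2 hde
      have hle : L ≤ centralizer (L : Set G) := fun g hg => by
        obtain ⟨i, j, z, hz, rfl⟩ := hgen g hg
        refine hmem _ ?_ ?_
        · exact (((Commute.refl _).pow_right i).mul_right (hc.pow_right j)).mul_right
            (mem_center_iff.1 hz _)
        · exact ((hc.symm.pow_right i).mul_right ((Commute.refl _).pow_right j)).mul_right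
            (mem_center_iff.1 hz _)
      exact ⟨⟨fun u v => Subtype.ext (mem_centralizer_iff.1 (hle v.2) u u.2)⟩⟩
  · intro hde g hg
    obtain ⟨i, j, z, hz, rfl⟩ := S.exists_coords hyh g
    have hg' : y ^ i * h ^ j ∈ centralizer (L : Set G) := by
      have := mul_mem hg (inv_mem (center_le_centralizer (L : Set G) hz))
      rwa [mul_inv_cancel_right] at this
    refine mul_mem (mul_mem ?_ ?_) (hZ hz)
    · obtain ⟨c, rfl⟩ := (pow_dvd_pow p (show d ≤ n - e by omega)).trans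
        ((S.mem_centralizer_pow_iff' hyh he i j).1 (mem_centralizer_iff.1 hg' _ hhe))
      rw [pow_mul]; exact pow_mem hyd c
    · obtain ⟨c, rfl⟩ := (pow_dvd_pow p (show e ≤ n - d by omega)).trans
        ((S.mem_centralizer_pow_iff hyh hd i j).1 (mem_centralizer_iff.1 hg' _ hyd))
      rw [pow_mul]; exact pow_mem hhe c

/-- A non-abelian subgroup contains the centre. -/
theorem center_le_of_not_comm {L : Subgroup G} (hL : ¬ IsMulCommutative L) : center G ≤ L := by
  set M := L ⊔ center G with hM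
  obtain ⟨y, h, d, e, hyh, hd, he, hyd, hhe, hLf⟩ := S.exists_frame (L := M) le_sup_right
  have hde : d + e < n := by
    by_contra hc
    push Not at hc
    refine hL ?_
    have hcM : M ≤ centralizer (M : Set G) := by
      intro g hg
      refine mem_centralizer_iff.2 fun l hl => ?_
      have hcom := (S.pair_commute_pow_iff hyh d e).2 hc
      have hgen : ∀ g ∈ M, g ∈ Subgroup.closure (({y ^ p ^ d, h ^ p ^ e} : Set G) ∪ (center G : Set G)) := by
        intro g hg
        obtain ⟨i, j, z, hz, rfl⟩ := S.exists_coords hyh g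
        have hg' : y ^ i * h ^ j ∈ M := by
          have := mul_mem hg (inv_mem (mem_sup_right (S := L) hz))
          rwa [mul_inv_cancel_right] at this
        obtain ⟨⟨i', rfl⟩, ⟨j', rfl⟩⟩ := hLf i j hg'
        rw [pow_mul, pow_mul]
        have m1 : y ^ p ^ d ∈ Subgroup.closure (({y ^ p ^ d, h ^ p ^ e} : Set G) ∪ (center G : Set G)) :=
          Subgroup.subset_closure (Or.inl (Or.inl rfl))
        have m2 : h ^ p ^ e ∈ Subgroup.closure (({y ^ p ^ d, h ^ p ^ e} : Set G) ∪ (center G : Set G)) :=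
          Subgroup.subset_closure (Or.inl (Or.inr rfl))
        exact mul_mem (mul_mem (pow_mem m1 i') (pow_mem m2 j')) (Subgroup.subset_closure (Or.inr hz))
      haveI : IsMulCommutative (Subgroup.closure (({y ^ p ^ d, h ^ p ^ e} : Set G) ∪ (center G : Set G))) := by
        refine isMulCommutative_closure ?_
        rintro u ((rfl | rfl) | hu) v ((rfl | rfl) | hv)
        all_goals first
          | rfl | exact hcom.eq | exact hcom.eq.symm | exact mem_center_iff.1 hv _
          | exact (mem_center_iff.1 hu _).symm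
      exact congrArg Subtype.val (mul_comm' (⟨l, hgen l hl⟩ : Subgroup.closure _) ⟨g, hgen g hg⟩)
    exact ⟨⟨fun u v => Subtype.ext (mem_centralizer_iff.1 (hcM (mem_sup_left v.2)) u (mem_sup_left u.2))⟩⟩
  -- every central element is in `L` modulo `p`-th powers of central elements
  have hsplit : ∀ g ∈ M, ∃ l ∈ L, ∃ z ∈ center G, g = l * z := fun g hg => by
    rw [hM, ← SetLike.mem_coe, Subgroup.mul_normal] at hg
    obtain ⟨l, hl, z, hz, rfl⟩ := hg
    exact ⟨l, hl, z, hz, rfl⟩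
  let T : Subgroup G :=
    { carrier := {g | ∃ l ∈ L, ∃ w ∈ center G, g = l * w ^ p}
      one_mem' := ⟨1, one_mem L, 1, one_mem _, by simp⟩
      mul_mem' := by
        rintro _ _ ⟨l, hl, w, hw, rfl⟩ ⟨l', hl', w', hw', rfl⟩
        refine ⟨l * l', mul_mem hl hl', w * w', mul_mem hw hw', ?_⟩
        rw [(Commute.symm (mem_center_iff.1 hw w') : Commute w w').mul_pow]
        calc l * w ^ p * (l' * w' ^ p) = l * (w ^ p * l') * w' ^ p := by group
          _ = l * (l' * w ^ p) * w' ^ p := by rw [mem_center_iff.1 (pow_mem hw p) l']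
          _ = l * l' * (w ^ p * w' ^ p) := by group
      inv_mem' := by
        rintro _ ⟨l, hl, w, hw, rfl⟩
        refine ⟨l⁻¹, inv_mem hl, w⁻¹, inv_mem hw, ?_⟩
        rw [mul_inv_rev, inv_pow, mem_center_iff.1 (inv_mem (pow_mem hw p)) l⁻¹] }
  have hpowT : ∀ (x : G) (c : ℕ), c < n → x ^ p ^ c ∈ M → x ^ p ^ n ∈ T := by
    intro x c hc hx
    obtain ⟨l, hl, z, hz, he'⟩ := hsplit _ hx
    have hlz : Commute l z := mem_center_iff.1 hz l
    refine ⟨l ^ p ^ (n - c), pow_mem hl _, z ^ p ^ (n - c - 1), pow_mem hz _, ?_⟩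
    rw [← pow_mul, ← pow_succ, show n - c - 1 + 1 = n - c by omega, ← hlz.mul_pow, ← he', ← pow_mul, ← pow_add,
      show c + (n - c) = n by omega]
  have hy : y ^ p ^ n ∈ T := hpowT y d (by omega) hyd
  have hh : h ^ p ^ n ∈ T := hpowT h e (by omega) hhe
  have hmul : ∀ u v : G, (u * v) ^ p ^ n = u ^ p ^ n * v ^ p ^ n := fun u v => by
    refine CfsgLib.RegularPowers.mul_pow_of_exponent (fun a b => S.regular.2 a b n)
      (N := _root_.commutator G) (by rw [_root_.commutator_def]; exact commutator_mono le_top le_top) fun z hz => ?_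
    rw [← S.card_derived]
    exact congrArg Subtype.val (pow_card_eq_one' (x := (⟨z, hz⟩ : _root_.commutator G)))
  have hall : ∀ g : G, g ^ p ^ n ∈ T := by
    intro g
    have hg : g ∈ Subgroup.closure ({y, h} : Set G) := hyh ▸ mem_top g
    induction hg using Subgroup.closure_induction with
    | mem x hx => rcases hx with rfl | rfl <;> assumption
    | one => rw [one_pow]; exact one_mem T
    | mul u v _ _ hu hv => rw [hmul]; exact mul_mem hu hv
    | inv u _ hu => rw [inv_pow]; exact inv_mem hu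
  have hZT : center G ≤ T := by
    intro z hz
    obtain ⟨a, b, -, -, hall'⟩ := exists_normal_pair S.meta'
    obtain ⟨i, j, rfl⟩ := hall' z
    obtain ⟨⟨i', rfl⟩, ⟨j', rfl⟩⟩ := S.center_frame (S.closure_normal_pair hall') hz
    rw [zpow_mul, zpow_mul, zpow_natCast, zpow_natCast]
    exact mul_mem (zpow_mem (hall a) i') (zpow_mem (hall b) j')
  have hiter : ∀ (k : ℕ), ∀ z ∈ center G, ∃ l ∈ L, ∃ w ∈ center G, z = l * w ^ p ^ k := by
    intro k
    induction k with
    | zero => exact fun z hz => ⟨1, one_mem L, z, hz, by simp⟩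
    | succ k ih =>
      intro z hz
      obtain ⟨l, hl, w, hw, rfl⟩ := ih z hz
      obtain ⟨l', hl', w', hw', rfl⟩ := hZT hw
      refine ⟨l * l' ^ p ^ k, mul_mem hl (pow_mem hl' _), w', hw', ?_⟩
      rw [(Commute.symm (mem_center_iff.1 (pow_mem hw' p) l').symm : Commute l' (w' ^ p)).mul_pow,
        ← pow_mul, ← pow_succ', mul_assoc]
  intro z hz
  obtain ⟨c, hc⟩ := (S.pGroup.to_subgroup (center G)).exists_card_eq
  obtain ⟨l, hl, w, hw, rfl⟩ := hiter c z hz
  rw [← hc, show w ^ Nat.card (center G) = 1 from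
    congrArg Subtype.val (pow_card_eq_one' (x := (⟨w, hw⟩ : center G))), mul_one]
  exact hl

end Setup

end CfsgLib.Metacyclic
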