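import Mathlib
import Cfsg.Prelude.Def_OddOrderLocal
import Cfsg.Agent.Lib.PGroup.MetacyclicFrame
import Cfsg.Agent.Lib.PGroup.MetacyclicOmega
import Cfsg.Agent.Lib.PGroup.NormalRankTwo
import Cfsg.Agent.Lib.PGroup.RegularPowers
import Cfsg.Agent.Lib.PGroup.MaxClassRecog
import Cfsg.Agent.Lib.PGroup.MaxClassSeries
import Cfsg.Agent.Lib.CFun.OddMetacyclicAction

/-!
# Automorphisms of order `p` of metacyclic `p`-groups on the elements of order `p`

For `p` odd and `L` metacyclic without cyclic subgroups of index `p`, an automorphism `a` of order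
`p` moves an element of order `p` iff `p = 3` and `L ⋊ ⟨a⟩` has maximal class.
-/

set_option autoImplicit false
set_option linter.unusedSectionVars false

open Subgroup
open scoped commutatorElement

namespace CfsgLib.PGroup.MetacyclicAutOmega

universe u

variable {L : Type u} [Group L] [Finite L] {p : ℕ} [Fact p.Prime]

theorem not_isCyclic (hL : IsPGroup p L) (hnc : ∀ C : Subgroup L, IsCyclic C → C.index ≠ p)
    (hne : Nat.card L ≠ 1) : ¬ IsCyclic L := by
  intro hc
  have hp := (Fact.out : p.Prime)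
  obtain ⟨k, hk⟩ := hL.exists_card_eq
  have hk1 : 1 ≤ k := by
    rcases k with _ | k
    · exact absurd hk (by simpa using hne)
    · omega
  obtain ⟨C, hC⟩ := Sylow.exists_subgroup_card_pow_prime p (n := k - 1) (G := L)
    (by rw [hk]; exact pow_dvd_pow p (by omega))
  refine hnc C (Subgroup.isCyclic C) ?_
  have h := C.card_mul_index
  rw [hC, hk] at h
  conv_rhs at h => rw [show k = k - 1 + 1 by omega, pow_succ]
  exact Nat.eq_of_mul_eq_mul_left (pow_pos hp.pos _) h

/-- The elements killed by `p` form an elementary abelian group of order `p ^ 2` consisting of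
`p`-th powers. -/
theorem exists_omega (hp : p ≠ 2) (hL : IsPGroup p L) (hmc : Cfsg.IsMetacyclic L)
    (hnc : ∀ C : Subgroup L, IsCyclic C → C.index ≠ p) (hne : Nat.card L ≠ 1) :
    ∃ E : Subgroup L, (∀ x, x ∈ E ↔ x ^ p = 1) ∧ (∀ x ∈ E, ∀ y ∈ E, x * y = y * x) ∧
      Nat.card E = p ^ 2 ∧ ∀ e ∈ E, ∃ x : L, x ^ p = e := by
  have hprime := (Fact.out : p.Prime)
  have hncyc := not_isCyclic hL hnc hne
  obtain ⟨N, hN, hNc, hq⟩ := hmc
  haveI := hN
  haveI := hNc
  obtain ⟨E, hE, hEc, -⟩ := CfsgLib.MetacyclicOmega.exists_omega hL hp (N := N) hq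
  have hcl : closure {x : L | x ^ p = 1} = E :=
    le_antisymm ((closure_le E).2 fun x hx => (hE x).2 hx) fun x hx => subset_closure ((hE x).1 hx)
  have hcardE : Nat.card E = p ^ 2 := by
    rw [← hcl]; exact (CfsgLib.PGroup.omega_of_cyclic_extension hL hp hq hncyc).2
  refine ⟨E, hE, hEc, hcardE, ?_⟩
  obtain ⟨n, S⟩ := CfsgLib.Metacyclic.exists_setup hp hL ⟨N, hN, hNc, hq⟩
  have hrule : CfsgLib.RegularPowers.PowRule L p 1 := fun x y => S.regular.2 x y 1
  set V := Cfsg.powerClosure p 1 (⊤ : Subgroup L) with hV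
  have hpow : {y : L | ∃ x ∈ (⊤ : Subgroup L), y = x ^ p ^ 1} = (V : Set L) :=
    CfsgLib.RegularPowers.powerClosure_eq hL hrule ⊤
  have hmem : ∀ y : L, y ∈ V ↔ ∃ x : L, x ^ p = y := by
    intro y
    rw [← SetLike.mem_coe, ← hpow]
    simp [eq_comm]
  haveI hVn : V.Normal := ⟨fun v hv g => by
    obtain ⟨x, rfl⟩ := (hmem v).1 hv
    exact (hmem _).2 ⟨g * x * g⁻¹, by rw [conj_pow]⟩⟩
  have hidx : V.index ≤ p ^ 2 :=
    CfsgLib.MetacyclicOmega.index_le_of_pow_mem hL hq fun x => (hmem _).2 ⟨x, rfl⟩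
  suffices hEV : E ≤ V from fun e he => (hmem e).1 (hEV he)
  by_cases hVc : IsCyclic V
  · exfalso
    obtain ⟨⟨v, hv⟩, hgen⟩ := hVc.exists_generator
    have hVv : V = zpowers v := le_antisymm (fun y hy => by
      obtain ⟨i, hi⟩ := hgen ⟨y, hy⟩
      exact ⟨i, congrArg Subtype.val hi⟩) (zpowers_le.2 hv)
    -- an element `y` whose `p`-th power generates `V`, of order `p` times `|V|`
    obtain ⟨y, hy, hy1⟩ : ∃ y : L, v ∈ zpowers y ∧ p * orderOf v ≤ orderOf y := by
      by_cases hv1 : v = 1
      · obtain ⟨y, hy⟩ : ∃ y : L, y ≠ 1 := by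
          by_contra! h
          exact hne (Nat.card_eq_one_iff_unique.2 ⟨⟨fun a b => by rw [h a, h b]⟩, ⟨1⟩⟩)
        refine ⟨y, hv1 ▸ one_mem _, ?_⟩
        rw [hv1, orderOf_one, mul_one]
        obtain ⟨k, hk⟩ := IsPGroup.iff_orderOf.1 hL y
        rcases k with _ | k
        · exact absurd (orderOf_eq_one_iff.1 (by simpa using hk)) hy
        · rw [hk]; exact Nat.le_self_pow (by omega) p
      · obtain ⟨y, hy⟩ := (hmem v).1 hv
        refine ⟨y, hy ▸ pow_mem (mem_zpowers y) p, ?_⟩
        obtain ⟨k, hk⟩ := IsPGroup.iff_orderOf.1 hL y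
        rcases k with _ | k
        · have hy0 : y = 1 := orderOf_eq_one_iff.1 (by simpa using hk)
          exact absurd (by rw [← hy, hy0, one_pow]) hv1
        · have : orderOf v = p ^ k := by
            rw [← hy, orderOf_pow' _ hprime.ne_zero, hk,
              Nat.gcd_eq_right (dvd_pow_self p (by omega)), pow_succ,
              Nat.mul_div_cancel _ hprime.pos]
          rw [this, hk, pow_succ, mul_comm]
    have h1 : V ≤ zpowers y := hVv ▸ zpowers_le.2 hy
    have h2 : p * Nat.card V ≤ Nat.card (zpowers y) := by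
      rw [hVv, Nat.card_zpowers, Nat.card_zpowers]; exact hy1
    have h3 : (zpowers y).index * p ≤ V.index := by
      have e1 := (zpowers y).card_mul_index
      have e2 := V.card_mul_index
      by_contra hlt
      push Not at hlt
      have : Nat.card V * V.index < Nat.card V * ((zpowers y).index * p) :=
        mul_lt_mul_of_pos_left hlt Nat.card_pos
      nlinarith
    have h4 : (zpowers y).index ≤ p := by nlinarith [hprime.pos]
    obtain ⟨j, hj⟩ := hL.index (zpowers y)
    have hj1 : j ≤ 1 := (Nat.pow_le_pow_iff_right hprime.one_lt).1 (by rwa [pow_one, ← hj])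
    rcases j with _ | j
    · exact hncyc (isCyclic_iff_exists_zpowers_eq_top.2 ⟨y, Subgroup.index_eq_one.1 (by simpa using hj)⟩)
    · obtain rfl : j = 0 := by omega
      exact hnc _ inferInstance (by simpa using hj)
  · obtain ⟨N', hN', hN'c, hq'⟩ :=
      CfsgLib.CFun.MetaAct.metacyclic_subgroup ⟨N, hN, hNc, hq⟩ V
    haveI := hN'
    haveI := hN'c
    have hcard := (CfsgLib.PGroup.omega_of_cyclic_extension (hL.to_subgroup V) hp hq' hVc).2
    have hle : (closure {x : V | x ^ p = 1}).map V.subtype ≤ E := by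
      rw [map_le_iff_le_comap, closure_le]
      intro x hx
      exact (hE _).2 (by
        have hx' := congrArg Subtype.val (show x ^ p = 1 from hx)
        simpa using hx')
    have heq := eq_of_le_of_card_ge hle (by
      rw [card_map_of_injective V.subtype_injective, hcard, hcardE])
    rw [← heq]
    exact map_subtype_le _

theorem isCyclic_derived (hmc : Cfsg.IsMetacyclic L) : IsCyclic (_root_.commutator L) := by
  obtain ⟨a, b, -, hle, -⟩ := CfsgLib.Metacyclic.exists_normal_pair hmc
  exact isCyclic_of_injective (Subgroup.inclusion hle) (Subgroup.inclusion_injective hle)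

/-- The elements killed by `p ^ 2` form a group of class at most two on which the `p`-th power map
is a homomorphism. -/
theorem two_layer (hp : p ≠ 2) (hL : IsPGroup p L) (hmc : Cfsg.IsMetacyclic L) {E : Subgroup L}
    (hE : ∀ x, x ∈ E ↔ x ^ p = 1) (hEpow : ∀ e ∈ E, ∃ x : L, x ^ p = e) :
    ∃ O : Subgroup L, (∀ x, x ∈ O ↔ x ^ p ^ 2 = 1) ∧
      (∀ x ∈ O, ∀ e ∈ E, Commute x e) ∧
      ∀ x ∈ O, ∀ y ∈ O, (x * y) ^ p = x ^ p * y ^ p := by
  have hprime := (Fact.out : p.Prime)
  obtain ⟨n, S⟩ := CfsgLib.Metacyclic.exists_setup hp hL hmc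
  have hreg := S.regular
  let O : Subgroup L :=
    { carrier := {x : L | x ^ p ^ 2 = 1}
      one_mem' := by simp
      inv_mem' := fun {x} hx => by
        show x⁻¹ ^ p ^ 2 = 1
        rw [inv_pow, show x ^ p ^ 2 = 1 from hx, inv_one]
      mul_mem' := fun {x y} hx hy => by
        show (x * y) ^ p ^ 2 = 1
        have hx' : x ^ p ^ 2 = 1 := hx
        have hy' : (y⁻¹) ^ p ^ 2 = 1 := by rw [inv_pow, show y ^ p ^ 2 = 1 from hy, inv_one]
        simpa using (CfsgLib.RegularPowers.regular_pow_eq_iff hreg x y⁻¹ 2).1 (hx'.trans hy'.symm) }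
  have hO : ∀ x, x ∈ O ↔ x ^ p ^ 2 = 1 := fun x => Iff.rfl
  haveI hOn : O.Normal := ⟨fun x hx g => by
    rw [hO] at hx ⊢
    rw [conj_pow, hx, mul_one, mul_inv_cancel]⟩
  haveI hEn : E.Normal := ⟨fun x hx g => by
    rw [hE] at hx ⊢
    rw [conj_pow, hx, mul_one, mul_inv_cancel]⟩
  have hEO : E ≤ O := fun x hx => by
    rw [hO, pow_two, pow_mul, (hE x).1 hx, one_pow]
  -- the derived subgroup of `O` lies in `E`
  have hTE : ⁅O, O⁆ ≤ E := by
    obtain ⟨N, hN, hNc, hq⟩ := CfsgLib.CFun.MetaAct.metacyclic_subgroup hmc O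
    haveI := hN
    haveI := hNc
    haveI : (E.subgroupOf O).Normal := Normal.subgroupOf hEn O
    have hidx := CfsgLib.MetacyclicOmega.index_le_of_pow_mem (hL.to_subgroup O) hq
      (V := E.subgroupOf O) fun x => by
        rw [mem_subgroupOf, hE, SubmonoidClass.coe_pow, ← pow_mul, ← pow_two]
        exact (hO _).1 x.2
    obtain ⟨j, hj⟩ := (hL.to_subgroup O).index (E.subgroupOf O)
    have hj2 : j ≤ 2 := (Nat.pow_le_pow_iff_right hprime.one_lt).1 (hj ▸ hidx)
    have hcomm : IsMulCommutative (O ⧸ E.subgroupOf O) := by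
      have hc : Nat.card (O ⧸ E.subgroupOf O) = p ^ j := hj
      interval_cases j
      · haveI : Subsingleton (O ⧸ E.subgroupOf O) :=
          (Nat.card_eq_one_iff_unique.1 (by simpa using hc)).1
        exact ⟨⟨fun a b => Subsingleton.elim _ _⟩⟩
      · haveI := isCyclic_of_prime_card (p := p) (by simpa using hc)
        exact IsCyclic.commutative
      · exact IsPGroup.isMulCommutative_of_card_eq_prime_sq hc
    rw [commutator_le]
    intro x hx y hy
    have h : ⁅(⟨x, hx⟩ : O), ⟨y, hy⟩⁆ ∈ E.subgroupOf O := by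
      refine (QuotientGroup.eq_one_iff _).1 ?_
      change QuotientGroup.mk' (E.subgroupOf O) ⁅(⟨x, hx⟩ : O), ⟨y, hy⟩⁆ = 1
      rw [map_commutatorElement, commutatorElement_eq_one_iff_mul_comm]
      exact hcomm.is_comm.comm _ _
    exact h
  haveI hTc : IsCyclic (_root_.commutator L) := isCyclic_derived hmc
  have hTL : ⁅O, O⁆ ≤ _root_.commutator L := by
    rw [_root_.commutator_def]; exact commutator_mono le_top le_top
  have hTp : ∀ t ∈ ⁅O, O⁆, t ^ p = 1 := fun t ht => (hE t).1 (hTE ht)
  have hTcard : Nat.card ↥⁅O, O⁆ ≤ p := CfsgLib.MetacyclicOmega.card_pow_eq_one_le _ hTL hTp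
  have hTZ : ⁅O, O⁆ ≤ center L := CfsgLib.MetacyclicOmega.le_center_of_card_le hL _ hTcard
  refine ⟨O, hO, ?_, ?_⟩
  · intro x hx e he
    obtain ⟨z, rfl⟩ := hEpow e he
    have hz : z ∈ O := by
      rw [hO, pow_two, pow_mul]; exact (hE _).1 he
    have hzx : ⁅z, x⁆ ∈ ⁅O, O⁆ := commutator_mem_commutator hz hx
    have hc := mem_center_iff.1 (hTZ hzx)
    have h1 : ∀ k : ℕ, z ^ k * x = ⁅z, x⁆ ^ k * x * z ^ k := by
      intro k
      induction k with
      | zero => simp
      | succ k ih =>
        rw [pow_succ' z, mul_assoc, ih]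
        calc z * (⁅z, x⁆ ^ k * x * z ^ k) = z * ⁅z, x⁆ ^ k * x * z ^ k := by group
          _ = ⁅z, x⁆ ^ k * z * x * z ^ k := by
              rw [(Commute.pow_right (show Commute z ⁅z, x⁆ from hc z) k).eq]
          _ = ⁅z, x⁆ ^ k * (⁅z, x⁆ * x * z) * z ^ k := by
              rw [commutatorElement_def]; group
          _ = ⁅z, x⁆ ^ (k + 1) * x * (z * z ^ k) := by rw [pow_succ]; group
    exact (show x * z ^ p = z ^ p * x by rw [h1 p, hTp _ hzx, one_mul])
  · intro x hx y hy
    obtain ⟨c, hc, hxy⟩ := hreg.2 x y 1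
    have hc1 : c = 1 := by
      have hle : Cfsg.powerClosure p 1 ⁅closure ({x, y} : Set L), closure ({x, y} : Set L)⁆ ≤ ⊥ := by
        refine (closure_le _).2 ?_
        rintro _ ⟨t, ht, rfl⟩
        rw [pow_one]
        exact SetLike.mem_coe.2 (mem_bot.2 (hTp t (commutator_mono
          (CfsgLib.RegularPowers.closure_pair_le hx hy)
          (CfsgLib.RegularPowers.closure_pair_le hx hy) ht)))
      exact mem_bot.1 (hle hc)
    simpa [hc1] using hxy

variable (a : MulAut L)

/-- The semidirect product of `L` with `⟨a⟩`. -/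
abbrev Ext := SemidirectProduct L ↥(zpowers a) (zpowers a).subtype

/-- The automorphism as an element of the extension. -/
def genA : Ext a := SemidirectProduct.inr ⟨a, mem_zpowers a⟩

theorem genA_conj (x : L) :
    genA a * SemidirectProduct.inl x * (genA a)⁻¹ = SemidirectProduct.inl (a x) := by
  rw [genA, ← map_inv, ← SemidirectProduct.inl_aut]
  rfl

instance : Finite (Ext a) := Finite.of_equiv _ SemidirectProduct.equivProd.symm

variable {a}

theorem card_ext (ha : orderOf a = p) {m : ℕ} (hm : Nat.card L = p ^ m) :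
    Nat.card (Ext a) = p ^ (m + 1) := by
  rw [SemidirectProduct.card, hm, Nat.card_zpowers, ha, pow_succ]

/-- A subgroup of `L` stable under `a` and normal, as a normal subgroup of the extension. -/
theorem normal_map (N : Subgroup L) [hN : N.Normal] (hNa : ∀ f : MulAut L, ∀ x ∈ N, f x ∈ N) :
    (N.map (SemidirectProduct.inl : L →* Ext a)).Normal := by
  refine ⟨?_⟩
  rintro _ ⟨x, hx, rfl⟩ g
  refine ⟨g.left * ((g.right : MulAut L) x) * g.left⁻¹, hN.conj_mem _ (hNa _ x hx) _, ?_⟩
  conv_rhs => rw [← SemidirectProduct.inl_left_mul_inr_right g]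
  rw [map_mul, map_mul, map_inv]
  rw [show ((g.right : MulAut L) x) = (zpowers a).subtype g.right x from rfl,
    SemidirectProduct.inl_aut, map_inv]
  group

theorem pow_invariant {k : ℕ} {N : Subgroup L} (hN : ∀ x, x ∈ N ↔ x ^ k = 1) (f : MulAut L)
    (x : L) (hx : x ∈ N) : f x ∈ N := by
  rw [hN] at hx ⊢
  rw [← map_pow, hx, map_one]

theorem aut_pow_fix {x : L} (h : a x = x) : ∀ g ∈ zpowers a, (g : MulAut L) x = x := by
  intro g hg
  have : zpowers a ≤ MulAction.stabilizer (MulAut L) x := zpowers_le.2 h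
  exact this hg

/-- Elements killed by `p` are moved by `a` by elements central in the extension. -/
theorem exists_central_shift (ha : orderOf a = p) (hL : IsPGroup p L) {E : Subgroup L}
    (hE : ∀ x, x ∈ E ↔ x ^ p = 1) (hcard : Nat.card E = p ^ 2) :
    ∃ Z : Subgroup (Ext a), Nat.card Z ≤ p ∧ Z ≤ center (Ext a) ∧
      (∀ x ∈ E, SemidirectProduct.inl (x⁻¹ * a x) ∈ Z) ∧
      (∀ x ∈ E, ∀ l : L, SemidirectProduct.inl ⁅x, l⁆ ∈ Z) := by
  obtain ⟨m, hm⟩ := hL.exists_card_eq
  have hP : IsPGroup p (Ext a) := IsPGroup.of_card (card_ext ha hm)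
  haveI : E.Normal := ⟨fun x hx g => by
    rw [hE] at hx ⊢
    rw [conj_pow, hx, mul_one, mul_inv_cancel]⟩
  set EP := E.map (SemidirectProduct.inl : L →* Ext a) with hEP
  haveI hEPn : EP.Normal := normal_map E (fun f x hx => pow_invariant hE f x hx)
  have hEPc : Nat.card EP = p ^ 2 := by
    rw [hEP, card_map_of_injective SemidirectProduct.inl_injective, hcard]
  have hle : ⁅EP, (⊤ : Subgroup (Ext a))⁆ ≤ EP := commutator_le_left _ _
  haveI : Group.IsNilpotent (Ext a) := hP.isNilpotent
  have hlt : ⁅EP, (⊤ : Subgroup (Ext a))⁆ < EP := by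
    refine lt_of_le_of_ne hle fun heq => ?_
    have hser : ∀ i, EP ≤ (⊤ : Subgroup (Ext a)).lowerCentralSeries i := by
      intro i
      induction i with
      | zero => simp
      | succ i ih =>
        rw [Subgroup.lowerCentralSeries_succ, ← heq]
        exact commutator_mono ih le_top
    obtain ⟨c, hc⟩ : ∃ c, (⊤ : Subgroup (Ext a)).lowerCentralSeries c = ⊥ :=
      ⟨_, Subgroup.lowerCentralSeries_eq_bot_iff_nilpotencyClass_le.2 le_rfl⟩
    have h1 : EP = ⊥ := eq_bot_iff.2 (hc ▸ hser c)
    rw [h1, Subgroup.card_bot] at hEPc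
    exact absurd hEPc.symm (Nat.one_lt_pow two_ne_zero (Fact.out : p.Prime).one_lt).ne'
  have hZc : Nat.card ↥⁅EP, (⊤ : Subgroup (Ext a))⁆ ≤ p := by
    obtain ⟨j, hj⟩ := (hP.to_subgroup ⁅EP, (⊤ : Subgroup (Ext a))⁆).exists_card_eq
    have h2 : Nat.card ↥⁅EP, (⊤ : Subgroup (Ext a))⁆ < Nat.card EP :=
      Set.ncard_lt_ncard (SetLike.coe_ssubset_coe.2 hlt) (Set.toFinite _)
    rw [hj, hEPc] at h2
    have := (Nat.pow_lt_pow_iff_right (Fact.out : p.Prime).one_lt).1 h2
    rw [hj]
    calc p ^ j ≤ p ^ 1 := Nat.pow_le_pow_right (Fact.out : p.Prime).pos (by omega)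
      _ = p := pow_one p
  refine ⟨⁅EP, ⊤⁆, hZc, CfsgLib.MetacyclicOmega.le_center_of_card_le hP _ hZc, ?_, ?_⟩
  · intro x hx
    have h := commutator_mem_commutator (H₁ := EP) (H₂ := ⊤)
      (EP.inv_mem (mem_map_of_mem (SemidirectProduct.inl : L →* Ext a) hx)) (mem_top (genA a))
    convert h using 1
    rw [map_mul, ← genA_conj, map_inv, commutatorElement_def]
    group
  · intro x hx l
    rw [map_commutatorElement]
    exact commutator_mem_commutator (mem_map_of_mem _ hx) (mem_top _)

/-- An element killed by `p` moved by `a`: then `p = 3` and the fixed points of `a` have order `p`. -/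
theorem fixed_card_of_moved (hp : p ≠ 2) (hL : IsPGroup p L) (hmc : Cfsg.IsMetacyclic L)
    (hnc : ∀ C : Subgroup L, IsCyclic C → C.index ≠ p) (ha : orderOf a = p) {f : L}
    (hf : orderOf f = p) (hfa : a f ≠ f) :
    p = 3 ∧ Nat.card (MonoidHom.eqLocus a.toMonoidHom (MonoidHom.id L)) = p := by
  have hprime := (Fact.out : p.Prime)
  have hne : Nat.card L ≠ 1 := fun h => by
    haveI := (Nat.card_eq_one_iff_unique.1 h).1
    exact hfa (Subsingleton.elim _ _)
  obtain ⟨E, hE, hEcomm, hEcard, hEpow⟩ := exists_omega hp hL hmc hnc hne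
  obtain ⟨O, hO, hOE, hOpow⟩ := two_layer hp hL hmc hE hEpow
  obtain ⟨Z, hZcard, hZc, hZ, -⟩ := exists_central_shift ha hL hE hEcard
  have hfE : f ∈ E := (hE f).2 (hf ▸ pow_orderOf_eq_one f)
  set e := f⁻¹ * a f with he
  have he1 : e ≠ 1 := fun h => hfa (inv_mul_eq_one.1 h).symm
  have heE : e ∈ E := E.mul_mem (E.inv_mem hfE) (pow_invariant hE a f hfE)
  -- the shifts of elements killed by `p` are powers of `e`
  have hshift : ∀ x ∈ E, ∃ i : ℕ, x⁻¹ * a x = e ^ i := by
    intro x hx
    have heZ := hZ f hfE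
    have heo : orderOf (SemidirectProduct.inl e : Ext a) = p := by
      rw [orderOf_injective _ SemidirectProduct.inl_injective]
      exact orderOf_eq_prime ((hE e).1 heE) he1
    have hzp : zpowers (SemidirectProduct.inl e : Ext a) = Z :=
      eq_of_le_of_card_ge (zpowers_le.2 heZ) (by rw [Nat.card_zpowers, heo]; exact hZcard)
    obtain ⟨i, hi⟩ := mem_powers_iff_mem_zpowers.2 (hzp.symm ▸ hZ x hx)
    exact ⟨i, SemidirectProduct.inl_injective (by rw [map_pow]; exact hi.symm)⟩
  -- the shifts are fixed by `a`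
  have hfix : ∀ x ∈ E, a (x⁻¹ * a x) = x⁻¹ * a x := by
    intro x hx
    apply SemidirectProduct.inl_injective (φ := (zpowers a).subtype)
    rw [← genA_conj, mem_center_iff.1 (hZc (hZ x hx)) (genA a), mul_inv_cancel_right]
  have hae : a e = e := hfix f hfE
  -- a root of `f` and the orbit of that root
  obtain ⟨x, hx⟩ := hEpow f hfE
  have hxO : x ∈ O := by rw [hO, pow_two, pow_mul, hx]; exact (hE f).1 hfE
  set w := x⁻¹ * a x with hw
  have hwO : w ∈ O := O.mul_mem (O.inv_mem hxO) (pow_invariant hO a x hxO)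
  have hwp : w ^ p = e := by
    rw [hw, hOpow _ (O.inv_mem hxO) _ (pow_invariant hO a x hxO), inv_pow, ← map_pow, hx]
  set u := w⁻¹ * a w with hu
  have huE : u ∈ E := by
    rw [hE, hu, hOpow _ (O.inv_mem hwO) _ (pow_invariant hO a w hwO), inv_pow, ← map_pow, hwp, hae,
      inv_mul_cancel]
  set d := u⁻¹ * a u with hd
  have hdE : d ∈ E := E.mul_mem (E.inv_mem huE) (pow_invariant hE a u huE)
  have haw : a w = w * u := by rw [hu, mul_inv_cancel_left]
  have hau : a u = u * d := by rw [hd, mul_inv_cancel_left]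
  have had : a d = d := hfix u huE
  have hwu : Commute w u := hOE w hwO u huE
  have hud : Commute u d := hEcomm u huE d hdE
  have horbit : ∀ k : ℕ, (a ^ k) x = x * w ^ k * u ^ k.choose 2 * d ^ k.choose 3 := by
    intro k
    induction k with
    | zero => simp
    | succ k ih =>
      rw [pow_succ', MulAut.mul_apply, ih]
      simp only [map_mul, map_pow]
      rw [haw, hau, had, show a x = x * w by rw [hw, mul_inv_cancel_left], hwu.mul_pow, hud.mul_pow,
        show (k + 1).choose 2 = k + k.choose 2 by rw [Nat.choose_succ_succ', Nat.choose_one_right],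
        show (k + 1).choose 3 = k.choose 2 + k.choose 3 from Nat.choose_succ_succ' k 2,
        pow_add u, pow_add d, pow_succ' w]
      group
  have hkill : ∀ z ∈ E, ∀ k, p ∣ k → z ^ k = 1 := by
    rintro z hz k ⟨c, rfl⟩
    rw [pow_mul, (hE z).1 hz, one_pow]
  have hmain : e * d ^ p.choose 3 = 1 := by
    have h := horbit p
    have hap : a ^ p = 1 := ha ▸ pow_orderOf_eq_one a
    rw [hap, MulAut.one_apply, hwp,
      hkill u huE _ (hprime.dvd_choose_self two_ne_zero
        (lt_of_le_of_ne hprime.two_le (Ne.symm hp))),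
      mul_one, mul_assoc] at h
    exact left_eq_mul.1 h
  have hp3 : p = 3 := by
    by_contra h3
    rw [hkill d hdE _ (hprime.dvd_choose_self (by norm_num)
      (lt_of_le_of_ne (lt_of_le_of_ne hprime.two_le (Ne.symm hp)) (Ne.symm h3))), mul_one] at hmain
    exact he1 hmain
  refine ⟨hp3, ?_⟩
  subst hp3
  rw [show Nat.choose 3 3 = 1 from rfl, pow_one] at hmain
  have hd1 : d ≠ 1 := fun h => he1 (by rwa [h, mul_one] at hmain)
  set C := MonoidHom.eqLocus a.toMonoidHom (MonoidHom.id L) with hC
  have hCmem : ∀ y, y ∈ C ↔ a y = y := fun y => Iff.rfl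
  -- the elements fixed by `a` and killed by `3` are the powers of `e`
  have hCE : C ⊓ E ≤ zpowers e := by
    intro y hy
    obtain ⟨hyC, hyE⟩ := mem_inf.1 hy
    have heo : orderOf e = 3 := orderOf_eq_prime ((hE e).1 heE) he1
    have heC : zpowers e ≤ C ⊓ E := zpowers_le.2 (mem_inf.2 ⟨hae, heE⟩)
    have hlt : C ⊓ E ≠ E := fun h => hfa ((hCmem f).1 (mem_inf.1 (h.symm ▸ hfE : f ∈ C ⊓ E)).1)
    obtain ⟨j, hj⟩ := ((hL.to_subgroup (C ⊓ E))).exists_card_eq
    have h2 : Nat.card ↥(C ⊓ E) < 3 ^ 2 := by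
      rw [← hEcard]
      exact Set.ncard_lt_ncard (SetLike.coe_ssubset_coe.2 (lt_of_le_of_ne inf_le_right hlt))
        (Set.toFinite _)
    rw [hj] at h2
    have hj1 := (Nat.pow_lt_pow_iff_right (by norm_num : 1 < 3)).1 h2
    have : zpowers e = C ⊓ E := eq_of_le_of_card_ge heC (by
      rw [Nat.card_zpowers, heo, hj]
      calc (3 : ℕ) ^ j ≤ 3 ^ 1 := Nat.pow_le_pow_right (by norm_num) (by omega)
        _ = 3 := by norm_num)
    exact this.symm ▸ hy
  -- no fixed element has cube `e`
  have hnoroot : ∀ y, a y = y → y ^ 3 ≠ e := by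
    intro y hy hye
    have hyO : y ∈ O := by rw [hO, pow_two, pow_mul, hye]; exact (hE e).1 heE
    have hz : y⁻¹ * w ∈ E := by
      rw [hE, hOpow _ (O.inv_mem hyO) _ hwO, inv_pow, hye, hwp, inv_mul_cancel]
    have hu' : u = (y⁻¹ * w)⁻¹ * a (y⁻¹ * w) := by rw [map_mul, map_inv, hy, hu]; group
    refine hd1 ?_
    rw [hd, hu', hfix _ hz, inv_mul_cancel]
  have hexp : ∀ y ∈ C, y ^ 3 = 1 := by
    by_contra! hcon
    obtain ⟨y, hyC, hy⟩ := hcon
    obtain ⟨k, hk⟩ := IsPGroup.iff_orderOf.1 hL y
    have hk2 : 2 ≤ k := by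
      by_contra hlt
      refine hy (orderOf_dvd_iff_pow_eq_one.1 ?_)
      rw [hk]
      exact (pow_dvd_pow 3 (by omega : k ≤ 1)).trans (by norm_num)
    set z := y ^ 3 ^ (k - 2) with hz
    have hzC : a z = z := (hCmem z).1 (C.pow_mem hyC _)
    have hz9 : (z ^ 3) ^ 3 = 1 := by
      rw [← pow_mul, hz, ← pow_mul]
      have : 3 ^ (k - 2) * (3 * 3) = 3 ^ k := by
        rw [show 3 * 3 = 3 ^ 2 by norm_num, ← pow_add, Nat.sub_add_cancel hk2]
      rw [this, ← hk, pow_orderOf_eq_one]
    have hz3 : z ^ 3 ≠ 1 := by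
      rw [hz, ← pow_mul]
      intro h
      have h1 := Nat.le_of_dvd (by positivity) (hk ▸ orderOf_dvd_of_pow_eq_one h)
      rw [← pow_succ] at h1
      have h2 := (Nat.pow_le_pow_iff_right (by norm_num : 1 < 3)).1 h1
      omega
    have hmem : z ^ 3 ∈ zpowers e :=
      hCE (mem_inf.2 ⟨C.pow_mem ((hCmem z).2 hzC) _, (hE _).2 hz9⟩)
    have hegen : e ∈ zpowers (z ^ 3) := by
      have heq : zpowers (z ^ 3) = zpowers e := eq_of_le_of_card_ge (zpowers_le.2 hmem) (by
        rw [Nat.card_zpowers, Nat.card_zpowers, orderOf_eq_prime hz9 hz3,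
          orderOf_eq_prime ((hE e).1 heE) he1])
      exact heq ▸ mem_zpowers e
    obtain ⟨i, hi⟩ := mem_powers_iff_mem_zpowers.2 hegen
    refine hnoroot (z ^ i) (by rw [map_pow, hzC]) ?_
    rw [← hi]
    exact pow_right_comm z i 3
  have hCeq : C = zpowers e := le_antisymm
    (fun y hy => hCE (mem_inf.2 ⟨hy, (hE y).2 (hexp y hy)⟩)) (zpowers_le.2 hae)
  rw [hCeq, Nat.card_zpowers, orderOf_eq_prime ((hE e).1 heE) he1]

/-- If the fixed points of `a` have order `p`, the extension has maximal class. -/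
theorem class_of_fixed_card (ha : orderOf a = p) {m : ℕ} (hm : Nat.card L = p ^ m)
    (hC : Nat.card (MonoidHom.eqLocus a.toMonoidHom (MonoidHom.id L)) = p) :
    Group.nilpotencyClass (Ext a) = m := by
  set A := centralizer ({genA a} : Set (Ext a)) with hA
  have hmem : ∀ g : Ext a, g ∈ A ↔ a g.left = g.left := by
    intro g
    rw [hA, mem_centralizer_singleton_iff]
    constructor
    · intro h
      have := congrArg SemidirectProduct.left h
      simpa [genA] using this.symm
    · intro h
      refine SemidirectProduct.ext ?_ ?_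
      · simpa [genA] using h.symm
      · simp only [SemidirectProduct.mul_right, genA, SemidirectProduct.right_inr]
        obtain ⟨i, hi⟩ := g.right.2
        refine Subtype.ext ?_
        simp only [Subgroup.coe_mul, ← hi]
        exact ((Commute.refl a).zpow_left i).eq
  have hcardA : Nat.card A = p ^ 2 := by
    rw [Nat.card_congr (Equiv.subtypeEquiv SemidirectProduct.equivProd
      (q := fun q : L × zpowers a => a q.1 = q.1) (fun g => hmem g))]
    rw [Nat.card_congr (Equiv.prodSubtypeFstEquivSubtypeProd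
      (p := fun l : L => a l = l)), Nat.card_prod, Nat.card_zpowers, ha, pow_two]
    exact congrArg (· * p) hC
  have hcent : centralizer (A : Set (Ext a)) = A := by
    have hgen : genA a ∈ A := by rw [hmem]; simp [genA]
    refine le_antisymm (fun g hg => ?_) fun g hg => ?_
    · rw [hA, mem_centralizer_singleton_iff]
      exact (mem_centralizer_iff.1 hg _ hgen).symm
    · rw [mem_centralizer_iff]
      intro h hh
      have hc := IsPGroup.isMulCommutative_of_card_eq_prime_sq (p := p) (G := A) hcardA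
      exact congrArg Subtype.val (hc.is_comm.comm (⟨h, hh⟩ : A) ⟨g, hg⟩)
  have h := CfsgLib.PGroup.maximalClass_of_selfCentralizing (m + 1) (Ext a) (card_ext ha hm) A
    hcardA hcent
  simpa using h

/-- In a maximal class extension some element killed by `p` is moved. -/
theorem moved_of_class (hp : p ≠ 2) (hL : IsPGroup p L) (hmc : Cfsg.IsMetacyclic L)
    (hnc : ∀ C : Subgroup L, IsCyclic C → C.index ≠ p) (ha : orderOf a = p) {m : ℕ}
    (hm : Nat.card L = p ^ m) (hclass : Group.nilpotencyClass (Ext a) = m) :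
    ∃ x : L, orderOf x = p ∧ a x ≠ x := by
  have hprime := (Fact.out : p.Prime)
  by_contra! hcon
  have hne : Nat.card L ≠ 1 := fun h => by
    haveI := (Nat.card_eq_one_iff_unique.1 h).1
    have : a = 1 := MulEquiv.ext fun _ => Subsingleton.elim _ _
    rw [this, orderOf_one] at ha
    exact hprime.one_lt.ne ha
  obtain ⟨E, hE, hEcomm, hEcard, hEpow⟩ := exists_omega hp hL hmc hnc hne
  obtain ⟨Z, hZcard, hZc, -, -⟩ := exists_central_shift ha hL hE hEcard
  have hEa : ∀ x ∈ E, a x = x := fun x hx => by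
    by_cases h1 : x = 1
    · rw [h1, map_one]
    · exact hcon x (orderOf_eq_prime ((hE x).1 hx) h1)
  have hm2 : 2 ≤ m := by
    have h := E.card_subgroup_dvd_card
    rw [hEcard, hm] at h
    exact (Nat.pow_dvd_pow_iff_le_right hprime.one_lt).1 h
  have hm3 : 3 ≤ m := by
    by_contra hlt
    obtain rfl : m = 2 := by omega
    haveI : Nontrivial E := Finite.one_lt_card_iff_nontrivial.1
      ((one_lt_pow₀ hprime.one_lt two_ne_zero).trans_eq hEcard.symm)
    obtain ⟨y, hy⟩ := exists_ne (1 : E)
    have hy' : (y : L) ≠ 1 := fun h => hy (Subtype.ext h)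
    refine hnc (zpowers (y : L)) inferInstance ?_
    have h := (zpowers (y : L)).card_mul_index
    rw [Nat.card_zpowers, orderOf_eq_prime ((hE _).1 y.2) hy', hm, pow_two] at h
    exact Nat.eq_of_mul_eq_mul_left hprime.pos h
  have hP : IsPGroup p (Ext a) := IsPGroup.of_card (card_ext ha hm)
  haveI : Group.IsNilpotent (Ext a) := hP.isNilpotent
  -- the last term of the lower central series is not trivial
  have hnz : (⊤ : Subgroup (Ext a)).lowerCentralSeries (m - 2) ≤ center (Ext a) → False := by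
    intro h
    have hb : (⊤ : Subgroup (Ext a)).lowerCentralSeries (m - 1) = ⊥ := by
      rw [show m - 1 = m - 2 + 1 by omega, Subgroup.lowerCentralSeries_succ, eq_bot_iff, commutator_le]
      intro g hg k _
      rw [mem_bot, commutatorElement_eq_one_iff_mul_comm]
      exact (mem_center_iff.1 (h hg) k).symm
    have := Subgroup.lowerCentralSeries_eq_bot_iff_nilpotencyClass_le.1 hb
    omega
  haveI hEn : E.Normal := ⟨fun x hx g => by
    rw [hE] at hx ⊢
    rw [conj_pow, hx, mul_one, mul_inv_cancel]⟩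
  set EP := E.map (SemidirectProduct.inl : L →* Ext a) with hEP
  haveI hEPn : EP.Normal := normal_map E (fun f x hx => pow_invariant hE f x hx)
  have hEidx : EP.index = p ^ (m - 1) := by
    have h := EP.card_mul_index
    rw [hEP, card_map_of_injective SemidirectProduct.inl_injective, hEcard, card_ext ha hm,
      show m + 1 = 2 + (m - 1) by omega, pow_add] at h
    exact Nat.eq_of_mul_eq_mul_left (pow_pos hprime.pos 2) h
  have hserE : (⊤ : Subgroup (Ext a)).lowerCentralSeries (m - 2) ≤ EP := by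
    have := CfsgLib.PGroup.lowerCentralSeries_le_of_index hP (N := EP) (r := m - 1) (by omega) hEidx
    rwa [show m - 1 - 1 = m - 2 by omega] at this
  haveI hDc : IsCyclic (_root_.commutator L) := isCyclic_derived hmc
  set DP := (_root_.commutator L).map (SemidirectProduct.inl : L →* Ext a) with hDP
  haveI hDPn : DP.Normal := by
    refine normal_map _ fun f x hx => ?_
    have : (_root_.commutator L).map f.toMonoidHom = _root_.commutator L :=
      Subgroup.characteristic_iff_map_eq.1 inferInstance f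
    exact this ▸ mem_map_of_mem f.toMonoidHom hx
  by_cases hD : Nat.card (_root_.commutator L) ≤ p
  · -- then `E` is central in the extension
    have hDZ := CfsgLib.MetacyclicOmega.le_center_of_card_le hL _ hD
    have hDp : ∀ c ∈ _root_.commutator L, c ^ p = 1 := by
      intro c hc
      obtain ⟨j, hj⟩ := (hL.to_subgroup (_root_.commutator L)).exists_card_eq
      have hj1 : j ≤ 1 := (Nat.pow_le_pow_iff_right hprime.one_lt).1 (by rw [pow_one, ← hj]; exact hD)
      refine orderOf_dvd_iff_pow_eq_one.1 ?_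
      have h1 : orderOf (⟨c, hc⟩ : _root_.commutator L) ∣ p ^ j :=
        hj ▸ _root_.orderOf_dvd_natCard _
      rw [← Subgroup.orderOf_coe] at h1
      exact h1.trans ((pow_dvd_pow p hj1).trans (by simp))
    have hEL : E ≤ center L := by
      intro e he
      obtain ⟨x, rfl⟩ := hEpow e he
      rw [mem_center_iff]
      intro g
      have hc : ∀ u v : L, ⁅u, v⁆ ∈ center L := fun u v =>
        hDZ (commutator_mem_commutator (mem_top u) (mem_top v))
      refine (commutatorElement_eq_one_iff_mul_comm.1 ?_).symm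
      rw [CfsgLib.CFun.MetaAct.comm_pow_left hc, hDp _ (commutator_mem_commutator (mem_top x) (mem_top g))]
    refine hnz (hserE.trans ?_)
    rintro _ ⟨x, hx, rfl⟩
    rw [mem_center_iff]
    intro g
    refine SemidirectProduct.ext ?_ (by simp)
    simp only [SemidirectProduct.mul_left, SemidirectProduct.left_inl, SemidirectProduct.right_inl,
      map_one, MulAut.one_apply, coe_subtype]
    rw [aut_pow_fix (hEa x hx) _ g.right.2]
    exact mem_center_iff.1 (hEL hx) g.left
  · push Not at hD
    obtain ⟨j, hj⟩ := (hL.to_subgroup (_root_.commutator L)).exists_card_eq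
    have hj2 : 2 ≤ j := by
      by_contra hlt
      have : p ^ j ≤ p ^ 1 := Nat.pow_le_pow_right hprime.pos (by omega)
      rw [pow_one, ← hj] at this
      omega
    have hjm : j ≤ m := by
      have h := (_root_.commutator L).card_subgroup_dvd_card
      rw [hj, hm] at h
      exact (Nat.pow_dvd_pow_iff_le_right hprime.one_lt).1 h
    have hjne : j ≠ m := by
      intro h
      haveI : Group.IsNilpotent L := hL.isNilpotent
      have htop : _root_.commutator L = ⊤ := eq_top_of_card_eq _ (by rw [hj, hm, h])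
      have : IsCyclic (⊤ : Subgroup L) := htop ▸ hDc
      exact not_isCyclic hL hnc hne (isCyclic_of_surjective (Subgroup.topEquiv (G := L))
        (Subgroup.topEquiv (G := L)).surjective)
    have hDidx : DP.index = p ^ (m + 1 - j) := by
      have h := DP.card_mul_index
      rw [hDP, card_map_of_injective SemidirectProduct.inl_injective, hj, card_ext ha hm,
        show m + 1 = j + (m + 1 - j) by omega, pow_add] at h
      rw [hDP]
      exact Nat.eq_of_mul_eq_mul_left (pow_pos hprime.pos j) h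
    have h1 := CfsgLib.PGroup.lowerCentralSeries_le_of_index hP (N := DP) (r := m + 1 - j) (by omega) hDidx
    have h2 : (⊤ : Subgroup (Ext a)).lowerCentralSeries (m - 2) ≤ DP :=
      ((⊤ : Subgroup (Ext a)).lowerCentralSeries_antitone (by omega)).trans h1
    set I := (⊤ : Subgroup (Ext a)).lowerCentralSeries (m - 2) with hI
    haveI : IsCyclic DP := isCyclic_of_surjective
      ((_root_.commutator L).equivMapOfInjective _ SemidirectProduct.inl_injective)
      ((_root_.commutator L).equivMapOfInjective _ SemidirectProduct.inl_injective).surjective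
    refine hnz (CfsgLib.MetacyclicOmega.le_center_of_card_le hP I
      (CfsgLib.MetacyclicOmega.card_pow_eq_one_le I h2 fun x hx => ?_))
    obtain ⟨l, hl, rfl⟩ := hserE hx
    rw [← map_pow, (hE l).1 hl, map_one]

end CfsgLib.PGroup.MetacyclicAutOmega
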