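import Mathlib
import Cfsg.Agent.Lib.PGroup.MetacyclicFrame

/-!
# Class sizes, abelian subgroups and factorizations in metacyclic `p`-groups, `p` odd
-/

set_option autoImplicit false
open Subgroup
open scoped commutatorElement

namespace CfsgLib.Metacyclic

universe u

variable {G : Type u} [Group G] [Finite G] {p n : ℕ} [hp : Fact p.Prime]

omit [Finite G] in
theorem isMulCommutative_sup {L K : Subgroup G} (hL : IsMulCommutative L) (hK : IsMulCommutative K)
    (hLK : K ≤ centralizer (L : Set G)) : IsMulCommutative (L ⊔ K : Subgroup G) := by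
  have hLL : L ≤ centralizer (L : Set G) := fun x hx => mem_centralizer_iff.2 fun y hy =>
    congrArg Subtype.val (mul_comm' (⟨y, hy⟩ : L) ⟨x, hx⟩)
  have hKK : K ≤ centralizer (K : Set G) := fun x hx => mem_centralizer_iff.2 fun y hy =>
    congrArg Subtype.val (mul_comm' (⟨y, hy⟩ : K) ⟨x, hx⟩)
  have h : (L ⊔ K : Subgroup G) ≤ centralizer ((L ⊔ K : Subgroup G) : Set G) := by
    refine sup_le (Subgroup.le_centralizer_iff.1 (sup_le hLL hLK)) (Subgroup.le_centralizer_iff.1 ?_)
    exact sup_le (Subgroup.le_centralizer_iff.1 hLK) hKK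
  exact ⟨⟨fun u v => Subtype.ext (mem_centralizer_iff.1 (h v.2) u u.2)⟩⟩

omit [Finite G] in
theorem isMulCommutative_sup_center {L : Subgroup G} (hL : IsMulCommutative L) :
    IsMulCommutative (L ⊔ center G : Subgroup G) :=
  isMulCommutative_sup hL inferInstance (center_le_centralizer _)

omit [Finite G] in
theorem centralizer_sup_center (L : Subgroup G) :
    centralizer ((L ⊔ center G : Subgroup G) : Set G) = centralizer (L : Set G) := by
  refine le_antisymm (centralizer_le (le_sup_left : L ≤ L ⊔ center G)) ?_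
  exact Subgroup.le_centralizer_iff.1 (sup_le (Subgroup.le_centralizer_iff.1 le_rfl) (center_le_centralizer _))

omit [Finite G] in
theorem map_center_eq (R : Subgroup G) :
    (center R).map R.subtype = R ⊓ centralizer (R : Set G) := by
  ext x
  simp only [mem_map, Subgroup.mem_inf, mem_centralizer_iff, mem_center_iff]
  constructor
  · rintro ⟨r, hr, rfl⟩
    exact ⟨r.2, fun g hg => congrArg Subtype.val (hr ⟨g, hg⟩)⟩
  · rintro ⟨hx, h⟩
    exact ⟨⟨x, hx⟩, fun g => Subtype.ext (h g g.2), rfl⟩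

namespace Setup

variable (S : Setup p n G)
include S

theorem derived_index_mul : (_root_.commutator G).index * p ^ n = Nat.card G := by
  rw [← S.card_derived, mul_comm, card_mul_index]

theorem card_mul_center : (_root_.commutator G).index ^ 2 = Nat.card G * Nat.card (center G) := by
  have h1 := S.derived_index_mul
  have h2 := S.index_center
  have hq : 0 < p ^ n * p ^ n := Nat.mul_pos (pow_pos hp.out.pos n) (pow_pos hp.out.pos n)
  refine Nat.eq_of_mul_eq_mul_right hq ?_
  calc (_root_.commutator G).index ^ 2 * (p ^ n * p ^ n)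
      = ((_root_.commutator G).index * p ^ n) * ((_root_.commutator G).index * p ^ n) := by ring
    _ = Nat.card G * (Nat.card (center G) * (p ^ n * p ^ n)) := by rw [h1, h2]
    _ = Nat.card G * Nat.card (center G) * (p ^ n * p ^ n) := by ring

/-- A subgroup is abelian exactly when its order is at most `|G : G'|`. -/
theorem comm_iff_card_le (L : Subgroup G) :
    IsMulCommutative L ↔ Nat.card L ≤ (_root_.commutator G).index := by
  constructor
  · intro hL
    obtain ⟨k, -, hcard, -, hiff, -⟩ := S.lattice (L := L ⊔ center G) le_sup_right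
    have hnk := hiff.1 (isMulCommutative_sup_center hL)
    refine le_trans (card_le_of_le (le_sup_left : L ≤ L ⊔ center G)) (le_of_mul_le_mul_right ?_ (pow_pos hp.out.pos n))
    rw [S.derived_index_mul, ← hcard]
    exact Nat.mul_le_mul_left _ (Nat.pow_le_pow_right hp.out.pos hnk)
  · intro hle
    by_contra hL
    obtain ⟨k, -, hcard, -, hiff, -⟩ := S.lattice (S.center_le_of_not_comm hL)
    have hk : k < n := not_le.1 fun h => hL (hiff.2 h)
    have h1 : Nat.card L * p ^ k < Nat.card L * p ^ n :=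
      Nat.mul_lt_mul_of_pos_left (Nat.pow_lt_pow_right hp.out.one_lt hk) Nat.card_pos
    rw [hcard, ← S.derived_index_mul] at h1
    exact absurd (lt_of_mul_lt_mul_right h1 (Nat.zero_le _)) (not_lt.2 hle)

theorem maximal_comm_iff (L : Subgroup G) :
    Maximal (fun K : Subgroup G => IsMulCommutative K) L ↔
      Nat.card L = (_root_.commutator G).index := by
  constructor
  · rintro ⟨hL, hmax⟩
    have hZ : center G ≤ L := le_sup_right.trans (hmax (isMulCommutative_sup_center hL) le_sup_left)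
    have hCL : centralizer (L : Set G) ≤ L := fun c hc =>
      hmax (isMulCommutative_sup hL inferInstance (zpowers_le.2 hc)) le_sup_left
        (mem_sup_right (mem_zpowers c))
    have hLC : L ≤ centralizer (L : Set G) := fun x hx => mem_centralizer_iff.2 fun y hy =>
      congrArg Subtype.val (mul_comm' (⟨y, hy⟩ : L) ⟨x, hx⟩)
    obtain ⟨k, hk, hcard, hcardC, -, -⟩ := S.lattice hZ
    rw [le_antisymm hCL hLC, ← hcard] at hcardC
    have hkn := Nat.pow_right_injective hp.out.two_le (Nat.eq_of_mul_eq_mul_left Nat.card_pos hcardC)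
    refine Nat.eq_of_mul_eq_mul_right (pow_pos hp.out.pos n) ?_
    rw [S.derived_index_mul, ← hcard, show k = n by omega]
  · intro hL
    refine ⟨(S.comm_iff_card_le L).2 hL.le, fun K hK hLK => le_of_eq ?_⟩
    exact (eq_of_le_of_card_ge hLK (hL ▸ (S.comm_iff_card_le K).1 hK)).symm

/-- The size of the class of an element. -/
theorem index_centralizer_root {y h : G} (hyh : Subgroup.closure ({y, h} : Set G) = ⊤) (m : ℕ) :
    (centralizer ({y ^ p ^ m} : Set G)).index = p ^ (n - m) := by
  rcases le_or_gt m n with hm | hm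
  · exact S.card_centralizer_pow hyh hm
  · rw [show n - m = 0 by omega, pow_zero, index_eq_one, eq_top_iff]
    intro g _
    refine mem_centralizer_singleton_iff.2 ?_
    have hz : y ^ p ^ m ∈ center G := by
      rw [show m = n + (m - n) by omega, pow_add, pow_mul]
      exact pow_mem (S.pow_mem_center y) _
    exact mem_center_iff.1 hz g

theorem exists_index_eq (g : G) : ∃ k ≤ n, (centralizer ({g} : Set G)).index = p ^ k := by
  rcases eq_or_ne g 1 with rfl | hg
  · refine ⟨0, Nat.zero_le _, ?_⟩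
    rw [pow_zero, index_eq_one, eq_top_iff]
    exact fun x _ => mem_centralizer_singleton_iff.2 (by simp)
  · obtain ⟨y, h, m, hyh, rfl⟩ := S.exists_root hg
    exact ⟨n - m, Nat.sub_le _ _, S.index_centralizer_root hyh m⟩

/-- Small classes are exactly the powers. -/
theorem index_le_iff (g : G) {s : ℕ} (hs : s ≤ n) :
    (centralizer ({g} : Set G)).index ≤ p ^ (n - s) ↔ ∃ y : G, y ^ p ^ s = g := by
  constructor
  · intro hle
    rcases eq_or_ne g 1 with rfl | hg
    · exact ⟨1, one_pow _⟩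
    obtain ⟨y, h, m, hyh, rfl⟩ := S.exists_root hg
    rw [S.index_centralizer_root hyh, Nat.pow_le_pow_iff_right hp.out.one_lt] at hle
    exact ⟨y ^ p ^ (m - s), by rw [← pow_mul, ← pow_add, show m - s + s = m by omega]⟩
  · rintro ⟨y, rfl⟩
    rcases eq_or_ne y 1 with rfl | hy
    · rw [one_pow, show (centralizer ({1} : Set G)).index = 1 by
        rw [index_eq_one, eq_top_iff]
        exact fun x _ => mem_centralizer_singleton_iff.2 (by simp)]
      exact pow_pos hp.out.pos _
    obtain ⟨y₁, h, m, hyh, rfl⟩ := S.exists_root hy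
    rw [← pow_mul, ← pow_add, S.index_centralizer_root hyh]
    exact Nat.pow_le_pow_right hp.out.pos (by omega)

theorem mem_powerClosure_iff (g : G) (s : ℕ) :
    g ∈ Cfsg.powerClosure p s (⊤ : Subgroup G) ↔ ∃ y : G, y ^ p ^ s = g := by
  rw [← SetLike.mem_coe, ← CfsgLib.RegularPowers.powerClosure_eq S.pGroup
    (fun a b => S.regular.2 a b s) ⊤]
  exact ⟨fun ⟨x, _, hx⟩ => ⟨x, hx.symm⟩, fun ⟨x, hx⟩ => ⟨x, mem_top _, hx.symm⟩⟩

theorem card_powerClosure {s : ℕ} (hs : s ≤ n) :
    Nat.card (Cfsg.powerClosure p s (⊤ : Subgroup G)) = Nat.card (center G) * p ^ (2 * (n - s)) := by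
  obtain ⟨a, b, -, -, hall⟩ := exists_normal_pair S.meta'
  have hab := S.closure_normal_pair hall
  have hcom : ∀ x u : G, Commute (x ^ p ^ s) (u ^ p ^ (n - s)) := fun x u => by
    refine (S.commute_pow_pow_iff x u s (n - s)).2 ?_
    have hmem : ⁅x, u⁆ ∈ _root_.commutator G := commutator_mem_commutator (mem_top _) (mem_top _)
    rw [show s + (n - s) = n by omega, ← S.card_derived]
    exact congrArg Subtype.val (pow_card_eq_one' (x := (⟨_, hmem⟩ : _root_.commutator G)))
  have h := S.card_frame hab hs hs (L := Cfsg.powerClosure p s (⊤ : Subgroup G))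
    (fun z hz => (S.mem_powerClosure_iff z s).2 ((S.index_le_iff z hs).1 (by
      rw [show (centralizer ({z} : Set G)).index = 1 by
        rw [index_eq_one, eq_top_iff]
        exact fun x _ => mem_centralizer_singleton_iff.2 (mem_center_iff.1 hz x)]
      exact pow_pos hp.out.pos _)))
    ((S.mem_powerClosure_iff _ s).2 ⟨a, rfl⟩) ((S.mem_powerClosure_iff _ s).2 ⟨b, rfl⟩)
    (fun i j hij => by
      obtain ⟨x, hx⟩ := (S.mem_powerClosure_iff _ s).1 hij
      have h1 := (S.mem_centralizer_pow_iff' hab (Nat.sub_le n s) i j).1 (hx ▸ (hcom x b).symm)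
      have h2 := (S.mem_centralizer_pow_iff hab (Nat.sub_le n s) i j).1 (hx ▸ (hcom x a).symm)
      rw [show n - (n - s) = s by omega] at h1 h2
      exact ⟨h1, h2⟩)
  refine Nat.eq_of_mul_eq_mul_right (pow_pos hp.out.pos (s + s)) ?_
  rw [h, ← S.index_center, mul_assoc, ← pow_add, ← pow_add]
  congr 2
  omega

theorem card_index_eq {i : ℕ} (hi : 1 ≤ i) (hin : i ≤ n) :
    Nat.card {g : G // (centralizer ({g} : Set G)).index = p ^ i} =
      Nat.card (center G) * (p ^ (2 * i) - p ^ (2 * i - 2)) := by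
  have hiff : ∀ g, (centralizer ({g} : Set G)).index = p ^ i ↔
      g ∈ (Cfsg.powerClosure p (n - i) (⊤ : Subgroup G) : Set G) \
        (Cfsg.powerClosure p (n - i + 1) (⊤ : Subgroup G) : Set G) := by
    intro g
    rw [Set.mem_sdiff, SetLike.mem_coe, SetLike.mem_coe, S.mem_powerClosure_iff, S.mem_powerClosure_iff,
      ← S.index_le_iff g (by omega : n - i ≤ n), ← S.index_le_iff g (by omega : n - i + 1 ≤ n)]
    obtain ⟨k, -, hk⟩ := S.exists_index_eq g
    simp only [hk, Nat.pow_le_pow_iff_right hp.out.one_lt]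
    refine ⟨fun h => ?_, fun h => congrArg (p ^ ·) (by omega)⟩
    have := Nat.pow_right_injective hp.out.two_le h
    omega
  have hle : Cfsg.powerClosure p (n - i + 1) (⊤ : Subgroup G) ≤ Cfsg.powerClosure p (n - i) ⊤ :=
    fun g hg => by
      obtain ⟨y, rfl⟩ := (S.mem_powerClosure_iff g _).1 hg
      exact (S.mem_powerClosure_iff _ _).2 ⟨y ^ p, by rw [← pow_mul, ← pow_succ']⟩
  rw [Nat.card_congr (Equiv.subtypeEquivRight hiff)]
  refine (Nat.card_coe_set_eq ((Cfsg.powerClosure p (n - i) (⊤ : Subgroup G) : Set G) \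
    (Cfsg.powerClosure p (n - i + 1) (⊤ : Subgroup G) : Set G))).trans ?_
  rw [Set.ncard_sdiff (SetLike.coe_subset_coe.2 hle), ← Nat.card_coe_set_eq, ← Nat.card_coe_set_eq]
  change Nat.card (Cfsg.powerClosure p (n - i) (⊤ : Subgroup G)) -
    Nat.card (Cfsg.powerClosure p (n - i + 1) (⊤ : Subgroup G)) = _
  rw [S.card_powerClosure (by omega), S.card_powerClosure (by omega), ← Nat.mul_sub,
    show 2 * (n - (n - i)) = 2 * i by omega, show 2 * (n - (n - i + 1)) = 2 * i - 2 by omega]

/-- Centralizer-products of subgroups. -/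
theorem card_mul_centralizer_le (R : Subgroup G) :
    Nat.card R * Nat.card (centralizer (R : Set G)) ≤ Nat.card G * Nat.card (center G) ∧
      (Nat.card R * Nat.card (centralizer (R : Set G)) = Nat.card G * Nat.card (center G) ↔
        center G ≤ R) := by
  obtain ⟨k, hk, hcard, hcardC, -, -⟩ := S.lattice (L := R ⊔ center G) le_sup_right
  rw [centralizer_sup_center] at hcardC
  have hM : Nat.card (R ⊔ center G : Subgroup G) * Nat.card (centralizer (R : Set G)) =
      Nat.card G * Nat.card (center G) := by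
    refine Nat.eq_of_mul_eq_mul_right (pow_pos hp.out.pos (2 * n)) ?_
    calc Nat.card (R ⊔ center G : Subgroup G) * Nat.card (centralizer (R : Set G)) * p ^ (2 * n)
        = (Nat.card (R ⊔ center G : Subgroup G) * p ^ k) *
          (Nat.card (centralizer (R : Set G)) * p ^ (2 * n - k)) := by
            rw [mul_mul_mul_comm, ← pow_add, Nat.add_sub_cancel' hk]
      _ = Nat.card G * (Nat.card (center G) * (p ^ n * p ^ n)) := by rw [hcard, hcardC, S.index_center]
      _ = Nat.card G * Nat.card (center G) * p ^ (2 * n) := by rw [two_mul, pow_add]; ring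
  rw [← hM]
  refine ⟨Nat.mul_le_mul_right _ (card_le_of_le le_sup_left), ⟨fun he => ?_, fun hZ => ?_⟩⟩
  · have := eq_of_le_of_card_ge (le_sup_left : R ≤ R ⊔ center G)
      (Nat.eq_of_mul_eq_mul_right Nat.card_pos he).ge
    exact le_sup_right.trans this.ge
  · rw [sup_eq_left.2 hZ]

theorem eq_centralizer_centralizer {K : Subgroup G} (hZ : center G ≤ K) :
    centralizer ((centralizer (K : Set G) : Subgroup G) : Set G) = K := by
  obtain ⟨k, hk, hcard, hcardC, -, -⟩ := S.lattice hZ
  obtain ⟨k', hk', hcard', hcardC', -, -⟩ := S.lattice (L := centralizer (K : Set G)) (center_le_centralizer _)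
  refine (eq_of_le_of_card_ge (Subgroup.le_centralizer_iff.1 le_rfl) (le_of_eq ?_)).symm
  rw [← hcard'] at hcardC
  have hk2 : 2 * n - k = k' :=
    Nat.pow_right_injective hp.out.two_le (Nat.eq_of_mul_eq_mul_left Nat.card_pos hcardC)
  rw [show 2 * n - k' = k by omega, ← hcard] at hcardC'
  exact Nat.eq_of_mul_eq_mul_right (pow_pos hp.out.pos k) hcardC'

theorem frattini_iff_index {g : G} (hna : ¬ IsMulCommutative G) :
    g ∈ frattini G ↔ (centralizer ({g} : Set G)).index < p ^ n := by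
  have hn : 0 < n := by
    rcases Nat.eq_zero_or_pos n with h0 | h0
    · exfalso
      refine hna ⟨⟨fun a b => ?_⟩⟩
      have hmem : ⁅a, b⁆ ∈ _root_.commutator G := commutator_mem_commutator (mem_top _) (mem_top _)
      have hbot : _root_.commutator G = ⊥ := Subgroup.card_eq_one.1 (by rw [S.card_derived, h0, pow_zero])
      rw [hbot, mem_bot] at hmem
      exact commutatorElement_eq_one_iff_mul_comm.1 hmem
    · exact h0
  rcases eq_or_ne g 1 with rfl | hg
  · refine iff_of_true (one_mem _) ?_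
    rw [show (centralizer ({1} : Set G)).index = 1 by
      rw [index_eq_one, eq_top_iff]
      exact fun x _ => mem_centralizer_singleton_iff.2 (by simp)]
    exact Nat.one_lt_pow hn.ne' hp.out.one_lt
  obtain ⟨y, h, m, hyh, rfl⟩ := S.exists_root hg
  rw [S.index_centralizer_root hyh, Nat.pow_lt_pow_iff_right hp.out.one_lt]
  rcases Nat.eq_zero_or_pos m with rfl | hm
  · refine iff_of_false (fun hy => hna ?_) (by omega)
    rw [pow_zero, pow_one] at hy
    have htop : zpowers h ⊔ frattini G = ⊤ := eq_top_iff.2 (hyh ▸ (Subgroup.closure_le _).2 (by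
      rintro x (rfl | rfl)
      · exact mem_sup_right hy
      · exact mem_sup_left (mem_zpowers x)))
    have hgen := frattini_nongenerating htop
    refine ⟨⟨fun a b => ?_⟩⟩
    obtain ⟨i, rfl⟩ := mem_zpowers_iff.1 (hgen.ge (mem_top a))
    obtain ⟨j, rfl⟩ := mem_zpowers_iff.1 (hgen.ge (mem_top b))
    exact ((Commute.refl h).zpow_zpow i j).eq
  · refine iff_of_true ?_ (by omega)
    obtain ⟨m, rfl⟩ := Nat.exists_eq_add_of_le hm
    rw [add_comm, pow_succ, pow_mul]
    exact CfsgLib.Coprime.pow_mem_frattini S.pGroup _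

end Setup

theorem card_mul_of_generating {u v : G} (hi : zpowers u ⊓ zpowers v = ⊥)
    (hc : Nat.card G ≤ orderOf u * orderOf v) :
    ∃ A B : Subgroup G, IsCyclic A ∧ IsCyclic B ∧ A ⊓ B = ⊥ ∧ Nat.card A * Nat.card B = Nat.card G := by
  refine ⟨zpowers u, zpowers v, inferInstance, inferInstance, hi, le_antisymm ?_ ?_⟩
  · rw [← Nat.card_prod]
    refine Nat.card_le_card_of_injective (fun z : zpowers u × zpowers v => (z.1 : G) * z.2) ?_
    rintro ⟨⟨a, ha⟩, ⟨b, hb⟩⟩ ⟨⟨a', ha'⟩, ⟨b', hb'⟩⟩ he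
    simp only at he
    have h1 : a'⁻¹ * a = b' * b⁻¹ := by
      rw [eq_mul_inv_iff_mul_eq, mul_assoc, he, inv_mul_cancel_left]
    have h2 : a'⁻¹ * a ∈ zpowers u ⊓ zpowers v :=
      Subgroup.mem_inf.2 ⟨mul_mem (inv_mem ha') ha, h1 ▸ mul_mem hb' (inv_mem hb)⟩
    rw [hi, mem_bot, inv_mul_eq_one] at h2
    subst h2
    simp only [mul_left_cancel he]
  · rwa [Nat.card_zpowers, Nat.card_zpowers]

theorem exists_cyclic_factorization (hp2 : p ≠ 2) (hG : IsPGroup p G) (hmc : Cfsg.IsMetacyclic G) :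
    ∃ A B : Subgroup G, IsCyclic A ∧ IsCyclic B ∧ A ⊓ B = ⊥ ∧ Nat.card A * Nat.card B = Nat.card G := by
  obtain ⟨n, S⟩ := exists_setup hp2 hG hmc
  have hR := CfsgLib.RegularPowers.regular_pow_eq_iff S.regular
  obtain ⟨a, b, hN, -, hall⟩ := exists_normal_pair hmc
  haveI := hN
  set π := QuotientGroup.mk' (zpowers a)
  have hπ : ∀ x, π x = 1 ↔ x ∈ zpowers a := fun x => QuotientGroup.eq_one_iff x
  obtain ⟨β, hβ⟩ := IsPGroup.iff_orderOf.1 (hG.to_quotient (zpowers a)) (π b)
  obtain ⟨α, hα⟩ := IsPGroup.iff_orderOf.1 hG a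
  have hcard : Nat.card G = p ^ β * p ^ α := by
    rw [(zpowers a).card_eq_card_quotient_mul_card_subgroup, Nat.card_zpowers, hα, ← hβ]
    congr 1
    refine (orderOf_eq_card_of_forall_mem_zpowers fun q => ?_).symm
    obtain ⟨g, rfl⟩ := QuotientGroup.mk'_surjective (zpowers a) q
    obtain ⟨i, j, rfl⟩ := hall g
    refine ⟨j, ?_⟩
    change π b ^ j = π (a ^ i * b ^ j)
    rw [map_mul, map_zpow, map_zpow, (hπ a).2 (mem_zpowers a), _root_.one_zpow, one_mul]
  have hbj : ∀ j : ℤ, b ^ j ∈ zpowers a ↔ ((p ^ β : ℕ) : ℤ) ∣ j := fun j => by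
    rw [← hπ, map_zpow, ← orderOf_dvd_iff_zpow_eq_one, hβ]
  have hdvd : ∀ v : G, π v = π b → p ^ β ∣ orderOf v := fun v hv =>
    hβ ▸ hv ▸ orderOf_map_dvd π v
  have hbq : b ^ p ^ β ∈ zpowers a := by
    have := (hbj (p ^ β : ℕ)).2 dvd_rfl
    rwa [zpow_natCast] at this
  obtain ⟨t, ht⟩ : ∃ t : ℕ, a ^ t = b ^ p ^ β := mem_powers_iff_mem_zpowers.2 hbq
  rcases em (b ^ p ^ β = 1 ∨ ∃ t', a ^ (p ^ β * t') = b ^ p ^ β) with hcase | hcase
  · -- a complement to `⟨a⟩` exists
    obtain ⟨x, hx⟩ : ∃ x : ℕ, (b * (a ^ x)⁻¹) ^ p ^ β = 1 := by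
      rcases hcase with h | ⟨t', h⟩
      · exact ⟨0, by simp [h]⟩
      · exact ⟨t', (hR _ _ _).1 (by rw [← pow_mul, mul_comm, h])⟩
    set v := b * (a ^ x)⁻¹
    have hv : π v = π b := by
      rw [map_mul, map_inv, map_pow, (hπ a).2 (mem_zpowers a), one_pow, inv_one, mul_one]
    refine card_mul_of_generating (u := a) (v := v) ?_ ?_
    · rw [eq_bot_iff]
      rintro g ⟨hga, hgv⟩
      obtain ⟨j, rfl⟩ := mem_zpowers_iff.1 hgv
      have h1 : ((p ^ β : ℕ) : ℤ) ∣ j := by
        rw [← hbj, ← hπ, map_zpow, ← hv, ← map_zpow]; exact (hπ _).2 hga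
      obtain ⟨c, rfl⟩ := h1
      rw [mem_bot, zpow_mul, zpow_natCast, hx, _root_.one_zpow]
    · rw [hcard, hα, mul_comm]
      exact Nat.mul_le_mul_left _ (Nat.le_of_dvd (orderOf_pos v) (hdvd v hv))
  · push Not at hcase
    obtain ⟨hb1, hnd⟩ := hcase
    have ht0 : t ≠ 0 := fun e => hb1 (by rw [← ht, e, pow_zero])
    obtain ⟨γ, w, hw, rfl⟩ := Nat.exists_eq_pow_mul_and_not_dvd ht0 p hp.out.ne_one
    have hγβ : γ < β := by
      by_contra hc
      push Not at hc
      exact hnd (p ^ (γ - β) * w) (by rw [← mul_assoc, ← pow_add, Nat.add_sub_cancel' hc, ht])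
    have hγα : γ < α := by
      by_contra hc
      push Not at hc
      refine hb1 ?_
      rw [← ht, show γ = α + (γ - α) by omega, pow_add, mul_assoc, pow_mul, ← hα, pow_orderOf_eq_one, one_pow]
    obtain ⟨w', hw'⟩ := exists_pow_eq_self_of_coprime (x := a ^ p ^ γ) (n := w) (by
      refine Nat.Coprime.coprime_dvd_right (orderOf_pow_dvd (p ^ γ)) ?_
      rw [hα]; exact (hp.out.coprime_iff_not_dvd.2 hw).symm.pow_right α)
    set E : ℕ := p ^ (β - γ) * w' with hE
    have hc : (b ^ E) ^ p ^ γ = a ^ p ^ γ := by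
      rw [← pow_mul, hE, mul_comm, ← mul_assoc, ← pow_add, Nat.add_sub_cancel' hγβ.le, pow_mul, ← ht, pow_mul,
        hw']
    set u := a * (b ^ E)⁻¹ with hu
    have hu1 : u ^ p ^ γ = 1 := (hR _ _ _).1 hc.symm
    -- powers of `u` below `p ^ γ` avoid `⟨b⟩`
    have hkey : ∀ k < γ, u ^ p ^ k ∉ zpowers b := by
      intro k hk hmem
      obtain ⟨j, hj⟩ := mem_zpowers_iff.1 hmem
      have h1 : ((p ^ β : ℕ) : ℤ) ∣ j + (E : ℤ) * (p ^ k : ℕ) := by
        rw [← hbj, ← hπ, zpow_add, map_mul, hj, map_pow, hu, map_mul, (hπ a).2 (mem_zpowers a), one_mul,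
          map_inv, map_zpow, zpow_mul, zpow_natCast, zpow_natCast, map_pow, inv_pow, inv_mul_cancel]
      obtain ⟨r, hr⟩ := h1
      have hpk : ((p ^ k : ℕ) : ℤ) ∣ j := by
        rw [show j = (p ^ β : ℕ) * r - (E : ℤ) * (p ^ k : ℕ) by rw [← hr]; ring]
        exact dvd_sub (dvd_mul_of_dvd_left (Int.natCast_dvd_natCast.2 (pow_dvd_pow p (by omega))) r)
          (dvd_mul_left _ _)
      obtain ⟨j', rfl⟩ := hpk
      have h2 : a ^ p ^ k = (b ^ (j' + (E : ℤ))) ^ p ^ k := by
        refine (hR _ _ _).2 ?_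
        have h3 : u ^ p ^ k = (b ^ j') ^ p ^ k := by rw [← hj, mul_comm, zpow_mul, zpow_natCast]
        have h4 := (hR _ _ _).1 h3
        rwa [hu, show a * (b ^ E)⁻¹ * (b ^ j')⁻¹ = a * (b ^ (j' + (E : ℤ)))⁻¹ by
          rw [zpow_add, zpow_natCast]; group] at h4
      have h5 : (b ^ (j' + (E : ℤ))) ^ p ^ k = (b ^ p ^ β) ^ r := by
        rw [← zpow_natCast, ← zpow_mul, ← zpow_natCast b (p ^ β), ← zpow_mul, ← hr]
        congr 1; ring
      have h6 : ((p ^ α : ℕ) : ℤ) ∣ ((p ^ γ * w : ℕ) : ℤ) * r - (p ^ k : ℕ) := by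
        rw [← hα, orderOf_dvd_iff_zpow_eq_one, zpow_sub, zpow_mul, zpow_natCast, zpow_natCast, ht,
          ← h5, ← h2, mul_inv_cancel]
      have h7 : ((p ^ (k + 1) : ℕ) : ℤ) ∣ (p ^ k : ℕ) := by
        have e1 := (Int.natCast_dvd_natCast.2 (pow_dvd_pow p (show k + 1 ≤ α by omega))).trans h6
        have e2 : ((p ^ (k + 1) : ℕ) : ℤ) ∣ ((p ^ γ * w : ℕ) : ℤ) * r :=
          dvd_mul_of_dvd_left (Int.natCast_dvd_natCast.2 (dvd_mul_of_dvd_left (pow_dvd_pow p (by omega)) w)) r
        exact (dvd_sub_right e2).1 e1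
      rw [Int.natCast_dvd_natCast, Nat.pow_dvd_pow_iff_le_right hp.out.one_lt] at h7
      omega
    have hou : orderOf u = p ^ γ := by
      obtain ⟨k, hk, hk'⟩ := (Nat.dvd_prime_pow hp.out).1 (orderOf_dvd_of_pow_eq_one hu1)
      rcases hk.lt_or_eq with hlt | rfl
      · exact absurd (by rw [← hk', pow_orderOf_eq_one]; exact one_mem _) (hkey k hlt)
      · exact hk'
    refine card_mul_of_generating (u := u) (v := b) ?_ ?_
    · rw [eq_bot_iff]
      rintro g ⟨hgu, hgb⟩
      obtain ⟨i, rfl⟩ := mem_powers_iff_mem_zpowers.2 hgu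
      rw [mem_bot]
      by_contra hne
      have hi0 : i ≠ 0 := fun e => hne (by simp [e])
      obtain ⟨k, c, hc', rfl⟩ := Nat.exists_eq_pow_mul_and_not_dvd hi0 p hp.out.ne_one
      have hk : k < γ := by
        by_contra hk
        push Not at hk
        refine hne ?_
        change u ^ (p ^ k * c) = 1
        rw [show k = γ + (k - γ) by omega, pow_add, mul_assoc, pow_mul, hu1, one_pow]
      obtain ⟨d, hd⟩ := exists_pow_eq_self_of_coprime (x := u ^ p ^ k) (n := c) (by
        refine Nat.Coprime.coprime_dvd_right (orderOf_pow_dvd (p ^ k)) ?_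
        rw [hou]; exact (hp.out.coprime_iff_not_dvd.2 hc').symm.pow_right γ)
      refine hkey k hk ?_
      rw [← hd]
      have hgb' : (u ^ p ^ k) ^ c ∈ zpowers b := by rw [← pow_mul]; exact hgb
      exact pow_mem hgb' d
    · have hob : orderOf b = p ^ β * p ^ (α - γ) := by
        have h1 := orderOf_pow_of_dvd (pow_ne_zero β hp.out.ne_zero) (hdvd b rfl)
        have h2 : orderOf (b ^ p ^ β) = p ^ (α - γ) := by
          rw [← ht, pow_mul, Nat.Coprime.orderOf_pow]
          · rw [orderOf_pow_of_dvd (pow_ne_zero γ hp.out.ne_zero) (hα ▸ pow_dvd_pow p hγα.le), hα,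
              Nat.pow_div hγα.le hp.out.pos]
          · refine Nat.Coprime.coprime_dvd_left (orderOf_pow_dvd _) ?_
            rw [hα]; exact (hp.out.coprime_iff_not_dvd.2 hw).pow_left α
        rw [← h2, h1, Nat.mul_div_cancel' (hdvd b rfl)]
      rw [hcard, hou, hob, mul_left_comm, ← pow_add p γ, Nat.add_sub_cancel' hγα.le]

end CfsgLib.Metacyclic
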