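import Cfsg.Agent.Lib.PGroup.MetacyclicTwoAut
import Cfsg.Agent.Lib.PGroup.MetacyclicRecog
import Cfsg.Agent.Lib.Fusion.ZJElementary
import Cfsg.Agent.Lib.Fusion.System.RankTwoResistant

/-!
# Coprime automorphisms of nonabelian metacyclic groups of odd prime power order
-/

set_option autoImplicit false
set_option linter.style.haveILetI false

open Subgroup
open scoped Classical commutatorElement

namespace CfsgLib.PGroup.MetaOdd

universe u

variable {p : ℕ} [Fact p.Prime]

/-- An invariant subgroup between the Frattini subgroup and the whole group. -/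
theorem exists_invariant_line {X : Type u} [Group X] [Finite X] (hX : IsPGroup p X) (hp2 : p ≠ 2)
    (hm : Cfsg.IsMetacyclic X) (hab : ¬ IsMulCommutative X) :
    ∃ L : Subgroup X, frattini X < L ∧ L ≠ ⊤ ∧ ∀ f : MulAut X, ∀ x ∈ L, f x ∈ L := by
  have hp := (Fact.out : p.Prime)
  set C := commutator X with hC
  obtain ⟨K, hK, hKc, hKq⟩ := id hm
  haveI := hK
  haveI := hKc
  haveI := hKq
  have hCK : C ≤ K := by
    rw [hC, _root_.commutator_def]
    refine Subgroup.commutator_le.2 fun x _ y _ => ?_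
    rw [← QuotientGroup.eq_one_iff, ← QuotientGroup.mk'_apply, map_commutatorElement,
      commutatorElement_eq_one_iff_mul_comm]
    exact (IsCyclic.isMulCommutative (α := X ⧸ K)).is_comm.comm _ _
  haveI : IsCyclic C :=
    isCyclic_of_injective (Subgroup.inclusion hCK) (Subgroup.inclusion_injective hCK)
  obtain ⟨c, hc⟩ := IsCyclic.exists_generator (α := C)
  have hCz : ∀ y ∈ C, y ∈ zpowers (c : X) := fun y hy => by
    obtain ⟨i, hi⟩ := mem_zpowers_iff.1 (hc ⟨y, hy⟩)
    exact mem_zpowers_iff.2 ⟨i, by rw [← Subgroup.coe_zpow, hi]⟩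
  set W := zpowers ((c : X) ^ p) with hW
  have hWC : W ≤ C := zpowers_le.2 (pow_mem c.2 p)
  have hCf : ∀ f : MulAut X, ∀ y ∈ C, f y ∈ C := fun f y hy =>
    (Subgroup.characteristic_iff_map_eq.1 (inferInstance : C.Characteristic) f).le ⟨y, hy, rfl⟩
  have hWf : ∀ f : MulAut X, ∀ y ∈ W, f y ∈ W := fun f y hy => by
    obtain ⟨i, rfl⟩ := mem_zpowers_iff.1 hy
    obtain ⟨j, hj⟩ := mem_zpowers_iff.1 (hCz _ (hCf f _ c.2))
    rw [map_zpow, map_pow, ← hj]
    refine zpow_mem (mem_zpowers_iff.2 ⟨j, ?_⟩) i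
    rw [← zpow_natCast, ← zpow_natCast, ← zpow_mul, ← zpow_mul, mul_comm]
  haveI hWn : W.Normal := ⟨fun w hw g => hWf (MulAut.conj g) w hw⟩
  set π := QuotientGroup.mk' W with hπ
  set Q := X ⧸ W
  set d := π (c : X) with hd
  have hdp : d ^ p = 1 := by
    rw [hd, ← map_pow]
    exact (QuotientGroup.eq_one_iff _).2 (mem_zpowers _)
  have hc1 : (c : X) ≠ 1 := fun h => hab (isMulCommutative_iff.2 fun a b => by
    rw [← commutatorElement_eq_one_iff_mul_comm]
    obtain ⟨i, hi⟩ := mem_zpowers_iff.1 (hCz _ (commutator_mem_commutator (mem_top a) (mem_top b)))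
    rw [← hi, h, one_zpow])
  have hd1 : d ≠ 1 := fun h => by
    obtain ⟨i, hi⟩ := mem_zpowers_iff.1 ((QuotientGroup.eq_one_iff _).1 h)
    obtain ⟨k, hk⟩ := hX (c : X)
    have h1 : (c : X) ^ ((p : ℤ) * i - 1) = 1 := by
      rw [zpow_sub, zpow_mul, zpow_natCast, hi, zpow_one, mul_inv_cancel]
    have h2 : (orderOf (c : X) : ℤ) ∣ (p : ℤ) * i - 1 := orderOf_dvd_iff_zpow_eq_one.2 h1
    obtain ⟨l, hl, hle⟩ := (Nat.dvd_prime_pow hp).1 (orderOf_dvd_of_pow_eq_one hk)
    rcases l with _ | l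
    · exact hc1 (orderOf_eq_one_iff.1 (by simpa using hle))
    · have h3 : (p : ℤ) ∣ (p : ℤ) * i - 1 :=
        dvd_trans (by rw [hle]; exact_mod_cast dvd_pow_self p (Nat.succ_ne_zero l)) h2
      have h4 : (p : ℤ) ∣ 1 := by
        have := dvd_sub (dvd_mul_right (p : ℤ) i) h3
        rwa [sub_sub_cancel] at this
      exact hp.ne_one (by exact_mod_cast Int.eq_one_of_dvd_one (Int.natCast_nonneg p) h4)
  set Z := zpowers d with hZ
  have hCZ : ∀ y ∈ C, π y ∈ Z := fun y hy => by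
    obtain ⟨i, rfl⟩ := mem_zpowers_iff.1 (hCz y hy)
    rw [map_zpow]
    exact zpow_mem (mem_zpowers d) i
  have hZcard : Nat.card Z = p := by rw [hZ, Nat.card_zpowers, orderOf_eq_prime hdp hd1]
  have hZp : ∀ y ∈ Z, y ^ p = 1 := fun y hy => by
    obtain ⟨i, rfl⟩ := mem_zpowers_iff.1 hy
    rw [← zpow_natCast, ← zpow_mul, mul_comm, zpow_mul, zpow_natCast, hdp, one_zpow]
  haveI hZn : Z.Normal := ⟨fun y hy g => by
    obtain ⟨a, rfl⟩ := QuotientGroup.mk'_surjective W g
    obtain ⟨i, rfl⟩ := mem_zpowers_iff.1 hy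
    rw [← conj_zpow]
    refine zpow_mem ?_ i
    rw [hd, ← map_inv, ← map_mul, ← map_mul]
    exact hCZ _ ((inferInstance : C.Normal).conj_mem _ c.2 a)⟩
  have hQp : IsPGroup p Q := hX.to_quotient W
  have hZc : ∀ y ∈ Z, ∀ x : Q, Commute y x := fun y hy x =>
    (mem_center_iff.1 (CfsgLib.MetacyclicOmega.le_center_of_card_le hQp Z hZcard.le hy) x).symm
  have hcomm : ∀ x y : Q, ⁅y, x⁆ ∈ Z := fun x y => by
    obtain ⟨a, rfl⟩ := QuotientGroup.mk'_surjective W x
    obtain ⟨b, rfl⟩ := QuotientGroup.mk'_surjective W y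
    rw [← map_commutatorElement]
    exact hCZ _ (commutator_mem_commutator (mem_top b) (mem_top a))
  have hex : ∃ e : ℕ, ∀ x : Q, x ^ p ^ e = 1 := by
    obtain ⟨e, he⟩ := hQp.exists_card_eq
    exact ⟨e, fun x => he ▸ pow_card_eq_one'⟩
  obtain ⟨e, he, hmin⟩ : ∃ e, (∀ x : Q, x ^ p ^ e = 1) ∧ ∀ j < e, ∃ x : Q, x ^ p ^ j ≠ 1 := by
    refine ⟨Nat.find hex, Nat.find_spec hex, fun j hj => ?_⟩
    have := Nat.find_min hex hj
    push Not at this
    exact this
  obtain ⟨n, rfl⟩ : ∃ n, e = n + 2 := by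
    refine ⟨e - 2, ?_⟩
    by_contra hlt
    have hall : ∀ x : Q, x ^ p = 1 := fun x => by
      rcases (show e = 0 ∨ e = 1 by omega) with rfl | rfl
      · have := he x
        rw [pow_zero, pow_one] at this
        rw [this, one_pow]
      · simpa using he x
    have h2 := CfsgLib.RankTwoThree.card_le_of_metacyclic (p := p)
      (CfsgLib.PGroup.MetaTwo.quotient hm W) ⊤ fun x _ => hall x
    rw [Subgroup.card_top] at h2
    obtain ⟨k, hk⟩ := hQp.exists_card_eq
    have hk2 : k ≤ 2 := (Nat.pow_le_pow_iff_right hp.one_lt).1 (hk ▸ h2)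
    have hQc : ∀ x y : Q, Commute x y := by
      rcases (show k ≤ 1 ∨ k = 2 by omega) with h | rfl
      · haveI : IsCyclic Q := by
          rcases (show k = 0 ∨ k = 1 by omega) with rfl | rfl
          · haveI : Subsingleton Q := (Nat.card_eq_one_iff_unique.1 (by simpa using hk)).1
            exact isCyclic_of_subsingleton
          · exact isCyclic_of_prime_card (p := p) (by simpa using hk)
        exact fun x y => (IsCyclic.isMulCommutative (α := Q)).is_comm.comm x y
      · exact fun x y => ((IsPGroup.commGroupOfCardEqPrimeSq hk).mul_comm x y :)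
    refine hd1 ?_
    have h3 : π (c : X) ∈ (⊥ : Subgroup Q) := by
      have : C.map π = ⊥ := by
        rw [hC, _root_.commutator_def, map_commutator, Subgroup.eq_bot_iff_forall]
        intro y hy
        have hle : ⁅(⊤ : Subgroup X).map π, (⊤ : Subgroup X).map π⁆ ≤ (⊥ : Subgroup Q) :=
          Subgroup.commutator_le.2 fun a _ b _ =>
            Subgroup.mem_bot.2 (commutatorElement_eq_one_iff_mul_comm.2 (hQc a b))
        exact Subgroup.mem_bot.1 (hle hy)
      exact this.le ⟨_, c.2, rfl⟩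
    exact Subgroup.mem_bot.1 h3
  set k := p ^ (n + 1) with hk
  have hpk : p ∣ k := dvd_pow_self p (Nat.succ_ne_zero n)
  have hkp : ∀ x : Q, (x ^ k) ^ p = 1 := fun x => by rw [← pow_mul, hk, ← pow_succ]; exact he x
  have hbase : ∀ x y : Q, (x * y) ^ p = x ^ p * y ^ p := fun x y =>
    CfsgLib.Fusion.mul_pow_eq_of_central_commutator (c := ⁅y, x⁆) hp hp2
      (by rw [commutatorElement_def]; group) (hZc _ (hcomm x y) x) (hZc _ (hcomm x y) y)
      (hZp _ (hcomm x y))
  have hhom : ∀ (j : ℕ) (x y : Q), (x * y) ^ p ^ j = x ^ p ^ j * y ^ p ^ j := by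
    intro j
    induction j with
    | zero => intro x y; simp
    | succ j ih => intro x y; rw [pow_succ, pow_mul, pow_mul, pow_mul, ih, hbase]
  let g : X →* Q := MonoidHom.mk' (fun x => π x ^ k) fun a b => by rw [map_mul, hk, hhom]
  have hgk : ∀ x, g x = π x ^ k := fun _ => rfl
  have hΦ : frattini X ≤ g.ker := by
    refine CfsgLib.FrattiniLe.frattini_le_of_pow_of_commutator (p := p) (fun x => ?_) ?_
    · rw [MonoidHom.mem_ker, hgk, map_pow, ← pow_mul, mul_comm, pow_mul, hkp]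
    · intro y hy
      rw [MonoidHom.mem_ker, hgk]
      obtain ⟨l, hl⟩ := hpk
      rw [hl, pow_mul, hZp _ (hCZ y hy), one_pow]
  have hgmem : ∀ (f : MulAut X) (x : X), g x = 1 → g (f x) = 1 := fun f x hx => by
    rw [hgk, ← map_pow, hπ, QuotientGroup.mk'_apply, QuotientGroup.eq_one_iff] at hx ⊢
    rw [← map_pow]
    exact hWf f _ hx
  have hZmem : ∀ (x : X), g x ∈ Z ↔ x ^ k ∈ C := fun x => by
    rw [hgk, ← map_pow]
    refine ⟨fun h => ?_, fun h => hCZ _ h⟩
    obtain ⟨i, hi⟩ := mem_zpowers_iff.1 h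
    rw [hd, ← map_zpow, hπ, QuotientGroup.mk'_apply, QuotientGroup.mk'_apply,
      QuotientGroup.eq] at hi
    have := mul_mem (zpow_mem c.2 i) (hWC hi)
    rwa [mul_inv_cancel_left] at this
  have hncyc : ¬ IsCyclic X := fun h => hab IsCyclic.isMulCommutative
  by_cases hrange : ∀ x, g x ∈ Z
  · refine ⟨g.ker, lt_of_le_of_ne hΦ fun heq => ?_, fun htop => ?_, fun f x hx =>
      MonoidHom.mem_ker.2 (hgmem f x (MonoidHom.mem_ker.1 hx))⟩
    · refine hncyc (CfsgLib.RankTwoOmega.isCyclic_of_index_frattini hX ?_)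
      rw [heq, Subgroup.index_ker, ← hZcard]
      exact Nat.le_of_dvd Nat.card_pos (Subgroup.card_dvd_of_le (by
        rintro _ ⟨x, rfl⟩
        exact hrange x))
    · obtain ⟨y, hy⟩ := hmin (n + 1) (by omega)
      obtain ⟨x, rfl⟩ := QuotientGroup.mk'_surjective W y
      exact hy (MonoidHom.mem_ker.1 (htop.ge (mem_top x)))
  · obtain ⟨k₀, hk₀⟩ := IsCyclic.exists_generator (α := K)
    have hk₀Z : g (k₀ : X) ∈ Z := by
      haveI : IsCyclic (K.map π) := isCyclic_of_surjective (π.subgroupMap K)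
        (π.subgroupMap_surjective K)
      set z := g (k₀ : X) with hz
      have hle : Z ⊔ zpowers z ≤ K.map π := sup_le (zpowers_le.2 ⟨_, hCK c.2, rfl⟩)
        (zpowers_le.2 (pow_mem (show π (k₀ : X) ∈ K.map π from ⟨_, k₀.2, rfl⟩) k))
      have hexp : ∀ y ∈ Z ⊔ zpowers z, y ^ p = 1 := by
        intro y hy
        obtain ⟨a, ha, b, hb, rfl⟩ := mem_sup_of_normal_left.1 hy
        obtain ⟨i, rfl⟩ := mem_zpowers_iff.1 hb
        rw [(hZc a ha _).mul_pow, hZp a ha, one_mul, ← zpow_natCast, ← zpow_mul, mul_comm, zpow_mul,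
          zpow_natCast, hz, hgk, hkp, one_zpow]
      have hcard := CfsgLib.MetacyclicOmega.card_pow_eq_one_le (p := p) _ hle hexp
      have heq : Z = Z ⊔ zpowers z :=
        Subgroup.eq_of_le_of_card_ge le_sup_left (by rw [hZcard]; exact hcard)
      exact heq.ge (mem_sup_right (mem_zpowers z))
    refine ⟨Z.comap g, lt_of_le_of_ne (hΦ.trans fun x hx => ?_) fun heq => ?_,
      fun htop => hrange fun x => htop.ge (mem_top x), fun f x hx => ?_⟩
    · rw [mem_comap, MonoidHom.mem_ker.1 hx]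
      exact one_mem Z
    · have hKΦ : K ≤ frattini X := fun y hy => by
        obtain ⟨i, hi⟩ := mem_zpowers_iff.1 (hk₀ ⟨y, hy⟩)
        rw [show y = (k₀ : X) ^ i by rw [← Subgroup.coe_zpow, hi]]
        exact zpow_mem (heq.ge (mem_comap.2 hk₀Z)) i
      obtain ⟨b', hb'⟩ := IsCyclic.exists_generator (α := X ⧸ K)
      obtain ⟨b, rfl⟩ := QuotientGroup.mk_surjective b'
      have htop : zpowers b = ⊤ := frattini_nongenerating (eq_top_iff.2 fun x _ => by
        obtain ⟨i, hi⟩ := mem_zpowers_iff.1 (hb' x)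
        rw [← QuotientGroup.mk_zpow] at hi
        rw [← mul_inv_cancel_left (b ^ i) x]
        exact mul_mem (mem_sup_left (zpow_mem (mem_zpowers b) i))
          (mem_sup_right (hKΦ (QuotientGroup.eq.1 hi))))
      exact hncyc (isCyclic_iff_exists_zpowers_eq_top.2 ⟨b, htop⟩)
    · rw [mem_comap, hZmem] at hx ⊢
      rw [← map_pow]
      exact hCf f _ hx

section Section

variable {X : Type u} [Group X]

/-- The action on an invariant section. -/
noncomputable def secHom (H : Subgroup (MulAut X)) (A B : Subgroup X) [(B.subgroupOf A).Normal]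
    [Finite X] (hA : ∀ f ∈ H, ∀ x ∈ A, f x ∈ A) (hB : ∀ f ∈ H, ∀ x ∈ B, f x ∈ B) :
    H →* MulAut (A ⧸ B.subgroupOf A) :=
  MonoidHom.mk' (fun f => MulEquiv.ofBijective
      (QuotientGroup.map (B.subgroupOf A) (B.subgroupOf A)
        ({ toFun := fun x => ⟨(f : MulAut X) x, hA f f.2 x x.2⟩
           map_one' := Subtype.ext (f : MulAut X).map_one
           map_mul' := fun x y => Subtype.ext ((f : MulAut X).map_mul x y) } : A →* A)
        fun x hx => hB f f.2 x hx)
      (Finite.surjective_iff_bijective.1 (QuotientGroup.map_surjective_of_surjective _ _ _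
        (by
          intro y
          obtain ⟨z, rfl⟩ := QuotientGroup.mk_surjective y
          refine ⟨⟨((f⁻¹ : H) : MulAut X) (z : X), hA _ (f⁻¹).2 z z.2⟩, ?_⟩
          show ((⟨(f : MulAut X) (((f⁻¹ : H) : MulAut X) z), _⟩ : A) : A ⧸ B.subgroupOf A) = z
          congr 1
          exact Subtype.ext (MulEquiv.apply_symm_apply (f : MulAut X) z)) _)))
    fun f g => MulEquiv.ext fun y => by
      obtain ⟨z, rfl⟩ := QuotientGroup.mk_surjective y
      rfl

theorem secHom_mk (H : Subgroup (MulAut X)) (A B : Subgroup X) [(B.subgroupOf A).Normal]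
    [Finite X] (hA : ∀ f ∈ H, ∀ x ∈ A, f x ∈ A) (hB : ∀ f ∈ H, ∀ x ∈ B, f x ∈ B) (f : H) (x : A) :
    secHom H A B hA hB f (x : A ⧸ B.subgroupOf A) =
      ((⟨(f : MulAut X) x, hA f f.2 x x.2⟩ : A) : A ⧸ B.subgroupOf A) := rfl

end Section

theorem prime_aut {G : Type*} [Group G] [Finite G] (hG : Nat.card G = p) :
    (∀ a b : MulAut G, a * b = b * a) ∧ ∀ a : MulAut G, a ^ (p - 1) = 1 := by
  haveI : IsCyclic G := isCyclic_of_prime_card hG
  haveI : Finite (MulAut G) := Finite.of_injective (fun a : MulAut G => (a : G → G))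
    DFunLike.coe_injective
  refine ⟨CfsgLib.Fusion.EssentialPlane.isCyclic_mulAut_comm, fun a => ?_⟩
  have h := pow_card_eq_one' (x := a)
  rwa [IsCyclic.card_mulAut, hG, Nat.totient_prime (Fact.out : p.Prime)] at h

/-- Coprime automorphism groups are abelian of exponent dividing `p - 1`. -/
theorem coprime_aut {X : Type u} [Group X] [Finite X] (hX : IsPGroup p X) (hp2 : p ≠ 2)
    (hm : Cfsg.IsMetacyclic X) (hab : ¬ IsMulCommutative X) (H : Subgroup (MulAut X))
    (hH : (Nat.card H).Coprime p) : IsMulCommutative H ∧ ∀ h ∈ H, h ^ (p - 1) = 1 := by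
  have hp := (Fact.out : p.Prime)
  obtain ⟨L, hΦL, hL, hLf⟩ := exists_invariant_line hX hp2 hm hab
  set Φ := frattini X with hΦdef
  have hidx : Φ.index = p ^ 2 ∧ L.index = p ∧ Φ.relIndex L = p := by
    have h1 := Subgroup.relIndex_mul_index hΦL.le
    obtain ⟨i, hi⟩ := hX.index L
    obtain ⟨j, hj⟩ := hX.index Φ
    have hle : Φ.index ≤ p ^ 2 := by
      have h := CfsgLib.RankTwoThree.card_le_of_metacyclic (p := p)
        (CfsgLib.PGroup.MetaTwo.quotient hm Φ) ⊤ fun x _ => by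
          obtain ⟨y, rfl⟩ := QuotientGroup.mk_surjective x
          rw [← QuotientGroup.mk_pow, QuotientGroup.eq_one_iff]
          exact CfsgLib.Coprime.pow_mem_frattini hX y
      rwa [Subgroup.card_top, ← Subgroup.index_eq_card] at h
    have hi0 : i ≠ 0 := fun h => hL (Subgroup.index_eq_one.1 (by rw [hi, h, pow_zero]))
    have hlt : L.index < Φ.index := Subgroup.index_strictAnti hΦL
    rw [hi, hj] at hlt
    have hij : i < j := (Nat.pow_lt_pow_iff_right hp.one_lt).1 hlt
    have hj2 : j ≤ 2 := (Nat.pow_le_pow_iff_right hp.one_lt).1 (hj ▸ hle)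
    obtain rfl : i = 1 := by omega
    obtain rfl : j = 2 := by omega
    refine ⟨hj, by rw [hi, pow_one], ?_⟩
    rw [hi, hj, pow_one, sq] at h1
    exact Nat.eq_of_mul_eq_mul_right hp.pos h1
  haveI hLn : L.Normal := ⟨fun x hx g => hLf (MulAut.conj g) x hx⟩
  haveI : Finite (MulAut X) := Finite.of_injective (fun a : MulAut X => (a : X → X))
    DFunLike.coe_injective
  have hΦf : ∀ f : MulAut X, ∀ x ∈ Φ, f x ∈ Φ := fun f x hx =>
    (Subgroup.characteristic_iff_map_eq.1 (inferInstance : (frattini X).Characteristic) f).le ⟨x, hx, rfl⟩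
  set χ₁ := secHom H L Φ (fun f _ => hLf f) (fun f _ => hΦf f)
  set χ₂ := secHom H ⊤ L (fun _ _ _ _ => mem_top _) (fun f _ => hLf f)
  obtain ⟨hc₁, he₁⟩ := prime_aut (p := p) (G := L ⧸ Φ.subgroupOf L)
    (by rw [← Subgroup.index_eq_card]; exact hidx.2.2)
  obtain ⟨hc₂, he₂⟩ := prime_aut (p := p) (G := (⊤ : Subgroup X) ⧸ L.subgroupOf ⊤)
    (by rw [← Subgroup.index_eq_card, ← Subgroup.relIndex, Subgroup.relIndex_top_right]; exact hidx.2.1)
  have hinj : ∀ f : H, χ₁ f = 1 → χ₂ f = 1 → f = 1 := fun f h1 h2 => by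
    have hord : (orderOf (f : MulAut X)).Coprime p :=
      hH.coprime_dvd_left (by rw [Subgroup.orderOf_coe]; exact orderOf_dvd_natCard f)
    have hfr : CfsgLib.PGroup.MetaTwo.frAut (f : MulAut X) = 1 := by
      refine MulEquiv.ext fun v => ?_
      obtain ⟨x, rfl⟩ := QuotientGroup.mk_surjective v
      have hL1 : x⁻¹ * (f : MulAut X) x ∈ L := by
        have h := congrArg (fun a : MulAut ((⊤ : Subgroup X) ⧸ L.subgroupOf ⊤) =>
          a ((⟨x, mem_top x⟩ : (⊤ : Subgroup X)) : (⊤ : Subgroup X) ⧸ L.subgroupOf ⊤)) h2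
        simp only [χ₂, secHom_mk, MulAut.one_apply] at h
        exact mem_subgroupOf.1 (QuotientGroup.eq.1 h.symm)
      refine CfsgLib.Fusion.RankTwo.apply_eq_self_of_series (p := p) _
        (c := ((x⁻¹ * (f : MulAut X) x : X) : X ⧸ frattini X)) ?_ ?_ ?_
        (hord.coprime_dvd_left (orderOf_map_dvd _ _))
      · rw [CfsgLib.PGroup.MetaTwo.frAut_mk, ← QuotientGroup.mk_mul, mul_inv_cancel_left]
      · rw [CfsgLib.PGroup.MetaTwo.frAut_mk]
        have h := congrArg (fun a : MulAut (L ⧸ Φ.subgroupOf L) =>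
          a ((⟨_, hL1⟩ : L) : L ⧸ Φ.subgroupOf L)) h1
        simp only [χ₁, secHom_mk, MulAut.one_apply] at h
        exact QuotientGroup.eq.2 (mem_subgroupOf.1 (QuotientGroup.eq.1 h))
      · exact (hX.to_quotient (frattini X)) _
    obtain ⟨j, hj⟩ := CfsgLib.PGroup.MetaTwo.isPGroup_ker_frAut hX
      ⟨(f : MulAut X), MonoidHom.mem_ker.2 hfr⟩
    have hdvd : orderOf (f : MulAut X) ∣ p ^ j :=
      orderOf_dvd_of_pow_eq_one (congrArg Subtype.val hj)
    exact Subtype.ext (orderOf_eq_one_iff.1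
      (Nat.eq_one_of_dvd_coprimes (hord.pow_right j) dvd_rfl hdvd))
  refine ⟨⟨⟨fun a b => ?_⟩⟩, fun h hh => ?_⟩
  · rw [← mul_inv_eq_one]
    refine hinj _ ?_ ?_
    · simp only [map_mul, map_inv]
      rw [hc₁ (χ₁ a) (χ₁ b), mul_inv_cancel]
    · simp only [map_mul, map_inv]
      rw [hc₂ (χ₂ a) (χ₂ b), mul_inv_cancel]
  · have h1 := hinj (⟨h, hh⟩ ^ (p - 1)) (by rw [map_pow, he₁]) (by rw [map_pow, he₂])
    exact congrArg Subtype.val h1

end CfsgLib.PGroup.MetaOdd
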