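import Cfsg.Agent.Lib.PGroup.SmallElementsIndex
import Cfsg.Agent.Lib.Coprime.Action
import Cfsg.Agent.Lib.Coprime.PGroupFrattini
import Cfsg.Prelude.Def_OddOrderLocal

/-!
# Minimal non-trivial coprime actions on a `p`-group
-/

set_option autoImplicit false
set_option linter.style.haveILetI false
set_option linter.unusedSectionVars false

open Subgroup
open scoped commutatorElement

namespace CfsgLib.PGroup

universe u

variable {X : Type u} [Group X]

/-- A characteristic subgroup of `P` is normalized by `N(P)`. -/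
theorem conj_mem_map_characteristic {P : Subgroup X} (C : Subgroup P) [C.Characteristic] {b : X}
    (hb : b ∈ normalizer (P : Set X)) {x : X} (hx : x ∈ C.map P.subtype) :
    b * x * b⁻¹ ∈ C.map P.subtype := by
  obtain ⟨y, hy, rfl⟩ := hx
  refine ⟨P.normalizerMonoidHom ⟨b, hb⟩ y, ?_, rfl⟩
  have h := Subgroup.characteristic_iff_comap_eq.1 (inferInstance : C.Characteristic)
    (P.normalizerMonoidHom ⟨b, hb⟩)
  have hy' : y ∈ C.comap (P.normalizerMonoidHom ⟨b, hb⟩).toMonoidHom := h.ge hy
  exact hy'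

variable [Finite X]

/-- If `P = [P, A]` the fixed points of `A` lie in every invariant subgroup with abelian
quotient. -/
theorem mem_of_centralizes {p : ℕ} [Fact p.Prime] {P A : Subgroup X} (hP : IsPGroup p P)
    (hAP : A ≤ normalizer (P : Set X)) (hAp : (Nat.card A).Coprime p) (hPA : ⁅P, A⁆ = P)
    (D : Subgroup P) [D.Characteristic] (hD : commutator P ≤ D) {u : P}
    (hu : (u : X) ∈ centralizer (A : Set X)) : u ∈ D := by
  classical
  letI : CommGroup (P ⧸ D) :=
    { (inferInstance : Group (P ⧸ D)) with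
      mul_comm := isMulCommutative_iff.1 (Subgroup.Normal.quotient_commutative_iff_commutator_le.2 hD) }
  letI : Fintype A := Fintype.ofFinite _
  have hcm : ∀ (a : A) (x : P), (a : X) * x * (a : X)⁻¹ ∈ P := fun a x =>
    (Subgroup.mem_normalizer_iff.1 (hAP a.2) x).1 x.2
  let N : P →* P ⧸ D := MonoidHom.mk'
    (fun x => ∏ a : A, QuotientGroup.mk' D ⟨(a : X) * x * (a : X)⁻¹, hcm a x⟩) fun x y => by
      rw [← Finset.prod_mul_distrib]
      refine Finset.prod_congr rfl fun a _ => ?_
      rw [← map_mul]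
      congr 1
      exact Subtype.ext (by simp [mul_assoc])
  have hNinv : ∀ (b : A) (x : P), N ⟨(b : X) * x * (b : X)⁻¹, hcm b x⟩ = N x := fun b x => by
    refine Fintype.prod_equiv (Equiv.mulRight b) _ _ fun a => ?_
    congr 1
    exact Subtype.ext (by simp [mul_assoc])
  have hker : P ≤ N.ker.map P.subtype := by
    calc P = ⁅P, A⁆ := hPA.symm
      _ ≤ _ := by
        rw [commutator_le]
        intro x hx a ha
        refine ⟨⟨x, hx⟩ * ⟨a * x⁻¹ * a⁻¹, (Subgroup.mem_normalizer_iff.1 (hAP ha) _).1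
          (inv_mem hx)⟩, ?_, ?_⟩
        · rw [SetLike.mem_coe, MonoidHom.mem_ker, map_mul,
            show N ⟨a * x⁻¹ * a⁻¹, _⟩ = N (⟨x, hx⟩⁻¹) from hNinv ⟨a, ha⟩ (⟨x, hx⟩⁻¹), map_inv,
            mul_inv_cancel]
        · show x * (a * x⁻¹ * a⁻¹) = ⁅x, a⁆
          rw [commutatorElement_def]; group
  have hu1 : N u = 1 := by
    obtain ⟨v, hv, hve⟩ := hker u.2
    rw [show u = v from Subtype.ext hve.symm]
    exact hv
  have hu2 : N u = (QuotientGroup.mk' D u) ^ Nat.card A := by
    show (∏ a : A, _) = _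
    rw [Finset.prod_congr rfl fun a _ => ?_, Finset.prod_const, Finset.card_univ,
      Nat.card_eq_fintype_card]
    congr 1
    exact Subtype.ext (mul_inv_eq_iff_eq_mul.2 (mem_centralizer_iff.1 hu a a.2))
  rw [hu1] at hu2
  rw [← QuotientGroup.eq_one_iff]
  obtain ⟨k, hk⟩ := (hP.to_quotient D) (QuotientGroup.mk' D u)
  exact orderOf_eq_one_iff.1 (Nat.eq_one_of_dvd_coprimes (hAp.pow_right k)
    (orderOf_dvd_of_pow_eq_one hu2.symm) (orderOf_dvd_of_pow_eq_one hk))

/-- The structure of a minimal non-trivial coprime action on a `p`-group. -/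
theorem minimal_action_structure {p : ℕ} [Fact p.Prime] (B A P : Subgroup X) (hP : IsPGroup p P)
    (hBP : B ≤ normalizer (P : Set X)) (hAB : A ≤ B) (hAn : B ≤ normalizer (A : Set X))
    (hAp : (Nat.card A).Coprime p) (hnt : ⁅P, A⁆ ≠ ⊥)
    (hmin : ∀ U : Subgroup X, U < P → B ≤ normalizer (U : Set X) → ⁅U, A⁆ = ⊥) :
    ⁅P, A⁆ = P ∧ (Cfsg.IsElementaryAbelian p P ∨ Cfsg.IsSpecial p ↥P) ∧
      (∀ U : Subgroup X, (frattini ↥P).map P.subtype ≤ U → U ≤ P →
        B ≤ normalizer (U : Set X) → U = (frattini ↥P).map P.subtype ∨ U = P) ∧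
      (p ≠ 2 → ∀ x ∈ P, x ^ p = 1) := by
  have hp : p.Prime := Fact.out
  have hAP : A ≤ normalizer (P : Set X) := hAB.trans hBP
  obtain ⟨n, hn⟩ := IsPGroup.iff_card.1 hP
  haveI : Group.IsNilpotent P := hP.isNilpotent
  have hsP : Group.IsSolvable P := Coprime.isSolvable_of_isNilpotent inferInstance
  have hcop : (Nat.card A).Coprime (Nat.card P) := hn ▸ hAp.pow_right n
  have hle : ⁅P, A⁆ ≤ P := by
    rw [commutator_le]
    intro k hk a ha
    rw [commutatorElement_def, show k * a * k⁻¹ * a⁻¹ = k * (a * k⁻¹ * a⁻¹) by group]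
    exact mul_mem hk ((Subgroup.mem_normalizer_iff.1 (hAP ha) _).1 (inv_mem hk))
  have hBn : B ≤ normalizer ((⁅P, A⁆ : Subgroup X) : Set X) := fun b hb => by
    rw [← Coprime.conjBy_eq_self_iff]
    show (⁅P, A⁆ : Subgroup X).map _ = _
    rw [Subgroup.map_commutator]
    exact congrArg₂ (fun S T : Subgroup X => ⁅S, T⁆) (Coprime.conjBy_eq_self_iff.2 (hBP hb))
      (Coprime.conjBy_eq_self_iff.2 (hAn hb))
  have hPA : ⁅P, A⁆ = P := by
    by_contra hne
    exact hnt ((Coprime.commutator_commutator_eq hAP hcop (Or.inr hsP)).symm.trans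
      (hmin _ (lt_of_le_of_ne hle hne) hBn))
  have hPne : P ≠ ⊥ := fun h => hnt (le_bot_iff.1 (h ▸ hle))
  -- proper characteristic subgroups are centralized
  have hchar : ∀ C : Subgroup P, C.Characteristic → C ≠ ⊤ →
      C.map P.subtype ≤ centralizer (A : Set X) := by
    intro C hC hne
    haveI := hC
    have hnorm : B ≤ normalizer ((C.map P.subtype : Subgroup X) : Set X) := fun b hb => by
      refine Subgroup.mem_normalizer_iff.2 fun x => ⟨conj_mem_map_characteristic C (hBP hb), fun h => ?_⟩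
      have := conj_mem_map_characteristic C (hBP (inv_mem hb)) h
      simpa [mul_assoc] using this
    have hlt : C.map P.subtype < P := by
      refine lt_of_le_of_ne (map_subtype_le C) fun h => hne ?_
      exact Subgroup.map_injective P.subtype_injective
        (h.trans (by rw [← MonoidHom.range_eq_map, range_subtype]))
    rw [← commutator_eq_bot_iff_le_centralizer]
    exact hmin _ hlt hnorm
  have hΦne : frattini P ≠ ⊤ := fun h => by
    haveI : Nontrivial P := (Subgroup.nontrivial_iff_ne_bot P).2 hPne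
    obtain ⟨M, hM⟩ : ∃ M : Subgroup P, IsCoatom M := by
      obtain ⟨M, hM, -⟩ := (eq_top_or_exists_le_coatom (⊥ : Subgroup P)).resolve_left bot_ne_top
      exact ⟨M, hM⟩
    exact hM.1 (top_le_iff.1 (h ▸ (frattini_le_coatom hM)))
  have hcomΦ : commutator P ≤ frattini P := Coprime.commutator_le_frattini hP
  have hΦC : (frattini P).map P.subtype ≤ centralizer (A : Set X) :=
    hchar _ inferInstance hΦne
  have hmem : ∀ (D : Subgroup P), D.Characteristic → commutator P ≤ D → frattini P ≤ D :=
    fun D hDc hD u hu => by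
      haveI := hDc
      exact mem_of_centralizes hP hAP hAp hPA D hD (hΦC (mem_map_of_mem _ hu))
  have hΦcom : frattini P = commutator P := le_antisymm (hmem _ inferInstance le_rfl) hcomΦ
  have hΦZ : frattini P ≤ center P := by
    intro u hu
    rw [Subgroup.mem_center_iff]
    intro x
    -- three subgroups
    have h1 : ⁅⁅(frattini P).map P.subtype, A⁆, P⁆ = ⊥ := by
      rw [commutator_eq_bot_iff_le_centralizer.2 hΦC, commutator_bot_left]
    have h2 : ⁅⁅P, (frattini P).map P.subtype⁆, A⁆ = ⊥ := by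
      rw [commutator_eq_bot_iff_le_centralizer]
      refine le_trans ?_ hΦC
      rw [commutator_le]
      rintro y hy _ ⟨z, hz, rfl⟩
      refine ⟨⁅(⟨y, hy⟩ : P), z⁆, ?_, by simp [commutatorElement_def]⟩
      rw [commutatorElement_def]
      exact mul_mem ((inferInstance : (frattini P).Normal).conj_mem z hz _) (inv_mem hz)
    have h3 := commutator_commutator_eq_bot_of_rotate (H₁ := A) (H₂ := P)
      (H₃ := (frattini P).map P.subtype) h2 h1
    rw [commutator_comm A P, hPA, commutator_eq_bot_iff_le_centralizer] at h3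
    exact (Subtype.ext (mem_centralizer_iff.1 (h3 x.2) _ (mem_map_of_mem _ hu))).symm
  refine ⟨hPA, ?_, ?_, ?_⟩
  · by_cases hab : IsMulCommutative P
    · refine Or.inl ⟨hab, fun x hx => ?_⟩
      have hbot : commutator P = ⊥ := by
        rw [commutator_def, Subgroup.commutator_eq_bot_iff_le_centralizer]
        exact fun a _ => mem_centralizer_iff.2 fun b _ => (isMulCommutative_iff.1 hab b a)
      have h := Coprime.pow_mem_frattini hP (⟨x, hx⟩ : P)
      rw [hΦcom, hbot, mem_bot] at h
      simpa using congrArg Subtype.val h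
    · refine Or.inr ⟨hP, le_antisymm hΦZ ?_, le_antisymm (hcomΦ.trans hΦZ) ?_⟩
      all_goals
        intro u hu
        have hZ : center P ≠ ⊤ := fun h => hab (isMulCommutative_iff.2 fun a b =>
          Subgroup.mem_center_iff.1 (h ▸ mem_top b : b ∈ center P) a)
        refine mem_of_centralizes hP hAP hAp hPA _ ?_ (hchar _ inferInstance hZ (mem_map_of_mem _ hu))
        first | exact hcomΦ | exact le_rfl
  · intro U hΦU hUP hBU
    by_cases hU : U = P
    · exact Or.inr hU
    refine Or.inl (le_antisymm ?_ hΦU)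
    have hUC : U ≤ centralizer (A : Set X) :=
      commutator_eq_bot_iff_le_centralizer.1 (hmin U (lt_of_le_of_ne hUP hU) hBU)
    exact fun u hu => ⟨⟨u, hUP hu⟩,
      mem_of_centralizes hP hAP hAp hPA _ hcomΦ (hUC hu), rfl⟩
  · intro hp2 x hx
    have hcent : ∀ a b : P, ⁅a, b⁆ ∈ center P := fun a b =>
      hΦZ (hcomΦ (commutator_mem_commutator (mem_top a) (mem_top b)))
    have hcp : ∀ a b : P, ⁅a, b⁆ ^ p = 1 := by
      intro a b
      set w := ⁅a, b⁆ with hw
      have hwb : Commute w b := (Subgroup.mem_center_iff.1 (hcent a b) b).symm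
      have hwa : Commute w a := (Subgroup.mem_center_iff.1 (hcent a b) a).symm
      have hit : ∀ n : ℕ, a ^ n * b * (a ^ n)⁻¹ = w ^ n * b := by
        intro n
        induction n with
        | zero => simp
        | succ n ih =>
          calc a ^ (n + 1) * b * (a ^ (n + 1))⁻¹ = a ^ n * (a * b * a⁻¹) * (a ^ n)⁻¹ := by
                rw [pow_succ]; group
            _ = a ^ n * (w * b) * (a ^ n)⁻¹ := by rw [hw, commutatorElement_def]; group
            _ = (a ^ n * w) * b * (a ^ n)⁻¹ := by group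
            _ = (w * a ^ n) * b * (a ^ n)⁻¹ := by rw [(hwa.pow_right n).eq]
            _ = w * (a ^ n * b * (a ^ n)⁻¹) := by group
            _ = w ^ (n + 1) * b := by rw [ih, pow_succ', mul_assoc]
      have h := hit p
      rw [← Subgroup.mem_center_iff.1 (hΦZ (Coprime.pow_mem_frattini hP a)) b,
        mul_inv_cancel_right] at h
      exact mul_eq_right.1 h.symm
    have hmul : ∀ a b : P, (a * b) ^ p = a ^ p * b ^ p := fun a b => by
      obtain ⟨c, hc⟩ := hp.dvd_choose_self two_ne_zero (lt_of_le_of_ne hp.two_le (Ne.symm hp2))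
      rw [mul_pow_of_central_commutator (z := ⁅b, a⁆) (by rw [commutatorElement_def]; group)
        (Subgroup.mem_center_iff.1 (hcent b a) a).symm (Subgroup.mem_center_iff.1 (hcent b a) b).symm,
        hc, pow_mul, hcp, one_pow, one_mul]
    let pw : P →* P := MonoidHom.mk' (fun a => a ^ p) hmul
    have hker : P ≤ pw.ker.map P.subtype := by
      calc P = ⁅P, A⁆ := hPA.symm
        _ ≤ _ := by
          rw [commutator_le]
          intro y hy a ha
          have hy' : a * y⁻¹ * a⁻¹ ∈ P := (Subgroup.mem_normalizer_iff.1 (hAP ha) _).1 (inv_mem hy)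
          refine ⟨⟨y, hy⟩ * ⟨a * y⁻¹ * a⁻¹, hy'⟩, ?_, ?_⟩
          · rw [SetLike.mem_coe, MonoidHom.mem_ker]
            show ((⟨y, hy⟩ : P) * ⟨a * y⁻¹ * a⁻¹, hy'⟩) ^ p = 1
            rw [hmul]
            refine Subtype.ext ?_
            have hfix := hΦC (mem_map_of_mem P.subtype (Coprime.pow_mem_frattini hP (⟨y, hy⟩ : P)))
            show y ^ p * (a * y⁻¹ * a⁻¹) ^ p = 1
            have h5 : a * y ^ p = y ^ p * a := mem_centralizer_iff.1 hfix a ha
            rw [conj_pow, inv_pow, show a * (y ^ p)⁻¹ * a⁻¹ = (a * y ^ p * a⁻¹)⁻¹ by group, h5,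
              mul_inv_cancel_right, mul_inv_cancel]
          · show y * (a * y⁻¹ * a⁻¹) = ⁅y, a⁆
            rw [commutatorElement_def]; group
    obtain ⟨v, hv, rfl⟩ := hker hx
    have hv' : v ^ p = 1 := hv
    simpa using congrArg Subtype.val hv'

end CfsgLib.PGroup
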