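import Cfsg.Agent.Lib.PGroup.IrreducibleOperator
import Cfsg.Agent.Lib.PGroup.Basic
import Cfsg.Agent.Lib.Coprime.Action
import Cfsg.Prelude.Def_LocalStructure
import Cfsg.Prelude.Def_Transfer

/-!
The common structure `[q ^ d] : p` of minimal non-`p`-closed groups.
-/

set_option autoImplicit false
set_option linter.style.haveILetI false

namespace CfsgLib.PGroup

open Subgroup
open scoped Pointwise

variable {G : Type*} [Group G] [Finite G]

theorem card_of_minimal_normal_operator {p q : ℕ} (hp : p.Prime) (hq : q.Prime) (hpq : q ≠ p)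
    (A : Subgroup G) [A.Normal] (hA : Cfsg.IsElementaryAbelian q A) {x : G} (hxp : x ^ p = 1)
    (hx : x ∉ centralizer (A : Set G)) (hgen : A ⊔ zpowers x = ⊤)
    (hmin : ∀ B : Subgroup G, B.Normal → B ≤ A → B = ⊥ ∨ B = A) :
    Nat.card A = q ^ orderOf (q : ZMod p) := by
  haveI := hA.1
  letI : CommGroup A := { (inferInstance : Group A) with mul_comm := mul_comm' }
  let T : AddMonoid.End (Additive A) :=
    MonoidHom.toAdditive ((MulAut.conjNormal x : MulAut A).toMonoidHom)
  have hTapp : ∀ (k : ℕ) (a : Additive A),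
      (((T ^ k) a).toMul : A).1 = x ^ k * (a.toMul : A).1 * (x ^ k)⁻¹ := by
    intro k
    induction k with
    | zero => intro a; simp
    | succ k ih =>
      intro a
      rw [pow_succ', pow_succ' x]
      show x * ((T ^ k) a).toMul.1 * x⁻¹ = _
      rw [ih]; group
  have h := card_of_irreducible_operator hp hq hpq (fun v : Additive A => ?_) T ?_ ?_ ?_
  · exact h
  · exact Additive.toMul.injective (Subtype.ext (hA.2 _ v.toMul.2))
  · refine AddMonoidHom.ext fun a => Additive.toMul.injective (Subtype.ext ?_)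
    refine (hTapp p a).trans ?_
    rw [hxp]
    simp
    rfl
  · intro h
    refine hx (mem_centralizer_iff.2 fun a ha => ?_)
    have h1 : x * a * x⁻¹ = a := congrArg (fun f : AddMonoid.End (Additive A) =>
      ((f (Additive.ofMul ⟨a, ha⟩)).toMul : A).1) h
    calc a * x = x * a * x⁻¹ * x := by rw [h1]
      _ = x * a := by group
  · intro U hU
    let B : Subgroup G := (AddSubgroup.toSubgroup' U).map A.subtype
    have hBA : B ≤ A := map_subtype_le _
    have hBn : B.Normal := by
      rw [← normalizer_eq_top_iff, eq_top_iff, ← hgen]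
      refine sup_le ?_ (zpowers_le.2 ?_)
      · refine (le_centralizer_iff.1 ?_).trans (centralizer_le_normalizer _)
        exact hBA.trans (le_centralizer A)
      · rw [mem_normalizer_iff_map_conj_eq]
        refine eq_of_le_of_card_ge ?_ (le_of_eq (card_map_of_injective (MulAut.conj x).injective).symm)
        rintro _ ⟨_, ⟨b, hb, rfl⟩, rfl⟩
        exact ⟨_, hU _ hb, rfl⟩
    rcases hmin B hBn hBA with h | h
    · left
      rw [eq_bot_iff]
      intro u hu
      have : (u.toMul : A).1 ∈ B := mem_map_of_mem A.subtype (x := u.toMul) hu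
      rw [h, mem_bot] at this
      exact Additive.toMul.injective (Subtype.ext this)
    · right
      rw [eq_top_iff]
      intro u _
      have : (u.toMul : A).1 ∈ B := by rw [h]; exact (u.toMul : A).2
      obtain ⟨b, hb, hbe⟩ := this
      obtain rfl : b = u.toMul := Subtype.ext hbe
      exact hb

/-- If a non-normal Sylow subgroup `P` complements the unique minimal normal subgroup `N` and
centralizes every proper invariant piece of it, then `G = [q ^ d] : p`. -/
theorem minimal_structure {p : ℕ} [Fact p.Prime] (P : Sylow p G) (N : Subgroup G) [N.Normal]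
    (hPn : ¬ (P : Subgroup G).Normal) (hPN : (P : Subgroup G) ⊔ N = ⊤)
    (hNp : ¬ p ∣ Nat.card N) (hN : N ≠ ⊥)
    (huniq : ∀ M : Subgroup G, M.Normal → M ≠ ⊥ → N ≤ M)
    (hkey : ∀ R Q : Subgroup G, R ≤ P → Q ≤ N → R ≤ normalizer (Q : Set G) → R ⊔ Q ≠ ⊤ →
      Q ≤ normalizer (R : Set G)) :
    ∃ q : ℕ, q.Prime ∧ q ≠ p ∧ Nat.card G = p * q ^ orderOf (q : ZMod p) ∧
      ∃ A : Subgroup G, A.Normal ∧ Nat.card A = q ^ orderOf (q : ZMod p) ∧
        Cfsg.IsElementaryAbelian q A ∧ ∀ B : Subgroup G, B.Normal → B ≤ A → B = ⊥ ∨ B = A := by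
  classical
  have hp : p.Prime := Fact.out
  have hcop : (Nat.card (P : Subgroup G)).Coprime (Nat.card N) := by
    obtain ⟨j, hj⟩ := IsPGroup.iff_card.1 P.isPGroup'
    rw [hj]; exact (hp.coprime_iff_not_dvd.2 hNp).pow_left j
  have hPnN : (P : Subgroup G) ≤ normalizer (N : Set G) := by
    rw [normalizer_eq_top]; exact le_top
  haveI := P.isPGroup'.isNilpotent
  have hcardG : Nat.card G = Nat.card (P : Subgroup G) * Nat.card N := by
    have hd : Disjoint (P : Subgroup G) N := disjoint_of_coprime_natCard hcop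
    have := (isComplement'_of_disjoint_and_mul_eq_univ hd ?_).card_mul_card
    · exact this.symm
    · rw [← mul_normal, hPN]; rfl
  obtain ⟨q, hq, Q, hQs, hPQ, hQtop⟩ : ∃ q : ℕ, q.Prime ∧ ∃ Q : Subgroup G,
      (IsPGroup q Q ∧ Q ≤ N) ∧ (P : Subgroup G) ≤ normalizer (Q : Set G) ∧
      (P : Subgroup G) ⊔ Q = ⊤ := by
    by_contra hno
    push Not at hno
    refine hPn ?_
    have hC : N ≤ centralizer ((P : Subgroup G) : Set G) := by
      rw [← Subgroup.relIndex_eq_one]
      by_contra hne
      obtain ⟨r, hr, hrd⟩ := Nat.exists_prime_and_dvd hne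
      haveI := Fact.mk hr
      obtain ⟨Q, hQ, hPQ⟩ := CfsgLib.Coprime.exists_invariant_sylow hPnN hcop
        (Or.inl inferInstance) r
      have hQP := hkey P Q le_rfl hQ.1 hPQ (hno r hr Q ⟨hQ.isPGroup, hQ.1⟩ hPQ)
      have hdisj : Disjoint (P : Subgroup G) Q := (disjoint_of_coprime_natCard hcop).mono_right hQ.1
      have hle : Q ≤ centralizer ((P : Subgroup G) : Set G) := by
        intro a ha
        rw [mem_centralizer_iff]
        intro b hb
        have h1 : a * b * a⁻¹ * b⁻¹ = 1 := by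
          refine mem_bot.1 (hdisj.eq_bot ▸ mem_inf.2 ⟨?_, ?_⟩)
          · exact mul_mem ((mem_normalizer_iff.1 (hQP ha) b).1 hb) (inv_mem hb)
          · rw [show a * b * a⁻¹ * b⁻¹ = a * (b * a⁻¹ * b⁻¹) by group]
            exact mul_mem ha ((mem_normalizer_iff.1 (hPQ hb) _).1 (inv_mem ha))
        calc b * a = (a * b * a⁻¹ * b⁻¹) * b * a := by rw [h1, one_mul]
          _ = a * b := by group
      have h2 : r ∣ Q.relIndex N := hrd.trans (relIndex_dvd_of_le_left N hle)
      exact hQ.toSylow.not_dvd_index h2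
    rw [← normalizer_eq_top_iff, eq_top_iff, ← hPN]
    exact sup_le le_normalizer (hC.trans (centralizer_le_normalizer _))
  haveI := Fact.mk hq
  have hQN : Q = N := by
    refine eq_of_le_of_card_ge hQs.2 ?_
    have h1 : Nat.card G ≤ Nat.card (P : Subgroup G) * Nat.card Q := by
      rw [← card_top (G := G), ← hQtop, ← Nat.card_prod]
      refine Nat.card_le_card_of_surjective
        (fun a => ⟨a.1.1 * a.2.1, mul_mem (mem_sup_left a.1.2) (mem_sup_right a.2.2)⟩) ?_
      rintro ⟨x, hx⟩
      have hx' : x ∈ ((P : Subgroup G) : Set G) * (Q : Set G) := by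
        rw [← coe_mul_of_left_le_normalizer_right _ _ hPQ]; exact hx
      obtain ⟨a, ha, b, hb, rfl⟩ := hx'
      exact ⟨(⟨a, ha⟩, ⟨b, hb⟩), rfl⟩
    rw [hcardG] at h1
    exact Nat.le_of_mul_le_mul_left h1 Nat.card_pos
  have hNq : IsPGroup q N := hQN ▸ hQs.1
  have hqp : q ≠ p := by
    rintro rfl
    obtain ⟨j, hj⟩ := IsPGroup.iff_card.1 hNq
    rcases j with _ | j
    · exact hN (eq_bot_of_card_eq N (by simpa using hj))
    · exact hNp (hj ▸ dvd_pow_self q j.succ_ne_zero)
  have hmin : ∀ B : Subgroup G, B.Normal → B ≤ N → B = ⊥ ∨ B = N := fun B hB hBN => by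
    by_cases h : B = ⊥
    · exact Or.inl h
    · exact Or.inr (le_antisymm hBN (huniq B hB h))
  haveI := hNq.isNilpotent
  haveI hNnt : Nontrivial N := (nontrivial_iff_ne_bot N).2 hN
  haveI : (commutator N).Characteristic := inferInstance
  have hNc : IsMulCommutative N := by
    have hlt := Group.IsSolvable.commutator_lt_top_of_nontrivial (G := N)
    have h1 : (commutator N).map N.subtype = ⊥ := by
      refine (hmin _ inferInstance (map_subtype_le _)).resolve_right fun h => hlt.ne ?_
      apply map_injective N.subtype_injective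
      rw [h, ← MonoidHom.range_eq_map, range_subtype]
    have h2 : commutator N = ⊥ := (map_eq_bot_iff_of_injective _ N.subtype_injective).1 h1
    exact ⟨⟨fun a b => commutatorElement_eq_one_iff_mul_comm.1
      (mem_bot.1 (h2 ▸ commutator_mem_commutator (mem_top a) (mem_top b)))⟩⟩
  have hNexp : ∀ a ∈ N, a ^ q = 1 := by
    let B : Subgroup G :=
      { carrier := {a | a ∈ N ∧ a ^ q = 1}
        one_mem' := ⟨one_mem N, one_pow q⟩
        mul_mem' := fun {a b} ha hb => ⟨mul_mem ha.1 hb.1, by
          rw [Commute.mul_pow (congrArg Subtype.val (mul_comm' (⟨a, ha.1⟩ : N) ⟨b, hb.1⟩)), ha.2,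
            hb.2, one_mul]⟩
        inv_mem' := fun {a} ha => ⟨inv_mem ha.1, by rw [inv_pow, ha.2, inv_one]⟩ }
    have hBn : B.Normal := ⟨fun a ha g => ⟨‹N.Normal›.conj_mem a ha.1 g, by
      rw [conj_pow, ha.2, mul_one, mul_inv_cancel]⟩⟩
    have hB : B ≠ ⊥ := by
      obtain ⟨j, hj⟩ := IsPGroup.iff_card.1 hNq
      have hd : q ∣ Nat.card N := by
        rcases j with _ | j
        · exact absurd (eq_bot_of_card_eq N (by simpa using hj)) hN
        · exact hj ▸ dvd_pow_self q j.succ_ne_zero
      obtain ⟨a, ha⟩ := exists_prime_orderOf_dvd_card' q hd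
      intro h
      have hm : (a : G) ∈ B := ⟨a.2, orderOf_dvd_iff_pow_eq_one.1 (by rw [Subgroup.orderOf_coe, ha])⟩
      rw [h, mem_bot] at hm
      have : a = 1 := Subtype.ext hm
      rw [this, orderOf_one] at ha
      exact hq.one_lt.ne ha
    exact fun a ha => (huniq B hBn hB ha).2
  -- `P` has order `p`
  haveI : Nontrivial (P : Subgroup G) := by
    rw [nontrivial_iff_ne_bot]
    intro h
    exact hPn (h ▸ inferInstance)
  haveI := P.isPGroup'.center_nontrivial
  obtain ⟨z, hz⟩ := exists_ne (1 : center (P : Subgroup G))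
  obtain ⟨k, hk⟩ := IsPGroup.iff_orderOf.1 (P.isPGroup'.to_subgroup (center (P : Subgroup G))) z
  have hk0 : k ≠ 0 := by rintro rfl; simp [hz] at hk
  set y := z ^ p ^ (k - 1) with hy
  have hyo : orderOf y = p := by
    rw [hy, orderOf_pow_of_dvd (pow_ne_zero _ hp.ne_zero) (hk ▸ pow_dvd_pow p (Nat.sub_le k 1)), hk,
      Nat.pow_div (Nat.sub_le k 1) hp.pos, show k - (k - 1) = 1 by omega, pow_one]
  set x : G := ((y : (P : Subgroup G)) : G) with hx
  have hxo : orderOf x = p := by rw [hx, Subgroup.orderOf_coe, Subgroup.orderOf_coe, hyo]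
  have hxP : x ∈ (P : Subgroup G) := (y : (P : Subgroup G)).2
  have hP : (P : Subgroup G) = zpowers x := by
    by_contra hne
    have hlt : Nat.card (zpowers x) < Nat.card (P : Subgroup G) :=
      lt_of_not_ge fun h => hne (eq_of_le_of_card_ge (zpowers_le.2 hxP) h).symm
    have hRn : zpowers x ≤ normalizer (N : Set G) := by rw [normalizer_eq_top]; exact le_top
    have hne' : zpowers x ⊔ N ≠ ⊤ := by
      intro h
      have h1 := card_sup_dvd_of_normal (zpowers x) N
      rw [h, card_top, hcardG] at h1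
      exact absurd (Nat.le_of_dvd (Nat.mul_pos Nat.card_pos Nat.card_pos) h1)
        (not_le.2 (Nat.mul_lt_mul_of_pos_right hlt Nat.card_pos))
    have h1 := hkey _ N (zpowers_le.2 hxP) le_rfl hRn hne'
    have h2 : (P : Subgroup G) ≤ normalizer ((zpowers x : Subgroup G) : Set G) := by
      refine (le_centralizer_iff.1 (zpowers_le.2 ?_)).trans (centralizer_le_normalizer _)
      refine mem_centralizer_iff.2 fun u hu => ?_
      exact congrArg Subtype.val (mem_center_iff.1 y.2 ⟨u, hu⟩)
    have hn : (zpowers x).Normal := by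
      rw [← normalizer_eq_top_iff, eq_top_iff, ← hPN]; exact sup_le h2 h1
    have hle := huniq _ hn (by rw [Ne, zpowers_eq_bot, ← orderOf_eq_one_iff, hxo]; exact hp.ne_one)
    have hd := card_dvd_of_le hle
    rw [Nat.card_zpowers, hxo] at hd
    rcases (Nat.dvd_prime hp).1 hd with h | h
    · exact hN (eq_bot_of_card_eq N h)
    · exact hNp (h ▸ dvd_rfl)
  have hcard : Nat.card N = q ^ orderOf (q : ZMod p) := by
    refine card_of_minimal_normal_operator hp hq hqp N ⟨hNc, hNexp⟩
      (orderOf_dvd_iff_pow_eq_one.1 hxo.dvd) (fun hxc => hPn ?_) (by rw [sup_comm, ← hP, hPN]) hmin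
    rw [← normalizer_eq_top_iff, eq_top_iff, ← hPN]
    refine sup_le le_normalizer ((le_centralizer_iff.1 ?_).trans (centralizer_le_normalizer _))
    rw [hP]; exact zpowers_le.2 hxc
  refine ⟨q, hq, hqp, ?_, N, ‹N.Normal›, hcard, ⟨hNc, hNexp⟩, hmin⟩
  rw [hcardG, hcard, hP, Nat.card_zpowers, hxo]

end CfsgLib.PGroup

namespace CfsgLib.PGroup

open Subgroup
open scoped Pointwise

variable {G : Type*} [Group G] [Finite G]

theorem not_dvd_relIndex_sup {p : ℕ} [hp : Fact p.Prime] {R Q : Subgroup G}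
    (hRQ : R ≤ normalizer (Q : Set G)) (hQ : ¬ p ∣ Nat.card Q) :
    ¬ p ∣ R.relIndex (R ⊔ Q) := by
  refine fun hd => hQ (hd.trans ?_)
  haveI hn : (Q.subgroupOf (R ⊔ Q)).Normal :=
    normal_subgroupOf_of_le_normalizer (sup_le hRQ le_normalizer)
  have h := relIndex_dvd_index_normal_right (R.subgroupOf (R ⊔ Q)) (Q.subgroupOf (R ⊔ Q))
  have h1 := card_sup_dvd_of_normal (R.subgroupOf (R ⊔ Q)) (Q.subgroupOf (R ⊔ Q))
  rw [← subgroupOf_sup le_sup_left le_sup_right, subgroupOf_self, card_top,
    Nat.card_congr (subgroupOfEquivOfLe (le_sup_left : R ≤ R ⊔ Q)).toEquiv,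
    Nat.card_congr (subgroupOfEquivOfLe (le_sup_right : Q ≤ R ⊔ Q)).toEquiv,
    ← (R.subgroupOf (R ⊔ Q)).card_mul_index,
    Nat.card_congr (subgroupOfEquivOfLe (le_sup_left : R ≤ R ⊔ Q)).toEquiv] at h1
  exact Nat.dvd_of_mul_dvd_mul_left Nat.card_pos h1

theorem le_normalizer_of_isPClosed {p : ℕ} [Fact p.Prime] {R Q : Subgroup G} (hR : IsPGroup p R)
    (hRQ : R ≤ normalizer (Q : Set G)) (hQ : ¬ p ∣ Nat.card Q)
    (h : Cfsg.IsPClosed p ↥(R ⊔ Q)) : Q ≤ normalizer (R : Set G) := by
  have hS : IsPGroup p (R.subgroupOf (R ⊔ Q)) :=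
    hR.of_equiv (subgroupOfEquivOfLe le_sup_left).symm
  have hn := h (hS.toSylow (not_dvd_relIndex_sup hRQ hQ))
  exact le_sup_right.trans ((normal_subgroupOf_iff_le_normalizer le_sup_left).1
    (show (R.subgroupOf (R ⊔ Q)).Normal from hn))

theorem normal_sylow_of_le_normal {p : ℕ} [Fact p.Prime] (P : Sylow p G) (K : Subgroup G)
    [hK : K.Normal] (hPK : (P : Subgroup G) ≤ K) (h : Cfsg.IsPClosed p K) :
    (P : Subgroup G).Normal := by
  haveI := h (P.subtype hPK)
  haveI : ((P.subtype hPK : Sylow p K) : Subgroup K).Characteristic :=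
    Sylow.characteristic_of_normal _ inferInstance
  have hmap : ((P.subtype hPK : Sylow p K) : Subgroup K).map K.subtype = P := by
    rw [Sylow.coe_subtype, map_subgroupOf_eq_of_le hPK]
  rw [← hmap]
  infer_instance

end CfsgLib.PGroup
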