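import Cfsg.Agent.Lib.Coprime.MinimalNonNilpotent
import Mathlib.GroupTheory.Nilpotent
import Mathlib.LinearAlgebra.Matrix.GeneralLinearGroup.Defs
import Mathlib.GroupTheory.Perm.Basic

/-!
# No nilpotent minimal covers

If two elements `g`, `g'` lie in no common nilpotent subgroup and every nilpotent subgroup
containing one of them lies in a fixed proper subgroup `B`, then a nilpotent cover is never minimal:
the two members containing `g` and `g'` may be replaced by `B`.

Also: a nilpotent subgroup of `GL n F` containing a diagonal element with distinct entries and of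
prime order larger than `n` consists of diagonal matrices.
-/

set_option autoImplicit false
set_option linter.style.haveILetI false

namespace CfsgLib.PGroup

open Subgroup

theorem no_nilpotent_minimal_cover {G : Type*} [Group G] (B : Subgroup G) (hB : B ≠ ⊤) (g g' : G)
    (hg : ∀ A : Subgroup G, A ≠ ⊤ → Group.IsNilpotent A → g ∈ A → A ≤ B)
    (hg' : ∀ A : Subgroup G, A ≠ ⊤ → Group.IsNilpotent A → g' ∈ A → A ≤ B)
    (hne : ∀ A : Subgroup G, A ≠ ⊤ → Group.IsNilpotent A → g ∈ A → g' ∉ A) :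
    ¬ ∃ 𝓐 : Finset (Subgroup G), ((∀ A ∈ 𝓐, A ≠ ⊤) ∧ (∀ x : G, ∃ A ∈ 𝓐, x ∈ A)) ∧
      (∀ 𝓑 : Finset (Subgroup G), (∀ A ∈ 𝓑, A ≠ ⊤) ∧ (∀ x : G, ∃ A ∈ 𝓑, x ∈ A) → 𝓐.card ≤ 𝓑.card) ∧
      (∀ A ∈ 𝓐, Group.IsNilpotent ↥A) := by
  classical
  rintro ⟨𝓐, ⟨hproper, hcov⟩, hmin, hnil⟩
  obtain ⟨A₁, hA₁, hg₁⟩ := hcov g
  obtain ⟨A₂, hA₂, hg₂⟩ := hcov g'
  have h12 : A₁ ≠ A₂ := fun h =>
    hne A₁ (hproper _ hA₁) (hnil _ hA₁) hg₁ (h ▸ hg₂)
  have hle := hmin (insert B (𝓐.filter fun A => ¬ A ≤ B)) ⟨?_, ?_⟩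
  · have h2 : 2 ≤ (𝓐.filter fun A => A ≤ B).card := by
      refine (Finset.card_pair h12).ge.trans (Finset.card_le_card ?_)
      intro A hA
      simp only [Finset.mem_insert, Finset.mem_singleton] at hA
      rcases hA with rfl | rfl
      · exact Finset.mem_filter.2 ⟨hA₁, hg _ (hproper _ hA₁) (hnil _ hA₁) hg₁⟩
      · exact Finset.mem_filter.2 ⟨hA₂, hg' _ (hproper _ hA₂) (hnil _ hA₂) hg₂⟩
    have hsplit := 𝓐.card_filter_add_card_filter_not fun A => A ≤ B
    have hins := Finset.card_insert_le B (𝓐.filter fun A => ¬ A ≤ B)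
    omega
  · intro A hA
    rcases Finset.mem_insert.1 hA with rfl | hA
    · exact hB
    · exact hproper _ (Finset.mem_filter.1 hA).1
  · intro x
    obtain ⟨A, hA, hx⟩ := hcov x
    by_cases hAB : A ≤ B
    · exact ⟨B, Finset.mem_insert_self _ _, hAB hx⟩
    · exact ⟨A, Finset.mem_insert_of_mem (Finset.mem_filter.2 ⟨hA, hAB⟩), hx⟩

/-- Normalizer condition: if only elements of `X` move `g` into `X`, a nilpotent subgroup
containing `g` lies in `X`. -/
theorem le_of_nilpotent_of_conj_mem {G : Type*} [Group G] (A X : Subgroup G)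
    (hA : Group.IsNilpotent A) {g : G} (hgA : g ∈ A) (hgX : g ∈ X)
    (h : ∀ y ∈ A, y * g * y⁻¹ ∈ X → y ∈ X) : A ≤ X := by
  by_contra hcon
  obtain ⟨y, hyN, hyH⟩ := SetLike.exists_of_lt
    ((haveI := hA; Group.normalizerCondition_of_isNilpotent (G := A)) (X.subgroupOf A)
      (lt_top_iff_ne_top.2 fun h => hcon (subgroupOf_eq_top.1 h)))
  exact hyH (h y y.2 ((mem_normalizer_iff.1 hyN ⟨g, hgA⟩).1 hgX))

/-- The preimage of a nilpotent subgroup under a map with central kernel is nilpotent. -/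
theorem isNilpotent_comap {Γ Q : Type*} [Group Γ] [Group Q] (π : Γ →* Q)
    (hker : π.ker ≤ Subgroup.center Γ) (A : Subgroup Q) (hA : Group.IsNilpotent A) :
    Group.IsNilpotent (A.comap π) := by
  haveI := hA
  refine Subgroup.isNilpotent_of_ker_le_center (π.subgroupComap A) fun x hx => ?_
  rw [Subgroup.mem_center_iff]
  intro y
  have hx' : π (x : Γ) = 1 := congrArg Subtype.val (MonoidHom.mem_ker.1 hx)
  exact Subtype.ext ((Subgroup.mem_center_iff.1 (hker (MonoidHom.mem_ker.2 hx'))) y)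

/-- Version of `no_nilpotent_minimal_cover` for a subgroup of a central quotient. -/
theorem no_nilpotent_minimal_cover_lift {Γ Q : Type*} [Group Γ] [Group Q] (π : Γ →* Q)
    (hsurj : Function.Surjective π) (hker : π.ker ≤ Subgroup.center Γ) (G : Subgroup Q)
    (X : Subgroup Γ) (hX : π.ker ≤ X) (γ : Γ) (hγ : π γ ∈ G) (hγX : γ ∉ X)
    (g g' : Γ) (hgG : π g ∈ G) (hg'G : π g' ∈ G)
    (hg : ∀ A : Subgroup Γ, Group.IsNilpotent A → g ∈ A → A ≤ X)
    (hg' : ∀ A : Subgroup Γ, Group.IsNilpotent A → g' ∈ A → A ≤ X)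
    (hne : ∀ A : Subgroup Γ, Group.IsNilpotent A → g ∈ A → g' ∉ A) :
    ¬ ∃ 𝓐 : Finset (Subgroup G), ((∀ A ∈ 𝓐, A ≠ ⊤) ∧ (∀ x : G, ∃ A ∈ 𝓐, x ∈ A)) ∧
      (∀ 𝓑 : Finset (Subgroup G), (∀ A ∈ 𝓑, A ≠ ⊤) ∧ (∀ x : G, ∃ A ∈ 𝓑, x ∈ A) → 𝓐.card ≤ 𝓑.card) ∧
      (∀ A ∈ 𝓐, Group.IsNilpotent ↥A) := by
  have hnil : ∀ A : Subgroup G, Group.IsNilpotent A →
      Group.IsNilpotent ((A.map G.subtype).comap π) := fun A hA =>
    isNilpotent_comap π hker _ (haveI := hA
      Group.nilpotent_of_mulEquiv (A.equivMapOfInjective G.subtype G.subtype_injective))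
  have hle : ∀ (A : Subgroup G) (hA : Group.IsNilpotent A) (k : Γ) (hk : π k ∈ G),
      (⟨π k, hk⟩ : G) ∈ A → (∀ B : Subgroup Γ, Group.IsNilpotent B → k ∈ B → B ≤ X) →
      A ≤ (X.map π).subgroupOf G := by
    intro A hA k hk hkA hall x hx
    obtain ⟨y, hy⟩ := hsurj (x : Q)
    refine ⟨y, hall _ (hnil A hA) ⟨_, hkA, rfl⟩ ?_, hy⟩
    exact ⟨x, hx, hy.symm⟩
  refine no_nilpotent_minimal_cover ((X.map π).subgroupOf G) ?_ ⟨π g, hgG⟩ ⟨π g', hg'G⟩
    (fun A _ hA h => hle A hA g hgG h hg) (fun A _ hA h => hle A hA g' hg'G h hg')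
    (fun A _ hA h h' => hne _ (hnil A hA) ⟨_, h, rfl⟩ ⟨_, h', rfl⟩)
  intro htop
  have h1 : (⟨π γ, hγ⟩ : G) ∈ (X.map π).subgroupOf G := htop ▸ Subgroup.mem_top _
  have h2 : γ ∈ (X.map π).comap π := h1
  rw [Subgroup.comap_map_eq, sup_eq_left.2 hX] at h2
  exact hγX h2

section Diagonal

variable {F : Type*} [Field F] {n : ℕ}

/-- `x` is diagonal. -/
def IsDiagGL (x : GL (Fin n) F) : Prop := ∀ i j, i ≠ j → (x : Matrix (Fin n) (Fin n) F) i j = 0

theorem isDiagGL_eq_diagonal {x : GL (Fin n) F} (hx : IsDiagGL x) :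
    (x : Matrix (Fin n) (Fin n) F) = Matrix.diagonal fun i => (x : Matrix (Fin n) (Fin n) F) i i := by
  ext i j
  by_cases h : i = j
  · subst h
    rw [Matrix.diagonal_apply_eq]
  · rw [Matrix.diagonal_apply_ne _ h, hx i j h]

theorem isDiagGL_of_commute {d x : GL (Fin n) F} (hd : IsDiagGL d)
    (hdist : ∀ i j, (d : Matrix (Fin n) (Fin n) F) i i = (d : Matrix (Fin n) (Fin n) F) j j → i = j)
    (h : Commute x d) : IsDiagGL x := by
  intro i j hij
  have h1 := congrFun (congrFun (congrArg (fun u : GL (Fin n) F => (u : Matrix (Fin n) (Fin n) F)) h.eq) i) j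
  rw [Units.val_mul, Units.val_mul, isDiagGL_eq_diagonal hd, Matrix.mul_diagonal,
    Matrix.diagonal_mul] at h1
  by_contra hne
  apply hij
  apply hdist
  rw [mul_comm ((x : Matrix (Fin n) (Fin n) F) i j)] at h1
  exact (mul_right_cancel₀ hne h1).symm

theorem isDiagGL_mul {x y : GL (Fin n) F} (hx : IsDiagGL x) (hy : IsDiagGL y) : IsDiagGL (x * y) := by
  intro i j hij
  rw [Units.val_mul, isDiagGL_eq_diagonal hx, Matrix.diagonal_mul, hy i j hij, mul_zero]

theorem isDiagGL_one : IsDiagGL (1 : GL (Fin n) F) := by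
  intro i j hij
  rw [Units.val_one, Matrix.one_apply_ne hij]

theorem isDiagGL_inv [Finite F] {x : GL (Fin n) F} (hx : IsDiagGL x) : IsDiagGL x⁻¹ := by
  have hpow : ∀ k : ℕ, IsDiagGL (x ^ k) := by
    intro k
    induction k with
    | zero => rw [pow_zero]; exact isDiagGL_one
    | succ k ih => rw [pow_succ]; exact isDiagGL_mul ih hx
  obtain ⟨k, hk⟩ : x⁻¹ ∈ Submonoid.powers x :=
    ((isOfFinOrder_of_finite x).mem_powers_iff_mem_zpowers).2 (inv_mem (mem_zpowers x))
  rw [← hk]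
  exact hpow k

/-- The diagonal subgroup. -/
def diagGL (F : Type*) [Field F] [Finite F] (n : ℕ) : Subgroup (GL (Fin n) F) where
  carrier := {x | IsDiagGL x}
  mul_mem' := fun hx hy => isDiagGL_mul hx hy
  one_mem' := isDiagGL_one
  inv_mem' := fun hx => isDiagGL_inv hx

/-- A nilpotent subgroup containing a diagonal element with distinct entries whose order is a
prime larger than `n` is diagonal. -/
theorem le_diagGL_of_nilpotent [Finite F] (A : Subgroup (GL (Fin n) F)) (hA : Group.IsNilpotent A)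
    {ℓ : ℕ} (hℓ : ℓ.Prime) (hn : n < ℓ) {d : GL (Fin n) F} (hdA : d ∈ A) (hd : IsDiagGL d)
    (hord : orderOf d = ℓ)
    (hdist : ∀ i j, (d : Matrix (Fin n) (Fin n) F) i i = (d : Matrix (Fin n) (Fin n) F) j j → i = j) :
    A ≤ diagGL F n := by
  haveI := hA
  haveI := Fact.mk hℓ
  set H : Subgroup A := (diagGL F n).subgroupOf A with hH
  by_contra hcon
  have hlt : H < ⊤ := lt_top_iff_ne_top.2 fun h => hcon (subgroupOf_eq_top.1 h)
  obtain ⟨x, hxN, hxH⟩ := SetLike.exists_of_lt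
    ((Group.normalizerCondition_of_isNilpotent (G := A)) H hlt)
  apply hxH
  show IsDiagGL (x : GL (Fin n) F)
  set X : GL (Fin n) F := (x : GL (Fin n) F) with hX
  set M : Matrix (Fin n) (Fin n) F := (X : Matrix (Fin n) (Fin n) F) with hM
  have hd' : IsDiagGL (X * d * X⁻¹) :=
    (mem_normalizer_iff.1 hxN ⟨d, hdA⟩).1 (show IsDiagGL d from hd)
  set e : Fin n → F := fun i => ((X * d * X⁻¹ : GL (Fin n) F) : Matrix (Fin n) (Fin n) F) i i
    with he
  set dd : Fin n → F := fun i => (d : Matrix (Fin n) (Fin n) F) i i with hdd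
  have hmono : ∀ i j, M i j ≠ 0 → e i = dd j := by
    intro i j hij
    have h1 : X * d * X⁻¹ * X = X * d := by group
    have h2 := congrFun (congrFun (congrArg (fun u : GL (Fin n) F => (u : Matrix (Fin n) (Fin n) F)) h1) i) j
    rw [Units.val_mul, Units.val_mul X d, isDiagGL_eq_diagonal hd, isDiagGL_eq_diagonal hd',
      Matrix.mul_diagonal, Matrix.diagonal_mul, mul_comm _ (dd j)] at h2
    exact mul_right_cancel₀ hij h2
  have huniq : ∀ i j j', M i j ≠ 0 → M i j' ≠ 0 → j = j' := fun i j j' h h' =>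
    hdist j j' ((hmono i j h).symm.trans (hmono i j' h'))
  have hrow : ∀ i, ∃ j, M i j ≠ 0 := by
    intro i
    by_contra hc
    push Not at hc
    have h1 : ((X * X⁻¹ : GL (Fin n) F) : Matrix (Fin n) (Fin n) F) i i = 1 := by
      rw [mul_inv_cancel, Units.val_one, Matrix.one_apply_eq]
    rw [Units.val_mul, Matrix.mul_apply] at h1
    exact one_ne_zero (h1.symm.trans (Finset.sum_eq_zero fun k _ => by rw [← hM, hc k, zero_mul]))
  have hcol : ∀ j, ∃ i, M i j ≠ 0 := by
    intro j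
    by_contra hc
    push Not at hc
    have h1 : ((X⁻¹ * X : GL (Fin n) F) : Matrix (Fin n) (Fin n) F) j j = 1 := by
      rw [inv_mul_cancel, Units.val_one, Matrix.one_apply_eq]
    rw [Units.val_mul, Matrix.mul_apply] at h1
    exact one_ne_zero (h1.symm.trans (Finset.sum_eq_zero fun k _ => by rw [← hM, hc k, mul_zero]))
  choose s hs using hrow
  have hsurj : Function.Surjective s := fun j => by
    obtain ⟨i, hi⟩ := hcol j
    exact ⟨i, huniq i (s i) j (hs i) hi⟩
  set σ : Equiv.Perm (Fin n) := Equiv.ofBijective s ((Finite.surjective_iff_bijective).1 hsurj)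
    with hσ
  have hsupp : ∀ (k : ℕ) i j, ((X ^ k : GL (Fin n) F) : Matrix (Fin n) (Fin n) F) i j ≠ 0 →
      j = (σ ^ k) i := by
    intro k
    induction k with
    | zero =>
      intro i j h
      rw [pow_zero, Units.val_one, Matrix.one_apply] at h
      simp only [pow_zero, Equiv.Perm.coe_one, id_eq]
      by_contra hne
      exact h (if_neg fun hc => hne hc.symm)
    | succ k ih =>
      intro i j h
      rw [pow_succ, Units.val_mul, Matrix.mul_apply] at h
      obtain ⟨l, -, hl⟩ := Finset.exists_ne_zero_of_sum_ne_zero h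
      have h1 := ih i l (left_ne_zero_of_mul hl)
      have h2 := huniq l (s l) j (hs l) (right_ne_zero_of_mul hl)
      rw [pow_succ', Equiv.Perm.mul_apply, ← h1, hσ, Equiv.ofBijective_apply, h2]
  have hdiag_pow : ∀ k : ℕ, IsDiagGL (X ^ k) → σ ^ k = 1 := by
    intro k hk
    refine Equiv.ext fun i => ?_
    obtain ⟨j, hj⟩ : ∃ j, ((X ^ k : GL (Fin n) F) : Matrix (Fin n) (Fin n) F) i j ≠ 0 := by
      by_contra hc
      push Not at hc
      have h1 : (((X ^ k) * (X ^ k)⁻¹ : GL (Fin n) F) : Matrix (Fin n) (Fin n) F) i i = 1 := by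
        rw [mul_inv_cancel, Units.val_one, Matrix.one_apply_eq]
      rw [Units.val_mul, Matrix.mul_apply] at h1
      exact one_ne_zero (h1.symm.trans (Finset.sum_eq_zero fun l _ => by rw [hc l, zero_mul]))
    have hij : i = j := by
      by_contra hne
      exact hj (hk i j hne)
    rw [Equiv.Perm.coe_one, id_eq, ← hsupp k i j hj, ← hij]
  have hσ1 : σ = 1 := by
    obtain ⟨a, r, hr, hxr⟩ := Nat.exists_eq_pow_mul_and_not_dvd (orderOf_pos x).ne' ℓ hℓ.ne_one
    have hcop : (orderOf (x ^ ℓ ^ a)).Coprime ℓ := by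
      rw [orderOf_pow_of_dvd (pow_ne_zero _ hℓ.ne_zero) ⟨r, hxr⟩, hxr,
        Nat.mul_div_cancel_left _ (pow_pos hℓ.pos a)]
      exact ((hℓ.coprime_iff_not_dvd).2 hr).symm
    have hdA' : orderOf (⟨d, hdA⟩ : A) = ℓ := by
      rw [← orderOf_injective A.subtype A.subtype_injective]; exact hord
    have hcomm := CfsgLib.Coprime.commute_of_coprime_pow (G := A) hcop
      (P := zpowers (⟨d, hdA⟩ : A))
      (IsPGroup.of_card (n := 1) (by rw [Nat.card_zpowers, hdA', pow_one])) (mem_zpowers _)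
    have hdg : IsDiagGL (X ^ ℓ ^ a) := by
      refine isDiagGL_of_commute hd hdist ?_
      have := congrArg Subtype.val hcomm.eq
      simpa [Commute, SemiconjBy] using this
    have h1 : σ ^ ℓ ^ a = 1 := hdiag_pow _ hdg
    have h2 : orderOf σ ∣ ℓ ^ a := orderOf_dvd_of_pow_eq_one h1
    have h3 : orderOf σ ∣ n.factorial := by
      have h4 := orderOf_dvd_natCard σ
      rwa [Nat.card_perm, Nat.card_fin] at h4
    have h5 : (ℓ ^ a).Coprime n.factorial := by
      refine Nat.Coprime.pow_left _ ((hℓ.coprime_iff_not_dvd).2 fun h => ?_)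
      exact absurd ((Nat.Prime.dvd_factorial hℓ).1 h) (not_le.2 hn)
    exact orderOf_eq_one_iff.1 (Nat.eq_one_of_dvd_coprimes h5 h2 h3)
  intro i j hij
  by_contra hne
  apply hij
  have h := huniq i (s i) j (hs i) hne
  have h' : s i = i := by
    have := congrArg (fun p : Equiv.Perm (Fin n) => p i) hσ1
    simpa [hσ] using this
  rw [← h, h']

end Diagonal

end CfsgLib.PGroup
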