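import Cfsg.Prelude.Def_Transfer
import Mathlib.GroupTheory.Nilpotent
import Mathlib.GroupTheory.Sylow

/-!
# Abelian Sylow subgroups and minimal covers by nilpotent subgroups
-/

set_option autoImplicit false
set_option linter.style.haveILetI false

namespace CfsgLib.PGroup.NilpotentCoverSylow

open Subgroup

variable {G : Type*} [Group G] [Finite G] {p : ℕ} [Fact p.Prime]

/-- A cover by proper nilpotent subgroups with no smaller cover by proper subgroups. -/
structure MinCover (𝓐 : Finset (Subgroup G)) : Prop where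
  ne_top : ∀ A ∈ 𝓐, A ≠ ⊤
  cover : ∀ g : G, ∃ A ∈ 𝓐, g ∈ A
  minimal : ∀ 𝓑 : Finset (Subgroup G),
    (∀ A ∈ 𝓑, A ≠ ⊤) ∧ (∀ g : G, ∃ A ∈ 𝓑, g ∈ A) → 𝓐.card ≤ 𝓑.card
  nilp : ∀ A ∈ 𝓐, Group.IsNilpotent ↥A

variable {𝓐 : Finset (Subgroup G)}

/-- Two members never lie in one proper subgroup. -/
theorem MinCover.unique_le (h : MinCover 𝓐) {M A B : Subgroup G} (hM : M ≠ ⊤) (hA : A ∈ 𝓐)
    (hB : B ∈ 𝓐) (hAM : A ≤ M) (hBM : B ≤ M) : A = B := by
  classical
  by_contra hne
  have hA' : A ∈ 𝓐.erase B := Finset.mem_erase.2 ⟨hne, hA⟩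
  have hle := h.minimal (insert M ((𝓐.erase B).erase A)) ⟨fun C hC => by
      rcases Finset.mem_insert.1 hC with rfl | hC
      · exact hM
      · exact h.ne_top C (Finset.mem_of_mem_erase (Finset.mem_of_mem_erase hC)),
    fun g => by
      obtain ⟨C, hC, hg⟩ := h.cover g
      by_cases hCA : C = A
      · exact ⟨M, Finset.mem_insert_self _ _, hAM (hCA ▸ hg)⟩
      by_cases hCB : C = B
      · exact ⟨M, Finset.mem_insert_self _ _, hBM (hCB ▸ hg)⟩
      exact ⟨C, Finset.mem_insert_of_mem (Finset.mem_erase.2 ⟨hCA, Finset.mem_erase.2 ⟨hCB, hC⟩⟩), hg⟩⟩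
  have h1 := Finset.card_insert_le M ((𝓐.erase B).erase A)
  have h2 := Finset.card_erase_add_one hA'
  have h3 := Finset.card_erase_add_one hB
  omega

/-- A member centralizes its `p`-elements, when Sylow `p`-subgroups are abelian. -/
theorem MinCover.le_centralizer (h : MinCover 𝓐) (P : Sylow p G)
    (hab : IsMulCommutative ↥(P : Subgroup G)) {A : Subgroup G} (hA : A ∈ 𝓐) {v : G} (hv : v ∈ A)
    (hvp : IsPGroup p ↥(zpowers v)) : A ≤ centralizer ({v} : Set G) := by
  haveI := h.nilp A hA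
  have hvA : IsPGroup p ↥(zpowers (⟨v, hv⟩ : A)) := by
    have he : zpowers (⟨v, hv⟩ : A) = (zpowers v).comap A.subtype := by
      rw [show zpowers v = (zpowers (⟨v, hv⟩ : A)).map A.subtype from
        (A.subtype.map_zpowers ⟨v, hv⟩).symm, comap_map_eq_self_of_injective A.subtype_injective]
    rw [he]; exact hvp.comap_subtype
  rw [← subgroupOf_eq_top, ← index_eq_one]
  by_contra hne
  obtain ⟨q, hq, hd⟩ := Nat.exists_prime_and_dvd hne
  haveI := Fact.mk hq
  obtain ⟨Q⟩ : Nonempty (Sylow q A) := inferInstance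
  refine Q.not_dvd_index (hd.trans (index_dvd_of_le fun x hx => mem_subgroupOf.2 ?_))
  rw [mem_centralizer_singleton_iff]
  obtain ⟨Qp, hQp⟩ := hvA.exists_le_sylow
  have hvQ : (⟨v, hv⟩ : A) ∈ (Qp : Subgroup A) := hQp (mem_zpowers _)
  rcases eq_or_ne q p with rfl | hqp
  · haveI : (Q : Subgroup A).Normal :=
      Sylow.normal_of_normalizerCondition Group.normalizerCondition_of_isNilpotent Q
    haveI := Sylow.unique_of_normal Q inferInstance
    rw [Subsingleton.elim Qp Q] at hvQ
    obtain ⟨R, hR⟩ := (Q.2.map A.subtype).exists_le_sylow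
    obtain ⟨g, rfl⟩ := MulAction.exists_smul_eq G P R
    obtain ⟨a, ha, hax⟩ := hR (mem_map_of_mem A.subtype hx)
    obtain ⟨b, hb, hbv⟩ := hR (mem_map_of_mem A.subtype hvQ)
    have e : a * b = b * a := setLike_mul_comm ha hb
    have := congrArg (MulAut.conj g) e
    rw [map_mul, map_mul] at this
    show (x : G) * v = v * x
    change MulAut.conj g a = (x : G) at hax
    change MulAut.conj g b = v at hbv
    rwa [hax, hbv] at this
  · have hn1 := Sylow.normal_of_normalizerCondition Group.normalizerCondition_of_isNilpotent Q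
    have hn2 := Sylow.normal_of_normalizerCondition Group.normalizerCondition_of_isNilpotent Qp
    exact congrArg Subtype.val
      (Subgroup.commute_of_normal_of_disjoint _ _ hn1 hn2
        (IsPGroup.disjoint_of_ne q p hqp _ _ Q.2 Qp.2) x ⟨v, hv⟩ hx hvQ).eq

/-- A nontrivial `p`-element lies in one member only. -/
theorem MinCover.unique_of_pElement (h : MinCover 𝓐) (hZ : center G = ⊥) (P : Sylow p G)
    (hab : IsMulCommutative ↥(P : Subgroup G)) {A B : Subgroup G} (hA : A ∈ 𝓐) (hB : B ∈ 𝓐)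
    {v : G} (hvp : IsPGroup p ↥(zpowers v)) (hv1 : v ≠ 1) (hvA : v ∈ A) (hvB : v ∈ B) : A = B := by
  refine h.unique_le (M := centralizer ({v} : Set G)) ?_ hA hB
    (h.le_centralizer P hab hA hvA hvp) (h.le_centralizer P hab hB hvB hvp)
  intro e
  apply hv1
  rw [← mem_bot, ← hZ, mem_center_iff]
  exact fun g => mem_centralizer_singleton_iff.1 (e ▸ mem_top g : g ∈ centralizer ({v} : Set G))

omit [Finite G] in
theorem isPGroup_zpowers {P : Subgroup G} (hP : IsPGroup p P) {v : G} (hv : v ∈ P) :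
    IsPGroup p ↥(zpowers v) := hP.to_le (zpowers_le.2 hv)

/-- An abelian Sylow subgroup is inside one member, unless it is elementary abelian. -/
theorem MinCover.exists_member (h : MinCover 𝓐) (hZ : center G = ⊥) (P : Sylow p G)
    (hab : IsMulCommutative ↥(P : Subgroup G))
    (hne : ¬ (Cfsg.IsElementaryAbelian p (P : Subgroup G) ∧ p < Nat.card ↥(P : Subgroup G))) :
    ∃ A ∈ 𝓐, (P : Subgroup G) ≤ A := by
  have hp : p.Prime := Fact.out
  obtain ⟨A₁, hA₁, -⟩ := h.cover 1
  by_cases hel : Cfsg.IsElementaryAbelian p (P : Subgroup G)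
  · have hle : Nat.card ↥(P : Subgroup G) ≤ p := not_lt.1 fun hlt => hne ⟨hel, hlt⟩
    obtain ⟨k, hk⟩ := P.2.exists_card_eq
    by_cases hP : (P : Subgroup G) = ⊥
    · exact ⟨A₁, hA₁, hP ▸ bot_le⟩
    obtain ⟨u, hu1⟩ := Subgroup.ne_bot_iff_exists_ne_one.1 hP
    obtain ⟨A, hA, huA⟩ := h.cover u
    refine ⟨A, hA, ?_⟩
    have hou : orderOf (u : G) = p :=
      orderOf_eq_prime (hel.2 u u.2) fun e => hu1 (Subtype.ext e)
    have heq : zpowers (u : G) = (P : Subgroup G) :=
      eq_of_le_of_card_ge (zpowers_le.2 u.2) (by rw [Nat.card_zpowers, hou]; exact hle)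
    rw [← heq]; exact zpowers_le.2 huA
  · obtain ⟨x, hx, hxp⟩ : ∃ x ∈ (P : Subgroup G), x ^ p ≠ 1 := by
      by_contra hc; push Not at hc; exact hel ⟨hab, hc⟩
    obtain ⟨A, hA, hxA⟩ := h.cover x
    have small : ∀ z ∈ (P : Subgroup G), z ^ p = 1 → z ∈ A := by
      intro z hz hzp
      obtain ⟨C, hC, hxzC⟩ := h.cover (x * z)
      have he : (x * z) ^ p = x ^ p := by
        rw [(show Commute x z from setLike_mul_comm hx hz).mul_pow, hzp, mul_one]
      have hCA : C = A := h.unique_of_pElement hZ P hab hC hA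
        (isPGroup_zpowers P.2 (pow_mem hx p)) hxp (he ▸ pow_mem hxzC p) (pow_mem hxA p)
      subst hCA
      simpa using mul_mem (inv_mem hxA) hxzC
    refine ⟨A, hA, fun y hy => ?_⟩
    by_cases hy1 : y = 1
    · rw [hy1]; exact one_mem _
    obtain ⟨B, hB, hyB⟩ := h.cover y
    obtain ⟨k, hk⟩ := (IsPGroup.iff_orderOf.1 P.2) ⟨y, hy⟩
    rw [Subgroup.orderOf_mk] at hk
    obtain ⟨j, rfl⟩ := Nat.exists_eq_succ_of_ne_zero (n := k) fun e =>
      hy1 (orderOf_eq_one_iff.1 (by rw [hk, e, pow_zero]))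
    have hz1 : y ^ p ^ j ≠ 1 := fun e => absurd (orderOf_dvd_of_pow_eq_one e) (by
      rw [hk]; exact fun hd => absurd (Nat.le_of_dvd (pow_pos hp.pos _) hd)
        (not_le.2 (Nat.pow_lt_pow_succ hp.one_lt)))
    have hzp : (y ^ p ^ j) ^ p = 1 := by rw [← pow_mul, ← pow_succ, ← hk]; exact pow_orderOf_eq_one y
    have := h.unique_of_pElement hZ P hab hB hA (isPGroup_zpowers P.2 (pow_mem hy _)) hz1
      (pow_mem hyB _) (small _ (pow_mem hy _) hzp)
    exact this ▸ hyB

/-- The member containing an abelian non-normal Sylow subgroup is its centralizer. -/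
theorem MinCover.centralizer_eq (h : MinCover 𝓐) (hZ : center G = ⊥) (P : Sylow p G)
    (hab : IsMulCommutative ↥(P : Subgroup G)) (hP : (P : Subgroup G) ≠ ⊥)
    {A : Subgroup G} (hA : A ∈ 𝓐) (hPA : (P : Subgroup G) ≤ A) :
    centralizer ((P : Subgroup G) : Set G) = A := by
  refine le_antisymm (fun g hg => ?_) fun a ha => mem_centralizer_iff.2 fun u hu => ?_
  · obtain ⟨⟨u, hu⟩, hu1⟩ := Subgroup.ne_bot_iff_exists_ne_one.1 hP
    have hu1' : u ≠ 1 := fun e => hu1 (Subtype.ext e)
    have hp : p.Prime := Fact.out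
    set o := orderOf g with ho
    have ho0 : o ≠ 0 := (orderOf_pos g).ne'
    set m := ordProj[p] o with hm
    set n := ordCompl[p] o with hn
    have hmn : m * n = o := Nat.ordProj_mul_ordCompl_eq_self o p
    have hcop : m.Coprime n := (Nat.coprime_ordCompl hp ho0).pow_left _
    obtain ⟨e, he1, he0⟩ := Nat.chineseRemainder hcop 0 1
    have hog : g ^ o = 1 := pow_orderOf_eq_one g
    -- the two parts of `g`
    have hgC : ∀ k, Commute (g ^ k) u := fun k =>
      (show Commute g u from (mem_centralizer_iff.1 hg u hu).symm).pow_left k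
    have hgp : g ^ n ∈ (P : Subgroup G) := by
      have hgn : (g ^ n) ^ m = 1 := by rw [← pow_mul, mul_comm, hmn, hog]
      have hz : IsPGroup p ↥(zpowers (g ^ n)) := by
        obtain ⟨j, -, hj⟩ := (Nat.dvd_prime_pow hp).1 (orderOf_dvd_of_pow_eq_one hgn)
        exact IsPGroup.of_card (by rw [Nat.card_zpowers, hj])
      have hsup : IsPGroup p ↥((P : Subgroup G) ⊔ zpowers (g ^ n)) :=
        P.2.to_sup_of_normal_left' hz (zpowers_le.2 (centralizer_le_normalizer _ (pow_mem hg n)))
      have := P.3 hsup le_sup_left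
      exact this ▸ mem_sup_right (mem_zpowers _)
    have hgq : g ^ m ∈ A := by
      obtain ⟨B, hB, hgu⟩ := h.cover (g ^ m * u)
      have hcopu : (orderOf (g ^ m)).Coprime (orderOf u) := by
        obtain ⟨k, hk⟩ := (IsPGroup.iff_orderOf.1 P.2) ⟨u, hu⟩
        rw [Subgroup.orderOf_mk] at hk
        rw [hk]
        refine Nat.Coprime.coprime_dvd_left (orderOf_dvd_of_pow_eq_one (n := n) ?_)
          ((Nat.coprime_ordCompl hp ho0).symm.pow_right k)
        rw [← pow_mul, hmn, hog]
      obtain ⟨f, hf0, hf1⟩ := Nat.chineseRemainder hcopu 0 1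
      have hu' : (g ^ m * u) ^ f = u := by
        rw [(hgC m).mul_pow, pow_eq_pow_iff_modEq.2 hf0, pow_eq_pow_iff_modEq.2 hf1, pow_zero,
          pow_one, one_mul]
      have huB : u ∈ B := hu' ▸ pow_mem hgu f
      have := h.unique_of_pElement hZ P hab hB hA (isPGroup_zpowers P.2 hu) hu1' huB (hPA hu)
      subst this
      simpa using mul_mem hgu (inv_mem huB)
    obtain ⟨f, hf1, hf0⟩ := Nat.chineseRemainder hcop 1 0
    have hb : ∃ a b : ℕ, g = (g ^ m) ^ a * (g ^ n) ^ b := by
      obtain ⟨a, ha⟩ : m ∣ e := Nat.modEq_zero_iff_dvd.1 he1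
      obtain ⟨b, hb⟩ : n ∣ f := Nat.modEq_zero_iff_dvd.1 hf0
      refine ⟨a, b, ?_⟩
      rw [← pow_mul, ← pow_mul, ← ha, ← hb, ← pow_add]
      refine (pow_eq_pow_iff_modEq.2 ?_).trans (pow_one g) |>.symm
      rw [← ho, ← hmn]
      exact (Nat.modEq_and_modEq_iff_modEq_mul hcop).1
        ⟨by simpa using he1.add hf1, by simpa using he0.add hf0⟩
    obtain ⟨a, b, hab'⟩ := hb
    rw [hab']
    exact mul_mem (pow_mem hgq a) (pow_mem (hPA hgp) b)
  · exact (mem_centralizer_singleton_iff.1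
      (h.le_centralizer P hab hA (hPA hu) (isPGroup_zpowers P.2 hu) ha)).symm

/-- In the non-elementary case the normalizer of the Sylow subgroup is the only maximal subgroup
over the centralizer. -/
theorem MinCover.le_normalizer (h : MinCover 𝓐) (hZ : center G = ⊥) (P : Sylow p G)
    (hab : IsMulCommutative ↥(P : Subgroup G))
    (hne : ¬ (Cfsg.IsElementaryAbelian p (P : Subgroup G) ∧ p < Nat.card ↥(P : Subgroup G)))
    (hP : (P : Subgroup G) ≠ ⊥)
    {M : Subgroup G} (hM : M ≠ ⊤) (hCM : centralizer ((P : Subgroup G) : Set G) ≤ M) :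
    M ≤ normalizer ((P : Subgroup G) : Set G) := by
  intro g hg
  obtain ⟨A, hA, hPA⟩ := h.exists_member hZ P hab hne
  have hAC := h.centralizer_eq hZ P hab hP hA hPA
  set P' := g • P with hP'
  have hcoe : (P' : Subgroup G) = (P : Subgroup G).map (MulAut.conj g).toMonoidHom :=
    Sylow.coe_subgroup_smul
  have e := (P : Subgroup G).equivMapOfInjective (MulAut.conj g).toMonoidHom (MulAut.conj g).injective
  have hab' : IsMulCommutative ↥(P' : Subgroup G) := by
    rw [hcoe]
    exact ⟨⟨fun a b => e.symm.injective (by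
      rw [map_mul, map_mul]; exact setLike_mul_comm_aux hab (e.symm a) (e.symm b))⟩⟩
  have hne' : ¬ (Cfsg.IsElementaryAbelian p (P' : Subgroup G) ∧
      p < Nat.card ↥(P' : Subgroup G)) := by
    rintro ⟨⟨-, h1⟩, h2⟩
    rw [hcoe] at h1 h2
    refine hne ⟨⟨hab, fun a ha => ?_⟩, ?_⟩
    · have := h1 _ (mem_map_of_mem _ ha)
      rw [← map_pow] at this
      exact (MulAut.conj g).injective (this.trans (map_one (MulAut.conj g)).symm)
    · rwa [card_map_of_injective (MulAut.conj g).injective] at h2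
  have hP'1 : (P' : Subgroup G) ≠ ⊥ := by
    rw [hcoe]
    exact fun e => hP ((map_eq_bot_iff_of_injective _ (MulAut.conj g).injective).1 e)
  obtain ⟨B, hB, hPB⟩ := h.exists_member hZ P' hab' hne'
  have hBC := h.centralizer_eq hZ P' hab' hP'1 hB hPB
  have hBM : B ≤ M := by
    rw [← hBC]
    intro c hc
    have hc' : g⁻¹ * c * g ∈ centralizer ((P : Subgroup G) : Set G) := by
      refine mem_centralizer_iff.2 fun a ha => ?_
      have hh := mem_centralizer_iff.1 hc (g * a * g⁻¹) (by rw [hcoe]; exact ⟨a, ha, rfl⟩)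
      have := congrArg (fun t => g⁻¹ * t * g) hh
      simpa [mul_assoc] using this
    have := mul_mem (mul_mem hg (hCM hc')) (inv_mem hg)
    simpa [mul_assoc] using this
  have hAB : A = B := h.unique_le hM hA hB (hAC ▸ hCM) hBM
  subst hAB
  haveI := h.nilp A hA
  have hn := Sylow.normal_of_normalizerCondition Group.normalizerCondition_of_isNilpotent
    (P.subtype hPA)
  haveI := Sylow.unique_of_normal (P.subtype hPA) hn
  have : P.subtype hPA = P'.subtype hPB := Subsingleton.elim _ _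
  have hPP : P' = P := (Sylow.subtype_injective this).symm
  exact Sylow.smul_eq_iff_mem_normalizer.1 hPP
where
  setLike_mul_comm_aux {H : Subgroup G} (hab : IsMulCommutative ↥H) (a b : H) : a * b = b * a :=
    hab.is_comm.comm a b

/-- The structure of the non-elementary case. -/
theorem MinCover.structure_of_member (h : MinCover 𝓐) (hZ : center G = ⊥) (P : Sylow p G)
    (hab : IsMulCommutative ↥(P : Subgroup G)) (hnn : ¬ (P : Subgroup G).Normal)
    (hne : ¬ (Cfsg.IsElementaryAbelian p (P : Subgroup G) ∧ p < Nat.card ↥(P : Subgroup G))) :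
    ∃ A ∈ 𝓐, (P : Subgroup G) ≤ A ∧ centralizer ((P : Subgroup G) : Set G) = A ∧
      IsCoatom (normalizer ((P : Subgroup G) : Set G)) ∧
      (∀ M : Subgroup G, IsCoatom M → centralizer ((P : Subgroup G) : Set G) ≤ M →
        M = normalizer ((P : Subgroup G) : Set G)) := by
  have hP : (P : Subgroup G) ≠ ⊥ := fun e => hnn (e ▸ inferInstance)
  obtain ⟨A, hA, hPA⟩ := h.exists_member hZ P hab hne
  have hN : normalizer ((P : Subgroup G) : Set G) ≠ ⊤ := fun e => hnn (normalizer_eq_top_iff.1 e)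
  have hN' : IsCoatom (normalizer ((P : Subgroup G) : Set G)) := by
    refine ⟨hN, fun M hlt => ?_⟩
    by_contra hM
    exact not_le_of_gt hlt (h.le_normalizer hZ P hab hne hP hM
      ((centralizer_le_normalizer _).trans hlt.le))
  exact ⟨A, hA, hPA, h.centralizer_eq hZ P hab hP hA hPA, hN', fun M hM hCM =>
    (hM.le_iff_eq hN).1 (h.le_normalizer hZ P hab hne hP hM.1 hCM) |>.symm⟩

omit [Finite G] in
/-- The hypotheses on an abelian Sylow subgroup pass to its conjugates. -/
theorem conj_hyps (P : Sylow p G) (hab : IsMulCommutative ↥(P : Subgroup G))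
    (hne : ¬ (Cfsg.IsElementaryAbelian p (P : Subgroup G) ∧ p < Nat.card ↥(P : Subgroup G))) (g : G) :
    IsMulCommutative ↥((g • P : Sylow p G) : Subgroup G) ∧
      ¬ (Cfsg.IsElementaryAbelian p ((g • P : Sylow p G) : Subgroup G) ∧
        p < Nat.card ↥((g • P : Sylow p G) : Subgroup G)) := by
  have hcoe : ((g • P : Sylow p G) : Subgroup G) =
      (P : Subgroup G).map (MulAut.conj g).toMonoidHom := Sylow.coe_subgroup_smul
  rw [hcoe]
  refine ⟨inferInstance, ?_⟩
  rintro ⟨⟨-, h1⟩, h2⟩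
  refine hne ⟨⟨hab, fun a ha => ?_⟩, ?_⟩
  · have := h1 _ (mem_map_of_mem _ ha)
    rw [← map_pow] at this
    exact (MulAut.conj g).injective (this.trans (map_one (MulAut.conj g)).symm)
  · rwa [card_map_of_injective (MulAut.conj g).injective] at h2

/-- Outside the normalizer, the normalizer meets its conjugate in a `p'`-group. -/
theorem MinCover.not_dvd_inter (h : MinCover 𝓐) (hZ : center G = ⊥) (P : Sylow p G)
    (hab : IsMulCommutative ↥(P : Subgroup G))
    (hne : ¬ (Cfsg.IsElementaryAbelian p (P : Subgroup G) ∧ p < Nat.card ↥(P : Subgroup G)))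
    {g : G} (hg : g ∉ normalizer ((P : Subgroup G) : Set G)) :
    ¬ p ∣ Nat.card ↥(normalizer ((P : Subgroup G) : Set G) ⊓
      (normalizer ((P : Subgroup G) : Set G)).map (MulAut.conj g).toMonoidHom) := by
  intro hd
  obtain ⟨⟨v, hv1, hv2⟩, ho⟩ := exists_prime_orderOf_dvd_card' p hd
  replace ho : orderOf v = p := ((orderOf_injective (Subgroup.subtype _) (Subgroup.subtype_injective _) _).trans ho :)
  have hpg : ∀ w : G, orderOf w = p → IsPGroup p ↥(zpowers w) := fun w hw =>
    IsPGroup.of_card (n := 1) (by rw [Nat.card_zpowers, hw, pow_one])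
  have inP : ∀ w : G, orderOf w = p → w ∈ normalizer ((P : Subgroup G) : Set G) →
      w ∈ (P : Subgroup G) := fun w hw hwN => by
    have hsup : IsPGroup p ↥((P : Subgroup G) ⊔ zpowers w) :=
      P.2.to_sup_of_normal_left' (hpg w hw) (zpowers_le.2 hwN)
    exact P.3 hsup le_sup_left ▸ mem_sup_right (mem_zpowers w)
  obtain ⟨w, hw, hwv⟩ := hv2
  have hwP : w ∈ (P : Subgroup G) := inP w (by
    rw [← ho, ← hwv]; exact (MulEquiv.orderOf_eq (MulAut.conj g) w).symm) hw
  have hvP : v ∈ (P : Subgroup G) := inP v ho hv1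
  obtain ⟨hab', hne'⟩ := conj_hyps P hab hne g
  obtain ⟨A, hA, hPA⟩ := h.exists_member hZ P hab hne
  obtain ⟨B, hB, hPB⟩ := h.exists_member hZ (g • P) hab' hne'
  have hvB : v ∈ B := hPB (by rw [Sylow.coe_subgroup_smul]; exact ⟨w, hwP, hwv⟩)
  have hv1' : v ≠ 1 := fun e => (Fact.out : p.Prime).ne_one (by rw [← ho, e, orderOf_one])
  have hAB := h.unique_of_pElement hZ P hab hA hB (hpg v ho) hv1' (hPA hvP) hvB
  subst hAB
  haveI := h.nilp A hA
  haveI := Sylow.unique_of_normal (P.subtype hPA)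
    (Sylow.normal_of_normalizerCondition Group.normalizerCondition_of_isNilpotent _)
  have e : P.subtype hPA = (g • P).subtype hPB := Subsingleton.elim _ _
  exact hg (Sylow.smul_eq_iff_mem_normalizer.1 (Sylow.subtype_injective e).symm)

end CfsgLib.PGroup.NilpotentCoverSylow
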