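import Cfsg.Agent.Lib.Block.BrauerPairs
import Mathlib.Algebra.BigOperators.Group.Finset.Basic
import Mathlib.Algebra.BigOperators.Ring.Finset

/-!
# Alternating sums over chains of `p`-subgroups

A function of the stabilizer has the same alternating sum over the chains normalized by their
greatest member as over all chains (`sum_normal_eq`); over the chains stabilized by a non-trivial
`p`-element `x`, a function of the centralizer of `x` in the stabilizer sums to its value at the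
centralizer of `x` (`sum_fixed_eq`).
-/

open Finset

set_option linter.unusedSectionVars false

namespace CfsgLib.PGroup.NormalChains

universe u

variable {G : Type u} [Group G] [Finite G] {p : ℕ} [Fact p.Prime]

/-- A non-empty chain of non-trivial `p`-subgroups. -/
def IsChainP (p : ℕ) (s : Finset (Subgroup G)) : Prop :=
  s.Nonempty ∧ (∀ Q ∈ s, ∀ R ∈ s, Q ≤ R ∨ R ≤ Q) ∧ ∀ Q ∈ s, Q ≠ ⊥ ∧ IsPGroup p Q

/-- A chain whose greatest member normalizes all members. -/
def IsNormalChain (p : ℕ) (s : Finset (Subgroup G)) : Prop :=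
  s.Nonempty ∧ (∀ Q ∈ s, ∀ R ∈ s, Q ≤ R ∨ R ≤ Q) ∧ (∀ Q ∈ s, Q ≠ ⊥ ∧ IsPGroup p Q) ∧
    ∃ T ∈ s, ∀ Q ∈ s, Q ≤ T ∧ T ≤ Subgroup.normalizer ((Q : Subgroup G) : Set G)

/-- The stabilizer of a chain. -/
def stab (s : Finset (Subgroup G)) : Subgroup G :=
  ⨅ Q ∈ s, Subgroup.normalizer ((Q : Subgroup G) : Set G)

theorem mem_stab {s : Finset (Subgroup G)} {g : G} :
    g ∈ stab s ↔ ∀ Q ∈ s, g ∈ Subgroup.normalizer ((Q : Subgroup G) : Set G) := by
  simp [stab, Subgroup.mem_iInf]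

theorem mem_stab_insert [DecidableEq (Subgroup G)] {s : Finset (Subgroup G)} {U : Subgroup G}
    {g : G} : g ∈ stab (insert U s) ↔ g ∈ Subgroup.normalizer (U : Set G) ∧ g ∈ stab s := by
  simp [mem_stab]

theorem mem_normalizer_sup {g : G} {A B : Subgroup G} (hA : g ∈ Subgroup.normalizer (A : Set G))
    (hB : g ∈ Subgroup.normalizer (B : Set G)) :
    g ∈ Subgroup.normalizer ((A ⊔ B : Subgroup G) : Set G) := by
  rw [Subgroup.mem_normalizer_iff_map_conj_eq] at *
  rw [Subgroup.map_sup, hA, hB]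

theorem mem_normalizer_inf {g : G} {A B : Subgroup G} (hA : g ∈ Subgroup.normalizer (A : Set G))
    (hB : g ∈ Subgroup.normalizer (B : Set G)) :
    g ∈ Subgroup.normalizer ((A ⊓ B : Subgroup G) : Set G) := by
  rw [Subgroup.mem_normalizer_iff] at *
  exact fun x => and_congr (hA x) (hB x)

theorem mem_normalizer_normalizer {g : G} {A : Subgroup G}
    (hA : g ∈ Subgroup.normalizer (A : Set G)) :
    g ∈ Subgroup.normalizer ((Subgroup.normalizer (A : Set G) : Subgroup G) : Set G) :=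
  Subgroup.le_normalizer hA

theorem exists_le_all_of_total {s : Finset (Subgroup G)} (hne : s.Nonempty)
    (htot : ∀ Q ∈ s, ∀ R ∈ s, Q ≤ R ∨ R ≤ Q) : ∃ J ∈ s, ∀ R ∈ s, J ≤ R := by
  obtain ⟨J, hJ⟩ := s.exists_minimal hne
  exact ⟨J, hJ.1, fun R hR => (htot J hJ.1 R hR).elim id fun h => hJ.2 hR h⟩

theorem exists_all_le_of_total {s : Finset (Subgroup G)} (hne : s.Nonempty)
    (htot : ∀ Q ∈ s, ∀ R ∈ s, Q ≤ R ∨ R ≤ Q) : ∃ J ∈ s, ∀ R ∈ s, R ≤ J := by
  obtain ⟨J, hJ⟩ := s.exists_maximal hne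
  exact ⟨J, hJ.1, fun R hR => (htot J hJ.1 R hR).elim (fun h => hJ.2 hR h) id⟩

section toggle

variable [DecidableEq (Subgroup G)]

theorem sgn_add_toggle (s : Finset (Subgroup G)) (U : Subgroup G)
    (hne : (if U ∈ s then s.erase U else insert U s).Nonempty) (hs : s.Nonempty) (a : ℤ) :
    (-1 : ℤ) ^ (s.card - 1) * a +
      (-1 : ℤ) ^ ((if U ∈ s then s.erase U else insert U s).card - 1) * a = 0 := by
  have hs' := hs.card_pos
  have ht := hne.card_pos
  split_ifs with h
  · rw [if_pos h, Finset.card_erase_of_mem h] at ht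
    rw [Finset.card_erase_of_mem h, show s.card - 1 = (s.card - 1 - 1) + 1 by omega, pow_succ]
    simp only [Nat.add_sub_cancel]
    ring
  · rw [Finset.card_insert_of_notMem h, show s.card + 1 - 1 = (s.card - 1) + 1 by omega, pow_succ]
    ring

theorem toggle_ne (s : Finset (Subgroup G)) (U : Subgroup G) :
    (if U ∈ s then s.erase U else insert U s) ≠ s := by
  split_ifs with h
  · exact fun e => Finset.notMem_erase U s (e.symm ▸ h)
  · exact fun e => h (e ▸ Finset.mem_insert_self U s)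

theorem toggle_toggle {s : Finset (Subgroup G)} {U U' : Subgroup G} (h : U' = U) :
    (if U' ∈ (if U ∈ s then s.erase U else insert U s) then
        (if U ∈ s then s.erase U else insert U s).erase U'
      else insert U' (if U ∈ s then s.erase U else insert U s)) = s := by
  subst h
  by_cases h : U' ∈ s
  · simp [h, Finset.insert_erase h]
  · simp [h, Finset.erase_insert h]

end toggle

/-! ### Chains not normalized by their greatest member -/

section nonnormal

/-- A member normalizing not all smaller members. -/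
def IsBad (s : Finset (Subgroup G)) (R : Subgroup G) : Prop :=
  R ∈ s ∧ ∃ Q ∈ s, Q ≤ R ∧ ¬ R ≤ Subgroup.normalizer ((Q : Subgroup G) : Set G)

/-- The smallest bad member. -/
noncomputable def firstBad (s : Finset (Subgroup G)) : Subgroup G :=
  @dite _ (∃ J, IsBad s J ∧ ∀ R, IsBad s R → J ≤ R) (Classical.propDecidable _)
    (fun h => h.choose) (fun _ => ⊥)

theorem firstBad_spec {s : Finset (Subgroup G)} (htot : ∀ Q ∈ s, ∀ R ∈ s, Q ≤ R ∨ R ≤ Q)
    (hb : ∃ R, IsBad s R) : IsBad s (firstBad s) ∧ ∀ R, IsBad s R → firstBad s ≤ R := by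
  classical
  have hex : ∃ J, IsBad s J ∧ ∀ R, IsBad s R → J ≤ R := by
    obtain ⟨R₀, hR₀⟩ := hb
    obtain ⟨J, hJ, hle⟩ := exists_le_all_of_total (s := s.filter (IsBad s))
      ⟨R₀, Finset.mem_filter.mpr ⟨hR₀.1, hR₀⟩⟩ fun Q hQ R hR =>
        htot Q (Finset.mem_filter.mp hQ).1 R (Finset.mem_filter.mp hR).1
    exact ⟨J, (Finset.mem_filter.mp hJ).2, fun R hR => hle R (Finset.mem_filter.mpr ⟨hR.1, hR⟩)⟩
  simp only [firstBad, dif_pos hex]
  exact hex.choose_spec

theorem firstBad_eq {s : Finset (Subgroup G)} (htot : ∀ Q ∈ s, ∀ R ∈ s, Q ≤ R ∨ R ≤ Q)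
    {J : Subgroup G} (hJ : IsBad s J) (hle : ∀ R, IsBad s R → J ≤ R) : firstBad s = J :=
  have h := firstBad_spec htot ⟨J, hJ⟩
  le_antisymm (h.2 J hJ) (hle _ h.1)

/-- The elements of the first bad member normalizing the smaller ones. -/
noncomputable def pivot (s : Finset (Subgroup G)) : Subgroup G :=
  firstBad s ⊓ ⨅ Q ∈ {Q | Q ∈ s ∧ Q < firstBad s}, Subgroup.normalizer ((Q : Subgroup G) : Set G)

theorem mem_pivot {s : Finset (Subgroup G)} {g : G} :
    g ∈ pivot s ↔ g ∈ firstBad s ∧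
      ∀ Q ∈ s, Q < firstBad s → g ∈ Subgroup.normalizer ((Q : Subgroup G) : Set G) := by
  simp [pivot, Subgroup.mem_iInf]

variable {s : Finset (Subgroup G)}

theorem not_isBad_of_lt (htot : ∀ Q ∈ s, ∀ R ∈ s, Q ≤ R ∨ R ≤ Q) (hb : ∃ R, IsBad s R)
    {R : Subgroup G} (hR : R ∈ s) (hlt : R < firstBad s) {Q : Subgroup G} (hQ : Q ∈ s)
    (hQR : Q ≤ R) : R ≤ Subgroup.normalizer ((Q : Subgroup G) : Set G) := by
  by_contra hno
  exact hlt.not_ge ((firstBad_spec htot hb).2 R ⟨hR, Q, hQ, hQR, hno⟩)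

theorem le_pivot (htot : ∀ Q ∈ s, ∀ R ∈ s, Q ≤ R ∨ R ≤ Q) (hb : ∃ R, IsBad s R)
    {R : Subgroup G} (hR : R ∈ s) (hlt : R < firstBad s) : R ≤ pivot s := by
  refine fun g hg => mem_pivot.mpr ⟨hlt.le hg, fun Q hQ hQlt => ?_⟩
  rcases htot Q hQ R hR with h | h
  · exact not_isBad_of_lt htot hb hR hlt hQ h hg
  · exact Subgroup.le_normalizer (h hg)

theorem exists_lt_firstBad (htot : ∀ Q ∈ s, ∀ R ∈ s, Q ≤ R ∨ R ≤ Q) (hb : ∃ R, IsBad s R) :
    ∃ Q ∈ s, Q < firstBad s ∧
      ¬ firstBad s ≤ Subgroup.normalizer ((Q : Subgroup G) : Set G) := by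
  obtain ⟨-, Q, hQ, hQle, hno⟩ := (firstBad_spec htot hb).1
  refine ⟨Q, hQ, lt_of_le_of_ne hQle fun e => hno ?_, hno⟩
  rw [← e]
  exact Subgroup.le_normalizer

theorem pivot_lt (htot : ∀ Q ∈ s, ∀ R ∈ s, Q ≤ R ∨ R ≤ Q) (hb : ∃ R, IsBad s R) :
    pivot s < firstBad s := by
  refine lt_of_le_of_ne inf_le_left fun e => ?_
  obtain ⟨Q, hQ, hlt, hno⟩ := exists_lt_firstBad htot hb
  exact hno fun g hg => (mem_pivot.mp (e.symm ▸ hg : g ∈ pivot s)).2 Q hQ hlt

theorem mem_normalizer_pivot (htot : ∀ Q ∈ s, ∀ R ∈ s, Q ≤ R ∨ R ≤ Q) (hb : ∃ R, IsBad s R)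
    {g : G} (hg : ∀ Q ∈ s, Q ≤ firstBad s → g ∈ Subgroup.normalizer ((Q : Subgroup G) : Set G)) :
    g ∈ Subgroup.normalizer (pivot s : Set G) := by
  have hJ := hg _ (firstBad_spec htot hb).1.1 le_rfl
  rw [Subgroup.mem_normalizer_iff]
  intro y
  simp only [SetLike.mem_coe, mem_pivot]
  refine and_congr (Subgroup.mem_normalizer_iff.mp hJ y) (forall_congr' fun Q =>
    imp_congr_right fun hQ => imp_congr_right fun hlt => ?_)
  exact Subgroup.mem_normalizer_iff.mp (mem_normalizer_normalizer (hg Q hQ hlt.le)) y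

variable [DecidableEq (Subgroup G)]

/-- Insert or delete the pivot. -/
noncomputable def swap₁ (s : Finset (Subgroup G)) : Finset (Subgroup G) :=
  if pivot s ∈ s then s.erase (pivot s) else insert (pivot s) s

theorem swap₁_spec (hs : IsChainP p s) (hb : ∃ R, IsBad s R) :
    IsChainP p (swap₁ s) ∧ (∃ R, IsBad (swap₁ s) R) ∧ pivot (swap₁ s) = pivot s ∧
      stab (swap₁ s) = stab s := by
  obtain ⟨hne, htot, hp⟩ := hs
  have hJ := (firstBad_spec htot hb).1
  have hlt := pivot_lt htot hb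
  obtain ⟨Q₀, hQ₀, hQ₀lt, hQ₀no⟩ := exists_lt_firstBad htot hb
  have hU1 : pivot s ≠ ⊥ := fun e =>
    (hp Q₀ hQ₀).1 (le_bot_iff.mp (e ▸ le_pivot htot hb hQ₀ hQ₀lt))
  have hJp : IsPGroup p (firstBad s) := (hp _ hJ.1).2
  have hlt_or : ∀ R ∈ s, R < firstBad s ∨ firstBad s ≤ R := fun R hR =>
    (htot R hR _ hJ.1).elim (fun h => (eq_or_lt_of_le h).elim (fun e => Or.inr e.ge) Or.inl) Or.inr
  have hstab : ∀ g, (∀ Q ∈ s, Q ≠ pivot s → g ∈ Subgroup.normalizer ((Q : Subgroup G) : Set G)) →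
      g ∈ Subgroup.normalizer (firstBad s : Set G) := fun g hg => hg _ hJ.1 hlt.ne'
  by_cases hmem : pivot s ∈ s
  · -- deletion
    have hsw : swap₁ s = s.erase (pivot s) := if_pos hmem
    have htot' : ∀ Q ∈ s.erase (pivot s), ∀ R ∈ s.erase (pivot s), Q ≤ R ∨ R ≤ Q :=
      fun Q hQ R hR => htot Q (Finset.mem_of_mem_erase hQ) R (Finset.mem_of_mem_erase hR)
    set V : Subgroup G := firstBad s ⊓
      ⨅ Q ∈ {Q | Q ∈ s ∧ Q < firstBad s ∧ Q ≠ pivot s},
        Subgroup.normalizer ((Q : Subgroup G) : Set G) with hV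
    have hmemV : ∀ g, g ∈ V ↔ g ∈ firstBad s ∧ ∀ Q ∈ s, Q < firstBad s → Q ≠ pivot s →
        g ∈ Subgroup.normalizer ((Q : Subgroup G) : Set G) := fun g => by
      simp [hV, Subgroup.mem_iInf]
    have hVU : V = pivot s := by
      have hle : pivot s ≤ V := fun g hg => (hmemV g).mpr
        ⟨(mem_pivot.mp hg).1, fun Q hQ h _ => (mem_pivot.mp hg).2 Q hQ h⟩
      by_contra hne'
      have hlt' : pivot s < V := lt_of_le_of_ne hle (Ne.symm hne')
      letI := Fintype.ofFinite G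
      letI := Classical.decEq G
      have h1 := CfsgLib.Block.lt_normalizer_inf (hJp.to_le inf_le_left) hlt'
      refine h1.not_ge fun g hg => mem_pivot.mpr ⟨((hmemV g).mp hg.2).1, fun Q hQ hQlt => ?_⟩
      by_cases hQU : Q = pivot s
      · exact hQU ▸ hg.1
      · exact ((hmemV g).mp hg.2).2 Q hQ hQlt hQU
    have hbadJ : IsBad (s.erase (pivot s)) (firstBad s) := by
      refine ⟨Finset.mem_erase.mpr ⟨hlt.ne', hJ.1⟩, ?_⟩
      by_contra hall
      push Not at hall
      exact hlt.not_ge (hVU ▸ fun g hg => (hmemV g).mpr ⟨hg, fun Q hQ h hne' =>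
        hall Q (Finset.mem_erase.mpr ⟨hne', hQ⟩) h.le hg⟩)
    have hJ' : firstBad (s.erase (pivot s)) = firstBad s := by
      refine firstBad_eq htot' hbadJ fun R hR => (firstBad_spec htot hb).2 R ?_
      obtain ⟨hRs, Q, hQ, hQR, hno⟩ := hR
      exact ⟨Finset.mem_of_mem_erase hRs, Q, Finset.mem_of_mem_erase hQ, hQR, hno⟩
    rw [hsw]
    refine ⟨⟨⟨_, hbadJ.1⟩, htot', fun Q hQ => hp Q (Finset.mem_of_mem_erase hQ)⟩, ⟨_, hbadJ⟩, ?_, ?_⟩
    · refine Eq.trans (SetLike.ext fun g => ?_) hVU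
      rw [mem_pivot, hmemV, hJ']
      refine and_congr_right fun _ => forall_congr' fun Q => ?_
      simp only [Finset.mem_erase]
      exact ⟨fun h hQ hlt' hne' => h ⟨hne', hQ⟩ hlt', fun h hQ hlt' => h hQ.2 hlt' hQ.1⟩
    · refine SetLike.ext fun g => ?_
      conv_rhs => rw [← Finset.insert_erase hmem, mem_stab_insert]
      refine ⟨fun h => ⟨?_, h⟩, fun h => h.2⟩
      have hV' : g ∈ Subgroup.normalizer (V : Set G) := by
        rw [Subgroup.mem_normalizer_iff]
        intro y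
        simp only [SetLike.mem_coe, hmemV]
        refine and_congr (Subgroup.mem_normalizer_iff.mp
          (hstab g fun Q hQ hne' => mem_stab.mp h Q (Finset.mem_erase.mpr ⟨hne', hQ⟩)) y)
          (forall_congr' fun Q => imp_congr_right fun hQ => imp_congr_right fun _ =>
            imp_congr_right fun hne' => ?_)
        exact Subgroup.mem_normalizer_iff.mp
          (mem_normalizer_normalizer (mem_stab.mp h Q (Finset.mem_erase.mpr ⟨hne', hQ⟩))) y
      exact hVU ▸ hV'
  · -- insertion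
    have hsw : swap₁ s = insert (pivot s) s := if_neg hmem
    have htot' : ∀ Q ∈ insert (pivot s) s, ∀ R ∈ insert (pivot s) s, Q ≤ R ∨ R ≤ Q := by
      have key : ∀ R ∈ s, R ≤ pivot s ∨ pivot s ≤ R := fun R hR =>
        (hlt_or R hR).imp (le_pivot htot hb hR) hlt.le.trans
      intro Q hQ R hR
      rcases Finset.mem_insert.mp hQ with rfl | hQ' <;> rcases Finset.mem_insert.mp hR with rfl | hR'
      · exact Or.inl le_rfl
      · exact (key R hR').symm
      · exact key Q hQ'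
      · exact htot Q hQ' R hR'
    have hbadJ : IsBad (insert (pivot s) s) (firstBad s) :=
      ⟨Finset.mem_insert_of_mem hJ.1, Q₀, Finset.mem_insert_of_mem hQ₀, hQ₀lt.le, hQ₀no⟩
    have hJ' : firstBad (insert (pivot s) s) = firstBad s := by
      refine firstBad_eq htot' hbadJ fun R hR => ?_
      by_contra hno
      obtain ⟨hRs, Q, hQ, hQR, hQno⟩ := hR
      have hRlt : R < firstBad s := by
        rcases Finset.mem_insert.mp hRs with rfl | hRs'
        · exact hlt
        · exact (hlt_or R hRs').resolve_right hno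
      apply hQno
      rcases Finset.mem_insert.mp hQ with rfl | hQ'
      · rcases Finset.mem_insert.mp hRs with rfl | hRs'
        · exact Subgroup.le_normalizer
        · exact (le_pivot htot hb hRs' hRlt).trans Subgroup.le_normalizer
      · rcases Finset.mem_insert.mp hRs with rfl | hRs'
        · exact fun g hg => (mem_pivot.mp hg).2 Q hQ' (lt_of_le_of_lt hQR hlt)
        · exact not_isBad_of_lt htot hb hRs' hRlt hQ' hQR
    rw [hsw]
    refine ⟨⟨Finset.insert_nonempty _ _, htot', fun Q hQ => ?_⟩, ⟨_, hbadJ⟩, SetLike.ext fun g => ?_,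
      SetLike.ext fun g => ?_⟩
    · rcases Finset.mem_insert.mp hQ with rfl | hQ'
      · exact ⟨hU1, hJp.to_le inf_le_left⟩
      · exact hp Q hQ'
    · rw [mem_pivot, hJ']
      constructor
      · exact fun h => mem_pivot.mpr ⟨h.1, fun Q hQ => h.2 Q (Finset.mem_insert_of_mem hQ)⟩
      · intro h
        refine ⟨(mem_pivot.mp h).1, fun Q hQ hQlt => ?_⟩
        rcases Finset.mem_insert.mp hQ with rfl | hQ'
        · exact Subgroup.le_normalizer h
        · exact (mem_pivot.mp h).2 Q hQ' hQlt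
    · rw [mem_stab_insert]
      exact ⟨fun h => h.2, fun h => ⟨mem_normalizer_pivot htot hb fun Q hQ _ => mem_stab.mp h Q hQ, h⟩⟩

end nonnormal

variable [Fintype (Finset (Subgroup G))] [DecidablePred fun s : Finset (Subgroup G) => IsChainP p s]

theorem sum_normal_eq (f : Subgroup G → ℤ)
    [DecidablePred fun s : Finset (Subgroup G) => IsNormalChain p s] :
    ∑ s ∈ Finset.univ.filter (fun s : Finset (Subgroup G) => IsNormalChain p s),
        (-1 : ℤ) ^ (s.card - 1) * f (stab s) =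
      ∑ s ∈ Finset.univ.filter (fun s : Finset (Subgroup G) => IsChainP p s),
        (-1 : ℤ) ^ (s.card - 1) * f (stab s) := by
  classical
  have hiff : ∀ s : Finset (Subgroup G), IsNormalChain p s ↔ IsChainP p s ∧ ¬ ∃ R, IsBad s R := by
    intro s
    constructor
    · rintro ⟨h1, h2, h3, T, hT, hTn⟩
      refine ⟨⟨h1, h2, h3⟩, ?_⟩
      rintro ⟨R, hR, Q, hQ, -, hno⟩
      exact hno ((hTn R hR).1.trans (hTn Q hQ).2)
    · rintro ⟨⟨h1, h2, h3⟩, hno⟩
      obtain ⟨T, hT, hTm⟩ := exists_all_le_of_total h1 h2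
      refine ⟨h1, h2, h3, T, hT, fun Q hQ => ⟨hTm Q hQ, ?_⟩⟩
      by_contra h
      exact hno ⟨T, hT, Q, hQ, hTm Q hQ, h⟩
  rw [← Finset.sum_filter_add_sum_filter_not (Finset.univ.filter fun s => IsChainP p s)
    (fun s => ¬ ∃ R, IsBad s R), ← add_zero (∑ s ∈ Finset.univ.filter _, _)]
  congr 1
  · refine Finset.sum_congr (Finset.ext fun s => ?_) fun _ _ => rfl
    simp only [Finset.mem_filter, Finset.mem_univ, true_and, hiff]
  · refine (Finset.sum_involution (fun s _ => swap₁ s) (fun s hs => ?_) (fun s _ _ => toggle_ne s _)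
      (fun s hs => ?_) (fun s hs => ?_)).symm
    · simp only [Finset.mem_filter, Finset.mem_univ, true_and, not_not] at hs
      obtain ⟨hc, -, -, hst⟩ := swap₁_spec hs.1 hs.2
      rw [hst]
      exact sgn_add_toggle s _ hc.1 hs.1.1 _
    · simp only [Finset.mem_filter, Finset.mem_univ, true_and, not_not] at hs ⊢
      exact ⟨(swap₁_spec hs.1 hs.2).1, (swap₁_spec hs.1 hs.2).2.1⟩
    · simp only [Finset.mem_filter, Finset.mem_univ, true_and, not_not] at hs
      exact toggle_toggle (swap₁_spec hs.1 hs.2).2.2.1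

/-! ### Chains stabilized by a `p`-element -/

section fixed

variable [DecidableEq (Subgroup G)]

/-- The join of `x` with the members not containing it. -/
noncomputable def joinPt (x : G) (s : Finset (Subgroup G)) : Subgroup G :=
  (⨆ Q ∈ {Q | Q ∈ s ∧ x ∉ Q}, Q) ⊔ Subgroup.zpowers x

/-- Insert or delete the join. -/
noncomputable def swap₂ (x : G) (s : Finset (Subgroup G)) : Finset (Subgroup G) :=
  if joinPt x s ∈ s then s.erase (joinPt x s) else insert (joinPt x s) s

theorem joinPt_eq {x : G} {s : Finset (Subgroup G)} (htot : ∀ Q ∈ s, ∀ R ∈ s, Q ≤ R ∨ R ≤ Q) :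
    joinPt x s = Subgroup.zpowers x ∨
      ∃ P ∈ s, x ∉ P ∧ joinPt x s = P ⊔ Subgroup.zpowers x := by
  classical
  by_cases hne : (s.filter fun Q => x ∉ Q).Nonempty
  · obtain ⟨P, hP, hle⟩ := exists_all_le_of_total hne fun Q hQ R hR =>
      htot Q (Finset.mem_filter.mp hQ).1 R (Finset.mem_filter.mp hR).1
    refine Or.inr ⟨P, (Finset.mem_filter.mp hP).1, (Finset.mem_filter.mp hP).2, ?_⟩
    rw [joinPt]
    congr 1
    exact le_antisymm (iSup₂_le fun Q hQ => hle Q (Finset.mem_filter.mpr hQ))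
      (le_iSup₂ (f := fun Q (_ : Q ∈ {Q | Q ∈ s ∧ x ∉ Q}) => Q) P (Finset.mem_filter.mp hP))
  · refine Or.inl ?_
    rw [joinPt, show (⨆ Q ∈ {Q | Q ∈ s ∧ x ∉ Q}, Q) = ⊥ from
      le_bot_iff.mp (iSup₂_le fun Q hQ => absurd ⟨Q, Finset.mem_filter.mpr hQ⟩ hne), bot_sup_eq]

theorem swap₂_spec {x : G} (hxp : IsPGroup p (Subgroup.zpowers x)) (hx1 : x ≠ 1)
    {s : Finset (Subgroup G)} (hs : IsChainP p s) (hxs : x ∈ stab s)
    (hsZ : s ≠ {Subgroup.zpowers x}) :
    IsChainP p (swap₂ x s) ∧ x ∈ stab (swap₂ x s) ∧ swap₂ x s ≠ {Subgroup.zpowers x} ∧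
      joinPt x (swap₂ x s) = joinPt x s ∧
      Subgroup.centralizer ({x} : Set G) ⊓ stab (swap₂ x s) =
        Subgroup.centralizer ({x} : Set G) ⊓ stab s := by
  classical
  obtain ⟨hne, htot, hp⟩ := hs
  have hxV : x ∈ joinPt x s :=
    (le_sup_right : Subgroup.zpowers x ≤ joinPt x s) (Subgroup.mem_zpowers x)
  have hnorm : ∀ g, g ∈ Subgroup.centralizer ({x} : Set G) →
      (∀ Q ∈ s, x ∉ Q → g ∈ Subgroup.normalizer ((Q : Subgroup G) : Set G)) →
      g ∈ Subgroup.normalizer (joinPt x s : Set G) := by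
    intro g hgc hg
    have hZ : g ∈ Subgroup.normalizer ((Subgroup.zpowers x : Subgroup G) : Set G) := by
      rw [Subgroup.mem_normalizer_iff_map_conj_eq, MonoidHom.map_zpowers]
      congr 1
      have h := Subgroup.mem_centralizer_singleton_iff.mp hgc
      simp [h]
    rcases joinPt_eq (x := x) htot with e | ⟨P, hP, hxP, e⟩
    · rwa [e]
    · rw [e]
      exact mem_normalizer_sup (hg P hP hxP) hZ
  have hxN : x ∈ Subgroup.normalizer (joinPt x s : Set G) :=
    Subgroup.le_normalizer hxV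
  have hle : ∀ R ∈ s, R ≤ joinPt x s ∨ joinPt x s ≤ R := by
    intro R hR
    by_cases hxR : x ∈ R
    · refine Or.inr (sup_le (iSup₂_le fun Q hQ => ?_) (Subgroup.zpowers_le.mpr hxR))
      exact (htot Q hQ.1 R hR).elim id fun h => absurd (h hxR) hQ.2
    · exact Or.inl (le_sup_of_le_left
        (le_iSup₂ (f := fun Q (_ : Q ∈ {Q | Q ∈ s ∧ x ∉ Q}) => Q) R ⟨hR, hxR⟩))
  have hVp : joinPt x s ≠ ⊥ ∧ IsPGroup p (joinPt x s) := by
    refine ⟨fun e => hx1 (Subgroup.mem_bot.mp (e ▸ hxV)), ?_⟩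
    rcases joinPt_eq (x := x) htot with e | ⟨P, hP, -, e⟩
    · rw [e]; exact hxp
    · rw [e]
      exact IsPGroup.to_sup_of_normal_left' (hp P hP).2 hxp
        (Subgroup.zpowers_le.mpr (mem_stab.mp hxs P hP))
  have hjoin : joinPt x (swap₂ x s) = joinPt x s := by
    have hset : {Q | Q ∈ swap₂ x s ∧ x ∉ Q} = {Q | Q ∈ s ∧ x ∉ Q} := by
      ext Q
      simp only [swap₂, Set.mem_setOf_eq]
      split_ifs with h
      · exact ⟨fun hQ => ⟨Finset.mem_of_mem_erase hQ.1, hQ.2⟩,
          fun hQ => ⟨Finset.mem_erase.mpr ⟨fun e => hQ.2 (e ▸ hxV), hQ.1⟩, hQ.2⟩⟩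
      · exact ⟨fun hQ => ⟨(Finset.mem_insert.mp hQ.1).resolve_left fun e => hQ.2 (e ▸ hxV), hQ.2⟩,
          fun hQ => ⟨Finset.mem_insert_of_mem hQ.1, hQ.2⟩⟩
    rw [joinPt, hset, joinPt]
  by_cases hmem : joinPt x s ∈ s
  · have hsw : swap₂ x s = s.erase (joinPt x s) := if_pos hmem
    rw [hsw] at hjoin ⊢
    refine ⟨⟨?_, fun Q hQ R hR => htot Q (Finset.mem_of_mem_erase hQ) R (Finset.mem_of_mem_erase hR),
      fun Q hQ => hp Q (Finset.mem_of_mem_erase hQ)⟩,
      mem_stab.mpr fun Q hQ => mem_stab.mp hxs Q (Finset.mem_of_mem_erase hQ), fun e => ?_, hjoin,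
      SetLike.ext fun g => ?_⟩
    · by_contra hne'
      rw [Finset.not_nonempty_iff_eq_empty] at hne'
      refine hsZ ?_
      rw [hne'] at hjoin
      rw [← Finset.insert_erase hmem, hne', ← hjoin]
      simp [joinPt]
    · have hV : joinPt x s = Subgroup.zpowers x := by
        rw [← hjoin, e]
        simp [joinPt]
      exact Finset.notMem_erase (joinPt x s) s (by rw [e, Finset.mem_singleton, hV])
    · simp only [Subgroup.mem_inf]
      conv_rhs => rw [← Finset.insert_erase hmem, mem_stab_insert]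
      exact ⟨fun h => ⟨h.1, hnorm g h.1 fun Q hQ hxQ => mem_stab.mp h.2 Q
        (Finset.mem_erase.mpr ⟨fun e => hxQ (e ▸ hxV), hQ⟩), h.2⟩, fun h => ⟨h.1, h.2.2⟩⟩
  · have hsw : swap₂ x s = insert (joinPt x s) s := if_neg hmem
    rw [hsw] at hjoin ⊢
    refine ⟨⟨Finset.insert_nonempty _ _, ?_, ?_⟩, mem_stab_insert.mpr ⟨hxN, hxs⟩, fun e => ?_, hjoin,
      SetLike.ext fun g => ?_⟩
    · intro Q hQ R hR
      rcases Finset.mem_insert.mp hQ with rfl | hQ' <;> rcases Finset.mem_insert.mp hR with rfl | hR'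
      · exact Or.inl le_rfl
      · exact (hle R hR').symm
      · exact hle Q hQ'
      · exact htot Q hQ' R hR'
    · intro Q hQ
      rcases Finset.mem_insert.mp hQ with rfl | hQ'
      · exact hVp
      · exact hp Q hQ'
    · obtain ⟨R, hR⟩ := hne
      have h1 : R = Subgroup.zpowers x :=
        Finset.mem_singleton.mp (e ▸ Finset.mem_insert_of_mem hR)
      have h2 : joinPt x s = Subgroup.zpowers x :=
        Finset.mem_singleton.mp (e ▸ Finset.mem_insert_self _ _)
      exact hmem (h2.trans h1.symm ▸ hR)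
    · simp only [Subgroup.mem_inf, mem_stab_insert]
      exact ⟨fun h => ⟨h.1, h.2.2⟩,
        fun h => ⟨h.1, hnorm g h.1 fun Q hQ _ => mem_stab.mp h.2 Q hQ, h.2⟩⟩

theorem sum_fixed_eq {x : G} (hxp : ∃ k : ℕ, orderOf x = p ^ k) (hx1 : x ≠ 1) (f : Subgroup G → ℤ)
    [DecidablePred fun s : Finset (Subgroup G) => x ∈ stab s] :
    ∑ s ∈ (Finset.univ.filter (fun s : Finset (Subgroup G) => IsChainP p s)).filter
        (fun s => x ∈ stab s),
        (-1 : ℤ) ^ (s.card - 1) * f (Subgroup.centralizer ({x} : Set G) ⊓ stab s) =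
      f (Subgroup.centralizer ({x} : Set G)) := by
  classical
  obtain ⟨k, hk⟩ := hxp
  have hZ : IsPGroup p (Subgroup.zpowers x) := IsPGroup.of_card (n := k) (by rw [Nat.card_zpowers, hk])
  have hZ0 : IsChainP p ({Subgroup.zpowers x} : Finset (Subgroup G)) :=
    ⟨Finset.singleton_nonempty _, fun Q hQ R hR => by simp_all, fun Q hQ => by
      rw [Finset.mem_singleton.mp hQ]
      exact ⟨fun e => hx1 (Subgroup.mem_bot.mp (e ▸ Subgroup.mem_zpowers x)), hZ⟩⟩
  have hcx : Subgroup.centralizer ({x} : Set G) ≤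
      Subgroup.normalizer ((Subgroup.zpowers x : Subgroup G) : Set G) := fun g hg => by
    rw [Subgroup.mem_normalizer_iff_map_conj_eq, MonoidHom.map_zpowers]
    congr 1
    have h := Subgroup.mem_centralizer_singleton_iff.mp hg
    simp [h]
  have hst : stab ({Subgroup.zpowers x} : Finset (Subgroup G)) =
      Subgroup.normalizer ((Subgroup.zpowers x : Subgroup G) : Set G) :=
    SetLike.ext fun g => by simp [mem_stab]
  rw [← Finset.add_sum_erase _ _ (a := ({Subgroup.zpowers x} : Finset (Subgroup G)))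
    (Finset.mem_filter.mpr
      ⟨Finset.mem_filter.mpr ⟨Finset.mem_univ _, hZ0⟩, hst ▸ Subgroup.le_normalizer (Subgroup.mem_zpowers x)⟩)]
  rw [hst, inf_eq_left.mpr hcx, Finset.card_singleton, pow_zero, one_mul, add_eq_left]
  refine Finset.sum_involution (fun s _ => swap₂ x s) (fun s hs => ?_) (fun s _ _ => toggle_ne s _)
    (fun s hs => ?_) (fun s hs => ?_)
  all_goals simp only [Finset.mem_erase, Finset.mem_filter, Finset.mem_univ, true_and] at hs ⊢
  all_goals obtain ⟨h1, h2, h3, h4, h5⟩ := swap₂_spec hZ hx1 hs.2.1 hs.2.2 hs.1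
  · rw [h5]
    exact sgn_add_toggle s _ h1.1 hs.2.1.1 _
  · exact ⟨h3, h1, h2⟩
  · exact toggle_toggle h4

end fixed

end CfsgLib.PGroup.NormalChains
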