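import Cfsg.Agent.Lib.Coprime.Subnormal

/-!
# A generalized zipper lemma

If `A` has normal closure `G` and the join of the proper subgroups generated by their own
conjugates of `A` is proper, then `A` lies in a unique maximal subgroup.
-/

set_option autoImplicit false
set_option linter.unusedSectionVars false
set_option linter.style.haveILetI false

namespace CfsgLib.NCMax

open Subgroup CfsgLib.Coprime

universe u

variable {G : Type u} [Group G] [Finite G]

/-- `H` is generated by its conjugates of `A`. -/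
def Gen (A H : Subgroup G) : Prop :=
  normalClosure ((A.subgroupOf H : Subgroup ↥H) : Set ↥H) = ⊤

/-- The join of the proper subgroups containing `A` generated by their conjugates of `A`. -/
def genJoin (A : Subgroup G) : Subgroup G := sSup {H | A ≤ H ∧ H ≠ ⊤ ∧ Gen A H}

/-- `A ≤ X` and `A` is not subnormal in `X`. -/
def Spec (A X : Subgroup G) : Prop :=
  IsCoatom X ∧ A ≤ X ∧ ¬ (A.subgroupOf X).IsSubnormal

theorem gen_trans {A B H : Subgroup G} (hBH : B ≤ H) (h₁ : Gen A B)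
    (h₂ : Gen B H) : Gen A H := by
  refine eq_top_iff.2 (h₂.ge.trans (normalClosure_le_normal ?_))
  intro x hx
  set N := normalClosure ((A.subgroupOf H : Subgroup H) : Set H) with hN
  haveI : (N.comap (inclusion hBH)).Normal := normalClosure_normal.comap _
  have : (⊤ : Subgroup B) ≤ N.comap (inclusion hBH) := h₁.ge.trans (normalClosure_le_normal
    fun y hy => subset_normalClosure (show inclusion hBH y ∈ A.subgroupOf H from hy))
  exact this (mem_top (⟨(x : G), hx⟩ : B))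

theorem sub_restrict {A W X : Subgroup G} (hWX : W ≤ X) (h : (A.subgroupOf X).IsSubnormal) :
    (A.subgroupOf W).IsSubnormal :=
  h.comap (inclusion hWX)

theorem exists_terminal (A L : Subgroup G) (hAL : A ≤ L) :
    ∃ H : Subgroup G, A ≤ H ∧ H ≤ L ∧ Gen A H ∧ (H.subgroupOf L).IsSubnormal := by
  induction hk : Nat.card L using Nat.strongRecOn generalizing L with
  | ind k ih =>
    subst hk
    set N := normalClosure ((A.subgroupOf L : Subgroup L) : Set L) with hN
    by_cases h : N = ⊤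
    · exact ⟨L, hAL, le_rfl, h, by rw [subgroupOf_self]; exact IsSubnormal.top⟩
    set N' := N.map L.subtype with hN'
    have hN'L : N' ≤ L := map_subtype_le _
    have hAN' : A ≤ N' := fun a ha =>
      ⟨⟨a, hAL ha⟩, subset_normalClosure (mem_subgroupOf.2 ha), rfl⟩
    have hlt : Nat.card N' < Nat.card L := by
      rw [hN', card_map_of_injective L.subtype_injective]
      have := card_lt_of_lt (lt_top_iff_ne_top.2 h)
      rwa [card_top] at this
    obtain ⟨H, hAH, hHN, hgen, hsn⟩ := ih _ hlt N' hAN' rfl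
    refine ⟨H, hAH, hHN.trans hN'L, hgen, ?_⟩
    have hNn : (N'.subgroupOf L).IsSubnormal := by
      have : N'.subgroupOf L = N := comap_map_eq_self_of_injective L.subtype_injective N
      rw [this]; exact Normal.isSubnormal normalClosure_normal
    refine IsSubnormal.trans (comap_mono hHN) ?_ hNn
    exact hsn.comap (subgroupOfEquivOfLe hN'L).toMonoidHom

theorem eq_of_gen_subnormal {A H : Subgroup G} (hAH : A ≤ H) (h : Gen A H)
    (hs : (A.subgroupOf H).IsSubnormal) : A = H := by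
  by_contra hne
  have hne' : A.subgroupOf H ≠ ⊤ := fun e => hne (le_antisymm hAH (subgroupOf_eq_top.1 e))
  obtain ⟨N, hN, hle, hlt⟩ := hs.exists_normal_and_le_and_lt_top_of_ne hne'
  haveI := hN
  exact hlt.ne (top_le_iff.1 (h.ge.trans (normalClosure_le_normal hle)))

theorem spec_conjBy {A X : Subgroup G} (h : Spec A X) (g : G) :
    Spec (conjBy g A) (conjBy g X) := by
  refine ⟨?_, map_mono h.2.1, fun hs => h.2.2 ?_⟩
  · exact (OrderIso.isCoatom_iff (MulEquiv.mapSubgroup (MulAut.conj g)) X).2 h.1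
  have := isSubnormal_subgroupOf_conjBy (map_mono h.2.1) hs g⁻¹
  rwa [conjBy_conjBy, conjBy_conjBy, inv_mul_cancel, conjBy_one, conjBy_one] at this

theorem normalizer_coatom_of_nc {A M : Subgroup G} (hA : normalClosure (A : Set G) = ⊤)
    (hM : IsCoatom M) (hAM : A ≤ M) : normalizer (M : Set G) = M := by
  rcases hM.le_iff.1 (le_normalizer (H := M)) with h | h
  · haveI := normalizer_eq_top_iff.1 h
    exact absurd (top_le_iff.1 (hA.ge.trans (normalClosure_le_normal hAM))) hM.1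
  · exact h

theorem exists_coatom (X : Subgroup G) (hX : X ≠ ⊤) : ∃ M : Subgroup G, IsCoatom M ∧ X ≤ M :=
  (eq_top_or_exists_le_coatom X).resolve_left hX

theorem eq_of_coatoms : ∀ (A : Subgroup G), normalClosure (A : Set G) = ⊤ → genJoin A ≠ ⊤ →
    ∀ X X' : Subgroup G, IsCoatom X → IsCoatom X' → A ≤ X → A ≤ X' → X = X' := by
  intro A
  induction hk : Nat.card G - Nat.card A using Nat.strongRecOn generalizing A with
  | ind k ih =>
    subst hk
    intro hA hY X₁ X₂ hX₁ hX₂ hA₁ hA₂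
    by_contra hne12
    have hrec : ∀ B : Subgroup G, Nat.card A < Nat.card B → normalClosure (B : Set G) = ⊤ →
        genJoin B ≠ ⊤ → ∀ X X' : Subgroup G, IsCoatom X → IsCoatom X' → B ≤ X → B ≤ X' → X = X' := by
      intro B hB
      have hle : Nat.card B ≤ Nat.card G := Nat.le_of_dvd Nat.card_pos (card_subgroup_dvd_card B)
      exact ih _ (by omega) B rfl
    -- uniqueness of the exceptional maximal subgroup
    have hspA : ∀ X X' : Subgroup G, Spec A X → Spec A X' → X = X' := by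
      obtain ⟨M, hM, hYM⟩ := exists_coatom _ hY
      suffices key : ∀ X, Spec A X → X = M from fun X X' h h' => (key X h).trans (key X' h').symm
      intro X hX
      obtain ⟨H, hAH, hHX, hgen, hsn⟩ := exists_terminal A X hX.2.1
      have hlt : A < H := lt_of_le_of_ne hAH fun e => hX.2.2 (e ▸ hsn)
      have hHne : H ≠ ⊤ := fun e => hX.1.1 (top_le_iff.1 (e ▸ hHX))
      have hHY : genJoin H ≠ ⊤ := fun e => hY (top_le_iff.1 (e ▸ sSup_le_sSup
        (fun K hK => ⟨hAH.trans hK.1, hK.2.1, gen_trans hK.1 hgen hK.2.2⟩)))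
      exact hrec H (card_lt_of_lt hlt)
        (top_le_iff.1 (hA.ge.trans (normalClosure_mono hAH))) hHY X M hX.1 hM hHX
        ((le_sSup (show H ∈ {H | A ≤ H ∧ H ≠ ⊤ ∧ Gen A H} from ⟨hAH, hHne, hgen⟩)).trans hYM)
    set 𝒞 : Set (Subgroup G) := Set.range fun g : G => conjBy g A with h𝒞
    have hconj : ∀ C ∈ 𝒞, ∀ g : G, conjBy g C ∈ 𝒞 := by
      rintro C ⟨a, rfl⟩ g
      exact ⟨g * a, (conjBy_conjBy _ _ _).symm⟩
    have hspec : ∀ C ∈ 𝒞, ∀ X X' : Subgroup G, Spec C X → Spec C X' → X = X' := by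
      rintro C ⟨a, rfl⟩ X X' h h'
      have h1 := spec_conjBy h a⁻¹
      have h2 := spec_conjBy h' a⁻¹
      simp only [conjBy_conjBy, inv_mul_cancel, conjBy_one] at h1 h2
      have := congrArg (conjBy a) (hspA _ _ h1 h2)
      simpa only [conjBy_conjBy, mul_inv_cancel, conjBy_one] using this
    have hcard : ∀ C ∈ 𝒞, Nat.card C = Nat.card A := by
      rintro C ⟨a, rfl⟩
      exact card_conjBy _ _
    have hnc : ∀ C ∈ 𝒞, normalClosure (C : Set G) = ⊤ := by
      rintro C ⟨a, rfl⟩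
      refine top_le_iff.1 (hA.ge.trans (normalClosure_le_normal fun x hx => ?_))
      have := normalClosure_normal.conj_mem _ (subset_normalClosure (conj_mem_conjBy (g := a) hx)) a⁻¹
      simpa [mul_assoc] using this
    -- two distinct conjugates in two maximal subgroups
    have keyU : ∀ C ∈ 𝒞, ∀ D ∈ 𝒞, C ≠ D → ∀ X X' : Subgroup G, IsCoatom X → IsCoatom X' → X ≠ X' →
        C ≤ X → C ≤ X' → D ≤ X → D ≤ X' → ∀ Z₀ : Subgroup G, IsCoatom Z₀ → C ≤ Z₀ → D ≤ Z₀ →
        ∃ Z : Subgroup G, Z ≠ Z₀ ∧ C ≤ Z ∧ D ≤ Z ∧ (Spec C Z ∨ Spec D Z) := by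
      intro C hC D hD hCD X X' hX hX' hXX' hCX hCX' hDX hDX' Z₀ hZ₀ hCZ₀ hDZ₀
      by_contra! hno
      set U := C ⊔ D with hU
      have hltU : C < U := lt_of_le_of_ne le_sup_left fun e => hCD
        (eq_of_le_of_card_ge (le_sup_right.trans e.ge) (by rw [hcard C hC, hcard D hD])).symm
      have hgU : genJoin U ≠ ⊤ := by
        refine fun e => hZ₀.1 (top_le_iff.1 (e ▸ sSup_le fun H hH => ?_))
        obtain ⟨hUH, hHne, hgen⟩ := hH
        obtain ⟨Z, hZ, hHZ⟩ := exists_coatom H hHne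
        by_cases hZZ : Z = Z₀
        · exact hHZ.trans hZZ.le
        have hCZ : C ≤ Z := (le_sup_left.trans hUH).trans hHZ
        have hDZ : D ≤ Z := (le_sup_right.trans hUH).trans hHZ
        obtain ⟨n1, n2⟩ := hno Z hZZ hCZ hDZ
        have s1 : (C.subgroupOf Z).IsSubnormal := by
          by_contra h; exact n1 ⟨hZ, hCZ, h⟩
        have s2 : (D.subgroupOf Z).IsSubnormal := by
          by_contra h; exact n2 ⟨hZ, hDZ, h⟩
        have s3 : (U.subgroupOf Z).IsSubnormal := by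
          rw [hU, subgroupOf_sup hCZ hDZ]; exact isSubnormal_sup s1 s2
        rw [← eq_of_gen_subnormal hUH hgen (sub_restrict hHZ s3)]
        exact sup_le hCZ₀ hDZ₀
      exact hXX' (hrec U ((hcard C hC).symm.trans_lt (card_lt_of_lt hltU))
        (top_le_iff.1 ((hnc C hC).ge.trans (normalClosure_mono (SetLike.coe_subset_coe.2 le_sup_left))))
        hgU X X' hX hX' (sup_le hCX hDX) (sup_le hCX' hDX'))
    -- each of them has an exceptional maximal subgroup containing the other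
    have key : ∀ C ∈ 𝒞, ∀ D ∈ 𝒞, C ≠ D → ∀ X X' : Subgroup G, IsCoatom X → IsCoatom X' → X ≠ X' →
        C ≤ X → C ≤ X' → D ≤ X → D ≤ X' → ∃ Z : Subgroup G, Spec C Z ∧ D ≤ Z := by
      intro C hC D hD hCD X X' hX hX' hXX' hCX hCX' hDX hDX'
      by_contra hno
      push Not at hno
      by_cases hs : ∃ Z₀, Spec D Z₀ ∧ C ≤ Z₀
      · obtain ⟨Z₀, hsp, hCZ₀⟩ := hs
        obtain ⟨Z, hne, hCZ, hDZ, h | h⟩ :=
          keyU C hC D hD hCD X X' hX hX' hXX' hCX hCX' hDX hDX' Z₀ hsp.1 hCZ₀ hsp.2.1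
        · exact hno Z h hDZ
        · exact hne (hspec D hD Z Z₀ h hsp)
      · obtain ⟨Z, -, hCZ, hDZ, h | h⟩ :=
          keyU C hC D hD hCD X X' hX hX' hXX' hCX hCX' hDX hDX' X hX hCX hDX
        · exact hno Z h hDZ
        · exact hs ⟨Z, h, hCZ⟩
    have hinj : ∀ C ∈ 𝒞, ∀ D ∈ 𝒞, ∀ M Z : Subgroup G, Spec C M → Spec D M → IsCoatom Z → Z ≠ M →
        C ≤ Z → D ≤ Z → C = D := by
      intro C hC D hD M Z hCM hDM hZ hZM hCZ hDZ
      by_contra hCD
      obtain ⟨Z', hne, -, -, h | h⟩ :=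
        keyU C hC D hD hCD Z M hZ hCM.1 hZM hCZ hCM.2.1 hDZ hDM.2.1 M hCM.1 hCM.2.1 hDM.2.1
      · exact hne (hspec C hC _ _ h hCM)
      · exact hne (hspec D hD _ _ h hDM)
    -- some pair of maximal subgroups shares two conjugates
    have hAnn : ¬ A.Normal := fun h => hX₁.1 (top_le_iff.1
      (hA.ge.trans ((normalClosure_le_normal (N := A) subset_rfl).trans hA₁)))
    obtain ⟨R, hR, hNR⟩ := exists_coatom (normalizer (A : Set G)) (mt normalizer_eq_top_iff.1 hAnn)
    have htwo : ∃ R X : Subgroup G, IsCoatom R ∧ IsCoatom X ∧ R ≠ X ∧ normalizer (A : Set G) ≤ R ∧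
        A ≤ X ∧ (A.subgroupOf X).IsSubnormal := by
      by_cases hs : ∃ M, Spec A M
      · obtain ⟨M, hM⟩ := hs
        have hNM : normalizer (A : Set G) ≤ M := fun n hn => by
          have h := spec_conjBy hM n
          rw [conjBy_eq_self_iff.2 hn] at h
          rw [← normalizer_coatom_of_nc hA hM.1 hM.2.1]
          exact conjBy_eq_self_iff.1 (hspA _ _ h hM)
        obtain ⟨X, hX, hAX, hXM⟩ : ∃ X, IsCoatom X ∧ A ≤ X ∧ X ≠ M := by
          by_cases e : X₁ = M
          · exact ⟨X₂, hX₂, hA₂, fun e2 => hne12 (e.trans e2.symm)⟩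
          · exact ⟨X₁, hX₁, hA₁, e⟩
        refine ⟨M, X, hM.1, hX, hXM.symm, hNM, hAX, ?_⟩
        by_contra h
        exact hXM (hspA X M ⟨hX, hAX, h⟩ hM)
      · push Not at hs
        obtain ⟨X, hX, hAX, hXR⟩ : ∃ X, IsCoatom X ∧ A ≤ X ∧ X ≠ R := by
          by_cases e : X₁ = R
          · exact ⟨X₂, hX₂, hA₂, fun e2 => hne12 (e.trans e2.symm)⟩
          · exact ⟨X₁, hX₁, hA₁, e⟩
        refine ⟨R, X, hR, hX, hXR.symm, hNR, hAX, ?_⟩
        by_contra h
        exact hs X ⟨hX, hAX, h⟩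
    obtain ⟨R', X', hR', hX', hRX, hNR', hAX', hsnX'⟩ := htwo
    obtain ⟨x, hxne, hxle⟩ := exists_conjBy_le_normalizer hsnX' fun h => hRX
      ((hX'.le_iff.1 (((normal_subgroupOf_iff_le_normalizer hAX').1 h).trans hNR')).resolve_left hR'.1)
    have hxA : conjBy (x : G) A = (conjBy x (A.subgroupOf X')).map X'.subtype := by
      rw [conjBy_map, map_subgroupOf_eq_of_le hAX']; rfl
    have hxne' : conjBy (x : G) A ≠ A := fun e => hxne (map_injective X'.subtype_injective
      (by rw [← hxA, map_subgroupOf_eq_of_le hAX', e]))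
    have hxN : conjBy (x : G) A ≤ normalizer (A : Set G) := by
      rw [hxA]
      rintro _ ⟨y, hy, rfl⟩
      rw [← conjBy_eq_self_iff]
      have h2 := congrArg (Subgroup.map X'.subtype) (conjBy_eq_self_iff.2 (hxle hy))
      rwa [conjBy_map, map_subgroupOf_eq_of_le hAX'] at h2
    -- the maximal pair
    set Sh : Subgroup G × Subgroup G → Set (Subgroup G) :=
      fun q => {C | C ∈ 𝒞 ∧ C ≤ q.1 ∧ C ≤ q.2} with hSh
    set Pairs : Set (Subgroup G × Subgroup G) :=
      {q | IsCoatom q.1 ∧ IsCoatom q.2 ∧ q.1 ≠ q.2} with hPairs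
    obtain ⟨q, hq, hmax⟩ := Pairs.toFinite.exists_maximalFor (fun q => (Sh q).ncard) Pairs
      ⟨(R', X'), hR', hX', hRX⟩
    have hmax' : ∀ r ∈ Pairs, (Sh r).ncard ≤ (Sh q).ncard := fun r hr =>
      (le_total (Sh r).ncard (Sh q).ncard).elim id (hmax hr)
    have htwoq : 1 < (Sh q).ncard := by
      refine lt_of_lt_of_le ?_ (hmax' (R', X') ⟨hR', hX', hRX⟩)
      rw [Set.one_lt_ncard (Set.toFinite _)]
      exact ⟨A, ⟨⟨1, conjBy_one A⟩, le_normalizer.trans hNR', hAX'⟩,
        conjBy (x : G) A, ⟨⟨x, rfl⟩, hxN.trans hNR', hxA.trans_le (map_subtype_le _)⟩, hxne'.symm⟩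
    obtain ⟨C, hC, D, hD, hCD⟩ := (Set.one_lt_ncard (Set.toFinite _)).1 htwoq
    obtain ⟨M, hM, -⟩ := key C hC.1 D hD.1 hCD q.1 q.2 hq.1 hq.2.1 hq.2.2 hC.2.1 hC.2.2 hD.2.1 hD.2.2
    obtain ⟨N, hN, -⟩ := key D hD.1 C hC.1 hCD.symm q.1 q.2 hq.1 hq.2.1 hq.2.2 hD.2.1 hD.2.2 hC.2.1 hC.2.2
    have hSM : ∀ E ∈ Sh q, E ≤ M := by
      intro E hE
      by_cases e : C = E
      · exact e ▸ hM.2.1
      obtain ⟨Z, hZ, hEZ⟩ := key C hC.1 E hE.1 e q.1 q.2 hq.1 hq.2.1 hq.2.2 hC.2.1 hC.2.2 hE.2.1 hE.2.2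
      exact hspec C hC.1 Z M hZ hM ▸ hEZ
    have hSN : ∀ E ∈ Sh q, E ≤ N := by
      intro E hE
      by_cases e : D = E
      · exact e ▸ hN.2.1
      obtain ⟨Z, hZ, hEZ⟩ := key D hD.1 E hE.1 e q.1 q.2 hq.1 hq.2.1 hq.2.2 hD.2.1 hD.2.2 hE.2.1 hE.2.2
      exact hspec D hD.1 Z N hZ hN ▸ hEZ
    have hMN : M ≠ N := by
      rintro rfl
      by_cases e : q.1 = M
      · exact hCD (hinj C hC.1 D hD.1 M q.2 hM hN hq.2.1 (fun e2 => hq.2.2 (e.trans e2.symm)) hC.2.2 hD.2.2)
      · exact hCD (hinj C hC.1 D hD.1 M q.1 hM hN hq.1 e hC.2.1 hD.2.1)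
    have hShMN : Sh (M, N) = Sh q := by
      refine (Set.eq_of_subset_of_ncard_le ?_ (hmax' _ ⟨hM.1, hN.1, hMN⟩) (Set.toFinite _)).symm
      exact fun E hE => ⟨hE.1, hSM E hE, hSN E hE⟩
    -- a side lemma
    have side : ∀ M N C D : Subgroup G, Spec C M → Spec D N → M ≠ N → C ∈ Sh (M, N) →
        D ∈ Sh (M, N) → C ≠ D → (∀ r ∈ Pairs, (Sh r).ncard ≤ (Sh (M, N)).ncard) →
        ∃ B ∈ 𝒞, B ≤ M ∧ B ∉ Sh (M, N) ∧
          B ≤ normalizer ((sSup (Sh (M, N)) : Subgroup G) : Set G) := by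
      intro M N C D hM hN hMN hC hD hCD hmx
      set S := Sh (M, N) with hS
      set S₀ := S \ {C} with hS₀
      set W := sSup S₀ with hW
      have hS₀sn : ∀ E ∈ S₀, (E.subgroupOf M).IsSubnormal := fun E hE => by
        by_contra h
        exact hE.2 (hinj E hE.1.1 C hC.1 M N ⟨hM.1, hE.1.2.1, h⟩ hM hN.1 hMN.symm hE.1.2.2 hC.2.2)
      have hWM : W ≤ M := sSup_le fun E hE => hE.1.2.1
      have hWN : W ≤ N := sSup_le fun E hE => hE.1.2.2
      have hWsn : (W.subgroupOf M).IsSubnormal := by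
        have : W.subgroupOf M = sSup ((fun E => E.subgroupOf M) '' S₀) := by
          apply map_injective M.subtype_injective
          rw [map_subgroupOf_eq_of_le hWM, (Subgroup.gc_map_comap _).l_sSup, hW, sSup_eq_iSup, iSup_image]
          exact iSup_congr fun E => iSup_congr fun hE => (map_subgroupOf_eq_of_le hE.1.2.1).symm
        rw [this]
        refine isSubnormal_sSup ?_
        rintro _ ⟨E, hE, rfl⟩
        exact hS₀sn E hE
      have hCW : ¬ C ≤ W := by
        intro h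
        have hCN : (C.subgroupOf N).IsSubnormal := by
          by_contra h'
          exact hMN (hspec C hC.1 M N hM ⟨hN.1, hC.2.2, h'⟩)
        exact hM.2.2 (IsSubnormal.trans (comap_mono h)
          ((sub_restrict hWN hCN).comap (subgroupOfEquivOfLe hWM).toMonoidHom) hWsn)
      have hSW : sSup S = C ⊔ W := by
        rw [hW, hS₀, ← sSup_insert, Set.insert_sdiff_singleton, Set.insert_eq_of_mem hC]
      have hfix : ∀ m ∈ M, m ∈ normalizer (W : Set G) →
          conjBy m C = C ∧ m ∈ normalizer ((sSup S : Subgroup G) : Set G) := by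
        intro m hm hmW
        have hW' : conjBy m W = W := conjBy_eq_self_iff.2 hmW
        have hmM : conjBy m M = M := conjBy_eq_self_of_mem hm
        have himg : ∀ E ∈ S₀, conjBy m E ∈ S₀ := fun E hE => by
          have hle : conjBy m E ≤ W := (map_mono (le_sSup hE)).trans hW'.le
          exact ⟨⟨hconj E hE.1.1 m, hle.trans hWM, hle.trans hWN⟩,
            fun e => hCW ((Set.mem_singleton_iff.1 e).ge.trans hle)⟩
        have hD₀ : D ∈ S₀ := ⟨hD, fun e => hCD e.symm⟩
        set D' := conjBy m D with hD'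
        have hD'S : D' ∈ S₀ := himg D hD₀
        have hspD' : Spec D' (conjBy m N) := spec_conjBy hN m
        have hall : ∀ E ∈ S, E ≤ conjBy m N := fun E hE => by
          by_cases e : D' = E
          · exact e ▸ hspD'.2.1
          obtain ⟨Z, hZ, hEZ⟩ := key D' hD'S.1.1 E hE.1 e M N hM.1 hN.1 hMN hD'S.1.2.1 hD'S.1.2.2
            hE.2.1 hE.2.2
          exact hspec D' hD'S.1.1 Z _ hZ hspD' ▸ hEZ
        have hMmN : M ≠ conjBy m N := fun e => hMN (by
          have := congrArg (conjBy m⁻¹) e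
          rwa [conjBy_conjBy, inv_mul_cancel, conjBy_one,
            conjBy_eq_self_of_mem (inv_mem hm)] at this)
        have heq : Sh (M, conjBy m N) = S :=
          (Set.eq_of_subset_of_ncard_le (s := S) (t := Sh (M, conjBy m N))
            (fun E hE => ⟨hE.1, hE.2.1, hall E hE⟩)
            (hmx (M, conjBy m N) ⟨hM.1, hspD'.1, hMmN⟩) (Set.toFinite _)).symm
        have hmC' : conjBy m C ∈ Sh (M, conjBy m N) :=
          ⟨hconj C hC.1 m, (map_mono hC.2.1).trans hmM.le, map_mono hC.2.2⟩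
        have hmC : conjBy m C ∈ S := heq ▸ hmC'
        have hsp : Spec (conjBy m C) M := hmM ▸ spec_conjBy hM m
        have hmCC : conjBy m C = C := hinj _ hmC.1 C hC.1 M N hsp hM hN.1 hMN.symm hmC.2.2 hC.2.2
        refine ⟨hmCC, ?_⟩
        rw [← conjBy_eq_self_iff, hSW, conjBy, Subgroup.map_sup]
        change conjBy m C ⊔ conjBy m W = C ⊔ W
        rw [hmCC, hW']
      have hWnn : ¬ (W.subgroupOf M).Normal := by
        intro h
        have hMW := (normal_subgroupOf_iff_le_normalizer hWM).1 h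
        exact hM.2.2 (Normal.isSubnormal ((normal_subgroupOf_iff_le_normalizer hM.2.1).2
          fun m hm => conjBy_eq_self_iff.1 (hfix m hm (hMW hm)).1))
      obtain ⟨g, hgne, hgle⟩ := exists_conjBy_le_normalizer hWsn hWnn
      have hgW : conjBy (g : G) W = (conjBy g (W.subgroupOf M)).map M.subtype := by
        rw [conjBy_map, map_subgroupOf_eq_of_le hWM]; rfl
      have hgN : conjBy (g : G) W ≤ normalizer (W : Set G) := by
        rw [hgW]
        rintro _ ⟨y, hy, rfl⟩
        rw [← conjBy_eq_self_iff]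
        have h2 := congrArg (Subgroup.map M.subtype) (conjBy_eq_self_iff.2 (hgle hy))
        rwa [conjBy_map, map_subgroupOf_eq_of_le hWM] at h2
      obtain ⟨E, hE, hEW⟩ : ∃ E ∈ S₀, ¬ conjBy (g : G) E ≤ W := by
        by_contra! h
        refine hgne (map_injective M.subtype_injective ?_)
        rw [map_subgroupOf_eq_of_le hWM, ← hgW]
        refine eq_of_le_of_card_ge ?_ (by rw [card_conjBy])
        rw [hW, conjBy, (Subgroup.gc_map_comap _).l_sSup]
        exact iSup₂_le h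
      refine ⟨conjBy (g : G) E, hconj E hE.1.1 _,
        (map_mono hE.1.2.1).trans (conjBy_eq_self_of_mem g.2).le, fun hB => ?_, fun b hb => ?_⟩
      · have hBC : conjBy (g : G) E ≠ C := fun e => hM.2.2 (by
          have := isSubnormal_subgroupOf_conjBy hE.1.2.1 (hS₀sn E hE) (g : G)
          rwa [e, conjBy_eq_self_of_mem g.2] at this)
        exact hEW (le_sSup (⟨hB, hBC⟩ : conjBy (g : G) E ∈ S₀))
      · exact (hfix b ((map_mono hE.1.2.1).trans (conjBy_eq_self_of_mem g.2).le hb)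
          (hgN (map_mono (le_sSup hE) hb))).2
    have hswap : Sh (N, M) = Sh (M, N) := by
      ext E; exact ⟨fun h => ⟨h.1, h.2.2, h.2.1⟩, fun h => ⟨h.1, h.2.2, h.2.1⟩⟩
    obtain ⟨B₁, hB₁, hB₁M, hB₁S, hB₁V⟩ := side M N C D hM hN hMN (hShMN ▸ hC) (hShMN ▸ hD) hCD
      (by rw [hShMN]; exact hmax')
    obtain ⟨B₂, hB₂, hB₂N, hB₂S, hB₂V⟩ := side N M D C hN hM hMN.symm (by rw [hswap, hShMN]; exact hD)
      (by rw [hswap, hShMN]; exact hC) hCD.symm (by rw [hswap, hShMN]; exact hmax')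
    rw [hswap] at hB₂S hB₂V
    rw [hShMN] at hB₁S hB₁V hB₂S hB₂V
    set V := sSup (Sh q) with hV
    have hVM : V ≤ M := sSup_le hSM
    have hVn : normalizer (V : Set G) ≠ ⊤ := fun e => by
      haveI := normalizer_eq_top_iff.1 e
      exact hM.1.1 (top_le_iff.1 ((hnc C hC.1).ge.trans ((normalClosure_le_normal
        (SetLike.coe_subset_coe.2 (le_sSup hC))).trans hVM)))
    obtain ⟨P, hP, hVP⟩ := exists_coatom _ hVn
    have hfin : ∀ (K B : Subgroup G), IsCoatom K → P ≠ K → B ∈ 𝒞 → B ≤ K → B ∉ Sh q →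
        B ≤ normalizer (V : Set G) → (∀ E ∈ Sh q, E ≤ K) → False := by
      intro K B hK hPK hB hBK hBS hBV hSK
      have hsub : insert B (Sh q) ⊆ Sh (P, K) := Set.insert_subset ⟨hB, hBV.trans hVP, hBK⟩
        fun E hE => ⟨hE.1, ((le_sSup hE).trans le_normalizer).trans hVP, hSK E hE⟩
      have h1 := Set.ncard_le_ncard hsub (Set.toFinite _)
      rw [Set.ncard_insert_of_notMem hBS (Set.toFinite _)] at h1
      have h2 := hmax' (P, K) ⟨hP, hK, hPK⟩
      omega
    by_cases e : P = M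
    · exact hfin N B₂ hN.1 (e ▸ hMN) hB₂ hB₂N hB₂S hB₂V hSN
    · exact hfin M B₁ hM.1 e hB₁ hB₁M hB₁S hB₁V hSM

/-- The dichotomy. -/
theorem join_eq_top_or_existsUnique (A : Subgroup G) (hA : normalClosure (A : Set G) = ⊤)
    (hAG : A ≠ ⊤) : genJoin A = ⊤ ∨ ∃! M : Subgroup G, IsCoatom M ∧ A ≤ M := by
  refine or_iff_not_imp_left.2 fun hY => ?_
  obtain ⟨M, hM, hAM⟩ := exists_coatom A hAG
  exact ⟨M, ⟨hM, hAM⟩, fun X hX => eq_of_coatoms A hA hY X M hX.1 hM hX.2 hAM⟩

end CfsgLib.NCMax
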