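import Mathlib
import Cfsg.Agent.Lib.Coprime.Solvable
import Cfsg.Agent.Lib.PGroup.ElementaryBasic
import Cfsg.Agent.Lib.PGroup.Subnormalizer

/-!
# The normalizer tower of a self-centralizing abelian subgroup of normalizer index `p`
-/

set_option autoImplicit false
set_option linter.unusedSectionVars false
set_option linter.style.haveILetI false

namespace CfsgLib.NormTower

open Subgroup
open scoped commutatorElement

universe u

variable {G : Type u} [Group G] [Finite G] {p : ℕ} [Fact p.Prime]

abbrev cj (g : G) (A : Subgroup G) : Subgroup G := A.map (MulAut.conj g).toMonoidHom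

theorem card_cj (g : G) (A : Subgroup G) : Nat.card ↥(cj g A) = Nat.card A :=
  card_map_of_injective (MulEquiv.injective _)

theorem mem_norm_of_cj_le {g : G} {A : Subgroup G} (h : cj g A ≤ A) : g ∈ normalizer (A : Set G) :=
  Subgroup.mem_normalizer_iff_map_conj_eq.2 (eq_of_le_of_card_ge h (card_cj g A).ge)

theorem cj_of_mem_norm {g : G} {A : Subgroup G} (h : g ∈ normalizer (A : Set G)) : cj g A = A :=
  Subgroup.mem_normalizer_iff_map_conj_eq.1 h

theorem sandwich {X Y W : Subgroup G} (hY : Nat.card Y = p * Nat.card X) (h1 : X < W) (h2 : W ≤ Y) :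
    W = Y := by
  obtain ⟨a, ha⟩ := card_dvd_of_le h1.le
  have ha' : a ∣ p := by
    have := card_dvd_of_le h2
    rw [hY, ha, mul_comm p] at this
    exact Nat.dvd_of_mul_dvd_mul_left Nat.card_pos this
  rcases (Nat.dvd_prime Fact.out).1 ha' with rfl | rfl
  · exact absurd (eq_of_le_of_card_ge h1.le (by rw [ha, mul_one])) h1.ne
  · exact eq_of_le_of_card_ge h2 (by rw [hY, ha, mul_comm])

theorem commutator_le_of_card {X Y : Subgroup G} (hXY : X ≤ Y) (hn : Y ≤ normalizer (X : Set G))
    (h : Nat.card Y = p * Nat.card X) : ⁅Y, Y⁆ ≤ X := by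
  haveI : (X.subgroupOf Y).Normal := (normal_subgroupOf_iff_le_normalizer hXY).2 hn
  have hq : Nat.card (↥Y ⧸ X.subgroupOf Y) = p := by
    have := card_eq_card_quotient_mul_card_subgroup (X.subgroupOf Y)
    rw [Nat.card_congr (subgroupOfEquivOfLe hXY).toEquiv, h] at this
    exact Nat.eq_of_mul_eq_mul_right Nat.card_pos this.symm
  haveI := isCyclic_of_prime_card hq
  letI := IsCyclic.commGroup (α := ↥Y ⧸ X.subgroupOf Y)
  refine commutator_le.2 fun a ha b hb => ?_
  have : ((⁅(⟨a, ha⟩ : ↥Y), ⟨b, hb⟩⁆ : ↥Y) : ↥Y ⧸ X.subgroupOf Y) = 1 := by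
    rw [← QuotientGroup.mk'_apply, map_commutatorElement, commutatorElement_eq_one_iff_mul_comm]
    exact mul_comm _ _
  exact mem_subgroupOf.1 ((QuotientGroup.eq_one_iff _).1 this)

theorem commutator_sup_le {A B S : Subgroup G} (hA : ⁅A, A⁆ ≤ S) (hB : ⁅B, B⁆ ≤ S) (hAB : ⁅A, B⁆ ≤ S)
    (hSn : A ⊔ B ≤ normalizer (S : Set G)) : ⁅A ⊔ B, A ⊔ B⁆ ≤ S := by
  let U : G → Subgroup G := fun u =>
    { carrier := {v | v ∈ normalizer (S : Set G) ∧ ⁅u, v⁆ ∈ S}
      one_mem' := ⟨one_mem _, by rw [commutatorElement_one_right]; exact S.one_mem⟩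
      mul_mem' := by
        rintro v w ⟨hv, hv'⟩ ⟨hw, hw'⟩
        refine ⟨mul_mem hv hw, ?_⟩
        rw [show ⁅u, v * w⁆ = ⁅u, v⁆ * (v * ⁅u, w⁆ * v⁻¹) by rw [commutatorElement_def, commutatorElement_def, commutatorElement_def]; group]
        exact S.mul_mem hv' ((Subgroup.mem_normalizer_iff.1 hv _).1 hw')
      inv_mem' := by
        rintro v ⟨hv, hv'⟩
        refine ⟨inv_mem hv, ?_⟩
        rw [show ⁅u, v⁻¹⁆ = v⁻¹ * ⁅u, v⁆⁻¹ * (v⁻¹)⁻¹ by rw [commutatorElement_def, commutatorElement_def]; group]
        exact (Subgroup.mem_normalizer_iff.1 (inv_mem hv) _).1 (S.inv_mem hv') }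
  have hU : ∀ u v : G, v ∈ U u ↔ v ∈ normalizer (S : Set G) ∧ ⁅u, v⁆ ∈ S := fun _ _ => Iff.rfl
  have hsw : ∀ u v : G, ⁅u, v⁆ ∈ S → ⁅v, u⁆ ∈ S := fun u v h => commutatorElement_inv u v ▸ S.inv_mem h
  have hA' : ∀ u ∈ A, A ⊔ B ≤ U u := fun u hu => sup_le
    (fun v hv => ⟨hSn (mem_sup_left hv), hA (commutator_mem_commutator hu hv)⟩)
    (fun v hv => ⟨hSn (mem_sup_right hv), hAB (commutator_mem_commutator hu hv)⟩)
  have hB' : ∀ u ∈ B, A ⊔ B ≤ U u := fun u hu => sup_le
    (fun v hv => ⟨hSn (mem_sup_left hv), hsw _ _ (hAB (commutator_mem_commutator hv hu))⟩)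
    (fun v hv => ⟨hSn (mem_sup_right hv), hB (commutator_mem_commutator hu hv)⟩)
  refine commutator_le.2 fun u hu v hv => hsw _ _ ?_
  have : A ⊔ B ≤ U v := sup_le (fun w hw => ⟨hSn (mem_sup_left hw), hsw _ _ ((hU w v).1 (hA' w hw hv)).2⟩)
    (fun w hw => ⟨hSn (mem_sup_right hw), hsw _ _ ((hU w v).1 (hB' w hw hv)).2⟩)
  exact ((hU v u).1 (this hu)).2

theorem central_of_card_le {K S : Subgroup G} (hK : IsPGroup p K) (hSK : S ≤ K)
    (hn : K ≤ normalizer (S : Set G)) (hS : Nat.card S ∣ p) : ∀ x ∈ S, ∀ k ∈ K, Commute x k := by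
  rcases (Nat.dvd_prime Fact.out).1 hS with h | h
  · intro x hx k _
    rw [Subgroup.card_eq_one.1 h, Subgroup.mem_bot] at hx
    rw [hx]
    exact Commute.one_left k
  haveI : (S.subgroupOf K).Normal := (normal_subgroupOf_iff_le_normalizer hSK).2 hn
  set T := S.subgroupOf K with hTdef
  have hT : Nat.card T = p := by rw [hTdef, Nat.card_congr (subgroupOfEquivOfLe hSK).toEquiv, h]
  haveI := hK.isNilpotent
  have hne : T ⊓ center ↥K ≠ ⊥ := CfsgLib.Coprime.nilpotent_inf_center_ne_bot T (fun e => (Fact.out : p.Prime).one_lt.ne' (hT.symm.trans (e ▸ Subgroup.card_bot)))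
  have hle : T ≤ center ↥K := by
    rcases (Nat.dvd_prime Fact.out).1 (hT ▸ card_dvd_of_le (inf_le_left : T ⊓ center ↥K ≤ T)) with h' | h'
    · exact absurd (Subgroup.card_eq_one.1 h') hne
    · exact inf_eq_left.1 (eq_of_le_of_card_ge inf_le_left (by rw [h', hT]))
  intro x hx k hk
  exact (congrArg Subtype.val (Subgroup.mem_center_iff.1 (hle (show (⟨x, hSK hx⟩ : ↥K) ∈ T from hx)) ⟨k, hk⟩)).symm

/-- The induction statement. -/
def TowerProp (p : ℕ) (E : Subgroup G) : Prop :=
  ∀ K : Subgroup G, E ≤ K → K ≠ ⊤ →
    Nat.card ↥(normalizer (K : Set G)) = p * Nat.card K ∧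
    (∀ i, Nat.card K = Nat.card E * p ^ i → K.lowerCentralSeries (i + 1) = ⊥) ∧
    (normalizer (E : Set G) ≤ K →
      ∀ x ∈ ⁅normalizer (E : Set G), normalizer (E : Set G)⁆, ∀ k ∈ K, Commute x k)

theorem tower : ∀ (n : ℕ) (G : Type u) [Group G] [Finite G] (E : Subgroup G), E.index = n →
    IsPGroup p G → (∀ a ∈ E, ∀ b ∈ E, Commute a b) → centralizer (E : Set G) ≤ E →
    Nat.card ↥(normalizer (E : Set G)) = p * Nat.card E → TowerProp p E := by
  intro n
  induction n using Nat.strongRecOn with
  | ind n ih =>
    intro G _ _ E hn hG hab hC hN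
    subst hn
    have hp : p.Prime := Fact.out
    set N := normalizer (E : Set G) with hNdef
    have hEN : E ≤ N := le_normalizer
    have hENlt : E < N := lt_of_le_of_ne hEN fun e => by
      rw [← e] at hN
      have h1 := hp.one_lt
      have h2 : 0 < Nat.card E := Nat.card_pos
      nlinarith
    intro K
    induction hk : Nat.card K using Nat.strongRecOn generalizing K with
    | ind k ihK =>
      subst hk
      intro hEK hKtop
      have hKlt : ∀ R : Subgroup G, E ≤ R → R < K → R ≠ ⊤ := fun R _ h e => hKtop (top_le_iff.1 (e ▸ h.le))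
      have hexp : ∀ i j, Nat.card E * p ^ i = Nat.card E * p ^ j → i = j := fun i j h =>
        Nat.pow_right_injective hp.two_le (Nat.eq_of_mul_eq_mul_left Nat.card_pos h)
      by_cases hKE : K = E
      · subst hKE
        refine ⟨hN, fun i hi => ?_, fun hNK => absurd hNK (not_le_of_gt hENlt)⟩
        have : i = 0 := hexp i 0 (by rw [← hi, pow_zero, mul_one])
        subst this
        rw [Subgroup.lowerCentralSeries_succ, Subgroup.lowerCentralSeries_zero, commutator_eq_bot_iff_le_centralizer]
        exact fun a ha => mem_centralizer_iff.2 fun b hb => hab b hb a ha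
      have hEKlt : E < K := lt_of_le_of_ne hEK (Ne.symm hKE)
      have hNK : N ≤ K := by
        have h := CfsgLib.Subnormalizer.lt_inf_normalizer (hG.to_subgroup K) hEKlt
        exact (sandwich hN h inf_le_right).ge.trans inf_le_left
      obtain ⟨g, hgN, hgK⟩ : ∃ g, g ∈ normalizer (K : Set G) ∧ g ∉ K := by
        have h := CfsgLib.Subnormalizer.lt_inf_normalizer (hG.to_subgroup ⊤) (lt_top_iff_ne_top.2 hKtop)
        obtain ⟨g, hg, hg'⟩ := SetLike.exists_of_lt h
        exact ⟨g, hg.2, hg'⟩
      by_cases hKN : K = N
      · subst hKN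
        set F := cj g E with hF
        have hgE : F ≠ E := fun e => hgK (mem_norm_of_cj_le e.le)
        have hFN : F ≤ N := (map_mono hEN).trans (cj_of_mem_norm hgN).le
        have hFab : ∀ a ∈ F, ∀ b ∈ F, Commute a b := by
          rintro _ ⟨a, ha, rfl⟩ _ ⟨b, hb, rfl⟩
          exact (hab a ha b hb).map _
        have hNF : N ≤ normalizer (F : Set G) := fun x hx => mem_norm_of_cj_le (by
          have hx' : g⁻¹ * x * g ∈ N := by
            have := (Subgroup.mem_normalizer_iff.1 (inv_mem hgN) x).1 hx
            rwa [inv_inv] at this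
          rintro _ ⟨_, ⟨a, ha, rfl⟩, rfl⟩
          refine ⟨(g⁻¹ * x * g) * a * (g⁻¹ * x * g)⁻¹, (Subgroup.mem_normalizer_iff.1 hx' a).1 ha, ?_⟩
          simp only [MulEquiv.coe_toMonoidHom, MulAut.conj_apply]; group)
        have hEF : E ⊔ F = N := sandwich hN (lt_of_le_of_ne le_sup_left fun e => hgE
          (eq_of_le_of_card_ge (le_sup_right.trans e.ge) (card_cj g E).ge)) (sup_le hEN hFN)
        have hcardF : Nat.card F = Nat.card E := card_cj g E
        have hN'E : ⁅N, N⁆ ≤ E := commutator_le_of_card hEN le_rfl hN
        have hN'F : ⁅N, N⁆ ≤ F := commutator_le_of_card hFN hNF (by rw [hN, hcardF])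
        have hcent : ∀ x, x ∈ E → x ∈ F → ∀ k ∈ N, Commute x k := fun x hxE hxF k hk => by
          have : N ≤ centralizer ({x} : Set G) := hEF ▸ sup_le
            (fun a ha => mem_centralizer_singleton_iff.2 (hab a ha x hxE))
            (fun a ha => mem_centralizer_singleton_iff.2 (hFab a ha x hxF))
          exact (mem_centralizer_singleton_iff.1 (this hk)).symm
        refine ⟨?_, fun i hi => ?_, fun _ x hx => hcent x (hN'E hx) (hN'F hx)⟩
        · -- counting conjugates
          classical
          set H := normalizer (N : Set G) with hH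
          set Z := N ⊓ centralizer (N : Set G) with hZ
          have hZE : Z ≤ E := fun z hz => hC (centralizer_le hEN hz.2)
          have hZE' : Nat.card E = p * Nat.card Z := by
            have hlt : Z < E := lt_of_le_of_ne hZE fun e => not_le_of_gt hENlt fun x hx =>
              hC (mem_centralizer_iff.2 fun a ha => by
                have ha' : a ∈ Z := e ▸ ha
                exact ((mem_centralizer_iff.1 ha'.2) x hx).symm)
            have hle : E ⊓ F ≤ Z := fun z hz => ⟨hEN hz.1, mem_centralizer_iff.2 fun k hk =>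
              (hcent z hz.1 hz.2 k hk).symm⟩
            have hprod : Nat.card E * Nat.card F = Nat.card N * Nat.card ↥(E ⊓ F) := by
              rw [← hEF]
              exact (CfsgLib.EABasic.card_sup_mul_card_inf_of_le_normalizer (hEN.trans hNF)).symm
            have hEFcard : Nat.card E = p * Nat.card ↥(E ⊓ F) := by
              rw [hN, hcardF] at hprod
              refine Nat.eq_of_mul_eq_mul_left (Nat.card_pos (α := ↥E)) ?_
              rw [hprod]; ring
            rcases eq_or_lt_of_le hle with h | h
            · rw [← h]; exact hEFcard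
            · exact absurd (sandwich hEFcard h hZE) hlt.ne
          have hNH : N ≤ H := le_normalizer
          let ψ : ↥H ⧸ N.subgroupOf H → Subgroup G := Quotient.lift (fun x : ↥H => cj (x : G) E) (by
            intro a b hab'
            have h := QuotientGroup.leftRel_apply.1 hab'
            have h2 : (a : G)⁻¹ * b ∈ N := h
            show cj (a : G) E = cj (b : G) E
            conv_rhs => rw [show (b : G) = (a : G) * ((a : G)⁻¹ * b) by group]
            rw [show cj ((a : G) * ((a : G)⁻¹ * b)) E = cj (a : G) (cj ((a : G)⁻¹ * b) E) by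
              rw [cj, cj, cj, Subgroup.map_map]; congr 1; ext z
              simp only [MonoidHom.comp_apply, MulEquiv.coe_toMonoidHom, map_mul, MulAut.mul_apply], cj_of_mem_norm h2])
          have hψ : Function.Injective ψ := by
            rintro ⟨a⟩ ⟨b⟩ h
            change cj (a : G) E = cj (b : G) E at h
            refine Quotient.sound (QuotientGroup.leftRel_apply.2 ?_)
            show (a : G)⁻¹ * b ∈ N
            refine mem_norm_of_cj_le ?_
            rintro _ ⟨z, hz, rfl⟩
            obtain ⟨y, hy, hyz⟩ := h.ge ⟨z, hz, rfl⟩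
            simp only [MulEquiv.coe_toMonoidHom, MulAut.conj_apply] at hyz ⊢
            have e : (a : G)⁻¹ * b * z * ((a : G)⁻¹ * b)⁻¹ = y :=
              calc (a : G)⁻¹ * b * z * ((a : G)⁻¹ * b)⁻¹ = (a : G)⁻¹ * (b * z * (b : G)⁻¹) * a := by group
                _ = y := by rw [← hyz]; group
            rw [e]; exact hy
          have hZn : ∀ x ∈ H, cj x Z = Z := fun x hx => by
            refine eq_of_le_of_card_ge ?_ (card_cj x Z).ge
            rintro _ ⟨z, hz, rfl⟩
            refine ⟨(Subgroup.mem_normalizer_iff.1 hx z).1 hz.1, mem_centralizer_iff.2 fun k hk => ?_⟩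
            have hk' : x⁻¹ * k * x ∈ N := by
              have := (Subgroup.mem_normalizer_iff.1 (inv_mem hx) k).1 hk
              rwa [inv_inv] at this
            have := mem_centralizer_iff.1 hz.2 _ hk'
            simp only [MulEquiv.coe_toMonoidHom, MulAut.conj_apply]
            calc k * (x * z * x⁻¹) = x * (x⁻¹ * k * x * z) * x⁻¹ := by group
              _ = x * (z * (x⁻¹ * k * x)) * x⁻¹ := by rw [this]
              _ = x * z * x⁻¹ * k := by group
          haveI : Fintype (↥H ⧸ N.subgroupOf H) := Fintype.ofFinite _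
          let piece : (↥H ⧸ N.subgroupOf H) → Set G := fun q => (ψ q : Set G) \ (Z : Set G)
          have hmem : ∀ q, ψ q ≤ N ∧ Z ≤ ψ q ∧ Nat.card ↥(ψ q) = Nat.card E ∧
              (∀ a ∈ ψ q, ∀ b ∈ ψ q, Commute a b) := by
            rintro ⟨a⟩
            refine ⟨(map_mono hEN).trans (cj_of_mem_norm a.2).le,
              (hZn a a.2).ge.trans (map_mono hZE), card_cj _ _, ?_⟩
            rintro _ ⟨z, hz, rfl⟩ _ ⟨w, hw, rfl⟩
            exact (hab z hz w hw).map _
          have hdisj : ∀ q r, q ≠ r → Disjoint (piece q) (piece r) := by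
            intro q r hqr
            rw [Set.disjoint_left]
            rintro x ⟨hxq, hxZ⟩ ⟨hxr, -⟩
            refine hxZ ⟨(hmem q).1 hxq, ?_⟩
            have hsup : ψ q ⊔ ψ r = N := sandwich (X := ψ q) (by rw [hN, (hmem q).2.2.1])
              (lt_of_le_of_ne le_sup_left fun e => hqr (hψ ((eq_of_le_of_card_ge
                (le_sup_right.trans e.ge) (by rw [(hmem q).2.2.1, (hmem r).2.2.1])).symm)))
              (sup_le (hmem q).1 (hmem r).1)
            have : N ≤ centralizer ({x} : Set G) := hsup ▸ sup_le
              (fun a ha => mem_centralizer_singleton_iff.2 ((hmem q).2.2.2 a ha x hxq))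
              (fun a ha => mem_centralizer_singleton_iff.2 ((hmem r).2.2.2 a ha x hxr))
            exact mem_centralizer_iff.2 fun k hk => mem_centralizer_singleton_iff.1 (this hk)
          have hpiece : ∀ q, (piece q).ncard = Nat.card E - Nat.card Z := fun q => by
            rw [Set.ncard_sdiff (SetLike.coe_subset_coe.2 (hmem q).2.1) (Set.toFinite _),
              ← Nat.card_coe_set_eq, ← Nat.card_coe_set_eq]
            exact congrArg (· - Nat.card Z) (hmem q).2.2.1
          have hsum : (⋃ q, piece q).ncard = Nat.card (↥H ⧸ N.subgroupOf H) * (Nat.card E - Nat.card Z) := by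
            rw [Set.ncard_iUnion_of_finite (fun q => Set.toFinite _) hdisj, finsum_eq_sum_of_fintype,
              Finset.sum_congr rfl fun q _ => hpiece q, Finset.sum_const, Finset.card_univ,
              ← Nat.card_eq_fintype_card, smul_eq_mul]
          have hsub : (⋃ q, piece q).ncard ≤ Nat.card N - Nat.card Z := by
            have h1 : (⋃ q, piece q) ⊆ (N : Set G) \ (Z : Set G) := by
              intro x hx
              obtain ⟨q, hq⟩ := Set.mem_iUnion.1 hx
              exact ⟨(hmem q).1 hq.1, hq.2⟩
            refine (Set.ncard_le_ncard h1 (Set.toFinite _)).trans (le_of_eq ?_)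
            rw [Set.ncard_sdiff (SetLike.coe_subset_coe.2 (hZE.trans hEN)) (Set.toFinite _),
              ← Nat.card_coe_set_eq, ← Nat.card_coe_set_eq]
            rfl
          have hquot : Nat.card ↥H = Nat.card (↥H ⧸ N.subgroupOf H) * Nat.card N := by
            rw [card_eq_card_quotient_mul_card_subgroup (N.subgroupOf H),
              Nat.card_congr (subgroupOfEquivOfLe hNH).toEquiv]
          obtain ⟨j, hj⟩ : ∃ j, Nat.card (↥H ⧸ N.subgroupOf H) = p ^ j := by
            obtain ⟨a, ha⟩ := IsPGroup.iff_card.1 (hG.to_subgroup H)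
            obtain ⟨j, -, hj⟩ := (Nat.dvd_prime_pow hp).1 (ha ▸ hquot ▸ Dvd.intro (Nat.card N) rfl)
            exact ⟨j, hj⟩
          have hj0 : j ≠ 0 := by
            rintro rfl
            rw [hj, pow_zero, one_mul] at hquot
            exact hgK ((eq_of_le_of_card_ge hNH hquot.le).ge hgN)
          have hj1 : j ≤ 1 := by
            by_contra hj2
            rw [hsum, hj, hN, hZE'] at hsub
            have h2 := hp.two_le
            have h3 : p ^ 2 ≤ p ^ j := Nat.pow_le_pow_right hp.pos (by omega)
            have h4 : 0 < Nat.card Z := Nat.card_pos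
            have e1 : p * Nat.card Z - Nat.card Z = (p - 1) * Nat.card Z := by rw [Nat.sub_mul, one_mul]
            have e2 : p * (p * Nat.card Z) - Nat.card Z = (p * p - 1) * Nat.card Z := by
              rw [Nat.sub_mul, one_mul, mul_assoc]
            rw [e1, e2, ← mul_assoc] at hsub
            have h5 := Nat.le_of_mul_le_mul_right hsub h4
            obtain ⟨r, rfl⟩ : ∃ r, p = r + 2 := ⟨p - 2, by omega⟩
            have h6 : (r + 2) ^ 2 * (r + 1) ≤ (r + 2) * (r + 2) - 1 :=
              le_trans (Nat.mul_le_mul_right _ h3) (by simpa using h5)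
            have h7 : (r + 2) * (r + 2) - 1 < (r + 2) * (r + 2) := Nat.sub_lt (by positivity) one_pos
            nlinarith
          rw [hquot, hj, show j = 1 by omega, pow_one]
        · have : i = 1 := hexp i 1 (by rw [← hi, hN, pow_one, mul_comm])
          subst this
          rw [Subgroup.lowerCentralSeries_succ, Subgroup.lowerCentralSeries_succ, Subgroup.lowerCentralSeries_zero,
            commutator_eq_bot_iff_le_centralizer]
          exact fun x hx => mem_centralizer_iff.2 fun k hk => (hcent x (hN'E hx) (hN'F hx) k hk).symm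
      -- the general step
      obtain ⟨M, hM, hMmax⟩ := (Set.toFinite {M : Subgroup G | E ≤ M ∧ M < K}).exists_maximal
        ⟨E, le_rfl, hEKlt⟩
      have hMK : M < K := hM.2
      have hEM : E ≤ M := hM.1
      have hMtop := hKlt M hEM hMK
      have hKM : K ≤ normalizer (M : Set G) := by
        have h := CfsgLib.Subnormalizer.lt_inf_normalizer (hG.to_subgroup K) hMK
        by_contra hnot
        have hlt : K ⊓ normalizer (M : Set G) < K := lt_of_le_of_ne inf_le_left fun e => hnot (inf_eq_left.1 e)
        exact not_le_of_gt h (hMmax ⟨hEM.trans h.le, hlt⟩ h.le)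
      have hlt' : Nat.card M < Nat.card K := by
        by_contra hge
        exact hMK.ne (eq_of_le_of_card_ge hMK.le (not_lt.1 hge))
      obtain ⟨hMa, hMb, hMc⟩ := ihK _ hlt' M rfl hEM hMtop
      have hKeq : K = normalizer (M : Set G) := sandwich hMa hMK hKM
      have hKcard : Nat.card K = p * Nat.card M := by
        conv_lhs => rw [hKeq]
        exact hMa
      have hEMne : M ≠ E := by
        rintro rfl
        exact hKN hKeq
      have hNM : N ≤ M := by
        have h := CfsgLib.Subnormalizer.lt_inf_normalizer (hG.to_subgroup M) (lt_of_le_of_ne hEM (Ne.symm hEMne))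
        exact (sandwich hN h inf_le_right).ge.trans inf_le_left
      set M' := cj g M with hM'def
      have hM'K : M' ≤ K := (map_mono hMK.le).trans (cj_of_mem_norm hgN).le
      have hM'M : M' ≠ M := fun e => hgK (hKeq ▸ mem_norm_of_cj_le e.le)
      have hM'card : Nat.card M' = Nat.card M := card_cj g M
      have hKM' : K ≤ normalizer (M' : Set G) := fun x hx => mem_norm_of_cj_le (by
        have hx' : g⁻¹ * x * g ∈ normalizer (M : Set G) := by
          have := (Subgroup.mem_normalizer_iff.1 (inv_mem hgN) x).1 hx
          rw [inv_inv] at this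
          exact hKM this
        rintro _ ⟨_, ⟨a, ha, rfl⟩, rfl⟩
        refine ⟨(g⁻¹ * x * g) * a * (g⁻¹ * x * g)⁻¹, (Subgroup.mem_normalizer_iff.1 hx' a).1 ha, ?_⟩
        simp only [MulEquiv.coe_toMonoidHom, MulAut.conj_apply]; group)
      have hsupK : M ⊔ M' = K := sandwich hKcard (lt_of_le_of_ne le_sup_left fun e => hM'M
        (eq_of_le_of_card_ge (le_sup_right.trans e.ge) hM'card.ge)) (sup_le hMK.le hM'K)
      set D := M ⊓ M' with hDdef
      have hKD : K ≤ normalizer (D : Set G) := fun x hx => mem_norm_of_cj_le (le_inf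
        ((map_mono inf_le_left).trans (cj_of_mem_norm (hKM hx)).le)
        ((map_mono inf_le_right).trans (cj_of_mem_norm (hKM' hx)).le))
      have hDcard : Nat.card M = p * Nat.card D := by
        have hle : M ≤ normalizer (M' : Set G) := hMK.le.trans hKM'
        have := (CfsgLib.EABasic.card_sup_mul_card_inf_of_le_normalizer hle).symm
        rw [hsupK, hM'card, hKcard] at this
        refine Nat.eq_of_mul_eq_mul_left (Nat.card_pos (α := ↥M)) ?_
        rw [this]; ring
      have hED : ¬ E ≤ D := by
        intro h
        have hDK : D < K := lt_of_le_of_lt inf_le_left hMK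
        have hltD : Nat.card D < Nat.card K := by
          have h2 := hp.one_lt
          have h3 : 0 < Nat.card D := Nat.card_pos
          rw [hKcard, hDcard]; nlinarith
        obtain ⟨hDa, -, -⟩ := ihK _ hltD D rfl h (hKlt D h hDK)
        have h1 : K ≤ normalizer (D : Set G) := hKD
        have := card_dvd_of_le h1
        rw [hDa, hKcard, hDcard] at this
        have h2 := Nat.le_of_dvd (Nat.mul_pos hp.pos Nat.card_pos) this
        have h3 := hp.one_lt
        have h4 : 0 < Nat.card D := Nat.card_pos
        nlinarith [Nat.mul_lt_mul_of_pos_right h3 (Nat.mul_pos hp.pos h4)]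
      have hKKD : ⁅K, K⁆ ≤ D := le_inf (commutator_le_of_card hMK.le hKM hKcard)
        (commutator_le_of_card hM'K hKM' (by rw [hKcard, hM'card]))
      have hN'M : ⁅N, N⁆ ≤ D := (commutator_mono hNK hNK).trans hKKD
      have hMED : E ⊔ D = M := sandwich hDcard
        (lt_of_le_of_ne le_sup_right fun e => hED (le_sup_left.trans e.ge)) (sup_le hEM inf_le_left)
      set A := D ⊓ centralizer (D : Set G) with hA
      have hAab : ∀ a ∈ A, ∀ b ∈ A, Commute a b := fun a ha b hb => ((mem_centralizer_iff.1 ha.2) b hb.1).symm
      have hKA : K ≤ normalizer (A : Set G) := fun x hx => mem_norm_of_cj_le (by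
        rintro _ ⟨a, ha, rfl⟩
        refine ⟨(Subgroup.mem_normalizer_iff.1 (hKD hx) a).1 ha.1, mem_centralizer_iff.2 fun b hb => ?_⟩
        have hb' : x⁻¹ * b * x ∈ D := by
          have := (Subgroup.mem_normalizer_iff.1 (inv_mem (hKD hx)) b).1 hb
          rwa [inv_inv] at this
        have := mem_centralizer_iff.1 ha.2 _ hb'
        simp only [MulEquiv.coe_toMonoidHom, MulAut.conj_apply]
        calc b * (x * a * x⁻¹) = x * (x⁻¹ * b * x * a) * x⁻¹ := by group
          _ = x * (a * (x⁻¹ * b * x)) * x⁻¹ := by rw [this]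
          _ = x * a * x⁻¹ * b := by group)
      have hAN' : ∀ x ∈ ⁅N, N⁆, ∀ k ∈ K, Commute x k := by
        by_cases hAE : A ≤ E
        · set Z' := M' ⊓ centralizer (M' : Set G) with hZ'
          set ZM := M ⊓ centralizer (M : Set G) with hZM
          have hAZ : A ≤ ZM := fun a ha => ⟨hEM (hAE ha), mem_centralizer_iff.2 fun b hb => by
            have hb' : b ∈ E ⊔ D := hMED.ge hb
            have : E ⊔ D ≤ centralizer ({a} : Set G) := sup_le
              (fun c hc => mem_centralizer_singleton_iff.2 (hab c hc a (hAE ha)))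
              (fun c hc => mem_centralizer_singleton_iff.2 ((mem_centralizer_iff.1 ha.2) c hc))
            exact mem_centralizer_singleton_iff.1 (this hb')⟩
          have hZ'M : Z' ≤ M := fun x hx => by
            refine hNM (mem_norm_of_cj_le ?_)
            rintro _ ⟨a, ha, rfl⟩
            have h1 : ⁅x, a⁆ ∈ D := hKKD (commutator_mem_commutator (hM'K hx.1) (hEK ha))
            have hax : a ∈ normalizer (Z' : Set G) := mem_norm_of_cj_le (by
              rintro _ ⟨b, hb, rfl⟩
              have haK := hKM' (hEK ha)
              refine ⟨(Subgroup.mem_normalizer_iff.1 haK b).1 hb.1, mem_centralizer_iff.2 fun c hc => ?_⟩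
              have hc' : a⁻¹ * c * a ∈ M' := by
                have := (Subgroup.mem_normalizer_iff.1 (inv_mem haK) c).1 hc
                rwa [inv_inv] at this
              have := mem_centralizer_iff.1 hb.2 _ hc'
              simp only [MulEquiv.coe_toMonoidHom, MulAut.conj_apply]
              calc c * (a * b * a⁻¹) = a * (a⁻¹ * c * a * b) * a⁻¹ := by group
                _ = a * (b * (a⁻¹ * c * a)) * a⁻¹ := by rw [this]
                _ = a * b * a⁻¹ * c := by group)
            have h2 : ⁅x, a⁆ ∈ Z' := by
              rw [show ⁅x, a⁆ = x * (a * x⁻¹ * a⁻¹) by rw [commutatorElement_def]; group]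
              exact Z'.mul_mem hx ((Subgroup.mem_normalizer_iff.1 hax _).1 (Z'.inv_mem hx))
            have h3 : ⁅x, a⁆ ∈ E := hAE ⟨h1, centralizer_le (inf_le_right : D ≤ M') h2.2⟩
            simp only [MulEquiv.coe_toMonoidHom, MulAut.conj_apply]
            rw [show x * a * x⁻¹ = ⁅x, a⁆ * a by rw [commutatorElement_def]; group]
            exact E.mul_mem h3 ha
          have hZ'A : Z' ≤ A := fun x hx => ⟨⟨hZ'M hx, hx.1⟩, centralizer_le (inf_le_right : D ≤ M') hx.2⟩
          have hcj : cj g ZM = Z' := by
            refine le_antisymm ?_ ?_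
            · rintro _ ⟨z, hz, rfl⟩
              refine ⟨⟨z, hz.1, rfl⟩, mem_centralizer_iff.2 ?_⟩
              rintro _ ⟨c, hc, rfl⟩
              rw [← map_mul, ← map_mul, mem_centralizer_iff.1 hz.2 c hc]
            · rintro _ ⟨⟨z, hz, rfl⟩, hz'⟩
              refine ⟨z, ⟨hz, mem_centralizer_iff.2 fun c hc => ?_⟩, rfl⟩
              exact (MulAut.conj g).injective (by
                simpa only [MulEquiv.coe_toMonoidHom, map_mul] using
                  mem_centralizer_iff.1 hz' _ ⟨c, hc, rfl⟩)
          have heq : Z' = ZM := eq_of_le_of_card_ge (hZ'A.trans hAZ) (by rw [← hcj, card_cj])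
          intro x hx k hk
          have hxZ : x ∈ ZM := ⟨(commutator_le_of_card hEN le_rfl hN).trans hEM hx,
            mem_centralizer_iff.2 fun b hb => (hMc hNM x hx b hb).symm⟩
          have hxZ' : x ∈ Z' := heq ▸ hxZ
          have : M ⊔ M' ≤ centralizer ({x} : Set G) := sup_le
            (fun c hc => mem_centralizer_singleton_iff.2 ((mem_centralizer_iff.1 hxZ.2) c hc))
            (fun c hc => mem_centralizer_singleton_iff.2 ((mem_centralizer_iff.1 hxZ'.2) c hc))
          exact (mem_centralizer_singleton_iff.1 (this (hsupK.ge hk))).symm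
        · -- some element of `A` normalizes `E` outside it
          obtain ⟨z, hzA, hzN, hzE⟩ : ∃ z ∈ A, z ∈ N ∧ z ∉ E := by
            have hlt : E < E ⊔ A := lt_of_le_of_ne le_sup_left fun e => hAE (le_sup_right.trans e.ge)
            have h := CfsgLib.Subnormalizer.lt_inf_normalizer (hG.to_subgroup (E ⊔ A)) hlt
            obtain ⟨y, hy, hyE⟩ := SetLike.exists_of_lt h
            obtain ⟨x, hx, a, ha, rfl⟩ :=
              Set.mem_mul.1 ((coe_mul_of_left_le_normalizer_right E A (hEK.trans hKA)).le hy.1)
            refine ⟨a, ha, ?_, fun haE => hyE (E.mul_mem hx haE)⟩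
            have := N.mul_mem (N.inv_mem (hEN hx)) hy.2
            rwa [inv_mul_cancel_left] at this
          obtain ⟨e, he, heD⟩ := SetLike.not_le_iff_exists.1 hED
          have hE0 : Nat.card E = p * Nat.card ↥(E ⊓ D) := by
            have := (CfsgLib.EABasic.card_sup_mul_card_inf_of_le_normalizer (hEK.trans hKD)).symm
            rw [hMED, hDcard] at this
            refine Nat.eq_of_mul_eq_mul_left (Nat.card_pos (α := ↥D)) ?_
            rw [mul_comm, this]; ring
          have hE1 : (E ⊓ D) ⊔ zpowers e = E := sandwich hE0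
            (lt_of_le_of_ne le_sup_left fun h => heD (h.ge (mem_sup_right (mem_zpowers e))).2)
            (sup_le inf_le_left (zpowers_le.2 he))
          have hN1 : E ⊔ zpowers z = N := sandwich hN
            (lt_of_le_of_ne le_sup_left fun h => hzE (h.ge (mem_sup_right (mem_zpowers z))))
            (sup_le hEN (zpowers_le.2 hzN))
          set w := ⁅z, e⁆ with hw
          have hwN' : w ∈ ⁅N, N⁆ := commutator_mem_commutator hzN (hEN he)
          have hwE : w ∈ E := commutator_le_of_card hEN le_rfl hN hwN'
          have hwM : ∀ k ∈ M, Commute w k := hMc hNM w hwN'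
          have hconj : ∀ a ∈ A, e * a * e⁻¹ ∈ A := fun a ha =>
            (Subgroup.mem_normalizer_iff.1 (hKA (hEK he)) a).1 ha
          have hwA : w ∈ A := by
            rw [hw, show ⁅z, e⁆ = z * (e * z⁻¹ * e⁻¹) by rw [commutatorElement_def]; group]
            exact A.mul_mem hzA (hconj _ (A.inv_mem hzA))
          have hez : e * z * e⁻¹ = w⁻¹ * z := by rw [hw, commutatorElement_def]; group
          have hzpow : ∀ a : ℤ, e * z ^ a * e⁻¹ = (w ^ a)⁻¹ * z ^ a := fun a => by
            have h1 : e * z ^ a * e⁻¹ = (e * z * e⁻¹) ^ a := (map_zpow (MulAut.conj e) z a)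
            rw [h1, hez, (((hAab w hwA z hzA)).inv_left).mul_zpow, inv_zpow]
          have hwp : w ^ p = 1 := by
            have hiter : ∀ j : ℕ, e ^ j * z * (e ^ j)⁻¹ = (w ^ j)⁻¹ * z := by
              intro j
              induction j with
              | zero => simp
              | succ j hj =>
                have hwe : Commute (w ^ j)⁻¹ e := ((hwM e (hEM he)).pow_left j).inv_left
                calc e ^ (j + 1) * z * (e ^ (j + 1))⁻¹ = e * (e ^ j * z * (e ^ j)⁻¹) * e⁻¹ := by
                      rw [pow_succ']; group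
                  _ = (w ^ j)⁻¹ * (e * z * e⁻¹) := by rw [hj, ← mul_assoc, ← hwe.eq]; group
                  _ = (w ^ (j + 1))⁻¹ * z := by rw [hez, pow_succ', mul_inv_rev]; group
            have hep : e ^ p ∈ D := by
              haveI hn : ((E ⊓ D).subgroupOf E).Normal := ⟨fun a ha b => by
                have hcomm : (b : G) * a * (b : G)⁻¹ = a := by
                  rw [(hab _ b.2 _ a.2).eq, mul_inv_cancel_right]
                show (b : G) * a * (b : G)⁻¹ ∈ E ⊓ D
                rw [hcomm]; exact ha⟩
              have hindex : ((E ⊓ D).subgroupOf E).index = p := by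
                have := ((E ⊓ D).subgroupOf E).card_mul_index
                rw [Nat.card_congr (subgroupOfEquivOfLe (inf_le_left : E ⊓ D ≤ E)).toEquiv, hE0] at this
                exact Nat.eq_of_mul_eq_mul_left Nat.card_pos (this.trans (mul_comm _ _))
              have h5 := Subgroup.pow_index_mem ((E ⊓ D).subgroupOf E) (⟨e, he⟩ : ↥E)
              rw [hindex] at h5
              exact (h5 : e ^ p ∈ E ⊓ D).2
            have h1 := hiter p
            have h2 : e ^ p * z * (e ^ p)⁻¹ = z := by
              rw [(mem_centralizer_iff.1 hzA.2 _ hep), mul_inv_cancel_right]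
            rw [h2] at h1
            exact inv_eq_one.1 (mul_right_cancel (h1.symm.trans (one_mul z).symm))
          set S := zpowers w with hS
          have hSK : S ≤ K := zpowers_le.2 (hEK hwE)
          have hKS : K ≤ normalizer (S : Set G) := by
            intro k hk
            refine mem_norm_of_cj_le (map_le_iff_le_comap.2 (zpowers_le.2 ?_))
            show k * w * k⁻¹ ∈ S
            set z' := k * z * k⁻¹ with hz'
            have hz'A : z' ∈ A := (Subgroup.mem_normalizer_iff.1 (hKA hk) z).1 hzA
            have hd : ⁅k, e⁆ ∈ D := hKKD (commutator_mem_commutator hk (hEK he))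
            have hz'eA : ⁅z', e⁆ ∈ A := by
              rw [show ⁅z', e⁆ = z' * (e * z'⁻¹ * e⁻¹) by rw [commutatorElement_def]; group]
              exact A.mul_mem hz'A (hconj _ (A.inv_mem hz'A))
            have hkw : k * w * k⁻¹ = ⁅z', e⁆ := by
              have h1 : k * w * k⁻¹ = ⁅z', ⁅k, e⁆ * e⁆ := by
                rw [hw, hz', commutatorElement_def, commutatorElement_def, commutatorElement_def]; group
              rw [h1, show ⁅z', ⁅k, e⁆ * e⁆ = ⁅z', ⁅k, e⁆⁆ * (⁅k, e⁆ * ⁅z', e⁆ * ⁅k, e⁆⁻¹) by
                rw [commutatorElement_def z' (⁅k, e⁆ * e), commutatorElement_def z' e,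
                  commutatorElement_def z' ⁅k, e⁆]; group]
              rw [commutatorElement_eq_one_iff_mul_comm.2 ((mem_centralizer_iff.1 hz'A.2 _ hd)).symm,
                one_mul, mem_centralizer_iff.1 hz'eA.2 _ hd, mul_inv_cancel_right]
            have hzeE : ⁅z', e⁆ ∈ E := by
              refine hC (mem_centralizer_iff.2 fun a ha => ?_)
              rw [← hkw]
              have hk' : k⁻¹ * a * k ∈ M := by
                have := (Subgroup.mem_normalizer_iff.1 (inv_mem (hKM hk)) a).1 (hEM ha)
                rwa [inv_inv] at this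
              calc a * (k * w * k⁻¹) = k * (k⁻¹ * a * k * w) * k⁻¹ := by group
                _ = k * (w * (k⁻¹ * a * k)) * k⁻¹ := by rw [(hwM _ hk').eq]
                _ = k * w * k⁻¹ * a := by group
            have hz'N : z' ∈ N := by
              refine mem_norm_of_cj_le ?_
              refine (map_mono hE1.ge).trans ?_
              rw [Subgroup.map_sup, MonoidHom.map_zpowers]
              refine sup_le (map_le_iff_le_comap.2 fun a ha => ?_) (zpowers_le.2 ?_)
              · show z' * a * z'⁻¹ ∈ E
                rw [← mem_centralizer_iff.1 hz'A.2 a ha.2, mul_inv_cancel_right]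
                exact ha.1
              · show z' * e * z'⁻¹ ∈ E
                rw [show z' * e * z'⁻¹ = ⁅z', e⁆ * e by rw [commutatorElement_def]; group]
                exact E.mul_mem hzeE he
            obtain ⟨x, hx, y, hy, hxy⟩ := Set.mem_mul.1 ((coe_mul_of_right_le_normalizer_left E
              (zpowers z) (zpowers_le.2 hzN)).le (hN1.ge hz'N))
            obtain ⟨a, rfl⟩ := mem_zpowers_iff.1 hy
            refine mem_zpowers_iff.2 ⟨a, ?_⟩
            rw [hkw, ← hxy]
            have hza : ⁅z ^ a, e⁆ = w ^ a := by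
              rw [show ⁅z ^ a, e⁆ = z ^ a * (e * z ^ a * e⁻¹)⁻¹ by rw [commutatorElement_def]; group,
                hzpow a]
              group
            rw [show ⁅x * z ^ a, e⁆ = x * ⁅z ^ a, e⁆ * x⁻¹ * ⁅x, e⁆ by
                rw [commutatorElement_def, commutatorElement_def, commutatorElement_def]; group,
              commutatorElement_eq_one_iff_mul_comm.2 (hab x hx e he), mul_one, hza,
              (hab x hx _ (E.zpow_mem hwE a)).eq, mul_inv_cancel_right]
          have hcard : Nat.card S ∣ p := by
            rw [hS, Nat.card_zpowers]; exact orderOf_dvd_of_pow_eq_one hwp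
          have hcen := central_of_card_le (hG.to_subgroup K) hSK hKS hcard
          have hNS : ⁅N, N⁆ ≤ S := by
            have hEE : ⁅E, E⁆ ≤ S := commutator_le.2 fun a ha b hb => by
              rw [commutatorElement_eq_one_iff_mul_comm.2 (hab a ha b hb)]; exact S.one_mem
            have hzz : ⁅zpowers z, zpowers z⁆ ≤ S := commutator_le.2 fun a ha b hb => by
              obtain ⟨i, rfl⟩ := mem_zpowers_iff.1 ha
              obtain ⟨j, rfl⟩ := mem_zpowers_iff.1 hb
              rw [commutatorElement_eq_one_iff_mul_comm.2 ((Commute.refl z).zpow_zpow i j)]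
              exact S.one_mem
            have hEz : ⁅E, zpowers z⁆ ≤ S := commutator_le.2 fun a ha b hb => by
              obtain ⟨i, rfl⟩ := mem_zpowers_iff.1 hb
              rw [← commutatorElement_inv]
              refine S.inv_mem ?_
              have hU : (E ⊓ D) ⊔ zpowers e ≤ centralizer ({⁅z ^ i, e⁆} : Set G) := hE1.le.trans fun c hc =>
                mem_centralizer_singleton_iff.2 (by
                  rw [show ⁅z ^ i, e⁆ = w ^ i by
                    rw [show ⁅z ^ i, e⁆ = z ^ i * (e * z ^ i * e⁻¹)⁻¹ by rw [commutatorElement_def]; group,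
                      hzpow i]
                    group]
                  exact ((hwM c (hEM hc)).zpow_left i).symm)
              obtain ⟨c, hc, d, hd, rfl⟩ := Set.mem_mul.1 ((coe_mul_of_right_le_normalizer_left (E ⊓ D)
                (zpowers e) (zpowers_le.2 (mem_norm_of_cj_le (by
                  rintro _ ⟨q, hq, rfl⟩
                  simp only [MulEquiv.coe_toMonoidHom, MulAut.conj_apply]
                  rw [(hab e he q hq.1).eq, mul_inv_cancel_right]
                  exact hq)))).le (hE1.ge ha))
              obtain ⟨j, rfl⟩ := mem_zpowers_iff.1 hd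
              have hzc : Commute (z ^ i) c := Commute.zpow_left ((mem_centralizer_iff.1 hzA.2) c hc.2).symm i
              rw [show ⁅z ^ i, c * e ^ j⁆ = ⁅z ^ i, c⁆ * (c * ⁅z ^ i, e ^ j⁆ * c⁻¹) by
                rw [commutatorElement_def, commutatorElement_def, commutatorElement_def]; group,
                commutatorElement_eq_one_iff_mul_comm.2 hzc, one_mul]
              let U : Subgroup G := (E.subgroupOf E).map E.subtype
              have hpow : ∀ j : ℤ, ⁅z ^ i, e ^ j⁆ = (w ^ i) ^ j := by
                intro j
                have hwe : Commute (w ^ i) e := (hwM e (hEM he)).zpow_left i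
                have h1 : z ^ i * e * (z ^ i)⁻¹ = w ^ i * e := by
                  have := hzpow i
                  rw [show z ^ i * e * (z ^ i)⁻¹ = (z ^ i * (e * z ^ i * e⁻¹)⁻¹) * e by group, this]
                  group
                have h2 : z ^ i * e ^ j * (z ^ i)⁻¹ = (z ^ i * e * (z ^ i)⁻¹) ^ j :=
                  map_zpow (MulAut.conj (z ^ i)) e j
                rw [commutatorElement_def, h2, h1, hwe.mul_zpow, mul_inv_cancel_right]
              rw [hpow, (hab c hc.1 _ (E.zpow_mem (E.zpow_mem hwE i) j)).eq, mul_inv_cancel_right]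
              exact S.zpow_mem (S.zpow_mem (mem_zpowers w) i) j
            refine (commutator_mono hN1.ge hN1.ge).trans (commutator_sup_le hEE hzz hEz ?_)
            rw [hN1]
            exact hNK.trans hKS
          exact fun x hx => hcen x (hNS hx)
      -- the quotient
      set H := normalizer (K : Set G) with hHdef
      have hKH : K ≤ H := le_normalizer
      set ZK := K ⊓ centralizer (K : Set G) with hZK
      have hZKE : ZK ≤ E := fun x hx => hC (centralizer_le hEK hx.2)
      haveI hZn : (ZK.subgroupOf H).Normal := (normal_subgroupOf_iff_le_normalizer (inf_le_left.trans hKH)).2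
        fun x hx => mem_norm_of_cj_le (by
        rintro _ ⟨a, ha, rfl⟩
        refine ⟨(Subgroup.mem_normalizer_iff.1 hx a).1 ha.1, mem_centralizer_iff.2 fun b hb => ?_⟩
        have hb' : x⁻¹ * b * x ∈ K := by
          have := (Subgroup.mem_normalizer_iff.1 (inv_mem hx) b).1 hb
          rwa [inv_inv] at this
        have := mem_centralizer_iff.1 ha.2 _ hb'
        simp only [MulEquiv.coe_toMonoidHom, MulAut.conj_apply]
        calc b * (x * a * x⁻¹) = x * (x⁻¹ * b * x * a) * x⁻¹ := by group
          _ = x * (a * (x⁻¹ * b * x)) * x⁻¹ := by rw [this]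
          _ = x * a * x⁻¹ * b := by group)
      set R := normalClosure ((⁅N, N⁆.subgroupOf H : Subgroup ↥H) : Set ↥H) with hR
      have hRZ : R ≤ ZK.subgroupOf H := normalClosure_le_normal fun x hx =>
        (⟨(commutator_le_of_card hEN le_rfl hN).trans hEK hx,
          mem_centralizer_iff.2 fun b hb => (hAN' _ hx b hb).symm⟩ : (x : G) ∈ ZK)
      set f := QuotientGroup.mk' R with hfdef
      have hf : Function.Surjective f := QuotientGroup.mk'_surjective R
      set NH := N.subgroupOf H with hNH
      set KH := K.subgroupOf H with hKH'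
      have hRE : R ≤ E.subgroupOf H := hRZ.trans (comap_mono hZKE)
      have hRN : R ≤ NH := hRE.trans (comap_mono hEN)
      have hRK : R ≤ KH := hRN.trans (comap_mono hNK)
      have hcardQ : ∀ X : Subgroup ↥H, R ≤ X → Nat.card X = Nat.card ↥(X.map f) * Nat.card R := by
        intro X hX
        have h1 := (f.domRestrict X).ker.card_mul_index
        rw [index_ker] at h1
        have h2 : (f.domRestrict X).range = X.map f := f.domRestrict_range X
        rw [h2] at h1
        have h3 : Nat.card (f.domRestrict X).ker = Nat.card R := by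
          rw [MonoidHom.ker_domRestrict, hfdef, QuotientGroup.ker_mk']
          exact Nat.card_congr (subgroupOfEquivOfLe hX).toEquiv
        rw [← h1, h3, mul_comm]
      have hsOf : ∀ X : Subgroup G, X ≤ H → Nat.card ↥(X.subgroupOf H) = Nat.card X := fun X hX =>
        Nat.card_congr (subgroupOfEquivOfLe hX).toEquiv
      set E' := NH.map f with hE'
      have hE'c : E'.comap f = NH := by
        rw [hE', comap_map_eq, hfdef, QuotientGroup.ker_mk', sup_eq_left.2 hRN]
      have hNNK : normalizer (N : Set G) ≤ K := by
        have hNK' : N < K := lt_of_le_of_ne hNK (Ne.symm hKN)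
        have hltN : Nat.card N < Nat.card K := by
          by_contra hge
          exact hNK'.ne (eq_of_le_of_card_ge hNK (not_lt.1 hge))
        obtain ⟨hNa, -, -⟩ := ihK _ hltN N rfl hEN (hKlt N hEN hNK')
        have h := CfsgLib.Subnormalizer.lt_inf_normalizer (hG.to_subgroup K) hNK'
        exact (sandwich hNa h inf_le_right).ge.trans inf_le_left
      have hE'norm : Nat.card ↥(normalizer (E' : Set (↥H ⧸ R))) = p * Nat.card E' := by
        have hle : NH ≤ normalizer (NH : Set ↥H) := le_normalizer
        have h1 : (normalizer (E' : Set (↥H ⧸ R))).comap f = (normalizer (N : Set G)).subgroupOf H := by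
          rw [comap_normalizer_eq_of_surjective _ hf, hE'c]
          exact (subgroupOf_normalizer_eq (hNK.trans hKH)).symm
        have hltN : Nat.card N < Nat.card K := by
          by_contra hge
          exact hKN (eq_of_le_of_card_ge hNK (not_lt.1 hge)).symm
        obtain ⟨hNa, -, -⟩ := ihK _ hltN N rfl hEN (hKlt N hEN (lt_of_le_of_ne hNK (Ne.symm hKN)))
        have h2 := hcardQ _ (hRN.trans (show NH ≤ (normalizer (E' : Set (↥H ⧸ R))).comap f from
          h1 ▸ comap_mono le_normalizer))
        rw [map_comap_eq_self_of_surjective hf, h1, hsOf _ (hNNK.trans hKH), hNa] at h2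
        have h3 := hcardQ NH hRN
        rw [hsOf N (hNK.trans hKH)] at h3
        refine Nat.eq_of_mul_eq_mul_right (Nat.card_pos (α := ↥R)) ?_
        rw [← h2, h3, mul_assoc]
      have hE'ab : ∀ a ∈ E', ∀ b ∈ E', Commute a b := by
        rintro _ ⟨a, ha, rfl⟩ _ ⟨b, hb, rfl⟩
        rw [commute_iff_eq, ← commutatorElement_eq_one_iff_mul_comm, ← map_commutatorElement, hfdef,
          QuotientGroup.mk'_apply, QuotientGroup.eq_one_iff]
        refine subset_normalClosure ?_
        show ((⁅a, b⁆ : ↥H) : G) ∈ ⁅N, N⁆
        rw [show ((⁅a, b⁆ : ↥H) : G) = ⁅(a : G), (b : G)⁆ from map_commutatorElement H.subtype a b]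
        exact commutator_mem_commutator ha hb
      have hE'C : centralizer (E' : Set (↥H ⧸ R)) ≤ E' := by
        intro q hq
        obtain ⟨x, rfl⟩ := hf q
        refine ⟨x, ?_, rfl⟩
        show (x : G) ∈ N
        refine mem_norm_of_cj_le ?_
        rintro _ ⟨a, ha, rfl⟩
        have haH : a ∈ H := hKH (hEK ha)
        have hcomm : ⁅x, (⟨a, haH⟩ : ↥H)⁆ ∈ R := by
          rw [← QuotientGroup.eq_one_iff, ← QuotientGroup.mk'_apply, map_commutatorElement,
            commutatorElement_eq_one_iff_mul_comm]
          exact ((mem_centralizer_iff.1 hq) _ ⟨⟨a, haH⟩, (hEN ha : a ∈ N), rfl⟩).symm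
        have h1 : ((⁅x, (⟨a, haH⟩ : ↥H)⁆ : ↥H) : G) ∈ E := hRE hcomm
        rw [show ((⁅x, (⟨a, haH⟩ : ↥H)⁆ : ↥H) : G) = ⁅(x : G), a⁆ from map_commutatorElement H.subtype _ _] at h1
        simp only [MulEquiv.coe_toMonoidHom, MulAut.conj_apply]
        rw [show (x : G) * a * (x : G)⁻¹ = ⁅(x : G), a⁆ * a by rw [commutatorElement_def]; group]
        exact E.mul_mem h1 ha
      have hlt : E'.index < E.index := by
        have h1 : E'.index = NH.index := by rw [← hE'c, index_comap_of_surjective _ hf]
        rw [h1]
        have h2 := NH.card_mul_index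
        rw [hsOf N (hNK.trans hKH), hN] at h2
        have h3 := E.card_mul_index
        have h4 : Nat.card ↥H ≤ Nat.card G := Nat.le_of_dvd Nat.card_pos (card_subgroup_dvd_card H)
        have h5 : 0 < NH.index := Nat.pos_of_ne_zero index_ne_zero_of_finite
        have h6 : 0 < Nat.card E := Nat.card_pos
        have h7 := hp.two_le
        by_contra hge
        nlinarith [Nat.mul_le_mul_left (Nat.card E) (not_lt.1 hge)]
      have hQ : IsPGroup p (↥H ⧸ R) := (hG.to_subgroup H).to_quotient R
      have htower := ih _ hlt (↥H ⧸ R) E' rfl hQ hE'ab hE'C hE'norm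
      set K' := KH.map f with hK'
      have hK'c : K'.comap f = KH := by
        rw [hK', comap_map_eq, hfdef, QuotientGroup.ker_mk', sup_eq_left.2 hRK]
      have hK'ne : K' ≠ ⊤ := by
        intro e
        rw [e, comap_top] at hK'c
        exact hgK (show (⟨g, hgN⟩ : ↥H) ∈ KH from hK'c ▸ mem_top _)
      obtain ⟨ha, hb, -⟩ := htower K' (map_mono (comap_mono hNK)) hK'ne
      have hKn : normalizer (K' : Set (↥H ⧸ R)) = ⊤ := by
        haveI : KH.Normal := normal_in_normalizer
        haveI : K'.Normal := Normal.map inferInstance f hf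
        exact normalizer_eq_top K'
      have hacard : Nat.card ↥H = p * Nat.card K := by
        rw [hKn, card_top] at ha
        have h1 := hcardQ KH hRK
        rw [hsOf K hKH] at h1
        rw [card_eq_card_quotient_mul_card_subgroup R, ha, h1, mul_assoc]
      refine ⟨hacard, fun i hi => ?_, fun _ => hAN'⟩
      cases i with
      | zero => exact absurd (eq_of_le_of_card_ge hEK (by rw [hi, pow_zero, mul_one])) (fun e => hKE e.symm)
      | succ i =>
        have hcK' : Nat.card K' = Nat.card E' * p ^ i := by
          have h1 := hcardQ KH hRK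
          have h2 := hcardQ NH hRN
          rw [hsOf K hKH, hi] at h1
          rw [hsOf N (hNK.trans hKH), hN] at h2
          refine Nat.eq_of_mul_eq_mul_right (Nat.card_pos (α := ↥R)) ?_
          rw [← h1, mul_right_comm, ← h2, pow_succ]; ring
        have h0 := hb i hcK'
        have hmap : ∀ {A B : Type u} [Group A] [Group B] (φ : A →* B) (S : Subgroup A) (j : ℕ),
            (S.lowerCentralSeries j).map φ = (S.map φ).lowerCentralSeries j := by
          intro A B _ _ φ S j
          induction j with
          | zero => rfl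
          | succ j hj => rw [Subgroup.lowerCentralSeries_succ, Subgroup.lowerCentralSeries_succ, map_commutator, hj]
        rw [hK', ← hmap f KH (i + 1), Subgroup.map_eq_bot_iff, hfdef, QuotientGroup.ker_mk'] at h0
        have h1 := map_mono (f := H.subtype) (h0.trans hRZ)
        rw [hmap H.subtype KH (i + 1), map_subgroupOf_eq_of_le hKH,
          map_subgroupOf_eq_of_le (inf_le_left.trans hKH : ZK ≤ H)] at h1
        rw [Subgroup.lowerCentralSeries_succ, commutator_eq_bot_iff_le_centralizer]
        exact h1.trans inf_le_right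

end CfsgLib.NormTower
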