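import Cfsg.Agent.Lib.PGroup.HallHighmanB
import Cfsg.Agent.Lib.PGroup.PqWeights
import Cfsg.Agent.Lib.CFun.OddOperatorWeights
import Mathlib.GroupTheory.Nilpotent

/-!
# An operator of prime order with one fixed vector acting freely on a nilpotent group

If `a` fixes only the identity of the nilpotent group `K` it normalizes and at most a line of
vectors, then the image of `K` is abelian; with no fixed vectors the image is trivial.
-/

set_option autoImplicit false
set_option linter.style.haveILetI false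
set_option linter.unusedSectionVars false

open Subgroup
open scoped commutatorElement

namespace CfsgLib.PGroup.OneFixedFrob

universe u v w

variable {H : Type u} [Group H] {k : Type v} [Field k] [IsAlgClosed k] {W : Type w} [AddCommGroup W]
  [Module k W] [FiniteDimensional k W] (ρ : H →* Module.End k W)

/-- The central part of a nilpotent group with nontrivial image has nontrivial image. -/
theorem exists_central {K : Subgroup H} (hK : Group.IsNilpotent K) (hne : ∃ x ∈ K, ρ x ≠ 1) :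
    ∃ y ∈ centralIn ρ K, ρ y ≠ 1 := by
  classical
  obtain ⟨n, hn⟩ := Subgroup.nilpotent_iff_lowerCentralSeries.1 hK
  have hex : ∃ i, ∀ x ∈ (⊤ : Subgroup K).lowerCentralSeries i, ρ (x : H) = 1 :=
    ⟨n, fun x hx => by rw [hn, mem_bot] at hx; rw [hx, coe_one, map_one]⟩
  have hspec := Nat.find_spec hex
  set i := Nat.find hex with hi
  rcases Nat.eq_zero_or_pos i with h0 | hpos
  · obtain ⟨x, hx, hx1⟩ := hne
    exact absurd (hspec ⟨x, hx⟩ (by rw [h0, Subgroup.lowerCentralSeries_zero]; exact mem_top _)) hx1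
  obtain ⟨j, hj⟩ : ∃ j, i = j + 1 := ⟨i - 1, by omega⟩
  have hmin := Nat.find_min hex (show j < i by omega)
  push Not at hmin
  obtain ⟨x, hx, hx1⟩ := hmin
  refine ⟨x, ⟨x.2, fun z hz => ?_⟩, hx1⟩
  have h1 : ρ ((⁅x, (⟨z, hz⟩ : K)⁆ : K) : H) = 1 := hspec _ (by
    rw [hj, Subgroup.lowerCentralSeries_succ]
    exact commutator_mem_commutator hx (mem_top _))
  rw [show (x : H) * z = ((⁅x, (⟨z, hz⟩ : K)⁆ : K) : H) * (z * x) by simp [commutatorElement_def, mul_assoc],
    map_mul, h1, one_mul]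

variable [Finite H] {K : Subgroup H} {a : H} {r : ℕ} (hr : r.Prime) (har : a ^ r = 1)
  (haK : a ∈ normalizer (K : Set H)) (hfpf : ∀ x ∈ K, a * x * a⁻¹ = x → x = 1)
  (hK : Group.IsNilpotent K) (hKk : (Nat.card K : k) ≠ 0)

include hr har haK hfpf hK hKk

/-- A character fixed by `a` is trivial. -/
theorem char_eq_one (haY : a ∈ normalizer (centralIn ρ K : Set H)) {χ : centralIn ρ K →* kˣ}
    (h : twist (centralIn ρ K) haY χ = χ) : χ = 1 := by
  classical
  set Y := centralIn ρ K
  let φ : Y → Y := fun x => x⁻¹ * ⟨a⁻¹ * x * a, (mem_normalizer_iff''.1 haY _).1 x.2⟩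
  have hinj : Function.Injective φ := by
    intro x y e
    have e1 : (x : H)⁻¹ * (a⁻¹ * x * a) = (y : H)⁻¹ * (a⁻¹ * y * a) := congrArg Subtype.val e
    refine Subtype.ext ?_
    have e2 : a * ((y : H) * (x : H)⁻¹) * a⁻¹ = (y : H) * (x : H)⁻¹ := by
      calc a * ((y : H) * (x : H)⁻¹) * a⁻¹
          = a * ((y : H) * ((x : H)⁻¹ * (a⁻¹ * x * a)) * (a⁻¹ * (x : H)⁻¹ * a)) * a⁻¹ := by group
        _ = (y : H) * (x : H)⁻¹ := by rw [e1]; group
    exact (mul_inv_eq_one.1 (hfpf _ (mul_mem y.2.1 (inv_mem x.2.1)) e2)).symm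
  have hsurj := Finite.injective_iff_surjective.1 hinj
  refine MonoidHom.ext fun z => ?_
  obtain ⟨x, rfl⟩ := hsurj z
  have e := DFunLike.congr_fun h x
  rw [twist_apply] at e
  rw [MonoidHom.one_apply, map_mul, map_inv, e, inv_mul_cancel]

theorem card_central_ne_zero [Fintype (centralIn ρ K)] : (Fintype.card (centralIn ρ K) : k) ≠ 0 := by
  intro e
  obtain ⟨d, hd⟩ := card_dvd_of_le (centralIn_le ρ K)
  rw [← Nat.card_eq_fintype_card] at e
  exact hKk (by rw [hd, Nat.cast_mul, e, zero_mul])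

/-- With no fixed vector the image of `K` is trivial. -/
theorem trivial_of_noFixed (hfix : ∀ w, ρ a w = w → w = 0) : ∀ x ∈ K, ρ x = 1 := by
  classical
  by_contra! hne
  obtain ⟨y, hy, hy1⟩ := exists_central ρ hK hne
  set Y := centralIn ρ K
  haveI : Fintype Y := Fintype.ofFinite Y
  have haY : a ∈ normalizer (Y : Set H) := mem_normalizer_centralIn ρ haK
  have hYi : ImgComm ρ Y := fun u hu z hz => hu.2 z hz.1
  have hYk := card_central_ne_zero ρ hr har haK hfpf hK hKk
  refine hy1 (sub_eq_zero.1 (eq_zero_of_forall_eigen ρ hYi hYk _ (fun z hz w => ?_) fun χ f hf => ?_))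
  · rw [LinearMap.sub_apply, LinearMap.sub_apply, Module.End.one_apply, Module.End.one_apply, map_sub,
      ← rep_mul_apply, ← rep_mul_apply, hYi y hy z hz]
  · by_cases hf0 : f = 0
    · rw [hf0, map_zero]
    have h1 := char_eq_one ρ hr har haK hfpf hK hKk haY
      (twist_eq_self_of_noFixed ρ hYk hr har haY hfix hf hf0)
    rw [LinearMap.sub_apply, Module.End.one_apply, show ρ y f = _ from hf ⟨y, hy⟩, h1,
      MonoidHom.one_apply, Units.val_one, one_smul, sub_self]

/-- With at most a line of fixed vectors the image of `K` is abelian. -/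
theorem comm_of_oneFixed (hone : CfsgLib.CFun.OpW.OneFixed ρ a) :
    ∀ x ∈ K, ∀ y ∈ K, ρ (x * y) = ρ (y * x) := by
  classical
  by_cases htriv : ∀ x ∈ K, ρ x = 1
  · intro x hx y hy; rw [map_mul, map_mul, htriv x hx, htriv y hy]
  push Not at htriv
  obtain ⟨y₀, hy₀, hy₀1⟩ := exists_central ρ hK htriv
  set Y := centralIn ρ K
  haveI : Fintype Y := Fintype.ofFinite Y
  have haY : a ∈ normalizer (Y : Set H) := mem_normalizer_centralIn ρ haK
  have hpow : ∀ i : ℕ, a ^ i ∈ normalizer (Y : Set H) := fun i => pow_mem haY i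
  have hYi : ImgComm ρ Y := fun u hu z hz => hu.2 z hz.1
  have hYk := card_central_ne_zero ρ hr har haK hfpf hK hKk
  let s : W → W := fun f => ∑ i ∈ Finset.range r, ρ (a ^ i) f
  have hs : ∀ f, ρ a (s f) = s f := by
    intro f
    have e1 : ρ a (s f) = ∑ i ∈ Finset.range r, ρ (a ^ (i + 1)) f := by
      simp only [s, map_sum]
      exact Finset.sum_congr rfl fun i _ => by rw [← rep_mul_apply, pow_succ']
    have e2 := Finset.sum_range_succ' (fun i => ρ (a ^ i) f) r
    rw [Finset.sum_range_succ, har, pow_zero, ← e1, add_left_inj] at e2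
    exact e2.symm
  have hproj : ∀ (χ : Y →* kˣ), χ ≠ 1 → ∀ f, IsEigen ρ Y χ f →
      eigProj ρ χ (s f) = (Fintype.card Y : k) • f := by
    intro χ hχ f hf
    simp only [s, map_sum]
    rw [Finset.sum_eq_single 0 (fun i hi hi0 => ?_) (fun h => absurd (Finset.mem_range.2 hr.pos) h),
      pow_zero, map_one, Module.End.one_apply, eigProj_self ρ hf]
    refine eigProj_ne ρ (CfsgLib.PGroup.IsEigen.map ρ hf (hpow i)) fun e => hχ ?_
    have hmem : a ^ i ∈ charStab Y χ := ⟨hpow i, e.symm⟩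
    have hco : i.Coprime (orderOf a) :=
      ((Nat.coprime_of_lt_prime hi0 (Finset.mem_range.1 hi) hr).symm).coprime_dvd_right
        (orderOf_dvd_of_pow_eq_one har)
    obtain ⟨d, hd⟩ := exists_pow_eq_self_of_coprime hco
    have hamem : a ∈ charStab Y χ := hd ▸ pow_mem hmem d
    exact char_eq_one ρ hr har haK hfpf hK hKk haY ((mem_charStab haY).1 hamem)
  -- the eigenspaces of nontrivial characters are lines
  have hline : ∀ (χ : Y →* kˣ), χ ≠ 1 → ∀ f f', IsEigen ρ Y χ f → IsEigen ρ Y χ f' → f ≠ 0 →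
      ∃ c : k, f' = c • f := by
    intro χ hχ f f' hf hf' hf0
    have hs0 : s f ≠ 0 := fun e => hf0 ((smul_eq_zero.1 ((hproj χ hχ f hf).symm.trans
      (by rw [e, map_zero]))).resolve_left hYk)
    obtain ⟨c, hc⟩ := hone _ _ (hs f) (hs f') hs0
    refine ⟨c, smul_right_injective W hYk ?_⟩
    have e := congrArg (eigProj ρ χ) hc
    rw [map_smul, hproj χ hχ f hf, hproj χ hχ f' hf'] at e
    exact e.trans (smul_comm c _ f)
  -- some nontrivial character occurs
  obtain ⟨χ₀, f₀, hχ₀, hf₀, hf₀0⟩ : ∃ (χ : Y →* kˣ) (f : W), χ ≠ 1 ∧ IsEigen ρ Y χ f ∧ f ≠ 0 := by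
    by_contra hcon
    refine hy₀1 (sub_eq_zero.1 (eq_zero_of_forall_eigen ρ hYi hYk _ (fun z hz w => ?_) fun χ f hf => ?_))
    · rw [LinearMap.sub_apply, LinearMap.sub_apply, Module.End.one_apply, Module.End.one_apply, map_sub,
        ← rep_mul_apply, ← rep_mul_apply, hYi y₀ hy₀ z hz]
    · by_cases hf0 : f = 0
      · rw [hf0, map_zero]
      by_cases hχ : χ = 1
      · rw [LinearMap.sub_apply, Module.End.one_apply, show ρ y₀ f = _ from hf ⟨y₀, hy₀⟩, hχ,
          MonoidHom.one_apply, Units.val_one, one_smul, sub_self]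
      · exact absurd ⟨χ, f, hχ, hf, hf0⟩ hcon
  -- `K` acts trivially on the eigenspace of the trivial character
  let U : Submodule k W :=
    { carrier := {v | IsEigen ρ Y 1 v}
      add_mem' := fun {u v} hu hv z => by rw [map_add, hu z, hv z, smul_add]
      zero_mem' := fun z => by rw [map_zero, smul_zero]
      smul_mem' := fun c v hv z => by rw [map_smul, hv z, smul_comm] }
  have hKeig : ∀ x ∈ K, ∀ (χ : Y →* kˣ) f, IsEigen ρ Y χ f → IsEigen ρ Y χ (ρ x f) :=
    fun x hx χ f hf z => by rw [← rep_mul_apply, z.2.2 x hx, rep_mul_apply, hf z, map_smul]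
  have haU : ∀ v ∈ U, ρ a v ∈ U := by
    intro v hv
    have h := CfsgLib.PGroup.IsEigen.map ρ (show IsEigen ρ Y 1 v from hv) haY
    intro z
    rw [h z, twist_apply]
    rfl
  set S := K ⊔ zpowers a with hS
  have hSU : ∀ h ∈ S, ∀ v ∈ U, ρ h v ∈ U := by
    intro h hh
    let T : Subgroup H :=
      { carrier := {h | (∀ v ∈ U, ρ h v ∈ U) ∧ ∀ v ∈ U, ρ h⁻¹ v ∈ U}
        one_mem' := ⟨fun v hv => by simpa using hv, fun v hv => by simpa using hv⟩
        mul_mem' := fun {g h} hg hh => ⟨fun v hv => by rw [rep_mul_apply]; exact hg.1 _ (hh.1 v hv),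
          fun v hv => by rw [mul_inv_rev, rep_mul_apply]; exact hh.2 _ (hg.2 v hv)⟩
        inv_mem' := fun {g} hg => ⟨hg.2, by simpa using hg.1⟩ }
    have hle : S ≤ T := by
      refine sup_le (fun x hx => ⟨fun v hv => hKeig x hx 1 v hv, fun v hv => hKeig _ (inv_mem hx) 1 v hv⟩) ?_
      rw [zpowers_le]
      refine ⟨haU, fun v hv => ?_⟩
      have e : a⁻¹ = a ^ (r - 1) := inv_eq_of_mul_eq_one_right (by
        rw [← pow_succ', Nat.sub_add_cancel hr.one_le, har])
      rw [e]
      generalize r - 1 = m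
      induction m with
      | zero => simpa using hv
      | succ m ih => rw [pow_succ', rep_mul_apply]; exact haU _ ih
    exact (hle hh).1
  have hU : ∀ x ∈ K, ∀ v ∈ U, ρ x v = v := by
    intro x hx v hv
    let ρ' := subRep ρ U S hSU
    haveI : Group.IsNilpotent K := hK
    have h1 := trivial_of_noFixed (k := k) (W := U) (H := S) ρ' (K := K.subgroupOf S)
      (a := ⟨a, mem_sup_right (mem_zpowers a)⟩) hr (Subtype.ext har)
      (mem_normalizer_iff.2 fun z => mem_normalizer_iff.1 haK (z : H))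
      (fun z hz e => Subtype.ext (hfpf z hz (congrArg Subtype.val e)))
      (Group.nilpotent_of_surjective (subgroupOfEquivOfLe (le_sup_left : K ≤ S)).symm.toMonoidHom
        (subgroupOfEquivOfLe (le_sup_left : K ≤ S)).symm.surjective)
      (by rw [Nat.card_congr (subgroupOfEquivOfLe (le_sup_left : K ≤ S)).toEquiv]; exact hKk)
      (fun w hw => ?_) ⟨x, mem_sup_left hx⟩ hx
    · exact congrArg Subtype.val (LinearMap.congr_fun h1 ⟨v, hv⟩)
    · have hw' : ρ a (w : W) = (w : W) := congrArg Subtype.val hw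
      have hs0 : s f₀ ≠ 0 := fun e => hf₀0 ((smul_eq_zero.1 ((hproj χ₀ hχ₀ f₀ hf₀).symm.trans
        (by rw [e, map_zero]))).resolve_left hYk)
      obtain ⟨c, hc⟩ := hone _ _ (hs f₀) hw' hs0
      have e := congrArg (eigProj ρ χ₀) hc
      rw [eigProj_ne ρ (show IsEigen ρ Y 1 (w : W) from w.2) hχ₀, map_smul, hproj χ₀ hχ₀ f₀ hf₀] at e
      refine Subtype.ext ?_
      rcases smul_eq_zero.1 e.symm with h2 | h2
      · rw [hc, h2, zero_smul]; rfl
      · exact absurd ((smul_eq_zero.1 h2).resolve_left hYk) hf₀0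
  intro x hx y hy
  refine sub_eq_zero.1 (eq_zero_of_forall_eigen ρ hYi hYk _ (fun z hz w => ?_) fun χ f hf => ?_)
  · rw [LinearMap.sub_apply, LinearMap.sub_apply, map_sub, ← rep_mul_apply, ← rep_mul_apply,
      ← rep_mul_apply, ← rep_mul_apply, hz.2 _ (mul_mem hx hy), hz.2 _ (mul_mem hy hx)]
  · by_cases hf0 : f = 0
    · rw [hf0, map_zero]
    rw [LinearMap.sub_apply, rep_mul_apply, rep_mul_apply, sub_eq_zero]
    by_cases hχ : χ = 1
    · subst hχ
      rw [hU y hy f hf, hU x hx f hf, hU y hy f hf]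
    · obtain ⟨c, hc⟩ := hline χ hχ f _ hf (hKeig x hx χ f hf) hf0
      obtain ⟨d, hd⟩ := hline χ hχ f _ hf (hKeig y hy χ f hf) hf0
      rw [hd, map_smul, hc, map_smul, hd, smul_comm]

end CfsgLib.PGroup.OneFixedFrob
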