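import Cfsg.Agent.Lib.PGroup.OrbitSylow
import Cfsg.Agent.Lib.Invol.CyclicNormalAbelian
import Cfsg.Agent.Lib.Invol.DihedralSubgroup
import Cfsg.Agent.Lib.Fusion.Tate
import Mathlib.GroupTheory.Solvable
import Mathlib.Algebra.Ring.Subring.Basic
import Mathlib.Tactic.LinearCombination

/-!
# Orbits of a Sylow 2-subgroup without noncyclic normal abelian subgroups

In the situation of `CfsgLib.PGroup.Orbit.Setup` with `r = 2`, the Sylow subgroup cannot have all
its normal abelian subgroups cyclic. The quaternion case is settled through the norm form of the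
commutative ring generated by a cyclic subgroup of index two.
-/

set_option autoImplicit false
set_option linter.style.haveILetI false
set_option linter.unusedSectionVars false

namespace CfsgLib.PGroup.Orbit

open Subgroup
open scoped IsMulCommutative

universe u v

/-! ### The norm form -/

/-- An additive map of odd order fixing `1` and preserving the norm up to sign is the identity. -/
theorem norm_rigid {A : Type*} [CommRing A] (hdom : ∀ a b : A, a * b = 0 → a = 0 ∨ b = 0)
    (h2 : (2 : A) ≠ 0) (h3 : (3 : A) ≠ 0) (σ : A →+* A) (hσ : ∀ a, σ (σ a) = a) {e : A}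
    (he : σ e = -e) (he0 : e ≠ 0) (G : A →+ A) (hsurj : Function.Surjective G) (hG1 : G 1 = 1)
    {n : ℕ} (hn : Odd n) (hGn : ∀ a, (G^[n]) a = a)
    (hN : ∀ a, G a * σ (G a) = a * σ a ∨ G a * σ (G a) = -(a * σ a)) (a : A) : G a = a := by
  have hcancel : ∀ {x y : A}, x * y = 0 → x ≠ 0 → y = 0 := fun h hx =>
    (hdom _ _ h).resolve_left hx
  -- the norm is preserved exactly
  have hNb : ∀ b, G b * σ (G b) = b * σ b := by
    intro b
    rcases hN b with h | h
    · exact h
    set M := b * σ b
    set B := σ b + b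
    set B' := σ (G b) + G b
    have hkind : ∀ t : ℕ, (t : A) ≠ 0 →
        B' - B - 2 * (t : A) * M = 0 ∨ 2 + (t : A) * (B' + B) = 0 := by
      intro t ht
      have hGt : G (1 + (t : A) * b) = 1 + (t : A) * G b := by
        rw [map_add, hG1, ← nsmul_eq_mul, map_nsmul, nsmul_eq_mul]
      rcases hN (1 + (t : A) * b) with h' | h' <;>
        simp only [hGt, map_add, map_one, map_mul, map_natCast] at h'
      · exact Or.inl (hcancel (x := (t : A)) (by linear_combination h' - (t : A) ^ 2 * h) ht)
      · exact Or.inr (by linear_combination h' - (t : A) ^ 2 * h)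
    have hfirst : ∀ s t : ℕ, ((t : A) - s) ≠ 0 → B' - B - 2 * (s : A) * M = 0 →
        B' - B - 2 * (t : A) * M = 0 → G b * σ (G b) = M := by
      intro s t hst h1 h1'
      have hM : M = 0 := hcancel
        (hcancel (x := (2 : A)) (y := ((t : A) - s) * M) (by linear_combination h1 - h1') h2) hst
      rw [h, hM, neg_zero]
    have hsecond : ∀ s t : ℕ, ((t : A) - s) ≠ 0 → 2 + (s : A) * (B' + B) = 0 →
        2 + (t : A) * (B' + B) = 0 → False := by
      intro s t hst h1 h1'
      have hS : B' + B = 0 := hcancel (by linear_combination h1' - h1) hst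
      exact h2 (by linear_combination h1 - (s : A) * hS)
    have h1ne : (1 : A) ≠ 0 := fun h1 => h2 (by linear_combination 2 * h1)
    have d12 : ((2 : ℕ) : A) - (1 : ℕ) ≠ 0 := by push_cast; norm_num; exact h1ne
    have d13 : ((3 : ℕ) : A) - (1 : ℕ) ≠ 0 := by push_cast; norm_num; exact h2
    have d23 : ((3 : ℕ) : A) - (2 : ℕ) ≠ 0 := by push_cast; norm_num; exact h1ne
    rcases hkind 1 (by push_cast; exact h1ne) with k1 | k1 <;>
      rcases hkind 2 (by push_cast; exact h2) with k2 | k2 <;>
        rcases hkind 3 (by push_cast; exact h3) with k3 | k3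
    · exact hfirst 1 2 d12 k1 k2
    · exact hfirst 1 2 d12 k1 k2
    · exact hfirst 1 3 d13 k1 k3
    · exact (hsecond 2 3 d23 k2 k3).elim
    · exact hfirst 2 3 d23 k2 k3
    · exact (hsecond 1 3 d13 k1 k3).elim
    · exact (hsecond 1 2 d12 k1 k2).elim
    · exact (hsecond 1 2 d12 k1 k2).elim
  -- hence so is the polar form
  have hB : ∀ x y, G x * σ (G y) + σ (G x) * G y = x * σ y + σ x * y := by
    intro x y
    have h := hNb (x + y)
    simp only [map_add] at h
    linear_combination h - hNb x - hNb y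
  -- and `G` is linear over the fixed subring
  have hlin : ∀ f x, σ f = f → G (f * x) = f * G x := by
    intro f x hf
    obtain ⟨y, hy⟩ := hsurj (G (f * x) - f * G x)
    have h1 := hB (f * x) y
    have h2' := hB x y
    simp only [map_mul, hf] at h1
    rw [hy, map_sub σ, map_mul σ, hf] at h1 h2'
    have h4 : 2 * ((G (f * x) - f * G x) * (σ (G (f * x)) - f * σ (G x))) = 0 := by
      linear_combination h1 - f * h2'
    refine sub_eq_zero.1 ((hdom _ _ (hcancel h4 h2)).elim id fun h5 => ?_)
    have h6 := congrArg σ h5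
    rwa [map_sub σ, map_mul σ, hσ, hσ, hf, map_zero] at h6
  have hσe : σ (G e) = -G e := by
    have h := hB 1 e
    rw [hG1, map_one, he] at h
    linear_combination h
  have hGe : G e = e := by
    have h := hNb e
    rw [hσe, he] at h
    rcases hdom (G e - e) (G e + e) (by linear_combination -h) with h' | h'
    · exact sub_eq_zero.1 h'
    · exfalso
      have hGe' : G e = -e := eq_neg_of_add_eq_zero_left h'
      have hev : ∀ j, (G^[2 * j]) e = e := by
        intro j
        induction j with
        | zero => rfl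
        | succ j ih =>
          rw [show 2 * (j + 1) = (2 * j + 1) + 1 by ring, Function.iterate_succ_apply',
            Function.iterate_succ_apply', ih, hGe', map_neg, hGe', neg_neg]
      obtain ⟨j, rfl⟩ := hn
      have h1 : G ((G^[2 * j]) e) = e :=
        (Function.iterate_succ_apply' (⇑G) (2 * j) e).symm.trans (hGn e)
      rw [hev, hGe'] at h1
      exact he0 (hcancel (x := (2 : A)) (by linear_combination -h1) h2)
  have hee : σ (e * e) = e * e := by rw [map_mul, he, neg_mul_neg]
  have hf1 : G (a + σ a) = a + σ a := by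
    have := hlin (a + σ a) 1 (by rw [map_add, hσ, add_comm])
    rwa [mul_one, hG1, mul_one] at this
  have hd : G (a - σ a) = a - σ a := by
    have h1 := hlin ((a - σ a) * e) e (by rw [map_mul, map_sub, hσ, he]; ring)
    rw [hGe] at h1
    have h2' := hlin (e * e) (a - σ a) hee
    rw [show e * e * (a - σ a) = (a - σ a) * e * e by ring] at h2'
    have h3' : e * e * (G (a - σ a) - (a - σ a)) = 0 := by linear_combination h1 - h2'
    exact sub_eq_zero.1 (hcancel h3' fun h => he0 ((hdom _ _ h).elim id id))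
  have h4 : G (a + σ a) + G (a - σ a) = G a + G a := by
    rw [← map_add, ← map_add]; congr 1; ring
  exact sub_eq_zero.1 (hcancel (x := (2 : A)) (by linear_combination hf1 + hd - h4) h2)

variable {H : Type u} [Group H] {V : Type v} [CommGroup V]
variable {φ : H →* MulAut V} {R : Subgroup H}

/-- A perfect group has no proper normal subgroup with a quotient of prime power order. -/
theorem eq_top_of_index_prime_pow [Finite H] (hperf : commutator H = ⊤) {p k : ℕ}
    [Fact p.Prime] (N : Subgroup H) [N.Normal] (hN : N.index = p ^ k) : N = ⊤ := by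
  by_contra hne
  have hq : IsPGroup p (H ⧸ N) := IsPGroup.of_card hN
  haveI : Group.IsNilpotent (H ⧸ N) := hq.isNilpotent
  haveI : Nontrivial (H ⧸ N) := QuotientGroup.nontrivial_iff.2 hne
  refine (Group.IsSolvable.commutator_lt_top_of_nontrivial (G := H ⧸ N)).ne ?_
  rw [commutator_def, ← Subgroup.map_top_of_surjective _ (QuotientGroup.mk'_surjective N),
    ← Subgroup.map_commutator, ← commutator_def, hperf]

theorem eq_one_of_coprime_pow {W : Type*} [Group W] [Finite W] {x : W} {m : ℕ} (hx : x ^ m = 1)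
    (hm : m.Coprime (Nat.card W)) : x = 1 :=
  orderOf_eq_one_iff.1
    (Nat.eq_one_of_dvd_coprimes hm (orderOf_dvd_of_pow_eq_one hx) (orderOf_dvd_natCard x))

/-- An index-two subgroup of a two-generator group has at most three translates. -/
theorem map_eq_of_coprime_six {Q : Type*} [Group Q] [Finite Q] (σ : MulAut Q) {m : ℕ}
    (hm : m.Coprime 6) (hσ : σ ^ m = 1) {K : Subgroup Q} (hK : K.index = 2) {k₀ q₀ : Q}
    (hgen : Subgroup.closure ({k₀, q₀} : Set Q) = ⊤) : K.map σ.toMonoidHom = K := by
  classical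
  have hidx : ∀ i : ℕ, (K.map (σ ^ i : MulAut Q).toMonoidHom).index = 2 := fun i => by
    exact (Subgroup.index_map_equiv (H := K) (σ ^ i : MulAut Q)).trans hK
  have hdet : ∀ K₁ K₂ : Subgroup Q, K₁.index = 2 → K₂.index = 2 →
      (k₀ ∈ K₁ ↔ k₀ ∈ K₂) → (q₀ ∈ K₁ ↔ q₀ ∈ K₂) → K₁ = K₂ := by
    intro K₁ K₂ h1 h2 hk hq
    ext x
    have hx : x ∈ Subgroup.closure ({k₀, q₀} : Set Q) := hgen.ge (Subgroup.mem_top x)
    induction hx using Subgroup.closure_induction with
    | mem y hy => rcases hy with rfl | rfl <;> assumption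
    | one => simp only [one_mem]
    | mul y z _ _ hy hz =>
      rw [Subgroup.mul_mem_iff_of_index_two h1, Subgroup.mul_mem_iff_of_index_two h2]
      exact iff_congr hy hz
    | inv y _ hy => simp only [inv_mem_iff, hy]
  let f : Fin 4 → Bool × Bool := fun i =>
    (decide (k₀ ∈ K.map (σ ^ (i : ℕ) : MulAut Q).toMonoidHom),
      decide (q₀ ∈ K.map (σ ^ (i : ℕ) : MulAut Q).toMonoidHom))
  have hf : ∀ i, f i ≠ (true, true) := by
    intro i h
    simp only [f, Prod.mk.injEq, decide_eq_true_eq] at h
    have htop : K.map (σ ^ (i : ℕ) : MulAut Q).toMonoidHom = ⊤ := by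
      refine top_le_iff.1 (hgen ▸ (Subgroup.closure_le _).2 ?_)
      rintro y (rfl | rfl)
      exacts [h.1, h.2]
    have := hidx i
    rw [htop, Subgroup.index_top] at this
    exact absurd this (by norm_num)
  obtain ⟨i, j, hij, hfij⟩ : ∃ i j : Fin 4, i < j ∧ f i = f j := by
    by_contra hcon
    push Not at hcon
    have hinj : Function.Injective
        (fun i => (⟨f i, hf i⟩ : {b : Bool × Bool // b ≠ (true, true)})) := by
      intro i j h
      have h' : f i = f j := congrArg Subtype.val h
      rcases lt_trichotomy i j with hlt | rfl | hlt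
      · exact absurd h' (hcon i j hlt)
      · rfl
      · exact absurd h'.symm (hcon j i hlt)
    have := Fintype.card_le_of_injective _ hinj
    have h3 : Fintype.card {b : Bool × Bool // b ≠ (true, true)} = 3 := by decide
    rw [h3, Fintype.card_fin] at this
    omega
  have heq : K.map (σ ^ (i : ℕ) : MulAut Q).toMonoidHom
      = K.map (σ ^ (j : ℕ) : MulAut Q).toMonoidHom := by
    simp only [f, Prod.mk.injEq, decide_eq_decide] at hfij
    exact hdet _ _ (hidx _) (hidx _) hfij.1 hfij.2
  set d := (j : ℕ) - i with hd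
  have hd0 : 0 < d := by have : (i : ℕ) < j := hij; omega
  have hd3 : d ≤ 3 := by have := j.2; omega
  have hmap : ∀ a b : ℕ, K.map (σ ^ (a + b) : MulAut Q).toMonoidHom =
      (K.map (σ ^ b : MulAut Q).toMonoidHom).map (σ ^ a : MulAut Q).toMonoidHom := by
    intro a b
    rw [Subgroup.map_map, pow_add]
    rfl
  have hfix : K.map (σ ^ d : MulAut Q).toMonoidHom = K := by
    rw [show (j : ℕ) = i + d by have : (i : ℕ) < j := hij; omega, hmap] at heq
    exact (Subgroup.map_injective (σ ^ (i : ℕ) : MulAut Q).injective heq).symm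
  have hiter : ∀ l, K.map (σ ^ (d * l) : MulAut Q).toMonoidHom = K := by
    intro l
    induction l with
    | zero =>
      rw [mul_zero, pow_zero]
      exact Subgroup.map_id K
    | succ l ih => rw [Nat.mul_succ, hmap, hfix, ih]
  have hcop : d.Coprime m := by
    refine Nat.Coprime.coprime_dvd_left ?_ hm.symm
    interval_cases d <;> norm_num
  have hcop' : d.Coprime (orderOf σ) := hcop.coprime_dvd_right (orderOf_dvd_of_pow_eq_one hσ)
  obtain ⟨l, hl⟩ := exists_pow_eq_self_of_coprime hcop'
  have := hiter l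
  rwa [pow_mul, hl] at this

/-- The action as endomorphisms of the additive group. -/
def toEnd (φ : H →* MulAut V) : H →* AddMonoid.End (Additive V) where
  toFun h := MonoidHom.toAdditive (φ h).toMonoidHom
  map_one' := by
    apply AddMonoidHom.ext
    intro v
    show Additive.ofMul (φ 1 (Additive.toMul v)) = v
    rw [map_one, MulAut.one_apply]
    rfl
  map_mul' a b := by
    apply AddMonoidHom.ext
    intro v
    show Additive.ofMul (φ (a * b) (Additive.toMul v)) =
      Additive.ofMul (φ a (φ b (Additive.toMul v)))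
    rw [map_mul, MulAut.mul_apply]

theorem toEnd_apply (φ : H →* MulAut V) (h : H) (v : V) :
    toEnd φ h (Additive.ofMul v) = Additive.ofMul (φ h v) := rfl

variable [Finite H] [Finite V]

/-- Data of a quaternion Sylow subgroup. -/
structure Quat (R : Subgroup H) (c j : H) : Prop where
  c_mem : c ∈ R
  j_mem : j ∈ R
  c_sq : c * c ≠ 1
  conj : j * c * j⁻¹ = c⁻¹
  cover : ∀ ρ ∈ R, ∃ i : ℤ, ρ = c ^ i ∨ ρ = c ^ i * j
  invol : ∀ t : H, t * t = 1 → t ≠ 1 → t = j * j

theorem Setup.false_of_quat (S : Setup φ 2 R) {c j : H} (Q : Quat R c j)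
    (hz : ∀ v, φ (j * j) v = v⁻¹) : False := by
  classical
  haveI : Fact (Nat.Prime 2) := ⟨Nat.prime_two⟩
  haveI := S.nontrivial
  set C := Subgroup.zpowers c with hC
  have hcj : c * j = j * c⁻¹ := by
    have h := mul_inv_eq_iff_eq_mul.1 Q.conj
    calc c * j = c * (j * c) * c⁻¹ := by simp [mul_assoc]
      _ = j * c⁻¹ := by rw [h, mul_inv_cancel_left]
  -- `V` is irreducible under `c`
  have hirr : ∀ U : Subgroup V, (∀ u ∈ U, φ c u ∈ U) → U = ⊥ ∨ U = ⊤ := by
    intro U hU
    have hUpow : ∀ h ∈ C, ∀ u ∈ U, φ h u ∈ U := by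
      intro h hh u hu
      obtain ⟨l, rfl⟩ := (mem_powers_iff_mem_zpowers (x := c)).2 hh
      show φ (c ^ l) u ∈ U
      induction l with
      | zero => simpa using hu
      | succ l ih =>
        rw [pow_succ', map_mul, MulAut.mul_apply]
        exact hU _ (ih (pow_mem (Subgroup.mem_zpowers c) l))
    by_contra hcon
    push Not at hcon
    set W := U.map (φ j).toMonoidHom with hW
    have hcW : ∀ h ∈ C, ∀ w ∈ W, φ h w ∈ W := by
      rintro h hh _ ⟨u, hu, rfl⟩
      refine ⟨φ (j⁻¹ * h * j) u, hUpow _ ?_ u hu, ?_⟩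
      · obtain ⟨i, rfl⟩ := Subgroup.mem_zpowers_iff.1 hh
        have hjc : j⁻¹ * c * j = c⁻¹ := by rw [mul_assoc, hcj, inv_mul_cancel_left]
        rw [show j⁻¹ * c ^ i * j = (MulAut.conj j⁻¹) (c ^ i) by simp, map_zpow,
          MulAut.conj_apply, inv_inv, hjc]
        exact zpow_mem (inv_mem (Subgroup.mem_zpowers c)) i
      · show φ j (φ (j⁻¹ * h * j) u) = φ h (φ j u)
        simp only [← MulAut.mul_apply, ← map_mul]
        congr 2
        group
    have hjW : ∀ w ∈ W, φ j w ∈ U := by
      rintro _ ⟨u, hu, rfl⟩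
      show φ j (φ j u) ∈ U
      rw [← MulAut.mul_apply, ← map_mul, hz]
      exact inv_mem hu
    have hjU : ∀ u ∈ U, φ j u ∈ W := fun u hu => Subgroup.mem_map_of_mem _ hu
    have hρ : ∀ ρ ∈ R, ((∀ u ∈ U, φ ρ u ∈ U) ∧ ∀ u ∈ W, φ ρ u ∈ W) ∨
        ((∀ u ∈ U, φ ρ u ∈ W) ∧ ∀ u ∈ W, φ ρ u ∈ U) := by
      intro ρ hρR
      obtain ⟨i, rfl | rfl⟩ := Q.cover ρ hρR
      · exact Or.inl ⟨hUpow _ (zpow_mem (Subgroup.mem_zpowers c) i),
          hcW _ (zpow_mem (Subgroup.mem_zpowers c) i)⟩
      · refine Or.inr ⟨fun u hu => ?_, fun u hu => ?_⟩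
        · rw [map_mul, MulAut.mul_apply]
          exact hcW _ (zpow_mem (Subgroup.mem_zpowers c) i) _ (hjU u hu)
        · rw [map_mul, MulAut.mul_apply]
          exact hUpow _ (zpow_mem (Subgroup.mem_zpowers c) i) _ (hjW u hu)
    have hUW : U ⊓ W = ⊥ := by
      refine (S.irred_sylow _ fun ρ hρR u hu => ?_).resolve_right fun h =>
        hcon.2 (top_le_iff.1 (h.ge.trans inf_le_left))
      rcases hρ ρ hρR with h | h
      · exact ⟨h.1 u hu.1, h.2 u hu.2⟩
      · exact ⟨h.2 u hu.2, h.1 u hu.1⟩
    refine S.false_of_pair U W hcon.1 hcon.2 hUW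
      (Subgroup.card_map_of_injective (φ j).injective) fun ρ hρR u _ hu => ?_
    rcases hρ ρ hρR with h | h
    · exact hu.imp (h.1 u) (h.2 u)
    · exact (hu.imp (h.1 u) (h.2 u)).symm
  -- the ring generated by `c`
  set L := toEnd φ with hL
  have hzE : L (j * j) = -1 := by
    apply AddMonoidHom.ext
    intro v
    show Additive.ofMul (φ (j * j) (Additive.toMul v)) = -v
    rw [hz]
    rfl
  haveI : Finite (AddMonoid.End (Additive V)) := Finite.of_injective _ DFunLike.coe_injective
  set A : Subring (AddMonoid.End (Additive V)) := Subring.closure {L c} with hA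
  haveI hAcomm : IsMulCommutative A := Subring.isMulCommutative_closure (by
    intro x hx y hy
    rw [Set.mem_singleton_iff.1 hx, Set.mem_singleton_iff.1 hy])
  let u₁ : A := ⟨L c, Subring.subset_closure rfl⟩
  have hcinvA : L c⁻¹ ∈ A := by
    obtain ⟨l, hl⟩ := (mem_powers_iff_mem_zpowers (x := c)).2 (inv_mem (Subgroup.mem_zpowers c))
    rw [← hl, map_pow]
    exact pow_mem u₁.2 l
  -- `A` has no zero divisors
  have hinjA : ∀ a : A, a ≠ 0 → Function.Injective (a : AddMonoid.End (Additive V)) := by
    intro a ha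
    let U : Subgroup V :=
      { carrier := {v | (a : AddMonoid.End (Additive V)) (Additive.ofMul v) = 0}
        one_mem' := map_zero (a : AddMonoid.End (Additive V))
        mul_mem' := fun {x y} (hx : (a : AddMonoid.End (Additive V)) (Additive.ofMul x) = 0)
            (hy : (a : AddMonoid.End (Additive V)) (Additive.ofMul y) = 0) => by
          show (a : AddMonoid.End (Additive V)) (Additive.ofMul x + Additive.ofMul y) = 0
          rw [map_add, hx, hy, add_zero]
        inv_mem' := fun {x} (hx : (a : AddMonoid.End (Additive V)) (Additive.ofMul x) = 0) => by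
          show (a : AddMonoid.End (Additive V)) (-Additive.ofMul x) = 0
          rw [map_neg, hx, neg_zero] }
    have hUc : ∀ v ∈ U, φ c v ∈ U := by
      intro v (hv : (a : AddMonoid.End (Additive V)) (Additive.ofMul v) = 0)
      show ((a * u₁ : A) : AddMonoid.End (Additive V)) (Additive.ofMul v) = 0
      rw [mul_comm a u₁]
      show L c ((a : AddMonoid.End (Additive V)) (Additive.ofMul v)) = 0
      rw [hv, map_zero]
    rcases hirr U hUc with hb | ht
    · rw [injective_iff_map_eq_zero]
      intro v hv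
      have : Additive.toMul v ∈ U := hv
      rw [hb, Subgroup.mem_bot] at this
      exact this
    · exfalso
      refine ha (Subtype.ext (AddMonoidHom.ext fun v => ?_))
      exact (ht ▸ Subgroup.mem_top (Additive.toMul v) : Additive.toMul v ∈ U)
  have hdom : ∀ a b : A, a * b = 0 → a = 0 ∨ b = 0 := by
    intro a b hab
    by_cases hb : b = 0
    · exact Or.inr hb
    left
    refine Subtype.ext (AddMonoidHom.ext fun v => ?_)
    obtain ⟨w, rfl⟩ := Finite.injective_iff_surjective.1 (hinjA b hb) v
    exact DFunLike.congr_fun (congrArg Subtype.val hab) w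
  -- `V` is a free orbit of `A`
  obtain ⟨x₀, hx₀⟩ := exists_ne (1 : V)
  let ev₀ : A →+ Additive V :=
    AddMonoidHom.mk' (fun a => (a : AddMonoid.End (Additive V)) (Additive.ofMul x₀)) fun _ _ => rfl
  have hevi : Function.Injective ev₀ := by
    rw [injective_iff_map_eq_zero]
    intro a ha
    by_contra h
    exact hx₀ (hinjA a h (ha.trans (map_zero _).symm))
  have hevs : Function.Surjective ev₀ := by
    let U : Subgroup V :=
      { carrier := {v | ∃ a, ev₀ a = Additive.ofMul v}
        one_mem' := ⟨0, map_zero _⟩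
        mul_mem' := fun {x y} ⟨a, ha⟩ ⟨b, hb⟩ => ⟨a + b, by rw [map_add, ha, hb]; rfl⟩
        inv_mem' := fun {x} ⟨a, ha⟩ => ⟨-a, by rw [map_neg, ha]; rfl⟩ }
    have hUc : ∀ v ∈ U, φ c v ∈ U := by
      rintro v ⟨a, ha⟩
      refine ⟨u₁ * a, ?_⟩
      show L c (ev₀ a) = _
      rw [ha]
      rfl
    intro v
    rcases hirr U hUc with hb | ht
    · exact absurd (Subgroup.mem_bot.1 (hb ▸ (⟨1, rfl⟩ : x₀ ∈ U))) hx₀
    · exact (ht ▸ Subgroup.mem_top (Additive.toMul v) : Additive.toMul v ∈ U)
  let ev : A ≃+ Additive V := AddEquiv.ofBijective ev₀ ⟨hevi, hevs⟩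
  have hev : ∀ a, ev a = (a : AddMonoid.End (Additive V)) (Additive.ofMul x₀) := fun _ => rfl
  -- the involution
  have hτmul : L j⁻¹ * L j = 1 := by rw [← map_mul, inv_mul_cancel, map_one]
  let τ : AddMonoid.End (Additive V) →+* AddMonoid.End (Additive V) :=
    { toFun := fun x => L j * x * L j⁻¹
      map_one' := by rw [mul_one, ← map_mul, mul_inv_cancel, map_one]
      map_mul' := fun x y => by
        rw [show L j * x * L j⁻¹ * (L j * y * L j⁻¹) = L j * x * (L j⁻¹ * L j) * y * L j⁻¹ by
          simp only [mul_assoc], hτmul, mul_one, mul_assoc (L j) x y]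
      map_zero' := by rw [mul_zero, zero_mul]
      map_add' := fun x y => by rw [mul_add, add_mul] }
  have hτc : τ (L c) = L c⁻¹ := by
    show L j * L c * L j⁻¹ = _
    rw [← map_mul, ← map_mul, Q.conj]
  have hτA : ∀ x ∈ A, τ x ∈ A := by
    intro x hx
    exact (Subring.closure_le (t := A.comap τ)).2 (Set.singleton_subset_iff.2
      (show τ (L c) ∈ A by rw [hτc]; exact hcinvA)) hx
  let σ : A →+* A :=
    { toFun := fun a => ⟨τ a, hτA a a.2⟩
      map_one' := Subtype.ext (map_one τ)
      map_mul' := fun a b => Subtype.ext (map_mul τ _ _)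
      map_zero' := Subtype.ext (map_zero τ)
      map_add' := fun a b => Subtype.ext (map_add τ _ _) }
  have hσσ : ∀ a, σ (σ a) = a := by
    intro a
    refine Subtype.ext ?_
    show L j * (L j * (a : AddMonoid.End (Additive V)) * L j⁻¹) * L j⁻¹ = a
    have hzinv : L (j⁻¹ * j⁻¹) = -1 := by
      have hzz : (j * j) * (j * j) = 1 := S.eq_one_of_fix_all fun v => by
        rw [map_mul, MulAut.mul_apply, hz, hz, inv_inv]
      rw [show j⁻¹ * j⁻¹ = j * j by rw [← mul_inv_rev, inv_eq_of_mul_eq_one_right hzz], hzE]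
    rw [show L j * (L j * (a : AddMonoid.End (Additive V)) * L j⁻¹) * L j⁻¹ =
      L j * L j * (a : AddMonoid.End (Additive V)) * (L j⁻¹ * L j⁻¹) by simp only [mul_assoc],
      ← map_mul, ← map_mul, hzE, hzinv]
    refine AddMonoidHom.ext fun v => ?_
    show -((a : AddMonoid.End (Additive V)) (-v)) = (a : AddMonoid.End (Additive V)) v
    rw [map_neg, neg_neg]
  have hσu : u₁ * σ u₁ = 1 := Subtype.ext (by
    show L c * τ (L c) = 1
    rw [hτc, ← map_mul, mul_inv_cancel, map_one])
  -- the norm
  let N : Additive V → A := fun v => ev.symm v * σ (ev.symm v)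
  have hNc : ∀ v, N (L c v) = N v := by
    intro v
    have e1 : ev.symm (L c v) = u₁ * ev.symm v := by
      rw [AddEquiv.symm_apply_eq, hev]
      show L c v = L c (ev (ev.symm v))
      rw [AddEquiv.apply_symm_apply]
    show ev.symm (L c v) * σ (ev.symm (L c v)) = _
    rw [e1, map_mul, mul_mul_mul_comm, hσu, one_mul]
  set d := ev.symm (L j (Additive.ofMul x₀)) with hd
  have hjev : ∀ v, ev.symm (L j v) = σ (ev.symm v) * d := by
    intro v
    rw [AddEquiv.symm_apply_eq, hev]
    show L j v = L j ((ev.symm v : AddMonoid.End (Additive V)) (L j⁻¹ (ev d)))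
    rw [hd, AddEquiv.apply_symm_apply]
    show L j v = L j ((ev.symm v : AddMonoid.End (Additive V)) ((L j⁻¹ * L j) (Additive.ofMul x₀)))
    rw [hτmul]
    show L j v = L j (ev (ev.symm v))
    rw [AddEquiv.apply_symm_apply]
  have hdd : σ d * d = -1 := by
    have h := hjev (L j (Additive.ofMul x₀))
    rw [← hd, show L j (L j (Additive.ofMul x₀)) = (L j * L j) (Additive.ofMul x₀) from rfl,
      ← map_mul, hzE] at h
    rw [← h, AddEquiv.symm_apply_eq, hev]
    rfl
  have hNj : ∀ v, N (L j v) = -N v := by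
    intro v
    show ev.symm (L j v) * σ (ev.symm (L j v)) = _
    rw [hjev, map_mul, hσσ]
    show _ = -(ev.symm v * σ (ev.symm v))
    linear_combination (ev.symm v * σ (ev.symm v)) * hdd
  let KN : Subgroup H :=
    { carrier := {h | ∀ v, N (L h v) = N v}
      one_mem' := fun v => by rw [map_one]; rfl
      mul_mem' := fun {a b} ha hb v => by
        rw [map_mul]
        exact (ha (L b v)).trans (hb v)
      inv_mem' := fun {a} ha v => by
        have := ha (L a⁻¹ v)
        rw [show L a (L a⁻¹ v) = (L a * L a⁻¹) v from rfl, ← map_mul, mul_inv_cancel, map_one]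
          at this
        exact this.symm }
  have hNH : ∀ (h : H) (v : Additive V), N (L h v) = N v ∨ N (L h v) = -N v := by
    intro h v
    obtain ⟨ρ, hρ, e⟩ := S.orbit h (Additive.toMul v)
    have e' : L h v = L ρ v := congrArg Additive.ofMul e.symm
    rw [e']
    obtain ⟨i, rfl | rfl⟩ := Q.cover ρ hρ
    · exact Or.inl ((zpow_mem (show c ∈ KN from hNc) i) v)
    · refine Or.inr ?_
      rw [map_mul, show (L (c ^ i) * L j) v = L (c ^ i) (L j v) from rfl,
        (zpow_mem (show c ∈ KN from hNc) i) (L j v), hNj]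
  -- facts on elements
  have hcard2 : 2 ∣ Nat.card H := S.dvd_card
  have hne : ∀ m : ℕ, m.Prime → m ∣ Nat.card H → (m : A) ≠ 0 := by
    intro m hm hmd h
    refine hx₀ (eq_one_of_coprime_pow (m := m) ?_ (Nat.Coprime.coprime_dvd_left hmd S.coprime))
    have h1 : ev₀ (m • (1 : A)) = 0 := by rw [nsmul_one, h, map_zero]
    rw [map_nsmul] at h1
    exact h1
  have h2A : (2 : A) ≠ 0 := by exact_mod_cast hne 2 Nat.prime_two hcard2
  have hfree : ∀ g : H, φ g x₀ = x₀ → ¬ 2 ∣ orderOf g := by
    intro g hg hdvd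
    obtain ⟨l, hl⟩ := hdvd
    have hpos := orderOf_pos g
    have ht1 : g ^ l ≠ 1 := pow_ne_one_of_lt_orderOf (by omega) (by omega)
    have ht2 : g ^ l * g ^ l = 1 := by rw [← pow_add, ← two_mul, ← hl, pow_orderOf_eq_one]
    have hfix : φ (g ^ l) x₀ = x₀ := pow_mem (show g ∈ stab φ x₀ from hg) l
    rw [Q.invol _ ht2 ht1, hz] at hfix
    exact hx₀ (eq_one_of_coprime_pow (m := 2)
      (by rw [pow_two]; conv_lhs => arg 1; rw [← hfix]
          exact inv_mul_cancel x₀)
      (Nat.Coprime.coprime_dvd_left hcard2 S.coprime))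
  by_cases h3 : 3 ∣ Nat.card H
  · have h3A : (3 : A) ≠ 0 := by exact_mod_cast hne 3 Nat.prime_three h3
    -- every stabilizer of `x₀` is trivial
    have hstab : ∀ g : H, φ g x₀ = x₀ → g = 1 := by
      intro g hg
      let G : A →+ A := ev.symm.toAddMonoidHom.comp (AddMonoidHom.comp (L g) ev.toAddMonoidHom)
      have hG : ∀ a, G a = ev.symm (L g (ev a)) := fun _ => rfl
      have hit : ∀ l a, (G^[l]) a = ev.symm (L (g ^ l) (ev a)) := by
        intro l
        induction l with
        | zero =>
          intro a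
          rw [pow_zero, map_one]
          exact (AddEquiv.symm_apply_apply ev a).symm
        | succ l ih =>
          intro a
          rw [Function.iterate_succ_apply', ih, hG, AddEquiv.apply_symm_apply, pow_succ', map_mul]
          rfl
      have hev1 : ev 1 = Additive.ofMul x₀ := rfl
      have hrig := norm_rigid hdom h2A h3A σ hσσ (e := u₁ - σ u₁)
        (by rw [map_sub, hσσ, neg_sub]) ?_ G ?_ ?_ (Nat.not_even_iff_odd.1 fun he =>
          hfree g hg he.two_dvd) (fun a => by
          rw [hit, pow_orderOf_eq_one, map_one]; exact AddEquiv.symm_apply_apply ev a) ?_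
      · refine S.eq_one_of_fix_all fun v => ?_
        have h := congrArg ev (hrig (ev.symm (Additive.ofMul v)))
        rw [hG, AddEquiv.apply_symm_apply, AddEquiv.apply_symm_apply] at h
        exact h
      · intro h
        have h1 : u₁ * u₁ = 1 := by rw [← hσu]; congr 1; exact sub_eq_zero.1 h
        refine Q.c_sq (S.eq_one_of_fix_all fun v => ?_)
        have h2 := DFunLike.congr_fun (congrArg Subtype.val h1) (Additive.ofMul v)
        rw [map_mul, MulAut.mul_apply]
        exact h2
      · intro b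
        refine ⟨ev.symm (L g⁻¹ (ev b)), ?_⟩
        rw [hG, AddEquiv.apply_symm_apply,
          show L g (L g⁻¹ (ev b)) = (L g * L g⁻¹) (ev b) from rfl, ← map_mul, mul_inv_cancel,
          map_one]
        exact AddEquiv.symm_apply_apply ev b
      · rw [hG, hev1, hL, toEnd_apply, hg, ← hev1, AddEquiv.symm_apply_apply]
      · intro a
        rw [hG]
        have := hNH g (ev a)
        simp only [N, AddEquiv.symm_apply_apply] at this
        exact this
    have hRtop : ∀ h : H, h ∈ R := by
      intro h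
      obtain ⟨ρ, hρ, e⟩ := S.orbit h x₀
      have : ρ⁻¹ * h = 1 := hstab _ (by
        rw [map_mul, MulAut.mul_apply, ← e, ← MulAut.mul_apply, ← map_mul, inv_mul_cancel, map_one,
          MulAut.one_apply])
      rwa [← inv_mul_eq_one.1 this]
    obtain ⟨k, hk⟩ := IsPGroup.iff_card.1 S.isPGroup
    have htop : R = ⊤ := eq_top_iff.2 fun h _ => hRtop h
    rw [htop, Subgroup.card_top] at hk
    have hbot := eq_top_of_index_prime_pow (p := 2) (k := k) S.perfect (⊥ : Subgroup H)
      (by rw [Subgroup.index_bot, hk])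
    exact S.ne_bot (le_bot_iff.1 (hbot ▸ le_top))
  · -- a normal 2-complement
    set P : Sylow 2 H := S.isPGroup.toSylow S.index
    have hloc : Fusion.LocallyPNilpotentAction 2 (P : Subgroup H) := by
      intro T hT g hg hcop
      have hT2 : IsPGroup 2 T := P.2.to_le hT
      set s : MulAut T := T.normalizerMonoidHom ⟨g, hg⟩
      set m := orderOf g with hm
      have hodd : Odd m := Nat.coprime_two_right.1 hcop
      have hs : s ^ m = 1 := by
        rw [← map_pow,
          show (⟨g, hg⟩ : Subgroup.normalizer (T : Set H)) ^ m = 1 from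
            Subtype.ext (pow_orderOf_eq_one g), map_one]
      suffices s = 1 by
        refine Fusion.mem_centralizer_iff'.2 fun x hx => ?_
        exact congrArg Subtype.val (DFunLike.congr_fun this ⟨x, hx⟩)
      set K : Subgroup T := C.subgroupOf T
      let ι : K →* C := MonoidHom.mk' (fun k => ⟨((k : T) : H), k.2⟩) fun _ _ => rfl
      have hιi : Function.Injective ι := fun a b h => by
        refine Subtype.ext (Subtype.ext ?_)
        exact congrArg (fun x : C => (x : H)) h
      haveI : IsCyclic K := isCyclic_of_injective ι hιi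
      by_cases hK : K = ⊤
      · haveI : IsCyclic T := isCyclic_of_surjective K.subtype fun x => ⟨⟨x, hK ▸ Subgroup.mem_top x⟩, rfl⟩
        exact Invol.aut_eq_one_of_cyclic_two_group hT2 s hodd hs
      obtain ⟨q₀, hq₀⟩ : ∃ q₀, q₀ ∉ K := by
        by_contra hcon
        push Not at hcon
        exact hK (eq_top_iff.2 fun x _ => hcon x)
      have hK2 : ∀ x y : T, x ∉ K → y ∉ K → x⁻¹ * y ∈ K := by
        intro x y hx hy
        have hform : ∀ z : T, z ∉ K → ∃ i : ℤ, (z : H) = c ^ i * j := by
          intro z hz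
          obtain ⟨i, h | h⟩ := Q.cover (z : H) (hT z.2)
          · exact absurd (h ▸ zpow_mem (Subgroup.mem_zpowers c) i : (z : H) ∈ C) hz
          · exact ⟨i, h⟩
        obtain ⟨i, hi⟩ := hform x hx
        obtain ⟨i', hi'⟩ := hform y hy
        show ((x : H))⁻¹ * (y : H) ∈ C
        rw [hi, hi', show (c ^ i * j)⁻¹ * (c ^ i' * j) = j⁻¹ * c ^ (-i + i') * j by group,
          show j⁻¹ * c ^ (-i + i') * j = (MulAut.conj j⁻¹) (c ^ (-i + i')) by simp, map_zpow,
          MulAut.conj_apply, inv_inv, mul_assoc, hcj, inv_mul_cancel_left]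
        exact zpow_mem (inv_mem (Subgroup.mem_zpowers c)) _
      have hKi : K.index = 2 := by
        refine Subgroup.index_eq_two_iff_exists_notMem_and'.2 ⟨q₀, hq₀, fun b => ?_⟩
        by_cases hb : b ∈ K
        · exact Or.inr hb
        · left
          have h1 := hK2 q₀⁻¹ b (fun h => hq₀ (inv_mem_iff.1 h)) hb
          rwa [inv_inv] at h1
      obtain ⟨k₀, hk₀⟩ := IsCyclic.exists_generator (α := K)
      have hgen : Subgroup.closure ({(k₀ : T), q₀} : Set T) = ⊤ := by
        refine top_le_iff.1 fun x _ => ?_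
        have hKle : ∀ y ∈ K, y ∈ Subgroup.closure ({(k₀ : T), q₀} : Set T) := by
          intro y hy
          obtain ⟨i, hi⟩ := Subgroup.mem_zpowers_iff.1 (hk₀ ⟨y, hy⟩)
          have hy' : y = (k₀ : T) ^ i := by rw [← Subgroup.coe_zpow, hi]
          rw [hy']
          exact zpow_mem (Subgroup.subset_closure (by simp)) i
        by_cases hx : x ∈ K
        · exact hKle x hx
        · have h1 := mul_mem (Subgroup.subset_closure (by simp : q₀ ∈ ({(k₀ : T), q₀} : Set T)))
            (hKle _ (hK2 q₀ x hq₀ hx))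
          rwa [mul_inv_cancel_left] at h1
      have hm6 : m.Coprime 6 := by
        rw [show (6 : ℕ) = 2 * 3 from rfl]
        refine Nat.Coprime.mul_right hodd.coprime_two_right ?_
        exact ((Nat.prime_three.coprime_iff_not_dvd).2
          fun h => h3 (h.trans (orderOf_dvd_natCard g))).symm
      have hfixK := map_eq_of_coprime_six s hm6 hs hKi hgen
      let τK : MulAut K := (s.subgroupMap K).trans (MulEquiv.subgroupCongr hfixK)
      have hτK : ∀ (l : ℕ) (k : K), ((τK ^ l) k : T) = (s ^ l) k := by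
        intro l
        induction l with
        | zero => intro k; rfl
        | succ l ih =>
          intro k
          rw [pow_succ', pow_succ', MulAut.mul_apply, MulAut.mul_apply, ← ih]
          rfl
      have hτ1 : τK = 1 := Invol.aut_eq_one_of_cyclic_two_group (hT2.to_subgroup K) τK hodd
        (MulEquiv.ext fun k => Subtype.ext (by rw [hτK, hs]; rfl))
      refine Invol.aut_eq_one_of_fix_index_two hT2 s hodd hs K hK2 fun k hk => ?_
      have := hτK 1 ⟨k, hk⟩
      rw [pow_one, pow_one, hτ1] at this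
      exact this.symm
    obtain ⟨P', N', hN', hcomp⟩ := Fusion.hasNormalPComplement_of_locallyPNilpotentAction P hloc
    obtain ⟨k, hk⟩ := IsPGroup.iff_card.1 P'.2
    have hidx : N'.index = 2 ^ k := by rw [hcomp.symm.index_eq_card, hk]
    have htop := eq_top_of_index_prime_pow S.perfect N' hidx
    rw [htop, Subgroup.index_top] at hidx
    have h1 : Nat.card (P' : Subgroup H) = 1 := hk.trans hidx.symm
    have hRcard : Nat.card R = 1 := by
      rw [show Nat.card R = Nat.card (P : Subgroup H) from rfl, P.card_eq_multiplicity,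
        ← P'.card_eq_multiplicity, h1]
    exact S.ne_bot (Subgroup.card_eq_one.1 hRcard)

/-- The Sylow 2-subgroup has a noncyclic normal abelian subgroup. -/
theorem Setup.false_of_two (S : Setup φ 2 R)
    (hnab : ∀ B : Subgroup R, B.Normal → IsMulCommutative B → IsCyclic B) : False := by
  classical
  haveI : Fact (Nat.Prime 2) := ⟨Nat.prime_two⟩
  set P : Sylow 2 H := S.isPGroup.toSylow S.index with hP
  have hcard2 : 2 ∣ Nat.card H := S.dvd_card
  rcases Invol.cyclic_or_std S.isPGroup hnab with hcyc | ⟨-, k, r, e, a, b, hstd, F, -⟩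
  · haveI : IsCyclic (P : Subgroup H) := hcyc
    have hp : (Nat.card H).minFac = 2 := (Nat.minFac_eq_two_iff _).2 hcard2
    have hker := IsCyclic.isComplement' (P := P) hp inferInstance
    set f := MonoidHom.transferSylow P
      (IsCyclic.normalizer_le_centralizer (P := P) hp inferInstance)
    letI : CommGroup (P : Subgroup H) := IsCyclic.commGroup
    have htop : f.ker = ⊤ :=
      eq_top_iff.2 fun h _ => MonoidHom.mem_ker.2 (map_eq_one S.perfect f h)
    rw [htop] at hker
    exact S.ne_bot (Subgroup.isComplement'_top_left.1 hker)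
  obtain ⟨hk, hre⟩ := hstd
  have hk1 : 1 ≤ k := by omega
  set c : H := (a : H) with hc
  have hordc : orderOf c = 2 ^ k := by rw [hc, Subgroup.orderOf_coe, F.ord]
  set z := c ^ (2 ^ (k - 1)) with hz
  have h2k : 2 ^ (k - 1) * 2 = 2 ^ k := by rw [← pow_succ, Nat.sub_add_cancel hk1]
  have hpos : 0 < 2 ^ (k - 1) := by positivity
  have hz1 : z ≠ 1 := fun h => by
    have := Nat.le_of_dvd hpos (orderOf_dvd_of_pow_eq_one h)
    omega
  have hz2 : z * z = 1 := by rw [hz, ← pow_add, ← two_mul, mul_comm, h2k, ← hordc, pow_orderOf_eq_one]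
  -- the only involution in `⟨c⟩`
  have huniq : ∀ t ∈ Subgroup.zpowers c, t * t = 1 → t ≠ 1 → t = z := by
    intro t ht ht2 ht1
    obtain ⟨i, rfl⟩ := Subgroup.mem_zpowers_iff.1 ht
    rw [← zpow_add, ← orderOf_dvd_iff_zpow_eq_one, hordc, ← two_mul] at ht2
    push_cast at ht2
    rw [← Invol.two_mul_pow_pred hk1, mul_dvd_mul_iff_left (two_ne_zero' ℤ)] at ht2
    obtain ⟨l, rfl⟩ := ht2
    have hcz : c ^ ((2 : ℤ) ^ (k - 1) * l) = z ^ l := by
      rw [zpow_mul, hz, show (2 : ℤ) ^ (k - 1) = ((2 ^ (k - 1) : ℕ) : ℤ) by push_cast; rfl,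
        zpow_natCast]
    rw [hcz] at ht1 ⊢
    rcases Int.even_or_odd' l with ⟨l', rfl | rfl⟩
    · exact absurd (by rw [zpow_mul, zpow_two, hz2, one_zpow]) ht1
    · rw [zpow_add, zpow_mul, zpow_two, hz2, one_zpow, one_mul, zpow_one]
  have hr : Even (r - 1) := by
    rcases hre with ⟨rfl, -⟩ | ⟨hk3, rfl, -⟩
    · exact ⟨-1, rfl⟩
    · exact ⟨2 ^ (k - 2) - 1, by
        rw [show k - 1 = k - 2 + 1 by omega, pow_succ]; ring⟩
  have hconj : (b : H) * c * (b : H)⁻¹ = c ^ r := by
    have := congrArg Subtype.val F.conj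
    simpa using this
  have hcover : ∀ ρ ∈ R, ∃ i : ℤ, ρ = c ^ i ∨ ρ = c ^ i * (b : H) := by
    intro ρ hρ
    obtain ⟨i, h | h⟩ := F.exists_eq ⟨ρ, hρ⟩
    · exact ⟨i, Or.inl (by simpa using congrArg Subtype.val h)⟩
    · exact ⟨i, Or.inr (by simpa using congrArg Subtype.val h)⟩
  have hbz : Commute (b : H) z := by
    refine mul_inv_eq_iff_eq_mul.1 ?_
    rw [hz, ← conj_pow, hconj]
    obtain ⟨l, hl⟩ := hr
    rw [← zpow_natCast, ← zpow_mul, show r = 1 + 2 * l by omega, add_mul, one_mul,
      zpow_add, zpow_natCast, mul_eq_left, ← orderOf_dvd_iff_zpow_eq_one, hordc]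
    exact ⟨l, by
      push_cast
      rw [← Invol.two_mul_pow_pred hk1]; ring⟩
  have hzR : ∀ ρ ∈ R, Commute ρ z := by
    intro ρ hρ
    have hcz : Commute c z := (Commute.refl c).pow_right _
    obtain ⟨i, rfl | rfl⟩ := hcover ρ hρ
    · exact hcz.zpow_left i
    · exact (hcz.zpow_left i).mul_left hbz
  have hzinv : ∀ v, φ z v = v⁻¹ := by
    intro v
    have hfix : v * φ z v ∈ fixedBy φ z := by
      rw [mem_fixedBy, map_mul, ← MulAut.mul_apply, ← map_mul, hz2, map_one, MulAut.one_apply,
        mul_comm]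
    rw [S.fixedBy_central hzR hz1, Subgroup.mem_bot] at hfix
    exact eq_inv_of_mul_eq_one_right hfix
  have hzH : ∀ h : H, h * z * h⁻¹ = z := by
    intro h
    refine S.inj (MulEquiv.ext fun v => ?_)
    rw [map_mul, map_mul, MulAut.mul_apply, MulAut.mul_apply, hzinv, hzinv, map_inv (φ h),
      ← MulAut.mul_apply, ← map_mul, mul_inv_cancel, map_one, MulAut.one_apply]
  -- Thompson's transfer
  have hinvR : ∀ t ∈ R, t * t = 1 → t ≠ 1 → t = z := by
    intro t ht ht2 ht1
    by_contra htz
    have hcR : Subgroup.zpowers c ≤ (P : Subgroup H) := Subgroup.zpowers_le.2 a.2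
    have hrel : (Subgroup.zpowers c).relIndex (P : Subgroup H) = 2 := by
      have h := Subgroup.card_mul_index ((Subgroup.zpowers c).subgroupOf (P : Subgroup H))
      rw [Nat.card_congr (Subgroup.subgroupOfEquivOfLe hcR).toEquiv, Nat.card_zpowers, hordc,
        show Nat.card (P : Subgroup H) = 2 * 2 ^ k from F.card, mul_comm 2] at h
      exact Nat.eq_of_mul_eq_mul_left (by positivity) h
    have hno : ∀ g : H, g * t * g⁻¹ ∉ Subgroup.zpowers c := fun g hg => htz (by
      have h1 := huniq _ hg (by rw [conj_mul, ht2, mul_one, mul_inv_cancel])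
        fun h => ht1 (conj_eq_one_iff.1 h)
      have h2 := congrArg (fun x => g⁻¹ * x * g) (h1.trans (hzH g).symm)
      simpa [mul_assoc] using h2)
    obtain ⟨M, hM, hMi, -⟩ := Fusion.thompson_transfer P hcR hrel (u := t)
      (by rw [pow_two, ht2]) hno
    exact index_ne_two S.perfect M hMi
  have hsq : (b : H) * (b : H) = c ^ e := by
    have := congrArg Subtype.val F.sq
    simpa using this
  have hb : r = -1 ∧ (b : H) * (b : H) = z := by
    have hne : e ≠ 0 := by
      rintro rfl
      rw [zpow_zero] at hsq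
      have hb1 : (b : H) ≠ 1 := fun h => F.notMem (by
        rw [show b = 1 from Subtype.ext h]; exact one_mem _)
      have := hinvR _ b.2 hsq hb1
      refine F.notMem (Subgroup.mem_zpowers_iff.2 ⟨((2 ^ (k - 1) : ℕ) : ℤ), Subtype.ext ?_⟩)
      rw [this, hz, zpow_natCast, SubmonoidClass.coe_pow]
    rcases hre with ⟨h1, h2 | h2⟩ | ⟨-, -, h2⟩
    · exact absurd h2 hne
    · refine ⟨h1, ?_⟩
      rw [hsq, h2, hz, show (2 : ℤ) ^ (k - 1) = ((2 ^ (k - 1) : ℕ) : ℤ) by push_cast; rfl,
        zpow_natCast]
    · exact absurd h2 hne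
  refine S.false_of_quat (c := c) (j := (b : H)) ⟨a.2, b.2, fun h => ?_, ?_, hcover, ?_⟩
    (fun v => by rw [hb.2, hzinv])
  · have h1 := Nat.le_of_dvd two_pos (orderOf_dvd_of_pow_eq_one ((pow_two c).trans h))
    have h2 : 4 ≤ 2 ^ k := le_trans (by norm_num) (Nat.pow_le_pow_right two_pos hk)
    omega
  · rw [hconj, hb.1, zpow_neg_one]
  · intro t ht2 ht1
    rw [hb.2]
    have ht : IsPGroup 2 (Subgroup.zpowers t) :=
      IsPGroup.of_card (n := 1) (by
        rw [Nat.card_zpowers, orderOf_eq_prime ((pow_two t).trans ht2) ht1, pow_one])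
    obtain ⟨T, hT⟩ := ht.exists_le_sylow
    obtain ⟨g, hg⟩ := MulAction.exists_smul_eq H T P
    have hmem : g * t * g⁻¹ ∈ (P : Subgroup H) := by
      rw [← hg, Sylow.coe_subgroup_smul]
      exact Subgroup.smul_mem_pointwise_smul t (MulAut.conj g) _ (hT (Subgroup.mem_zpowers t))
    have h1 := hinvR _ hmem (by rw [conj_mul, ht2, mul_one, mul_inv_cancel])
      fun h => ht1 (conj_eq_one_iff.1 h)
    have h2 := congrArg (fun x => g⁻¹ * x * g) (h1.trans (hzH g).symm)
    simpa [mul_assoc] using h2

end CfsgLib.PGroup.Orbit
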