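import Mathlib.Algebra.Group.Subgroup.Map
import Mathlib.GroupTheory.Abelianization.Defs
import Mathlib.GroupTheory.Coset.Card
import Mathlib.GroupTheory.IndexNormal
import Mathlib.GroupTheory.Sylow
import Mathlib.GroupTheory.Transfer

/-!
# Groups whose orbits are orbits of a Sylow subgroup

Common data for a perfect group `H` acting faithfully on an abelian group `V` of coprime order, with
no invariant subgroups, such that every orbit is an orbit of the Sylow subgroup `R`.
-/

set_option autoImplicit false
set_option linter.style.haveILetI false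
set_option linter.unusedSectionVars false

namespace CfsgLib.PGroup.Orbit

open Subgroup

universe u v

variable {H : Type u} [Group H] {V : Type v} [CommGroup V]

/-- The stabilizer of a point. -/
def stab (φ : H →* MulAut V) (x : V) : Subgroup H where
  carrier := {h | φ h x = x}
  one_mem' := by simp
  mul_mem' := fun {a b} (ha : φ a x = x) (hb : φ b x = x) => by
    show φ (a * b) x = x
    rw [map_mul, MulAut.mul_apply, hb, ha]
  inv_mem' := fun {a} (ha : φ a x = x) => by
    show φ a⁻¹ x = x
    conv_lhs => rw [← ha]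
    rw [← MulAut.mul_apply, ← map_mul, inv_mul_cancel, map_one, MulAut.one_apply]

/-- The fixed points of one element. -/
def fixedBy (φ : H →* MulAut V) (h : H) : Subgroup V where
  carrier := {v | φ h v = v}
  one_mem' := map_one _
  mul_mem' := fun {a b} (ha : φ h a = a) (hb : φ h b = b) => by
    show φ h (a * b) = a * b
    rw [map_mul, ha, hb]
  inv_mem' := fun {a} (ha : φ h a = a) => by
    show φ h a⁻¹ = a⁻¹
    rw [map_inv, ha]

theorem mem_stab {φ : H →* MulAut V} {x : V} {h : H} : h ∈ stab φ x ↔ φ h x = x := Iff.rfl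

theorem mem_fixedBy {φ : H →* MulAut V} {v : V} {h : H} : v ∈ fixedBy φ h ↔ φ h v = v := Iff.rfl

/-- A homomorphism from a perfect group to an abelian group is trivial. -/
theorem map_eq_one {A : Type*} [CommGroup A] (hperf : commutator H = ⊤) (f : H →* A) (h : H) :
    f h = 1 := by
  have hle : commutator H ≤ f.ker := Abelianization.commutator_subset_ker f
  rw [hperf] at hle
  exact hle (Subgroup.mem_top h)

/-- A perfect group has no subgroup of index two. -/
theorem index_ne_two (hperf : commutator H = ⊤) (K : Subgroup H) : K.index ≠ 2 := by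
  intro hK
  haveI := Subgroup.normal_of_index_eq_two hK
  haveI : IsCyclic (H ⧸ K) := isCyclic_of_prime_card (p := 2) (hp := ⟨Nat.prime_two⟩) hK
  letI : CommGroup (H ⧸ K) := IsCyclic.commGroup
  have htop : K = ⊤ := eq_top_iff.2 fun h _ =>
    (QuotientGroup.eq_one_iff h).1 (map_eq_one hperf (QuotientGroup.mk' K) h)
  rw [htop, Subgroup.index_top] at hK
  exact absurd hK (by norm_num)

/-- The situation under study. -/
structure Setup (φ : H →* MulAut V) (r : ℕ) (R : Subgroup H) : Prop where
  prime : r.Prime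
  perfect : commutator H = ⊤
  inj : Function.Injective φ
  isPGroup : IsPGroup r R
  ne_bot : R ≠ ⊥
  index : ¬ r ∣ R.index
  coprime : (Nat.card H).Coprime (Nat.card V)
  orbit : ∀ (h : H) (x : V), ∃ ρ ∈ R, φ ρ x = φ h x
  nontrivial : Nontrivial V
  irred : ∀ U : Subgroup V, (∀ h : H, ∀ u ∈ U, φ h u ∈ U) → U = ⊥ ∨ U = ⊤

variable {φ : H →* MulAut V} {r : ℕ} {R : Subgroup H}

theorem Setup.irred_sylow (S : Setup φ r R) (U : Subgroup V)
    (hU : ∀ ρ ∈ R, ∀ u ∈ U, φ ρ u ∈ U) : U = ⊥ ∨ U = ⊤ :=
  S.irred U fun h u hu => by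
    obtain ⟨ρ, hρ, e⟩ := S.orbit h u
    exact e ▸ hU ρ hρ u hu

theorem Setup.eq_one_of_fix_all (S : Setup φ r R) {h : H} (hh : ∀ v, φ h v = v) : h = 1 :=
  S.inj (by rw [map_one]; exact MulEquiv.ext fun v => hh v)

/-- Non-trivial central elements of `R` fix only the identity. -/
theorem Setup.fixedBy_central (S : Setup φ r R) {z : H}
    (hcent : ∀ ρ ∈ R, Commute ρ z) (hz1 : z ≠ 1) : fixedBy φ z = ⊥ := by
  refine (S.irred_sylow _ fun ρ hρ u hu => ?_).resolve_right fun htop => hz1 ?_
  · show φ z (φ ρ u) = φ ρ u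
    rw [← MulAut.mul_apply, ← map_mul, ← (hcent ρ hρ).eq, map_mul, MulAut.mul_apply,
      mem_fixedBy.1 hu]
  · exact S.eq_one_of_fix_all fun v => mem_fixedBy.1 (htop ▸ Subgroup.mem_top v)

theorem Setup.dvd_card [Finite H] (S : Setup φ r R) : r ∣ Nat.card H := by
  haveI := Fact.mk S.prime
  obtain ⟨k, hk⟩ := IsPGroup.iff_card.1 S.isPGroup
  rcases Nat.eq_zero_or_pos k with h | h
  · exact absurd (Subgroup.card_eq_one.1 (by rw [hk, h, pow_zero])) S.ne_bot
  · exact (dvd_pow_self r h.ne').trans (hk ▸ Subgroup.card_subgroup_dvd_card R)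

/-- A proper subgroup cannot have an orbit of two: if the union of two subgroups is invariant then
each is. -/
theorem Setup.false_of_pair [Finite V] (S : Setup φ r R) (U W : Subgroup V) (hne : U ≠ ⊥)
    (htop : U ≠ ⊤) (hUW : U ⊓ W = ⊥) (hcard : Nat.card W = Nat.card U)
    (hinv : ∀ ρ ∈ R, ∀ u ∈ U ⊔ W, (u ∈ U ∨ u ∈ W) → (φ ρ u ∈ U ∨ φ ρ u ∈ W)) : False := by
  have hmem : ∀ h : H, ∀ u, u ∈ U ∨ u ∈ W → φ h u ∈ U ∨ φ h u ∈ W := by
    intro h u hu
    obtain ⟨ρ, hρ, e⟩ := S.orbit h u
    rw [← e]
    exact hinv ρ hρ u (hu.elim (fun h => le_sup_left (b := W) h) (fun h => le_sup_right (a := U) h)) hu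
  -- the image of each of `U`, `W` is `U` or `W`
  have himg : ∀ (h : H) (X : Subgroup V), (X = U ∨ X = W) →
      X.map (φ h).toMonoidHom = U ∨ X.map (φ h).toMonoidHom = W := by
    intro h X hX
    set Y := X.map (φ h).toMonoidHom with hY
    have hc : Nat.card Y = Nat.card U := by
      rw [hY, Subgroup.card_map_of_injective (φ h).injective]
      rcases hX with rfl | rfl
      · rfl
      · exact hcard
    have hsub : ∀ y ∈ Y, y ∈ U ∨ y ∈ W := by
      rintro _ ⟨x, hx, rfl⟩
      refine hmem h x ?_
      rcases hX with rfl | rfl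
      · exact Or.inl hx
      · exact Or.inr hx
    by_cases hYU : Y ≤ U
    · exact Or.inl (Subgroup.eq_of_le_of_card_ge hYU hc.ge)
    · right
      obtain ⟨y, hy, hyU⟩ := SetLike.not_le_iff_exists.1 hYU
      have hyW : y ∈ W := (hsub y hy).resolve_left hyU
      refine Subgroup.eq_of_le_of_card_ge (fun v hv => ?_) (by rw [hc, hcard])
      rcases hsub v hv with h1 | h1
      · rcases hsub (v * y) (mul_mem hv hy) with h2 | h2
        · exact absurd (by simpa using mul_mem (inv_mem h1) h2) hyU
        · simpa using mul_mem h2 (inv_mem hyW)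
      · exact h1
  have hdistinct : U ≠ W := fun h => hne (by rw [← hUW, ← h, inf_idem])
  let K : Subgroup H :=
    { carrier := {h | U.map (φ h).toMonoidHom = U}
      one_mem' := by
        show U.map (φ 1).toMonoidHom = U
        rw [map_one]
        exact Subgroup.map_id U
      mul_mem' := fun {a b} (ha : U.map (φ a).toMonoidHom = U)
          (hb : U.map (φ b).toMonoidHom = U) => by
        show U.map (φ (a * b)).toMonoidHom = U
        have e : (φ (a * b)).toMonoidHom = (φ a).toMonoidHom.comp (φ b).toMonoidHom := by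
          rw [map_mul]; rfl
        rw [e, ← Subgroup.map_map, hb, ha]
      inv_mem' := fun {a} (ha : U.map (φ a).toMonoidHom = U) => by
        show U.map (φ a⁻¹).toMonoidHom = U
        conv_lhs => rw [← ha]
        rw [Subgroup.map_map]
        have e : (φ a⁻¹).toMonoidHom.comp (φ a).toMonoidHom = MonoidHom.id V := by
          ext v
          show φ a⁻¹ (φ a v) = v
          rw [← MulAut.mul_apply, ← map_mul, inv_mul_cancel, map_one, MulAut.one_apply]
        rw [e, Subgroup.map_id] }
  have hcomp : ∀ (a b : H) (X : Subgroup V), X.map (φ (a * b)).toMonoidHom =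
      (X.map (φ b).toMonoidHom).map (φ a).toMonoidHom := by
    intro a b X
    rw [Subgroup.map_map, map_mul]
    rfl
  by_cases hK : K = ⊤
  · refine (S.irred U fun h u hu => ?_).elim hne htop
    have hh : U.map (φ h).toMonoidHom = U := (hK ▸ Subgroup.mem_top h : h ∈ K)
    exact hh ▸ Subgroup.mem_map_of_mem _ hu
  · obtain ⟨a, ha⟩ : ∃ a, a ∉ K := by
      by_contra hcon
      push Not at hcon
      exact hK (eq_top_iff.2 fun h _ => hcon h)
    have haU : U.map (φ a).toMonoidHom = W := (himg a U (Or.inl rfl)).resolve_left ha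
    refine index_ne_two S.perfect K (Subgroup.index_eq_two_iff.2 ⟨a, fun b => ?_⟩)
    show Xor' (U.map (φ (b * a)).toMonoidHom = U) (U.map (φ b).toMonoidHom = U)
    rw [hcomp, haU]
    have hinjm := Subgroup.map_injective (f := (φ b).toMonoidHom) (φ b).injective
    rcases himg b U (Or.inl rfl) with h1 | h1 <;> rcases himg b W (Or.inr rfl) with h2 | h2
    · exact absurd (hinjm (h1.trans h2.symm)) hdistinct
    · exact Or.inr ⟨h1, fun h => hdistinct (h.symm.trans h2)⟩
    · exact Or.inl ⟨h2, fun h => hdistinct (h.symm.trans h1)⟩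
    · exact absurd (hinjm (h1.trans h2.symm)) hdistinct

end CfsgLib.PGroup.Orbit
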