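import Cfsg.Agent.Lib.PGroup.OrderTypeReal
import Mathlib.Tactic.Ring
import Mathlib.Tactic.Abel

/-!
# A solvable group of order `81 * 16384` with a large number of elements of order `3`

The Heisenberg group of order `27` times a cyclic group of order `3`, acting on
`(𝔽₄³) × 𝔽₄ × (𝔽₄³)` by monomial matrices.
-/

set_option autoImplicit false
set_option linter.style.haveILetI false

namespace CfsgLib.PGroup.OT

open Finset

/-- The group `He₂₇ × C₃`. -/
@[ext]
structure He81 where
  x : ZMod 3
  y : ZMod 3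
  z : ZMod 3
  w : ZMod 3
deriving DecidableEq

namespace He81

/-- The bijection with quadruples. -/
def equiv : ZMod 3 × ZMod 3 × ZMod 3 × ZMod 3 ≃ He81 where
  toFun t := ⟨t.1, t.2.1, t.2.2.1, t.2.2.2⟩
  invFun g := (g.x, g.y, g.z, g.w)
  left_inv _ := rfl
  right_inv _ := rfl

instance he81Fintype : Fintype He81 := Fintype.ofEquiv _ equiv

instance he81Group : Group He81 where
  mul g h := ⟨g.x + h.x, g.y + h.y, g.z + h.z + g.y * h.x, g.w + h.w⟩
  one := ⟨0, 0, 0, 0⟩
  inv g := ⟨-g.x, -g.y, -g.z + g.y * g.x, -g.w⟩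
  mul_assoc a b c := He81.ext (add_assoc _ _ _) (add_assoc _ _ _)
    (show a.z + b.z + a.y * b.x + c.z + (a.y + b.y) * c.x =
      a.z + (b.z + c.z + b.y * c.x) + a.y * (b.x + c.x) by ring) (add_assoc _ _ _)
  one_mul a := He81.ext (zero_add _) (zero_add _)
    (show 0 + a.z + 0 * a.x = a.z by ring) (zero_add _)
  mul_one a := He81.ext (add_zero _) (add_zero _)
    (show a.z + 0 + a.y * 0 = a.z by ring) (add_zero _)
  inv_mul_cancel a := He81.ext (neg_add_cancel _) (neg_add_cancel _)
    (show -a.z + a.y * a.x + a.z + -a.y * a.x = 0 by ring) (neg_add_cancel _)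

theorem mul_x (g h : He81) : (g * h).x = g.x + h.x := rfl
theorem mul_y (g h : He81) : (g * h).y = g.y + h.y := rfl
theorem mul_z (g h : He81) : (g * h).z = g.z + h.z + g.y * h.x := rfl
theorem mul_w (g h : He81) : (g * h).w = g.w + h.w := rfl

/-- The abelianisation map. -/
def proj : He81 →* Multiplicative (ZMod 3 × ZMod 3 × ZMod 3) where
  toFun g := Multiplicative.ofAdd (g.x, g.y, g.w)
  map_one' := rfl
  map_mul' _ _ := rfl

theorem derivedSeries_two : derivedSeries He81 2 = ⊥ := by
  have h1 : derivedSeries He81 1 ≤ proj.ker := by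
    rw [derivedSeries_one, commutator_def, Subgroup.commutator_le]
    intro a _ b _
    rw [MonoidHom.mem_ker, map_commutatorElement, commutatorElement_eq_one_iff_mul_comm, mul_comm]
  rw [derivedSeries_succ, eq_bot_iff, Subgroup.commutator_le]
  intro a ha b hb
  have ha' : proj a = proj 1 := h1 ha
  have hb' : proj b = proj 1 := h1 hb
  have ax : a.x = 0 := congrArg Prod.fst (Multiplicative.ofAdd.injective ha')
  have bx : b.x = 0 := congrArg Prod.fst (Multiplicative.ofAdd.injective hb')
  rw [Subgroup.mem_bot, commutatorElement_eq_one_iff_mul_comm]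
  ext
  · rw [mul_x, mul_x, add_comm]
  · rw [mul_y, mul_y, add_comm]
  · rw [mul_z, mul_z, ax, bx]; ring
  · rw [mul_w, mul_w, add_comm]

end He81

/-- The additive group of `𝔽₄`. -/
abbrev A4 := ZMod 2 × ZMod 2

/-- Multiplication by `ω ^ k` on `𝔽₄`. -/
def wpow (k : ZMod 3) : AddMonoid.End A4 where
  toFun v := if k = 0 then v else if k = 1 then (v.2, v.1 + v.2) else (v.1 + v.2, v.1)
  map_zero' := by split_ifs <;> rfl
  map_add' a b := by split_ifs <;> first | rfl | (ext <;> simp <;> abel)

theorem wpow_zero (v : A4) : wpow 0 v = v := rfl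

theorem wpow_add : ∀ (a b : ZMod 3) (v : A4), wpow (a + b) v = wpow a (wpow b v) := by
  decide +kernel

/-- The monomial action of `(x, y, z)` on `𝔽₄³`. -/
def monMap (x y z : ZMod 3) (v : ZMod 3 → A4) : ZMod 3 → A4 :=
  fun j => wpow (z + j * x) (v (j + y))

theorem monMap_comp (x y z x' y' z' : ZMod 3) (v : ZMod 3 → A4) :
    monMap (x + x') (y + y') (z + z' + y * x') v = monMap x y z (monMap x' y' z' v) := by
  funext j
  simp only [monMap]
  rw [← wpow_add, add_assoc j y y']
  exact congrArg (fun k => wpow k (v (j + (y + y')))) (by ring_nf)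

/-- The module. -/
abbrev VHe := (ZMod 3 → A4) × A4 × (ZMod 3 → A4)

/-- The action map on the module. -/
def actMap (g : He81) (v : VHe) : VHe :=
  (monMap g.x g.y g.z v.1, wpow (2 * g.x + g.y) v.2.1, monMap g.x g.y (g.z + g.w) v.2.2)

/-- The action. -/
def actHe : He81 →* AddMonoid.End VHe where
  toFun g :=
    { toFun := actMap g
      map_zero' := by
        refine Prod.ext ?_ (Prod.ext ?_ ?_) <;> first | (funext j; exact map_zero _) | exact map_zero _
      map_add' := fun a b => by
        refine Prod.ext ?_ (Prod.ext ?_ ?_) <;> first | (funext j; exact map_add _ _ _) | exact map_add _ _ _ }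
  map_one' := AddMonoidHom.ext fun v => by
    refine Prod.ext ?_ (Prod.ext ?_ ?_)
    · funext j
      show wpow (0 + j * 0) (v.1 (j + 0)) = v.1 j
      simp [wpow_zero]
    · show wpow (2 * 0 + 0) v.2.1 = v.2.1
      simp [wpow_zero]
    · funext j
      show wpow (0 + 0 + j * 0) (v.2.2 (j + 0)) = v.2.2 j
      simp [wpow_zero]
  map_mul' g h := AddMonoidHom.ext fun v => by
    refine Prod.ext ?_ (Prod.ext ?_ ?_)
    · exact monMap_comp g.x g.y g.z h.x h.y h.z v.1
    · show wpow (2 * (g.x + h.x) + (g.y + h.y)) v.2.1 =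
        wpow (2 * g.x + g.y) (wpow (2 * h.x + h.y) v.2.1)
      rw [← wpow_add]
      exact congrArg (fun k => wpow k v.2.1) (by ring)
    · show monMap (g.x + h.x) (g.y + h.y) (g.z + h.z + g.y * h.x + (g.w + h.w)) v.2.2 = _
      rw [show g.z + h.z + g.y * h.x + (g.w + h.w) = (g.z + g.w) + (h.z + h.w) + g.y * h.x by ring]
      exact monMap_comp g.x g.y (g.z + g.w) h.x h.y (h.z + h.w) v.2.2

/-- The group, as a semidirect product with one module. -/
abbrev GHe := Sd (H := He81) (V := fun _ : Fin 1 => VHe) fun _ => actHe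

/-- The solution counts of the group at `gcd n 6`. -/
def fHe (n : ℕ) : ℕ :=
  if n.gcd 6 = 1 then 1 else if n.gcd 6 = 2 then 16384 else if n.gcd 6 = 3 then 76545 else 1327104

/-- The monomial kernel size. -/
def kerMon (x y z : ZMod 3) : ℕ :=
  (univ.filter fun t : A4 × A4 × A4 =>
    let v : ZMod 3 → A4 := ![t.1, t.2.1, t.2.2]
    let u := monMap x y z v
    let u' := monMap x y z u
    v 0 + u 0 + u' 0 = 0 ∧ v 1 + u 1 + u' 1 = 0 ∧ v 2 + u 2 + u' 2 = 0).card

/-- The scalar kernel size. -/
def kerSca (k : ZMod 3) : ℕ :=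
  (univ.filter fun v : A4 => v + wpow k v + wpow k (wpow k v) = 0).card

theorem sum_ker_eq : ∑ g : He81, kerMon g.x g.y g.z * (kerSca (2 * g.x + g.y) *
    kerMon g.x g.y (g.z + g.w)) = 76545 := by
  decide +kernel

theorem card_mon (x y z : ZMod 3) :
    Nat.card {v : ZMod 3 → A4 // v + monMap x y z v + monMap x y z (monMap x y z v) = 0} =
      kerMon x y z := by
  let e : A4 × A4 × A4 ≃ (ZMod 3 → A4) :=
    { toFun := fun t => ![t.1, t.2.1, t.2.2]
      invFun := fun v => (v 0, v 1, v 2)
      left_inv := fun _ => rfl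
      right_inv := fun v => funext fun j => by fin_cases j <;> rfl }
  unfold kerMon
  rw [Nat.card_congr (e.subtypeEquiv
    (p := fun t => e t + monMap x y z (e t) + monMap x y z (monMap x y z (e t)) = 0)
    fun _ => Iff.rfl).symm]
  refine Nat.subtype_card _ fun t => ?_
  simp only [Finset.mem_filter, Finset.mem_univ, true_and, funext_iff, Pi.add_apply, Pi.zero_apply]
  refine ⟨fun h j => ?_, fun h => ⟨h 0, h 1, h 2⟩⟩
  fin_cases j
  exacts [h.1, h.2.1, h.2.2]

theorem pow_three_he (g : He81) : g ^ 3 = 1 := by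
  revert g
  decide +kernel

theorem pow_mod_three (g : He81) (n : ℕ) : g ^ n = g ^ (n % 3) := by
  conv_lhs => rw [← Nat.mod_add_div n 3, pow_add, pow_mul, pow_three_he, one_pow, mul_one]

theorem add_self_vhe (v : VHe) : v + v = 0 := by
  have h : ∀ a : A4, a + a = 0 := by decide
  refine Prod.ext ?_ (Prod.ext ?_ ?_)
  · funext j; exact h _
  · exact h _
  · funext j; exact h _

theorem card_gHe : Nat.card GHe = 1327104 := by
  rw [Nat.card_congr SemidirectProduct.equivProd, Nat.card_prod, Nat.card_pi]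
  simp only [Nat.card_congr (Multiplicative.toAdd), Nat.card_prod, Nat.card_pi,
    Nat.card_congr He81.equiv.symm, Nat.card_zmod, Finset.prod_const, Finset.card_univ,
    ZMod.card, Fintype.card_fin]
  norm_num

theorem nSol_gHe_small : nSol GHe 1 = 1 ∧ nSol GHe 2 = 16384 ∧ nSol GHe 3 = 76545 ∧
    nSol GHe 6 = 1327104 := by
  classical
  refine ⟨?_, ?_, ?_, ?_⟩
  · unfold nSol
    simp
  · rw [nSol_sd]
    have hf : (univ.filter fun g : He81 => g ^ 2 = 1) = {1} := by decide +kernel
    rw [hf, Finset.sum_singleton, Fin.prod_univ_one]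
    unfold kerCard
    have h : ∀ v : VHe, ∑ j ∈ range 2, actHe ((1 : He81) ^ j) v = 0 := fun v => by
      simp only [one_pow, map_one, Finset.sum_range_succ, Finset.sum_range_zero, zero_add]
      exact add_self_vhe v
    rw [Nat.card_congr (Equiv.subtypeUnivEquiv h)]
    simp [Nat.card_prod, Nat.card_pi, Nat.card_zmod]
  · rw [nSol_sd, ← sum_ker_eq, Finset.filter_true_of_mem (fun g _ => pow_three_he g)]
    refine Finset.sum_congr rfl fun g _ => ?_
    rw [Fin.prod_univ_one]
    unfold kerCard
    have hsum : ∀ v : VHe, ∑ j ∈ range 3, actHe (g ^ j) v =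
        v + actMap g v + actMap g (actMap g v) := fun v => by
      simp only [Finset.sum_range_succ, Finset.sum_range_zero, zero_add, pow_zero, pow_one, map_one]
      rw [pow_two, map_mul]
      rfl
    simp only [hsum]
    rw [← card_mon, ← card_mon, show kerSca (2 * g.x + g.y) = Nat.card {v : A4 //
      v + wpow (2 * g.x + g.y) v + wpow (2 * g.x + g.y) (wpow (2 * g.x + g.y) v) = 0} from
        (Nat.subtype_card _ (fun v => by simp)).symm, ← Nat.card_prod, ← Nat.card_prod]
    exact Nat.card_congr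
      { toFun := fun v => (⟨v.1.1, congrArg Prod.fst v.2⟩,
          ⟨v.1.2.1, congrArg (fun p : VHe => p.2.1) v.2⟩, ⟨v.1.2.2, congrArg (fun p : VHe => p.2.2) v.2⟩)
        invFun := fun v => ⟨(v.1.1, v.2.1.1, v.2.2.1), Prod.ext v.1.2 (Prod.ext v.2.1.2 v.2.2.2)⟩
        left_inv := fun _ => rfl
        right_inv := fun _ => rfl }
  · rw [← card_gHe]
    unfold nSol
    refine Nat.card_congr (Equiv.subtypeUnivEquiv fun x => ?_)
    refine SemidirectProduct.ext (funext fun i => Multiplicative.toAdd.injective ?_) ?_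
    · refine (pow_left _ x 6 i).trans ?_
      show _ = (0 : VHe)
      rw [show (6 : ℕ) = 3 + 3 from rfl, Finset.sum_range_add]
      simp only [pow_mod_three x.right (3 + _), Nat.add_mod_left, ← pow_mod_three]
      exact add_self_vhe _
    · rw [pow_right, SemidirectProduct.one_right, pow_mod_three]
      simp

theorem finite_gHe : Finite GHe := Finite.of_equiv _ SemidirectProduct.equivProd.symm

theorem pow_six_gHe (x : GHe) : x ^ 6 = 1 :=
  haveI := finite_gHe
  pow_eq_one_of_nSol_eq_card (by rw [nSol_gHe_small.2.2.2, card_gHe]) x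

theorem isSolCount_he : IsSolCount fHe := by
  haveI : Finite GHe := Finite.of_equiv _ SemidirectProduct.equivProd.symm
  refine ⟨GHe, inferInstance, inferInstance, ?_, fun x => ?_, fun n => ?_⟩
  · have h3 : derivedSeries GHe 3 = ⊥ := derivedSeries_sd _ 2 He81.derivedSeries_two
    exact eq_bot_iff.2 (h3 ▸ derivedSeries_antitone _ (by norm_num))
  · rw [show (30 : ℕ) = 6 * 5 from rfl, pow_mul, pow_six_gHe, one_pow]
  · obtain ⟨h1, h2, h3, h6⟩ := nSol_gHe_small
    rw [nSol_gcd (pow_six_gHe) n]
    have hm : n.gcd 6 ∈ Nat.divisors 6 :=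
      Nat.mem_divisors.2 ⟨Nat.gcd_dvd_right n 6, by norm_num⟩
    have hd : Nat.divisors 6 = {1, 2, 3, 6} := by decide
    simp only [hd, Finset.mem_insert, Finset.mem_singleton] at hm
    unfold fHe
    rcases hm with hm | hm | hm | hm <;> simp [hm, h1, h2, h3, h6]

end CfsgLib.PGroup.OT
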