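import Cfsg.Agent.Lib.PGroup.OrderTypeSemidirect
import Mathlib.FieldTheory.Finite.GaloisField
import Mathlib.Data.ZMod.Basic
import Mathlib.GroupTheory.SpecificGroups.Cyclic

/-!
# Solvable groups of exponent dividing 30 with prescribed numbers of solutions of `x ^ n = 1`
-/

set_option autoImplicit false
set_option linter.style.haveILetI false

namespace CfsgLib.PGroup.OT

open Finset

/-- `f` is the solution counting function of a finite solvable group of exponent dividing `30`. -/
def IsSolCount (f : ℕ → ℕ) : Prop :=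
  ∃ (G : Type) (_ : Group G) (_ : Finite G), derivedSeries G 4 = ⊥ ∧ (∀ x : G, x ^ 30 = 1) ∧
    ∀ n, nSol G n = f n

theorem derivedSeries_prod {G K : Type*} [Group G] [Group K] (m : ℕ) (hG : derivedSeries G m = ⊥)
    (hK : derivedSeries K m = ⊥) : derivedSeries (G × K) m = ⊥ := by
  rw [eq_bot_iff]
  intro x hx
  rw [Subgroup.mem_bot]
  have h1 := map_derivedSeries_le_derivedSeries (MonoidHom.fst G K) m ⟨x, hx, rfl⟩
  have h2 := map_derivedSeries_le_derivedSeries (MonoidHom.snd G K) m ⟨x, hx, rfl⟩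
  rw [hG, Subgroup.mem_bot] at h1
  rw [hK, Subgroup.mem_bot] at h2
  exact Prod.ext h1 h2

theorem isSolCount_one : IsSolCount fun _ => 1 := by
  refine ⟨PUnit, inferInstance, inferInstance, ?_, fun x => Subsingleton.elim _ _, fun n => ?_⟩
  · exact Subsingleton.elim _ _
  · unfold nSol
    rw [Nat.card_eq_one_iff_unique]
    exact ⟨inferInstance, ⟨1, Subsingleton.elim _ _⟩⟩

theorem IsSolCount.mul {f g : ℕ → ℕ} (hf : IsSolCount f) (hg : IsSolCount g) :
    IsSolCount fun n => f n * g n := by
  obtain ⟨G, _, _, hG, hGe, hGf⟩ := hf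
  obtain ⟨K, _, _, hK, hKe, hKf⟩ := hg
  exact ⟨G × K, inferInstance, inferInstance, derivedSeries_prod 4 hG hK,
    fun x => Prod.ext (hGe x.1) (hKe x.2), fun n => by rw [nSol_prod, hGf, hKf]⟩

theorem IsSolCount.pow {f : ℕ → ℕ} (hf : IsSolCount f) (e : ℕ) :
    IsSolCount fun n => f n ^ e := by
  induction e with
  | zero => simpa using isSolCount_one
  | succ e ih => simpa [pow_succ] using ih.mul hf

/-- One module: the field with `q ^ d` elements, acted on through a character of order `o` with
exponents `c₁ c₂ c₃` on the three cyclic generators. -/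
structure Comp where
  q : ℕ
  d : ℕ
  o : ℕ
  c₁ : ℕ
  c₂ : ℕ
  c₃ : ℕ

/-- An abelian group `ZMod a × ZMod b × ZMod c` together with modules. -/
structure Spec where
  a : ℕ
  b : ℕ
  c : ℕ
  comps : List Comp

/-- The exponent of the character at a group element. -/
def Comp.psi (k : Comp) (h : ℕ × ℕ × ℕ) : ℕ :=
  (k.c₁ * h.1 + k.c₂ * h.2.1 + k.c₃ * h.2.2) % k.o

/-- The number of elements of a module killed by `1 + h + ⋯ + h ^ (n-1)`. -/
def Comp.kerSize (k : Comp) (h : ℕ × ℕ × ℕ) (n : ℕ) : ℕ :=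
  if k.psi h = 0 ∧ n % k.q ≠ 0 then 1 else k.q ^ k.d

/-- The number of solutions of `x ^ n = 1` in the group of the spec. -/
def Spec.count (s : Spec) (n : ℕ) : ℕ :=
  ((List.range s.a ×ˢ (List.range s.b ×ˢ List.range s.c)).map fun h =>
    if n * h.1 % s.a = 0 ∧ n * h.2.1 % s.b = 0 ∧ n * h.2.2 % s.c = 0 then
      (s.comps.map fun k => k.kerSize h n).prod else 0).sum

/-- The decidable conditions making `count` the counting function of a group of exponent
dividing `30`. -/
def Spec.Valid (s : Spec) : Prop :=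
  0 < s.a ∧ 0 < s.b ∧ 0 < s.c ∧
    (∀ k ∈ s.comps, k.q ∈ [2, 3, 5] ∧ 0 < k.d ∧ 0 < k.o ∧ (k.q ^ k.d - 1) % k.o = 0 ∧
      k.c₁ * s.a % k.o = 0 ∧ k.c₂ * s.b % k.o = 0 ∧ k.c₃ * s.c % k.o = 0) ∧
    s.count 30 = s.a * s.b * s.c * (s.comps.map fun k => k.q ^ k.d).prod

instance decidableValid (s : Spec) : Decidable s.Valid := by
  unfold Spec.Valid
  infer_instance

theorem mul_val_add_modEq {m o e : ℕ} [NeZero m] (he : e * m % o = 0) (x y : ZMod m) :
    e * (x + y).val ≡ e * x.val + e * y.val [MOD o] := by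
  rw [ZMod.val_add, ← Nat.mul_add]
  exact ((Nat.mod_modEq _ m).mul_left' e).of_dvd (Nat.dvd_of_mod_eq_zero he)

theorem exists_unit_orderOf {F : Type*} [Field F] [Finite F] {o : ℕ} (ho : 0 < o)
    (hdvd : o ∣ Nat.card F - 1) : ∃ u : Fˣ, orderOf u = o := by
  obtain ⟨g, hg⟩ := IsCyclic.exists_generator (α := Fˣ)
  have hgo : orderOf g = Nat.card F - 1 := by
    rw [orderOf_eq_card_of_forall_mem_zpowers hg, Nat.card_units]
  obtain ⟨r, hr⟩ := hdvd
  have hr0 : r ≠ 0 := fun e => by
    have h1 := orderOf_pos g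
    rw [hgo, hr, e, mul_zero] at h1
    omega
  exact ⟨g ^ r, by
    rw [orderOf_pow_of_dvd hr0 (by rw [hgo, hr]; exact dvd_mul_left r o), hgo, hr,
      Nat.mul_div_cancel _ (Nat.pos_of_ne_zero hr0)]⟩

theorem isSolCount_spec (s : Spec) (hs : s.Valid) : IsSolCount s.count := by
  classical
  obtain ⟨ha, hb, hc, hk, htop⟩ := hs
  haveI : NeZero s.a := ⟨ha.ne'⟩
  haveI : NeZero s.b := ⟨hb.ne'⟩
  haveI : NeZero s.c := ⟨hc.ne'⟩
  set L := s.comps with hL
  have hq : ∀ i : Fin L.length, (L.get i).q.Prime := fun i => by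
    have h := (hk _ (List.get_mem L i)).1
    simp only [List.mem_cons, List.not_mem_nil, or_false] at h
    rcases h with h | h | h <;> rw [h]
    exacts [Nat.prime_two, Nat.prime_three, Nat.prime_five]
  haveI hfact : ∀ i : Fin L.length, Fact (L.get i).q.Prime := fun i => ⟨hq i⟩
  let V : Fin L.length → Type := fun i => GaloisField (L.get i).q (L.get i).d
  letI : ∀ i, Field (V i) := fun i => (inferInstance : Field (GaloisField (L.get i).q (L.get i).d))
  haveI : ∀ i, Finite (V i) := fun i =>
    (inferInstance : Finite (GaloisField (L.get i).q (L.get i).d))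
  haveI : ∀ i, CharP (V i) (L.get i).q := fun i =>
    (inferInstance : CharP (GaloisField (L.get i).q (L.get i).d) (L.get i).q)
  have hcard : ∀ i, Nat.card (V i) = (L.get i).q ^ (L.get i).d := fun i =>
    GaloisField.card _ _ (hk _ (List.get_mem L i)).2.1.ne'
  choose u hu using fun i => exists_unit_orderOf (F := V i) (hk _ (List.get_mem L i)).2.2.1
    (by rw [hcard]; exact Nat.dvd_of_mod_eq_zero (hk _ (List.get_mem L i)).2.2.2.1)
  let H := Multiplicative (ZMod s.a × ZMod s.b × ZMod s.c)
  let tr : H → ℕ × ℕ × ℕ := fun h => (h.toAdd.1.val, h.toAdd.2.1.val, h.toAdd.2.2.val)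
  let χ : (i : Fin L.length) → H →* (V i)ˣ := fun i =>
    { toFun := fun h => u i ^ (L.get i).psi (tr h)
      map_one' := by simp [tr, Comp.psi]
      map_mul' := fun g h => by
        rw [← pow_add, ← pow_mod_orderOf, ← pow_mod_orderOf _ ((L.get i).psi (tr g) + _), hu]
        congr 1
        obtain ⟨-, -, -, -, h1, h2, h3⟩ := hk _ (List.get_mem L i)
        have e1 := ((mul_val_add_modEq h1 g.toAdd.1 h.toAdd.1).add
          (mul_val_add_modEq h2 g.toAdd.2.1 h.toAdd.2.1)).add
          (mul_val_add_modEq h3 g.toAdd.2.2 h.toAdd.2.2)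
        simp only [Comp.psi, tr, toAdd_mul, Prod.fst_add, Prod.snd_add, Nat.mod_mod,
          ← Nat.add_mod]
        refine e1.trans ?_
        show _ % _ = _ % _
        congr 1
        ring }
  have hχ1 : ∀ i h, χ i h = 1 ↔ (L.get i).psi (tr h) = 0 := by
    intro i h
    show u i ^ (L.get i).psi (tr h) = 1 ↔ _
    rw [← orderOf_dvd_iff_pow_eq_one, hu]
    exact ⟨fun hd => Nat.eq_zero_of_dvd_of_lt hd (Nat.mod_lt _ (hk _ (List.get_mem L i)).2.2.1),
      fun h0 => by rw [h0]; exact dvd_zero _⟩
  set ρ : (i : Fin L.length) → H →* AddMonoid.End (V i) := fun i => (smulAut (V i)).comp (χ i)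
  let T : Finset (ℕ × ℕ × ℕ) :=
    Finset.range s.a ×ˢ (Finset.range s.b ×ˢ Finset.range s.c)
  have hcount : ∀ n, nSol (Sd ρ) n = s.count n := by
    intro n
    rw [nSol_sd ρ n]
    have hpow : ∀ h : H, h ^ n = 1 ↔ n * (tr h).1 % s.a = 0 ∧ n * (tr h).2.1 % s.b = 0 ∧
        n * (tr h).2.2 % s.c = 0 := by
      intro h
      rw [← Multiplicative.toAdd.injective.eq_iff, toAdd_pow, toAdd_one, Prod.ext_iff, Prod.ext_iff]
      simp only [Prod.smul_fst, Prod.smul_snd, Prod.fst_zero, Prod.snd_zero, nsmul_eq_mul, tr,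
        Prod.fst_mul, Prod.snd_mul, Prod.fst_natCast, Prod.snd_natCast,
        ← Nat.dvd_iff_mod_eq_zero, ← ZMod.natCast_eq_zero_iff, Nat.cast_mul, ZMod.natCast_zmod_val]
    let g : ℕ × ℕ × ℕ → ℕ := fun h =>
      if n * h.1 % s.a = 0 ∧ n * h.2.1 % s.b = 0 ∧ n * h.2.2 % s.c = 0 then
        (L.map fun k => k.kerSize h n).prod else 0
    calc ∑ h ∈ univ.filter (fun h : H => h ^ n = 1), ∏ i, kerCard ρ i h n
        = ∑ h : H, g (tr h) := by
          rw [Finset.sum_filter]
          refine Finset.sum_congr rfl fun h _ => ?_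
          by_cases hp : h ^ n = 1
          · simp only [g, if_pos hp, if_pos ((hpow h).1 hp)]
            rw [← Fin.prod_univ_fun_getElem]
            refine Finset.prod_congr rfl fun i _ => ?_
            show kerCard ρ i h n = (L.get i).kerSize (tr h) n
            rw [kerCard_scalar χ (fun i => (L.get i).q) i h n hp, hcard]
            unfold Comp.kerSize
            simp only [hχ1, ne_eq, ← Nat.dvd_iff_mod_eq_zero]
            split_ifs <;> first | rfl | tauto
          · simp only [g, if_neg hp, if_neg (fun hh => hp ((hpow h).2 hh))]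
      _ = ∑ t ∈ T, g t := by
          refine Finset.sum_bij (fun h _ => tr h) ?_ ?_ ?_ (fun _ _ => rfl)
          · intro h _
            simp [T, tr, ZMod.val_lt]
          · intro h _ h' _ he
            simp only [tr, Prod.ext_iff] at he
            exact Multiplicative.toAdd.injective
              (Prod.ext (ZMod.val_injective _ he.1) (Prod.ext (ZMod.val_injective _ he.2.1)
                (ZMod.val_injective _ he.2.2)))
          · intro t ht
            simp only [T, Finset.mem_product, Finset.mem_range] at ht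
            exact ⟨Multiplicative.ofAdd ((t.1 : ZMod s.a), (t.2.1 : ZMod s.b), (t.2.2 : ZMod s.c)),
              Finset.mem_univ _, by simp [tr, ZMod.val_natCast, Nat.mod_eq_of_lt, ht.1, ht.2.1,
                ht.2.2]⟩
      _ = s.count n := by
          rw [Finset.sum_eq_multiset_sum]
          simp only [T, g, Finset.product_val, Finset.range_val, Multiset.range,
            Multiset.coe_product, Multiset.map_coe, Multiset.sum_coe, Spec.count, hL]
  haveI : Finite (Sd ρ) := Finite.of_equiv _ SemidirectProduct.equivProd.symm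
  refine ⟨Sd ρ, inferInstance, inferInstance, ?_, pow_eq_one_of_nSol_eq_card ?_, hcount⟩
  · have h2 : derivedSeries (Sd ρ) 2 = ⊥ := derivedSeries_sd ρ 1 (by
      rw [derivedSeries_one, eq_bot_iff, commutator_def, Subgroup.commutator_le]
      intro x _ y _
      rw [Subgroup.mem_bot, commutatorElement_eq_one_iff_mul_comm, mul_comm])
    exact eq_bot_iff.2 (h2 ▸ derivedSeries_antitone _ (by norm_num))
  · rw [hcount, htop, Nat.card_congr SemidirectProduct.equivProd, Nat.card_prod, Nat.card_pi,
      Nat.card_congr (Multiplicative.toAdd : H ≃ _), Nat.card_prod, Nat.card_prod, Nat.card_zmod,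
      Nat.card_zmod, Nat.card_zmod]
    simp only [Nat.card_congr (Multiplicative.toAdd), hcard]
    rw [← Fin.prod_univ_fun_getElem]
    simp only [List.get_eq_getElem, Fin.getElem_fin]
    ring

end CfsgLib.PGroup.OT
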