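import Mathlib.GroupTheory.SemidirectProduct
import Mathlib.GroupTheory.Solvable
import Mathlib.GroupTheory.OrderOfElement
import Mathlib.Algebra.Field.GeomSum
import Mathlib.Algebra.CharP.Basic

/-!
# Counting solutions of `x ^ n = 1` in semidirect products and products

`Sd ρ` is the semidirect product of a family of additive groups `V i` by a group `H` acting through
`ρ i : H →* AddMonoid.End (V i)`.
-/

set_option autoImplicit false
set_option linter.style.haveILetI false

namespace CfsgLib.PGroup.OT

open Finset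

/-- The number of solutions of `x ^ n = 1`. -/
noncomputable def nSol (G : Type*) [Monoid G] (n : ℕ) : ℕ := Nat.card {x : G // x ^ n = 1}

theorem nSol_congr {G K : Type*} [Monoid G] [Monoid K] (e : G ≃* K) (n : ℕ) :
    nSol G n = nSol K n :=
  Nat.card_congr (e.toEquiv.subtypeEquiv fun x => by
    rw [MulEquiv.toEquiv_eq_coe, MulEquiv.coe_toEquiv, ← map_pow, e.map_eq_one_iff])

theorem nSol_pi {κ : Type*} [Fintype κ] (G : κ → Type*) [∀ k, Monoid (G k)] (n : ℕ) :
    nSol ((k : κ) → G k) n = ∏ k, nSol (G k) n := by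
  unfold nSol
  rw [← Nat.card_pi]
  exact Nat.card_congr
    { toFun := fun x k => ⟨x.1 k, by rw [← Pi.pow_apply, x.2, Pi.one_apply]⟩
      invFun := fun x => ⟨fun k => (x k).1, funext fun k => (x k).2⟩
      left_inv := fun _ => rfl
      right_inv := fun _ => rfl }

theorem nSol_prod (G K : Type*) [Monoid G] [Monoid K] (n : ℕ) :
    nSol (G × K) n = nSol G n * nSol K n := by
  unfold nSol
  rw [← Nat.card_prod]
  exact Nat.card_congr
    { toFun := fun x => (⟨x.1.1, congrArg Prod.fst x.2⟩, ⟨x.1.2, congrArg Prod.snd x.2⟩)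
      invFun := fun x => ⟨(x.1.1, x.2.1), Prod.ext x.1.2 x.2.2⟩
      left_inv := fun _ => rfl
      right_inv := fun _ => rfl }

theorem nSol_gcd {G : Type*} [Monoid G] {E : ℕ} (hE : ∀ x : G, x ^ E = 1) (n : ℕ) :
    nSol G n = nSol G (n.gcd E) :=
  Nat.card_congr (Equiv.subtypeEquivRight fun x => by
    rw [← orderOf_dvd_iff_pow_eq_one, ← orderOf_dvd_iff_pow_eq_one, Nat.dvd_gcd_iff]
    exact ⟨fun h => ⟨h, orderOf_dvd_of_pow_eq_one (hE x)⟩, And.left⟩)

theorem pow_eq_one_of_nSol_eq_card {G : Type*} [Monoid G] [Finite G] {n : ℕ}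
    (h : nSol G n = Nat.card G) (x : G) : x ^ n = 1 := by
  by_contra hx
  have hlt : nSol G n < Nat.card G := Finite.card_subtype_lt hx
  omega

/-- Equal numbers of solutions of `x ^ n = 1` give equal numbers of elements of each order. -/
theorem card_orderOf_eq {G K : Type*} [Group G] [Group K] [Finite G] [Finite K]
    (h : ∀ n, 0 < n → nSol G n = nSol K n) (n : ℕ) :
    Nat.card {g : G // orderOf g = n} = Nat.card {g : K // orderOf g = n} := by
  classical
  haveI := Fintype.ofFinite G
  haveI := Fintype.ofFinite K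
  rcases Nat.eq_zero_or_pos n with rfl | hn0
  · rw [Nat.card_eq_zero.2 (Or.inl ⟨fun g => (orderOf_pos g.1).ne' g.2⟩),
      Nat.card_eq_zero.2 (Or.inl ⟨fun g => (orderOf_pos g.1).ne' g.2⟩)]
  induction n using Nat.strong_induction_on with
  | _ n ih =>
    have eG := sum_card_orderOf_eq_card_pow_eq_one (G := G) hn0.ne'
    have eK := sum_card_orderOf_eq_card_pow_eq_one (G := K) hn0.ne'
    have hG : nSol G n = (univ.filter fun x : G => x ^ n = 1).card :=
      Nat.subtype_card _ (by simp)
    have hK : nSol K n = (univ.filter fun x : K => x ^ n = 1).card :=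
      Nat.subtype_card _ (by simp)
    have key : ∑ m ∈ n.divisors, (univ.filter fun x : G => orderOf x = m).card =
        ∑ m ∈ n.divisors, (univ.filter fun x : K => orderOf x = m).card := by
      convert h n hn0 using 1
      · rw [hG]; convert eG
      · rw [hK]; convert eK
    rw [← Nat.insert_self_properDivisors hn0.ne',
      Finset.sum_insert Nat.self_notMem_properDivisors,
      Finset.sum_insert Nat.self_notMem_properDivisors] at key
    have hsum : ∀ d ∈ n.properDivisors, (Finset.univ.filter fun x : G => orderOf x = d).card =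
        (Finset.univ.filter fun x : K => orderOf x = d).card := by
      intro d hd
      have hd' := Nat.mem_properDivisors.1 hd
      have h1 := ih d hd'.2 (Nat.pos_of_dvd_of_pos hd'.1 hn0)
      rwa [Nat.card_eq_fintype_card, Nat.card_eq_fintype_card, Fintype.card_subtype,
        Fintype.card_subtype] at h1
    rw [Finset.sum_congr rfl hsum] at key
    rw [Nat.card_eq_fintype_card, Nat.card_eq_fintype_card, Fintype.card_subtype,
      Fintype.card_subtype]
    omega

theorem derivedSeries_pi {κ : Type*} (G : κ → Type*) [∀ k, Group (G k)] (m : ℕ)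
    (h : ∀ k, derivedSeries (G k) m = ⊥) : derivedSeries ((k : κ) → G k) m = ⊥ := by
  rw [eq_bot_iff]
  intro x hx
  rw [Subgroup.mem_bot]
  funext k
  have h1 := map_derivedSeries_le_derivedSeries (Pi.evalMonoidHom G k) m ⟨x, hx, rfl⟩
  rw [h k, Subgroup.mem_bot] at h1
  exact h1

section Sd

variable {H : Type*} [Group H] {ι : Type*} {V : ι → Type*} [∀ i, AddCommGroup (V i)]
  (ρ : (i : ι) → H →* AddMonoid.End (V i))

/-- The action of `h` on the product of the modules. -/
def sdAut (h : H) : MulAut ((i : ι) → Multiplicative (V i)) where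
  toFun v i := Multiplicative.ofAdd (ρ i h (v i).toAdd)
  invFun v i := Multiplicative.ofAdd (ρ i h⁻¹ (v i).toAdd)
  left_inv v := funext fun i => by
    show Multiplicative.ofAdd ((ρ i h⁻¹ * ρ i h) (v i).toAdd) = v i
    rw [← map_mul, inv_mul_cancel, map_one]; rfl
  right_inv v := funext fun i => by
    show Multiplicative.ofAdd ((ρ i h * ρ i h⁻¹) (v i).toAdd) = v i
    rw [← map_mul, mul_inv_cancel, map_one]; rfl
  map_mul' v w := funext fun i => by simp [ofAdd_add]

/-- The action as a homomorphism. -/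
def sdHom : H →* MulAut ((i : ι) → Multiplicative (V i)) where
  toFun := sdAut ρ
  map_one' := MulEquiv.ext fun v => funext fun i => by simp [sdAut]
  map_mul' g h := MulEquiv.ext fun v => funext fun i => by simp [sdAut]

/-- The semidirect product. -/
abbrev Sd := ((i : ι) → Multiplicative (V i)) ⋊[sdHom ρ] H

theorem pow_right (x : Sd ρ) (n : ℕ) : (x ^ n).right = x.right ^ n := by
  induction n with
  | zero => simp
  | succ n ih => rw [pow_succ, pow_succ, SemidirectProduct.mul_right, ih]

theorem pow_left (x : Sd ρ) (n : ℕ) (i : ι) :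
    ((x ^ n).left i).toAdd = ∑ j ∈ range n, ρ i (x.right ^ j) (x.left i).toAdd := by
  induction n with
  | zero => simp
  | succ n ih =>
    rw [pow_succ, SemidirectProduct.mul_left, pow_right, Pi.mul_apply, toAdd_mul, ih,
      Finset.sum_range_succ]
    rfl

/-- The number of `v` with `(v, h) ^ n` trivial in component `i`. -/
noncomputable def kerCard (i : ι) (h : H) (n : ℕ) : ℕ :=
  Nat.card {v : V i // ∑ j ∈ range n, ρ i (h ^ j) v = 0}

theorem nSol_sd [Fintype ι] [Fintype H] [DecidableEq H] [∀ i, Finite (V i)] (n : ℕ) :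
    nSol (Sd ρ) n = ∑ h ∈ univ.filter (fun h : H => h ^ n = 1), ∏ i, kerCard ρ i h n := by
  classical
  have e : {x : Sd ρ // x ^ n = 1} ≃
      Σ h : {h : H // h ^ n = 1}, (i : ι) → {v : V i // ∑ j ∈ range n, ρ i (h.1 ^ j) v = 0} :=
    { toFun := fun x => ⟨⟨x.1.right, by rw [← pow_right, x.2, SemidirectProduct.one_right]⟩,
        fun i => ⟨(x.1.left i).toAdd, by
          rw [← pow_left, x.2, SemidirectProduct.one_left, Pi.one_apply, toAdd_one]⟩⟩
      invFun := fun y => ⟨⟨fun i => Multiplicative.ofAdd (y.2 i).1, y.1.1⟩,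
        SemidirectProduct.ext (funext fun i => Multiplicative.toAdd.injective (by
          rw [pow_left, SemidirectProduct.one_left, Pi.one_apply, toAdd_one]
          exact (y.2 i).2)) (by rw [pow_right, SemidirectProduct.one_right]; exact y.1.2)⟩
      left_inv := fun _ => rfl
      right_inv := fun _ => rfl }
  unfold nSol
  rw [Nat.card_congr e, Nat.card_sigma,
    Finset.sum_subtype (univ.filter fun h : H => h ^ n = 1) (p := fun h => h ^ n = 1) (by simp)]
  refine Finset.sum_congr rfl fun h _ => ?_
  rw [Nat.card_pi]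
  rfl

theorem derivedSeries_sd (m : ℕ) (hH : derivedSeries H m = ⊥) :
    derivedSeries (Sd ρ) (m + 1) = ⊥ := by
  have hle : derivedSeries (Sd ρ) m ≤ (SemidirectProduct.inl (φ := sdHom ρ)).range := by
    rw [SemidirectProduct.range_inl_eq_ker_rightHom]
    intro x hx
    rw [MonoidHom.mem_ker]
    have h1 := map_derivedSeries_le_derivedSeries
      (SemidirectProduct.rightHom (φ := sdHom ρ)) m ⟨x, hx, rfl⟩
    rw [hH, Subgroup.mem_bot] at h1
    exact h1
  rw [derivedSeries_succ, eq_bot_iff, Subgroup.commutator_le]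
  intro a ha b hb
  obtain ⟨v, rfl⟩ := hle ha
  obtain ⟨w, rfl⟩ := hle hb
  rw [Subgroup.mem_bot, commutatorElement_eq_one_iff_mul_comm, ← map_mul, ← map_mul, mul_comm]

end Sd

section Scalar

variable {F : Type*} [Field F]

/-- Multiplication by a unit as an additive endomorphism. -/
def smulAut (F : Type*) [Field F] : Fˣ →* AddMonoid.End F where
  toFun u := AddMonoidHom.mulLeft (u : F)
  map_one' := AddMonoidHom.ext fun v => one_mul v
  map_mul' u w := AddMonoidHom.ext fun v => mul_assoc (u : F) (w : F) v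

theorem kerCard_scalar {H : Type*} [Group H] {ι : Type*} {V : ι → Type*} [∀ i, Field (V i)]
    [∀ i, Finite (V i)] (χ : (i : ι) → H →* (V i)ˣ) (q : ι → ℕ) [∀ i, CharP (V i) (q i)]
    (i : ι) (h : H) (n : ℕ) (hn : h ^ n = 1) [Decidable (χ i h = 1)] :
    kerCard (fun i => (smulAut (V i)).comp (χ i)) i h n =
      if χ i h ≠ 1 ∨ q i ∣ n then Nat.card (V i) else 1 := by
  classical
  set s : V i := ∑ j ∈ range n, ((χ i h : (V i)ˣ) : V i) ^ j with hs
  have hv : ∀ v : V i,
      ∑ j ∈ range n, ((smulAut (V i)).comp (χ i)) (h ^ j) v = s * v := by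
    intro v
    rw [hs, Finset.sum_mul]
    refine Finset.sum_congr rfl fun j _ => ?_
    show ((χ i (h ^ j) : (V i)ˣ) : V i) * v = _
    rw [map_pow, Units.val_pow_eq_pow_val]
  unfold kerCard
  simp only [hv]
  by_cases hχ : χ i h = 1
  · have hsn : s = (n : V i) := by rw [hs, hχ]; simp
    by_cases hd : q i ∣ n
    · rw [if_pos (Or.inr hd)]
      have h0 : s = 0 := by rw [hsn]; exact (CharP.cast_eq_zero_iff (V i) (q i) n).2 hd
      simp [h0]
    · rw [if_neg (by tauto)]
      have h0 : s ≠ 0 := fun h0 => hd ((CharP.cast_eq_zero_iff (V i) (q i) n).1 (hsn ▸ h0))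
      rw [Nat.card_eq_one_iff_unique]
      exact ⟨⟨fun a b => Subtype.ext (((mul_eq_zero.1 a.2).resolve_left h0).trans
        ((mul_eq_zero.1 b.2).resolve_left h0).symm)⟩, ⟨0, mul_zero s⟩⟩
  · rw [if_pos (Or.inl hχ)]
    have hne : ((χ i h : (V i)ˣ) : V i) ≠ 1 := fun e => hχ (Units.ext e)
    have h0 : s = 0 := by
      rw [hs, geom_sum_eq hne, ← Units.val_pow_eq_pow_val, ← map_pow, hn, map_one, Units.val_one,
        sub_self, zero_div]
    simp [h0]

end Scalar

end CfsgLib.PGroup.OT
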