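import Cfsg.Agent.Lib.Perm.Dickson.Recog
import Mathlib.GroupTheory.SpecificGroups.Cyclic
import Mathlib.GroupTheory.Transfer

/-!
# Subgroups with a normal Sylow subgroup and cyclic quotient
-/

set_option autoImplicit false
set_option linter.unusedSectionVars false
set_option linter.style.haveILetI false

namespace CfsgLib.PByCyclic

open Subgroup
open scoped commutatorElement

variable {G : Type*} [Group G] [Finite G] {p : ℕ} [Fact p.Prime]

theorem mem_normalizer_of_conj {H : Subgroup G} {g : G} (h : ∀ u ∈ H, g * u * g⁻¹ ∈ H) :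
    g ∈ normalizer (H : Set G) := by
  have heq : H.map (MulAut.conj g).toMonoidHom = H :=
    eq_of_le_of_card_ge (by rintro _ ⟨u, hu, rfl⟩; exact h u hu)
      (by rw [Subgroup.card_map_of_injective (MulAut.conj g).injective])
  refine mem_normalizer_iff.2 fun u => ⟨h u, fun hu => ?_⟩
  obtain ⟨v, hv, hvu⟩ := heq.ge hu
  exact (MulAut.conj g).injective hvu ▸ hv

/-- `Q⟨x⟩` has a normal Sylow subgroup with cyclic quotient. -/
theorem sylow_normal_sup_zpowers {Q : Subgroup G} (hQ : IsPGroup p Q) {x : G}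
    (hx : x ∈ normalizer (Q : Set G)) :
    (∀ S : Sylow p ↥(Q ⊔ zpowers x), (S : Subgroup ↥(Q ⊔ zpowers x)).Normal) ∧
    ∀ (S : Sylow p ↥(Q ⊔ zpowers x)) [(S : Subgroup ↥(Q ⊔ zpowers x)).Normal],
      IsCyclic (↥(Q ⊔ zpowers x) ⧸ (S : Subgroup ↥(Q ⊔ zpowers x))) := by
  set H := Q ⊔ zpowers x
  have hHN : H ≤ normalizer (Q : Set G) := sup_le le_normalizer (zpowers_le.2 hx)
  haveI hn : (Q.subgroupOf H).Normal := (normal_subgroupOf_iff_le_normalizer le_sup_left).2 hHN
  set π := QuotientGroup.mk' (Q.subgroupOf H)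
  have hgen : ∀ q : H ⧸ Q.subgroupOf H, q ∈ zpowers (π ⟨x, mem_sup_right (mem_zpowers x)⟩) := by
    have h : (⊤ : Subgroup H) ≤ (zpowers (π ⟨x, mem_sup_right (mem_zpowers x)⟩)).comap π := by
      have e : (⊤ : Subgroup H) = Q.subgroupOf H ⊔ (zpowers x).subgroupOf H := by
        rw [← subgroupOf_sup le_sup_left le_sup_right, subgroupOf_self]
      rw [e]
      refine sup_le (fun u hu => ?_) (fun u hu => ?_)
      · show π u ∈ zpowers _
        rw [show π u = 1 from (QuotientGroup.eq_one_iff u).2 hu]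
        exact one_mem _
      · obtain ⟨k, hk⟩ := mem_zpowers_iff.1 (mem_subgroupOf.1 hu)
        exact ⟨k, by
          show _ ^ k = π u
          rw [← map_zpow]
          exact congrArg π (Subtype.ext hk)⟩
    intro q
    obtain ⟨u, rfl⟩ := QuotientGroup.mk'_surjective _ q
    exact h (mem_top u)
  have hQ' : IsPGroup p (Q.subgroupOf H) := hQ.comap_subtype
  have hQS : ∀ S : Sylow p H, Q.subgroupOf H ≤ (S : Subgroup H) := fun S =>
    le_sup_left.trans (S.is_maximal' (hQ'.to_sup_of_normal_left S.2) le_sup_right).le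
  have hcom : ∀ a b : H, ⁅a, b⁆ ∈ Q.subgroupOf H := fun a b => by
    rw [← QuotientGroup.eq_one_iff]
    show π ⁅a, b⁆ = 1
    rw [map_commutatorElement, commutatorElement_eq_one_iff_mul_comm]
    obtain ⟨i, hi⟩ := mem_zpowers_iff.1 (hgen (π a))
    obtain ⟨j, hj⟩ := mem_zpowers_iff.1 (hgen (π b))
    rw [← hi, ← hj]
    exact ((Commute.refl _).zpow_zpow i j).eq
  refine ⟨fun S => ⟨fun s hs g => ?_⟩, fun S _ => ?_⟩
  · rw [show g * s * g⁻¹ = ⁅g, s⁆ * s by rw [commutatorElement_def, inv_mul_cancel_right]]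
    exact mul_mem (hQS S (hcom g s)) hs
  · refine ⟨⟨QuotientGroup.mk' (S : Subgroup H) ⟨x, mem_sup_right (mem_zpowers x)⟩, fun q => ?_⟩⟩
    obtain ⟨u, rfl⟩ := QuotientGroup.mk'_surjective _ q
    obtain ⟨k, hk⟩ := mem_zpowers_iff.1 (hgen (π u))
    refine ⟨k, ?_⟩
    show _ ^ k = QuotientGroup.mk' (S : Subgroup H) u
    rw [← map_zpow]
    rw [← map_zpow] at hk
    exact QuotientGroup.eq.2 (hQS S (QuotientGroup.eq.1 hk))

/-- The structure of a group with a normal Sylow subgroup and cyclic quotient. -/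
theorem exists_complement_generator {H : Type*} [Group H] [Finite H] (S : Sylow p H)
    [(S : Subgroup H).Normal] (hc : IsCyclic (H ⧸ (S : Subgroup H))) :
    ∃ y : H, (orderOf y).Coprime p ∧ orderOf y = (S : Subgroup H).index ∧
      ∀ h : H, ∃ k : ℕ, (y ^ k)⁻¹ * h ∈ (S : Subgroup H) := by
  classical
  obtain ⟨⟨q, hq⟩⟩ := hc
  obtain ⟨x, rfl⟩ := QuotientGroup.mk'_surjective _ q
  set π := QuotientGroup.mk' (S : Subgroup H)
  set s := Nat.card (S : Subgroup H)
  set m := (S : Subgroup H).index with hm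
  have hp : p.Prime := Fact.out
  have hcop : m.Coprime p := Nat.Coprime.symm ((hp.coprime_iff_not_dvd).2 S.not_dvd_index)
  have hord : orderOf (π x) = m := by
    rw [hm, Subgroup.index_eq_card]
    exact orderOf_eq_card_of_forall_mem_zpowers hq
  obtain ⟨j, hj⟩ := S.2.exists_card_eq
  have hcs : s.Coprime m := by
    show (Nat.card (S : Subgroup H)).Coprime m
    rw [hj]; exact Nat.Coprime.pow_left j hcop.symm
  set y := x ^ s
  have hym : y ^ m = 1 := by
    rw [← pow_mul, mul_comm, pow_mul]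
    have hxm : x ^ m ∈ (S : Subgroup H) := by
      rw [← QuotientGroup.eq_one_iff]
      show π (x ^ m) = 1
      rw [map_pow, ← hord, pow_orderOf_eq_one]
    exact congrArg Subtype.val (pow_card_eq_one' (x := (⟨x ^ m, hxm⟩ : (S : Subgroup H))))
  have hπy : orderOf (π y) = m := by
    rw [map_pow, Nat.Coprime.orderOf_pow (by rw [hord]; exact hcs.symm), hord]
  have hy : orderOf y = m := Nat.dvd_antisymm (orderOf_dvd_of_pow_eq_one hym) (hπy ▸ orderOf_map_dvd π y)
  refine ⟨y, hy ▸ hcop, hy, fun h => ?_⟩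
  have htop : zpowers (π y) = ⊤ := Subgroup.eq_top_of_card_eq _ (by
    rw [Nat.card_zpowers, hπy, hm, Subgroup.index_eq_card])
  obtain ⟨k, hk⟩ : ∃ k : ℕ, π y ^ k = π h := by
    obtain ⟨k, -, hk⟩ := Finset.mem_image.1
      ((isOfFinOrder_of_finite (π y)).mem_zpowers_iff_mem_range_orderOf.1 (htop.ge (mem_top (π h))))
    exact ⟨k, hk⟩
  refine ⟨k, ?_⟩
  rw [← QuotientGroup.eq_one_iff]
  show π _ = 1
  rw [map_mul, map_inv, map_pow, hk, inv_mul_cancel]

/-- A group with central cyclic Sylow subgroup and cyclic quotient is cyclic. -/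
theorem isCyclic_of_commute {H : Type*} [Group H] [Finite H] (S : Sylow p H) (hS : IsCyclic (S : Subgroup H))
    {y : H} (hcy : ∀ s ∈ (S : Subgroup H), y * s = s * y) (hy : orderOf y = (S : Subgroup H).index)
    (hco : (orderOf y).Coprime p) : IsCyclic H := by
  obtain ⟨⟨s, hs⟩⟩ := hS
  obtain ⟨j, hj⟩ := S.2.exists_card_eq
  have hso : orderOf (s : H) = Nat.card (S : Subgroup H) := by
    rw [orderOf_coe]; exact orderOf_eq_card_of_forall_mem_zpowers hs
  refine isCyclic_of_orderOf_eq_card ((s : H) * y) ?_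
  rw [(show Commute (s : H) y from (hcy s s.2).symm).orderOf_mul_eq_mul_orderOf_of_coprime, hso, hy,
    Subgroup.card_mul_index]
  rw [hso, hj]
  exact Nat.Coprime.pow_left j hco.symm

/-- A `p'`-element inducing an automorphism of a cyclic `p`-group trivial on an element of order `p` centralizes it. -/
theorem commute_of_fix {s y q : G} {k : ℕ} (hs : orderOf s = p ^ k) (hy : (orderOf y).Coprime p)
    (hn : y * s * y⁻¹ ∈ zpowers s) (hq : q ∈ zpowers s) (hqp : orderOf q = p) (hfix : y * q * y⁻¹ = q) :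
    y * s = s * y := by
  have hp : p.Prime := Fact.out
  obtain ⟨a, ha⟩ := mem_zpowers_iff.1 hn
  obtain ⟨c, rfl⟩ := mem_zpowers_iff.1 hq
  -- `a ≡ 1` modulo `p`
  have h1 : (p : ℤ) ∣ a - 1 := by
    have h : (s ^ c) ^ a = s ^ c := by
      conv_rhs => rw [← hfix, ← conj_zpow, ← ha]
      rw [← zpow_mul, ← zpow_mul, mul_comm]
    have h' : (s ^ c) ^ (a - 1) = 1 := by rw [zpow_sub_one, h, mul_inv_cancel]
    have := orderOf_dvd_iff_zpow_eq_one.2 h'
    rwa [hqp] at this
  have h2 : ((p : ℤ) ^ (k + 1)) ∣ a ^ p ^ k - 1 := by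
    have := dvd_sub_pow_of_dvd_sub (R := ℤ) (p := p) (a := a) (b := 1) h1 k
    rwa [one_pow] at this
  have hiter : ∀ i : ℕ, y ^ i * s * (y ^ i)⁻¹ = s ^ (a ^ i) := by
    intro i
    induction i with
    | zero => simp
    | succ i ih =>
      rw [pow_succ', show y * y ^ i * s * (y * y ^ i)⁻¹ = y * (y ^ i * s * (y ^ i)⁻¹) * y⁻¹ by group, ih,
        ← conj_zpow, ← ha, ← zpow_mul, pow_succ']
  have h3 : y ^ p ^ k * s * (y ^ p ^ k)⁻¹ = s := by
    rw [hiter]
    have h4 : s ^ (a ^ p ^ k - 1) = 1 := by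
      refine orderOf_dvd_iff_zpow_eq_one.1 ?_
      rw [hs, Nat.cast_pow]
      exact (pow_dvd_pow (p : ℤ) (Nat.le_succ k)).trans h2
    rw [zpow_sub_one, mul_inv_eq_one] at h4
    exact h4
  have hyz : y ∈ zpowers (y ^ p ^ k) := by
    rw [mem_zpowers_iff]
    obtain ⟨m, hm⟩ := exists_pow_eq_self_of_coprime (n := p ^ k) (x := y) (Nat.Coprime.pow_left k hy.symm)
    exact ⟨m, by rw [zpow_natCast]; exact hm⟩
  have hle : zpowers (y ^ p ^ k) ≤ centralizer ({s} : Set G) :=
    zpowers_le.2 (mem_centralizer_singleton_iff.2 (mul_inv_eq_iff_eq_mul.1 h3))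
  exact mem_centralizer_singleton_iff.1 (hle hyz)

end CfsgLib.PByCyclic
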