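import Cfsg.Agent.Lib.PGroup.UpperPSeriesShift

/-!
# Normal series with alternating `p'` and `p` factors and the `p`-length
-/

set_option autoImplicit false
set_option linter.style.haveILetI false

open Subgroup

namespace CfsgLib.PGroup.PLengthSeries

universe u

variable {G : Type u} [Group G]

/-- A normal series from `A` to `B` with `k` factors of `p`-power order, separated by `p'`-factors. -/
inductive Ser (p : ℕ) : ℕ → Subgroup G → Subgroup G → Prop
  | base {A B : Subgroup G} : A.Normal → B.Normal → A ≤ B → ¬ p ∣ A.relIndex B → Ser p 0 A B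
  | step {k : ℕ} {A B C D : Subgroup G} : Ser p k A B → C.Normal → D.Normal → B ≤ C → C ≤ D →
      (∃ m, B.relIndex C = p ^ m) → ¬ p ∣ C.relIndex D → Ser p (k + 1) A D

theorem Ser.normal_le {p k : ℕ} {A B : Subgroup G} (h : Ser p k A B) : A.Normal ∧ B.Normal ∧ A ≤ B := by
  induction h with
  | base hA hB hle _ => exact ⟨hA, hB, hle⟩
  | step _ hC hD h1 h2 _ _ ih => exact ⟨ih.1, hD, ih.2.2.trans (h1.trans h2)⟩

variable [Finite G] {p : ℕ}

theorem Ser.trans (hp : p.Prime) {k j : ℕ} {A B C : Subgroup G} (h : Ser p k A B) (h' : Ser p j B C) :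
    Ser p (k + j) A C := by
  induction h' with
  | @base B C hB hC hle hn =>
    cases h with
    | base hA _ hle' hn' =>
      refine Ser.base hA hC (hle'.trans hle) ?_
      rw [← relIndex_mul_relIndex A B C hle' hle]
      exact fun h => (hp.dvd_mul.1 h).elim hn' hn
    | step h1 hC1 _ l1 l2 hm hn' =>
      refine Ser.step h1 hC1 hC l1 (l2.trans hle) hm ?_
      rw [← relIndex_mul_relIndex _ B C l2 hle]
      exact fun h => (hp.dvd_mul.1 h).elim hn' hn
  | step _ hC hD l1 l2 hm hn ih => exact Ser.step (ih h) hC hD l1 l2 hm hn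

/-- The relative index of the traces in a section divides the relative index. -/
theorem relIndex_trace_dvd {H H' B C : Subgroup G} [H.Normal] [H'.Normal] [B.Normal] [C.Normal] (hBC : B ≤ C) :
    (H ⊔ B ⊓ H').relIndex (H ⊔ C ⊓ H') ∣ B.relIndex C := by
  have h1 : H ⊔ C ⊓ H' = (C ⊓ H') ⊔ (H ⊔ B ⊓ H') := by
    rw [← sup_assoc, sup_comm (C ⊓ H') H, sup_assoc, sup_eq_left.2 (inf_le_inf_right H' hBC : B ⊓ H' ≤ C ⊓ H')]
  rw [h1, relIndex_sup_right]
  refine (relIndex_dvd_of_le_left _ le_sup_right).trans ?_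
  have h2 : (B ⊓ H').relIndex (C ⊓ H') = B.relIndex (C ⊓ H') := by
    rw [← inf_relIndex_right (B ⊓ H'), ← inf_relIndex_right B, inf_assoc]
    congr 2
    exact inf_eq_right.2 inf_le_right
  rw [h2]
  have h3 : B.relIndex (C ⊓ H') ∣ B.relIndex C := by
    have hmap : ∀ S : Subgroup G, B.relIndex S = Nat.card (S.map (QuotientGroup.mk' B)) := fun S => by
      rw [← relIndex_bot_left, ← Subgroup.map_bot (QuotientGroup.mk' B), relIndex_map_map, QuotientGroup.ker_mk',
        bot_sup_eq, relIndex_sup_right]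
    rw [hmap, hmap]
    exact card_dvd_of_le (map_mono inf_le_left)
  exact h3

/-- A series restricts to each section. -/
theorem Ser.restrict {k : ℕ} {A B H H' : Subgroup G} [H.Normal] [H'.Normal] (hp : p.Prime)
    (h : Ser p k A B) : Ser p k (H ⊔ A ⊓ H') (H ⊔ B ⊓ H') := by
  induction h with
  | base hA hB hle hn =>
    haveI := hA; haveI := hB
    exact Ser.base inferInstance inferInstance (sup_le_sup_left (inf_le_inf_right _ hle) _)
      fun h => hn (h.trans (relIndex_trace_dvd hle))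
  | @step k A B C D h1 hC hD l1 l2 hm hn ih =>
    haveI := hC; haveI := hD; haveI := h1.normal_le.2.1
    refine Ser.step ih inferInstance inferInstance (sup_le_sup_left (inf_le_inf_right _ l1) _)
      (sup_le_sup_left (inf_le_inf_right _ l2) _) ?_ fun h => hn (h.trans (relIndex_trace_dvd l2))
    obtain ⟨m, hm⟩ := hm
    obtain ⟨i, -, hi⟩ := (Nat.dvd_prime_pow hp).1 (hm ▸ relIndex_trace_dvd (H := H) (H' := H') l1)
    exact ⟨i, hi⟩

variable [hpf : Fact p.Prime]

theorem relIndex_comap (U : Subgroup G) [U.Normal] (K : Subgroup (G ⧸ U)) :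
    U.relIndex (K.comap (QuotientGroup.mk' U)) = Nat.card K := by
  conv_rhs => rw [← map_comap_eq_self_of_surjective (QuotientGroup.mk'_surjective U) K,
    ← relIndex_bot_left, ← Subgroup.map_bot (QuotientGroup.mk' U), relIndex_map_map, QuotientGroup.ker_mk',
    bot_sup_eq, relIndex_sup_right]

/-- The upper series is such a series. -/
theorem ser_upper : ∀ j : ℕ, Ser p j (⊥ : Subgroup G) (Cfsg.upperPSeries p G (2 * j + 1)).1 := by
  have hev : ∀ n, Even n → (Cfsg.upperPSeries p G n).1 ≤ (Cfsg.upperPSeries p G (n + 1)).1 ∧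
      ¬ p ∣ (Cfsg.upperPSeries p G n).1.relIndex (Cfsg.upperPSeries p G (n + 1)).1 := by
    intro n hn
    rw [CfsgLib.PGroup.upperPSeries_succ_even hn]
    refine ⟨QuotientGroup.le_comap_mk' _ _, ?_⟩
    rw [CfsgLib.PGroup.stepPrime, relIndex_comap]
    exact CfsgLib.Coprime.pPrimeCore_not_dvd hpf.out
  intro j
  induction j with
  | zero =>
    obtain ⟨h1, h2⟩ := hev 0 Even.zero
    have h0 : (Cfsg.upperPSeries p G 0).1 = ⊥ := by rw [Cfsg.upperPSeries]
    rw [h0] at h2
    exact Ser.base inferInstance inferInstance bot_le h2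
  | succ j ih =>
    obtain ⟨h1, h2⟩ := hev (2 * j + 2) (by simp [parity_simps])
    refine Ser.step ih (Cfsg.upperPSeries p G (2 * j + 2)).2 (Cfsg.upperPSeries p G (2 * j + 3)).2 ?_ h1 ?_ h2
    · rw [CfsgLib.PGroup.upperPSeries_succ_odd (by simp [parity_simps] : ¬ Even (2 * j + 1))]
      exact QuotientGroup.le_comap_mk' _ _
    · rw [CfsgLib.PGroup.upperPSeries_succ_odd (by simp [parity_simps] : ¬ Even (2 * j + 1)),
        CfsgLib.PGroup.stepP, relIndex_comap]
      exact IsPGroup.iff_card.1 (CfsgLib.Coprime.pCore_isPGroup p)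

/-- Conversely such a series bounds the upper series. -/
theorem le_upper {k : ℕ} {A B : Subgroup G} (h : Ser p k A B) {j : ℕ}
    (hA : A ≤ (Cfsg.upperPSeries p G (2 * j + 1)).1) : B ≤ (Cfsg.upperPSeries p G (2 * (j + k) + 1)).1 := by
  have hodd : ∀ n, ∀ (X Y : Subgroup G), Y.Normal → X ≤ Y → X ≤ (Cfsg.upperPSeries p G (2 * n + 1)).1 →
      ¬ p ∣ X.relIndex Y → Y ≤ (Cfsg.upperPSeries p G (2 * n + 1)).1 := by
    intro n X Y hY hXY hX hn
    set U := (Cfsg.upperPSeries p G (2 * n + 1)).1 with hU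
    haveI := hY
    haveI : (Y.map (QuotientGroup.mk' U)).Normal := hY.map _ (QuotientGroup.mk'_surjective U)
    have hbot : Cfsg.pPrimeCore p (G ⧸ U) = ⊥ := CfsgLib.PGroup.pPrimeCore_stepPrime_eq_bot _ U
      (CfsgLib.PGroup.upperPSeries_succ_even (by simp))
    have hle : Y.map (QuotientGroup.mk' U) ≤ ⊥ := hbot ▸ CfsgLib.Coprime.le_pPrimeCore_of_not_dvd hpf.out (fun h => hn (by
      have e : Nat.card (Y.map (QuotientGroup.mk' U)) = U.relIndex Y := by
        rw [← relIndex_bot_left, ← Subgroup.map_bot (QuotientGroup.mk' U), relIndex_map_map,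
          QuotientGroup.ker_mk', bot_sup_eq, relIndex_sup_right]
      exact (e ▸ h).trans (relIndex_dvd_of_le_left _ hX)))
    rwa [le_bot_iff, Subgroup.map_eq_bot_iff, QuotientGroup.ker_mk'] at hle
  induction h with
  | @base A B _ hB hle hn => exact hodd j A B hB hle hA hn
  | @step k A B C D _ hC hD l1 l2 hm hn ih =>
    refine hodd (j + (k + 1)) C D hD l2 ?_ hn
    set U := (Cfsg.upperPSeries p G (2 * (j + k) + 1)).1 with hU
    haveI := hC
    haveI : (C.map (QuotientGroup.mk' U)).Normal := hC.map _ (QuotientGroup.mk'_surjective U)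
    obtain ⟨m, hm⟩ := hm
    have hpg : IsPGroup p (C.map (QuotientGroup.mk' U)) := by
      have e : Nat.card (C.map (QuotientGroup.mk' U)) = U.relIndex C := by
        rw [← relIndex_bot_left, ← Subgroup.map_bot (QuotientGroup.mk' U), relIndex_map_map,
          QuotientGroup.ker_mk', bot_sup_eq, relIndex_sup_right]
      obtain ⟨i, -, hi⟩ := (Nat.dvd_prime_pow hpf.out).1 (hm ▸ relIndex_dvd_of_le_left C (ih hA))
      exact IsPGroup.of_card (e.trans hi)
    have h2 : C ≤ (Cfsg.upperPSeries p G (2 * (j + k) + 2)).1 := by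
      rw [CfsgLib.PGroup.upperPSeries_succ_odd (by simp [parity_simps] : ¬ Even (2 * (j + k) + 1))]
      exact fun c hc => mem_comap.2 (CfsgLib.Coprime.le_pCore hpg (mem_map_of_mem _ hc))
    refine h2.trans ?_
    rw [show 2 * (j + (k + 1)) + 1 = 2 * (j + k) + 2 + 1 by omega,
      CfsgLib.PGroup.upperPSeries_succ_even (p := p) (G := G)
        (show Even (2 * (j + k) + 2) from ⟨j + k + 1, by omega⟩)]
    exact QuotientGroup.le_comap_mk' _ _

/-- A series maps along a surjection. -/
theorem Ser.map {H : Type u} [Group H] {k : ℕ} {A B : Subgroup G} (f : G →* H)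
    (hf : Function.Surjective f) (h : Ser p k A B) : Ser p k (A.map f) (B.map f) := by
  have hd : ∀ {X Y : Subgroup G}, X.Normal → X ≤ Y → (X.map f).relIndex (Y.map f) ∣ X.relIndex Y := fun {X Y} hXn hXY => by
    haveI := hXn
    rw [relIndex_map_map, show Y ⊔ f.ker = Y ⊔ (X ⊔ f.ker) by rw [← sup_assoc, sup_eq_left.2 hXY],
      relIndex_sup_right Y (X ⊔ f.ker)]
    exact relIndex_dvd_of_le_left _ le_sup_left
  induction h with
  | base hA hB hle hn => exact Ser.base (hA.map f hf) (hB.map f hf) (map_mono hle) fun h => hn (h.trans (hd hA hle))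
  | step h1 hC hD l1 l2 hm hn ih =>
    obtain ⟨m, hm⟩ := hm
    obtain ⟨i, -, hi⟩ := (Nat.dvd_prime_pow hpf.out).1 (hm ▸ hd h1.normal_le.2.1 l1)
    exact Ser.step ih (hC.map f hf) (hD.map f hf) (map_mono l1) (map_mono l2) ⟨i, hi⟩ fun h => hn (h.trans (hd hC l2))

/-- The `p`-length does not grow in quotients. -/
theorem pLengthLE_quotient {l : ℕ} (h : Cfsg.PLengthLE p l G) (N : Subgroup G) [N.Normal] :
    Cfsg.PLengthLE p l (G ⧸ N) := by
  have h1 := (ser_upper (G := G) (p := p) l).map (QuotientGroup.mk' N) (QuotientGroup.mk'_surjective N)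
  rw [show (Cfsg.upperPSeries p G (2 * l + 1)).1 = ⊤ from h, Subgroup.map_bot,
    map_top_of_surjective _ (QuotientGroup.mk'_surjective N)] at h1
  have h2 := le_upper h1 (j := 0) bot_le
  rw [Nat.zero_add] at h2
  exact top_le_iff.1 h2

end CfsgLib.PGroup.PLengthSeries
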