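import Cfsg.Agent.Lib.PGroup.PSolvable
import Cfsg.Agent.Lib.Coprime.SchurZassenhaus
import Cfsg.Agent.Lib.Coprime.Action

/-!
# `p`-complements of `p`-solvable groups
-/

set_option autoImplicit false
set_option linter.style.haveILetI false
set_option linter.unusedSectionVars false

open Subgroup
open CfsgLib.Coprime (conjBy)

namespace CfsgLib.PGroup

universe u

theorem exists_pComplement_dominating (n : ℕ) : ∀ (G : Type u) [Group G] [Finite G] (p : ℕ)
    [Fact p.Prime], Nat.card G = n → Cfsg.IsPSolvable p G →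
    ∃ H : Subgroup G, (Nat.card H).Coprime p ∧ (∃ k : ℕ, H.index = p ^ k) ∧
      ∀ U : Subgroup G, (Nat.card U).Coprime p → ∃ g : G, conjBy g U ≤ H := by
  induction n using Nat.strong_induction_on with
  | _ n ih =>
  intro G _ _ p _ hn hG
  have hp : p.Prime := Fact.out
  rcases subsingleton_or_nontrivial G with hs | hnt
  · refine ⟨⊥, by rw [card_bot]; exact Nat.coprime_one_left p, ⟨0, ?_⟩, fun U _ => ⟨1, ?_⟩⟩
    · rw [index_bot, pow_zero, Nat.card_unique]
    · intro x _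
      rw [mem_bot]; exact Subsingleton.elim _ _
  obtain ⟨N, hN, hNne, hcase⟩ : ∃ N : Subgroup G, N.Normal ∧ N ≠ ⊥ ∧
      (IsPGroup p N ∨ (Nat.card N).Coprime p) := by
    rcases pCore_ne_bot_or_pPrimeCore_ne_bot hG with h | h
    · exact ⟨_, Coprime.pCore_normal' p, h, Or.inl (Coprime.pCore_isPGroup p)⟩
    · haveI := Coprime.pPrimeCore_characteristic (G := G) p
      exact ⟨_, inferInstance, h, Or.inr (Coprime.pPrimeCore_coprime hp)⟩
  haveI := hN
  set f := QuotientGroup.mk' N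
  have hf : Function.Surjective f := QuotientGroup.mk'_surjective N
  have hlt : Nat.card (G ⧸ N) < n := by
    rw [← hn, card_eq_card_quotient_mul_card_subgroup N]
    exact lt_mul_of_one_lt_right Nat.card_pos ((one_lt_card_iff_ne_bot _).2 hNne)
  obtain ⟨Hb, hHb, ⟨k, hk⟩, hdom⟩ := ih _ hlt (G ⧸ N) p rfl (isPSolvable_quotient hp hG N)
  set M := Hb.comap f
  have hNM : N ≤ M := fun x hx => by
    rw [mem_comap, show f x = 1 from (QuotientGroup.eq_one_iff x).2 hx]; exact one_mem _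
  have hMcard : Nat.card M = Nat.card N * Nat.card Hb := by
    rw [Coprime.card_eq_card_mul_card_map_mk' N hNM,
      Subgroup.map_comap_eq_self_of_surjective hf]
  have hMidx : M.index = p ^ k := by rw [index_comap_of_surjective _ hf, hk]
  have hUM : ∀ U : Subgroup G, (Nat.card U).Coprime p → ∃ g : G, conjBy g U ≤ M := by
    intro U hU
    obtain ⟨q, hq⟩ := hdom (U.map f) (hU.coprime_dvd_left (card_map_dvd _ f))
    obtain ⟨g, rfl⟩ := hf q
    refine ⟨g, ?_⟩
    rw [← Coprime.conjBy_map f] at hq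
    exact map_le_iff_le_comap.1 hq
  rcases hcase with hNp | hNc
  swap
  · exact ⟨M, by rw [hMcard]; exact hNc.mul_left hHb, ⟨k, hMidx⟩, hUM⟩
  obtain ⟨m, hm⟩ := IsPGroup.iff_card.1 hNp
  have hNidx : (N.subgroupOf M).index = Nat.card Hb := by
    have h := (N.subgroupOf M).card_mul_index
    rw [Nat.card_congr (subgroupOfEquivOfLe hNM).toEquiv, hMcard] at h
    exact Nat.eq_of_mul_eq_mul_left Nat.card_pos h
  obtain ⟨K', hK'⟩ := exists_right_complement'_of_coprime (N := N.subgroupOf M) (by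
    rw [hNidx, Nat.card_congr (subgroupOfEquivOfLe hNM).toEquiv, hm]
    exact hHb.symm.pow_left m)
  set K := K'.map M.subtype with hKdef
  have hKc : Nat.card K = Nat.card Hb := by
    rw [hKdef, card_map_of_injective M.subtype_injective, ← hNidx, ← hK'.symm.index_eq_card]
  have hKM : K ≤ M := map_subtype_le K'
  refine ⟨K, hKc ▸ hHb, ⟨m + k, ?_⟩, fun U hU => ?_⟩
  · have h := K.card_mul_index
    rw [← M.card_mul_index, hMcard, hMidx, hKc, hm,
      show p ^ m * Nat.card Hb * p ^ k = Nat.card Hb * p ^ (m + k) by rw [pow_add]; ring] at h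
    exact Nat.eq_of_mul_eq_mul_left Nat.card_pos h
  obtain ⟨g, hg⟩ := hUM U hU
  set V := conjBy g U with hV
  have hVc : (Nat.card V).Coprime p := by rw [hV, Coprime.card_conjBy]; exact hU
  -- `M = N K`, so `V N ∩ K` complements `N` in `V N`
  have hNKM : ∀ x ∈ M, ∃ a ∈ N, ∃ b ∈ K, a * b = x := fun x hx => by
    obtain ⟨⟨a, b⟩, hab⟩ := hK'.2 (⟨x, hx⟩ : M)
    exact ⟨(a : M), a.2, (b : M), mem_map_of_mem _ b.2, congrArg Subtype.val hab⟩
  set T := K ⊓ (N ⊔ V) with hT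
  have hdisj : ∀ W : Subgroup G, (Nat.card W).Coprime p → W ⊓ N = ⊥ := fun W hW =>
    Coprime.disjoint_of_coprime_card (hm ▸ hW.pow_right m)
  have hNV : ∀ x ∈ N ⊔ V, ∃ a ∈ N, ∃ b ∈ T, a * b = x := by
    intro x hx
    obtain ⟨a, ha, b, hb, rfl⟩ := hNKM x (sup_le hNM hg hx)
    refine ⟨a, ha, b, ⟨hb, ?_⟩, rfl⟩
    have := mul_mem (inv_mem ((le_sup_left : N ≤ N ⊔ V) ha)) hx
    rwa [inv_mul_cancel_left] at this
  have hTc : (Nat.card T).Coprime p :=
    (hKc ▸ hHb).coprime_dvd_left (card_dvd_of_le inf_le_left)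
  have hcardT : Nat.card V = Nat.card T := by
    have h1 : ∀ W : Subgroup G, W ⊓ N = ⊥ → Nat.card (W.map f) = Nat.card W := fun W hW => by
      refine (Nat.card_congr (Equiv.ofBijective
        (fun w : W => (⟨_, mem_map_of_mem f w.2⟩ : W.map f)) ⟨fun a b hab => ?_, ?_⟩)).symm
      · have h2 : (a : G)⁻¹ * b ∈ W ⊓ N :=
          ⟨W.mul_mem (W.inv_mem a.2) b.2, QuotientGroup.eq.1 (congrArg Subtype.val hab)⟩
        rw [hW, mem_bot, inv_mul_eq_one] at h2
        exact Subtype.ext h2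
      · rintro ⟨_, w, hw, rfl⟩
        exact ⟨⟨w, hw⟩, rfl⟩
    rw [← h1 V (hdisj V hVc), ← h1 T (hdisj T hTc)]
    refine le_antisymm (card_le_of_le ?_) (card_le_of_le ?_)
    · rintro _ ⟨v, hv, rfl⟩
      obtain ⟨a, ha, b, hb, rfl⟩ := hNV v ((le_sup_right : V ≤ N ⊔ V) hv)
      exact ⟨b, hb, by rw [map_mul, show f a = 1 from (QuotientGroup.eq_one_iff a).2 ha, one_mul]⟩
    · rintro _ ⟨b, hb, rfl⟩
      have := mem_map_of_mem f hb.2
      rwa [Subgroup.map_sup, show N.map f = ⊥ from (Subgroup.map_eq_bot_iff _).2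
        (by rw [QuotientGroup.ker_mk']), bot_sup_eq] at this
  haveI : Group.IsNilpotent N := hNp.isNilpotent
  obtain ⟨x, hx, hxe⟩ := Coprime.sz_conj_in (A := T) (B := V) (N := N)
    (by rw [normalizer_eq_top]; exact le_top) (hm ▸ hTc.symm.pow_left m)
    (fun v hv => by
      obtain ⟨a, ha, b, hb, rfl⟩ := hNV v ((le_sup_right : V ≤ N ⊔ V) hv)
      exact mul_mem ((le_sup_right : N ≤ T ⊔ N) ha) ((le_sup_left : T ≤ T ⊔ N) hb))
    hcardT (Or.inr (Coprime.isSolvable_of_isNilpotent inferInstance))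
  refine ⟨x * g, ?_⟩
  rw [← Coprime.conjBy_conjBy, ← hV, hxe]
  exact inf_le_left

/-- Existence, conjugacy and dominance of `p`-complements in a `p`-solvable group. -/
theorem pSolvable_pComplements {G : Type u} [Group G] [Finite G] {p : ℕ} [Fact p.Prime]
    (hG : Cfsg.IsPSolvable p G) :
    (∃ H : Subgroup G, (Nat.card H).Coprime p ∧ ∃ n : ℕ, H.index = p ^ n) ∧
    (∀ H₁ H₂ : Subgroup G, (Nat.card H₁).Coprime p → (∃ n : ℕ, H₁.index = p ^ n) →
      (Nat.card H₂).Coprime p → (∃ n : ℕ, H₂.index = p ^ n) →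
      ∃ g : G, H₂ = H₁.map (MulAut.conj g).toMonoidHom) ∧
    (∀ U : Subgroup G, (Nat.card U).Coprime p → ∃ H : Subgroup G, (Nat.card H).Coprime p ∧
      (∃ n : ℕ, H.index = p ^ n) ∧ ∃ g : G, U.map (MulAut.conj g).toMonoidHom ≤ H) := by
  obtain ⟨H, hH, hHi, hdom⟩ := exists_pComplement_dominating _ G p rfl hG
  refine ⟨⟨H, hH, hHi⟩, ?_, fun U hU => ⟨H, hH, hHi, hdom U hU⟩⟩
  have hcard : ∀ A B : Subgroup G, (Nat.card A).Coprime p → (∃ n : ℕ, B.index = p ^ n) →
      Nat.card A ∣ Nat.card B := by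
    rintro A B hA ⟨b, hb⟩
    have h : Nat.card A ∣ Nat.card B * p ^ b := hb ▸ B.card_mul_index ▸ card_subgroup_dvd_card A
    exact (hA.pow_right b).dvd_of_dvd_mul_right h
  have hconj : ∀ K : Subgroup G, (Nat.card K).Coprime p → (∃ n : ℕ, K.index = p ^ n) →
      ∃ g : G, conjBy g K = H := fun K hK hKi => by
    obtain ⟨g, hg⟩ := hdom K hK
    exact ⟨g, eq_of_le_of_card_ge hg (by
      rw [Coprime.card_conjBy]; exact Nat.le_of_dvd Nat.card_pos (hcard H K hH hKi))⟩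
  intro H₁ H₂ h₁ i₁ h₂ i₂
  obtain ⟨g₁, e₁⟩ := hconj H₁ h₁ i₁
  obtain ⟨g₂, e₂⟩ := hconj H₂ h₂ i₂
  refine ⟨g₂⁻¹ * g₁, ?_⟩
  show H₂ = conjBy (g₂⁻¹ * g₁) H₁
  rw [← Coprime.conjBy_conjBy, e₁, ← e₂, Coprime.conjBy_conjBy, inv_mul_cancel, Coprime.conjBy_one]

end CfsgLib.PGroup
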