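import Cfsg.Agent.Lib.Coprime.Hall
import Mathlib.GroupTheory.GroupAction.Quotient
import Mathlib.Algebra.Group.Conj
import Mathlib.Data.Nat.ChineseRemainder

/-!
# Classes of π-elements over a normal subgroup
-/

set_option autoImplicit false
set_option linter.style.haveILetI false
set_option linter.unusedSectionVars false

namespace CfsgLib.PGroup.PiClasses

open CfsgLib.Coprime (IsPiNum)

universe u

/-- The classes of π-elements. -/
abbrev PiClass (π : Set ℕ) (G : Type u) [Group G] : Type u :=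
  {C : ConjClasses G // ∀ q : ℕ, q.Prime → (∃ g : G, ConjClasses.mk g = C ∧ q ∣ orderOf g) → q ∈ π}

theorem pow_eq_one_iff_piElement {π : Set ℕ} {a b : ℕ} (hcop : a.Coprime b) (ha : IsPiNum π a)
    (hb : IsPiNum πᶜ b) {G : Type u} [Group G] {x : G} (hx : x ^ (a * b) = 1) :
    x ^ a = 1 ↔ IsPiNum π (orderOf x) := by
  refine ⟨fun h => ha.of_dvd (orderOf_dvd_of_pow_eq_one h), fun h => ?_⟩
  exact orderOf_dvd_iff_pow_eq_one.1
    ((Coprime.isPiNum_coprime h hb).dvd_of_dvd_mul_right (orderOf_dvd_of_pow_eq_one hx))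

theorem piClass_iff {π : Set ℕ} {G : Type u} [Group G] (x : G) :
    (∀ q : ℕ, q.Prime → (∃ g : G, ConjClasses.mk g = ConjClasses.mk x ∧ q ∣ orderOf g) → q ∈ π) ↔
      IsPiNum π (orderOf x) := by
  refine ⟨fun h q hq hd => h q hq ⟨x, rfl, hd⟩, fun h q hq ⟨g, hg, hd⟩ => h q hq ?_⟩
  obtain ⟨c, hc⟩ := isConj_iff.1 (ConjClasses.mk_eq_mk_iff_isConj.1 hg)
  rwa [← hc, show c * g * c⁻¹ = MulAut.conj c g from rfl, MulEquiv.orderOf_eq]

variable {G : Type u} [Group G] (N : Subgroup G) [N.Normal] (a : ℕ)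

/-- The `a`-torsion elements in a coset. -/
abbrev CosetTorsion (c : G ⧸ N) : Type u := {x : G // QuotientGroup.mk' N x = c ∧ x ^ a = 1}

instance cosetTorsionAction (c : G ⧸ N) : MulAction N (CosetTorsion N a c) where
  smul n x := ⟨n * x * (n : G)⁻¹, by
    have hn : QuotientGroup.mk' N (n : G) = 1 := (QuotientGroup.eq_one_iff _).2 n.2
    rw [map_mul, map_mul, map_inv, hn, x.2.1, one_mul, inv_one, mul_one], by
    rw [conj_pow, x.2.2, mul_one, mul_inv_cancel]⟩
  one_smul x := Subtype.ext (show (1 : G) * x * (1 : G)⁻¹ = x by rw [one_mul, inv_one, mul_one])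
  mul_smul m n x := Subtype.ext (show ((m * n : N) : G) * x * ((m * n : N) : G)⁻¹ =
    (m : G) * ((n : G) * x * (n : G)⁻¹) * (m : G)⁻¹ by rw [Subgroup.coe_mul]; group)

/-- The number of orbits. -/
noncomputable abbrev orbitCount (c : G ⧸ N) : ℕ :=
  Nat.card (MulAction.orbitRel.Quotient N (CosetTorsion N a c))

theorem orbitCount_le [Finite G] {b : ℕ} (hcop : a.Coprime b) (hab : Nat.card G = a * b)
    (c : G ⧸ N) (hc : c ^ a = 1) : orbitCount N a c ≤ orbitCount N a 1 := by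
  classical
  obtain ⟨e, he1, he0⟩ := Nat.chineseRemainder hcop 1 0
  obtain ⟨e', he'0, he'1⟩ := Nat.chineseRemainder hcop 0 1
  have hG : ∀ x : G, x ^ (a * b) = 1 := fun x => hab ▸ pow_card_eq_one'
  have hpa : ∀ {x : G}, x ^ a = 1 → x ^ e = x ∧ x ^ e' = 1 := fun {x} hx => by
    refine ⟨?_, ?_⟩
    · rw [pow_eq_pow_mod e hx, show e % a = 1 % a from he1, ← pow_eq_pow_mod 1 hx, pow_one]
    · rw [pow_eq_pow_mod e' hx, show e' % a = 0 % a from he'0, Nat.zero_mod, pow_zero]
  have hee : ∀ x : G, (x ^ e) ^ a = 1 := fun x => by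
    obtain ⟨k, hk⟩ := Nat.modEq_zero_iff_dvd.1 he0
    rw [hk, ← pow_mul, show b * k * a = a * b * k by ring, pow_mul, hG, one_pow]
  have hee' : ∀ x : G, (x ^ e') ^ e = 1 := fun x => by
    obtain ⟨k, hk⟩ := Nat.modEq_zero_iff_dvd.1 he'0
    obtain ⟨l, hl⟩ := Nat.modEq_zero_iff_dvd.1 he0
    rw [hk, hl, ← pow_mul, show a * k * (b * l) = a * b * (k * l) by ring, pow_mul, hG, one_pow]
  have hsplit : ∀ x : G, x ^ e * x ^ e' = x := fun x => by
    rw [← pow_add]
    have hmod : e + e' ≡ 1 [MOD a * b] := by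
      refine (Nat.modEq_and_modEq_iff_modEq_mul hcop).1 ⟨?_, ?_⟩
      · simpa using he1.add he'0
      · simpa using he0.add he'1
    rw [pow_eq_pow_mod (e + e') (hG x), show (e + e') % (a * b) = 1 % (a * b) from hmod,
      ← pow_eq_pow_mod 1 (hG x), pow_one]
  let P := fun d : G ⧸ N => Σ n : N, MulAction.fixedBy (CosetTorsion N a d) n
  have hP : ∀ d, Nat.card (P d) = orbitCount N a d * Nat.card N := fun d => by
    rw [Nat.card_congr (MulAction.sigmaFixedByEquivOrbitsProdGroup N (CosetTorsion N a d)),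
      Nat.card_prod]
  have hcomm : ∀ {d} (p : P d), Commute (p.1 : G) (p.2.1.1) := fun p => by
    have h : (p.1 : G) * p.2.1.1 * (p.1 : G)⁻¹ = p.2.1.1 := congrArg Subtype.val p.2.2
    exact mul_inv_eq_iff_eq_mul.1 h
  -- the elements of the coset commuting with an element
  let base : G → G := fun t =>
    if h : ∃ X : G, QuotientGroup.mk' N X = c ∧ Commute t X then h.choose else 1
  have hkey : ∀ p : P c, let t := (p.1 : G) ^ e
      let X := p.2.1.1 * (p.1 : G) ^ e'
      (QuotientGroup.mk' N X = c ∧ Commute t X) ∧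
        QuotientGroup.mk' N (base t) = c ∧ Commute t (base t) := by
    intro p t X
    have h1 : QuotientGroup.mk' N X = c ∧ Commute t X := by
      refine ⟨?_, ((hcomm p).pow_left e).mul_right ((Commute.refl _).pow_pow e e')⟩
      rw [map_mul, p.2.1.2.1, show QuotientGroup.mk' N ((p.1 : G) ^ e') = 1 from
        (QuotientGroup.eq_one_iff _).2 (pow_mem p.1.2 e'), mul_one]
    have hex : ∃ X : G, QuotientGroup.mk' N X = c ∧ Commute t X := ⟨X, h1⟩
    refine ⟨h1, ?_⟩
    simp only [base, dif_pos hex]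
    exact hex.choose_spec
  let F : P c → P 1 := fun p =>
    ⟨⟨(base ((p.1 : G) ^ e))⁻¹ * (p.2.1.1 * (p.1 : G) ^ e'), QuotientGroup.eq.1
        ((hkey p).2.1.trans (hkey p).1.1.symm)⟩,
      ⟨⟨(p.1 : G) ^ e, (QuotientGroup.eq_one_iff _).2 (pow_mem p.1.2 e), hee _⟩, Subtype.ext (by
        show _ * (p.1 : G) ^ e * _⁻¹ = (p.1 : G) ^ e
        rw [mul_inv_eq_iff_eq_mul]
        exact (((hkey p).2.2.inv_right).mul_right (hkey p).1.2).eq.symm)⟩⟩
  have hF : Function.Injective F := by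
    intro p p' h
    have h1 : (p.1 : G) ^ e = (p'.1 : G) ^ e :=
      congrArg (fun q : P 1 => (q.2.1.1 : G)) h
    have h2 : (base ((p.1 : G) ^ e))⁻¹ * (p.2.1.1 * (p.1 : G) ^ e') =
        (base ((p'.1 : G) ^ e))⁻¹ * (p'.2.1.1 * (p'.1 : G) ^ e') :=
      congrArg (fun q : P 1 => (q.1 : G)) h
    rw [h1, mul_right_inj] at h2
    have hx : ∀ q : P c, (q.2.1.1 * (q.1 : G) ^ e') ^ e = q.2.1.1 := fun q => by
      rw [((hcomm q).pow_left e').symm.mul_pow, (hpa q.2.1.2.2).1, hee', mul_one]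
    have h3 : p.2.1.1 = p'.2.1.1 := by rw [← hx p, ← hx p', h2]
    have h4 : (p.1 : G) = p'.1 := by
      rw [h3, mul_right_inj] at h2
      rw [← hsplit p.1, ← hsplit p'.1, h1, h2]
    obtain ⟨n, x, hx'⟩ := p
    obtain ⟨n', x', hx''⟩ := p'
    obtain rfl : n = n' := Subtype.ext h4
    obtain rfl : x = x' := Subtype.ext h3
    rfl
  have h := Nat.card_le_card_of_injective F hF
  rw [hP, hP] at h
  exact Nat.le_of_mul_le_mul_right h Nat.card_pos

/-- Submultiplicativity of the number of classes of π-elements. -/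
theorem card_piClass_le [Finite G] (π : Set ℕ) :
    Nat.card (PiClass π G) ≤ Nat.card (PiClass π N) * Nat.card (PiClass π (G ⧸ N)) := by
  classical
  obtain ⟨a, b, hab, ha, hb⟩ := Coprime.exists_pi_split π (Nat.card_pos (α := G)).ne'
  have hcop := Coprime.isPiNum_coprime ha hb
  have hG : ∀ x : G, x ^ (a * b) = 1 := fun x => hab ▸ pow_card_eq_one'
  have hQ : ∀ x : G ⧸ N, x ^ (a * b) = 1 := fun x => by
    obtain ⟨x, rfl⟩ := QuotientGroup.mk'_surjective N x
    rw [← map_pow, hG, map_one]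
  have hN : ∀ x : N, x ^ (a * b) = 1 := fun x => Subtype.ext (by
    rw [SubgroupClass.coe_pow]; exact hG x)
  have hrep : ∀ C : PiClass π (G ⧸ N), ∃ c : G ⧸ N, ConjClasses.mk c = C.1 ∧ c ^ a = 1 := by
    rintro ⟨C, hC⟩
    obtain ⟨c, rfl⟩ := ConjClasses.mk_surjective C
    exact ⟨c, rfl, (pow_eq_one_iff_piElement hcop ha hb (hQ c)).2 ((piClass_iff c).1 hC)⟩
  choose rep hrep1 hrep2 using hrep
  -- every class comes from a chosen coset
  let F : (Σ C : PiClass π (G ⧸ N), MulAction.orbitRel.Quotient N (CosetTorsion N a (rep C))) →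
      PiClass π G := fun p => Quotient.liftOn p.2
    (fun x => ⟨ConjClasses.mk x.1, (piClass_iff x.1).2
      ((pow_eq_one_iff_piElement hcop ha hb (hG _)).1 x.2.2)⟩)
    (fun x y h => Subtype.ext (by
      obtain ⟨n, hn⟩ := h
      refine (ConjClasses.mk_eq_mk_iff_isConj.2 (isConj_iff.2 ⟨(n : G), ?_⟩)).symm
      exact congrArg Subtype.val hn))
  have hF : Function.Surjective F := by
    rintro ⟨C, hC⟩
    obtain ⟨x, rfl⟩ := ConjClasses.mk_surjective C
    have hxa : x ^ a = 1 := (pow_eq_one_iff_piElement hcop ha hb (hG x)).2 ((piClass_iff x).1 hC)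
    let D : PiClass π (G ⧸ N) := ⟨ConjClasses.mk (QuotientGroup.mk' N x), (piClass_iff _).2
      ((pow_eq_one_iff_piElement hcop ha hb (hQ _)).1 (by rw [← map_pow, hxa, map_one]))⟩
    obtain ⟨g, hg⟩ := isConj_iff.1 (ConjClasses.mk_eq_mk_iff_isConj.1 (hrep1 D).symm)
    obtain ⟨g, rfl⟩ := QuotientGroup.mk'_surjective N g
    refine ⟨⟨D, Quotient.mk'' ⟨g * x * g⁻¹, ?_, ?_⟩⟩, Subtype.ext ?_⟩
    · rw [map_mul, map_mul, map_inv, hg]
    · rw [conj_pow, hxa, mul_one, mul_inv_cancel]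
    · exact ConjClasses.mk_eq_mk_iff_isConj.2 (isConj_iff.2 ⟨g⁻¹, by group⟩)
  have hone : orbitCount N a 1 ≤ Nat.card (PiClass π N) := by
    have hmem : ∀ x : CosetTorsion N a 1, x.1 ∈ N := fun x => (QuotientGroup.eq_one_iff _).1 x.2.1
    let Φ : MulAction.orbitRel.Quotient N (CosetTorsion N a 1) → PiClass π N := fun p =>
      Quotient.liftOn p (fun x => ⟨ConjClasses.mk (⟨x.1, hmem x⟩ : N),
        (piClass_iff _).2 ((pow_eq_one_iff_piElement hcop ha hb (hN _)).1 (Subtype.ext x.2.2))⟩)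
      (fun x y h => Subtype.ext (by
        obtain ⟨n, hn⟩ := h
        refine (ConjClasses.mk_eq_mk_iff_isConj.2 (isConj_iff.2 ⟨n, ?_⟩)).symm
        exact Subtype.ext (congrArg (fun z : CosetTorsion N a 1 => (z : G)) hn)))
    refine Nat.card_le_card_of_injective Φ fun p q => ?_
    refine Quotient.inductionOn₂ p q fun x y h => Quotient.sound ?_
    obtain ⟨n, hn⟩ := isConj_iff.1 (ConjClasses.mk_eq_mk_iff_isConj.1 (congrArg Subtype.val h).symm)
    exact ⟨n, Subtype.ext (congrArg (fun z : N => (z : G)) hn)⟩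
  letI : Fintype (PiClass π (G ⧸ N)) := Fintype.ofFinite _
  refine (Nat.card_le_card_of_surjective F hF).trans ?_
  rw [Nat.card_sigma, mul_comm]
  refine (Finset.sum_le_card_nsmul _ _ _ fun C _ =>
    (orbitCount_le N a hcop hab (rep C) (hrep2 C)).trans hone).trans_eq ?_
  rw [smul_eq_mul, Finset.card_univ, ← Nat.card_eq_fintype_card]

end CfsgLib.PGroup.PiClasses
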