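import Mathlib
import Cfsg.Agent.Lib.Coprime.Action
import Cfsg.Agent.Lib.PGroup.ShortTools

/-!
# `π`-closed groups and `π'`-homogeneity

A group is `π`-closed when its `π`-elements form a subgroup.  If elements of `π`-power order in
normalizers of `π'`-subgroups centralize them, then an extension of `π`-closed groups is
`π`-closed.
-/

set_option autoImplicit false
open Subgroup CfsgLib.Coprime

namespace CfsgLib.PGroup.PiClosed

universe u
variable (π : Set ℕ)

/-- All prime divisors of the order of `x` lie in `π`. -/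
def PiElem {G : Type*} [Monoid G] (x : G) : Prop := ∀ p : ℕ, p.Prime → p ∣ orderOf x → p ∈ π

/-- Elements of `π`-prime-power order in the normalizer of a `π'`-subgroup centralize it. -/
def Homog (G : Type*) [Group G] : Prop :=
  ∀ H : Subgroup G, (∀ q : ℕ, q.Prime → q ∣ Nat.card H → q ∉ π) →
    ∀ (p : ℕ) (y : G), p.Prime → p ∈ π → (∃ k : ℕ, y ^ p ^ k = 1) →
      y ∈ normalizer (H : Set G) → y ∈ centralizer (H : Set G)

variable {π}

theorem piElem_of_pow_eq_one {G : Type*} [Monoid G] {x : G} {n : ℕ} (h : x ^ n = 1)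
    (hn : ∀ p : ℕ, p.Prime → p ∣ n → p ∈ π) : PiElem π x :=
  fun p hp hd => hn p hp (hd.trans (orderOf_dvd_of_pow_eq_one h))

theorem PiElem.map {G H : Type*} [Group G] [Group H] (f : G →* H) {x : G} (h : PiElem π x) :
    PiElem π (f x) := fun p hp hd => h p hp (hd.trans (orderOf_map_dvd f x))

theorem piElem_map_iff {G H : Type*} [Group G] [Group H] (f : G →* H) (hf : Function.Injective f)
    {x : G} : PiElem π (f x) ↔ PiElem π x := by
  simp only [PiElem, orderOf_injective f hf x]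

theorem Homog.subgroup {G : Type*} [Group G] (h : Homog π G) (S : Subgroup G) : Homog π S := by
  intro H hH p y hp hpπ ⟨k, hk⟩ hy
  have h1 : (y : G) ∈ centralizer ((H.map S.subtype : Subgroup G) : Set G) := by
    refine h _ (fun q hq hd => hH q hq (by rwa [card_map_of_injective S.subtype_injective] at hd))
      p y hp hpπ ⟨k, by rw [← coe_pow, hk, coe_one]⟩ ?_
    rw [← conjBy_eq_self_iff, show (y : G) = S.subtype y from rfl, ← conjBy_map,
      conjBy_eq_self_iff.2 hy]
  exact mem_centralizer_iff.2 fun b hb =>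
    Subtype.ext (mem_centralizer_iff.1 h1 b (mem_map_of_mem _ hb))

theorem homog_of_relIndex {G : Type*} [Group G] [Finite G]
    (h : ∀ H : Subgroup G, H ≠ ⊥ → (∀ p : ℕ, p.Prime → p ∣ Nat.card ↥H → p ∉ π) →
      ∀ p : ℕ, p.Prime → p ∣ (centralizer (H : Set G)).relIndex (normalizer (H : Set G)) → p ∉ π) :
    Homog π G := by
  intro H hH p y hp hpπ ⟨k, hk⟩ hy
  rcases eq_or_ne H ⊥ with rfl | hne
  · exact mem_centralizer_iff.2 fun b hb => by
      rw [show b = 1 from mem_bot.1 hb, one_mul, mul_one]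
  have hnd : ¬ p ∣ (centralizer (H : Set G)).relIndex (normalizer (H : Set G)) :=
    fun hd => h H hne hH p hp hd hpπ
  have h1 : (⟨y, hy⟩ : normalizer (H : Set G)) ^ (centralizer (H : Set G)).relIndex (normalizer (H : Set G))
      ∈ (normalizerMonoidHom H).ker := by
    rw [Subgroup.relIndex, ← normalizerMonoidHom_ker]
    exact pow_index_mem _ _
  rw [normalizerMonoidHom_ker, mem_subgroupOf] at h1
  exact mem_of_pow_mem_coprime hp (n := k) (by rw [hk]; exact one_mem _) hnd h1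

/-- The key step: a group with a normal `π'`-subgroup and `π`-closed quotient. -/
theorem exists_closed_of_piPrime_normal {G : Type u} [Group G] [Finite G] (K : Subgroup G) [K.Normal]
    (hK : ∀ p : ℕ, p.Prime → p ∣ Nat.card K → p ∉ π) (M : Subgroup (G ⧸ K))
    (hM : ∀ x : G ⧸ K, x ∈ M ↔ PiElem π x)
    (hcent : ∀ x : G, PiElem π x → x ∈ centralizer (K : Set G)) :
    ∃ R : Subgroup G, ∀ x : G, x ∈ R ↔ PiElem π x := by
  set C : Subgroup G := centralizer (K : Set G) ⊓ M.comap (QuotientGroup.mk' K)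
  set Z : Subgroup C := K.subgroupOf C with hZ
  have hZc : ∀ z ∈ Z, ∀ c : C, z * c = c * z := fun z hz c =>
    Subtype.ext (mem_centralizer_iff.1 (Subgroup.mem_inf.1 c.2).1 _ hz)
  haveI : Z.Normal := ⟨fun z hz c => by rwa [← hZc z hz c, mul_inv_cancel_right]⟩
  have hZK : Nat.card Z ∣ Nat.card K := card_comap_dvd_of_injective K C.subtype C.subtype_injective
  have hidx : ∀ q : ℕ, q.Prime → q ∣ Z.index → q ∈ π := by
    intro q hq hd
    haveI := Fact.mk hq
    rw [index_eq_card] at hd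
    obtain ⟨a, ha⟩ := exists_prime_orderOf_dvd_card' q hd
    obtain ⟨c, rfl⟩ := QuotientGroup.mk'_surjective Z a
    have h1 : PiElem π (QuotientGroup.mk' K (c : G)) := (hM _).1 (Subgroup.mem_inf.1 c.2).2
    refine h1 q hq (ha ▸ orderOf_dvd_of_pow_eq_one ?_)
    rw [← map_pow]
    refine (QuotientGroup.eq_one_iff _).2 (mem_subgroupOf.2 ((QuotientGroup.eq_one_iff _).1 ?_))
    change QuotientGroup.mk' K ((c : G) ^ _) = 1
    rw [map_pow, pow_orderOf_eq_one]
  obtain ⟨R, hR⟩ := exists_right_complement'_of_coprime (N := Z) (Nat.coprime_of_dvd fun q hq h1 h2 =>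
    hK q hq (h1.trans hZK) (hidx q hq h2))
  have hRc : Nat.card R = Z.index := hR.symm.index_eq_card.symm
  have hRn : R.Normal := ⟨fun r hr c => by
    obtain ⟨⟨⟨z, hz⟩, ⟨s, hs⟩⟩, rfl⟩ := hR.2 c
    change z * s * r * (z * s)⁻¹ ∈ R
    rw [show z * s * r * (z * s)⁻¹ = z * (s * r * s⁻¹) * z⁻¹ by group, hZc z hz, mul_inv_cancel_right]
    exact mul_mem (mul_mem hs hr) (inv_mem hs)⟩
  haveI := hRn
  refine ⟨R.map C.subtype, fun x => ⟨?_, fun hx => ?_⟩⟩
  · rintro ⟨r, hr, rfl⟩
    refine (piElem_map_iff C.subtype C.subtype_injective).2 fun q hq hd => hidx q hq ?_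
    rw [← hRc]
    exact hd.trans (orderOf_mk r hr ▸ orderOf_dvd_natCard (⟨r, hr⟩ : R))
  · have hxC : x ∈ C := Subgroup.mem_inf.2 ⟨hcent x hx, (hM _).2 (hx.map _)⟩
    refine ⟨⟨x, hxC⟩, ?_, rfl⟩
    change (⟨x, hxC⟩ : C) ∈ R
    rw [← QuotientGroup.eq_one_iff (N := R), ← orderOf_eq_one_iff]
    refine Nat.eq_one_iff_not_exists_prime_dvd.2 fun q hq hd => ?_
    have h2 : q ∣ Nat.card Z := by
      rw [← hR.index_eq_card, index_eq_card]
      exact hd.trans (orderOf_dvd_natCard _)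
    exact hK q hq (h2.trans hZK)
      (hx q hq (hd.trans ((orderOf_map_dvd (QuotientGroup.mk' R) _).trans
        (by rw [← Subgroup.orderOf_coe]))))

/-- `π`-closure passes through extensions under `π'`-homogeneity. -/
theorem closed_of_extension {G : Type u} [Group G] [Finite G] (hom : Homog π G) (K : Subgroup G)
    [hKn : K.Normal] (hK : ∃ L : Subgroup K, ∀ x : K, x ∈ L ↔ PiElem π x)
    (hQ : ∃ L : Subgroup (G ⧸ K), ∀ x : G ⧸ K, x ∈ L ↔ PiElem π x) :
    ∃ L : Subgroup G, ∀ x : G, x ∈ L ↔ PiElem π x := by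
  obtain ⟨L₀, hL₀⟩ := hK
  set L := L₀.map K.subtype with hLdef
  have hLK : L ≤ K := map_subtype_le _
  have hL : ∀ x : G, x ∈ L ↔ x ∈ K ∧ PiElem π x := by
    intro x
    refine ⟨?_, fun hx => ⟨⟨x, hx.1⟩, (hL₀ _).2 ((piElem_map_iff K.subtype K.subtype_injective).1 hx.2), rfl⟩⟩
    rintro ⟨k, hk, rfl⟩
    exact ⟨k.2, (piElem_map_iff K.subtype K.subtype_injective).2 ((hL₀ k).1 hk)⟩
  haveI hLn : L.Normal := ⟨fun a ha g => (hL _).2 ⟨hKn.conj_mem a ((hL a).1 ha).1 g,
    ((hL a).1 ha).2.map (MulAut.conj g).toMonoidHom⟩⟩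
  set φ := QuotientGroup.mk' L with hφ
  have hφ1 : ∀ x, φ x = 1 ↔ x ∈ L := fun x => QuotientGroup.eq_one_iff x
  have hlift : ∀ x : G, PiElem π (φ x) → PiElem π x := by
    intro x hx q hq hd
    have h1 : x ^ orderOf (φ x) ∈ L := (hφ1 _).1 (by rw [map_pow, pow_orderOf_eq_one])
    have h2 : x ^ (orderOf (φ x) * orderOf (x ^ orderOf (φ x))) = 1 := by
      rw [pow_mul, pow_orderOf_eq_one]
    rcases hq.dvd_mul.1 (hd.trans (orderOf_dvd_of_pow_eq_one h2)) with h3 | h3
    · exact hx q hq h3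
    · exact ((hL _).1 h1).2 q hq h3
  set Kb := K.map φ
  have hKb : ∀ p : ℕ, p.Prime → p ∣ Nat.card Kb → p ∉ π := by
    intro p hp hd hpπ
    haveI := Fact.mk hp
    obtain ⟨⟨_, k, hk, rfl⟩, ha⟩ := exists_prime_orderOf_dvd_card' p hd
    replace ha : orderOf (φ k) = p := (Subgroup.orderOf_coe _).trans ha
    have hk' : PiElem π (φ k) := fun q hq hd' => by
      rw [ha] at hd'
      rwa [(Nat.prime_dvd_prime_iff_eq hq hp).1 hd']
    rw [(hφ1 k).2 ((hL k).2 ⟨hk, hlift k hk'⟩), orderOf_one] at ha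
    exact hp.one_lt.ne ha
  obtain ⟨R, hR⟩ : ∃ R : Subgroup (G ⧸ L), ∀ x, x ∈ R ↔ PiElem π x := by
    haveI : Kb.Normal := hKn.map _ (QuotientGroup.mk'_surjective L)
    obtain ⟨M₀, hM₀⟩ := hQ
    let e := QuotientGroup.quotientQuotientEquivQuotient L K hLK
    refine exists_closed_of_piPrime_normal Kb hKb (M₀.comap e.toMonoidHom)
      (fun x => (hM₀ _).trans (piElem_map_iff e.toMonoidHom e.injective)) ?_
    intro xb hxb
    refine mem_of_forall_prime_pow_mem fun p hp => ?_
    obtain ⟨a, m, hm, hxm⟩ := Nat.exists_eq_pow_mul_and_not_dvd (orderOf_pos xb).ne' p hp.ne_one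
    refine ⟨m, hm, ?_⟩
    rcases Nat.eq_zero_or_pos a with rfl | ha
    · rw [pow_zero, one_mul] at hxm
      rw [← hxm, pow_orderOf_eq_one]; exact one_mem _
    have hpπ : p ∈ π := hxb p hp (hxm ▸ dvd_mul_of_dvd_left (dvd_pow_self p ha.ne') m)
    set A := zpowers (xb ^ m) with hA
    have hAo : (xb ^ m) ^ p ^ a = 1 := by rw [← pow_mul, mul_comm, ← hxm, pow_orderOf_eq_one]
    have hAK : A ≤ normalizer (Kb : Set (G ⧸ L)) := le_top.trans (normalizer_eq_top Kb).ge
    have hAcop : (Nat.card A).Coprime (Nat.card Kb) := by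
      rw [hA, Nat.card_zpowers]
      refine Nat.Coprime.coprime_dvd_left (orderOf_dvd_of_pow_eq_one hAo)
        ((hp.coprime_iff_not_dvd.2 fun hd => hKb p hp hd hpπ).pow_left a)
    haveI : IsMulCommutative A := inferInstance
    suffices hle : Kb ≤ centralizer (A : Set (G ⧸ L)) by
      exact mem_centralizer_iff.2 fun b hb => (mem_centralizer_iff.1 (hle hb) _ (mem_zpowers _)).symm
    refine le_of_eq_of_le (eq_of_le_of_card_ge (inf_le_left : Kb ⊓ centralizer (A : Set (G ⧸ L)) ≤ Kb)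
      (Nat.le_of_dvd Nat.card_pos ?_)).symm inf_le_right
    rw [Nat.dvd_iff_prime_pow_dvd_dvd]
    intro q k hq hqk
    haveI := Fact.mk hq
    obtain ⟨Qb, hQb, hAQ⟩ := exists_invariant_sylow (K := Kb) hAK hAcop
      (Or.inl (isSolvable_of_isMulCommutative (A := A) inferInstance)) q
    suffices hQc : Qb ≤ centralizer (A : Set (G ⧸ L)) by
      refine ((pow_dvd_pow q ((hq.pow_dvd_iff_le_factorization Nat.card_pos.ne').1 hqk)).trans
        (dvd_of_eq hQb.2.symm)).trans (card_dvd_of_le (le_inf hQb.1 hQc))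
    rcases eq_or_ne Qb ⊥ with hb | hb
    · rw [hb]; exact bot_le
    have hqπ : q ∉ π := by
      refine hKb q hq (dvd_trans ?_ (card_dvd_of_le hQb.1))
      obtain ⟨n, hn⟩ := hQb.isPGroup.exists_card_eq
      rw [hn]
      refine dvd_pow_self q fun h0 => hb ?_
      rw [h0, pow_zero] at hn
      exact Subgroup.card_eq_one.1 hn
    obtain ⟨x, hx⟩ := QuotientGroup.mk'_surjective L (xb ^ m)
    set T := Qb.comap φ
    obtain ⟨Q, hQ⟩ : ∃ Q, IsSylowIn q Q T := ⟨_, isSylowIn_map (default : Sylow q T)⟩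
    have hQT : Q.map φ = Qb := by
      obtain ⟨n, hn⟩ := hQb.isPGroup.exists_card_eq
      refine eq_of_le_of_card_ge (map_le_iff_le_comap.2 hQ.1) (Nat.le_of_dvd Nat.card_pos ?_)
      have hTc : Nat.card T = Nat.card L * q ^ n := by
        have h := Nat.card_congr (QuotientGroup.preimageMkEquivSubgroupProdSet L (Qb : Set (G ⧸ L)))
        rw [Nat.card_prod] at h
        rw [← hn]
        exact h
      have hqL : ¬ q ∣ Nat.card L := fun hd => by
        obtain ⟨⟨b, hb'⟩, hbo⟩ := exists_prime_orderOf_dvd_card' q hd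
        rw [Subgroup.orderOf_mk] at hbo
        exact hqπ (((hL b).1 hb').2 q hq (hbo ▸ dvd_rfl))
      have hQn : Nat.card Q = q ^ n := by
        rw [hQ.2, hTc, Nat.factorization_mul Nat.card_pos.ne' (pow_ne_zero _ hq.ne_zero),
          Finsupp.add_apply, Nat.factorization_eq_zero_of_not_dvd hqL, hq.factorization_pow,
          Finsupp.single_eq_same, zero_add]
      have hinj : Function.Injective (φ.comp Q.subtype) := by
        rw [injective_iff_map_eq_one]
        rintro ⟨b, hb'⟩ hb1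
        have hbL : b ∈ L := (hφ1 b).1 hb1
        refine Subtype.ext (orderOf_eq_one_iff.1 (Nat.eq_one_iff_not_exists_prime_dvd.2 fun r hr hd => ?_))
        obtain ⟨i, hi⟩ := IsPGroup.iff_orderOf.1 hQ.isPGroup ⟨b, hb'⟩
        rw [Subgroup.orderOf_mk] at hi
        have := (Nat.prime_dvd_prime_iff_eq hr hq).1 (hr.dvd_of_dvd_pow (hi ▸ hd))
        exact hqπ (this ▸ ((hL b).1 hbL).2 r hr hd)
      rw [hn, ← hQn, show Q.map φ = (φ.comp Q.subtype).range by rw [MonoidHom.range_comp, range_subtype],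
        ← Nat.card_congr (MonoidHom.ofInjective hinj).toEquiv]
    have hxT : x ∈ normalizer (T : Set G) := by
      rw [← show Qb.comap φ = T from rfl]
      refine mem_normalizer_fintype fun t ht => ?_
      change φ (x * t * x⁻¹) ∈ Qb
      rw [map_mul, map_mul, map_inv, hx]
      exact conj_mem_of_le_normalizer hAQ (mem_zpowers _) ht
    obtain ⟨k, hkT, hk⟩ := (hQ.conjBy hxT).exists_conj hQ
    rw [conjBy_conjBy, conjBy_eq_self_iff] at hk
    obtain ⟨c, hc, hck⟩ : φ k ∈ Q.map φ := hQT ▸ hkT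
    set n := c⁻¹ * (k * x) with hn
    have hnN : n ∈ normalizer (Q : Set G) := mul_mem (inv_mem (le_normalizer hc)) hk
    have hnx : φ n = xb ^ m := by rw [hn, map_mul, map_mul, map_inv, hck, hx, inv_mul_cancel_left]
    obtain ⟨b, r, hr, hnr⟩ := Nat.exists_eq_pow_mul_and_not_dvd (orderOf_pos n).ne' p hp.ne_one
    have h1 : n ^ r ∈ centralizer (Q : Set G) := by
      refine hom Q (fun s hs hd => ?_) p _ hp hpπ ⟨b, by rw [← pow_mul, mul_comm, ← hnr, pow_orderOf_eq_one]⟩
        (pow_mem hnN r)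
      obtain ⟨i, hi⟩ := hQ.isPGroup.exists_card_eq
      rwa [(Nat.prime_dvd_prime_iff_eq hs hq).1 (hs.dvd_of_dvd_pow (hi ▸ hd))]
    have h2 : (xb ^ m) ^ r ∈ centralizer (Qb : Set (G ⧸ L)) := by
      rw [← hnx, ← map_pow, ← hQT]
      refine mem_centralizer_iff.2 ?_
      rintro _ ⟨d, hd, rfl⟩
      rw [← map_mul, ← map_mul, mem_centralizer_iff.1 h1 d hd]
    have h3 : xb ^ m ∈ centralizer (Qb : Set (G ⧸ L)) :=
      mem_of_pow_mem_coprime hp (n := a) (by rw [hAo]; exact one_mem _) hr h2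
    exact fun d hd => mem_centralizer_iff.2 fun e he => by
      obtain ⟨i, rfl⟩ := mem_zpowers_iff.1 he
      exact ((Commute.symm (mem_centralizer_iff.1 h3 d hd)).zpow_left i).eq
  exact ⟨R.comap φ, fun x => ⟨fun hx => hlift x ((hR _).1 hx), fun hx => (hR _).2 (hx.map φ)⟩⟩

end CfsgLib.PGroup.PiClosed
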