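import Cfsg.Agent.Lib.PGroup.CoprimeMax.Local
import Cfsg.Agent.Lib.PGroup.CentralizerCount
import Cfsg.Prelude.Def_HallClasses

/-!
# Fusion in a dominant `π`-subgroup of a `π`-homogeneous group

If every `π`-subgroup of `L` is conjugate in `L` into `H` and automizers of `π`-subgroups are
`π`-groups then elements of `H` conjugate in `L` are conjugate in `H`: automizers are induced by
`π`-subgroups containing Sylow subgroups of the normalizer, so extension of maps gives fusion of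
`p`-subgroups, and elements follow by passing to centralizers of their `p`-parts.
-/

set_option autoImplicit false

namespace CfsgLib.PGroup.PiFusion

open Subgroup CfsgLib.Coprime

variable {G : Type*} [Group G] {π : Set ℕ}

/-- Automizers of `π`-subgroups are `π`-groups. -/
def Homogeneous (π : Set ℕ) (G : Type*) [Group G] : Prop :=
  ∀ X : Subgroup G, Cfsg.IsPiSubgroup π X → ∀ q : ℕ, q.Prime →
    q ∣ (centralizer (X : Set G)).relIndex (normalizer (X : Set G)) → q ∈ π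

/-- Every `π`-subgroup of `L` is conjugate in `L` into the `π`-subgroup `H` of `L`. -/
structure Dominant (π : Set ℕ) (L H : Subgroup G) : Prop where
  le : H ≤ L
  pi : Cfsg.IsPiSubgroup π H
  conj : ∀ U : Subgroup G, U ≤ L → Cfsg.IsPiSubgroup π U → ∃ l ∈ L, conjBy l U ≤ H

theorem card_dvd_of_isPiSubgroup_le {U V : Subgroup G} (h : U ≤ V) (hV : Cfsg.IsPiSubgroup π V) :
    Cfsg.IsPiSubgroup π U := fun q hq hd => hV q hq (hd.trans (card_dvd_of_le h))

theorem isPiSubgroup_of_isPGroup [Finite G] {p : ℕ} [Fact p.Prime] (hp : p ∈ π) {U : Subgroup G}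
    (hU : IsPGroup p U) : Cfsg.IsPiSubgroup π U := fun q hq hd => by
  obtain ⟨n, hn⟩ := IsPGroup.iff_card.1 hU
  rwa [(Nat.prime_dvd_prime_iff_eq hq Fact.out).1 (hq.dvd_of_dvd_pow (hn ▸ hd))]

theorem isPiSubgroup_sup [Finite G] {U T : Subgroup G} (hU : Cfsg.IsPiSubgroup π U)
    (hT : Cfsg.IsPiSubgroup π T) (h : U ≤ normalizer (T : Set G)) : Cfsg.IsPiSubgroup π (U ⊔ T) := by
  intro q hq hd
  haveI := Fact.mk hq
  obtain ⟨⟨z, hz⟩, hzq⟩ := exists_prime_orderOf_dvd_card' q hd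
  rw [Subgroup.orderOf_mk] at hzq
  rw [sup_comm] at hz
  obtain ⟨t, ht, u, hu, rfl⟩ := mem_sup_exists h hz
  have h1 := CfsgLib.PGroup.CoprimeMax.pow_mul_inv_pow_mem (h hu) ht (Nat.card U)
  rw [show u ^ Nat.card U = 1 from congrArg Subtype.val (pow_card_eq_one' (x := (⟨u, hu⟩ : U))),
    inv_one, mul_one] at h1
  have h2 : (t * u) ^ (Nat.card U * Nat.card T) = 1 := by
    rw [pow_mul]; exact congrArg Subtype.val (pow_card_eq_one' (x := (⟨_, h1⟩ : T)))
  rcases hq.dvd_mul.1 (hzq ▸ orderOf_dvd_of_pow_eq_one h2) with h3 | h3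
  · exact hU q hq h3
  · exact hT q hq h3

/-- A normal subgroup of `π`-index is supplemented by a `π`-subgroup containing a Sylow subgroup. -/
theorem exists_supplement {N : Type*} [Group N] [Finite N] (C : Subgroup N) [C.Normal]
    (hidx : ∀ q : ℕ, q.Prime → q ∣ C.index → q ∈ π) (p : ℕ) [hpf : Fact p.Prime] (hp : p ∈ π) :
    ∃ U : Subgroup N, Cfsg.IsPiSubgroup π U ∧ U ⊔ C = ⊤ ∧ ∃ P : Sylow p N, (P : Subgroup N) ≤ U := by
  let SC : Sylow p C := default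
  set T := (SC : Subgroup C).map C.subtype with hT
  have hTC : T ≤ C := map_subtype_le _
  have hMC : normalizer (T : Set N) ⊔ C = ⊤ := SC.normalizer_sup_eq_top
  obtain ⟨U, hUM, hU⟩ := exists_minimal_le_of_wellFoundedLT
    (fun U : Subgroup N => U ⊔ C = ⊤) (normalizer (T : Set N)) hMC
  have hUC : U ⊔ C = ⊤ := hU.prop
  have hUpi : Cfsg.IsPiSubgroup π U := by
    intro q hq hd
    by_contra hqπ
    haveI := Fact.mk hq
    let Q : Sylow q U := default
    have hQC : (Q : Subgroup U) ≤ C.subgroupOf U := by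
      intro x hx
      rw [mem_subgroupOf, ← QuotientGroup.eq_one_iff (N := C), ← orderOf_eq_one_iff]
      by_contra hne
      obtain ⟨r, hr, hrd⟩ := Nat.exists_prime_and_dvd hne
      have h1 : r ∣ orderOf (x : N) :=
        hrd.trans (orderOf_map_dvd (QuotientGroup.mk' C) (x : N))
      obtain ⟨j, hj⟩ := IsPGroup.iff_orderOf.1 Q.2 ⟨x, hx⟩
      rw [Subgroup.orderOf_mk, ← Subgroup.orderOf_coe] at hj
      rw [(Nat.prime_dvd_prime_iff_eq hr hq).1 (hr.dvd_of_dvd_pow (hj ▸ h1))] at hrd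
      exact hqπ (hidx q hq (hrd.trans (index_eq_card C ▸ orderOf_dvd_natCard _)))
    have hmap : ∀ V : Subgroup U, V ⊔ C.subgroupOf U = ⊤ → V = ⊤ := by
      intro V hV
      have h1 : U ≤ V.map U.subtype ⊔ C := by
        intro u hu
        have h2 : u ∈ (V ⊔ C.subgroupOf U).map U.subtype := by
          rw [hV]; exact ⟨⟨u, hu⟩, mem_top _, rfl⟩
        rw [Subgroup.map_sup] at h2
        exact (sup_le_sup_left (map_comap_le U.subtype C) _) h2
      have h3 := hU.eq_of_le (show V.map U.subtype ⊔ C = ⊤ from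
        top_le_iff.1 (hUC.ge.trans (sup_le h1 le_sup_right))) (map_subtype_le V)
      exact map_injective U.subtype_injective
        (h3.trans ((range_subtype U).symm.trans (MonoidHom.range_eq_map _)))
    have hQn : (Q : Subgroup U).Normal :=
      normalizer_eq_top_iff.1 (hmap _ (Q.normalizer_sup_eq_top' hQC))
    obtain ⟨V, hV⟩ := exists_right_complement'_of_coprime Q.card_coprime_index
    have hVtop : V = ⊤ := hmap V (top_le_iff.1 (hV.sup_eq_top.ge.trans (sup_le (hQC.trans le_sup_right) le_sup_left)))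
    have h1 : (Q : Subgroup U) = ⊥ := by
      simpa [hVtop] using hV.disjoint.eq_bot
    exact Q.ne_bot_of_dvd_card hd h1
  have hTp : IsPGroup p T := SC.isPGroup'.map _
  have hpi := isPiSubgroup_sup hUpi (isPiSubgroup_of_isPGroup hp hTp) hUM
  have htop : (U ⊔ T) ⊔ C = ⊤ := top_le_iff.1 (hUC.ge.trans (sup_le_sup_right le_sup_left C))
  refine ⟨U ⊔ T, hpi, htop, ?_⟩
  let R : Sylow p ↥(U ⊔ T) := default
  have hcard := CfsgLib.PGroup.card_sup_mul_card_inf (U ⊔ T) C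
  rw [htop, card_top] at hcard
  have hTd : Nat.card T ∣ Nat.card ↥((U ⊔ T) ⊓ C) := card_dvd_of_le (le_inf le_sup_right hTC)
  have hfac := congrArg (fun n : ℕ => n.factorization p) hcard
  simp only [Nat.factorization_mul Nat.card_pos.ne' Nat.card_pos.ne', Finsupp.add_apply] at hfac
  have hTcard : (Nat.card T).factorization p = (Nat.card C).factorization p := by
    rw [hT, card_map_of_injective C.subtype_injective, SC.card_eq_multiplicity, hpf.out.factorization_pow]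
    simp
  have h1 := (Nat.factorization_le_iff_dvd Nat.card_pos.ne' Nat.card_pos.ne').2 hTd p
  have h2 : (Nat.card ↥(U ⊔ T)).factorization p ≤ (Nat.card N).factorization p :=
    (Nat.factorization_le_iff_dvd Nat.card_pos.ne' Nat.card_pos.ne').2 (card_subgroup_dvd_card _) p
  refine ⟨Sylow.ofCard ((R : Subgroup ↥(U ⊔ T)).map (U ⊔ T).subtype) ?_, map_subtype_le _⟩
  rw [card_map_of_injective (U ⊔ T).subtype_injective, R.card_eq_multiplicity]
  congr 1
  omega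

variable [Finite G] {L H : Subgroup G}

/-- Automizers in `L` are induced by `H`, together with a Sylow subgroup of the normalizer. -/
theorem Dominant.exists_automizer (hD : Dominant π L H) (hom : Homogeneous π G) (p : ℕ)
    [Fact p.Prime] (hp : p ∈ π) {X : Subgroup G} (hXL : X ≤ L) (hX : IsPGroup p X) :
    ∃ l ∈ L, conjBy l X ≤ H ∧
      (∀ R : Subgroup G, R ≤ L ⊓ normalizer (conjBy l X : Set G) → IsPGroup p R →
        ∃ n ∈ L ⊓ normalizer (conjBy l X : Set G), conjBy n R ≤ H) ∧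
      ∀ n ∈ L ⊓ normalizer (conjBy l X : Set G), ∃ u ∈ H, ∀ x ∈ conjBy l X, u * x * u⁻¹ = n * x * n⁻¹ := by
  have hXpi := isPiSubgroup_of_isPGroup hp hX
  set N := L ⊓ normalizer (X : Set G) with hN
  have hXN : X ≤ N := le_inf hXL le_normalizer
  haveI hCn : ((centralizer (X : Set G)).subgroupOf N).Normal := by
    refine ⟨fun z hz n => ?_⟩
    rw [mem_subgroupOf] at hz ⊢
    rw [coe_mul, coe_mul, coe_inv]
    exact (mem_normalizer_iff.1 (normalizer_le_normalizer_centralizer X n.2.2) _).1 hz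
  have hidx : ∀ q : ℕ, q.Prime → q ∣ ((centralizer (X : Set G)).subgroupOf N).index → q ∈ π := by
    intro q hq hd
    refine hom X hXpi q hq (hd.trans ?_)
    haveI : ((centralizer (X : Set G)).subgroupOf (normalizer (X : Set G))).Normal := inferInstance
    let f := (QuotientGroup.mk' ((centralizer (X : Set G)).subgroupOf (normalizer (X : Set G)))).comp
      (Subgroup.inclusion (inf_le_right : N ≤ normalizer (X : Set G)))
    have hf : f.ker = (centralizer (X : Set G)).subgroupOf N := by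
      ext z
      show QuotientGroup.mk' _ _ = 1 ↔ _
      rw [QuotientGroup.mk'_apply, QuotientGroup.eq_one_iff]
      rfl
    rw [← hf, index_ker]
    exact (card_subgroup_dvd_card f.range).trans (dvd_of_eq (index_eq_card _).symm)
  obtain ⟨U, hUpi, hUC, P, hPU⟩ := exists_supplement _ hidx p hp
  set U' := U.map N.subtype with hU'
  have hU'pi : Cfsg.IsPiSubgroup π U' := fun q hq hd =>
    hUpi q hq (by rwa [hU', card_map_of_injective N.subtype_injective] at hd)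
  have hXU' : X ≤ U' := by
    haveI : (X.comap N.subtype).Normal := (normal_subgroupOf_iff_le_normalizer hXN).2 inf_le_right
    have h1 : X.subgroupOf N ≤ (P : Subgroup N) :=
      le_sup_left.trans (P.is_maximal' (IsPGroup.to_sup_of_normal_left hX.comap_subtype P.2) le_sup_right).le
    intro x hx
    exact ⟨⟨x, hXN hx⟩, hPU (h1 hx), rfl⟩
  obtain ⟨l, hl, hlH⟩ := hD.conj U' ((map_subtype_le U).trans inf_le_left) hU'pi
  have hnorm : normalizer (conjBy l X : Set G) = conjBy l (normalizer (X : Set G)) :=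
    (map_equiv_normalizer_eq X (MulAut.conj l)).symm
  have hback : ∀ n ∈ L ⊓ normalizer (conjBy l X : Set G), l⁻¹ * n * l ∈ N := by
    intro n hn
    refine mem_inf.2 ⟨mul_mem (mul_mem (inv_mem hl) hn.1) hl, ?_⟩
    obtain ⟨m, hm, rfl⟩ := (hnorm ▸ hn.2 : n ∈ conjBy l (normalizer (X : Set G)))
    show l⁻¹ * (l * m * l⁻¹) * l ∈ normalizer (X : Set G)
    rwa [show l⁻¹ * (l * m * l⁻¹) * l = m by group]
  have hforth : ∀ m ∈ N, l * m * l⁻¹ ∈ L ⊓ normalizer (conjBy l X : Set G) := fun m hm =>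
    mem_inf.2 ⟨mul_mem (mul_mem hl hm.1) (inv_mem hl), hnorm ▸ ⟨m, hm.2, rfl⟩⟩
  refine ⟨l, hl, (map_mono hXU').trans hlH, fun R hR hRp => ?_, fun n hn => ?_⟩
  · -- Sylow conjugacy
    set R₀ := conjBy l⁻¹ R with hR₀
    have hR₀N : R₀ ≤ N := by
      rintro _ ⟨r, hr, rfl⟩
      have := hback r (hR hr)
      show l⁻¹ * r * l⁻¹⁻¹ ∈ N
      rwa [inv_inv]
    obtain ⟨Q, hQ⟩ := ((hRp.map (MulAut.conj l⁻¹).toMonoidHom).comap_subtype :
      IsPGroup p (R₀.subgroupOf N)).exists_le_sylow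
    obtain ⟨m, hm⟩ := MulAction.exists_smul_eq N Q P
    refine ⟨l * m * l⁻¹, hforth m m.2, ?_⟩
    rintro _ ⟨r, hr, rfl⟩
    have hr0 : l⁻¹ * r * l⁻¹⁻¹ ∈ R₀ := ⟨r, hr, rfl⟩
    have h1 : m * ⟨_, hR₀N hr0⟩ * m⁻¹ ∈ ((m • Q : Sylow p N) : Subgroup N) := ⟨_, hQ hr0, rfl⟩
    rw [hm] at h1
    have h2 : l * ((m : G) * (l⁻¹ * r * l⁻¹⁻¹) * (m : G)⁻¹) * l⁻¹ ∈ H :=
      hlH ⟨_, ⟨_, hPU h1, rfl⟩, rfl⟩
    show l * (m : G) * l⁻¹ * r * (l * (m : G) * l⁻¹)⁻¹ ∈ H
    rwa [show l * (m : G) * l⁻¹ * r * (l * (m : G) * l⁻¹)⁻¹ = l * ((m : G) * (l⁻¹ * r * l⁻¹⁻¹) * (m : G)⁻¹) * l⁻¹ by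
      group]
  · obtain ⟨u, hu, c, hc, huc⟩ := mem_sup_of_normal_right.1 (hUC.ge (mem_top (⟨_, hback n hn⟩ : N)))
    refine ⟨l * (u : G) * l⁻¹, hlH ⟨_, ⟨u, hu, rfl⟩, rfl⟩, ?_⟩
    rintro _ ⟨x, hx, rfl⟩
    have hn' : n = l * ((u : G) * (c : G)) * l⁻¹ := by
      rw [show (u : G) * (c : G) = l⁻¹ * n * l from congrArg Subtype.val huc]; group
    have hcx : (c : G) * x * (c : G)⁻¹ = x := by
      rw [← mem_centralizer_iff.1 (mem_subgroupOf.1 hc) x hx, mul_inv_cancel_right]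
    show l * (u : G) * l⁻¹ * (l * x * l⁻¹) * (l * (u : G) * l⁻¹)⁻¹ = n * (l * x * l⁻¹) * n⁻¹
    calc l * (u : G) * l⁻¹ * (l * x * l⁻¹) * (l * (u : G) * l⁻¹)⁻¹ =
        l * ((u : G) * x * (u : G)⁻¹) * l⁻¹ := by group
      _ = l * ((u : G) * ((c : G) * x * (c : G)⁻¹) * (u : G)⁻¹) * l⁻¹ := by rw [hcx]
      _ = n * (l * x * l⁻¹) * n⁻¹ := by rw [hn']; group

/-- `H` controls fusion of its `p`-subgroups. -/
theorem Dominant.fusion_subgroup (hD : Dominant π L H) (hom : Homogeneous π G) (p : ℕ)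
    [Fact p.Prime] (hp : p ∈ π) : ∀ (k : ℕ) (X : Subgroup G), Nat.card H - Nat.card X = k → X ≤ H →
      IsPGroup p X → ∀ g ∈ L, conjBy g X ≤ H → ∃ h ∈ H, ∀ x ∈ X, h * x * h⁻¹ = g * x * g⁻¹ := by
  intro k
  induction k using Nat.strong_induction_on with
  | _ k ih =>
  intro X hk hXH hX
  obtain ⟨l, hl, hlX, hsyl, haut⟩ := hD.exists_automizer hom p hp (hXH.trans hD.le) hX
  set Z := conjBy l X with hZ
  -- maps onto `Z`
  suffices key : ∀ Y : Subgroup G, Nat.card Y = Nat.card X → Y ≤ H → IsPGroup p Y →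
      ∀ g ∈ L, conjBy g Y = Z → ∃ h ∈ H, ∀ y ∈ Y, h * y * h⁻¹ = g * y * g⁻¹ by
    intro g hg hgX
    obtain ⟨h₁, hh₁, e₁⟩ := key X rfl hXH hX l hl rfl
    obtain ⟨h₂, hh₂, e₂⟩ := key (conjBy g X) (card_conjBy g X) hgX (hX.map _) (l * g⁻¹)
      (mul_mem hl (inv_mem hg)) (by rw [conjBy_conjBy, inv_mul_cancel_right])
    refine ⟨h₂⁻¹ * h₁, mul_mem (inv_mem hh₂) hh₁, fun x hx => ?_⟩
    have h3 := e₂ (g * x * g⁻¹) ⟨x, hx, rfl⟩
    calc h₂⁻¹ * h₁ * x * (h₂⁻¹ * h₁)⁻¹ = h₂⁻¹ * (h₁ * x * h₁⁻¹) * h₂ := by group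
      _ = h₂⁻¹ * (l * x * l⁻¹) * h₂ := by rw [e₁ x hx]
      _ = h₂⁻¹ * (l * g⁻¹ * (g * x * g⁻¹) * (l * g⁻¹)⁻¹) * h₂ := by group
      _ = h₂⁻¹ * (h₂ * (g * x * g⁻¹) * h₂⁻¹) * h₂ := by rw [← h3]
      _ = g * x * g⁻¹ := by group
  intro Y hcard hYH hY g hg hgY
  obtain ⟨Q, hQ⟩ := (hY.comap_subtype : IsPGroup p (Y.subgroupOf H)).exists_le_sylow
  set S := (Q : Subgroup H).map H.subtype
  have hS : IsSylowIn p S H := isSylowIn_map Q
  have hYS : Y ≤ S := fun y hy => ⟨⟨y, hYH hy⟩, hQ hy, rfl⟩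
  rcases hYS.eq_or_lt with heq | hlt
  · -- `Y` is a Sylow subgroup of `H`
    have hZs : IsSylowIn p Z H := ⟨hlX, by rw [hZ, card_conjBy, ← hcard, heq]; exact hS.2⟩
    obtain ⟨h₀, hh₀, hh₀Y⟩ := (heq ▸ hS : IsSylowIn p Y H).exists_conj hZs
    have hn : g * h₀⁻¹ ∈ L ⊓ normalizer (Z : Set G) := by
      refine mem_inf.2 ⟨mul_mem hg (inv_mem (hD.le hh₀)), ?_⟩
      rw [← conjBy_eq_self_iff]
      nth_rw 1 [← hh₀Y]
      rw [conjBy_conjBy, inv_mul_cancel_right, hgY]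
    obtain ⟨u, hu, hue⟩ := haut _ hn
    refine ⟨u * h₀, mul_mem hu hh₀, fun y hy => ?_⟩
    have h1 := hue (h₀ * y * h₀⁻¹) (hh₀Y ▸ ⟨y, hy, rfl⟩)
    calc u * h₀ * y * (u * h₀)⁻¹ = u * (h₀ * y * h₀⁻¹) * u⁻¹ := by group
      _ = g * h₀⁻¹ * (h₀ * y * h₀⁻¹) * (g * h₀⁻¹)⁻¹ := h1
      _ = g * y * g⁻¹ := by group
  · -- extend to the normalizer of `Y` in `S`
    haveI : Group.IsNilpotent S := hS.isPGroup.isNilpotent
    obtain ⟨s, hsN, hsY⟩ := SetLike.exists_of_lt (Group.normalizerCondition_of_isNilpotent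
      (Y.subgroupOf S) (lt_top_iff_ne_top.2 fun e => hlt.not_ge (subgroupOf_eq_top.1 e)))
    rw [← subgroupOf_normalizer_eq hYS, mem_subgroupOf] at hsN
    set R := S ⊓ normalizer (Y : Set G)
    have hRp : IsPGroup p R := hS.isPGroup.to_le inf_le_left
    have hYR : Y < R := lt_of_le_of_ne (le_inf hYS le_normalizer) fun e =>
      hsY (mem_subgroupOf.2 (e.symm ▸ ⟨s.2, hsN⟩ : (s : G) ∈ Y))
    have hgR : conjBy g R ≤ L ⊓ normalizer (Z : Set G) := by
      rintro _ ⟨r, hr, rfl⟩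
      refine mem_inf.2 ⟨mul_mem (mul_mem hg (hD.le (hS.1 hr.1))) (inv_mem hg), ?_⟩
      rw [← hgY, show normalizer (conjBy g Y : Set G) = conjBy g (normalizer (Y : Set G)) from
        (map_equiv_normalizer_eq Y (MulAut.conj g)).symm]
      exact ⟨r, hr.2, rfl⟩
    obtain ⟨n, hn, hnR⟩ := hsyl (conjBy g R) hgR (hRp.map _)
    rw [conjBy_conjBy] at hnR
    have hRH : R ≤ H := inf_le_left.trans hS.1
    have hlt' : Nat.card H - Nat.card R < k := by
      have h1 : Nat.card Y < Nat.card R := by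
        by_contra hh
        exact hYR.ne (eq_of_le_of_card_ge hYR.le (not_lt.1 hh))
      have := Nat.le_of_dvd Nat.card_pos (card_dvd_of_le hRH)
      omega
    obtain ⟨h₁, hh₁, e₁⟩ := ih _ hlt' R rfl hRH hRp (n * g) (mul_mem hn.1 hg) hnR
    obtain ⟨u, hu, hue⟩ := haut n⁻¹ (inv_mem hn)
    refine ⟨u * h₁, mul_mem hu hh₁, fun y hy => ?_⟩
    have h1 := e₁ y (hYR.le hy)
    have h2 : n * g * y * (n * g)⁻¹ ∈ Z := by
      rw [show n * g * y * (n * g)⁻¹ = n * (g * y * g⁻¹) * n⁻¹ by group]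
      exact (mem_normalizer_iff.1 hn.2 _).1 (hgY.le ⟨y, hy, rfl⟩)
    calc u * h₁ * y * (u * h₁)⁻¹ = u * (h₁ * y * h₁⁻¹) * u⁻¹ := by group
      _ = u * (n * g * y * (n * g)⁻¹) * u⁻¹ := by rw [h1]
      _ = n⁻¹ * (n * g * y * (n * g)⁻¹) * n⁻¹⁻¹ := hue _ h2
      _ = g * y * g⁻¹ := by group

/-- `H` controls fusion of its elements. -/
theorem Dominant.fusion (hom : Homogeneous π G) : ∀ (m : ℕ) (L H : Subgroup G), Dominant π L H →
    ∀ x ∈ H, orderOf x = m → ∀ g ∈ L, g * x * g⁻¹ ∈ H → ∃ h ∈ H, h * x * h⁻¹ = g * x * g⁻¹ := by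
  intro m
  induction m using Nat.strong_induction_on with
  | _ m ih =>
  intro L H hD x hx hm g hg hgx
  by_cases h1 : x = 1
  · subst h1; exact ⟨1, one_mem H, by simp⟩
  obtain ⟨p, hp, hpd⟩ := Nat.exists_prime_and_dvd (mt orderOf_eq_one_iff.1 h1)
  haveI := Fact.mk hp
  have hpπ : p ∈ π := hD.pi p hp (hpd.trans (orderOf_dvd_natCard H hx))
  have hm0 : orderOf x ≠ 0 := (orderOf_pos x).ne'
  set a' := p ^ (orderOf x).factorization p
  set b' := orderOf x / p ^ (orderOf x).factorization p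
  have hab : a' * b' = orderOf x := Nat.ordProj_mul_ordCompl_eq_self _ p
  have hco : a'.Coprime b' := (Nat.coprime_ordCompl hp hm0).pow_left _
  obtain ⟨e, he0, he1⟩ := Nat.chineseRemainder hco 0 1
  obtain ⟨f, hf0, hf1⟩ := Nat.chineseRemainder hco 1 0
  set a := x ^ f with ha
  set x' := x ^ e with hx'
  have hxx : a * x' = x := by
    rw [ha, hx', ← pow_add]
    conv_rhs => rw [← pow_one x]
    rw [pow_eq_pow_iff_modEq, ← hab]
    refine (Nat.modEq_and_modEq_iff_modEq_mul hco).1 ⟨?_, ?_⟩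
    · simpa using hf0.add he0
    · simpa using hf1.add he1
  have haa : a ^ a' = 1 := by
    rw [ha, ← pow_mul, ← orderOf_dvd_iff_pow_eq_one, ← hab, mul_comm f]
    exact mul_dvd_mul_left _ (Nat.modEq_zero_iff_dvd.1 hf1)
  have hx'b : x' ^ b' = 1 := by
    rw [hx', ← pow_mul, ← orderOf_dvd_iff_pow_eq_one, ← hab]
    exact mul_dvd_mul_right (Nat.modEq_zero_iff_dvd.1 he0) _
  have hlt : orderOf x' < m := by
    refine lt_of_le_of_lt (Nat.le_of_dvd (Nat.pos_of_ne_zero fun h => ?_) (orderOf_dvd_of_pow_eq_one hx'b)) ?_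
    · rw [h, mul_zero] at hab; exact hm0 hab.symm
    · rw [← hm, ← hab]
      refine lt_mul_of_one_lt_left (Nat.pos_of_ne_zero fun h => ?_)
        (Nat.one_lt_pow (hp.factorization_pos_of_dvd hm0 hpd).ne' hp.one_lt)
      rw [h, mul_zero] at hab; exact hm0 hab.symm
  have haH : a ∈ H := pow_mem hx f
  have hA : IsPGroup p (zpowers a) := by
    obtain ⟨j, -, hj⟩ := (Nat.dvd_prime_pow hp).1 (orderOf_dvd_of_pow_eq_one haa)
    exact IsPGroup.of_card (n := j) (by rw [Nat.card_zpowers, hj])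
  have hfus : ∀ g ∈ L, g * a * g⁻¹ ∈ H → ∃ h ∈ H, h * a * h⁻¹ = g * a * g⁻¹ := by
    intro g hg hga
    obtain ⟨h, hh, he⟩ := hD.fusion_subgroup hom p hpπ _ (zpowers a) rfl (zpowers_le.2 haH) hA g hg
      (map_le_iff_le_comap.2 (zpowers_le.2 hga))
    exact ⟨h, hh, he a (mem_zpowers a)⟩
  have hpow : ∀ j : ℕ, g * x ^ j * g⁻¹ ∈ H := fun j => by
    rw [← MulAut.conj_apply, map_pow, MulAut.conj_apply]; exact pow_mem hgx j
  obtain ⟨h, hh, hha⟩ := hfus g hg (hpow f)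
  set C := centralizer ({a} : Set G) with hC
  have hmemC : ∀ {z : G}, z * a * z⁻¹ = a → z ∈ C := fun {z} hz => mem_centralizer_iff.2 fun w hw => by
    rw [Set.mem_singleton_iff.1 hw]
    exact (mul_inv_eq_iff_eq_mul.1 hz).symm
  -- centralizers inherit a dominant subgroup
  have hD' : Dominant π (L ⊓ C) (H ⊓ C) := by
    refine ⟨inf_le_inf_right C hD.le, card_dvd_of_isPiSubgroup_le inf_le_left hD.pi, fun U hU hUpi => ?_⟩
    have hUA : U ≤ normalizer (zpowers a : Set G) := fun u hu =>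
      centralizer_le_normalizer _ (mem_centralizer_iff.2 fun w hw => by
        obtain ⟨i, rfl⟩ := mem_zpowers_iff.1 hw
        exact (Commute.zpow_left (show Commute a u from mem_centralizer_iff.1 (hU hu).2 a rfl) i).eq)
    obtain ⟨l, hl, hlH⟩ := hD.conj (U ⊔ zpowers a)
      (sup_le (hU.trans inf_le_left) (zpowers_le.2 (hD.le haH)))
      (isPiSubgroup_sup hUpi (isPiSubgroup_of_isPGroup hpπ hA) hUA)
    obtain ⟨h', hh', hha'⟩ := hfus l hl (hlH ⟨a, mem_sup_right (mem_zpowers a), rfl⟩)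
    have hcC : h'⁻¹ * l ∈ C := hmemC (by
      calc h'⁻¹ * l * a * (h'⁻¹ * l)⁻¹ = h'⁻¹ * (l * a * l⁻¹) * h' := by group
        _ = h'⁻¹ * (h' * a * h'⁻¹) * h' := by rw [hha']
        _ = a := by group)
    refine ⟨h'⁻¹ * l, mem_inf.2 ⟨mul_mem (inv_mem (hD.le hh')) hl, hcC⟩, ?_⟩
    rintro _ ⟨u, hu, rfl⟩
    refine mem_inf.2 ⟨?_, mul_mem (mul_mem hcC (hU hu).2) (inv_mem hcC)⟩
    show h'⁻¹ * l * u * (h'⁻¹ * l)⁻¹ ∈ H
    rw [show h'⁻¹ * l * u * (h'⁻¹ * l)⁻¹ = h'⁻¹ * (l * u * l⁻¹) * h' by group]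
    exact mul_mem (mul_mem (inv_mem hh') (hlH ⟨u, mem_sup_left hu, rfl⟩)) hh'
  have hcC : h⁻¹ * g ∈ C := hmemC (by
    calc h⁻¹ * g * a * (h⁻¹ * g)⁻¹ = h⁻¹ * (g * a * g⁻¹) * h := by group
      _ = h⁻¹ * (h * a * h⁻¹) * h := by rw [hha]
      _ = a := by group)
  have hx'C : x' ∈ C := hmemC (by
    rw [show x' * a = a * x' from (Commute.pow_pow_self x e f).eq, mul_inv_cancel_right])
  obtain ⟨h₂, hh₂, e₂⟩ := ih _ hlt _ _ hD' x' ⟨pow_mem hx e, hx'C⟩ rfl (h⁻¹ * g)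
    (mem_inf.2 ⟨mul_mem (inv_mem (hD.le hh)) hg, hcC⟩)
    (mem_inf.2 ⟨(by
        rw [show h⁻¹ * g * x' * (h⁻¹ * g)⁻¹ = h⁻¹ * (g * x' * g⁻¹) * h by group]
        exact mul_mem (mul_mem (inv_mem hh) (hpow e)) hh),
      mul_mem (mul_mem hcC hx'C) (inv_mem hcC)⟩)
  refine ⟨h * h₂, mul_mem hh hh₂.1, ?_⟩
  have e₁ : h₂ * a * h₂⁻¹ = a := by
    rw [← (mem_centralizer_iff.1 hh₂.2 a rfl), mul_inv_cancel_right]
  calc h * h₂ * x * (h * h₂)⁻¹ = h * ((h₂ * a * h₂⁻¹) * (h₂ * x' * h₂⁻¹)) * h⁻¹ := by rw [← hxx]; group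
    _ = h * (a * (h⁻¹ * g * x' * (h⁻¹ * g)⁻¹)) * h⁻¹ := by rw [e₁, e₂]
    _ = (h * a * h⁻¹) * (g * x' * g⁻¹) := by group
    _ = g * x * g⁻¹ := by rw [hha, ← hxx]; group

end CfsgLib.PGroup.PiFusion
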