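import Cfsg.Agent.Lib.PGroup.PivotMantel

/-!
# The covering positions of the pivot relation generate
-/

set_option autoImplicit false

namespace CfsgLib.PGroup.Pivot

open Matrix

variable {n : ℕ}

theorem card_le_of_triangle_free (E : Finset (Fin n × Fin n)) (hlt : ∀ e ∈ E, e.1 < e.2)
    (htri : ∀ a b c, (a, b) ∈ E → (b, c) ∈ E → (a, c) ∉ E) : E.card ≤ n ^ 2 / 4 := by
  classical
  let G : SimpleGraph (Fin n) :=
    { Adj := fun a b => (a, b) ∈ E ∨ (b, a) ∈ E
      symm := ⟨fun a b h => h.symm⟩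
      loopless := ⟨fun a h => lt_irrefl a (h.elim (hlt _) (hlt _))⟩ }
  have hadj : ∀ a b, G.Adj a b → a < b → (a, b) ∈ E := fun a b h hab =>
    h.resolve_right fun h' => lt_asymm hab (hlt _ h')
  have hcf : G.CliqueFree 3 := by
    intro s hs
    obtain ⟨a, b, c, hab, hac, hbc, -⟩ := SimpleGraph.is3Clique_iff.1 hs
    have main : ∀ x y z, G.Adj x y → G.Adj y z → G.Adj x z → x < y → y < z → False :=
      fun x y z h1 h2 h3 l1 l2 =>
        htri x y z (hadj _ _ h1 l1) (hadj _ _ h2 l2) (hadj _ _ h3 (l1.trans l2))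
    rcases lt_or_gt_of_ne hab.ne with h1 | h1 <;> rcases lt_or_gt_of_ne hbc.ne with h2 | h2 <;>
      rcases lt_or_gt_of_ne hac.ne with h3 | h3
    · exact main a b c hab hbc hac h1 h2
    · exact absurd (h1.trans h2) (lt_asymm h3)
    · exact main a c b hac hbc.symm hab h3 h2
    · exact main c a b hac.symm hab hbc.symm h3 h1
    · exact main b a c hab.symm hac hbc h1 h3
    · exact main b c a hbc hac.symm hab.symm h2 h3
    · exact absurd (h2.trans h1) (lt_asymm h3)
    · exact main c b a hbc.symm hab.symm hac.symm h2 h1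
  have h1 : E.card ≤ G.edgeFinset.card := by
    refine Finset.card_le_card_of_injOn (fun e => s(e.1, e.2)) (fun e he => ?_) ?_
    · simp only [SimpleGraph.coe_edgeFinset, SimpleGraph.mem_edgeSet]
      exact Or.inl he
    · intro e he e' he' h
      rcases Sym2.eq_iff.1 h with ⟨h1, h2⟩ | ⟨h1, h2⟩
      · exact Prod.ext h1 h2
      · have l1 := hlt e he
        rw [h1, h2] at l1
        exact absurd l1 (lt_asymm (hlt e' he'))
  have h2 := h1.trans (SimpleGraph.CliqueFree.card_edgeFinset_le hcf)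
  simp only [Fintype.card_fin] at h2
  refine h2.trans ?_
  rcases Nat.mod_two_eq_zero_or_one n with h | h <;> rw [h] <;> simp <;> omega

variable {p : ℕ} [hp : Fact p.Prime] {H : Type*} [Group H]

theorem exists_generators_mod_ker (φ : H →* Matrix (Fin n) (Fin n) (ZMod p))
    (hU : ∀ h, SU (φ h - 1)) :
    ∃ S : Finset H, S.card ≤ n ^ 2 / 4 ∧
      ∀ g, ∃ k ∈ Subgroup.closure (S : Set H), φ g = φ k := by
  classical
  let Piv : H → Fin n → Fin n → Prop := fun h i j =>
    i < j ∧ Low (φ h - 1) (wt i j) ∧ (φ h - 1) i j ≠ 0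
  let D : Fin n → Fin n → Prop := fun i j => ∃ h, Piv h i j
  have hD : ∀ i l j, D i l → D l j → D i j := by
    rintro i l j ⟨a, hil, ha, ha'⟩ ⟨b, hlj, hb, hb'⟩
    obtain ⟨h1, h2⟩ := low_commutator hU hil hlj ha hb
    exact ⟨_, hil.trans hlj, h1, h2 ▸ mul_ne_zero ha' hb'⟩
  let C : Finset (Fin n × Fin n) :=
    Finset.univ.filter fun e => D e.1 e.2 ∧ ¬ ∃ l, D e.1 l ∧ D l e.2
  have hC : C.card ≤ n ^ 2 / 4 := card_le_of_triangle_free C
    (fun e he => ((Finset.mem_filter.1 he).2.1).choose_spec.1)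
    (fun a b c hab hbc hac => (Finset.mem_filter.1 hac).2.2
      ⟨b, (Finset.mem_filter.1 hab).2.1, (Finset.mem_filter.1 hbc).2.1⟩)
  let s : Fin n × Fin n → H := fun e => if h : D e.1 e.2 then h.choose else 1
  refine ⟨C.image s, Finset.card_image_le.trans hC, ?_⟩
  set K := Subgroup.closure ((C.image s : Finset H) : Set H)
  have hreal : ∀ d : ℕ, ∀ i j : Fin n, j.val - i.val = d → D i j → ∃ k ∈ K, Piv k i j := by
    intro d
    induction d using Nat.strong_induction_on with
    | _ d ih =>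
      intro i j hd hij
      by_cases hcov : ∃ l, D i l ∧ D l j
      · obtain ⟨l, hil, hlj⟩ := hcov
        have l1 : i.val < l.val := hil.choose_spec.1
        have l2 : l.val < j.val := hlj.choose_spec.1
        obtain ⟨a, haK, ha0, ha, ha'⟩ := ih _ (by omega) i l rfl hil
        obtain ⟨b, hbK, hb0, hb, hb'⟩ := ih _ (by omega) l j rfl hlj
        obtain ⟨h1, h2⟩ := low_commutator hU ha0 hb0 ha hb
        exact ⟨_, K.mul_mem (K.mul_mem haK hbK) (K.inv_mem (K.mul_mem hbK haK)),
          ha0.trans hb0, h1, h2 ▸ mul_ne_zero ha' hb'⟩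
      · refine ⟨s (i, j), Subgroup.subset_closure ?_, ?_⟩
        · rw [Finset.coe_image]
          exact ⟨(i, j), Finset.mem_filter.2 ⟨Finset.mem_univ _, hij, hcov⟩, rfl⟩
        · simp only [s, dif_pos hij]
          exact hij.choose_spec
  -- elimination
  have helim : ∀ m w : ℕ, n * n ≤ w + m → ∀ g, Low (φ g - 1) w →
      ∃ k ∈ K, φ g = φ k := by
    intro m
    induction m with
    | zero =>
      intro w hw g hg
      refine ⟨1, K.one_mem, ?_⟩
      have : φ g - 1 = 0 := by
        ext i j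
        rcases le_or_gt j i with h | h
        · exact hU g i j h
        · refine hg i j h ?_
          unfold wt
          have h' : i.val < j.val := h
          have hj := j.isLt
          have := Nat.mul_le_mul_right n (show j.val - i.val + 1 ≤ n by omega)
          rw [Nat.succ_mul] at this
          omega
      rw [map_one, sub_eq_zero.1 this]
    | succ m ih =>
      intro w hw g hg
      by_cases hex : ∃ i j : Fin n, i < j ∧ wt i j = w ∧ (φ g - 1) i j ≠ 0
      · obtain ⟨i, j, hij, hwij, hne⟩ := hex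
        obtain ⟨k, hkK, -, hk, hk'⟩ := hreal _ i j rfl ⟨g, hij, hwij ▸ hg, hne⟩
        rw [hwij] at hk
        let t : ℕ := (-(φ g - 1) i j * ((φ k - 1) i j)⁻¹).val
        obtain ⟨h1, h2⟩ := low_pow hU hk t
        obtain ⟨h3, h4⟩ := low_mul hU hg h1
        obtain ⟨k', hk'K, hk'e⟩ := ih (w + 1) (by omega) (g * k ^ t) (fun x y hxy h => by
          rcases Nat.lt_or_eq_of_le (Nat.le_of_lt_succ h) with h' | h'
          · exact h3 x y hxy h'
          · obtain ⟨rfl, rfl⟩ := wt_inj hij hxy (h'.trans hwij.symm)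
            rw [h4 _ _ hxy h', h2 _ _ hxy h', show ((t : ℕ) : ZMod p) = _ from ZMod.natCast_zmod_val _,
              mul_assoc, inv_mul_cancel₀ hk', mul_one, add_neg_cancel])
        refine ⟨k' * (k ^ t)⁻¹, K.mul_mem hk'K (K.inv_mem (K.pow_mem hkK t)), ?_⟩
        rw [map_mul φ k', ← hk'e, ← map_mul, mul_inv_cancel_right]
      · push Not at hex
        exact ih (w + 1) (by omega) g fun x y hxy h =>
          (Nat.lt_or_eq_of_le (Nat.le_of_lt_succ h)).elim (hg x y hxy) (hex x y hxy)
  exact fun g => helim (n * n) 0 (by omega) g (fun x y _ h => absurd h (Nat.not_lt_zero _))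

end CfsgLib.PGroup.Pivot
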