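import Mathlib

/-!
# Generators of unitriangular linear groups over prime fields

Every finite group of unitriangular `n × n` matrices over `ZMod p` is generated by at most
`n²/4` elements: the pivot positions form a transitive relation, elements with pivots at the
covering positions generate, and the covering graph of an order is triangle free.
-/

set_option autoImplicit false

namespace CfsgLib.PGroup.Pivot

open Matrix

variable {n : ℕ} {R : Type*} [CommRing R]

/-- The weight of a position: the distance to the diagonal, then the row. -/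
def wt (i j : Fin n) : ℕ := (j.val - i.val) * n + i.val

theorem wt_cases {i j x y : Fin n} (h : wt x y ≤ wt i j) :
    y.val - x.val < j.val - i.val ∨ (y.val - x.val = j.val - i.val ∧ x.val ≤ i.val) := by
  unfold wt at h
  have hi := i.isLt
  rcases Nat.lt_trichotomy (y.val - x.val) (j.val - i.val) with h1 | h1 | h1
  · exact Or.inl h1
  · rw [h1] at h; exact Or.inr ⟨h1, by omega⟩
  · exfalso
    have := Nat.mul_le_mul_right n h1
    rw [Nat.succ_mul] at this
    omega

theorem wt_inj {i j x y : Fin n} (hij : i < j) (hxy : x < y) (h : wt x y = wt i j) :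
    x = i ∧ y = j := by
  rcases wt_cases h.le with h1 | ⟨h1, h2⟩ <;> rcases wt_cases h.ge with h3 | ⟨h3, h4⟩ <;>
    first
    | omega
    | (have h5 : x.val = i.val := le_antisymm h2 h4
       exact ⟨Fin.ext h5, Fin.ext (by have : i.val < j.val := hij; have : x.val < y.val := hxy; omega)⟩)

theorem wt_lt_of_shorter {i j a b : Fin n} (h : b.val - a.val < j.val - i.val) :
    wt a b < wt i j := by
  unfold wt
  have := a.isLt
  have := Nat.mul_le_mul_right n (Nat.succ_le_of_lt h)
  rw [Nat.succ_mul] at this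
  omega

/-- Strictly upper triangular. -/
def SU (N : Matrix (Fin n) (Fin n) R) : Prop := ∀ i j, j ≤ i → N i j = 0

/-- All entries of weight below `w` vanish. -/
def Low (N : Matrix (Fin n) (Fin n) R) (w : ℕ) : Prop := ∀ i j, i < j → wt i j < w → N i j = 0

theorem mul_low {M N : Matrix (Fin n) (Fin n) R} {w : ℕ} (hM : SU M) (hN : SU N) (hL : Low M w)
    {x y : Fin n} (h : wt x y ≤ w) : (M * N) x y = 0 := by
  rw [Matrix.mul_apply]
  refine Finset.sum_eq_zero fun a _ => ?_
  rcases le_or_gt a x with h1 | h1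
  · rw [hM x a h1, zero_mul]
  rcases le_or_gt y a with h2 | h2
  · rw [hN a y h2, mul_zero]
  rw [hL x a h1 ((wt_lt_of_shorter (i := x) (j := y) (by
    have : x.val < a.val := h1; have : a.val < y.val := h2; omega)).trans_le h), zero_mul]

theorem SU.mul {M N : Matrix (Fin n) (Fin n) R} (hM : SU M) (hN : SU N) : SU (M * N) := by
  intro i j hji
  rw [Matrix.mul_apply]
  refine Finset.sum_eq_zero fun a _ => ?_
  rcases le_or_gt a i with h1 | h1
  · rw [hM i a h1, zero_mul]
  · rw [hN a j (hji.trans h1.le), mul_zero]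

/-- The commutator of two leading positions. -/
theorem commutator_low {P Q : Matrix (Fin n) (Fin n) R} {i l j : Fin n} (hil : i < l) (hlj : l < j)
    (hP : SU P) (hQ : SU Q) (hPl : Low P (wt i l)) (hQl : Low Q (wt l j)) :
    Low (P * Q - Q * P) (wt i j) ∧ (P * Q - Q * P) i j = P i l * Q l j := by
  have hil' : i.val < l.val := hil
  have hlj' : l.val < j.val := hlj
  have key : ∀ x a y : Fin n, wt x y ≤ wt i j →
      (P x a * Q a y ≠ 0 → x = i ∧ a = l ∧ y = j) ∧ Q x a * P a y = 0 := by
    intro x a y hxy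
    have hc := wt_cases hxy
    refine ⟨fun hne => ?_, ?_⟩
    · have hxa : x < a := not_le.1 fun h => hne (by rw [hP x a h, zero_mul])
      have hay : a < y := not_le.1 fun h => hne (by rw [hQ a y h, mul_zero])
      have h1 : wt i l ≤ wt x a := not_lt.1 fun h => hne (by rw [hPl x a hxa h, zero_mul])
      have h2 : wt l j ≤ wt a y := not_lt.1 fun h => hne (by rw [hQl a y hay h, mul_zero])
      have hxa' : x.val < a.val := hxa
      have hay' : a.val < y.val := hay
      rcases wt_cases h1 with e1 | ⟨e1, f1⟩ <;> rcases wt_cases h2 with e2 | ⟨e2, f2⟩ <;>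
        rcases hc with e3 | ⟨e3, f3⟩ <;>
        first
        | omega
        | exact ⟨Fin.ext (by omega), Fin.ext (by omega), Fin.ext (by omega)⟩
    · by_contra hne
      have hxa : x < a := not_le.1 fun h => hne (by rw [hQ x a h, zero_mul])
      have hay : a < y := not_le.1 fun h => hne (by rw [hP a y h, mul_zero])
      have h1 : wt l j ≤ wt x a := not_lt.1 fun h => hne (by rw [hQl x a hxa h, zero_mul])
      have h2 : wt i l ≤ wt a y := not_lt.1 fun h => hne (by rw [hPl a y hay h, mul_zero])
      have hxa' : x.val < a.val := hxa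
      have hay' : a.val < y.val := hay
      rcases wt_cases h1 with e1 | ⟨e1, f1⟩ <;> rcases wt_cases h2 with e2 | ⟨e2, f2⟩ <;>
        rcases hc with e3 | ⟨e3, f3⟩ <;> omega
  constructor
  · intro x y _ h
    rw [Matrix.sub_apply, Matrix.mul_apply, Matrix.mul_apply]
    rw [Finset.sum_eq_zero (fun a _ => by
      by_contra hne
      obtain ⟨rfl, -, rfl⟩ := (key x a y h.le).1 hne
      exact lt_irrefl _ h), Finset.sum_eq_zero (fun a _ => (key x a y h.le).2), sub_zero]
  · rw [Matrix.sub_apply, Matrix.mul_apply, Matrix.mul_apply,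
      Finset.sum_eq_zero (fun a _ => (key i a j le_rfl).2), sub_zero,
      Finset.sum_eq_single l ?_ (fun h => absurd (Finset.mem_univ l) h)]
    intro a _ ha
    by_contra hne
    exact ha ((key i a j le_rfl).1 hne).2.1

variable {H : Type*} [Group H]

theorem low_mul {φ : H →* Matrix (Fin n) (Fin n) R} (hU : ∀ h, SU (φ h - 1)) {a b : H} {w : ℕ}
    (ha : Low (φ a - 1) w) (hb : Low (φ b - 1) w) :
    Low (φ (a * b) - 1) w ∧ ∀ i j, i < j → wt i j = w →
      (φ (a * b) - 1) i j = (φ a - 1) i j + (φ b - 1) i j := by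
  have e : φ (a * b) - 1 = (φ a - 1) + (φ b - 1) + (φ a - 1) * (φ b - 1) := by
    rw [map_mul]; noncomm_ring
  constructor
  · intro i j hij h
    rw [e, Matrix.add_apply, Matrix.add_apply, ha i j hij h, hb i j hij h,
      mul_low (hU a) (hU b) ha h.le]
    simp
  · intro i j hij h
    rw [e, Matrix.add_apply, Matrix.add_apply, mul_low (hU a) (hU b) ha h.le, add_zero]

theorem low_pow {φ : H →* Matrix (Fin n) (Fin n) R} (hU : ∀ h, SU (φ h - 1)) {a : H} {w : ℕ}
    (ha : Low (φ a - 1) w) (m : ℕ) :
    Low (φ (a ^ m) - 1) w ∧ ∀ i j, i < j → wt i j = w →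
      (φ (a ^ m) - 1) i j = m * (φ a - 1) i j := by
  induction m with
  | zero => simp [Low]
  | succ m ih =>
    obtain ⟨h1, h2⟩ := low_mul hU ih.1 ha
    rw [pow_succ]
    refine ⟨h1, fun i j hij hw => ?_⟩
    rw [h2 i j hij hw, ih.2 i j hij hw, Nat.cast_succ, add_mul, one_mul]

theorem low_commutator {φ : H →* Matrix (Fin n) (Fin n) R} (hU : ∀ h, SU (φ h - 1)) {a b : H}
    {i l j : Fin n} (hil : i < l) (hlj : l < j) (ha : Low (φ a - 1) (wt i l))
    (hb : Low (φ b - 1) (wt l j)) :
    Low (φ (a * b * (b * a)⁻¹) - 1) (wt i j) ∧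
      (φ (a * b * (b * a)⁻¹) - 1) i j = (φ a - 1) i l * (φ b - 1) l j := by
  obtain ⟨h1, h2⟩ := commutator_low hil hlj (hU a) (hU b) ha hb
  set M := (φ a - 1) * (φ b - 1) - (φ b - 1) * (φ a - 1) with hM
  have hMSU : SU M := fun x y h => by
    rw [hM, Matrix.sub_apply, (hU a).mul (hU b) x y h, (hU b).mul (hU a) x y h, sub_zero]
  have e : φ (a * b * (b * a)⁻¹) - 1 = M + M * (φ (b * a)⁻¹ - 1) := by
    have h3 : φ (b * a) * φ (b * a)⁻¹ = 1 := by rw [← map_mul, mul_inv_cancel, map_one]
    have h4 : M = φ a * φ b - φ b * φ a := by rw [hM]; noncomm_ring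
    rw [h4, map_mul, map_mul]
    rw [map_mul] at h3
    rw [mul_sub, mul_one, add_sub_cancel, sub_mul, h3]
  rw [e]
  refine ⟨fun x y hxy h => ?_, ?_⟩
  · rw [Matrix.add_apply, h1 x y hxy h, mul_low hMSU (hU _) h1 h.le, add_zero]
  · rw [Matrix.add_apply, h2, mul_low hMSU (hU _) h1 le_rfl, add_zero]

end CfsgLib.PGroup.Pivot
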