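import Cfsg.Agent.Lib.PGroup.PqCore
import Cfsg.Agent.Lib.PGroup.FixedPointFree

/-!
The base case for nonabelian operator groups of order `p * q`.
-/

set_option autoImplicit false
set_option linter.style.haveILetI false
set_option linter.unusedSectionVars false

namespace CfsgLib.PGroup

open Subgroup
open scoped IsMulCommutative

universe u

/-- Elements of coprime prime power order in a nilpotent subgroup commute. -/
theorem commute_of_mem_nilpotent {Γ : Type u} [Group Γ] [Finite Γ] {H X Y : Subgroup Γ}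
    [Group.IsNilpotent H] {a b : ℕ} [Fact a.Prime] [Fact b.Prime] (hab : a ≠ b) (hX : IsPGroup a X)
    (hY : IsPGroup b Y) {x y : Γ} (hx : x ∈ X) (hy : y ∈ Y) (hxH : x ∈ H) (hyH : y ∈ H) :
    Commute x y := by
  have hcl : ∀ {Z : Subgroup Γ} {s : ℕ}, IsPGroup s Z → ∀ {z : Γ}, z ∈ Z → ∀ hzH : z ∈ H,
      IsPGroup s (zpowers (⟨z, hzH⟩ : H)) := by
    intro Z s hZ z hz hzH w
    obtain ⟨m, hm⟩ := mem_zpowers_iff.1 w.2
    obtain ⟨n, hn⟩ := hZ ⟨z ^ m, zpow_mem hz m⟩
    refine ⟨n, Subtype.ext (Subtype.ext ?_)⟩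
    have := congrArg Subtype.val hn
    simp only [SubmonoidClass.coe_pow, OneMemClass.coe_one] at this ⊢
    rw [← hm, SubgroupClass.coe_zpow]
    exact this
  exact congrArg Subtype.val (commute_of_nilpotent_of_ne hab (hcl hX hx hxH) (hcl hY hy hyH)).eq

variable {A₀ : Type u} [Group A₀] [Finite A₀] {p q : ℕ} {Q : Subgroup A₀}

/-- Centralizers of nontrivial elements of `Q` are nilpotent. -/
theorem PqFrame.isNilpotent_centralizer (F : PqFrame p q Q) {Γ : Type u} [Group Γ] [Finite Γ]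
    (C : FpfCtx A₀ Γ) : Group.IsNilpotent ↥(C.G ⊓ centralizer (Q.map C.ι : Set Γ)) := by
  obtain ⟨u, hu, hu1⟩ := F.exists_mem
  obtain ⟨e, he⟩ := F.exists_not_mem
  haveI := F.normal
  set H := C.G ⊓ centralizer (Q.map C.ι : Set Γ) with hH
  have hnorm : C.ι e ∈ normalizer (H : Set Γ) := by
    refine Coprime.inf_le_normalizer (A := C.ι.range) C.norm
      (le_trans ?_ (Coprime.normalizer_le_normalizer_centralizer _)) ⟨e, rfl⟩
    rintro _ ⟨a, rfl⟩
    rw [mem_normalizer_iff]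
    have key : ∀ (a : A₀) (z : Γ), z ∈ Q.map C.ι → C.ι a * z * (C.ι a)⁻¹ ∈ Q.map C.ι := by
      rintro a _ ⟨w, hw, rfl⟩
      exact ⟨a * w * a⁻¹, F.normal.conj_mem w hw a, by simp⟩
    refine fun z => ⟨key a z, fun hz => ?_⟩
    have := key a⁻¹ _ hz
    simpa [mul_assoc] using this
  let φ : H ≃* H :=
    { toFun := fun g => ⟨C.ι e * g * (C.ι e)⁻¹, (mem_normalizer_iff.1 hnorm _).1 g.2⟩
      invFun := fun g => ⟨(C.ι e)⁻¹ * g * C.ι e, (mem_normalizer_iff''.1 hnorm _).1 g.2⟩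
      left_inv := fun g => Subtype.ext (by simp [mul_assoc])
      right_inv := fun g => Subtype.ext (by simp [mul_assoc])
      map_mul' := fun a b => Subtype.ext (by simp [mul_assoc]) }
  refine isNilpotent_of_fixedPointFree F.hp H φ (fun g hg => ?_) (fun g => ?_)
  · have hce : Commute (C.ι e) (g : Γ) := mul_inv_eq_iff_eq_mul.1 (congrArg Subtype.val hg)
    have hcu : Commute (C.ι u) (g : Γ) := mem_centralizer_iff.1 (mem_inf.1 g.2).2 _ ⟨u, hu, rfl⟩
    refine Subtype.ext (C.fpf _ (mem_inf.1 g.2).1 fun a => ?_)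
    let Sc : Subgroup A₀ := (centralizer ({(g : Γ)} : Set Γ)).comap C.ι
    have htop : Sc = ⊤ := F.eq_top hu hu1 (mem_centralizer_singleton_iff.2 hcu.eq) he
      (mem_centralizer_singleton_iff.2 hce.eq)
    exact mem_centralizer_singleton_iff.1 (show a ∈ Sc from htop ▸ mem_top a)
  · have hit : ∀ n, ((φ^[n] g : H) : Γ) = C.ι (e ^ n) * g * (C.ι (e ^ n))⁻¹ := by
      intro n
      induction n with
      | zero => simp
      | succ n ih =>
        rw [Function.iterate_succ_apply']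
        show C.ι e * (φ^[n] g : H) * (C.ι e)⁻¹ = _
        rw [ih, pow_succ', map_mul]
        group
    refine Subtype.ext ((hit p).trans ?_)
    rw [F.pow_out e he, map_one, inv_one, one_mul, mul_one]

/-- The base case for a nonabelian operator group of order `p * q`. -/
theorem pq_base (F : PqFrame p q Q) : FpfBase.{u} A₀ := by
  classical
  intro Γ _ _ C r t l _ _ _ R T V hrt hrl h hcomm hexp' hfaith hirr hmin
  have hp := F.hp
  have hq := F.hq
  have hRsub : ∀ (R₁ : Subgroup Γ), R₁ ≤ R → ∀ x ∈ R₁, (∀ v ∈ V, Commute x v) → x = 1 :=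
    fun R₁ hle x hx => hfaith x (hle hx)
  suffices key : T ≤ centralizer (R : Set Γ) by
    intro x hx y hy v _
    rw [show x * y = y * x from mem_centralizer_iff.1 (key hy) x hx, mul_inv_cancel_right,
      mul_inv_cancel]
    exact Commute.one_left v
  by_cases hR : R = ⊥
  · intro y _
    refine mem_centralizer_iff.2 fun x hx => ?_
    rw [SetLike.mem_coe, hR, mem_bot] at hx
    rw [hx, one_mul, mul_one]
  by_cases hT : T = ⊥
  · rw [hT]; exact bot_le
  by_cases hV0 : V = ⊥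
  · intro y _
    refine mem_centralizer_iff.2 fun x hx => ?_
    rw [hfaith x hx fun v hv => by rw [hV0, mem_bot] at hv; rw [hv]; exact Commute.one_right x,
      one_mul, mul_one]
  have hcop : (p * q).Coprime (Nat.card C.G) := F.card ▸ C.cop
  have hne : ∀ {s : ℕ} [Fact s.Prime] {X : Subgroup Γ}, IsPGroup s X → X ≤ C.G → X ≠ ⊥ →
      s ≠ p ∧ s ≠ q := fun {s} _ {X} hX hle hX0 =>
    ⟨ne_of_isPGroup_coprime (n := 1) hX hle hX0 (by rw [pow_one]; exact hcop.coprime_dvd_left (dvd_mul_right p q)) one_ne_zero dvd_rfl,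
      ne_of_isPGroup_coprime (n := 1) hX hle hX0 (by rw [pow_one]; exact hcop.coprime_dvd_left (dvd_mul_left q p)) one_ne_zero dvd_rfl⟩
  obtain ⟨hrp, hrq⟩ := hne h.pR h.R_le hR
  obtain ⟨htp, htq⟩ := hne h.pT h.T_le hT
  obtain ⟨hlp, hlq⟩ := hne h.pV h.V_le hV0
  haveI := F.isNilpotent_centralizer C
  have hQ : ∀ d ∈ Q, d ≠ 1 → ∀ x : Γ, Commute (C.ι d) x → x ∈ centralizer (Q.map C.ι : Set Γ) := by
    intro d hd hd1 x hx
    refine mem_centralizer_iff.2 ?_
    rintro _ ⟨w, hw, rfl⟩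
    obtain ⟨m, hm⟩ := mem_zpowers_iff.1 (show w ∈ zpowers d by rw [F.zpowers_eq hd hd1]; exact hw)
    rw [← hm, map_zpow]
    exact (hx.zpow_left m).eq
  haveI := hcomm
  haveI : Nontrivial V := V.nontrivial_iff_ne_bot.2 hV0
  set N : Subgroup Γ := normalizer (V : Set Γ)
  let ι' : A₀ →* N := C.ι.codRestrict N fun a => h.aV ⟨a, rfl⟩
  have hmN : ∀ {n : N} {K : Subgroup Γ}, (n : Γ) ∈ normalizer (K : Set Γ) →
      n ∈ normalizer ((K.subgroupOf N : Subgroup N) : Set N) := fun {n K} hn => by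
    rw [mem_normalizer_iff]
    intro x
    simpa [mem_subgroupOf] using mem_normalizer_iff.1 hn (x : Γ)
  have hfix : ∀ (g : N) (v : V), V.normalizerMonoidHom g v = v → Commute (g : Γ) (v : Γ) :=
    fun g v hv => mul_inv_eq_iff_eq_mul.1 (congrArg Subtype.val hv)
  have hcard : ∀ {K : Subgroup N}, Nat.card (K.map N.subtype) = Nat.card K := fun {K} =>
    card_map_of_injective N.subtype_injective
  have hlin := pq_core (N := N) (V := V) V.normalizerMonoidHom (l := l) F ι'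
    (fun v => Subtype.ext (hexp' v v.2)) (R.subgroupOf N) (T.subgroupOf N) h.pR.comap_subtype
    h.pT.comap_subtype hrt hrl hrp hrq htp htq hlp hlq
    (fun a => hmN (h.aR ⟨a, rfl⟩)) (fun y hy => hmN (h.tR hy)) (fun a => hmN (h.aT ⟨a, rfl⟩))
    (fun x hx hc1 => Subtype.ext (hfaith _ hx fun v hv => mul_inv_eq_iff_eq_mul.1
      (congrArg Subtype.val (DFunLike.congr_fun hc1 (⟨v, hv⟩ : V)))))
    (fun v hv => Subtype.ext (C.fpf _ (h.V_le v.2) fun a => hfix (ι' a) v (hv a)))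
    (fun x hx hxa => Subtype.ext (C.fpf _ (h.R_le hx) fun a => congrArg Subtype.val (hxa a).eq))
    (fun x hx hxa => Subtype.ext (C.fpf _ (h.T_le hx) fun a => congrArg Subtype.val (hxa a).eq))
    (fun d hd hd1 x hx hdx v hv => Subtype.ext (mul_inv_eq_iff_eq_mul.2
      (commute_of_mem_nilpotent (H := C.G ⊓ centralizer (Q.map C.ι : Set Γ)) hrl h.pR h.pV hx v.2
        ⟨h.R_le hx, hQ d hd hd1 _ (congrArg Subtype.val hdx.eq)⟩
        ⟨h.V_le v.2, hQ d hd hd1 _ (hfix (ι' d) v hv)⟩).eq))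
    (fun d hd hd1 x hx y hy hdx hdy => Subtype.ext
      (commute_of_mem_nilpotent (H := C.G ⊓ centralizer (Q.map C.ι : Set Γ)) hrt h.pR h.pT hx hy
        ⟨h.R_le hx, hQ d hd hd1 _ (congrArg Subtype.val hdx.eq)⟩
        ⟨h.T_le hy, hQ d hd hd1 _ (congrArg Subtype.val hdy.eq)⟩).eq)
    ?_ ?_
  · intro y hy
    refine mem_centralizer_iff.2 fun x hx => ?_
    exact congrArg Subtype.val
      (mem_centralizer_iff.1 (hlin (show (⟨y, h.tV hy⟩ : N) ∈ T.subgroupOf N from hy)) ⟨x, h.rV hx⟩ hx)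
  · intro v hv
    set ZR : Subgroup Γ := R ⊓ centralizer (R : Set Γ)
    set W : Subgroup Γ := V ⊓ centralizer (ZR : Set Γ)
    have hnW : ∀ S : Subgroup Γ, S ≤ normalizer (R : Set Γ) → S ≤ normalizer (V : Set Γ) →
        S ≤ normalizer (W : Set Γ) := fun S h1 h2 =>
      Coprime.inf_le_normalizer h2 ((Coprime.inf_le_normalizer h1
        (h1.trans (Coprime.normalizer_le_normalizer_centralizer R))).trans
        (Coprime.normalizer_le_normalizer_centralizer ZR))
    rcases hirr W inf_le_left (hnW _ h.aR h.aV) (hnW _ le_normalizer h.rV) (hnW _ h.tR h.tV) with hW | hW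
    · refine Subtype.ext (mem_bot.1 (hW ▸ mem_inf.2 ⟨v.2, mem_centralizer_iff.2 fun z hz => ?_⟩))
      obtain ⟨hzR, hzC⟩ := mem_inf.1 hz
      exact (hfix ⟨z, h.rV hzR⟩ v (hv _ ⟨hzR, mem_centralizer_iff.2 fun w hw =>
        Subtype.ext (mem_centralizer_iff.1 hzC w hw)⟩)).eq
    · exfalso
      haveI := R.nontrivial_iff_ne_bot.2 hR
      haveI := h.pR.center_nontrivial
      obtain ⟨z, hz⟩ := exists_ne (1 : Subgroup.center R)
      refine hz (Subtype.ext (Subtype.ext (hfaith _ (z : R).2 fun w hw => ?_)))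
      refine mem_centralizer_iff.1 (mem_inf.1 (hW ▸ hw : w ∈ W)).2 _ (mem_inf.2 ⟨(z : R).2, ?_⟩)
      exact mem_centralizer_iff.2 fun u hu =>
        congrArg Subtype.val (Subgroup.mem_center_iff.1 z.2 ⟨u, hu⟩)
  · intro R₁ T₁ hR₁ hT₁ hA₁ hA₂ hTR₁ hlt y hy
    refine mem_centralizer_iff.2 fun x hx => ?_
    have hR₁' : R₁.map N.subtype ≤ R := map_le_iff_le_comap.2 hR₁
    have hT₁' : T₁.map N.subtype ≤ T := map_le_iff_le_comap.2 hT₁
    have hA' : ∀ {K : Subgroup N}, (∀ a, ι' a ∈ normalizer (K : Set N)) →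
        C.ι.range ≤ normalizer ((K.map N.subtype : Subgroup Γ) : Set Γ) := by
      intro K hK
      rintro _ ⟨a, rfl⟩
      exact le_normalizer_map N.subtype (mem_map_of_mem _ (hK a))
    have hcfg : FpfCfg C r t l (R₁.map N.subtype) (T₁.map N.subtype) V :=
      ⟨hR₁'.trans h.R_le, hT₁'.trans h.T_le, h.V_le, h.pR.to_le hR₁', h.pT.to_le hT₁', h.pV,
        hA' hA₁, hA' hA₂, h.aV, (map_mono hTR₁).trans (le_normalizer_map N.subtype),
        hR₁'.trans h.rV, hT₁'.trans h.tV⟩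
    have hRN : Nat.card (R.subgroupOf N) = Nat.card R := Nat.card_congr (subgroupOfEquivOfLe h.rV).toEquiv
    have hTN : Nat.card (T.subgroupOf N) = Nat.card T := Nat.card_congr (subgroupOfEquivOfLe h.tV).toEquiv
    have hres := hmin _ _ hR₁' hT₁' hcfg (by rw [hcard, hcard, ← hRN, ← hTN]; exact hlt)
      (x : Γ) (mem_map_of_mem _ hx) (y : Γ) (mem_map_of_mem _ hy)
    have hmem : (x : Γ) * y * (x : Γ)⁻¹ * (y : Γ)⁻¹ ∈ R :=
      commutator_mem_of_mem_normalizer h.tR (hR₁' (mem_map_of_mem _ hx)) (hT₁' (mem_map_of_mem _ hy))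
    have h1 := hfaith _ hmem fun v hv => hres v hv
    exact Subtype.ext (mul_inv_eq_iff_eq_mul.1 (mul_inv_eq_one.1 h1))

end CfsgLib.PGroup
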