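import Cfsg.Agent.Lib.Coprime.Fitting
import Cfsg.Agent.Lib.Coprime.FpfAction
import Cfsg.Agent.Lib.Coprime.Primitive

/-!
# Solvable groups with disconnected prime graph

If no element of a finite solvable group has order `a * b` with `a` in a set of primes and `b`
outside it, and both kinds of prime occur, then the group is Frobenius or 2-Frobenius.
-/

set_option autoImplicit false
set_option linter.style.haveILetI false

namespace CfsgLib.PGroup

open Subgroup CfsgLib.Coprime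

universe u

/-- No element order is the product of a prime in `π` and a prime outside. -/
def PrimeSep (π : Set ℕ) (X : Type*) [Group X] : Prop :=
  ∀ a b : ℕ, a.Prime → b.Prime → a ∈ π → b ∉ π → ∀ g : X, orderOf g ≠ a * b

variable {G : Type u} [Group G] [Finite G] {π : Set ℕ}

theorem PrimeSep.subgroup (h : PrimeSep π G) (H : Subgroup G) : PrimeSep π H :=
  fun a b ha hb haπ hbπ g hg => h a b ha hb haπ hbπ g (by rwa [orderOf_coe])

theorem PrimeSep.quotient (h : PrimeSep π G) (N : Subgroup G) [N.Normal] :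
    PrimeSep π (G ⧸ N) := by
  intro a b ha hb haπ hbπ g hg
  obtain ⟨x, rfl⟩ := QuotientGroup.mk'_surjective N g
  have hd := orderOf_map_dvd (QuotientGroup.mk' N) x
  rw [hg] at hd
  exact h a b ha hb haπ hbπ _ (orderOf_pow_orderOf_div (orderOf_pos x).ne' hd)

theorem PrimeSep.commute_false (h : PrimeSep π G) {x y : G} (hc : Commute x y)
    (ha : (orderOf x).Prime) (hb : (orderOf y).Prime) (hxπ : orderOf x ∈ π)
    (hyπ : orderOf y ∉ π) : False :=
  h _ _ ha hb hxπ hyπ (x * y) (hc.orderOf_mul_eq_mul_orderOf_of_coprime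
    ((Nat.coprime_primes ha hb).2 fun e => hyπ (e ▸ hxπ)))

/-- Commuting elements from a `π`-subgroup and a `π'`-subgroup are not both nontrivial. -/
theorem PrimeSep.eq_one_of_commute (h : PrimeSep π G) {A B : Subgroup G}
    (hA : IsPiNum π (Nat.card A)) (hB : IsPiNum πᶜ (Nat.card B)) {x y : G} (hx : x ∈ A)
    (hy : y ∈ B) (hc : Commute x y) : x = 1 ∨ y = 1 := by
  by_contra hne
  push Not at hne
  obtain ⟨a, ha, hax⟩ := Nat.exists_prime_and_dvd (mt orderOf_eq_one_iff.1 hne.1)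
  obtain ⟨b, hb, hby⟩ := Nat.exists_prime_and_dvd (mt orderOf_eq_one_iff.1 hne.2)
  have h1 := orderOf_pow_orderOf_div (orderOf_pos x).ne' hax
  have h2 := orderOf_pow_orderOf_div (orderOf_pos y).ne' hby
  exact h.commute_false (hc.pow_pow _ _) (h1.symm ▸ ha) (h2.symm ▸ hb)
    (h1.symm ▸ hA a ha (hax.trans (orderOf_dvd_natCard A hx)))
    (h2.symm ▸ hB b hb (hby.trans (orderOf_dvd_natCard B hy)))

/-- A normal subgroup which is a Hall `π`-subgroup, or a Hall `π'`-subgroup, is a Frobenius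
kernel. -/
theorem PrimeSep.frobenius (h : PrimeSep π G) (N : Subgroup G) [N.Normal] (hN0 : N ≠ ⊥)
    (hN1 : N ≠ ⊤)
    (hN : IsPiNum π (Nat.card N) ∧ IsPiNum πᶜ N.index ∨
      IsPiNum πᶜ (Nat.card N) ∧ IsPiNum π N.index) :
    ∃ C : Subgroup G, Cfsg.IsFrobeniusComplement C ∧ Cfsg.frobeniusKernel C = (N : Set G) := by
  have hcop : (Nat.card N).Coprime N.index := by
    refine Nat.coprime_of_dvd fun q hq h1 h2 => ?_
    rcases hN with ⟨h3, h4⟩ | ⟨h3, h4⟩
    · exact h4 q hq h2 (h3 q hq h1)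
    · exact h3 q hq h1 (h4 q hq h2)
  obtain ⟨C, hC⟩ := exists_right_complement'_of_coprime hcop
  have hCcard : Nat.card C = N.index := by rw [hC.symm.index_eq_card]
  have hC0 : C ≠ ⊥ := by
    rintro rfl
    rw [Subgroup.card_bot] at hCcard
    exact hN1 (index_eq_one.1 hCcard.symm)
  have hfr : Cfsg.IsFrobeniusComplement C := by
    refine (frob_iff_fixed_point_free hC hN0 hC0).2 fun c hc hc1 => ?_
    refine (eq_bot_iff_forall _).2 fun k ⟨hk, hkc⟩ => ?_
    have hcomm : Commute k c := mem_centralizer_singleton_iff.1 hkc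
    rcases hN with ⟨h3, h4⟩ | ⟨h3, h4⟩
    · exact (h.eq_one_of_commute h3 (hCcard ▸ h4) hk hc hcomm).resolve_right hc1
    · exact (h.eq_one_of_commute (hCcard ▸ h4) h3 hc hk hcomm.symm).resolve_left hc1
  refine ⟨C, hfr, (Set.Finite.eq_of_subset_of_card_le (Set.toFinite _) (fun x hx => ?_) ?_).symm⟩
  · refine frob_mem_kernel_iff.2 (or_iff_not_imp_left.2 fun hx1 g hg => hx1 ?_)
    have h1 : g⁻¹ * x * g = 1 :=
      Subgroup.disjoint_def.1 hC.disjoint (by simpa using Normal.conj_mem ‹_› x hx g⁻¹) hg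
    rw [show x = g * (g⁻¹ * x * g) * g⁻¹ by group, h1]
    group
  · rw [frob_card_kernel hfr]
    exact (hC.index_eq_card).le

/-- The case where the `π`-core is nontrivial. -/
theorem PrimeSep.frobenius_or_two [Group.IsSolvable G] (h : PrimeSep π G)
    (hL0 : Cfsg.piCore π G ≠ ⊥) (hb : ∃ b, b.Prime ∧ b ∉ π ∧ b ∣ Nat.card G) :
    (∃ C : Subgroup G, Cfsg.IsFrobeniusComplement C) ∨
    (∃ (H K : Subgroup G) (_ : H.Normal), K.Normal ∧ H < K ∧
      (∃ C : Subgroup ↥K, Cfsg.IsFrobeniusComplement C ∧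
        Cfsg.frobeniusKernel C = (H.subgroupOf K : Set ↥K)) ∧
      (∃ C : Subgroup (G ⧸ H), Cfsg.IsFrobeniusComplement C ∧
        Cfsg.frobeniusKernel C = (K.map (QuotientGroup.mk' H) : Set (G ⧸ H)))) := by
  obtain ⟨b, hbp, hbπ, hbG⟩ := hb
  set L := Cfsg.piCore π G with hLdef
  have hLπ : IsPiNum π (Nat.card L) := piCore_isPiNum π
  let f := QuotientGroup.mk' L
  haveI hnt : Nontrivial (G ⧸ L) := by
    refine Finite.one_lt_card_iff_nontrivial.1 ?_
    rw [← Subgroup.index_eq_card]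
    refine L.one_lt_index_of_ne_top fun e => hbπ (hLπ b hbp ?_)
    rw [e, card_top]; exact hbG
  have hQ : PrimeSep π (G ⧸ L) := h.quotient L
  have hcore : Cfsg.piCore π (G ⧸ L) = ⊥ := piCore_quotient_eq_bot π
  obtain ⟨V, hVn, hV0, -, hVmin⟩ :=
    exists_minimal_normal_le (N := (⊤ : Subgroup (G ⧸ L))) top_ne_bot
  haveI := hVn
  obtain ⟨q, d, hq, hd, hVcard, hVp, hVc⟩ := exists_minimal_abelian V hV0 hVmin
  haveI := Fact.mk hq
  have hqπ : q ∉ π := by
    intro hqπ
    refine hV0 (le_bot_iff.1 (hcore ▸ le_piCore ?_))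
    rw [hVcard]
    exact (isPiNum_singleton_of_pow hq).mono (by simpa using hqπ)
  have hVπ : IsPiNum πᶜ (Nat.card V) := by
    rw [hVcard]
    exact (isPiNum_singleton_of_pow hq).mono (by simpa using hqπ)
  set Mb := Cfsg.piCore πᶜ (G ⧸ L) with hMb
  have hMb0 : Mb ≠ ⊥ := fun e => hV0 (le_bot_iff.1 (e ▸ le_piCore hVπ))
  let M : Subgroup G := Mb.comap f
  haveI : M.Normal := Normal.comap inferInstance f
  have hMmap : M.map f = Mb :=
    map_comap_eq_self_of_surjective (QuotientGroup.mk'_surjective L) Mb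
  have hLM : L ≤ M := by
    intro x hx
    show f x ∈ Mb
    rw [show f x = 1 from (QuotientGroup.eq_one_iff x).2 hx]
    exact one_mem _
  -- the first Frobenius group
  have hidx : (L.subgroupOf M).index = Nat.card Mb := by
    have h2 := card_eq_card_mul_card_map_mk' L hLM
    rw [hMmap, ← card_mul_index (L.subgroupOf M),
      Nat.card_congr (subgroupOfEquivOfLe hLM).toEquiv] at h2
    exact Nat.eq_of_mul_eq_mul_left Nat.card_pos h2
  haveI : (L.subgroupOf M).Normal := normal_subgroupOf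
  have hlt : L < M := by
    refine lt_of_le_of_ne hLM fun e => hMb0 ?_
    rw [← hMmap, ← e, Subgroup.map_eq_bot_iff, QuotientGroup.ker_mk']
  have hMfrob := (h.subgroup M).frobenius (L.subgroupOf M)
    (fun e => hL0 (by rw [← map_subgroupOf_eq_of_le hLM, e, Subgroup.map_bot]))
    (fun e => absurd (subgroupOf_eq_top.1 e) (not_le_of_gt hlt))
    (Or.inl ⟨(Nat.card_congr (subgroupOfEquivOfLe hLM).toEquiv) ▸ hLπ,
      hidx ▸ piCore_isPiNum πᶜ⟩)
  by_cases hMtop : M = ⊤
  · left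
    have hidx' : L.index = Nat.card Mb := by
      have h2 := card_eq_card_mul_card_map_mk' L hLM
      rw [hMmap, hMtop, card_top, ← card_mul_index L] at h2
      exact Nat.eq_of_mul_eq_mul_left Nat.card_pos h2
    obtain ⟨C, hC, -⟩ := h.frobenius L hL0 (fun e => absurd hlt (by rw [e]; exact not_top_lt))
      (Or.inl ⟨hLπ, hidx' ▸ piCore_isPiNum πᶜ⟩)
    exact ⟨C, hC⟩
  -- `V` is cyclic
  haveI hVcomm : IsMulCommutative V :=
    isMulCommutative_iff.2 fun a c => Subtype.ext (mem_centralizer_iff.1 (hVc c.2) a a.2)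
  haveI hVcyc : IsCyclic V := by
    let W : Subgroup G := V.comap f
    have hWmap : W.map f = V :=
      map_comap_eq_self_of_surjective (QuotientGroup.mk'_surjective L) V
    have hLW : L ≤ W := by
      intro x hx
      show f x ∈ V
      rw [show f x = 1 from (QuotientGroup.eq_one_iff x).2 hx]
      exact one_mem _
    haveI : (L.subgroupOf W).Normal := normal_subgroupOf
    have hidxW : (L.subgroupOf W).index = Nat.card V := by
      have h2 := card_eq_card_mul_card_map_mk' L hLW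
      rw [hWmap, ← card_mul_index (L.subgroupOf W),
        Nat.card_congr (subgroupOfEquivOfLe hLW).toEquiv] at h2
      exact Nat.eq_of_mul_eq_mul_left Nat.card_pos h2
    have hcop : (Nat.card (L.subgroupOf W)).Coprime (L.subgroupOf W).index := by
      rw [hidxW, Nat.card_congr (subgroupOfEquivOfLe hLW).toEquiv]
      exact Nat.coprime_of_dvd fun r hr h1 h2 => hVπ r hr h2 (hLπ r hr h1)
    obtain ⟨V0, hV0c⟩ := exists_right_complement'_of_coprime hcop
    let A : Subgroup G := V0.map W.subtype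
    have hAL : ∀ x ∈ A, x ∈ L → x = 1 := by
      rintro _ ⟨x, hx, rfl⟩ hxL
      exact congrArg Subtype.val (Subgroup.disjoint_def.1 hV0c.disjoint hxL hx)
    have hAV : ∀ x ∈ A, f x ∈ V := by
      rintro _ ⟨x, -, rfl⟩
      exact x.2
    let φ : A →* V := ((f.comp A.subtype).codRestrict V fun x => hAV x x.2)
    have hφ : Function.Bijective φ := by
      have hinj : Function.Injective φ := by
        refine (injective_iff_map_eq_one φ).2 fun x hx => Subtype.ext (hAL x x.2 ?_)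
        exact (QuotientGroup.eq_one_iff (x : G)).1 (congrArg Subtype.val hx)
      refine (Nat.bijective_iff_injective_and_card φ).2 ⟨hinj, ?_⟩
      rw [Nat.card_congr (equivMapOfInjective V0 W.subtype W.subtype_injective).symm.toEquiv,
        ← hidxW, hV0c.symm.index_eq_card]
    let e : A ≃* V := MulEquiv.ofBijective φ hφ
    haveI : IsMulCommutative A := isMulCommutative_iff.2 fun a c => e.injective (by
      rw [map_mul, map_mul, isMulCommutative_iff.1 hVcomm])
    have hfpf : IsFpfOn A L := fun a ha ha1 => (eq_bot_iff_forall _).2 fun l ⟨hl, hlc⟩ =>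
      (h.eq_one_of_commute hLπ (B := A) (by rw [Nat.card_congr e.toEquiv]; exact hVπ) hl ha
        (mem_centralizer_singleton_iff.1 hlc)).resolve_right ha1
    haveI := hfpf.isCyclic (normalizer_eq_top (H := L) ▸ le_top) hL0
    exact isCyclic_of_surjective e e.surjective
  -- the centralizer of `V` lies in the `π'`-core
  have hCle : centralizer (V : Set (G ⧸ L)) ≤ Mb := by
    refine le_piCore fun a ha hda => ?_
    intro haπ
    obtain ⟨c, hc⟩ := exists_prime_orderOf_dvd_card' (G := centralizer (V : Set (G ⧸ L)))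
      (hp := ⟨ha⟩) a hda
    obtain ⟨v, hv⟩ := exists_prime_orderOf_dvd_card' (G := V) q
      (hVcard ▸ dvd_pow_self q hd.ne')
    rw [← orderOf_coe] at hc hv
    refine hQ.commute_false ((mem_centralizer_iff.1 c.2 v v.2).symm : Commute (c : G ⧸ L) v)
      ?_ ?_ ?_ ?_ <;> simp only [hc, hv] <;> assumption
  -- so the second quotient is abelian, hence a `π`-group
  have hab : ∀ x y : G ⧸ L, x * y * x⁻¹ * y⁻¹ ∈ Mb := by
    intro x y
    refine hCle (mem_centralizer_iff.2 fun v hv => ?_)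
    obtain ⟨k, hk⟩ := MonoidHom.map_cyclic (MulAut.conjNormal x : MulAut V).toMonoidHom
    obtain ⟨l, hl⟩ := MonoidHom.map_cyclic (MulAut.conjNormal y : MulAut V).toMonoidHom
    have hxy : ∀ w : V, (MulAut.conjNormal (x * y) : MulAut V) w =
        (MulAut.conjNormal (y * x) : MulAut V) w := by
      intro w
      rw [map_mul, map_mul, MulAut.mul_apply, MulAut.mul_apply]
      show (MulAut.conjNormal x : MulAut V).toMonoidHom ((MulAut.conjNormal y : MulAut V).toMonoidHom w)
        = (MulAut.conjNormal y : MulAut V).toMonoidHom ((MulAut.conjNormal x : MulAut V).toMonoidHom w)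
      rw [hl w, hk, hk w, hl, ← zpow_mul, ← zpow_mul, mul_comm]
    obtain ⟨w, hw⟩ : ∃ w : V, (w : G ⧸ L) = (y * x)⁻¹ * v * (y * x) :=
      ⟨⟨_, show (y * x)⁻¹ * v * (y * x) ∈ V by
        have hc := hVn.conj_mem v hv (y * x)⁻¹
        have hi : (y * x)⁻¹⁻¹ = y * x := inv_inv _
        exact (congrArg (fun z => (y * x)⁻¹ * v * z) hi) ▸ hc⟩, rfl⟩
    have h' : (x * y) * (w : G ⧸ L) * (x * y)⁻¹ = (y * x) * (w : G ⧸ L) * (y * x)⁻¹ := by
      have := congrArg Subtype.val (hxy w)
      rwa [MulAut.conjNormal_apply, MulAut.conjNormal_apply] at this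
    refine (?_ : v * (x * y * x⁻¹ * y⁻¹) = (x * y * x⁻¹ * y⁻¹) * v)
    calc v * (x * y * x⁻¹ * y⁻¹)
        = ((y * x) * (w : G ⧸ L) * (y * x)⁻¹) * (x * y * x⁻¹ * y⁻¹) := by rw [hw]; group
      _ = ((x * y) * (w : G ⧸ L) * (x * y)⁻¹) * (x * y * x⁻¹ * y⁻¹) := by rw [h']
      _ = (x * y * x⁻¹ * y⁻¹) * v := by rw [hw]; group
  have hidxMb : IsPiNum π Mb.index := by
    intro r hr hrd
    by_contra hrπ
    rw [Subgroup.index_eq_card] at hrd
    obtain ⟨t, ht⟩ := exists_prime_orderOf_dvd_card' (G := (G ⧸ L) ⧸ Mb) (hp := ⟨hr⟩) r hrd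
    haveI : (zpowers t).Normal := by
      refine ⟨fun n hn g => ?_⟩
      obtain ⟨x, rfl⟩ := QuotientGroup.mk'_surjective Mb g
      obtain ⟨y, rfl⟩ := QuotientGroup.mk'_surjective Mb n
      have : QuotientGroup.mk' Mb (x * y * x⁻¹ * y⁻¹) = 1 := (QuotientGroup.eq_one_iff _).2 (hab x y)
      rw [map_mul, map_mul, map_mul, map_inv, map_inv, mul_inv_eq_one] at this
      rw [this]; exact hn
    have hle : zpowers t ≤ Cfsg.piCore πᶜ ((G ⧸ L) ⧸ Mb) := by
      refine le_piCore ?_
      rw [Nat.card_zpowers, ht, ← pow_one r]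
      exact (isPiNum_singleton_of_pow hr).mono (by simpa using hrπ)
    rw [show Cfsg.piCore πᶜ ((G ⧸ L) ⧸ Mb) = ⊥ from piCore_quotient_eq_bot πᶜ, le_bot_iff,
      zpowers_eq_bot] at hle
    rw [hle, orderOf_one] at ht
    exact hr.ne_one ht.symm
  right
  refine ⟨L, M, inferInstance, inferInstance, hlt, hMfrob, ?_⟩
  rw [hMmap]
  exact hQ.frobenius Mb hMb0 (fun e => hMtop (by
    show Mb.comap f = ⊤
    rw [e, comap_top])) (Or.inr ⟨piCore_isPiNum πᶜ, hidxMb⟩)

theorem frobenius_or_two_of_disconnected [Group.IsSolvable G] (A : Set ℕ)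
    (h1 : ∃ a ∈ A, a.Prime ∧ a ∣ Nat.card G) (h2 : ∃ b ∉ A, b.Prime ∧ b ∣ Nat.card G)
    (h3 : ∀ a ∈ A, ∀ b ∉ A, a.Prime → b.Prime → a ∣ Nat.card G → b ∣ Nat.card G →
      ¬ ∃ g : G, orderOf g = a * b) :
    (∃ C : Subgroup G, Cfsg.IsFrobeniusComplement C) ∨
    (∃ (H K : Subgroup G) (_ : H.Normal), K.Normal ∧ H < K ∧
      (∃ C : Subgroup ↥K, Cfsg.IsFrobeniusComplement C ∧
        Cfsg.frobeniusKernel C = (H.subgroupOf K : Set ↥K)) ∧
      (∃ C : Subgroup (G ⧸ H), Cfsg.IsFrobeniusComplement C ∧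
        Cfsg.frobeniusKernel C = (K.map (QuotientGroup.mk' H) : Set (G ⧸ H)))) := by
  obtain ⟨a, haA, ha, had⟩ := h1
  obtain ⟨b, hbA, hb, hbd⟩ := h2
  have hs : PrimeSep A G := fun a b ha hb haA hbA g hg =>
    h3 a haA b hbA ha hb ((dvd_mul_right a b).trans (hg ▸ orderOf_dvd_natCard g))
      ((dvd_mul_left b a).trans (hg ▸ orderOf_dvd_natCard g)) ⟨g, hg⟩
  have hs' : PrimeSep Aᶜ G := fun a b ha hb haA hbA g hg =>
    hs b a hb ha (not_not.1 hbA) haA g (hg.trans (mul_comm a b))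
  haveI : Nontrivial G := Finite.one_lt_card_iff_nontrivial.1
    (ha.one_lt.trans_le (Nat.le_of_dvd Nat.card_pos had))
  obtain ⟨V, hVn, hV0, -, hVmin⟩ := exists_minimal_normal_le (N := (⊤ : Subgroup G)) top_ne_bot
  haveI := hVn
  obtain ⟨q, d, hq, hd, hVcard, -, -⟩ := exists_minimal_abelian V hV0 hVmin
  have key : ∀ ρ : Set ℕ, q ∈ ρ → Cfsg.piCore ρ G ≠ ⊥ := fun ρ hρ e => hV0 (le_bot_iff.1
    (e ▸ le_piCore (hVcard ▸ (isPiNum_singleton_of_pow hq).mono (by simpa using hρ))))
  by_cases hqA : q ∈ A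
  · exact hs.frobenius_or_two (key A hqA) ⟨b, hb, hbA, hbd⟩
  · exact hs'.frobenius_or_two (key Aᶜ hqA) ⟨a, ha, fun h => h haA, had⟩

end CfsgLib.PGroup
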