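import Mathlib.GroupTheory.Abelianization.Defs
import Mathlib.GroupTheory.SpecificGroups.Cyclic
import Mathlib.GroupTheory.Sylow
import Mathlib.LinearAlgebra.Lagrange
import Mathlib.Algebra.Polynomial.Taylor
import Mathlib.Algebra.Polynomial.HasseDeriv
import Mathlib.Algebra.CharP.Lemmas
import Mathlib.Algebra.CharP.Algebra
import Mathlib.Algebra.MonoidAlgebra.Basic
import Mathlib.Algebra.Field.ZMod
import Mathlib.Data.Nat.Prime.Factorial

/-!
# Groups of odd order with a regular cyclic subgroup of prime power order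

A perfect group of odd order has no transitive action in which a cyclic group of prime power
order is regular (Burnside in prime degree, Schur in general).
-/

set_option autoImplicit false
set_option linter.style.haveILetI false
set_option linter.unusedSectionVars false

namespace CfsgLib.PGroup.RegularCyclic

open Finset Polynomial

universe u v

/-! ### The polynomial step (prime degree) -/

theorem sum_comp_coeff {r : ℕ} [Fact r.Prime] (X : Finset (ZMod r)) {j₀ : ℕ}
    (hS : ∀ j, 1 ≤ j → j < j₀ → ∑ c ∈ X, c ^ j = 0) (hj : 1 ≤ j₀) (P : (ZMod r)[X]) {n : ℕ}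
    (hn : P.natDegree ≤ n + j₀) :
    (∑ c ∈ X, (taylor c P - P)).coeff n =
      ((n + j₀).choose n : ZMod r) * P.coeff (n + j₀) * ∑ c ∈ X, c ^ j₀ := by
  rw [finsetSum_coeff]
  have hdeg : (hasseDeriv n P).natDegree ≤ j₀ :=
    (natDegree_hasseDeriv_le P n).trans (by omega)
  have h : ∀ c : ZMod r, (taylor c P - P).coeff n =
      ∑ l ∈ Finset.range j₀, ((l + 1 + n).choose n : ZMod r) * P.coeff (l + 1 + n) * c ^ (l + 1) := by
    intro c
    rw [coeff_sub, taylor_coeff, eval_eq_sum_range' (n := j₀ + 1) (by omega), Finset.sum_range_succ']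
    simp [hasseDeriv_coeff]
  simp only [h]
  rw [Finset.sum_comm]
  simp only [← Finset.mul_sum]
  obtain ⟨k, rfl⟩ : ∃ k, j₀ = k + 1 := ⟨j₀ - 1, by omega⟩
  rw [Finset.sum_range_succ, Finset.sum_eq_zero, zero_add, add_comm (k + 1) n]
  intro l hl
  rw [hS (l + 1) (by omega) (by simp only [Finset.mem_range] at hl; omega), mul_zero]

theorem choose_cast_ne_zero {r m k : ℕ} [Fact r.Prime] (hm : m < r) (hk : k ≤ m) :
    (m.choose k : ZMod r) ≠ 0 := by
  rw [Ne, ZMod.natCast_eq_zero_iff]
  intro h
  have h2 : r ∣ m.factorial := h.trans ⟨k.factorial * (m - k).factorial, by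
    rw [← mul_assoc, Nat.choose_mul_factorial_mul_factorial hk]⟩
  exact absurd ((Nat.Prime.dvd_factorial (Fact.out : r.Prime)).1 h2) (by omega)

theorem exists_poly {r : ℕ} [Fact r.Prime] (f : ZMod r → ZMod r) :
    ∃ P : (ZMod r)[X], P.natDegree < r ∧ ∀ x, P.eval x = f x := by
  refine ⟨Lagrange.interpolate Finset.univ id f, ?_, fun x => ?_⟩
  · by_cases h0 : Lagrange.interpolate Finset.univ id f = 0
    · rw [h0, natDegree_zero]; exact (Fact.out : r.Prime).pos
    · rw [natDegree_lt_iff_degree_lt h0]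
      refine (Lagrange.degree_interpolate_lt f (Set.injOn_id _)).trans_le ?_
      rw [Finset.card_univ, ZMod.card]
  · exact Lagrange.eval_interpolate_at_node f (Set.injOn_id _) (Finset.mem_univ x)

theorem eq_of_eval_eq {r : ℕ} [Fact r.Prime] {P Q : (ZMod r)[X]} (hP : P.natDegree < r)
    (hQ : Q.natDegree < r) (h : ∀ x, P.eval x = Q.eval x) : P = Q := by
  refine eq_of_natDegree_lt_card_of_eval_eq P Q Function.injective_id h ?_
  rw [ZMod.card]
  exact max_lt hP hQ

/-- A map preserving the increments in a small set `X` fixes `0` only if it is a multiplication. -/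
theorem eq_mul_of_preserves {r : ℕ} [Fact r.Prime] (X : Finset (ZMod r))
    (hX : X.Nonempty) (h0 : (0 : ZMod r) ∉ X) (hsmall : 2 * X.card ≤ r - 1) (f : ZMod r → ZMod r)
    (hinj : Function.Injective f) (hf0 : f 0 = 0) (hfX : ∀ a b, b - a ∈ X → f b - f a ∈ X)
    (x : ZMod r) : f x = f 1 * x := by
  classical
  have hr : r.Prime := Fact.out
  -- increments
  have himg : ∀ y, (X.image fun c => f (y + c) - f y) = X := by
    intro y
    refine Finset.eq_of_subset_of_card_le (fun z hz => ?_) ?_
    · obtain ⟨c, hc, rfl⟩ := Finset.mem_image.1 hz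
      exact hfX y (y + c) (by rwa [add_sub_cancel_left])
    · rw [Finset.card_image_of_injective]
      intro a b hab
      exact add_left_cancel (hinj (sub_left_injective hab))
  have hsum : ∀ (y : ZMod r) (g : ZMod r → ZMod r),
      ∑ c ∈ X, g (f (y + c) - f y) = ∑ c ∈ X, g c := by
    intro y g
    conv_rhs => rw [← himg y]
    rw [Finset.sum_image]
    intro a _ b _ hab
    exact add_left_cancel (hinj (sub_left_injective hab))
  -- the first non-vanishing power sum
  obtain ⟨c₀, hc₀⟩ := hX
  have hex : ∃ j, (1 ≤ j ∧ j ≤ X.card) ∧ ∑ c ∈ X, c ^ j ≠ 0 := by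
    by_contra hcon
    push Not at hcon
    let Q : (ZMod r)[X] := Polynomial.X * ∏ c ∈ X.erase c₀, (Polynomial.X - C c)
    have hQd : Q.natDegree ≤ X.card := by
      refine natDegree_mul_le.trans ?_
      rw [natDegree_X, natDegree_finsetProd_X_sub_C_eq_card, Finset.card_erase_of_mem hc₀]
      have := Finset.card_pos.2 ⟨c₀, hc₀⟩
      omega
    have h1 : ∑ c ∈ X, Q.eval c = 0 := by
      simp only [eval_eq_sum_range' (n := X.card + 1) (Nat.lt_succ_of_le hQd)]
      rw [Finset.sum_comm]
      refine Finset.sum_eq_zero fun j hj => ?_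
      rw [← Finset.mul_sum]
      rcases Nat.eq_zero_or_pos j with rfl | hj1
      · simp [Q]
      · rw [hcon j ⟨hj1, by simp only [Finset.mem_range] at hj; omega⟩, mul_zero]
    rw [Finset.sum_eq_single_of_mem c₀ hc₀ fun c hc hne => ?_] at h1
    · simp only [Q, eval_mul, eval_X, eval_prod, eval_sub, eval_C, mul_eq_zero,
        Finset.prod_eq_zero_iff] at h1
      rcases h1 with h1 | ⟨c, hc, h1⟩
      · exact h0 (h1 ▸ hc₀)
      · exact (Finset.mem_erase.1 hc).1 (sub_eq_zero.1 h1).symm
    · simp only [Q, eval_mul, eval_X, eval_prod, eval_sub, eval_C, mul_eq_zero]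
      exact Or.inr (Finset.prod_eq_zero (Finset.mem_erase.2 ⟨hne, hc⟩) (sub_self c))
  set j₀ := Nat.find hex with hj₀
  obtain ⟨⟨hj1, hjd⟩, hjS⟩ : (1 ≤ j₀ ∧ j₀ ≤ X.card) ∧ ∑ c ∈ X, c ^ j₀ ≠ 0 := Nat.find_spec hex
  have hS : ∀ j, 1 ≤ j → j < j₀ → ∑ c ∈ X, c ^ j = 0 := by
    intro j hj hlt
    by_contra hne
    exact Nat.find_min hex hlt ⟨⟨hj, by omega⟩, hne⟩
  obtain ⟨P, hPr, hP⟩ := exists_poly f
  set k := P.natDegree with hk
  -- the operator on a power of `f` of degree at most `j₀`
  have hpow : ∀ i, 1 ≤ i → i ≤ j₀ → i * k < r → ∀ y : ZMod r,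
      (∑ c ∈ X, (taylor c (P ^ i) - P ^ i)).eval y = ∑ c ∈ X, c ^ i := by
    intro i hi hij _ y
    rw [eval_finsetSum]
    simp only [eval_sub, taylor_eval, eval_pow, hP]
    have : ∀ c ∈ X, f (y + c) ^ i - f y ^ i =
        (fun u => (f y + u) ^ i - f y ^ i) (f (y + c) - f y) := fun c _ => by
      simp
    rw [Finset.sum_congr rfl this, hsum y fun u => (f y + u) ^ i - f y ^ i]
    have hexp : ∀ c, (f y + c) ^ i - f y ^ i =
        ∑ l ∈ Finset.range i, f y ^ (i - (l + 1)) * (i.choose (l + 1) : ZMod r) * c ^ (l + 1) := by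
      intro c
      rw [add_comm, add_pow, Finset.sum_range_succ']
      simp [mul_comm, mul_assoc]
    simp only [hexp]
    rw [Finset.sum_comm]
    simp only [← Finset.mul_sum]
    obtain ⟨i, rfl⟩ : ∃ i', i = i' + 1 := ⟨i - 1, by omega⟩
    rw [Finset.sum_range_succ, Finset.sum_eq_zero, zero_add]
    · simp
    · intro l hl
      simp only [Finset.mem_range] at hl
      rw [hS (l + 1) (by omega) (by omega), mul_zero]
  have hk1 : k ≤ 1 := by
    by_contra hcon
    push Not at hcon
    -- the least `i` with `i k ≥ j₀`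
    obtain ⟨i, hlo, hhi⟩ : ∃ i, j₀ ≤ i * k ∧ i * k ≤ j₀ + k - 1 := by
      refine ⟨(j₀ + k - 1) / k, ?_, Nat.div_mul_le_self _ _⟩
      have := Nat.lt_div_mul_add (a := j₀ + k - 1) (b := k) (by omega)
      omega
    have hi1 : 1 ≤ i := by
      by_contra h
      rw [show i = 0 by omega, zero_mul] at hlo
      omega
    have hij : i ≤ j₀ := by
      by_contra h
      have h2 : (j₀ + 1) * k ≤ i * k := Nat.mul_le_mul_right k (by omega)
      have h3 : j₀ * 1 ≤ j₀ * k := Nat.mul_le_mul_left j₀ (by omega)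
      rw [add_mul, one_mul] at h2
      omega
    have hikr : i * k < r := by
      rcases Nat.lt_or_ge 1 i with h | h
      · -- then `k < j₀`
        have h2 : 2 * k ≤ i * k := Nat.mul_le_mul_right k h
        omega
      · rw [show i = 1 by omega, one_mul]; exact hPr
    have hdegPi : (P ^ i).natDegree = i * k := natDegree_pow P i
    have hLdeg : (∑ c ∈ X, (taylor c (P ^ i) - P ^ i)).natDegree < r := by
      refine lt_of_le_of_lt (natDegree_sum_le_of_forall_le _ _ fun c _ => ?_) hikr
      refine (natDegree_sub_le _ _).trans ?_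
      rw [natDegree_taylor, hdegPi, max_self]
    have hL : ∑ c ∈ X, (taylor c (P ^ i) - P ^ i) = C (∑ c ∈ X, c ^ i) :=
      eq_of_eval_eq hLdeg (by rw [natDegree_C]; exact hr.pos)
        (fun y => by rw [hpow i hi1 hij hikr y, eval_C])
    have hcoeff := sum_comp_coeff X hS hj1 (P ^ i) (n := i * k - j₀) (by omega)
    rw [hL, show i * k - j₀ + j₀ = i * k by omega] at hcoeff
    have hrhs : ((i * k).choose (i * k - j₀) : ZMod r) * (P ^ i).coeff (i * k) *
        ∑ c ∈ X, c ^ j₀ ≠ 0 := by
      refine mul_ne_zero (mul_ne_zero (choose_cast_ne_zero hikr (Nat.sub_le _ _)) ?_) hjS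
      rw [← hdegPi, coeff_natDegree, leadingCoeff_ne_zero]
      refine pow_ne_zero _ fun hP0 => ?_
      rw [hk, hP0, natDegree_zero] at hcon
      omega
    rw [coeff_C] at hcoeff
    split_ifs at hcoeff with hc
    · -- here `i k = j₀`, so `i < j₀`
      rcases Nat.lt_or_ge i j₀ with hlt | hge
      · rw [hS i hi1 hlt] at hcoeff
        exact hrhs hcoeff.symm
      · have h2 : j₀ * 2 ≤ j₀ * k := Nat.mul_le_mul_left j₀ hcon
        rw [show i = j₀ by omega] at hc
        omega
    · exact hrhs hcoeff.symm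
  have hrep := eq_X_add_C_of_natDegree_le_one hk1
  have hfa : ∀ y, f y = P.coeff 1 * y + P.coeff 0 := fun y => by
    rw [← hP y]
    conv_lhs => rw [hrep]
    simp
  have hb : P.coeff 0 = 0 := by
    have := hfa 0
    rw [hf0, mul_zero, zero_add] at this
    exact this.symm
  rw [hfa x, hfa 1, hb, add_zero, add_zero, mul_one]

/-! ### Translation-containing actions -/

variable {H : Type u} [Group H] {Ω : Type v} [AddCommGroup Ω]

/-- A set invariant under the stabilizer of `0`. -/
def StabInvariant (ψ : H →* Equiv.Perm Ω) (X : Set Ω) : Prop :=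
  ∀ h : H, ψ h 0 = 0 → ∀ x ∈ X, ψ h x ∈ X

theorem rel_of_invariant (ψ : H →* Equiv.Perm Ω) (htr : ∀ a : Ω, ∃ h, ∀ x, ψ h x = x + a)
    {X : Set Ω} (hX : StabInvariant ψ X) (h : H) {a b : Ω} (hab : b - a ∈ X) :
    ψ h b - ψ h a ∈ X := by
  obtain ⟨s, hs⟩ := htr a
  obtain ⟨t, ht⟩ := htr (-(ψ h a))
  have h0 : ψ (t * (h * s)) 0 = 0 := by
    simp [map_mul, Equiv.Perm.mul_apply, hs, ht]
  have h1 := hX _ h0 (b - a) hab
  simpa [map_mul, Equiv.Perm.mul_apply, hs, ht, sub_eq_add_neg, add_assoc] using h1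

theorem rel_iff_of_invariant [Finite H] (ψ : H →* Equiv.Perm Ω)
    (htr : ∀ a : Ω, ∃ h, ∀ x, ψ h x = x + a) {X : Set Ω} (hX : StabInvariant ψ X) (h : H)
    {a b : Ω} : ψ h b - ψ h a ∈ X ↔ b - a ∈ X := by
  refine ⟨fun hab => ?_, rel_of_invariant ψ htr hX h⟩
  have := rel_of_invariant ψ htr hX h⁻¹ hab
  simpa [map_inv] using this

theorem closure_invariant [Finite Ω] (ψ : H →* Equiv.Perm Ω)
    (htr : ∀ a : Ω, ∃ h, ∀ x, ψ h x = x + a) {Y : Set Ω} (hY : StabInvariant ψ Y) :
    StabInvariant ψ (AddSubgroup.closure Y : Set Ω) := by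
  intro h h0 x hx
  suffices ∀ a, ψ h a ∈ AddSubgroup.closure Y → ψ h (a + x) ∈ AddSubgroup.closure Y by
    have := this 0 (by rw [h0]; exact zero_mem _)
    rwa [zero_add] at this
  induction hx using AddSubgroup.closure_induction with
  | mem y hy =>
    intro a ha
    have h1 := rel_of_invariant ψ htr hY h (a := a) (b := a + y) (by rwa [add_sub_cancel_left])
    have h2 := add_mem (AddSubgroup.subset_closure h1) ha
    rwa [sub_add_cancel] at h2
  | zero => intro a ha; rwa [add_zero]
  | add x y _ _ hx hy => intro a ha; rw [← add_assoc]; exact hy _ (hx _ ha)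
  | neg x _ hx =>
    -- `a ↦ a + x` preserves the finite set of good points, hence so does its inverse
    intro a ha
    let good := {a : Ω // ψ h a ∈ AddSubgroup.closure Y}
    let step : good → good := fun a => ⟨a.1 + x, hx a.1 a.2⟩
    have hinj : Function.Injective step := fun a b hab =>
      Subtype.ext (add_right_cancel (congrArg Subtype.val hab))
    obtain ⟨b, hb⟩ := (Finite.injective_iff_surjective.1 hinj) ⟨a, ha⟩
    have e : b.1 + x = a := congrArg Subtype.val hb
    rw [← e, add_neg_cancel_right]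
    exact b.2

variable [Finite H] [Finite Ω]

theorem orbit_set_invariant (ψ : H →* Equiv.Perm Ω) (x : Ω) :
    StabInvariant ψ {y | ∃ h, ψ h 0 = 0 ∧ ψ h x = y} := by
  rintro g g0 y ⟨h, h0, rfl⟩
  exact ⟨g * h, by simp [h0, g0], by simp⟩

/-- Two different suborbits: no suborbit is self-paired in odd order. -/
theorem neg_notMem_orbit (hodd : Odd (Nat.card H)) (ψ : H →* Equiv.Perm Ω)
    (htr : ∀ a : Ω, ∃ h, ∀ x, ψ h x = x + a) {x : Ω} (hx : x ≠ 0) :
    ¬ ∃ h, ψ h 0 = 0 ∧ ψ h x = -x := by
  rintro ⟨h, h0, hx'⟩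
  obtain ⟨t, ht⟩ := htr x
  set g := t * h
  have g0 : ψ g 0 = x := by simp [g, h0, ht]
  have gx : ψ g x = 0 := by simp [g, hx', ht]
  have hev : ∀ j, ψ (g ^ (2 * j)) 0 = 0 := by
    intro j
    induction j with
    | zero => simp
    | succ j ih =>
      rw [show g ^ (2 * (j + 1)) = g * (g * g ^ (2 * j)) by
          rw [← pow_succ', ← pow_succ']; congr 1, map_mul ψ g, Equiv.Perm.mul_apply, map_mul ψ g,
        Equiv.Perm.mul_apply, ih, g0, gx]
  obtain ⟨j, hj⟩ := Odd.of_dvd_nat hodd (orderOf_dvd_natCard g)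
  have h1 : ψ (g ^ (2 * j + 1)) 0 = x := by
    rw [pow_succ', map_mul, Equiv.Perm.mul_apply, hev, g0]
  rw [← hj, pow_orderOf_eq_one, map_one, Equiv.Perm.one_apply] at h1
  exact hx h1.symm

open Classical in
theorem exists_small_orbit (hodd : Odd (Nat.card H)) (ψ : H →* Equiv.Perm Ω)
    (htr : ∀ a : Ω, ∃ h, ∀ x, ψ h x = x + a) [Fintype Ω] (hne : ∃ x : Ω, x ≠ 0) :
    ∃ x : Ω, x ≠ 0 ∧
      2 * (univ.filter fun y => ∃ h, ψ h 0 = 0 ∧ ψ h x = y).card ≤ Fintype.card Ω - 1 := by
  obtain ⟨x, hx⟩ := hne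
  set O := fun x : Ω => univ.filter fun y => ∃ h, ψ h 0 = 0 ∧ ψ h x = y with hO
  have hsub : ∀ z, z ≠ 0 → O z ⊆ univ.erase 0 := by
    intro z hz y hy
    obtain ⟨h, h0, rfl⟩ := (Finset.mem_filter.1 hy).2
    refine Finset.mem_erase.2 ⟨fun e => hz ((ψ h).injective (e.trans h0.symm)), Finset.mem_univ _⟩
  have hdisj : Disjoint (O x) (O (-x)) := by
    rw [Finset.disjoint_left]
    intro y hy hy'
    obtain ⟨h, h0, rfl⟩ := (Finset.mem_filter.1 hy).2
    obtain ⟨g, g0, hg⟩ := (Finset.mem_filter.1 hy').2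
    refine neg_notMem_orbit hodd ψ htr hx ⟨g⁻¹ * h, ?_, ?_⟩
    · rw [map_mul, map_inv, Equiv.Perm.mul_apply, h0, Equiv.Perm.inv_eq_iff_eq, g0]
    · rw [map_mul, map_inv, Equiv.Perm.mul_apply, Equiv.Perm.inv_eq_iff_eq, hg]
  have h2 := Finset.card_le_card (Finset.union_subset (hsub x hx) (hsub (-x) (neg_ne_zero.2 hx)))
  rw [Finset.card_union_of_disjoint hdisj, Finset.card_erase_of_mem (Finset.mem_univ _),
    Finset.card_univ] at h2
  rcases le_total (O x).card (O (-x)).card with h | h
  · exact ⟨x, hx, show 2 * (O x).card ≤ Fintype.card Ω - 1 by omega⟩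
  · exact ⟨-x, neg_ne_zero.2 hx, show 2 * (O (-x)).card ≤ Fintype.card Ω - 1 by omega⟩

theorem eq_one_of_perfect {A : Type*} [CommGroup A] (hperf : commutator H = ⊤) (f : H →* A)
    (h : H) : f h = 1 := by
  have hle : commutator H ≤ f.ker := Abelianization.commutator_subset_ker f
  rw [hperf] at hle
  exact hle (Subgroup.mem_top h)

/-- The prime degree case. -/
theorem false_of_prime (hodd : Odd (Nat.card H)) (hperf : commutator H = ⊤) {r : ℕ}
    [Fact r.Prime] (ψ : H →* Equiv.Perm (ZMod r))
    (htr : ∀ a : ZMod r, ∃ h, ∀ x, ψ h x = x + a) : False := by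
  classical
  obtain ⟨x₀, hx₀, hsmall⟩ := exists_small_orbit hodd ψ htr ⟨1, one_ne_zero⟩
  set X := univ.filter fun y => ∃ h, ψ h 0 = 0 ∧ ψ h x₀ = y with hX
  rw [ZMod.card] at hsmall
  have hXne : X.Nonempty := ⟨x₀, Finset.mem_filter.2 ⟨Finset.mem_univ _, 1, by simp, by simp⟩⟩
  have h0X : (0 : ZMod r) ∉ X := fun h => by
    obtain ⟨g, g0, hg⟩ := (Finset.mem_filter.1 h).2
    exact hx₀ ((ψ g).injective (hg.trans g0.symm))
  have haff : ∀ (h : H) (x : ZMod r), ψ h x = ψ h 0 + (ψ h 1 - ψ h 0) * x := by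
    intro h x
    have := eq_mul_of_preserves X hXne h0X hsmall (fun y => ψ h y - ψ h 0)
      (fun a b e => (ψ h).injective (sub_left_injective e)) (sub_self _) (fun a b hab => ?_) x
    · exact sub_eq_iff_eq_add'.1 this
    · rw [sub_sub_sub_cancel_right]
      have := rel_of_invariant ψ htr (orbit_set_invariant ψ x₀) h (a := a) (b := b)
        (Finset.mem_filter.1 hab).2
      exact Finset.mem_filter.2 ⟨Finset.mem_univ _, this⟩
  let s : H →* (ZMod r)ˣ :=
    { toFun := fun h => Units.mk0 (ψ h 1 - ψ h 0)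
        (sub_ne_zero.2 fun e => one_ne_zero ((ψ h).injective e))
      map_one' := Units.ext (by simp)
      map_mul' := fun a b => Units.ext (by
        simp only [Units.val_mk0, Units.val_mul, map_mul, Equiv.Perm.mul_apply]
        rw [haff a (ψ b 1), haff a (ψ b 0)]
        ring) }
  have hs : ∀ h, ψ h 1 - ψ h 0 = 1 := fun h => congrArg Units.val (eq_one_of_perfect hperf s h)
  let t : H →* Multiplicative (ZMod r) :=
    { toFun := fun h => Multiplicative.ofAdd (ψ h 0)
      map_one' := by simp
      map_mul' := fun a b => by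
        rw [← ofAdd_add, map_mul, Equiv.Perm.mul_apply, haff a (ψ b 0), hs, one_mul] }
  obtain ⟨h, hh⟩ := htr 1
  have h1 : Multiplicative.ofAdd (ψ h 0) = 1 := eq_one_of_perfect hperf t h
  rw [hh 0, zero_add] at h1
  exact one_ne_zero (ofAdd_eq_one.1 h1)

open Classical in
/-- No perfect group of odd order acts transitively with a regular cyclic subgroup of prime power
order (other than 1). -/
theorem false_of_regular_cyclic {r : ℕ} (hr : r.Prime) (hodd : Odd (Nat.card H))
    (hperf : commutator H = ⊤) :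
    ∀ (e : ℕ) {Ω : Type v} [AddCommGroup Ω] [Finite Ω], IsAddCyclic Ω → 0 < e →
      Nat.card Ω = r ^ e → ∀ ψ : H →* Equiv.Perm Ω,
        (∀ a : Ω, ∃ h, ∀ x, ψ h x = x + a) → False := by
  intro e
  induction e using Nat.strong_induction_on with
  | _ e ih =>
  intro Ω _ _ hcyc he hcard ψ htr
  haveI := Fact.mk hr
  haveI := hcyc
  haveI := Fintype.ofFinite Ω
  have hcardF : Fintype.card Ω = r ^ e := by rw [← Nat.card_eq_fintype_card, hcard]
  -- reduction along an invariant subgroup
  have hblock : ∀ B : AddSubgroup Ω, StabInvariant ψ (B : Set Ω) → B ≠ ⊥ → B ≠ ⊤ → False := by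
    intro B hB hBb hBt
    have hindex : B.index ∣ r ^ e := hcard ▸ AddSubgroup.index_dvd_card B
    obtain ⟨e', he', hB'⟩ := (Nat.dvd_prime_pow hr).1 hindex
    have he'0 : 0 < e' := by
      rcases Nat.eq_zero_or_pos e' with h | h
      · rw [h, pow_zero, AddSubgroup.index_eq_one] at hB'; exact absurd hB' hBt
      · exact h
    have he'lt : e' < e := by
      refine lt_of_le_of_ne he' fun h => hBb ?_
      have h2 := B.card_mul_index
      rw [hB', hcard, h] at h2
      exact AddSubgroup.card_eq_one.1 (Nat.eq_of_mul_eq_mul_right (pow_pos hr.pos e)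
        (h2.trans (one_mul _).symm))
    have hwd : ∀ (h : H) (a b : Ω), QuotientAddGroup.leftRel B a b →
        QuotientAddGroup.leftRel B (ψ h a) (ψ h b) := by
      intro h a b hab
      rw [QuotientAddGroup.leftRel_apply] at hab ⊢
      rw [neg_add_eq_sub] at hab ⊢
      exact rel_of_invariant ψ htr hB h hab
    let act : H → Ω ⧸ B → Ω ⧸ B := fun h => Quotient.map' (ψ h) (hwd h)
    have hact : ∀ (h : H) (a : Ω), act h (a : Ω ⧸ B) = ((ψ h a : Ω) : Ω ⧸ B) := fun h a => rfl
    let ψ' : H →* Equiv.Perm (Ω ⧸ B) :=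
      { toFun := fun h =>
          { toFun := act h
            invFun := act h⁻¹
            left_inv := fun q => by
              induction q using QuotientAddGroup.induction_on with
              | H a => rw [hact, hact, map_inv]; simp
            right_inv := fun q => by
              induction q using QuotientAddGroup.induction_on with
              | H a => rw [hact, hact, map_inv]; simp }
        map_one' := Equiv.ext fun q => by
          induction q using QuotientAddGroup.induction_on with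
          | H a => show act 1 a = a; rw [hact, map_one, Equiv.Perm.one_apply]
        map_mul' := fun g h => Equiv.ext fun q => by
          induction q using QuotientAddGroup.induction_on with
          | H a =>
            show act (g * h) a = act g (act h a)
            rw [hact, hact, hact, map_mul, Equiv.Perm.mul_apply] }
    refine ih e' he'lt (Ω := Ω ⧸ B) ?_ he'0 ?_ ψ' ?_
    · exact isAddCyclic_of_surjective (QuotientAddGroup.mk' B) (QuotientAddGroup.mk'_surjective B)
    · rw [← hB']; rfl
    · intro q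
      induction q using QuotientAddGroup.induction_on with
      | H a =>
        obtain ⟨h, hh⟩ := htr a
        refine ⟨h, fun q => ?_⟩
        induction q using QuotientAddGroup.induction_on with
        | H b => show act h b = _; rw [hact, hh]; rfl
  rcases Nat.lt_or_ge 1 e with he2 | he2
  swap
  · -- prime degree
    obtain rfl : e = 1 := by omega
    rw [pow_one] at hcard
    let ε : ZMod r ≃+ Ω := hcard ▸ zmodAddCyclicAddEquiv hcyc
    let ψ' : H →* Equiv.Perm (ZMod r) := (ε.toEquiv.symm.permCongrHom.toMonoidHom).comp ψ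
    refine false_of_prime hodd hperf ψ' fun a => ?_
    obtain ⟨h, hh⟩ := htr (ε a)
    refine ⟨h, fun x => ?_⟩
    show ε.symm (ψ h (ε x)) = x + a
    rw [hh, ← map_add, AddEquiv.symm_apply_apply]
  -- composite degree
  set Z : Finset Ω := univ.filter fun x => r • x = 0 with hZdef
  have hZcard : Z.card ≤ r := IsAddCyclic.card_nsmul_eq_zero_le hr.pos
  have hZtwo : ∃ z ∈ Z, z ≠ 0 := by
    obtain ⟨z, hz⟩ := exists_prime_addOrderOf_dvd_card' r (hcard ▸ dvd_pow_self r he.ne')
    refine ⟨z, Finset.mem_filter.2 ⟨Finset.mem_univ _, ?_⟩, fun h0 => ?_⟩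
    · conv_lhs => rw [← hz]
      exact addOrderOf_nsmul_eq_zero z
    · rw [h0, addOrderOf_zero] at hz; exact hr.ne_one hz.symm
  have hne : ∃ x : Ω, x ≠ 0 := hZtwo.imp fun z hz => hz.2
  let mul_r : Ω →+ Ω := nsmulAddMonoidHom r
  have hrange : mul_r.range ≠ ⊤ := by
    intro htop
    have hsurj : Function.Surjective mul_r := AddMonoidHom.range_eq_top.1 htop
    obtain ⟨z, hz, hz0⟩ := hZtwo
    exact hz0 ((Finite.injective_iff_surjective.2 hsurj)
      (show r • z = r • (0 : Ω) by rw [(Finset.mem_filter.1 hz).2, smul_zero]))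
  -- for each suborbit
  have horb : ∀ X : Finset Ω, X.Nonempty → (0 : Ω) ∉ X → StabInvariant ψ (X : Set Ω) →
      (∀ g ∈ X, r • g ≠ 0 → ∀ z ∈ Z, g + z ∈ X) ∧ (∃ g ∈ X, r • g ≠ 0) ∧
        ∃ z ∈ X, r • z = 0 := by
    intro X hXne hX0 hXinv
    let P : AddMonoidAlgebra (ZMod r) Ω := ∑ x ∈ X, AddMonoidAlgebra.single x 1
    haveI : CharP (AddMonoidAlgebra (ZMod r) Ω) r :=
      charP_of_injective_algebraMap' (ZMod r) r
    have hPr : P ^ r = ∑ x ∈ X, AddMonoidAlgebra.single (r • x) 1 := by
      rw [sum_pow_char r]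
      exact Finset.sum_congr rfl fun x _ => by rw [AddMonoidAlgebra.single_pow, one_pow]
    have hinv : ∀ (n : ℕ) (h : H), ψ h 0 = 0 → ∀ y, (P ^ n).coeff (ψ h y) = (P ^ n).coeff y := by
      intro n
      induction n with
      | zero =>
        intro h h0 y
        rw [pow_zero, AddMonoidAlgebra.one_def, AddMonoidAlgebra.coeff_single,
          Finsupp.single_apply, Finsupp.single_apply]
        by_cases hy : y = 0
        · subst hy; simp [h0]
        · have : ψ h y ≠ 0 := fun e => hy ((ψ h).injective (e.trans h0.symm))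
          simp [Ne.symm hy, Ne.symm this]
      | succ n ihn =>
        intro h h0 y
        have hco : ∀ y, (P ^ (n + 1)).coeff y = ∑ v, if y - v ∈ X then (P ^ n).coeff v else 0 := by
          intro y
          rw [pow_succ, Finset.mul_sum, AddMonoidAlgebra.coeff_sum, Finset.sum_apply',
            ← Finset.sum_filter]
          refine Finset.sum_bij (fun x _ => y - x) (fun x hx => by
              simp [hx]) (fun a _ b _ hab => sub_right_injective hab)
            (fun v hv => ⟨y - v, (Finset.mem_filter.1 hv).2, sub_sub_cancel y v⟩) fun x _ => ?_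
          rw [AddMonoidAlgebra.coeff_mul_single_eq_coeff_mul (y - x)
            (fun v _ => eq_sub_iff_add_eq.symm), mul_one]
        rw [hco, hco]
        refine (Finset.sum_equiv (ψ h) (fun _ => by simp) fun v _ => ?_).symm
        have hiff := rel_iff_of_invariant ψ htr hXinv h (a := v) (b := y)
        simp only [Finset.mem_coe] at hiff
        by_cases hm : y - v ∈ X
        · rw [if_pos hm, if_pos (hiff.2 hm), ihn h h0 v]
        · rw [if_neg hm, if_neg (mt hiff.1 hm)]
    have hcnt : ∀ y, (P ^ r).coeff y = ((X.filter fun x => r • x = y).card : ZMod r) := by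
      intro y
      rw [hPr, AddMonoidAlgebra.coeff_sum, Finset.sum_apply']
      simp only [AddMonoidAlgebra.coeff_single, Finsupp.single_apply, Finset.sum_boole]
    set Y : Set Ω := {y | y ≠ 0 ∧ (P ^ r).coeff y ≠ 0}
    have hYinv : StabInvariant ψ Y := fun h h0 y hy =>
      ⟨fun e => hy.1 ((ψ h).injective (e.trans h0.symm)), by rw [hinv r h h0 y]; exact hy.2⟩
    have hYsub : Y ⊆ (mul_r.range : Set Ω) := by
      intro y hy
      have hne0 : (X.filter fun x => r • x = y).Nonempty := by
        rw [Finset.nonempty_iff_ne_empty]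
        intro h
        exact hy.2 (by rw [hcnt, h, Finset.card_empty, Nat.cast_zero])
      obtain ⟨x, hx⟩ := hne0
      exact ⟨x, (Finset.mem_filter.1 hx).2⟩
    have hYempty : ∀ y, y ∉ Y := fun y hy =>
      hblock (AddSubgroup.closure Y) (closure_invariant ψ htr hYinv)
        (fun h => hy.1 (AddSubgroup.mem_bot.1 (h ▸ AddSubgroup.subset_closure hy)))
        (fun h => hrange (top_le_iff.1 (h ▸ (AddSubgroup.closure_le _).2 hYsub)))
    have hfull : ∀ g ∈ X, r • g ≠ 0 → ∀ z ∈ Z, g + z ∈ X := by
      intro g hg hg0 z hz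
      set F := X.filter fun x => r • x = r • g with hF
      have hgF : g ∈ F := Finset.mem_filter.2 ⟨hg, rfl⟩
      have hsub : F ⊆ Z.image (g + ·) := fun x hx =>
        Finset.mem_image.2 ⟨x - g, Finset.mem_filter.2 ⟨Finset.mem_univ _,
          by rw [smul_sub, (Finset.mem_filter.1 hx).2, sub_self]⟩, add_sub_cancel g x⟩
      have hdvd : r ∣ F.card := by
        rw [← ZMod.natCast_eq_zero_iff, ← hcnt]
        by_contra h
        exact hYempty _ ⟨hg0, h⟩
      have hle : F.card ≤ (Z.image (g + ·)).card := Finset.card_le_card hsub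
      have himg : (Z.image (g + ·)).card ≤ r := Finset.card_image_le.trans hZcard
      have hpos : 0 < F.card := Finset.card_pos.2 ⟨g, hgF⟩
      have := Nat.le_of_dvd hpos hdvd
      have heq := Finset.eq_of_subset_of_card_le hsub (by omega)
      have hmem : g + z ∈ F := by rw [heq]; exact Finset.mem_image_of_mem _ hz
      exact (Finset.mem_filter.1 hmem).1
    refine ⟨hfull, ?_, ?_⟩
    · by_contra hcon
      push Not at hcon
      obtain ⟨x, hx⟩ := hXne
      refine hblock (AddSubgroup.closure (X : Set Ω)) (closure_invariant ψ htr hXinv)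
        (fun h => hX0 (AddSubgroup.mem_bot.1 (h ▸ AddSubgroup.subset_closure hx) ▸ hx)) fun h => ?_
      have hker : (⊤ : AddSubgroup Ω) ≤ mul_r.ker := h ▸ (AddSubgroup.closure_le _).2 hcon
      -- then every element would be killed by `r`
      have hall : Fintype.card Ω ≤ Z.card := by
        refine le_of_eq_of_le Finset.card_univ.symm (Finset.card_le_card fun y _ => ?_)
        exact Finset.mem_filter.2 ⟨Finset.mem_univ _, hker (AddSubgroup.mem_top y)⟩
      rw [hcardF] at hall
      have : r ^ 2 ≤ r ^ e := Nat.pow_le_pow_right hr.pos he2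
      have : r < r ^ 2 := lt_self_pow₀ hr.one_lt one_lt_two
      omega
    · by_contra hcon
      push Not at hcon
      obtain ⟨x, hx⟩ := hXne
      let B : AddSubgroup Ω :=
        { carrier := {b | ∀ y, y + b ∈ X ↔ y ∈ X}
          zero_mem' := fun y => by rw [add_zero]
          add_mem' := fun {a b} ha hb y => by rw [← add_assoc]; exact (hb _).trans (ha y)
          neg_mem' := fun {a} ha y => by
            have := ha (y + -a)
            rw [neg_add_cancel_right] at this
            exact this.symm }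
      have hBinv : StabInvariant ψ (B : Set Ω) := by
        intro h h0 b hb y
        obtain ⟨v, hv⟩ := (ψ h).surjective (y + ψ h b)
        have e1 : y + ψ h b ∈ X ↔ v ∈ X := by
          rw [← hv]
          have := rel_iff_of_invariant ψ htr hXinv h (a := 0) (b := v)
          simpa [h0] using this
        have e2 : y ∈ X ↔ v - b ∈ X := by
          have := rel_iff_of_invariant ψ htr hXinv h (a := b) (b := v)
          rw [hv, add_sub_cancel_right] at this
          exact this
        rw [e1, e2]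
        have := hb (v - b)
        rwa [sub_add_cancel] at this
      obtain ⟨z, hz, hz0⟩ := hZtwo
      refine hblock B hBinv (fun h => hz0 ?_) fun h => ?_
      · have hzB : z ∈ B := fun y => by
          constructor
          · intro hy
            have hnz : -z ∈ Z := Finset.mem_filter.2
              ⟨Finset.mem_univ _, by rw [smul_neg, (Finset.mem_filter.1 hz).2, neg_zero]⟩
            have := hfull _ hy (hcon _ hy) _ hnz
            rwa [add_neg_cancel_right] at this
          · exact fun hy => hfull y hy (hcon y hy) z hz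
        rw [h] at hzB
        exact hzB
      · have h2 := (h ▸ AddSubgroup.mem_top x : x ∈ B) 0
        rw [zero_add] at h2
        exact hX0 (h2.1 hx)
  -- counting differences in a smallest suborbit
  obtain ⟨x₀, hx₀, hsmall⟩ := exists_small_orbit hodd ψ htr hne
  rw [hcardF] at hsmall
  have horbX : ∀ x : Ω, x ≠ 0 →
      (∀ g ∈ (univ.filter fun y => ∃ h, ψ h 0 = 0 ∧ ψ h x = y), r • g ≠ 0 →
          ∀ z ∈ Z, g + z ∈ (univ.filter fun y => ∃ h, ψ h 0 = 0 ∧ ψ h x = y)) ∧
        (∃ g ∈ (univ.filter fun y => ∃ h, ψ h 0 = 0 ∧ ψ h x = y), r • g ≠ 0) ∧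
        ∃ z ∈ (univ.filter fun y => ∃ h, ψ h 0 = 0 ∧ ψ h x = y), r • z = 0 := by
    intro x hx
    refine horb _ ⟨x, Finset.mem_filter.2 ⟨Finset.mem_univ _, 1, by simp, by simp⟩⟩ ?_ ?_
    · intro h
      obtain ⟨g, g0, hg⟩ := (Finset.mem_filter.1 h).2
      exact hx ((ψ g).injective (hg.trans g0.symm))
    · simpa using orbit_set_invariant ψ x
  set X := univ.filter fun y => ∃ h, ψ h 0 = 0 ∧ ψ h x₀ = y with hXdef
  obtain ⟨hfull, ⟨g₁, hg₁, hg₁r⟩, -⟩ := horbX x₀ hx₀
  have hXinv : StabInvariant ψ (X : Set Ω) := by simpa [hXdef] using orbit_set_invariant ψ x₀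
  set X1 := X.filter fun g => r • g ≠ 0 with hX1
  set D := fun y : Ω => univ.filter fun v : Ω => -v ∈ X ∧ y - v ∈ X with hD
  have hDinv : ∀ h, ψ h 0 = 0 → ∀ y, (D (ψ h y)).card = (D y).card := by
    intro h h0 y
    refine (Finset.card_equiv (ψ h) fun v => ?_).symm
    simp only [D, Finset.mem_filter, Finset.mem_univ, true_and]
    have e1 := rel_iff_of_invariant ψ htr hXinv h (a := v) (b := 0)
    have e2 := rel_iff_of_invariant ψ htr hXinv h (a := v) (b := y)
    simp only [Finset.mem_coe, h0, zero_sub] at e1 e2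
    rw [e1, e2]
  have hDge : ∀ y, y ≠ 0 → X1.card ≤ (D y).card := by
    intro y hy
    obtain ⟨-, -, z, hz, hzr⟩ := horbX y hy
    obtain ⟨h, h0, rfl⟩ := (Finset.mem_filter.1 hz).2
    rw [← hDinv h h0 y, ← Finset.card_image_of_injective X1 neg_injective]
    refine Finset.card_le_card fun v hv => ?_
    obtain ⟨a, ha, rfl⟩ := Finset.mem_image.1 hv
    obtain ⟨haX, har⟩ := Finset.mem_filter.1 ha
    refine Finset.mem_filter.2 ⟨Finset.mem_univ _, by rwa [neg_neg], ?_⟩
    rw [sub_neg_eq_add, add_comm]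
    exact hfull a haX har _ (Finset.mem_filter.2 ⟨Finset.mem_univ _, hzr⟩)
  have htot : ∑ y, (D y).card = X.card * X.card := by
    rw [← Finset.card_sigma, ← Finset.card_product]
    refine Finset.card_bij (fun p _ => (-p.2, p.1 - p.2)) (fun p hp => ?_) (fun p _ q _ hpq => ?_)
      (fun q hq => ?_)
    · obtain ⟨-, h1, h2⟩ := (by simpa [D] using hp : True ∧ -p.2 ∈ X ∧ p.1 - p.2 ∈ X)
      exact Finset.mem_product.2 ⟨h1, h2⟩
    · obtain ⟨p1, p2⟩ := p
      obtain ⟨q1, q2⟩ := q
      simp only [Prod.mk.injEq, neg_inj] at hpq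
      obtain ⟨rfl, h2⟩ := hpq
      obtain rfl : p1 = q1 := sub_left_injective h2
      rfl
    · obtain ⟨h1, h2⟩ := Finset.mem_product.1 hq
      refine ⟨⟨q.2 - q.1, -q.1⟩, ?_, ?_⟩
      · simp [D, h1, h2]
      · simp
  have hD0 : (D 0).card = X.card := by
    refine Finset.card_equiv (Equiv.neg Ω) fun v => ?_
    simp [D]
  have hsplit : (r ^ e - 1) * X1.card + X.card ≤ X.card * X.card := by
    rw [← htot, ← Finset.sum_erase_add _ _ (Finset.mem_univ (0 : Ω)), hD0]
    refine Nat.add_le_add_right ?_ _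
    have := Finset.card_nsmul_le_sum (univ.erase (0 : Ω)) (fun y => (D y).card) X1.card
      fun y hy => hDge y (Finset.mem_erase.1 hy).1
    rwa [smul_eq_mul, Finset.card_erase_of_mem (Finset.mem_univ _), Finset.card_univ, hcardF] at this
  have hX1r : r ≤ X1.card := by
    have hsub : Z.image (g₁ + ·) ⊆ X1 := by
      intro v hv
      obtain ⟨z, hz, rfl⟩ := Finset.mem_image.1 hv
      refine Finset.mem_filter.2 ⟨hfull g₁ hg₁ hg₁r z hz, ?_⟩
      rwa [smul_add, (Finset.mem_filter.1 hz).2, add_zero]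
    refine le_trans ?_ (Finset.card_le_card hsub)
    rw [Finset.card_image_of_injective _ (add_right_injective g₁)]
    obtain ⟨z, hz⟩ := exists_prime_addOrderOf_dvd_card' r (hcard ▸ dvd_pow_self r he.ne')
    calc r = Nat.card (AddSubgroup.zmultiples z) := by rw [Nat.card_zmultiples, hz]
      _ = Fintype.card (AddSubgroup.zmultiples z) := Nat.card_eq_fintype_card
      _ ≤ Z.card := by
        rw [← Finset.card_univ]
        refine Finset.card_le_card_of_injOn Subtype.val (fun a _ => ?_) Subtype.val_injective.injOn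
        obtain ⟨i, hi⟩ := a.2
        refine Finset.mem_filter.2 ⟨Finset.mem_univ _, ?_⟩
        rw [← hi, smul_comm, ← hz, addOrderOf_nsmul_eq_zero, smul_zero]
  have hXsplit : X.card + 1 ≤ X1.card + r := by
    have hsub : X.filter (fun g => ¬ r • g ≠ 0) ⊆ Z.erase 0 := fun g hg => by
      obtain ⟨hgX, hgr⟩ := Finset.mem_filter.1 hg
      refine Finset.mem_erase.2 ⟨fun h => ?_,
        Finset.mem_filter.2 ⟨Finset.mem_univ _, not_not.1 hgr⟩⟩
      obtain ⟨k, k0, hk⟩ := (Finset.mem_filter.1 hgX).2
      exact hx₀ ((ψ k).injective ((hk.trans h).trans k0.symm))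
    have h1 := Finset.card_le_card hsub
    have h0Z : (0 : Ω) ∈ Z := Finset.mem_filter.2 ⟨Finset.mem_univ _, smul_zero r⟩
    rw [Finset.card_erase_of_mem h0Z] at h1
    have h2 : X1.card + (X.filter fun g => ¬ r • g ≠ 0).card = X.card :=
      Finset.card_filter_add_card_filter_not _
    have := Finset.card_pos.2 ⟨0, h0Z⟩
    omega
  have h3 : 2 * X.card * X1.card ≤ (r ^ e - 1) * X1.card := Nat.mul_le_mul_right _ hsmall
  have h4 : 2 * X1.card + 1 ≤ X.card := by
    have h5 : (2 * X1.card + 1) * X.card ≤ X.card * X.card := by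
      refine le_trans ?_ hsplit
      calc (2 * X1.card + 1) * X.card = 2 * X.card * X1.card + X.card := by ring
        _ ≤ _ := Nat.add_le_add_right h3 _
    exact Nat.le_of_mul_le_mul_right h5 (Finset.card_pos.2 ⟨g₁, hg₁⟩)
  omega

end CfsgLib.PGroup.RegularCyclic
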