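import Cfsg.Agent.Lib.PGroup.OrbitSylow
import Cfsg.Agent.Lib.PGroup.OrbitQuaternion
import Cfsg.Agent.Lib.PGroup.RegularCyclicPerm
import Cfsg.Agent.Lib.PGroup.Kazarin
import Cfsg.Agent.Lib.Coprime.UniqueOrderP
import Mathlib.GroupTheory.Perm.Sign

/-!
# Coprime actions on abelian groups with all orbit lengths powers of one prime

Such a group of automorphisms is solvable.
-/

set_option autoImplicit false
set_option linter.style.haveILetI false
set_option linter.unusedSectionVars false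

namespace CfsgLib.PGroup.Orbit

open Subgroup
open scoped IsMulCommutative

universe u v

variable {H : Type u} [Group H] {V : Type v} [CommGroup V]
variable {φ : H →* MulAut V} {r : ℕ} {R : Subgroup H}

theorem add_one_eq_swap : ∀ x : ZMod 2, x + 1 = Equiv.swap (0 : ZMod 2) 1 x := by decide

section cases

variable [Finite H] [Finite V]

theorem Setup.odd_card (S : Setup φ r R) (hr2 : r ≠ 2) : Odd (Nat.card H) := by
  haveI := Fact.mk S.prime
  refine Nat.not_even_iff_odd.1 fun he => ?_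
  haveI := Fact.mk Nat.prime_two
  obtain ⟨t, ht⟩ := exists_prime_orderOf_dvd_card' (G := H) 2 he.two_dvd
  have ht2 : t * t = 1 := by rw [← pow_two, ← ht, pow_orderOf_eq_one]
  have ht1 : t = 1 := by
    refine S.eq_one_of_fix_all fun v => ?_
    obtain ⟨x, hx⟩ : ∃ x, x = v * (φ t v)⁻¹ := ⟨_, rfl⟩
    have htx : φ t x = x⁻¹ := by
      rw [hx, map_mul, map_inv, ← MulAut.mul_apply, ← map_mul, ht2, map_one, MulAut.one_apply,
        mul_inv_rev, inv_inv, mul_comm]
    obtain ⟨ρ, hρ, e⟩ := S.orbit t x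
    rw [htx] at e
    have hev : ∀ l, φ (ρ ^ (2 * l)) x = x := by
      intro l
      induction l with
      | zero => simp
      | succ l ih =>
        rw [Nat.mul_succ, pow_add, map_mul, MulAut.mul_apply, pow_two, map_mul, MulAut.mul_apply, e,
          map_inv, e, inv_inv, ih]
    obtain ⟨k, hk⟩ := S.isPGroup ⟨ρ, hρ⟩
    have hk' : ρ ^ r ^ k = 1 := by simpa using congrArg Subtype.val hk
    obtain ⟨l, hl⟩ := (S.prime.odd_of_ne_two hr2).pow (n := k)
    rw [hl, pow_succ'] at hk'
    have h1 : φ (ρ * ρ ^ (2 * l)) x = x := by rw [hk', map_one, MulAut.one_apply]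
    rw [map_mul, MulAut.mul_apply, hev, e] at h1
    have hx2 : x ^ 2 = 1 := by
      rw [pow_two]
      conv_lhs => arg 1; rw [← h1]
      exact inv_mul_cancel x
    have := eq_one_of_coprime_pow hx2 (Nat.Coprime.coprime_dvd_left he.two_dvd S.coprime)
    rw [hx] at this
    exact (mul_inv_eq_one.1 this).symm
  rw [ht1, orderOf_one] at ht
  exact absurd ht (by norm_num)

/-- The product over a cyclic orbit is fixed. -/
theorem prod_orbit_mem_fixedBy [NeZero r] (φ : H →* MulAut V) {y : H} (hy : y ^ r = 1) (x : V) :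
    (∏ l : ZMod r, φ (y ^ l.val) x) ∈ fixedBy φ y := by
  rw [mem_fixedBy, map_prod]
  refine Fintype.prod_equiv (Equiv.addRight (1 : ZMod r)) _ _ fun l => ?_
  show φ y (φ (y ^ l.val) x) = φ (y ^ (l + 1).val) x
  rw [← MulAut.mul_apply, ← map_mul, ← pow_succ']
  congr 2
  refine pow_eq_pow_iff_modEq.2 (Nat.ModEq.of_dvd (orderOf_dvd_of_pow_eq_one hy) ?_)
  rw [← ZMod.natCast_eq_natCast_iff]
  simp

/-- The case of a normal elementary abelian subgroup of rank two. -/
theorem Setup.false_of_rank_two (S : Setup φ r R) {a z : H} (ha : a ∈ R) (hz : z ∈ R)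
    (har : a ^ r = 1) (hzr : z ^ r = 1) (hz1 : z ≠ 1) (hzc : ∀ ρ ∈ R, Commute ρ z)
    (haz : a ∉ Subgroup.zpowers z) (hconj : ∀ ρ ∈ R, ρ * a * ρ⁻¹ * a⁻¹ ∈ Subgroup.zpowers z) :
    False := by
  classical
  haveI := Fact.mk S.prime
  haveI := S.nontrivial
  haveI : NeZero r := ⟨S.prime.ne_zero⟩
  set zz : ZMod r → H := fun i => z ^ i.val with hzz
  have hzzpow : ∀ n : ℕ, z ^ n = zz (n : ZMod r) := fun n =>
    pow_eq_pow_iff_modEq.2 (Nat.ModEq.of_dvd (orderOf_dvd_of_pow_eq_one hzr) (by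
      rw [← ZMod.natCast_eq_natCast_iff]; simp))
  have hzzadd : ∀ i j, zz i * zz j = zz (i + j) := fun i j => by
    show z ^ i.val * z ^ j.val = _
    rw [← pow_add, hzzpow]; simp
  have hzz0 : zz 0 = 1 := by show z ^ (0 : ZMod r).val = 1; rw [ZMod.val_zero, pow_zero]
  have hzzc : ∀ i, ∀ ρ ∈ R, Commute ρ (zz i) := fun i ρ hρ => (hzc ρ hρ).pow_right _
  have hzz1 : ∀ i, i ≠ 0 → zz i ≠ 1 := by
    intro i hi h
    have h1 := orderOf_dvd_of_pow_eq_one h
    rw [orderOf_eq_prime hzr hz1] at h1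
    exact hi (by rw [← ZMod.natCast_zmod_val i, (ZMod.natCast_eq_zero_iff _ _).2 h1])
  have hzzfix : ∀ i, i ≠ 0 → fixedBy φ (zz i) = ⊥ := fun i hi =>
    S.fixedBy_central (hzzc i) (hzz1 i hi)
  have hzr' : ∀ i, zz i ^ r = 1 := fun i => by
    show (z ^ i.val) ^ r = 1
    rw [← pow_mul, mul_comm, pow_mul, hzr, one_pow]
  set yy : ZMod r → H := fun i => a * zz i with hyy
  have hyr : ∀ i, yy i ^ r = 1 := fun i => by
    show (a * zz i) ^ r = 1
    rw [(hzzc i a ha).mul_pow, har, hzr', one_mul]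
  have hypow : ∀ i l : ZMod r, yy i ^ l.val = a ^ l.val * zz (i * l) := fun i l => by
    show (a * zz i) ^ l.val = _
    rw [(hzzc i a ha).mul_pow]
    congr 1
    show (z ^ i.val) ^ l.val = _
    rw [← pow_mul, hzzpow]; simp
  set U : ZMod r → Subgroup V := fun i => fixedBy φ (yy i) with hU
  -- sums over the centre
  have hzsum : ∀ k : ZMod r, k ≠ 0 → ∀ x, (∏ l : ZMod r, φ (zz (k * l)) x) = 1 := by
    intro k hk x
    refine (Fintype.prod_equiv (Equiv.mulLeft₀ k hk) (fun l => φ (zz (k * l)) x)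
      (fun l => φ (zz l) x) fun l => rfl).trans ?_
    have h1 := prod_orbit_mem_fixedBy φ (hzr) x
    rwa [S.fixedBy_central hzc hz1, Subgroup.mem_bot] at h1
  set P : ZMod r → V → V := fun k x => ∏ l : ZMod r, φ (yy k ^ l.val) x with hP
  have hPmul : ∀ k x y, P k (x * y) = P k x * P k y := fun k x y => by
    simp only [hP, map_mul, Finset.prod_mul_distrib]
  have hPself : ∀ k, ∀ x ∈ U k, P k x = x ^ r := by
    intro k x hx
    show (∏ l : ZMod r, φ (yy k ^ l.val) x) = x ^ r
    rw [Finset.prod_congr rfl fun l _ => show φ (yy k ^ l.val) x = x from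
      pow_mem (show yy k ∈ stab φ x from mem_fixedBy.1 hx) l.val]
    simp
  have hPother : ∀ i k, i ≠ k → ∀ x ∈ U i, P k x = 1 := by
    intro i k hik x hx
    show (∏ l : ZMod r, φ (yy k ^ l.val) x) = 1
    rw [← hzsum (k - i) (sub_ne_zero.2 (Ne.symm hik)) x]
    refine Finset.prod_congr rfl fun l _ => ?_
    have hfix : φ (yy i ^ l.val) x = x := pow_mem (show yy i ∈ stab φ x from mem_fixedBy.1 hx) l.val
    conv_rhs => rw [← hfix, ← MulAut.mul_apply, ← map_mul]
    congr 2
    rw [hypow, hypow, ← mul_assoc,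
      ← ((hzzc _ a ha).pow_left l.val).eq, mul_assoc, hzzadd]
    congr 2; ring
  have hcopr : r.Coprime (Nat.card V) := Nat.Coprime.coprime_dvd_left S.dvd_card S.coprime
  -- some eigenspace is non-trivial
  obtain ⟨i₀, hi₀⟩ : ∃ i, U i ≠ ⊥ := by
    by_contra hcon
    push Not at hcon
    obtain ⟨v, hv⟩ := exists_ne (1 : V)
    refine hv (eq_one_of_coprime_pow (m := r) ?_ hcopr)
    have h1 : (∏ i : ZMod r, P i v) = 1 := Finset.prod_eq_one fun i _ => by
      have := prod_orbit_mem_fixedBy φ (hyr i) v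
      rwa [show fixedBy φ (yy i) = ⊥ from hcon i, Subgroup.mem_bot] at this
    rw [hP, Finset.prod_comm, Finset.prod_eq_single_of_mem (0 : ZMod r) (Finset.mem_univ _)] at h1
    · simpa using h1
    · intro l _ hl
      rw [Finset.prod_congr rfl fun i _ => show φ (yy i ^ l.val) v = φ (a ^ l.val) (φ (zz (l * i)) v)
        by rw [hypow, map_mul, MulAut.mul_apply, mul_comm i], ← map_prod, hzsum l hl, map_one]
  have hdisj : ∀ i j, i ≠ j → ∀ x, x ∈ U i → x ∈ U j → x = 1 := by
    intro i j hij x hi hj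
    refine eq_one_of_coprime_pow (m := r) ?_ hcopr
    rw [← hPself i x hi]
    exact hPother j i (Ne.symm hij) x hj
  -- a subgroup inside the union lies in one of them
  have hone : ∀ X : Subgroup V, (∀ x ∈ X, ∃ k, x ∈ U k) → ∃ k, X ≤ U k := by
    intro X hX
    by_cases hbot : ∀ x ∈ X, x = 1
    · exact ⟨0, fun x hx => (hbot x hx) ▸ one_mem _⟩
    push Not at hbot
    obtain ⟨x, hx, hx1⟩ := hbot
    obtain ⟨i, hi⟩ := hX x hx
    refine ⟨i, fun y hy => ?_⟩
    obtain ⟨j, hj⟩ := hX y hy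
    by_cases hij : j = i
    · exact hij ▸ hj
    by_cases hy1 : y = 1
    · exact hy1 ▸ one_mem _
    exfalso
    obtain ⟨k, hk⟩ := hX _ (mul_mem hx hy)
    by_cases hki : k = i
    · subst hki
      exact hy1 (hdisj j k hij y hj (by simpa using mul_mem (inv_mem hi) hk))
    by_cases hkj : k = j
    · subst hkj
      exact hx1 (hdisj i k (Ne.symm hij) x hi (by simpa using mul_mem hk (inv_mem hj)))
    have h1 := hPmul k x y
    rw [hPself k _ hk, hPother i k (Ne.symm hki) x hi, hPother j k (Ne.symm hkj) y hj, one_mul] at h1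
    have hxy := eq_one_of_coprime_pow h1 hcopr
    exact hx1 (hdisj i j (Ne.symm hij) x hi (by
      rw [show x = y⁻¹ from eq_inv_of_mul_eq_one_left hxy]; exact inv_mem hj))
  -- the Sylow subgroup translates the indices
  have hshift : ∀ ρ ∈ R, ∃ k : ZMod r, ∀ i, ∀ x ∈ U i, φ ρ x ∈ U (i + k) := by
    intro ρ hρ
    obtain ⟨n, hn⟩ := (mem_powers_iff_mem_zpowers (x := z)).2 (hconj ρ hρ)
    refine ⟨(n : ZMod r), fun i x hx => ?_⟩
    have hn' : ρ * a * ρ⁻¹ = z ^ n * a := eq_mul_of_mul_inv_eq hn.symm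
    have he : yy (i + (n : ZMod r)) * ρ = ρ * yy i := by
      show a * zz (i + (n : ZMod r)) * ρ = ρ * (a * zz i)
      rw [← hzzadd, ← hzzpow, ← mul_assoc ρ, show ρ * a = z ^ n * a * ρ from
        mul_inv_eq_iff_eq_mul.1 hn', mul_assoc (z ^ n * a), (hzzc i ρ hρ).eq,
        (((hzc a ha).pow_right n).eq.symm : z ^ n * a = a * z ^ n)]
      simp only [mul_assoc]
      congr 1
      rw [← mul_assoc, ← mul_assoc, ((hzzc i (z ^ n) (pow_mem hz n)).eq)]
    show φ (yy (i + (n : ZMod r))) (φ ρ x) = φ ρ x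
    rw [← MulAut.mul_apply, ← map_mul, he, map_mul, MulAut.mul_apply, mem_fixedBy.1 hx]
  obtain ⟨ρ₁, hρ₁, k₁, hk₁, hsh⟩ : ∃ ρ ∈ R, ∃ k : ZMod r, k ≠ 0 ∧
      ∀ i, ∀ x ∈ U i, φ ρ x ∈ U (i + k) := by
    by_contra hcon
    push Not at hcon
    have hinv : ∀ ρ ∈ R, ∀ x ∈ U i₀, φ ρ x ∈ U i₀ := by
      intro ρ hρ x hx
      obtain ⟨k, hk⟩ := hshift ρ hρ
      by_cases hk0 : k = 0
      · simpa [hk0] using hk i₀ x hx
      · obtain ⟨i, y, hy, hny⟩ := hcon ρ hρ k hk0
        exact absurd (hk i y hy) hny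
    have htop := (S.irred_sylow _ hinv).resolve_left hi₀
    have h1 : yy i₀ = 1 :=
      S.eq_one_of_fix_all fun v => mem_fixedBy.1 (htop ▸ Subgroup.mem_top v : v ∈ U i₀)
    refine haz ?_
    rw [eq_inv_of_mul_eq_one_left h1]
    exact inv_mem (pow_mem (Subgroup.mem_zpowers z) _)
  have hshn : ∀ n : ℕ, ∀ i, ∀ x ∈ U i, φ (ρ₁ ^ n) x ∈ U (i + n * k₁) := by
    intro n
    induction n with
    | zero => intro i x hx; simpa using hx
    | succ n ih =>
      intro i x hx
      rw [pow_succ', map_mul, MulAut.mul_apply]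
      have h := hsh _ _ (ih i x hx)
      rwa [show i + (n : ZMod r) * k₁ + k₁ = i + ((n + 1 : ℕ) : ZMod r) * k₁ by push_cast; ring] at h
  have hall : ∀ j, U j ≠ ⊥ := by
    intro j hj
    obtain ⟨x, hx, hx1⟩ := (Subgroup.ne_bot_iff_exists_ne_one.1 hi₀ |>.elim fun a ha =>
      ⟨(a : V), a.2, fun h => ha (Subtype.ext h)⟩ : ∃ x, x ∈ U i₀ ∧ x ≠ 1)
    have h := hshn ((j - i₀) / k₁).val i₀ x hx
    rw [ZMod.natCast_zmod_val, div_mul_cancel₀ _ hk₁, add_sub_cancel, hj, Subgroup.mem_bot] at h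
    exact hx1 ((φ (ρ₁ ^ ((j - i₀) / k₁).val)).injective (h.trans (map_one _).symm))
  -- the whole group permutes the indices
  have himg : ∀ (h : H) (i : ZMod r), ∃ k, ∀ x ∈ U i, φ h x ∈ U k := by
    intro h i
    obtain ⟨k, hk⟩ := hone ((U i).map (φ h).toMonoidHom) (by
      rintro _ ⟨x, hx, rfl⟩
      obtain ⟨ρ, hρ, e⟩ := S.orbit h x
      obtain ⟨k, hk⟩ := hshift ρ hρ
      exact ⟨i + k, by
        show φ h x ∈ U (i + k)
        rw [← e]; exact hk i x hx⟩)
    exact ⟨k, fun x hx => hk (Subgroup.mem_map_of_mem _ hx)⟩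
  choose π hπ using himg
  have huniq : ∀ (h : H) i k, (∀ x ∈ U i, φ h x ∈ U k) → π h i = k := by
    intro h i k hk
    by_contra hne
    obtain ⟨⟨x, hx⟩, hx1⟩ := Subgroup.ne_bot_iff_exists_ne_one.1 (hall i)
    refine hx1 (Subtype.ext ((φ h).injective ?_))
    rw [hdisj _ _ hne _ (hπ h i x hx) (hk x hx)]
    exact (map_one _).symm
  have hπ1 : ∀ i, π 1 i = i := fun i => huniq 1 i i fun x hx => by simpa using hx
  have hπm : ∀ g h i, π (g * h) i = π g (π h i) := fun g h i => huniq _ _ _ fun x hx => by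
    rw [map_mul, MulAut.mul_apply]; exact hπ g _ _ (hπ h i x hx)
  let ψ : H →* Equiv.Perm (ZMod r) :=
    { toFun := fun h => ⟨π h, π h⁻¹, fun i => by rw [← hπm, inv_mul_cancel, hπ1],
        fun i => by rw [← hπm, mul_inv_cancel, hπ1]⟩
      map_one' := Equiv.ext hπ1
      map_mul' := fun g h => Equiv.ext (hπm g h) }
  have htr : ∀ t : ZMod r, ∃ h, ∀ x, ψ h x = x + t := fun t => ⟨ρ₁ ^ (t / k₁).val, fun i => by
    show π _ i = i + t
    refine huniq _ _ _ fun x hx => ?_
    have := hshn (t / k₁).val i x hx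
    rwa [ZMod.natCast_zmod_val, div_mul_cancel₀ _ hk₁] at this⟩
  by_cases hr2 : r = 2
  · subst hr2
    obtain ⟨h, hh⟩ := htr 1
    have h1 := map_eq_one S.perfect (Equiv.Perm.sign.comp ψ) h
    have h2 : ψ h = Equiv.swap (0 : ZMod 2) 1 := by
      ext x
      rw [hh]
      exact add_one_eq_swap x
    rw [MonoidHom.comp_apply, h2, Equiv.Perm.sign_swap zero_ne_one] at h1
    exact absurd h1 (by decide)
  · exact RegularCyclic.false_of_prime (S.odd_card hr2) S.perfect ψ htr

/-- The setup is contradictory. -/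
theorem Setup.false (S : Setup φ r R) : False := by
  classical
  haveI := Fact.mk S.prime
  haveI := S.nontrivial
  by_cases hB : ∃ B : Subgroup R, B.Normal ∧ IsMulCommutative B ∧ ¬ IsCyclic B
  · obtain ⟨B, hBn, hBc, hBnc⟩ := hB
    haveI : Group.IsNilpotent R := S.isPGroup.isNilpotent
    have hBne : B ≠ ⊥ := by rintro rfl; exact hBnc inferInstance
    have hcb := Coprime.nilpotent_inf_center_ne_bot B hBne
    have hX : IsPGroup r (B ⊓ Subgroup.center R : Subgroup R) := S.isPGroup.to_subgroup _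
    haveI : Nontrivial (B ⊓ Subgroup.center R : Subgroup R) :=
      (Subgroup.nontrivial_iff_ne_bot _).2 hcb
    obtain ⟨m, hm0, hm⟩ := hX.nontrivial_iff_card.1 inferInstance
    obtain ⟨⟨z, hzB, hzZ⟩, hzo⟩ := exists_prime_orderOf_dvd_card'
      (G := (B ⊓ Subgroup.center R : Subgroup R)) r (hm ▸ dvd_pow_self r hm0.ne')
    replace hzo : orderOf z = r :=
      (orderOf_injective (B ⊓ Subgroup.center R : Subgroup R).subtype Subtype.val_injective _).trans hzo
    replace hzZ : z ∈ Subgroup.center R := hzZ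
    replace hzB : z ∈ B := hzB
    set Z := Subgroup.zpowers z with hZ
    haveI : Z.Normal := ⟨fun x hx g => by
      obtain ⟨i, rfl⟩ := Subgroup.mem_zpowers_iff.1 hx
      have hgz : Commute g z := Subgroup.mem_center_iff.1 hzZ g
      rw [(hgz.zpow_right i).eq, mul_inv_cancel_right]
      exact zpow_mem (Subgroup.mem_zpowers z) i⟩
    haveI := hBn
    let E : Subgroup R :=
      { carrier := {b | b ∈ B ∧ b ^ r = 1}
        one_mem' := ⟨one_mem _, one_pow r⟩
        mul_mem' := fun {x y} hx hy => ⟨mul_mem hx.1 hy.1, by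
          have hc : Commute x y := congrArg Subtype.val (mul_comm (⟨x, hx.1⟩ : B) ⟨y, hy.1⟩)
          rw [hc.mul_pow, hx.2, hy.2, one_mul]⟩
        inv_mem' := fun {x} hx => ⟨inv_mem hx.1, by rw [inv_pow, hx.2, inv_one]⟩ }
    haveI hEn : E.Normal := ⟨fun x hx g => ⟨hBn.conj_mem x hx.1 g, by
      rw [conj_pow, hx.2, mul_one, mul_inv_cancel]⟩⟩
    have hEZ : ¬ E ≤ Z := by
      intro hle
      refine hBnc (Coprime.isCyclic_of_comm_of_unique (S.isPGroup.to_subgroup B)
        fun x y hx hy hx1 => ?_)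
      have hxE : (x : R) ∈ E := ⟨x.2, by rw [← SubgroupClass.coe_pow, hx]; rfl⟩
      have hyE : (y : R) ∈ E := ⟨y.2, by rw [← SubgroupClass.coe_pow, hy]; rfl⟩
      have hxo : orderOf (x : R) = r := by
        rw [Subgroup.orderOf_coe]; exact orderOf_eq_prime hx hx1
      have heq : Subgroup.zpowers (x : R) = Z :=
        Subgroup.eq_of_le_of_card_ge (Subgroup.zpowers_le.2 (hle hxE))
          (le_of_eq (by rw [hZ]; simp only [Nat.card_zpowers]; rw [hxo, hzo]))
      obtain ⟨i, hi⟩ := Subgroup.mem_zpowers_iff.1 (heq.ge (hle hyE))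
      exact Subgroup.mem_zpowers_iff.2 ⟨i, Subtype.ext (by simpa using hi)⟩
    haveI : (E.map (QuotientGroup.mk' Z)).Normal :=
      hEn.map _ (QuotientGroup.mk'_surjective Z)
    haveI : Group.IsNilpotent (R ⧸ Z) := (S.isPGroup.to_quotient Z).isNilpotent
    have hne : E.map (QuotientGroup.mk' Z) ≠ ⊥ := fun h => hEZ (by
      rwa [Subgroup.map_eq_bot_iff, QuotientGroup.ker_mk'] at h)
    obtain ⟨⟨q, hq⟩, hq1⟩ :=
      Subgroup.ne_bot_iff_exists_ne_one.1 (Coprime.nilpotent_inf_center_ne_bot _ hne)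
    obtain ⟨⟨a, ⟨haB, har⟩, rfl⟩, hqc⟩ := hq
    refine S.false_of_rank_two (a := (a : H)) (z := (z : H)) a.2 z.2
      (by simpa using congrArg Subtype.val har) ?_ ?_ ?_ ?_ ?_
    · have : z ^ r = 1 := by rw [← hzo, pow_orderOf_eq_one]
      simpa using congrArg Subtype.val this
    · intro h
      rw [show z = 1 from Subtype.ext h, orderOf_one] at hzo
      exact S.prime.ne_one hzo.symm
    · exact fun ρ hρ => congrArg Subtype.val (Subgroup.mem_center_iff.1 hzZ ⟨ρ, hρ⟩)
    · intro h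
      refine hq1 (Subtype.ext ((QuotientGroup.eq_one_iff a).2 ?_))
      obtain ⟨i, hi⟩ := Subgroup.mem_zpowers_iff.1 h
      exact Subgroup.mem_zpowers_iff.2 ⟨i, Subtype.ext (by simpa using hi)⟩
    · intro ρ hρ
      have h1 := Subgroup.mem_center_iff.1 hqc (QuotientGroup.mk' Z ⟨ρ, hρ⟩)
      have h2 : (⟨ρ, hρ⟩ : R) * a * (⟨ρ, hρ⟩ : R)⁻¹ * a⁻¹ ∈ Z := by
        rw [← QuotientGroup.ker_mk' Z, MonoidHom.mem_ker, map_mul, map_mul, map_mul, map_inv,
          map_inv, h1, mul_inv_cancel_right, mul_inv_cancel]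
      obtain ⟨i, hi⟩ := Subgroup.mem_zpowers_iff.1 h2
      exact Subgroup.mem_zpowers_iff.2 ⟨i, by simpa using congrArg Subtype.val hi⟩
  push Not at hB
  by_cases hr2 : r = 2
  · subst hr2
    exact S.false_of_two hB
  rcases Invol.cyclic_or_std S.isPGroup hB with hcyc | ⟨h, -⟩
  swap
  · exact hr2 h
  -- a regular cyclic subgroup on an orbit
  haveI := hcyc
  letI : CommGroup R := IsCyclic.commGroup
  obtain ⟨x, hx⟩ := exists_ne (1 : V)
  have hfree : ∀ ρ : R, φ (ρ : H) x = x → ρ = 1 := by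
    intro ρ hρ
    by_contra hne
    obtain ⟨k, hk⟩ := S.isPGroup ρ
    obtain ⟨m, hm, ho⟩ := (Nat.dvd_prime_pow S.prime).1 (orderOf_dvd_of_pow_eq_one hk)
    obtain ⟨m, rfl⟩ : ∃ m', m = m' + 1 := ⟨m - 1, by
      rcases Nat.eq_zero_or_pos m with h | h
      · rw [h, pow_zero, orderOf_eq_one_iff] at ho; exact absurd ho hne
      · omega⟩
    have hz1 : ρ ^ r ^ m ≠ 1 := fun h => by
      have := Nat.le_of_dvd (pow_pos S.prime.pos m) (orderOf_dvd_of_pow_eq_one h)
      rw [ho] at this
      exact absurd this (not_le.2 (Nat.pow_lt_pow_right S.prime.one_lt (Nat.lt_succ_self m)))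
    have hfix := S.fixedBy_central (z := ((ρ ^ r ^ m : R) : H))
      (fun σ hσ => congrArg Subtype.val (mul_comm (⟨σ, hσ⟩ : R) (ρ ^ r ^ m)))
      fun h => hz1 (Subtype.ext h)
    refine hx ?_
    rw [← Subgroup.mem_bot, ← hfix, mem_fixedBy, SubmonoidClass.coe_pow]
    exact pow_mem (show (ρ : H) ∈ stab φ x from hρ) _
  have hinj : ∀ ρ σ : R, φ (ρ : H) x = φ (σ : H) x → ρ = σ := fun ρ σ h => by
    have := hfree (σ⁻¹ * ρ) (by
      rw [Subgroup.coe_mul, map_mul, MulAut.mul_apply, h, ← MulAut.mul_apply, ← map_mul,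
        Subgroup.coe_inv, inv_mul_cancel, map_one, MulAut.one_apply])
    exact (inv_mul_eq_one.1 this).symm
  have hex : ∀ (h : H) (ρ : R), ∃ σ : R, φ (σ : H) x = φ (h * ρ) x := fun h ρ => by
    obtain ⟨σ, hσ, e⟩ := S.orbit (h * ρ) x
    exact ⟨⟨σ, hσ⟩, e⟩
  choose π hπ using hex
  have hπ1 : ∀ ρ, π 1 ρ = ρ := fun ρ => hinj _ _ (by rw [hπ, one_mul])
  have hπm : ∀ g h ρ, π (g * h) ρ = π g (π h ρ) := fun g h ρ => hinj _ _ (by
    rw [hπ, hπ, map_mul φ g ((π h ρ : R) : H), MulAut.mul_apply, hπ, ← MulAut.mul_apply, ← map_mul,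
      mul_assoc])
  let ψ : H →* Equiv.Perm (Additive R) :=
    { toFun := fun h => ⟨fun ρ => Additive.ofMul (π h (Additive.toMul ρ)),
        fun ρ => Additive.ofMul (π h⁻¹ (Additive.toMul ρ)),
        fun ρ => by simp [← hπm, hπ1], fun ρ => by simp [← hπm, hπ1]⟩
      map_one' := Equiv.ext fun ρ => congrArg Additive.ofMul (hπ1 _)
      map_mul' := fun g h => Equiv.ext fun ρ => congrArg Additive.ofMul (hπm g h _) }
  obtain ⟨e, hcard⟩ := IsPGroup.iff_card.1 S.isPGroup
  have he : 0 < e := by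
    rcases Nat.eq_zero_or_pos e with h | h
    · exact absurd (Subgroup.card_eq_one.1 (by rw [hcard, h, pow_zero])) S.ne_bot
    · exact h
  refine RegularCyclic.false_of_regular_cyclic S.prime (S.odd_card hr2) S.perfect e
    (Ω := Additive R) (isAddCyclic_additive_iff.2 hcyc) he hcard ψ fun t => ?_
  refine ⟨((Additive.toMul t : R) : H), fun ρ => ?_⟩
  show Additive.ofMul (π _ (Additive.toMul ρ)) = ρ + t
  have hb : ∀ b c : R, π (b : H) c = c * b := fun b c => hinj _ _ (by
    rw [hπ, mul_comm c b, Subgroup.coe_mul])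
  rw [hb]
  rfl

end cases

/-! ### The theorem -/

theorem stab_index_dvd [Finite H] (φ : H →* MulAut V) (D : Subgroup H) [D.Normal] (x : V) :
    (stab (φ.comp D.subtype) x).index ∣ (stab φ x).index :=
  relIndex_dvd_index_of_normal_right (stab φ x) D

/-- The action on an invariant subgroup. -/
def restrictAction (φ : H →* MulAut V) (U : Subgroup V) (hU : ∀ h : H, ∀ u ∈ U, φ h u ∈ U) :
    H →* MulAut U where
  toFun h :=
    { toFun := fun u => ⟨φ h u, hU h u u.2⟩
      invFun := fun u => ⟨φ h⁻¹ u, hU h⁻¹ u u.2⟩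
      left_inv := fun u => Subtype.ext (by simp [map_inv])
      right_inv := fun u => Subtype.ext (by simp [map_inv])
      map_mul' := fun u w => Subtype.ext (map_mul (φ h) _ _) }
  map_one' := MulEquiv.ext fun u => Subtype.ext (by simp)
  map_mul' g h := MulEquiv.ext fun u => Subtype.ext (by simp)

/-- A perfect group has no non-trivial solvable image. -/
theorem eq_one_of_solvable_range {K : Type*} [Group K] (hperf : commutator H = ⊤) (f : H →* K)
    (hs : Group.IsSolvable f.range) (h : H) : f h = 1 := by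
  by_contra hne
  haveI := hs
  haveI : Nontrivial f.range := ⟨⟨⟨f h, ⟨h, rfl⟩⟩, 1, fun e => hne (congrArg Subtype.val e)⟩⟩
  refine (Group.IsSolvable.commutator_lt_top_of_nontrivial (G := f.range)).ne ?_
  rw [commutator_def, ← Subgroup.map_top_of_surjective _ f.rangeRestrict_surjective,
    ← Subgroup.map_commutator, ← commutator_def, hperf]

open Classical in
/-- **Coprime action with orbit lengths powers of one prime.** -/
theorem isSolvable_range_of_primePow_orbits {r : ℕ} (hr : r.Prime) [Finite H] [Finite V]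
    (φ : H →* MulAut V) (hcop : (Nat.card H).Coprime (Nat.card V))
    (horb : ∀ x : V, ∃ a : ℕ, (stab φ x).index = r ^ a) : Group.IsSolvable φ.range := by
  suffices key : ∀ n : ℕ, ∀ {H : Type u} [Group H] [Finite H] {V : Type v} [CommGroup V] [Finite V]
      (φ : H →* MulAut V), Nat.card H + Nat.card V = n → (Nat.card H).Coprime (Nat.card V) →
      (∀ x : V, ∃ a : ℕ, (stab φ x).index = r ^ a) → Group.IsSolvable φ.range from
    key _ φ rfl hcop horb
  clear hcop horb φ
  intro n
  induction n using Nat.strong_induction_on with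
  | _ n ih =>
  intro H _ _ V _ _ φ hn hcop horb
  by_cases hker : φ.ker = ⊥
  swap
  · -- pass to the image
    have hstab : ∀ x, (stab (QuotientGroup.kerLift φ) x).index = (stab φ x).index := fun x =>
      (Subgroup.index_comap_of_surjective (f := QuotientGroup.mk' φ.ker)
        (stab (QuotientGroup.kerLift φ) x) (QuotientGroup.mk'_surjective _)).symm
    have hlt : Nat.card (H ⧸ φ.ker) < Nat.card H := by
      rw [Subgroup.card_eq_card_quotient_mul_card_subgroup φ.ker]
      exact lt_mul_of_one_lt_right Nat.card_pos ((Subgroup.one_lt_card_iff_ne_bot _).2 hker)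
    have h1 : Group.IsSolvable (QuotientGroup.kerLift φ).range :=
      ih _ (by omega) (H := H ⧸ φ.ker) (V := V) (QuotientGroup.kerLift φ) rfl
        (hcop.coprime_dvd_left (Subgroup.card_quotient_dvd_card _))
        fun x => (hstab x).symm ▸ horb x
    have h2 : (QuotientGroup.kerLift φ).range = φ.range := by
      ext f
      constructor
      · rintro ⟨q, rfl⟩
        obtain ⟨h, rfl⟩ := QuotientGroup.mk_surjective q
        exact ⟨h, rfl⟩
      · rintro ⟨h, rfl⟩
        exact ⟨(h : H ⧸ φ.ker), rfl⟩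
    exact h2 ▸ h1
  have hinj : Function.Injective φ := (MonoidHom.ker_eq_bot_iff φ).1 hker
  suffices hH : Group.IsSolvable H from
    Group.isSolvable_of_surjective φ.rangeRestrict_surjective
  by_cases hperf : commutator H = ⊤
  swap
  · -- pass to the derived subgroup
    have hlt : Nat.card (commutator H) < Nat.card H := by
      refine lt_of_le_of_ne (Subgroup.card_le_card_group _) fun h => hperf ?_
      exact Subgroup.eq_top_of_card_eq _ h
    have h1 : Group.IsSolvable (φ.comp (commutator H).subtype).range :=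
      ih _ (by omega) (H := commutator H) (V := V) (φ.comp (commutator H).subtype) rfl
        (hcop.coprime_dvd_left (Subgroup.card_subgroup_dvd_card _)) fun x => by
          obtain ⟨a, ha⟩ := horb x
          obtain ⟨b, -, hb⟩ := (Nat.dvd_prime_pow hr).1 (ha ▸ stab_index_dvd φ (commutator H) x)
          exact ⟨b, hb⟩
    haveI := h1
    haveI : Group.IsSolvable (commutator H) := Group.isSolvable_of_isSolvable_injective
      (f := (φ.comp (commutator H).subtype).rangeRestrict) fun a b h =>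
        Subtype.ext (hinj (congrArg Subtype.val h))
    haveI : Group.IsSolvable (H ⧸ commutator H) :=
      Group.isSolvable_of_comm fun a b => mul_comm (G := Abelianization H) a b
    exact Group.isSolvable_of_ker_le_range (commutator H).subtype
      (QuotientGroup.mk' (commutator H)) (by simp)
  by_cases hH1 : Subsingleton H
  · exact Group.isSolvable_of_comm fun a b => Subsingleton.elim _ _
  exfalso
  rw [not_subsingleton_iff_nontrivial] at hH1
  -- proper invariant subgroups are centralized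
  have hprop : ∀ U : Subgroup V, (∀ h : H, ∀ u ∈ U, φ h u ∈ U) → U ≠ ⊤ →
      ∀ h : H, ∀ u ∈ U, φ h u = u := by
    intro U hU hne h u hu
    have hlt : Nat.card U < Nat.card V := by
      refine lt_of_le_of_ne (Subgroup.card_le_card_group _) fun e => hne ?_
      exact Subgroup.eq_top_of_card_eq _ e
    have h1 : Group.IsSolvable (restrictAction φ U hU).range :=
      ih _ (by omega) (H := H) (V := U) (restrictAction φ U hU) rfl
        (hcop.coprime_dvd_right (Subgroup.card_subgroup_dvd_card _)) fun y => by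
          obtain ⟨a, ha⟩ := horb y
          refine ⟨a, ?_⟩
          rw [← ha]
          congr 1
          ext g
          exact ⟨fun e => congrArg Subtype.val e, fun e => Subtype.ext e⟩
    have h2 := eq_one_of_solvable_range hperf _ h1 h
    exact congrArg Subtype.val (DFunLike.congr_fun h2 ⟨u, hu⟩)
  letI : Fintype H := Fintype.ofFinite H
  let F : Subgroup V := ⨅ h : H, fixedBy φ h
  have hF : ∀ u, u ∈ F ↔ ∀ h, φ h u = u := fun u => by simp [F, Subgroup.mem_iInf, mem_fixedBy]
  let N : V →* V := MonoidHom.mk' (fun x => ∏ h : H, φ h x) fun x y => by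
    simp [Finset.prod_mul_distrib]
  have hN : ∀ x, N x = ∏ h : H, φ h x := fun _ => rfl
  have hNF : ∀ x, N x ∈ F := fun x => (hF _).2 fun g => by
    rw [hN, map_prod]
    exact Fintype.prod_equiv (Equiv.mulLeft g) _ _ fun h => by
      show φ g (φ h x) = φ (g * h) x
      rw [map_mul, MulAut.mul_apply]
  have hNinv : ∀ g x, N (φ g x) = N x := fun g x => by
    rw [hN, hN]
    exact Fintype.prod_equiv (Equiv.mulRight g) _ _ fun h => by
      show φ h (φ g x) = φ (h * g) x
      rw [map_mul, MulAut.mul_apply]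
  have hNfix : ∀ u ∈ F, N u = u ^ Nat.card H := fun u hu => by
    rw [hN, Finset.prod_congr rfl fun h _ => (hF u).1 hu h, Finset.prod_const, Finset.card_univ,
      Nat.card_eq_fintype_card]
  have hcoprime : ∀ x : V, x ^ Nat.card H = 1 → x = 1 := fun x hx => eq_one_of_coprime_pow hx hcop
  have hWinv : ∀ h : H, ∀ u ∈ N.ker, φ h u ∈ N.ker := fun h u hu => by
    rw [MonoidHom.mem_ker, hNinv]; exact hu
  have hWtop : N.ker = ⊤ := by
    by_contra hne
    have htriv : ∀ v : V, ∀ h : H, φ h v = v := by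
      intro v h
      have hw : v ^ Nat.card H * (N v)⁻¹ ∈ N.ker := by
        rw [MonoidHom.mem_ker, map_mul, map_pow, map_inv, hNfix _ (hNF v), mul_inv_cancel]
      have h1 := hprop N.ker hWinv hne h _ hw
      rw [map_mul, map_inv (φ h), (hF _).1 (hNF v) h, mul_left_inj, map_pow] at h1
      refine (mul_inv_eq_one.1 (hcoprime (φ h v * v⁻¹) ?_))
      rw [mul_pow, h1, inv_pow, mul_inv_cancel]
    obtain ⟨a, ha⟩ := exists_ne (1 : H)
    exact ha (hinj (by rw [map_one]; exact MulEquiv.ext fun v => htriv v a))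
  have hFbot : ∀ u ∈ F, u = 1 := fun u hu => by
    refine hcoprime u ?_
    rw [← hNfix u hu]
    exact MonoidHom.mem_ker.1 (hWtop ▸ Subgroup.mem_top u)
  -- the Sylow subgroup
  haveI := Fact.mk hr
  obtain ⟨P⟩ : Nonempty (Sylow r H) := inferInstance
  have hne : (P : Subgroup H) ≠ ⊥ := by
    intro hP
    obtain ⟨a, ha⟩ := exists_ne (1 : H)
    refine ha (hinj ?_)
    rw [map_one]
    refine MulEquiv.ext fun v => ?_
    obtain ⟨k, hk⟩ := horb v
    have hnd : ¬ r ∣ Nat.card H := fun h => by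
      have h1 := P.dvd_card_of_dvd_card h
      rw [hP, Subgroup.card_bot] at h1
      exact hr.not_dvd_one h1
    rcases Nat.eq_zero_or_pos k with rfl | hk0
    · rw [pow_zero, Subgroup.index_eq_one] at hk
      exact (hk ▸ Subgroup.mem_top a : a ∈ stab φ v)
    · exact absurd ((dvd_pow_self r hk0.ne').trans (hk ▸ Subgroup.index_dvd_card _)) hnd
  have hnt : Nontrivial V := by
    by_contra h
    rw [not_nontrivial_iff_subsingleton] at h
    obtain ⟨a, ha⟩ := exists_ne (1 : H)
    exact ha (hinj (MulEquiv.ext fun v => Subsingleton.elim _ _))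
  refine Setup.false (φ := φ) (r := r) (R := (P : Subgroup H))
    ⟨hr, hperf, hinj, P.2, hne, P.not_dvd_index, hcop, fun h x => ?_, hnt, fun U hU => ?_⟩
  · obtain ⟨k, hk⟩ := horb x
    have hcop' : (P : Subgroup H).index.Coprime (stab φ x).index := by
      rw [hk]
      exact Nat.Coprime.pow_right k ((hr.coprime_iff_not_dvd.2 P.not_dvd_index).symm)
    obtain ⟨ρ, hρ, s, hs, e⟩ := Coprime.mul_eq_univ_of_coprime hcop' h
    refine ⟨ρ, hρ, ?_⟩
    rw [e, map_mul, MulAut.mul_apply, mem_stab.1 hs]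
  · by_cases htop : U = ⊤
    · exact Or.inr htop
    · refine Or.inl ((Subgroup.eq_bot_iff_forall _).2 fun u hu => hFbot u ((hF u).2 fun g => ?_))
      exact hprop U hU htop g u hu

end CfsgLib.PGroup.Orbit
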