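import Cfsg.Prelude.Def_LocalEven
import Cfsg.Agent.Lib.LocalStructure.WeaklyClosed
import Cfsg.Agent.Lib.Invol.Signalizer

/-!
# Primitive pairs of characteristic `p` in groups of local characteristic `p`
-/

set_option autoImplicit false
set_option linter.style.haveILetI false

open Subgroup

namespace CfsgLib.PrimPair

variable {G : Type*} [Group G] [Finite G] {p : ℕ} [hp : Fact p.Prime]

/-- The normalizers of nontrivial `p`-subgroups. -/
def IsLocal (p : ℕ) (M : Subgroup G) : Prop :=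
  ∃ T : Subgroup G, IsPGroup p T ∧ T ≠ ⊥ ∧ M = normalizer (T : Set G)

/-- Maximal among the `p`-local subgroups. -/
def IsMaxLocal (p : ℕ) (M : Subgroup G) : Prop :=
  IsLocal p M ∧ ∀ L : Subgroup G, IsLocal p L → M ≤ L → L = M

omit hp in
theorem exists_maxLocal {M : Subgroup G} (hM : IsLocal p M) : ∃ L, M ≤ L ∧ IsMaxLocal p L := by
  obtain ⟨L, hML, hL⟩ := Finite.exists_le_maximal (p := fun L : Subgroup G => IsLocal p L) (a := M) hM
  exact ⟨L, hML, hL.prop, fun L' hL' h => le_antisymm (hL.le_of_ge hL' h) h⟩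

theorem pCoreOf_ne_bot {M : Subgroup G} (hM : IsLocal p M) : Cfsg.pCoreOf p M ≠ ⊥ := by
  obtain ⟨T, hT, hT1, rfl⟩ := hM
  exact fun h => hT1 (le_bot_iff.1 (h ▸ CfsgLib.LS.le_pCoreOf hT le_normalizer le_rfl))

theorem normalizer_eq {M : Subgroup G} (hM : IsMaxLocal p M) : normalizer (M : Set G) = M := by
  have h := hM.2 _ ⟨Cfsg.pCoreOf p M, CfsgLib.LS.pCoreOf_isPGroup M, pCoreOf_ne_bot hM.1, rfl⟩
    (le_normalizer.trans (CfsgLib.LS.normalizer_le_normalizer_pCoreOf M))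
  exact le_antisymm ((CfsgLib.LS.normalizer_le_normalizer_pCoreOf M).trans h.le) le_normalizer

theorem normalizer_le {M A : Subgroup G} (hloc : Cfsg.IsOfLocalCharacteristic p G)
    (hM : IsMaxLocal p M) (hA1 : A ≠ ⊥) (hAM : A ≤ M) (hMA : M ≤ normalizer (A : Set G)) :
    normalizer (A : Set G) ≤ M := by
  set Q := Cfsg.pCoreOf p M with hQ
  have hQM : Q ≤ M := CfsgLib.LS.pCoreOf_le_self M
  have hAQ : A ⊓ Q ≠ ⊥ := by
    intro h
    apply hA1
    obtain ⟨T, hT, hT1, hMT⟩ := hM.1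
    have hcon : centralizer (Cfsg.pCore p M : Set M) ≤ Cfsg.pCore p M := by
      subst hMT
      exact hloc.2 T hT hT1
    have hAle : A ≤ Q := by
      intro x hx
      refine (CfsgLib.LS.charP_iff M).1 hcon (Subgroup.mem_inf.2 ⟨hAM hx,
        mem_centralizer_iff.2 fun q hq => ?_⟩)
      have hQn : M ≤ normalizer (Q : Set G) :=
        le_normalizer.trans (CfsgLib.LS.normalizer_le_normalizer_pCoreOf M)
      have h1 : q * x * q⁻¹ * x⁻¹ ∈ A ⊓ Q := by
        refine Subgroup.mem_inf.2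
          ⟨mul_mem ((mem_normalizer_iff.1 (hMA (hQM hq)) x).1 hx) (inv_mem hx), ?_⟩
        rw [show q * x * q⁻¹ * x⁻¹ = q * (x * q⁻¹ * x⁻¹) by group]
        exact mul_mem hq ((mem_normalizer_iff.1 (hQn (hAM hx)) _).1 (inv_mem hq))
      rw [h, mem_bot] at h1
      exact mul_inv_eq_iff_eq_mul.1 (mul_inv_eq_one.1 h1)
    exact le_bot_iff.1 (h ▸ le_inf le_rfl hAle)
  have hD : Cfsg.pCoreOf p A ≠ ⊥ := by
    refine fun h' => hAQ (le_bot_iff.1 ?_)
    rw [← h']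
    refine CfsgLib.LS.le_pCoreOf ((CfsgLib.LS.pCoreOf_isPGroup M).to_le inf_le_right) inf_le_left ?_
    exact CfsgLib.Coprime.inf_le_normalizer le_normalizer
      (hAM.trans (le_normalizer.trans (CfsgLib.LS.normalizer_le_normalizer_pCoreOf M)))
  have hN := CfsgLib.LS.normalizer_le_normalizer_pCoreOf (p := p) A
  exact hN.trans (hM.2 _ ⟨_, CfsgLib.LS.pCoreOf_isPGroup A, hD, rfl⟩ (hMA.trans hN)).le

theorem pCoreOf_le_of_maximal {L T : Subgroup G} (hT : IsPGroup p T) (hTL : T ≤ L)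
    (hmax : ∀ T' : Subgroup G, IsPGroup p T' → T ≤ T' → T' ≤ L → T' = T) :
    Cfsg.pCoreOf p L ≤ T := by
  have hn : T ≤ normalizer ((Cfsg.pCoreOf p L : Subgroup G) : Set G) :=
    hTL.trans (le_normalizer.trans (CfsgLib.LS.normalizer_le_normalizer_pCoreOf L))
  have h := hmax (Cfsg.pCoreOf p L ⊔ T)
    ((CfsgLib.LS.pCoreOf_isPGroup L).to_sup_of_normal_left' hT hn) le_sup_right
    (sup_le (CfsgLib.LS.pCoreOf_le_self L) hTL)
  exact le_sup_left.trans h.le

theorem main (hloc : Cfsg.IsOfLocalCharacteristic p G) (hOp : Cfsg.pCore p G = ⊥) :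
    (∃ M₁ M₂ : Subgroup G, M₁ ≠ M₂ ∧ (∀ A : Subgroup G, A ≠ ⊥ → A ≤ M₁ ⊓ M₂ → (M₁ ≤ Subgroup.normalizer (A : Set G) → M₂ ⊓ Subgroup.normalizer (A : Set G) = M₁ ⊓ M₂) ∧ (M₂ ≤ Subgroup.normalizer (A : Set G) → M₁ ⊓ Subgroup.normalizer (A : Set G) = M₁ ⊓ M₂)) ∧ Subgroup.centralizer (Cfsg.pCore p ↥M₁ : Set ↥M₁) ≤ Cfsg.pCore p ↥M₁ ∧ Subgroup.centralizer (Cfsg.pCore p ↥M₂ : Set ↥M₂) ≤ Cfsg.pCore p ↥M₂ ∧ (Cfsg.pCore p ↥M₁).map M₁.subtype ⊔ (Cfsg.pCore p ↥M₂).map M₂.subtype ≤ M₁ ⊓ M₂) ∨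
      (∀ M : Subgroup G, IsLocal p M → (∀ L : Subgroup G, IsLocal p L → M ≤ L → L = M) →
        M ≠ ⊤ ∧ p ∣ Nat.card M ∧
          ∀ g : G, g ∉ M → ¬ p ∣ Nat.card ↥(M ⊓ M.map (MulAut.conj g).toMonoidHom)) := by
  refine or_iff_not_imp_right.2 fun hnot => ?_
  push Not at hnot
  obtain ⟨M, hM, hMmax, hbad⟩ := hnot
  have hMne : M ≠ ⊤ := by
    rintro rfl
    obtain ⟨T, hT, hT1, htop⟩ := hM
    haveI : T.Normal := normalizer_eq_top_iff.1 htop.symm
    exact hT1 (le_bot_iff.1 (hOp ▸ CfsgLib.Coprime.le_pCore hT))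
  have hMdvd : p ∣ Nat.card M := by
    obtain ⟨T, hT, hT1, rfl⟩ := hM
    obtain ⟨k, hk⟩ := hT.exists_card_eq
    have hk0 : k ≠ 0 := fun h => hT1 (card_eq_one.1 (by rw [hk, h, pow_zero]))
    exact (dvd_pow_self p hk0).trans (hk ▸ card_dvd_of_le le_normalizer)
  obtain ⟨g, hg, hdvd⟩ := hbad hMne hMdvd
  set M' := M.map (MulAut.conj g).toMonoidHom with hM'
  have hne : M' ≠ M := fun e => hg (by
    rw [← normalizer_eq ⟨hM, hMmax⟩, mem_normalizer_iff_map_conj_eq]; exact e)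
  have hmapmax : ∀ (x : G) (L : Subgroup G), IsMaxLocal p L →
      IsMaxLocal p (L.map (MulAut.conj x).toMonoidHom) := by
    have hmaploc : ∀ (x : G) (L : Subgroup G), IsLocal p L →
        IsLocal p (L.map (MulAut.conj x).toMonoidHom) := by
      rintro x L ⟨T, hT, hT1, rfl⟩
      refine ⟨T.map (MulAut.conj x).toMonoidHom, hT.map _,
        fun h => hT1 ((map_eq_bot_iff_of_injective _ (MulAut.conj x).injective).1 h), ?_⟩
      exact map_equiv_normalizer_eq _ _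
    have hinv : ∀ (x : G) (L : Subgroup G),
        (L.map (MulAut.conj x).toMonoidHom).map (MulAut.conj x⁻¹).toMonoidHom = L := fun x L => by
      rw [Subgroup.map_map, show (MulAut.conj x⁻¹).toMonoidHom.comp (MulAut.conj x).toMonoidHom =
        MonoidHom.id G by ext y; simp [mul_assoc], Subgroup.map_id]
    intro x L hL
    refine ⟨hmaploc x L hL.1, fun L' hL' hle => ?_⟩
    have h := hL.2 _ (hmaploc x⁻¹ L' hL') (by
      rw [← hinv x L]; exact map_mono hle)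
    rw [← h]
    have := (hinv x⁻¹ L').symm
    rwa [inv_inv] at this
  -- a pair with a largest common `p`-subgroup
  set S : Set (Subgroup G × Subgroup G × Subgroup G) :=
    {x | IsMaxLocal p x.1 ∧ IsMaxLocal p x.2.1 ∧ x.1 ≠ x.2.1 ∧ IsPGroup p x.2.2 ∧ x.2.2 ≠ ⊥ ∧
      x.2.2 ≤ x.1 ∧ x.2.2 ≤ x.2.1} with hS
  obtain ⟨x, hx⟩ := exists_prime_orderOf_dvd_card' p hdvd
  have hSne : S.Nonempty := by
    refine ⟨(M, M', zpowers (x : G)), ⟨hM, hMmax⟩, hmapmax g M ⟨hM, hMmax⟩, Ne.symm hne, ?_, ?_,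
      zpowers_le.2 (Subgroup.mem_inf.1 x.2).1, zpowers_le.2 (Subgroup.mem_inf.1 x.2).2⟩
    · exact IsPGroup.of_card (n := 1) (by rw [Nat.card_zpowers, orderOf_coe, hx, pow_one])
    · rw [Ne, zpowers_eq_bot, ← orderOf_eq_one_iff, orderOf_coe, hx]
      exact hp.out.ne_one
  obtain ⟨⟨L1, L2, T⟩, ⟨h1, h2, h12, hT, hT1, hT1le, hT2le⟩, hmaxT⟩ :=
    Set.exists_max_image S (fun x => Nat.card x.2.2) (Set.toFinite S) hSne
  dsimp only at h1 h2 h12 hT hT1 hT1le hT2le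
  -- conclusion from containment of the cores
  have finish : ∀ A B : Subgroup G, IsMaxLocal p A → IsMaxLocal p B → A ≠ B →
      Cfsg.pCoreOf p A ≤ B → Cfsg.pCoreOf p B ≤ A →
      ∃ M₁ M₂ : Subgroup G, M₁ ≠ M₂ ∧ (∀ A : Subgroup G, A ≠ ⊥ → A ≤ M₁ ⊓ M₂ → (M₁ ≤ Subgroup.normalizer (A : Set G) → M₂ ⊓ Subgroup.normalizer (A : Set G) = M₁ ⊓ M₂) ∧ (M₂ ≤ Subgroup.normalizer (A : Set G) → M₁ ⊓ Subgroup.normalizer (A : Set G) = M₁ ⊓ M₂)) ∧ Subgroup.centralizer (Cfsg.pCore p ↥M₁ : Set ↥M₁) ≤ Cfsg.pCore p ↥M₁ ∧ Subgroup.centralizer (Cfsg.pCore p ↥M₂ : Set ↥M₂) ≤ Cfsg.pCore p ↥M₂ ∧ (Cfsg.pCore p ↥M₁).map M₁.subtype ⊔ (Cfsg.pCore p ↥M₂).map M₂.subtype ≤ M₁ ⊓ M₂ := by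
    intro A B hA hB hAB hAB' hBA'
    have hcon : ∀ L : Subgroup G, IsMaxLocal p L →
        centralizer (Cfsg.pCore p L : Set L) ≤ Cfsg.pCore p L := by
      intro L hL
      obtain ⟨T', hT', hT'1, rfl⟩ := hL.1
      exact hloc.2 T' hT' hT'1
    refine ⟨A, B, hAB, fun D hD hDle => ⟨fun hn => ?_, fun hn => ?_⟩, hcon A hA, hcon B hB,
      sup_le (le_inf (map_subtype_le _) hAB') (le_inf hBA' (map_subtype_le _))⟩
    · have hle := normalizer_le hloc hA hD (hDle.trans inf_le_left) hn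
      rw [le_antisymm hle hn, inf_comm]
    · have hle := normalizer_le hloc hB hD (hDle.trans inf_le_right) hn
      rw [le_antisymm hle hn]
  -- `T` is maximal in one of the two subgroups
  have grow : ∀ L : Subgroup G, T ≤ L →
      (¬ ∀ T' : Subgroup G, IsPGroup p T' → T ≤ T' → T' ≤ L → T' = T) →
      ∃ T' : Subgroup G, IsPGroup p T' ∧ T < T' ∧ T' ≤ L ∧ T' ≤ normalizer (T : Set G) := by
    intro L _ h
    push Not at h
    obtain ⟨T', hT', hle, hL, hne⟩ := h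
    refine ⟨normalizer (T : Set G) ⊓ T', hT'.to_le inf_le_right, ?_,
      inf_le_right.trans hL, inf_le_left⟩
    exact lt_of_le_of_ne (le_inf le_normalizer hle) fun e =>
      CfsgLib.Invol.normalizer_grows hT' hle (Ne.symm hne) e.ge
  have bigger : ∀ T' : Subgroup G, T < T' → Nat.card T < Nat.card T' := by
    intro T' hlt
    by_contra hle
    exact hlt.ne (eq_of_le_of_card_ge hlt.le (by omega))
  by_cases hmax2 : ∀ T' : Subgroup G, IsPGroup p T' → T ≤ T' → T' ≤ L2 → T' = T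
  · by_cases hmax1 : ∀ T' : Subgroup G, IsPGroup p T' → T ≤ T' → T' ≤ L1 → T' = T
    · exact finish L1 L2 h1 h2 h12 ((pCoreOf_le_of_maximal hT hT1le hmax1).trans hT2le)
        ((pCoreOf_le_of_maximal hT hT2le hmax2).trans hT1le)
    obtain ⟨T', hT', hlt, -, hTN⟩ := grow L1 hT1le hmax1
    obtain ⟨s, hs, hsT⟩ := SetLike.exists_of_lt hlt
    have hsL : s ∉ L2 := by
      intro h
      refine hsT ((hmax2 (T ⊔ zpowers s) ?_ le_sup_left (sup_le hT2le (zpowers_le.2 h))).le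
        (mem_sup_right (mem_zpowers s)))
      exact hT'.to_le (sup_le hlt.le (zpowers_le.2 hs))
    set L3 := L2.map (MulAut.conj s).toMonoidHom with hL3
    have hTs : T.map (MulAut.conj s).toMonoidHom = T :=
      mem_normalizer_iff_map_conj_eq.1 (hTN hs)
    have hne23 : L2 ≠ L3 := fun e => hsL (by
      rw [← normalizer_eq h2, mem_normalizer_iff_map_conj_eq]; exact e.symm)
    have hTL3 : T ≤ L3 := by rw [← hTs]; exact map_mono hT2le
    have hQ2 := pCoreOf_le_of_maximal hT hT2le hmax2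
    refine finish L2 L3 h2 (hmapmax s L2 h2) hne23 (hQ2.trans hTL3) ?_
    refine (pCoreOf_le_of_maximal hT hTL3 fun U hU hTU hUL => ?_).trans hT2le
    have hinv : (MulAut.conj s⁻¹).toMonoidHom.comp (MulAut.conj s).toMonoidHom = MonoidHom.id G := by
      ext y; simp [mul_assoc]
    have hinv' : (MulAut.conj s).toMonoidHom.comp (MulAut.conj s⁻¹).toMonoidHom = MonoidHom.id G := by
      ext y; simp [mul_assoc]
    have hU' := hmax2 (U.map (MulAut.conj s⁻¹).toMonoidHom) (hU.map _) (by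
      rw [← Subgroup.map_id T, ← hinv, ← Subgroup.map_map, hTs]; exact map_mono hTU) (by
      rw [← Subgroup.map_id L2, ← hinv, ← Subgroup.map_map]; exact map_mono hUL)
    rw [← Subgroup.map_id U, ← hinv', ← Subgroup.map_map, hU', hTs]
  · obtain ⟨T2, hT2', hlt2, hT2L, hT2N⟩ := grow L2 hT2le hmax2
    obtain ⟨L, hNL, hLmax⟩ := exists_maxLocal (M := normalizer (T : Set G)) ⟨T, hT, hT1, rfl⟩
    have hLL2 : L = L2 := by
      by_contra hne2
      have h := hmaxT (L2, L, T2) ⟨h2, hLmax, Ne.symm hne2, hT2', ne_bot_of_gt hlt2, hT2L,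
        hT2N.trans hNL⟩
      exact (bigger T2 hlt2).not_ge h
    subst hLL2
    have hmax1 : ∀ T' : Subgroup G, IsPGroup p T' → T ≤ T' → T' ≤ L1 → T' = T := by
      by_contra hm
      obtain ⟨T1, hT1', hlt1, hT1L, hT1N⟩ := grow L1 hT1le hm
      exact (bigger T1 hlt1).not_ge
        (hmaxT (L1, L, T1) ⟨h1, h2, h12, hT1', ne_bot_of_gt hlt1, hT1L, hT1N.trans hNL⟩)
    obtain ⟨s, hs, hsT⟩ := SetLike.exists_of_lt hlt2
    have hsL : s ∉ L1 := by
      intro h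
      refine hsT ((hmax1 (T ⊔ zpowers s) ?_ le_sup_left (sup_le hT1le (zpowers_le.2 h))).le
        (mem_sup_right (mem_zpowers s)))
      exact hT2'.to_le (sup_le hlt2.le (zpowers_le.2 hs))
    set L3 := L1.map (MulAut.conj s).toMonoidHom with hL3
    have hTs : T.map (MulAut.conj s).toMonoidHom = T :=
      mem_normalizer_iff_map_conj_eq.1 (hT2N hs)
    have hne13 : L1 ≠ L3 := fun e => hsL (by
      rw [← normalizer_eq h1, mem_normalizer_iff_map_conj_eq]; exact e.symm)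
    have hTL3 : T ≤ L3 := by rw [← hTs]; exact map_mono hT1le
    have hQ1 := pCoreOf_le_of_maximal hT hT1le hmax1
    refine finish L1 L3 h1 (hmapmax s L1 h1) hne13 (hQ1.trans hTL3) ?_
    refine (pCoreOf_le_of_maximal hT hTL3 fun U hU hTU hUL => ?_).trans hT1le
    have hinv : (MulAut.conj s⁻¹).toMonoidHom.comp (MulAut.conj s).toMonoidHom = MonoidHom.id G := by
      ext y; simp [mul_assoc]
    have hinv' : (MulAut.conj s).toMonoidHom.comp (MulAut.conj s⁻¹).toMonoidHom = MonoidHom.id G := by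
      ext y; simp [mul_assoc]
    have hU' := hmax1 (U.map (MulAut.conj s⁻¹).toMonoidHom) (hU.map _) (by
      rw [← Subgroup.map_id T, ← hinv, ← Subgroup.map_map, hTs]; exact map_mono hTU) (by
      rw [← Subgroup.map_id L1, ← hinv, ← Subgroup.map_map]; exact map_mono hUL)
    rw [← Subgroup.map_id U, ← hinv', ← Subgroup.map_map, hU', hTs]

end CfsgLib.PrimPair
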