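import Cfsg.Prelude.Def_Amalgam
import Cfsg.Agent.Lib.Fusion.SylowCenterModule
import Cfsg.Agent.Lib.Fusion.StableClosureNormal
import Cfsg.Agent.Lib.Fusion.StableFree
import Cfsg.Agent.Lib.LocalStructure.WeaklyClosed

/-!
# Primitive pairs of characteristic `p` in stable groups

If both members of a primitive pair of characteristic `p` were `p`-stable, then, writing `P` for
`O_p(M₁ ∩ M₂)`, every elementary abelian subgroup of largest order of `P` would lie in both `p`-cores,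
so that `J(P)` would be normal in both members.
-/

set_option autoImplicit false
set_option linter.style.haveILetI false

open Subgroup
open scoped commutatorElement

namespace CfsgLib.PrimPairStable

open CfsgLib.Fusion

universe u

section local_

variable {M : Type u} [Group M] [Finite M] {p : ℕ} [Fact p.Prime]

/-- An element acting quadratically on `O_p(M)/Φ(O_p(M))` lies in `O_p(M)`. -/
theorem mem_pCore_of_quad (hst : Cfsg.IsActionPStable p M)
    (hc : centralizer (Cfsg.pCore p M : Set M) ≤ Cfsg.pCore p M) (a : M)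
    (hq : ⁅⁅Cfsg.pCore p M, zpowers a⁆, zpowers a⁆ ≤
      (frattini (Cfsg.pCore p M)).map (Cfsg.pCore p M).subtype) :
    a ∈ Cfsg.pCore p M := by
  haveI := CfsgLib.Coprime.pCore_normal' (G := M) p
  set O := Cfsg.pCore p M with hO
  have hOp : IsPGroup p O := CfsgLib.Coprime.pCore_isPGroup p
  obtain ⟨D, hDn, hKD, ⟨k, hk⟩, haD⟩ := hst.2.1 a hq
  haveI : ((frattini O).map O.subtype).Normal :=
    CfsgLib.Coprime.map_subtype_normal_of_characteristic O _
  haveI := hDn
  set K₀ := Cfsg.sectionKernel O ((frattini O).map O.subtype) with hK₀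
  refine CfsgLib.Coprime.le_pCore (N := D) ?_ haD
  have hK₀p : IsPGroup p K₀ := by
    rintro ⟨y, hy⟩
    obtain ⟨j, m, hm, hjm⟩ := Nat.exists_eq_pow_mul_and_not_dvd (orderOf_pos y).ne' p
      (Fact.out : p.Prime).ne_one
    refine ⟨j, Subtype.ext ?_⟩
    show y ^ p ^ j = 1
    set z := y ^ p ^ j with hz
    have hzo : orderOf z = m := by
      rw [hz, orderOf_pow' _ (pow_ne_zero j (Fact.out : p.Prime).ne_zero), hjm,
        Nat.gcd_eq_right (Dvd.intro m rfl),
        Nat.mul_div_cancel_left _ (pow_pos (Fact.out : p.Prime).pos j)]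
    have hcp : (orderOf z).Coprime p := by
      rw [hzo, Nat.coprime_comm]; exact (Fact.out : p.Prime).coprime_iff_not_dvd.2 hm
    have hzC : z ∈ centralizer (O : Set M) := by
      refine CfsgLib.Coprime.le_centralizer_of_trivial_on_frattini_quotient (A := zpowers z)
        (fun w _ => by rw [normalizer_eq_top]; exact mem_top w) ?_ ?_ (mem_zpowers z)
      · obtain ⟨e, he⟩ := (hOp.to_subgroup (frattini O)).exists_card_eq
        rw [he, Nat.card_zpowers]
        exact hcp.pow_right e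
      · intro b hb o ho
        have hb' : b ∈ K₀ := zpowers_le.2 (pow_mem hy (p ^ j)) hb
        have h1 := mem_centralizer_iff.1 (mem_comap.1 hb') _ (mem_map_of_mem _ ho)
        rw [← QuotientGroup.eq_one_iff]
        show QuotientGroup.mk' _ (b * o * b⁻¹ * o⁻¹) = 1
        rw [map_mul, map_mul, map_mul, ← h1, map_inv, map_inv, mul_inv_cancel_right, mul_inv_cancel]
    obtain ⟨e, he⟩ := hOp ⟨z, hc hzC⟩
    have he' : z ^ p ^ e = 1 := congrArg Subtype.val he
    rw [← orderOf_eq_one_iff]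
    exact Nat.eq_one_of_dvd_coprimes (hcp.pow_right e) dvd_rfl (orderOf_dvd_of_pow_eq_one he')
  obtain ⟨e, he⟩ := hK₀p.exists_card_eq
  refine IsPGroup.of_card (n := e + k) ?_
  have := relIndex_mul_relIndex ⊥ K₀ D bot_le hKD
  rw [relIndex_bot_left, relIndex_bot_left, he, hk] at this
  rw [← this, pow_add]

/-- A `p`-element of a `p`-subgroup normalised by the normal subgroup `E`, lying in the preimage of
`O_p(M/E)`, lies in `O_p(M)`. -/
theorem mem_pCore_of_preimage (E : Subgroup M) [hE : E.Normal] (P : Subgroup M) (hP : IsPGroup p P)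
    (hEP : E ≤ normalizer (P : Set M)) (x : M) (hxP : x ∈ P)
    (hx : QuotientGroup.mk' E x ∈ Cfsg.pCore p (M ⧸ E)) : x ∈ Cfsg.pCore p M := by
  haveI := CfsgLib.Coprime.pCore_normal' (G := M) p
  set Q := Cfsg.pCore p M with hQ
  set π := QuotientGroup.mk' Q with hπ
  have hπs : Function.Surjective π := QuotientGroup.mk'_surjective Q
  -- `P ⊓ E` lies in the `p`-core
  have hPE : P ⊓ E ≤ Q := by
    haveI : ((P ⊓ E).subgroupOf E).Normal := by
      refine (normal_subgroupOf_iff_le_normalizer inf_le_right).2 fun e he => ?_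
      refine mem_normalizer_iff.2 fun y => ?_
      rw [mem_inf, mem_inf]
      exact and_congr (mem_normalizer_iff.1 (hEP he) y)
        ⟨fun h => hE.conj_mem y h e, fun h => by simpa [mul_assoc] using hE.conj_mem _ h e⁻¹⟩
    have h1 : (P ⊓ E).subgroupOf E ≤ Cfsg.pCore p E := CfsgLib.Coprime.le_pCore
      ((hP.to_le inf_le_left).comap_of_injective E.subtype E.subtype_injective)
    have h2 := map_mono (f := E.subtype) h1
    rw [map_subgroupOf_eq_of_le inf_le_right, CfsgLib.Coprime.pCore_map_subtype_eq] at h2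
    exact h2.trans inf_le_left
  set L := (Cfsg.pCore p (M ⧸ E)).comap (QuotientGroup.mk' E) with hL
  haveI := CfsgLib.Coprime.pCore_normal' (G := M ⧸ E) p
  haveI hLn : L.Normal := Normal.comap inferInstance _
  haveI : (L.map π).Normal := hLn.map π hπs
  haveI hEn' : (E.map π).Normal := hE.map π hπs
  set C := L.map π ⊓ centralizer ((E.map π : Subgroup (M ⧸ Q)) : Set (M ⧸ Q)) with hC
  haveI : C.Normal := inferInstance
  have hxC : π x ∈ C := by
    refine mem_inf.2 ⟨mem_map_of_mem π hx, mem_centralizer_iff.2 ?_⟩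
    rintro _ ⟨e, he, rfl⟩
    have h1 : x⁻¹ * (e * x * e⁻¹) ∈ P ⊓ E := by
      refine mem_inf.2 ⟨mul_mem (inv_mem hxP) ((mem_normalizer_iff.1 (hEP he) x).1 hxP), ?_⟩
      rw [show x⁻¹ * (e * x * e⁻¹) = x⁻¹ * e * x⁻¹⁻¹ * e⁻¹ by group]
      exact mul_mem (hE.conj_mem e he x⁻¹) (inv_mem he)
    have h2 : π (x⁻¹ * (e * x * e⁻¹)) = 1 := (QuotientGroup.eq_one_iff _).2 (hPE h1)
    rw [map_mul, map_mul, map_mul, map_inv, map_inv, inv_mul_eq_one] at h2
    rw [eq_mul_inv_iff_mul_eq] at h2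
    exact h2.symm
  -- `C` is nilpotent
  let f : C →* (M ⧸ Q) ⧸ E.map π := (QuotientGroup.mk' (E.map π)).comp C.subtype
  have hker : f.ker ≤ center C := by
    intro y hy
    refine mem_center_iff.2 fun c => Subtype.ext ?_
    have hy' : (y : M ⧸ Q) ∈ E.map π := (QuotientGroup.eq_one_iff _).1 hy
    exact (mem_centralizer_iff.1 (mem_inf.1 c.2).2 y hy').symm
  have hrange : IsPGroup p f.range := by
    rintro ⟨_, ⟨c, hc⟩, rfl⟩
    obtain ⟨l, hl, rfl⟩ := (mem_inf.1 hc).1
    obtain ⟨k, hk⟩ := CfsgLib.Coprime.pCore_isPGroup (G := M ⧸ E) p ⟨_, hl⟩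
    refine ⟨k, Subtype.ext ?_⟩
    show QuotientGroup.mk' (E.map π) (π l) ^ p ^ k = 1
    rw [← map_pow, ← map_pow]
    refine (QuotientGroup.eq_one_iff _).2 (mem_map_of_mem π ((QuotientGroup.eq_one_iff _).1 ?_))
    have hk' : QuotientGroup.mk' E l ^ p ^ k = 1 := congrArg Subtype.val hk
    rw [← map_pow] at hk'
    exact hk'
  haveI : Group.IsNilpotent f.range := hrange.isNilpotent
  haveI : Group.IsNilpotent C := Subgroup.isNilpotent_of_ker_le_center f.rangeRestrict
    (by rw [MonoidHom.ker_rangeRestrict]; exact hker)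
  have hCp : Cfsg.pCore p (M ⧸ Q) = ⊥ := CfsgLib.Coprime.pCore_quotient_eq_bot p
  obtain ⟨S, hS⟩ : ∃ S : Sylow p C, (⟨π x, hxC⟩ : C) ∈ (S : Subgroup C) := by
    obtain ⟨k, hk⟩ := hP ⟨x, hxP⟩
    have hzp : IsPGroup p (zpowers (⟨π x, hxC⟩ : C)) := by
      obtain ⟨i, -, hi⟩ := (Nat.dvd_prime_pow Fact.out).1 (orderOf_dvd_of_pow_eq_one
        (show (⟨π x, hxC⟩ : C) ^ p ^ k = 1 from Subtype.ext (by
          rw [SubgroupClass.coe_pow, OneMemClass.coe_one, ← map_pow,
            show x ^ p ^ k = 1 from congrArg Subtype.val hk, map_one])))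
      exact IsPGroup.of_card (n := i) ((Nat.card_zpowers _).trans hi)
    obtain ⟨S, hS⟩ := hzp.exists_le_sylow
    exact ⟨S, hS (mem_zpowers _)⟩
  haveI : (S : Subgroup C).Normal :=
    ((Group.isNilpotent_of_finite_tfae (G := C)).out 0 3 rfl rfl).1 inferInstance p inferInstance S
  haveI := S.characteristic_of_normal inferInstance
  haveI := CfsgLib.Coprime.map_subtype_normal_of_characteristic C (S : Subgroup C)
  have h := CfsgLib.Coprime.le_pCore (N := (S : Subgroup C).map C.subtype) (S.2.map _)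
    (mem_map_of_mem C.subtype hS)
  rw [hCp, mem_bot] at h
  exact (QuotientGroup.eq_one_iff x).1 h

/-- The module generated by the `Ω₁` of the centres of the Sylow subgroups admits no quadratic action. -/
theorem mem_centralizer_sylowModule (hst : Cfsg.IsActionPStable p M)
    (hc : centralizer (Cfsg.pCore p M : Set M) ≤ Cfsg.pCore p M) (x : M)
    (hq : QuadOn (⨆ S : Sylow p M, sylowZ p (S : Subgroup M)) x) :
    x ∈ centralizer ((⨆ S : Sylow p M, sylowZ p (S : Subgroup M) : Subgroup M) : Set M) := by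
  haveI := sylowModule_normal (p := p) (G := M)
  have hVe := sylowModule_elementary hc
  set V := ⨆ S : Sylow p M, sylowZ p (S : Subgroup M) with hV
  set C := centralizer (V : Set M) with hC
  haveI := CfsgLib.Coprime.pCore_normal' (G := M ⧸ C) p
  set D := (Cfsg.pCore p (M ⧸ C)).comap (QuotientGroup.mk' C) with hD
  haveI : D.Normal := Normal.comap inferInstance _
  have hCD : C ≤ D := fun c hc => by
    show QuotientGroup.mk' C c ∈ Cfsg.pCore p _
    rw [show QuotientGroup.mk' C c = 1 from (QuotientGroup.eq_one_iff c).2 hc]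
    exact one_mem _
  obtain ⟨k, hk⟩ := (CfsgLib.Coprime.pCore_isPGroup (G := M ⧸ C) p).exists_card_eq
  have hkD : C.relIndex D = p ^ k := by
    have h := relIndex_comap (f := QuotientGroup.mk' C) ⊥ D
    rw [MonoidHom.comap_bot, QuotientGroup.ker_mk', relIndex_bot_left,
      map_comap_eq_self_of_surjective (QuotientGroup.mk'_surjective C)] at h
    rw [h, hk]
  exact (eq_centralizer_of_generated V (fun S : Sylow p M => sylowZ p (S : Subgroup M))
    (fun S => (sylowZ_le _).trans inf_le_right) hV D hCD ⟨k, hkD⟩).le (hst.1 V hVe x hq)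

end local_

section pair

variable {G : Type u} [Group G] [Finite G] {p : ℕ} [Fact p.Prime]

/-- `O_p(M₁ ∩ M₂)` has its elementary abelian subgroups of largest order inside `O_p(M₁)`. -/
theorem maxEA_le_pCoreOf {M₁ M₂ : Subgroup G}
    (hst₁ : Cfsg.IsActionPStable p M₁) (hst₂ : Cfsg.IsActionPStable p M₂)
    (hc₁ : centralizer (Cfsg.pCore p M₁ : Set M₁) ≤ Cfsg.pCore p M₁)
    (hc₂ : centralizer (Cfsg.pCore p M₂ : Set M₂) ≤ Cfsg.pCore p M₂)
    (h₁ : Cfsg.pCoreOf p M₁ ≤ M₁ ⊓ M₂) (h₂ : Cfsg.pCoreOf p M₂ ≤ M₁ ⊓ M₂)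
    (hne : Cfsg.pCoreOf p M₂ ≠ ⊥)
    (hP : ∀ A : Subgroup G, A ≠ ⊥ → A ≤ M₁ ⊓ M₂ → M₂ ≤ normalizer (A : Set G) →
      M₁ ⊓ normalizer (A : Set G) = M₁ ⊓ M₂)
    {A : Subgroup G} (hA : IsMaxEA p (Cfsg.pCoreOf p (M₁ ⊓ M₂)) A) : A ≤ Cfsg.pCoreOf p M₁ := by
  set H := M₁ ⊓ M₂ with hH
  set P := Cfsg.pCoreOf p H with hPd
  set Q₁ := Cfsg.pCoreOf p M₁ with hQ₁
  have hH1 : H ≤ M₁ := inf_le_left
  have hH2 : H ≤ M₂ := inf_le_right
  have hPp : IsPGroup p P := CfsgLib.LS.pCoreOf_isPGroup H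
  have hPH : P ≤ H := CfsgLib.LS.pCoreOf_le_self H
  have hHP : H ≤ normalizer (P : Set G) :=
    le_normalizer.trans (CfsgLib.LS.normalizer_le_normalizer_pCoreOf H)
  have hM1Q : M₁ ≤ normalizer (Q₁ : Set G) :=
    le_normalizer.trans (CfsgLib.LS.normalizer_le_normalizer_pCoreOf M₁)
  have hQP : Q₁ ≤ P :=
    CfsgLib.LS.le_pCoreOf (CfsgLib.LS.pCoreOf_isPGroup M₁) h₁ (hH1.trans hM1Q)
  -- the module of `M₂`
  set V₀ : Subgroup M₂ := ⨆ S : Sylow p M₂, sylowZ p (S : Subgroup M₂) with hV₀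
  haveI := sylowModule_normal (p := p) (G := M₂)
  have hV₀e := sylowModule_elementary hc₂
  set V : Subgroup G := V₀.map M₂.subtype with hV
  have hVe : Cfsg.IsElementaryAbelian p V := isElementaryAbelian_map _ hV₀e
  have hM2V : M₂ ≤ normalizer (V : Set G) := by
    refine le_trans ?_ (le_normalizer_map M₂.subtype)
    rw [normalizer_eq_top (H := V₀), ← MonoidHom.range_eq_map, range_subtype]
  have hVQ2 : V ≤ Cfsg.pCoreOf p M₂ :=
    map_mono (CfsgLib.Coprime.le_pCore (isPGroup_of_mem_forall hV₀e.2))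
  have hVH : V ≤ H := hVQ2.trans h₂
  have hVne : V ≠ ⊥ := by
    intro h0
    rw [hV, map_eq_bot_iff_of_injective _ M₂.subtype_injective] at h0
    obtain ⟨S⟩ : Nonempty (Sylow p M₂) := inferInstance
    haveI : Nontrivial (S : Subgroup M₂) := by
      rw [nontrivial_iff_ne_bot]
      intro hS
      have h := CfsgLib.Coprime.pCore_le_sylow (G := M₂) S
      rw [hS, le_bot_iff] at h
      exact hne (by rw [Cfsg.pCoreOf, h, Subgroup.map_bot])
    haveI := S.2.center_nontrivial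
    obtain ⟨k, hk⟩ := (S.2.to_subgroup (center (S : Subgroup M₂))).exists_card_eq
    have hk0 : k ≠ 0 := by
      rintro rfl
      have h3 : 1 < Nat.card (center (S : Subgroup M₂)) := Finite.one_lt_card
      rw [hk, pow_zero] at h3
      omega
    obtain ⟨z, hz⟩ := exists_prime_orderOf_dvd_card' (G := center (S : Subgroup M₂)) p
      (hk ▸ dvd_pow_self p hk0)
    have hzo : orderOf ((z : (S : Subgroup M₂)) : M₂) = p := (orderOf_coe _).trans ((orderOf_coe z).trans hz)
    have h4 : ((z : (S : Subgroup M₂)) : M₂) ∈ sylowZ p (S : Subgroup M₂) :=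
      subset_closure ⟨mem_inf.2 ⟨(z : (S : Subgroup M₂)).2, mem_centralizer_iff.2 fun s hs =>
        congrArg Subtype.val (mem_center_iff.1 z.2 ⟨s, hs⟩)⟩, (congrArg (((z : (S : Subgroup M₂)) : M₂) ^ ·) hzo).symm.trans
          (pow_orderOf_eq_one _)⟩
    have h5 := (le_iSup (fun S : Sylow p M₂ => sylowZ p (S : Subgroup M₂)) S) h4
    rw [← hV₀, h0, mem_bot] at h5
    rw [h5, orderOf_one] at hzo
    exact (Fact.out : p.Prime).ne_one hzo.symm
  have hCV : M₁ ⊓ centralizer (V : Set G) ≤ H :=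
    (inf_le_inf_left M₁ (centralizer_le_normalizer _)).trans (hP V hVne hVH hM2V).le
  have hqV : ∀ x ∈ M₂, QuadOn V x → x ∈ centralizer (V : Set G) := by
    intro x hx hq
    have h := mem_centralizer_sylowModule hst₂ hc₂ ⟨x, hx⟩
      (quadOn_of_map M₂.subtype M₂.subtype_injective hq)
    refine mem_centralizer_iff.2 ?_
    rintro _ ⟨w, hw, rfl⟩
    exact congrArg Subtype.val (mem_centralizer_iff.1 h w hw)
  have hVab : ⁅V, V⁆ = ⊥ := by
    rw [commutator_eq_bot_iff_le_centralizer]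
    exact fun a ha => mem_centralizer_iff.2 fun b hb =>
      CfsgLib.EABasic.comm_of_isElementaryAbelian hVe hb ha
  have hVQ1 : V ≤ Q₁ := by
    intro v hv
    refine ⟨⟨v, hH1 (hVH hv)⟩, mem_pCore_of_quad hst₁ hc₁ _ ?_, rfl⟩
    refine le_trans (le_of_eq ?_) bot_le
    rw [← map_eq_bot_iff_of_injective _ M₁.subtype_injective, map_commutator, map_commutator,
      MonoidHom.map_zpowers]
    have h1 : ⁅Q₁, zpowers v⁆ ≤ V := by
      rw [commutator_comm]
      exact (commutator_mono (zpowers_le.2 hv) le_rfl).trans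
        (le_normalizer_iff_commutator_le_left.1 ((h₁.trans hH2).trans hM2V))
    exact le_bot_iff.1 ((commutator_mono h1 (zpowers_le.2 hv)).trans hVab.le)
  -- its normal closure in `M₁`
  set U : Subgroup G := ⨆ g : M₁, V.map (MulAut.conj (g : G)).toMonoidHom with hU
  have hmem : ∀ g : M₁, ∀ v ∈ V, (g : G) * v * (g : G)⁻¹ ∈ U := fun g v hv =>
    (le_iSup (fun g : M₁ => V.map (MulAut.conj (g : G)).toMonoidHom) g) ⟨v, hv, rfl⟩
  have hUQ : U ≤ Q₁ := iSup_le fun g => by
    rintro _ ⟨v, hv, rfl⟩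
    exact (mem_normalizer_iff.1 (hM1Q g.2) v).1 (hVQ1 hv)
  have hVU : V ≤ U := fun v hv => by simpa using hmem 1 v hv
  have hUP : U ≤ P := hUQ.trans hQP
  have hpair : ∀ h ∈ M₁, ∀ v ∈ V, ∀ w ∈ V, Commute (h * v * h⁻¹) w := by
    intro h hh v hv w hw
    set x := h * v * h⁻¹ with hx
    have hxQ : x ∈ Q₁ := (mem_normalizer_iff.1 (hM1Q hh) v).1 (hVQ1 hv)
    set W := V.map (MulAut.conj h).toMonoidHom with hW
    have hxW : x ∈ W := ⟨v, hv, rfl⟩
    have hVW : V ≤ normalizer (W : Set G) := by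
      intro y hy
      refine mem_normalizer_fintype ?_
      rintro _ ⟨u, hu, rfl⟩
      have h1 : h⁻¹ * y * h ∈ normalizer (V : Set G) := by
        have := (mem_normalizer_iff.1 (hM1Q (inv_mem hh)) y).1 (hVQ1 hy)
        rw [inv_inv] at this
        exact hM2V (hH2 (h₁ this))
      refine ⟨h⁻¹ * y * h * u * (h⁻¹ * y * h)⁻¹, (mem_normalizer_iff.1 h1 u).1 hu, ?_⟩
      simp only [MulEquiv.coe_toMonoidHom, MulAut.conj_apply]
      group
    have hWab : ⁅W, W⁆ = ⊥ := by rw [hW, ← map_commutator, hVab, Subgroup.map_bot]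
    have h1 : ⁅V, zpowers x⁆ ≤ W := by
      rw [commutator_comm]
      exact (commutator_mono (zpowers_le.2 hxW) le_rfl).trans
        (le_normalizer_iff_commutator_le_left.1 hVW)
    have hq : QuadOn V x :=
      le_bot_iff.1 ((commutator_mono h1 (zpowers_le.2 hxW)).trans hWab.le)
    exact (mem_centralizer_iff.1 (hqV x (hH2 (h₁ hxQ)) hq) w hw).symm
  have hUe : Cfsg.IsElementaryAbelian p U := by
    have hUc : U ≤ centralizer (U : Set G) := by
      refine iSup_le fun g => ?_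
      rw [le_centralizer_iff]
      refine iSup_le fun k => ?_
      rintro _ ⟨w, hw, rfl⟩
      refine mem_centralizer_iff.2 ?_
      rintro _ ⟨v, hv, rfl⟩
      have h := (hpair ((k : G)⁻¹ * g) (mul_mem (inv_mem k.2) g.2) v hv w hw).map
        (MulAut.conj (k : G)).toMonoidHom
      simp only [MulEquiv.coe_toMonoidHom, MulAut.conj_apply] at h ⊢
      convert h.eq using 1 <;> group
    refine ⟨⟨⟨fun a b => Subtype.ext (mem_centralizer_iff.1 (hUc b.2) a a.2)⟩⟩, fun a ha => ?_⟩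
    induction ha using Subgroup.iSup_induction' with
    | hp g y hy =>
        obtain ⟨v, hv, rfl⟩ := hy
        rw [← map_pow, hVe.2 v hv, map_one]
    | h1 => exact one_pow p
    | hmul a b ha hb iha ihb =>
        rw [(show Commute a b from mem_centralizer_iff.1 (hUc hb) a ha).mul_pow, iha, ihb, one_mul]
  have hM1U : M₁ ≤ normalizer (U : Set G) := by
    intro m hm
    refine mem_normalizer_fintype fun u hu => ?_
    have h1 := mem_map_of_mem (MulAut.conj m).toMonoidHom hu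
    rw [hU, Subgroup.map_iSup] at h1
    refine (iSup_le fun g => ?_ : ⨆ g : M₁, (V.map (MulAut.conj (g : G)).toMonoidHom).map
      (MulAut.conj m).toMonoidHom ≤ U) h1
    rintro _ ⟨_, ⟨v, hv, rfl⟩, rfl⟩
    have h := hmem (⟨m, hm⟩ * g) v hv
    simp only [MulEquiv.coe_toMonoidHom, MulAut.conj_apply]
    convert h using 1
    rw [Subgroup.coe_mul]
    group
  -- the centralizer of `U` in `M₁`
  set U₁ : Subgroup M₁ := U.subgroupOf M₁ with hU₁
  have hUM : U ≤ M₁ := (hUQ.trans h₁).trans hH1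
  haveI : U₁.Normal := (normal_subgroupOf_iff_le_normalizer hUM).2 hM1U
  have hU₁m : U₁.map M₁.subtype = U := map_subgroupOf_eq_of_le hUM
  have hU₁e : Cfsg.IsElementaryAbelian p U₁ := isElementaryAbelian_subgroupOf hUe
  set E := centralizer (U₁ : Set M₁) with hE
  have hEH : ∀ e ∈ E, (e : G) ∈ H := fun e he => hCV ⟨e.2, mem_centralizer_iff.2 fun v hv =>
    congrArg Subtype.val (mem_centralizer_iff.1 he ⟨v, hUM (hVU hv)⟩ (hVU hv))⟩
  set P₁ := P.subgroupOf M₁ with hP₁
  have hP₁p : IsPGroup p P₁ := hPp.comap_of_injective M₁.subtype M₁.subtype_injective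
  have hEP : E ≤ normalizer (P₁ : Set M₁) := fun e he => mem_normalizer_iff.2 fun y =>
    mem_normalizer_iff.1 (hHP (hEH e he)) (y : G)
  have key : ∀ x : M₁, (x : G) ∈ P →
      QuotientGroup.mk' E x ∈ Cfsg.pCore p (M₁ ⧸ E) → x ∈ Cfsg.pCore p M₁ :=
    fun x hx h => mem_pCore_of_preimage E P₁ hP₁p hEP x hx h
  have hAU : A ≤ centralizer (U : Set G) := by
    by_contra hAC
    have hAM : A ≤ normalizer (U : Set G) := hA.1.trans (hPH.trans (hH1.trans hM1U))
    have hoff : Cfsg.IsBestOffenderOn p U A := by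
      refine ⟨fun B hB => ?_, ?_, fun a ha => ?_⟩
      · set W := U ⊓ centralizer (B : Set G) with hW
        have hBe := CfsgLib.EABasic.isElementaryAbelian_le hA.2.1 hB
        have hbu : ∀ b ∈ B, ∀ u ∈ W, b * u = u * b := fun b hb u hu =>
          mem_centralizer_iff.1 hu.2 b hb
        have h2 := hA.2.2 (B ⊔ W) (sup_le (hB.trans hA.1) (inf_le_left.trans hUP))
          (CfsgLib.EABasic.isElementaryAbelian_sup hBe
            (CfsgLib.EABasic.isElementaryAbelian_le hUe inf_le_left) hbu)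
        have h3 : Nat.card (B ⊓ W : Subgroup G) ≤ Nat.card (U ⊓ centralizer (A : Set G) : Subgroup G) :=
          card_le_of_le fun y hy => ⟨hy.2.1, mem_centralizer_iff.2 fun a ha =>
            CfsgLib.EABasic.comm_of_isElementaryAbelian hA.2.1 ha (hB hy.1)⟩
        exact (card_mul_le_sup_inf B W).trans (Nat.mul_le_mul h2 h3)
      · refine commutator_le.2 fun a ha b hb => ?_
        rw [commutatorElement_eq_one_iff_mul_comm.2
          (CfsgLib.EABasic.comm_of_isElementaryAbelian hA.2.1 ha hb)]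
        exact one_mem _
      · rw [hA.2.1.2 a ha]; exact one_mem _
    obtain ⟨-, -, h3⟩ := timmesfeld hUe hAM hoff U le_rfl
    refine h3 (fun h => hAC fun a ha => ?_) ((commutator_eq_bot_iff_le_centralizer).2 ?_)
    · rw [commutator_eq_bot_iff_le_centralizer] at h
      exact mem_centralizer_iff.2 fun u hu => (mem_centralizer_iff.1 (h hu) a ha).symm
    · intro u hu
      refine mem_centralizer_iff.2 fun b hb => ?_
      have hbA : b ∈ A := (mem_inf.1 hb).1
      have hbq : QuadOn U b := by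
        have h1 : ⁅⁅U, A⁆, A ⊓ centralizer ((⁅U, A⁆ : Subgroup G) : Set G)⁆ = ⊥ := by
          rw [commutator_eq_bot_iff_le_centralizer, le_centralizer_iff]
          exact inf_le_right
        exact le_bot_iff.1 ((commutator_mono (commutator_mono le_rfl (zpowers_le.2 hbA))
          (zpowers_le.2 hb)).trans h1.le)
      have hbM : b ∈ M₁ := hH1 (hPH (hA.1 hbA))
      have hb₁ : (⟨b, hbM⟩ : M₁) ∈ Cfsg.pCore p M₁ := by
        refine key _ (hA.1 hbA) (hst₁.1 U₁ hU₁e _ ?_)
        exact quadOn_of_map M₁.subtype M₁.subtype_injective (by rw [hU₁m]; exact hbq)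
      have hbQ : b ∈ Q₁ := ⟨_, hb₁, rfl⟩
      have hbc : U ≤ centralizer ({b} : Set G) := by
        refine iSup_le fun g => ?_
        rintro _ ⟨v, hv, rfl⟩
        have hn : MulAut.conj ((g : G)⁻¹) b ∈ Q₁ :=
          (mem_normalizer_iff.1 (hM1Q (inv_mem g.2)) b).1 hbQ
        have hUm : U.map (MulAut.conj ((g : G)⁻¹)).toMonoidHom ≥ V := fun y hy =>
          ⟨(g : G) * y * (g : G)⁻¹, hmem g y hy, by simp [mul_assoc]⟩
        have hq' := (quadOn_map (MulAut.conj ((g : G)⁻¹)).toMonoidHom hbq).mono hUm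
        have h := (mem_centralizer_iff.1 (hqV _ (hH2 (h₁ hn)) hq') v hv).symm
        refine mem_centralizer_singleton_iff.2 ?_
        simp only [MulEquiv.coe_toMonoidHom, MulAut.conj_apply] at h ⊢
        simp only [inv_inv] at h
        calc (g : G) * v * (g : G)⁻¹ * b
            = (g : G) * (v * ((g : G)⁻¹ * b * g)) * (g : G)⁻¹ := by group
          _ = (g : G) * (((g : G)⁻¹ * b * g) * v) * (g : G)⁻¹ := by rw [h]
          _ = b * ((g : G) * v * (g : G)⁻¹) := by group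
      exact (mem_centralizer_singleton_iff.1 (hbc hu)).symm
  intro a ha
  have haE : (⟨a, hH1 (hPH (hA.1 ha))⟩ : M₁) ∈ E := mem_centralizer_iff.2 fun u hu =>
    Subtype.ext (mem_centralizer_iff.1 (hAU ha) (u : G) hu)
  refine ⟨_, key ⟨a, hH1 (hPH (hA.1 ha))⟩ (hA.1 ha) ?_, rfl⟩
  rw [show QuotientGroup.mk' E ⟨a, hH1 (hPH (hA.1 ha))⟩ = 1 from (QuotientGroup.eq_one_iff _).2 haE]
  exact one_mem _

/-- No primitive pair of characteristic `p` consists of two stable groups. -/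
theorem false_of_stable {M₁ M₂ : Subgroup G} (hne : M₁ ≠ M₂)
    (hst₁ : Cfsg.IsActionPStable p M₁) (hst₂ : Cfsg.IsActionPStable p M₂)
    (hc₁ : centralizer (Cfsg.pCore p M₁ : Set M₁) ≤ Cfsg.pCore p M₁)
    (hc₂ : centralizer (Cfsg.pCore p M₂ : Set M₂) ≤ Cfsg.pCore p M₂)
    (h₁ : Cfsg.pCoreOf p M₁ ≤ M₁ ⊓ M₂) (h₂ : Cfsg.pCoreOf p M₂ ≤ M₁ ⊓ M₂)
    (hq₁ : Cfsg.pCoreOf p M₁ ≠ ⊥) (hq₂ : Cfsg.pCoreOf p M₂ ≠ ⊥)
    (hP₁ : ∀ A : Subgroup G, A ≠ ⊥ → A ≤ M₁ ⊓ M₂ → M₁ ≤ normalizer (A : Set G) →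
      M₂ ⊓ normalizer (A : Set G) = M₁ ⊓ M₂)
    (hP₂ : ∀ A : Subgroup G, A ≠ ⊥ → A ≤ M₁ ⊓ M₂ → M₂ ≤ normalizer (A : Set G) →
      M₁ ⊓ normalizer (A : Set G) = M₁ ⊓ M₂) : False := by
  have hP₁' : ∀ A : Subgroup G, A ≠ ⊥ → A ≤ M₂ ⊓ M₁ → M₁ ≤ normalizer (A : Set G) →
      M₂ ⊓ normalizer (A : Set G) = M₂ ⊓ M₁ := fun A a b c => by
    rw [inf_comm M₂ M₁] at b ⊢; exact hP₁ A a b c
  have k₁ := fun A => maxEA_le_pCoreOf (A := A) hst₁ hst₂ hc₁ hc₂ h₁ h₂ hq₂ hP₂
  have k₂ := fun A => maxEA_le_pCoreOf (A := A) hst₂ hst₁ hc₂ hc₁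
    (h₂.trans (inf_comm M₁ M₂).le) (h₁.trans (inf_comm M₁ M₂).le) hq₁ hP₁'
  rw [inf_comm M₂ M₁] at k₂
  set H := M₁ ⊓ M₂ with hH
  set P := Cfsg.pCoreOf p H with hPd
  have main : ∀ M : Subgroup G, Cfsg.pCoreOf p M ≤ H → H ≤ M →
      (∀ A, IsMaxEA p P A → A ≤ Cfsg.pCoreOf p M) →
      M ≤ normalizer (Cfsg.thompsonSubgroupOf p P : Set G) := by
    intro M hQ hHM hk
    have hQP : Cfsg.pCoreOf p M ≤ P := CfsgLib.LS.le_pCoreOf (CfsgLib.LS.pCoreOf_isPGroup M) hQ
      (hHM.trans (le_normalizer.trans (CfsgLib.LS.normalizer_le_normalizer_pCoreOf M)))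
    have he : Cfsg.thompsonSubgroupOf p P = Cfsg.thompsonSubgroupOf p (Cfsg.pCoreOf p M) := by
      rw [thompsonSubgroupOf_eq, thompsonSubgroupOf_eq]
      refine congrArg sSup (Set.ext fun A => ⟨fun hA => ?_, fun hA => ?_⟩)
      · exact ⟨hk A hA, hA.2.1, fun B hB hBe => hA.2.2 B (hB.trans hQP) hBe⟩
      · obtain ⟨A₀, h₀⟩ := exists_isMaxEA p P
        exact ⟨hA.1.trans hQP, hA.2.1,
          fun B hB hBe => (h₀.2.2 B hB hBe).trans (hA.2.2 A₀ (hk A₀ h₀) h₀.2.1)⟩
    rw [he]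
    exact (le_normalizer.trans (CfsgLib.LS.normalizer_le_normalizer_pCoreOf M)).trans
      (normalizer_le_normalizer_thompsonSubgroupOf _)
  have n₁ := main M₁ h₁ inf_le_left k₁
  have n₂ := main M₂ h₂ inf_le_right k₂
  set J := Cfsg.thompsonSubgroupOf p P with hJ
  have hJ0 : J ≠ ⊥ := by
    intro h0
    obtain ⟨A, hA⟩ := exists_isMaxEA p P
    have hAbot : A = ⊥ := le_bot_iff.1 (h0 ▸ le_thompsonSubgroupOf hA)
    have hQP : Cfsg.pCoreOf p M₁ ≤ P := CfsgLib.LS.le_pCoreOf (CfsgLib.LS.pCoreOf_isPGroup M₁) h₁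
      (inf_le_left.trans (le_normalizer.trans (CfsgLib.LS.normalizer_le_normalizer_pCoreOf M₁)))
    refine hq₁ ?_
    by_contra hQ
    haveI : Nontrivial (Cfsg.pCoreOf p M₁) := (nontrivial_iff_ne_bot _).2 hQ
    obtain ⟨n, hn0, hn⟩ := (CfsgLib.LS.pCoreOf_isPGroup (p := p) M₁).nontrivial_iff_card.1 inferInstance
    obtain ⟨z, hz⟩ := exists_prime_orderOf_dvd_card' (G := Cfsg.pCoreOf p M₁) p (hn ▸ dvd_pow_self p hn0.ne')
    have hzo : orderOf (z : G) = p := (orderOf_coe z).trans hz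
    have hze : Cfsg.IsElementaryAbelian p (zpowers (z : G)) := by
      refine ⟨inferInstance, ?_⟩
      rintro _ ⟨i, rfl⟩
      show ((z : G) ^ i) ^ p = 1
      rw [← zpow_natCast, zpow_comm, zpow_natCast, show (z : G) ^ p = 1 from (congrArg ((z : G) ^ ·) hzo).symm.trans (pow_orderOf_eq_one _),
        one_zpow]
    have h := hA.2.2 _ (zpowers_le.2 (hQP z.2)) hze
    rw [hAbot, Subgroup.card_bot, Nat.card_zpowers, hzo] at h
    exact absurd h (not_le.2 (Fact.out : p.Prime).one_lt)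
  have hJH : J ≤ H := (thompsonSubgroupOf_le P).trans (CfsgLib.LS.pCoreOf_le_self H)
  have e₁ := hP₁ J hJ0 hJH n₁
  have e₂ := hP₂ J hJ0 hJH n₂
  rw [inf_eq_left.2 n₂] at e₁
  rw [inf_eq_left.2 n₁] at e₂
  exact hne (e₂.trans e₁.symm)

/-- For `p = 2` abelian Sylow `2`-subgroups are ruled out directly. -/
theorem sylow_le_pCore {M : Type u} [Group M] [Finite M]
    (hc : centralizer (Cfsg.pCore p M : Set M) ≤ Cfsg.pCore p M) (T : Sylow p M)
    [IsMulCommutative (T : Subgroup M)] : (T : Subgroup M) ≤ Cfsg.pCore p M := by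
  refine le_trans (fun t ht => mem_centralizer_iff.2 fun q hq => ?_) hc
  exact congrArg Subtype.val (IsMulCommutative.is_comm.comm
    (⟨q, CfsgLib.Coprime.pCore_le_sylow T hq⟩ : (T : Subgroup M)) ⟨t, ht⟩)

end pair

end CfsgLib.PrimPairStable
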