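import Cfsg.Agent.Lib.Char.Zassenhaus.SixTypes

/-!
# Solvable stabilisers of quadratic maps with few zeros

`Deg k f`: the `k+1`-st differences of `f : V → ZMod 2` vanish. Over more than `2 ^ k` points such a
function sums to zero, which forces parities on the fibres of quadratic maps into small groups.
-/

set_option autoImplicit false

namespace CfsgLib.QuadZero

open Subgroup

variable {V : Type*} [Group V]

/-- Degree at most `k`. -/
def Deg : ℕ → (V → ZMod 2) → Prop
  | 0, f => ∀ u v, f u = f v
  | k + 1, f => ∀ e, Deg k fun v => f (e * v) + f v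

theorem Deg.add : ∀ {k : ℕ} {f g : V → ZMod 2}, Deg k f → Deg k g → Deg k fun v => f v + g v
  | 0, _, _, hf, hg => fun u v => by simp only [hf u v, hg u v]
  | k + 1, f, g, hf, hg => fun e => by
      have := (hf e).add (hg e)
      convert this using 1
      funext v; ring

theorem Deg.shift : ∀ {k : ℕ} {f : V → ZMod 2}, (∀ a b : V, a * b = b * a) → Deg k f → ∀ c,
    Deg k fun v => f (c * v)
  | 0, _, _, hf, _ => fun u v => hf _ _
  | k + 1, f, hc', hf, c => fun e => by
      have := (hf e).shift hc' c
      convert this using 1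
      funext v
      dsimp only
      rw [← mul_assoc e, ← mul_assoc c, hc' e c]

theorem Deg.succ : ∀ {k : ℕ} {f : V → ZMod 2}, Deg k f → Deg (k + 1) f
  | 0, f, hf => fun e u v => by simp only [hf (e * u) (e * v), hf u v]
  | k + 1, f, hf => fun e => (hf e).succ

theorem Deg.mono {k l : ℕ} {f : V → ZMod 2} (hf : Deg k f) (h : k ≤ l) : Deg l f := by
  induction l, h using Nat.le_induction with
  | base => exact hf
  | succ l _ ih => exact ih.succ

theorem deg_const (c : ZMod 2) : Deg 0 fun _ : V => c := fun _ _ => rfl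

theorem Deg.smul : ∀ {k : ℕ} {f : V → ZMod 2}, Deg k f → ∀ c : ZMod 2, Deg k fun v => c * f v
  | 0, _, hf, _ => fun u v => by simp only [hf u v]
  | k + 1, f, hf, c => fun e => by
      have := (hf e).smul c
      convert this using 1
      funext v; ring

theorem Deg.mul (hc : ∀ a b : V, a * b = b * a) : ∀ {n a b : ℕ}, a + b = n → ∀ {f g : V → ZMod 2},
    Deg a f → Deg b g → Deg n fun v => f v * g v := by
  intro n
  induction n with
  | zero =>
    intro a b hab f g hf hg
    obtain ⟨rfl, rfl⟩ : a = 0 ∧ b = 0 := by omega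
    exact fun u v => by simp only [hf u v, hg u v]
  | succ n ih =>
    intro a b hab f g hf hg e
    rcases a with _ | a
    · obtain rfl : b = n + 1 := by omega
      have := (hg e).smul (f 1)
      convert this using 1
      funext v
      dsimp only
      rw [hf (e * v) 1, hf v 1]; ring
    rcases b with _ | b
    · obtain rfl : a = n := by omega
      have := (hf e).smul (g 1)
      convert this using 1
      funext v
      dsimp only
      rw [hg (e * v) 1, hg v 1]; ring
    have h1 := ih (a := a) (b := b + 1) (by omega) (hf e) (hg.shift hc e)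
    have h2 := ih (a := a + 1) (b := b) (by omega) hf (hg e)
    have := h1.add h2
    convert this using 1
    funext v
    have hz : ∀ w : ZMod 2, w + w = 0 := by decide
    linear_combination -(hz (f v * g (e * v)))

theorem deg_one_of_hom (φ : V → ZMod 2) (h : ∀ a b, φ (a * b) = φ a + φ b) : Deg 1 φ := fun e u v => by
  simp only [h]
  have hz : ∀ w : ZMod 2, w + w = 0 := by decide
  linear_combination hz (φ u) - hz (φ v)

/-- Over more than `2 ^ k` points the sum vanishes. -/
theorem sum_eq_zero : ∀ {k : ℕ} {V : Type*} [CommGroup V] [Fintype V], (∀ v : V, v * v = 1) →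
    ∀ {f : V → ZMod 2}, Deg k f → 2 ^ k < Fintype.card V → ∑ v, f v = 0 := by
  intro k
  induction k with
  | zero =>
    intro V _ _ h2 f hf hcard
    classical
    obtain ⟨e, he⟩ := Fintype.exists_ne_of_one_lt_card (by simpa using hcard) (1 : V)
    refine Finset.sum_involution (fun v _ => e * v) (fun v _ => ?_) (fun v _ _ h => he ?_)
      (fun v _ => Finset.mem_univ _) (fun v _ => by rw [← mul_assoc, h2, one_mul])
    · rw [hf (e * v) v]; exact (by decide : ∀ w : ZMod 2, w + w = 0) _
    · exact mul_eq_right.1 h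
  | succ k ih =>
    intro V _ _ h2 f hf hcard
    classical
    have h1 : 1 < Fintype.card V := lt_of_le_of_lt (Nat.one_le_two_pow) hcard
    obtain ⟨e, he⟩ := Fintype.exists_ne_of_one_lt_card h1 (1 : V)
    set N := zpowers e
    let π : V →* V ⧸ N := QuotientGroup.mk' N
    let Δ : V → ZMod 2 := fun v => f (e * v) + f v
    have hmem : ∀ v, v ∈ N → v = 1 ∨ v = e := by
      rintro v ⟨i, rfl⟩
      rcases Int.even_or_odd i with ⟨j, rfl⟩ | ⟨j, rfl⟩
      · left; dsimp only; rw [zpow_add, ← mul_zpow, h2, one_zpow]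
      · right; dsimp only; rw [two_mul, zpow_add, zpow_add, ← mul_zpow, h2, one_zpow, one_mul, zpow_one]
    have hwd : ∀ u v, π u = π v → Δ u = Δ v := by
      intro u v huv
      rcases hmem _ (QuotientGroup.eq.1 huv) with h | h
      · rw [inv_mul_eq_one.1 h]
      · rw [inv_mul_eq_iff_eq_mul.1 h, mul_comm u e]
        simp only [Δ]
        rw [← mul_assoc, h2, one_mul, add_comm]
    let g : V ⧸ N → ZMod 2 := fun x => Δ (QuotientGroup.mk'_surjective N x).choose
    have hg : ∀ v, g (π v) = Δ v := fun v => hwd _ _ (QuotientGroup.mk'_surjective N (π v)).choose_spec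
    have hdeg : ∀ {m : ℕ} {h : V ⧸ N → ZMod 2}, Deg m (h ∘ π) → Deg m h := by
      intro m
      induction m with
      | zero =>
        intro h hh x y
        obtain ⟨u, rfl⟩ := QuotientGroup.mk'_surjective N x
        obtain ⟨w, rfl⟩ := QuotientGroup.mk'_surjective N y
        exact hh u w
      | succ m ihm =>
        intro h hh x
        obtain ⟨u, rfl⟩ := QuotientGroup.mk'_surjective N x
        refine ihm ?_
        have := hh u
        convert this using 1
        funext w
        simp only [Function.comp_apply, π, map_mul]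
    have hgd : Deg k g := hdeg (by
      have := hf e
      convert this using 1
      funext v; exact hg v)
    have hN : Nat.card N = 2 := by
      rw [Nat.card_zpowers, orderOf_eq_prime (by rw [pow_two]; exact h2 e) he]
    have hq : 2 * Fintype.card (V ⧸ N) = Fintype.card V := by
      have := N.card_eq_card_quotient_mul_card_subgroup
      rw [hN, Nat.card_eq_fintype_card, Nat.card_eq_fintype_card] at this
      omega
    have h0 := ih (V := V ⧸ N) (fun x => by
      obtain ⟨u, rfl⟩ := QuotientGroup.mk'_surjective N x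
      rw [← map_mul, h2, map_one]) hgd (by rw [pow_succ] at hcard; omega)
    -- each coset contributes `Δ`
    rw [← h0, ← Finset.sum_fiberwise Finset.univ (fun v => π v) f]
    refine Finset.sum_congr rfl fun x _ => ?_
    obtain ⟨v, rfl⟩ := QuotientGroup.mk'_surjective N x
    rw [hg v, show (Finset.univ.filter fun w => π w = π v) = {e * v, v} from ?_,
      Finset.sum_pair (fun h => he (mul_eq_right.1 h))]
    ext w
    simp only [Finset.mem_filter, Finset.mem_univ, true_and, Finset.mem_insert, Finset.mem_singleton]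
    constructor
    · intro hw
      rcases hmem _ (QuotientGroup.eq.1 hw.symm) with h | h
      · exact Or.inr (inv_mul_eq_one.1 h).symm
      · exact Or.inl (by rw [inv_mul_eq_iff_eq_mul.1 h, mul_comm])
    · rintro (rfl | rfl)
      · rw [map_mul, show π e = 1 from (QuotientGroup.eq_one_iff e).2 (mem_zpowers e), one_mul]
      · rfl

/-- The indicator of a set. -/
noncomputable def ind (S : Set V) : V → ZMod 2 := fun v =>
  haveI := Classical.propDecidable (v ∈ S); if v ∈ S then 1 else 0

theorem sum_ind [Fintype V] (S : Set V) : ∑ v, ind S v = (Nat.card S : ZMod 2) := by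
  classical
  simp only [ind]
  rw [Finset.sum_ite, Finset.sum_const_zero, add_zero, Finset.sum_const, nsmul_one,
    Nat.card_eq_fintype_card, Fintype.card_subtype]

theorem deg_ind_compl_of_index_two {U : Subgroup V} (hU : U.index = 2) : Deg 1 (ind ((U : Set V)ᶜ)) := by
  refine deg_one_of_hom _ fun a b => ?_
  simp only [ind, Set.mem_compl_iff, SetLike.mem_coe]
  have := Subgroup.mul_mem_iff_of_index_two hU (a := a) (b := b)
  by_cases ha : a ∈ U <;> by_cases hb : b ∈ U <;> simp_all <;> decide

/-! ## Solvable stabilisers -/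

theorem isSolvable_of_card_le_six {Q : Type*} [Group Q] [Finite Q] (h : Nat.card Q ∣ 6) :
    Group.IsSolvable Q :=
  Char.Zassenhaus.isSolvable_of_dvd_sixty (h.trans (by norm_num)) fun e => by rw [e] at h; omega

theorem isSolvable_mulAut_of_card_le_four {Q : Type*} [Group Q] [Finite Q] (h : Nat.card Q ≤ 4) :
    Group.IsSolvable (MulAut Q) := by
  classical
  haveI : Finite (MulAut Q) := Finite.of_injective (fun σ => ⇑σ) DFunLike.coe_injective
  let W := {v : Q // v ≠ 1}
  let ι : MulAut Q →* Equiv.Perm W :=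
    { toFun := fun σ => (σ.toEquiv).subtypeEquiv fun v => by simp
      map_one' := Equiv.ext fun v => Subtype.ext rfl
      map_mul' := fun σ τ => Equiv.ext fun v => Subtype.ext rfl }
  have hι : Function.Injective ι := fun σ τ e => MulEquiv.ext fun v => by
    rcases eq_or_ne v 1 with rfl | hv
    · rw [map_one, map_one]
    · exact congrArg Subtype.val (Equiv.congr_fun e ⟨v, hv⟩)
  have hW : Nat.card W ≤ 3 := by
    haveI := Fintype.ofFinite Q
    rw [Nat.card_eq_fintype_card, Fintype.card_subtype_compl, Fintype.card_subtype_eq]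
    rw [Nat.card_eq_fintype_card] at h
    omega
  refine isSolvable_of_card_le_six ((Subgroup.card_dvd_of_injective ι hι).trans ?_)
  rw [Nat.card_perm]
  exact Nat.factorial_dvd_factorial hW

/-- A group fixing a small-index subgroup pointwise, on an abelian group. -/
theorem isSolvable_of_fix_subgroup {V : Type*} [CommGroup V] [Finite V] (S : Subgroup V)
    (hS : S.index ≤ 4) (G : Subgroup (MulAut V)) (hG : ∀ σ ∈ G, ∀ s ∈ S, σ s = s) :
    Group.IsSolvable G := by
  haveI : Finite (MulAut V) := Finite.of_injective (fun σ => ⇑σ) DFunLike.coe_injective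
  haveI : Finite (MulAut (V ⧸ S)) := Finite.of_injective (fun σ => ⇑σ) DFunLike.coe_injective
  let ρ : G →* MulAut (V ⧸ S) :=
    { toFun := fun σ => QuotientGroup.congr S S σ.1 (by
        ext v
        refine ⟨fun ⟨w, hw, hwv⟩ => ?_, fun hv => ⟨v, hv, hG _ σ.2 v hv⟩⟩
        rw [← hwv]; exact (hG _ σ.2 w hw).symm ▸ hw)
      map_one' := MulEquiv.ext fun x => by
        induction x using QuotientGroup.induction_on with | _ v => rfl
      map_mul' := fun σ τ => MulEquiv.ext fun x => by
        induction x using QuotientGroup.induction_on with | _ v => rfl }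
  haveI : Group.IsSolvable (MulAut (V ⧸ S)) :=
    isSolvable_mulAut_of_card_le_four (by rw [← Subgroup.index_eq_card]; exact hS)
  have hmove : ∀ σ : ρ.ker, ∀ v : V, v⁻¹ * σ.1.1 v ∈ S := by
    intro σ v
    have h := MulEquiv.ext_iff.1 (MonoidHom.mem_ker.1 σ.2) (v : V ⧸ S)
    exact QuotientGroup.eq.1 h.symm
  haveI : Group.IsSolvable ρ.ker := Group.isSolvable_of_comm fun σ τ => by
    refine Subtype.ext (Subtype.ext (MulEquiv.ext fun v => ?_))
    show σ.1.1 (τ.1.1 v) = τ.1.1 (σ.1.1 v)
    have e1 : σ.1.1 (τ.1.1 v) = σ.1.1 v * (v⁻¹ * τ.1.1 v) := by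
      conv_lhs => rw [← mul_inv_cancel_left v (τ.1.1 v)]
      rw [map_mul, hG _ σ.1.2 _ (hmove τ v)]
    have e2 : τ.1.1 (σ.1.1 v) = τ.1.1 v * (v⁻¹ * σ.1.1 v) := by
      conv_lhs => rw [← mul_inv_cancel_left v (σ.1.1 v)]
      rw [map_mul, hG _ τ.1.2 _ (hmove σ v)]
    rw [e1, e2]
    simp [mul_comm, mul_left_comm]
  exact Group.isSolvable_of_ker_le_range (ρ.ker.subtype) ρ (by rw [Subgroup.range_subtype])

theorem perm_five_nonsolvable {H : Subgroup (Equiv.Perm (Fin 5))} (h : ¬ Group.IsSolvable H) :
    alternatingGroup (Fin 5) ≤ H := by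
  by_contra hle
  apply h
  set K := (alternatingGroup (Fin 5)).subgroupOf H
  haveI : Group.IsSolvable K := by
    let e := Subgroup.subgroupOfEquivOfLe (inf_le_right : alternatingGroup (Fin 5) ⊓ H ≤ H)
    have hKe : Nat.card K = Nat.card ↥(alternatingGroup (Fin 5) ⊓ H : Subgroup (Equiv.Perm (Fin 5))) := by
      rw [← Nat.card_congr e.toEquiv, Subgroup.inf_subgroupOf_right]
    have h60 : Nat.card (alternatingGroup (Fin 5)) = 60 := by
      rw [nat_card_alternatingGroup, Nat.card_eq_fintype_card, Fintype.card_fin]; rfl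
    refine Char.Zassenhaus.isSolvable_of_dvd_sixty (hKe ▸ h60 ▸ Subgroup.card_dvd_of_le inf_le_left)
      fun e60 => hle ?_
    rw [hKe] at e60
    exact inf_eq_left.1 (Subgroup.eq_of_le_of_card_ge inf_le_left (h60.trans e60.symm).le)
  exact Group.isSolvable_of_ker_le_range K.subtype (Equiv.Perm.sign.comp H.subtype) (by
    rw [Subgroup.range_subtype]
    intro x hx
    exact mem_subgroupOf.2 hx)

/-- Number of points in the support. -/
def wt (c : Fin 5 → ZMod 2) : ℕ := (Finset.univ.filter fun i => c i ≠ 0).card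

theorem five_move : ∀ c : Fin 5 → ZMod 2, c ≠ 0 → c ≠ 1 →
    wt c = 1 ∨ wt c = 2 ∨ ∃ i j k : Fin 5, i ≠ j ∧ j ≠ k ∧ i ≠ k ∧
      wt (c + fun x => c ((Equiv.swap i j * Equiv.swap j k) x)) = 2 := by
  decide +kernel

theorem five_pairs : ∀ a b a' b' : Fin 5, a ≠ b → a' ≠ b' →
    ∃ σ : Equiv.Perm (Fin 5), Equiv.Perm.sign σ = 1 ∧ σ a = a' ∧ σ b = b' := by
  decide +kernel

variable {V : Type*} [CommGroup V] [Fintype V]

/-- A group preserving five spanning-free points and another five. -/
theorem no_five_five (h2 : ∀ v : V, v * v = 1) (hcard : Fintype.card V ≤ 16) (p : Fin 5 → V)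
    (hp : Function.Injective p) (hp1 : ∀ i, p i ≠ 1) (T : Finset V) (hT : T.card ≤ 5) (hTne : T.Nonempty)
    (hT1 : (1 : V) ∉ T) (hTp : ∀ i, p i ∉ T)
    (hsym : ∀ σ ∈ alternatingGroup (Fin 5), ∃ g : MulAut V, (∀ i, g (p i) = p (σ i)) ∧ ∀ v ∈ T, g v ∈ T) :
    False := by
  classical
  let φ : (Fin 5 → ZMod 2) → V := fun c => ∏ i, p i ^ (c i).val
  have hadd : ∀ c d, φ (c + d) = φ c * φ d := fun c d => by
    simp only [φ, ← Finset.prod_mul_distrib]
    refine Finset.prod_congr rfl fun i _ => ?_
    have key : ∀ a b : ZMod 2, (a + b).val = a.val + b.val ∨ (a.val = 1 ∧ b.val = 1 ∧ (a + b).val = 0) := by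
      decide
    rcases key (c i) (d i) with h | ⟨ha, hb, hab⟩
    · rw [Pi.add_apply, h, pow_add]
    · rw [Pi.add_apply, hab, ha, hb, pow_zero, pow_one, h2]
  have hval : ∀ c, φ c = ∏ i ∈ Finset.univ.filter fun i => c i ≠ 0, p i := fun c => by
    simp only [φ]
    rw [Finset.prod_filter]
    refine Finset.prod_congr rfl fun i _ => ?_
    have key : ∀ a : ZMod 2, a ≠ 0 → a.val = 1 := by decide
    split_ifs with h
    · rw [key _ h, pow_one]
    · rw [not_not.1 h, ZMod.val_zero, pow_zero]
  have hone : ∀ c, wt c = 1 → ∃ i, φ c = p i := fun c hc => by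
    obtain ⟨i, hi⟩ := Finset.card_eq_one.1 hc
    exact ⟨i, by rw [hval, hi, Finset.prod_singleton]⟩
  have htwo : ∀ c, wt c = 2 → φ c ≠ 1 := fun c hc => by
    obtain ⟨i, j, hij, he⟩ := Finset.card_eq_two.1 hc
    rw [hval, he, Finset.prod_pair hij]
    intro e
    exact hij (hp (by rw [eq_inv_of_mul_eq_one_left e, inv_eq_of_mul_eq_one_right (h2 _)]))
  have hact : ∀ σ ∈ alternatingGroup (Fin 5), ∃ g : MulAut V,
      (∀ c, g (φ fun x => c (σ x)) = φ c) ∧ ∀ v ∈ T, g v ∈ T := fun σ hσ => by
    obtain ⟨g, hg, hgT⟩ := hsym σ hσ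
    refine ⟨g, fun c => ?_, hgT⟩
    simp only [φ, map_prod, map_pow, hg]
    exact Equiv.prod_comp σ fun i => p i ^ (c i).val
  have hker : ∀ c, φ c = 1 → c = 0 ∨ c = 1 := by
    intro c hc
    by_contra h
    push Not at h
    rcases five_move c h.1 h.2 with h1 | h1 | ⟨i, j, k, hij, hjk, hik, h1⟩
    · obtain ⟨i, hi⟩ := hone c h1
      exact hp1 i (hi ▸ hc)
    · exact htwo c h1 hc
    · have hσ : Equiv.swap i j * Equiv.swap j k ∈ alternatingGroup (Fin 5) := by
        rw [Equiv.Perm.mem_alternatingGroup, map_mul, Equiv.Perm.sign_swap hij, Equiv.Perm.sign_swap hjk]; rfl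
      obtain ⟨g, hg, -⟩ := hact _ hσ
      refine htwo _ h1 ?_
      rw [hadd, hc, one_mul]
      apply g.injective
      rw [hg c, hc, map_one]
  have hfib : ∀ c d, φ c = φ d → d = c ∨ d = c + 1 := fun c d h => by
    have hz : ∀ a : ZMod 2, a + a = 0 := by decide
    have h1 : φ (c + d) = 1 := by rw [hadd, h, h2]
    rcases hker _ h1 with h | h
    · left; funext i; have := congrFun h i; simp only [Pi.add_apply, Pi.zero_apply] at this
      linear_combination this - hz (c i)
    · right; funext i; have := congrFun h i; simp only [Pi.add_apply, Pi.one_apply] at this ⊢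
      linear_combination this - hz (c i)
  have hφ1 : φ 1 = 1 := by
    by_contra h
    have hinj : Function.Injective φ := fun c d e => by
      rcases hfib c d e with h' | h'
      · exact h'.symm
      · exact absurd (by rw [h', hadd, left_eq_mul] at e; exact e) h
    have := Fintype.card_le_of_injective φ hinj
    simp at this
    omega
  have himg : ∀ v, ∃ c, φ c = v ∧ wt c ≤ 2 := by
    intro v
    have hsurj : (Finset.univ.image φ) = Finset.univ := by
      apply Finset.eq_univ_of_card
      refine le_antisymm (Finset.card_le_univ _) (hcard.trans ?_)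
      have hle : (Finset.univ : Finset (Fin 5 → ZMod 2)).card ≤ 2 * (Finset.univ.image φ).card :=
        Finset.card_le_mul_card_image Finset.univ 2 fun b hb => by
          obtain ⟨c, -, rfl⟩ := Finset.mem_image.1 hb
          refine (Finset.card_le_card fun d hd => ?_).trans (Finset.card_le_two (a := c) (b := c + 1))
          rw [Finset.mem_filter] at hd
          simpa using hfib c d hd.2.symm
      simp at hle
      omega
    obtain ⟨c, -, hc⟩ := Finset.mem_image.1 (hsurj ▸ Finset.mem_univ v)
    have key : ∀ c : Fin 5 → ZMod 2, wt c ≤ 2 ∨ wt (c + 1) ≤ 2 := by decide +kernel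
    rcases key c with h | h
    · exact ⟨c, hc, h⟩
    · exact ⟨c + 1, by rw [hadd, hφ1, mul_one, hc], h⟩
  obtain ⟨v, hv⟩ := hTne
  obtain ⟨c, hc, hw⟩ := himg v
  rcases (show wt c = 0 ∨ wt c = 1 ∨ wt c = 2 by omega) with h | h | h
  · refine hT1 ?_
    rw [← hc, hval, Finset.card_eq_zero.1 h, Finset.prod_empty] at hv
    exact hv
  · obtain ⟨i, hi⟩ := hone c h
    exact hTp i (by rw [← hi, hc]; exact hv)
  obtain ⟨a, b, hab, he⟩ := Finset.card_eq_two.1 h
  -- all ten pairs lie in `T`
  have hall : ∀ a' b', a' ≠ b' → p a' * p b' ∈ T := by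
    intro a' b' hab'
    obtain ⟨σ, hσ, ha, hb⟩ := five_pairs a b a' b' hab hab'
    obtain ⟨g, hg, hgT⟩ := hsym σ (Equiv.Perm.mem_alternatingGroup.2 hσ)
    rw [← ha, ← hb, ← hg, ← hg, ← map_mul, ← Finset.prod_pair hab, ← he, ← hval, hc]
    exact hgT v hv
  let P : Finset (Fin 5 × Fin 5) := Finset.univ.filter fun x => x.1 < x.2
  let d : Fin 5 × Fin 5 → Fin 5 → ZMod 2 := fun x i => if i = x.1 ∨ i = x.2 then 1 else 0
  have hd : ∀ x ∈ P, φ (d x) = p x.1 * p x.2 := fun x hx => by
    have hne : x.1 ≠ x.2 := ne_of_lt (Finset.mem_filter.1 hx).2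
    rw [hval, ← Finset.prod_pair hne]
    refine Finset.prod_congr ?_ fun _ _ => rfl
    ext i
    simp [d, or_iff_not_imp_left]
  have hinj : ∀ x y : Fin 5 × Fin 5, x.1 < x.2 → y.1 < y.2 → (d y = d x ∨ d y = d x + 1) → x = y := by
    simp only [d]
    decide +kernel
  have h10 : P.card ≤ T.card := Finset.card_le_card_of_injOn (fun x => p x.1 * p x.2)
    (fun x hx => hall _ _ (ne_of_lt (Finset.mem_filter.1 hx).2)) fun x hx y hy e => by
      refine hinj x y (Finset.mem_filter.1 hx).2 (Finset.mem_filter.1 hy).2 (hfib _ _ ?_)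
      rw [hd x hx, hd y hy]; exact e
  have : P.card = 10 := by decide
  omega

/-- The stabiliser of a quadratic map with few zeros is solvable. -/
theorem isSolvable_preserving (h2 : ∀ v : V, v * v = 1) {W : Type*} [CommGroup W] [Finite W]
    (hW2 : ∀ w : W, w * w = 1) (hW : Nat.card W ≤ 4) (q : V → W) (hq1 : q 1 = 1)
    (hquad : ∀ e f v, q (e * (f * v)) * q (e * v) * q (f * v) * q v = q (e * f) * q e * q f)
    (hzero : Nat.card {v : V // q v = 1} ≤ 2)
    (hzero4 : 2 < Nat.card W → ∀ v, q v = 1 → v = 1)
    (G : Subgroup (MulAut V)) (hG : ∀ σ ∈ G, ∀ v, q (σ v) = q v) : Group.IsSolvable G := by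
  classical
  haveI : Finite (MulAut V) := Finite.of_injective (fun σ => ⇑σ) DFunLike.coe_injective
  haveI := Fintype.ofFinite W
  have hV2 : IsPGroup 2 V := fun v => ⟨1, by rw [pow_one, pow_two]; exact h2 v⟩
  obtain ⟨n, hn⟩ := IsPGroup.iff_card.1 hV2
  rw [Nat.card_eq_fintype_card] at hn
  by_cases hsmall : Fintype.card V ≤ 4
  · haveI := isSolvable_mulAut_of_card_le_four (Q := V) (by rwa [Nat.card_eq_fintype_card])
    infer_instance
  -- zero sets of the components
  have hdeg : ∀ U : Subgroup W, U.index = 2 → Deg 2 (ind {v | q v ∈ U}) := by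
    intro U hU
    have hl : ∀ a b : W, ind (U : Set W)ᶜ (a * b) = ind (U : Set W)ᶜ a + ind (U : Set W)ᶜ b := by
      intro a b
      simp only [ind, Set.mem_compl_iff, SetLike.mem_coe]
      have := Subgroup.mul_mem_iff_of_index_two hU (a := a) (b := b)
      by_cases ha : a ∈ U <;> by_cases hb : b ∈ U <;> simp_all <;> decide
    have he : ind {v | q v ∈ U} = fun v => ind (U : Set W)ᶜ (q v) + 1 := by
      funext v
      simp only [ind, Set.mem_setOf_eq, Set.mem_compl_iff, SetLike.mem_coe]
      by_cases h : q v ∈ U <;> simp [h] <;> decide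
    rw [he]
    intro e f u w
    have key : ∀ t, ind (U : Set W)ᶜ (q (e * (f * t))) + ind (U : Set W)ᶜ (q (e * t)) +
        ind (U : Set W)ᶜ (q (f * t)) + ind (U : Set W)ᶜ (q t) = ind (U : Set W)ᶜ (q (e * f) * q e * q f) :=
      fun t => by rw [← hquad e f t, hl, hl, hl]
    have hz : ∀ a : ZMod 2, a + a = 0 := by decide
    linear_combination key u - key w
  have hfun : ∀ u : V, u ≠ 1 → ∃ U : Subgroup V, U.index = 2 ∧ u ∉ U := by
    intro u hu
    obtain ⟨U, hU, hmax⟩ := (Set.toFinite {U : Subgroup V | u ∉ U}).exists_maximal ⟨⊥, by simpa using hu⟩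
    refine ⟨U, ?_, hU⟩
    rw [Subgroup.index_eq_two_iff]
    refine ⟨u, fun b => ?_⟩
    by_cases hb : b ∈ U
    · exact Or.inr ⟨hb, fun h => hU ((mul_mem_cancel_left hb).1 h)⟩
    · refine Or.inl ⟨?_, hb⟩
      have hlt : ¬ U ⊔ zpowers b ≤ U := fun h => hb (h (mem_sup_right (mem_zpowers b)))
      have hu' : u ∈ U ⊔ zpowers b := by
        by_contra h
        exact hlt (hmax h le_sup_left)
      obtain ⟨x, hx, y, ⟨i, rfl⟩, hxy⟩ := Subgroup.mem_sup.1 hu'
      rcases Int.even_or_odd i with ⟨j, rfl⟩ | ⟨j, rfl⟩
      · exfalso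
        dsimp only at hxy
        rw [zpow_add, ← mul_zpow, h2, one_zpow, mul_one] at hxy
        exact hU (hxy ▸ hx)
      · dsimp only at hxy
        rw [two_mul, zpow_add, zpow_add, ← mul_zpow, h2, one_zpow, one_mul, zpow_one] at hxy
        rw [← hxy, mul_left_comm, h2, mul_one]
        exact hx
  -- a group permuting a small set
  have hperm : ∀ w : W, w ≠ 1 → ∀ F : Finset V, (∀ v, v ∈ F ↔ q v = w) → F.card ≤ 3 →
      (closure (F : Set V)).index ≤ 4 → Group.IsSolvable G := by
    intro w _ F hF hF3 hidx
    let π : G →* Equiv.Perm F :=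
      { toFun := fun σ => σ.1.toEquiv.subtypeEquiv fun v => by
          show v ∈ F ↔ σ.1 v ∈ F
          rw [hF, hF, hG _ σ.2]
        map_one' := Equiv.ext fun v => Subtype.ext rfl
        map_mul' := fun σ τ => Equiv.ext fun v => Subtype.ext rfl }
    haveI : Group.IsSolvable (Equiv.Perm F) := isSolvable_of_card_le_six (by
      rw [Nat.card_perm, Nat.card_eq_fintype_card, Fintype.card_coe]
      exact Nat.factorial_dvd_factorial hF3)
    haveI : Group.IsSolvable π.ker := by
      haveI := isSolvable_of_fix_subgroup (closure (F : Set V)) hidx (π.ker.map G.subtype) (by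
        rintro _ ⟨σ, hσ, rfl⟩ s hs
        induction hs using closure_induction with
        | mem x hx => exact congrArg Subtype.val (Equiv.congr_fun (MonoidHom.mem_ker.1 hσ) ⟨x, hx⟩)
        | one => exact map_one _
        | mul a b _ _ ha hb => rw [map_mul, ha, hb]
        | inv a _ ha => rw [map_inv, ha])
      exact Group.isSolvable_of_isSolvable_injective
        (f := (Subgroup.equivMapOfInjective π.ker G.subtype G.subtype_injective).toMonoidHom)
        (Subgroup.equivMapOfInjective π.ker G.subtype G.subtype_injective).injective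
    exact Group.isSolvable_of_ker_le_range π.ker.subtype π (by rw [Subgroup.range_subtype])
  have hpar : ∀ U : Subgroup W, U.index = 2 → (Nat.card {v : V // q v ∈ U} : ZMod 2) = 0 := by
    intro U hU
    have h := sum_eq_zero h2 (hdeg U hU) (by norm_num; omega)
    rwa [sum_ind] at h
  have hprod : ∀ U : Subgroup W, U.index = 2 → ∀ u : V, 8 < Fintype.card V → u ≠ 1 →
      (∀ v, q v ∈ U → v = 1 ∨ v = u) → False := by
    intro U hU u h8 hu hall
    obtain ⟨L, hL, huL⟩ := hfun u hu
    have h1 : Deg 1 (ind (L : Set V)) := by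
      have := (deg_ind_compl_of_index_two hL).add ((deg_const (1 : ZMod 2)).succ)
      convert this using 1
      funext v
      simp only [ind, Set.mem_compl_iff, SetLike.mem_coe]
      by_cases h : v ∈ L <;> simp [h] <;> decide
    have h := sum_eq_zero h2 (Deg.mul mul_comm (n := 3) (a := 2) (b := 1) rfl (hdeg U hU) h1) (by norm_num; omega)
    rw [Finset.sum_eq_single (1 : V) (fun v _ hv => ?_) (fun h => absurd (Finset.mem_univ _) h)] at h
    · simp [ind, hq1, one_mem] at h
    · simp only [ind, Set.mem_setOf_eq, SetLike.mem_coe]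
      by_cases h' : q v ∈ U
      · rcases hall v h' with rfl | rfl
        · exact absurd rfl hv
        · simp [huL]
      · simp [h']
  rcases Nat.lt_or_ge 2 (Nat.card W) with hW4 | hW4
  swap
  · -- `W` of order two
    rcases Nat.lt_or_ge (Nat.card W) 2 with hW1 | hW1
    · exfalso
      haveI : Subsingleton W := Finite.card_le_one_iff_subsingleton.1 (by omega)
      have h := hzero
      rw [Nat.card_congr (Equiv.subtypeUnivEquiv fun v => Subsingleton.elim (q v) 1), Nat.card_eq_fintype_card] at h
      omega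
    have hU : (⊥ : Subgroup W).index = 2 := by rw [Subgroup.index_bot]; omega
    have hev := hpar ⊥ hU
    simp only [Subgroup.mem_bot] at hev
    have hc2 : Nat.card {v : V // q v = 1} = 2 := by
      have h0 : 0 < Nat.card {v : V // q v = 1} := Nat.card_pos_iff.2 ⟨⟨⟨1, hq1⟩⟩, inferInstance⟩
      rcases Nat.lt_or_ge (Nat.card {v : V // q v = 1}) 2 with h | h
      · rw [show Nat.card {v : V // q v = 1} = 1 by omega] at hev; exact absurd hev (by decide)
      · omega
    obtain ⟨⟨u, hu⟩, hu1, huniq⟩ := (Nat.card_eq_two_iff' (⟨1, hq1⟩ : {v : V // q v = 1})).1 hc2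
    have hu1' : u ≠ 1 := fun e => hu1 (Subtype.ext e)
    have hall : ∀ v, q v = 1 → v = 1 ∨ v = u := fun v hv => or_iff_not_imp_left.2 fun h =>
      congrArg Subtype.val (huniq ⟨v, hv⟩ fun e => h (congrArg Subtype.val e))
    have h8 : ¬ 8 < Fintype.card V := fun h8 => hprod ⊥ hU u h8 hu1' fun v hv => hall v (by simpa using hv)
    refine isSolvable_of_fix_subgroup (zpowers u) ?_ G fun σ hσ s hs => ?_
    · have := (zpowers u).card_mul_index
      rw [Nat.card_zpowers, orderOf_eq_prime (by rw [pow_two]; exact h2 u) hu1', Nat.card_eq_fintype_card] at this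
      omega
    · obtain ⟨i, rfl⟩ := hs
      have hσu : σ u = u := by
        rcases hall (σ u) (by rw [hG σ hσ]; exact hu) with h | h
        · exact absurd (by simpa using h) hu1'
        · exact h
      show σ (u ^ i) = u ^ i
      rw [map_zpow, hσu]
  -- `W` of order four
  have hW4' : Nat.card W = 4 := by
    have : IsPGroup 2 W := fun w => ⟨1, by rw [pow_one, pow_two]; exact hW2 w⟩
    obtain ⟨k, hk⟩ := IsPGroup.iff_card.1 this
    rw [hk] at hW4 hW ⊢
    have : k ≤ 2 := (Nat.pow_le_pow_iff_right one_lt_two).1 (show 2 ^ k ≤ 2 ^ 2 by simpa using hW)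
    interval_cases k <;> simp_all
  have hidx2 : ∀ w : W, w ≠ 1 → (zpowers w).index = 2 := fun w hw => by
    have := (zpowers w).card_mul_index
    rw [Nat.card_zpowers, orderOf_eq_prime (by rw [pow_two]; exact hW2 w) hw, hW4'] at this
    omega
  have hmemz : ∀ w u : W, u ∈ zpowers w ↔ u = 1 ∨ u = w := fun w u => by
    refine ⟨?_, by rintro (rfl | rfl); exacts [one_mem _, mem_zpowers _]⟩
    rintro ⟨i, rfl⟩
    rcases Int.even_or_odd i with ⟨j, rfl⟩ | ⟨j, rfl⟩
    · left; dsimp only; rw [zpow_add, ← mul_zpow, hW2, one_zpow]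
    · right; dsimp only; rw [two_mul, zpow_add, zpow_add, ← mul_zpow, hW2, one_zpow, one_mul, zpow_one]
  -- the fibres
  let F : W → Finset V := fun w => Finset.univ.filter fun v => q v = w
  have hF : ∀ w v, v ∈ F w ↔ q v = w := fun w v => by simp [F]
  have hFodd : ∀ w : W, w ≠ 1 → Odd (F w).card := by
    intro w hw
    have h := hpar _ (hidx2 w hw)
    have hc : Nat.card {v : V // q v ∈ zpowers w} = (F w).card + 1 := by
      rw [Nat.card_eq_fintype_card, Fintype.card_subtype,
        show (Finset.univ.filter fun v => q v ∈ zpowers w) = insert 1 (F w) by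
          ext v
          simp only [Finset.mem_filter, Finset.mem_univ, true_and, Finset.mem_insert, hF, hmemz]
          constructor
          · rintro (h | h)
            · exact Or.inl (hzero4 hW4 v h)
            · exact Or.inr h
          · rintro (rfl | h)
            · exact Or.inl hq1
            · exact Or.inr h,
        Finset.card_insert_of_notMem (by rw [hF, hq1]; exact Ne.symm hw)]
    rw [hc, ZMod.natCast_eq_zero_iff_even, Nat.even_add_one, Nat.not_even_iff_odd] at h
    exact h
  have h16 : ¬ 16 < Fintype.card V := by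
    intro h16
    obtain ⟨w₁, hw₁⟩ : ∃ w : W, w ≠ 1 := by
      haveI : Nontrivial W := Finite.one_lt_card_iff_nontrivial.1 (by omega)
      exact exists_ne 1
    obtain ⟨w₂, hw₂⟩ : ∃ w : W, w ∉ zpowers w₁ := by
      by_contra h
      push Not at h
      have h' := hidx2 w₁ hw₁
      rw [(Subgroup.eq_top_iff' _).2 h, Subgroup.index_top] at h'
      omega
    have hw₂1 : w₂ ≠ 1 := fun e => hw₂ (e ▸ one_mem _)
    have h := sum_eq_zero h2 (Deg.mul mul_comm (n := 4) (a := 2) (b := 2) rfl (hdeg _ (hidx2 w₁ hw₁))
      (hdeg _ (hidx2 w₂ hw₂1))) (by norm_num; omega)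
    rw [Finset.sum_eq_single (1 : V) (fun v _ hv => ?_) (fun h => absurd (Finset.mem_univ _) h)] at h
    · simp [ind, hq1] at h
    · simp only [ind, Set.mem_setOf_eq]
      by_cases h1 : q v ∈ zpowers w₁
      · by_cases h2' : q v ∈ zpowers w₂
        · exfalso
          rcases (hmemz _ _).1 h1 with e | e
          · exact hv (hzero4 hW4 v e)
          · rcases (hmemz _ _).1 h2' with e' | e'
            · exact hv (hzero4 hW4 v e')
            · exact hw₂ (e'.symm.trans e ▸ mem_zpowers w₁)
        · simp [h2']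
      · simp [h1]
  have hS : ∀ w : W, w ≠ 1 → (F w).card + 1 ≤ Nat.card (closure (F w : Set V)) := fun w hw => by
    rw [← Finset.card_insert_of_notMem (show (1 : V) ∉ F w by rw [hF, hq1]; exact Ne.symm hw),
      ← Nat.card_eq_finsetCard]
    refine Nat.card_le_card_of_injective (fun v => (⟨v.1, ?_⟩ : closure (F w : Set V))) fun a b e =>
      Subtype.ext (Subtype.mk.inj e)
    rcases Finset.mem_insert.1 v.2 with e | e
    · rw [e]; exact one_mem _
    · exact subset_closure e
  have hcardV : Fintype.card V = 8 ∨ Fintype.card V = 16 := by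
    have : n ≤ 4 := (Nat.pow_le_pow_iff_right one_lt_two).1 (show 2 ^ n ≤ 2 ^ 4 by simp only [← hn]; omega)
    interval_cases n <;> omega
  by_cases hex : ∃ w : W, w ≠ 1 ∧ (F w).card ≤ 3
  · obtain ⟨w, hw, h3⟩ := hex
    refine hperm w hw (F w) (hF w) h3 ?_
    have hci := (closure (F w : Set V)).card_mul_index
    rw [Nat.card_eq_fintype_card (α := V)] at hci
    have h1 := hS w hw
    rcases hcardV with h | h
    · obtain ⟨m, hm⟩ := hFodd w hw
      rw [h] at hci
      nlinarith
    · have : (F w).card ≠ 1 := fun e1 => by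
        obtain ⟨u, hu⟩ := Finset.card_eq_one.1 e1
        refine hprod _ (hidx2 w hw) u (by omega) ?_ fun v hv => ?_
        · intro e
          have := (hF w u).1 (hu ▸ Finset.mem_singleton_self u)
          rw [e, hq1] at this
          exact hw this.symm
        · rcases (hmemz _ _).1 hv with e | e
          · exact Or.inl (hzero4 hW4 v e)
          · have := (hF w v).2 e
            rw [hu] at this
            exact Or.inr (Finset.mem_singleton.1 this)
      obtain ⟨m, hm⟩ := hFodd w hw
      rw [h] at hci
      have := Nat.mul_le_mul_right (closure (F w : Set V)).index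
        (show 4 ≤ Nat.card (closure (F w : Set V)) by omega)
      omega
  push Not at hex
  -- three fibres of five points
  have hsum : ∑ w ∈ Finset.univ.erase (1 : W), (F w).card + 1 = Fintype.card V := by
    have h := Finset.card_eq_sum_card_fiberwise (s := (Finset.univ : Finset V)) (t := Finset.univ) (f := q)
      fun v _ => Finset.mem_univ _
    rw [← Finset.add_sum_erase _ _ (Finset.mem_univ (1 : W))] at h
    have h1 : (Finset.univ.filter fun v => q v = 1).card = 1 := by
      rw [Finset.card_eq_one]
      refine ⟨1, ?_⟩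
      ext v
      simp only [Finset.mem_filter, Finset.mem_univ, true_and, Finset.mem_singleton]
      exact ⟨hzero4 hW4 v, fun e => e ▸ hq1⟩
    rw [h1, Finset.card_univ] at h
    simp only [F]
    omega
  have h5 : ∀ w : W, w ≠ 1 → (F w).card = 5 := by
    intro w hw
    have hge : ∀ u : W, u ≠ 1 → 5 ≤ (F u).card := fun u hu => by
      obtain ⟨m, hm⟩ := hFodd u hu
      have := hex u hu
      omega
    have hmem : w ∈ Finset.univ.erase (1 : W) := Finset.mem_erase.2 ⟨hw, Finset.mem_univ _⟩
    rw [← Finset.add_sum_erase _ _ hmem] at hsum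
    have hc : ((Finset.univ.erase (1 : W)).erase w).card = 2 := by
      rw [Finset.card_erase_of_mem hmem, Finset.card_erase_of_mem (Finset.mem_univ _), Finset.card_univ,
        ← Nat.card_eq_fintype_card, hW4']
    have h10 : 2 * 5 ≤ ∑ u ∈ (Finset.univ.erase (1 : W)).erase w, (F u).card := by
      rw [← hc, ← smul_eq_mul, ← Finset.sum_const]
      exact Finset.sum_le_sum fun u hu => hge u (Finset.mem_erase.1 (Finset.mem_erase.1 hu).2).1
    have := hge w hw
    omega
  obtain ⟨w₁, hw₁⟩ : ∃ w : W, w ≠ 1 := by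
      haveI : Nontrivial W := Finite.one_lt_card_iff_nontrivial.1 (by omega)
      exact exists_ne 1
  obtain ⟨w₂, hw₂, hw12⟩ : ∃ w : W, w ≠ 1 ∧ w ≠ w₁ := by
    by_contra h
    push Not at h
    have hle : Finset.univ ⊆ ({1, w₁} : Finset W) := fun w _ => by
      simp only [Finset.mem_insert, Finset.mem_singleton]
      exact or_iff_not_imp_left.2 (h w)
    have := (Finset.card_le_card hle).trans Finset.card_le_two
    rw [Finset.card_univ, ← Nat.card_eq_fintype_card, hW4'] at this
    omega
  let e := Fintype.equivFinOfCardEq ((Fintype.card_coe (F w₁)).trans (h5 w₁ hw₁))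
  let π : G →* Equiv.Perm (Fin 5) :=
    { toFun := fun σ => e.symm.trans ((σ.1.toEquiv.subtypeEquiv fun v => by
          show v ∈ F w₁ ↔ σ.1 v ∈ F w₁
          rw [hF, hF, hG _ σ.2]).trans e)
      map_one' := Equiv.ext fun v => e.apply_symm_apply v
      map_mul' := fun σ τ => Equiv.ext fun v => by
        show e _ = e _
        congr 1
        apply Subtype.ext
        show σ.1 (τ.1 _) = σ.1 _
        simp only [Equiv.trans_apply, Equiv.symm_apply_apply]
        rfl }
  by_cases hH : Group.IsSolvable π.range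
  · haveI := hH
    haveI : Group.IsSolvable π.ker := by
      haveI := isSolvable_of_fix_subgroup (closure (F w₁ : Set V)) (by
        have hci := (closure (F w₁ : Set V)).card_mul_index
        rw [Nat.card_eq_fintype_card (α := V)] at hci
        have h1 := hS w₁ hw₁
        rw [h5 w₁ hw₁] at h1
        have := Nat.mul_le_mul_right (closure (F w₁ : Set V)).index
          (show 4 ≤ Nat.card (closure (F w₁ : Set V)) by omega)
        rcases hcardV with h | h <;> rw [h] at hci <;> omega) (π.ker.map G.subtype) (by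
        rintro _ ⟨σ, hσ, rfl⟩ s hs
        induction hs using closure_induction with
        | mem x hx =>
          have := Equiv.congr_fun (MonoidHom.mem_ker.1 hσ) (e ⟨x, hx⟩)
          simpa [π] using this
        | one => exact map_one _
        | mul a b _ _ ha hb => rw [map_mul, ha, hb]
        | inv a _ ha => rw [map_inv, ha])
      exact Group.isSolvable_of_isSolvable_injective
        (f := (Subgroup.equivMapOfInjective π.ker G.subtype G.subtype_injective).toMonoidHom)
        (Subgroup.equivMapOfInjective π.ker G.subtype G.subtype_injective).injective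
    exact Group.isSolvable_of_ker_le_range π.ker.subtype π.rangeRestrict (by
      rw [MonoidHom.ker_rangeRestrict, Subgroup.range_subtype])
  exfalso
  have hA := perm_five_nonsolvable hH
  refine no_five_five h2 (by omega) (fun i => (e.symm i : V)) (fun i j h => e.symm.injective (Subtype.ext h))
    (fun i h => hw₁ (by have h' := (hF w₁ _).1 (e.symm i).2; rw [h, hq1] at h'; exact h'.symm))
    (F w₂) (h5 w₂ hw₂).le (Finset.card_pos.1 (by rw [h5 w₂ hw₂]; norm_num))
    (fun h => hw₂ (by rw [hF, hq1] at h; exact h.symm))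
    (fun i h => hw12 (((hF w₂ _).1 h).symm.trans ((hF w₁ _).1 (e.symm i).2))) ?_
  intro σ hσ
  obtain ⟨g, hg⟩ := hA hσ
  refine ⟨g.1, fun i => ?_, fun v hv => ?_⟩
  · rw [← hg]
    simp [π]
  · rw [hF] at hv ⊢
    rw [hG _ g.2, hv]

end CfsgLib.QuadZero
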