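import Mathlib
import Cfsg.Agent.Lib.Coprime.UniqueOrderP
import Cfsg.Prelude.Def_TwoFusion
import Cfsg.Prelude.Def_Transfer

/-!
# Central extensions with generalized quaternion quotients
-/

set_option autoImplicit false
set_option linter.style.haveILetI false

open Subgroup
open scoped commutatorElement

namespace CfsgLib.QuatExt

variable {S : Type*} [Group S] [Finite S]

theorem exists_of_sup {C : Subgroup ↥(center S)} {u z : ↥(center S)} (h : z ∈ C ⊔ zpowers u) :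
    ∃ c ∈ C, ∃ w ∈ zpowers u, c * w = z := by
  have hn : C ≤ normalizer ((zpowers u : Subgroup ↥(center S)) : Set ↥(center S)) := by
    intro g _
    refine mem_normalizer_iff.2 fun t => ?_
    rw [show g * t * g⁻¹ = t by rw [mul_comm' g t, mul_inv_cancel_right]]
  have h' := SetLike.mem_coe.2 h
  rw [coe_mul_of_left_le_normalizer_right _ _ hn] at h'
  exact h'

theorem center_sq_mem (hS : IsPGroup 2 S) {C : Subgroup ↥(center S)} (hC : IsCoatom C)
    (z : ↥(center S)) : z ^ 2 ∈ C := by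
  by_cases hz : z ∈ C
  · exact pow_mem hz 2
  by_contra h2
  have htop : C ⊔ zpowers (z ^ 2) = ⊤ := hC.2 _ (lt_of_le_of_ne le_sup_left fun e =>
    h2 (e ▸ mem_sup_right (mem_zpowers _)))
  obtain ⟨c, hc, w, hw, hcw⟩ := exists_of_sup (show z ∈ C ⊔ zpowers (z ^ 2) by rw [htop]; exact mem_top z)
  obtain ⟨k, rfl⟩ := hw
  have hmem : z ^ (1 - 2 * k) ∈ C := by
    have : z ^ (1 - 2 * k) = c := by
      calc z ^ (1 - 2 * k) = z * ((z ^ 2) ^ k)⁻¹ := by
            rw [zpow_sub, zpow_one, zpow_mul]; norm_cast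
        _ = c * (z ^ 2) ^ k * ((z ^ 2) ^ k)⁻¹ := by rw [hcw]
        _ = c := mul_inv_cancel_right _ _
    exact this ▸ hc
  obtain ⟨a, ha⟩ := (hS.to_subgroup (center S)) z
  have hcop : IsCoprime (1 - 2 * k) ((2 : ℤ) ^ a) := IsCoprime.pow_right ⟨1, k, by ring⟩
  obtain ⟨u, v, huv⟩ := hcop
  refine hz ?_
  have h3 : z = (z ^ (1 - 2 * k)) ^ u := by
    rw [← zpow_mul]
    conv_lhs => rw [← zpow_one z, ← huv]
    rw [zpow_add, mul_comm v, zpow_mul z ((2 : ℤ) ^ a) v,
      show ((2 : ℤ) ^ a) = ((2 ^ a : ℕ) : ℤ) by push_cast; rfl, zpow_natCast, ha, one_zpow, mul_one,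
      mul_comm u]
  rw [h3]
  exact zpow_mem hmem u

theorem center_mul_mem (hS : IsPGroup 2 S) {C : Subgroup ↥(center S)} (hC : IsCoatom C)
    {u v : ↥(center S)} (hu : u ∉ C) (hv : v ∉ C) : u * v ∈ C := by
  have htop : C ⊔ zpowers u = ⊤ := hC.2 _ (lt_of_le_of_ne le_sup_left fun e =>
    hu (e ▸ mem_sup_right (mem_zpowers _)))
  obtain ⟨c, hc, w, hw, hcw⟩ := exists_of_sup (show v ∈ C ⊔ zpowers u by rw [htop]; exact mem_top v)
  obtain ⟨k, rfl⟩ := hw
  rcases Int.even_or_odd k with ⟨m, hm⟩ | ⟨m, hm⟩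
  · refine absurd ?_ hv
    rw [← hcw]
    refine mul_mem hc ?_
    show u ^ k ∈ C
    rw [hm, ← two_mul, zpow_mul, zpow_ofNat]
    exact zpow_mem (center_sq_mem hS hC u) m
  · have e : u * v = c * (u ^ (2 : ℤ)) ^ (m + 1) := by
      rw [← hcw]
      show u * (c * u ^ k) = _
      rw [← zpow_mul, ← mul_assoc, mul_comm' u c, mul_assoc, ← zpow_one_add, hm]
      congr 2; ring
    rw [e]
    exact mul_mem hc (zpow_mem (by rw [zpow_ofNat]; exact center_sq_mem hS hC u) _)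

/-- The quotient by a central coatom with quotient of `2`-rank one. -/
def QuotQuat (D : Subgroup ↥(center S)) : Prop :=
  ∃ (_ : (D.map (center S).subtype).Normal),
    ¬ IsMulCommutative (S ⧸ D.map (center S).subtype) ∧
      ∃! x : S ⧸ D.map (center S).subtype, orderOf x = 2

theorem mem_map_center {D : Subgroup ↥(center S)} {s : S} :
    s ∈ D.map (center S).subtype ↔ ∃ h : s ∈ center S, (⟨s, h⟩ : center S) ∈ D :=
  ⟨fun ⟨d, hd, e⟩ => ⟨e ▸ d.2, by subst e; exact hd⟩, fun ⟨h, hd⟩ => ⟨_, hd, rfl⟩⟩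

theorem mem_center_of_sq_mem (hS : IsPGroup 2 S) {D : Subgroup ↥(center S)} (hD : IsCoatom D)
    (hq : QuotQuat D) {s : S} (h : s ^ 2 ∈ D.map (center S).subtype) : s ∈ center S := by
  obtain ⟨hn, -, hu⟩ := hq
  haveI := hn
  haveI : Fact (Nat.Prime 2) := ⟨Nat.prime_two⟩
  by_contra hs
  obtain ⟨z, hz⟩ := SetLike.exists_of_lt hD.1.lt_top
  have hs' : (QuotientGroup.mk s : S ⧸ D.map (center S).subtype) ≠ 1 := fun e => by
    obtain ⟨h', -⟩ := mem_map_center.1 ((QuotientGroup.eq_one_iff _).1 e); exact hs h'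
  have hz' : (QuotientGroup.mk (z : S) : S ⧸ D.map (center S).subtype) ≠ 1 := fun e => by
    obtain ⟨_, hd⟩ := mem_map_center.1 ((QuotientGroup.eq_one_iff _).1 e); exact hz.2 hd
  have e := hu.unique
    (orderOf_eq_prime (by rw [← QuotientGroup.mk_pow, QuotientGroup.eq_one_iff]; exact h) hs')
    (orderOf_eq_prime (by
      rw [← QuotientGroup.mk_pow, QuotientGroup.eq_one_iff]
      exact ⟨z ^ 2, center_sq_mem hS hD z, rfl⟩) hz')
  rw [QuotientGroup.eq] at e
  obtain ⟨h', -⟩ := mem_map_center.1 e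
  refine hs ?_
  have := mul_mem z.2 (inv_mem h')
  simpa using this

/-- Generators lifted from the quaternion quotient. -/
theorem exists_generators (hS : IsPGroup 2 S) {D : Subgroup ↥(center S)} (hq : QuotQuat D) :
    ∃ (x y : S) (m : ℕ), 1 ≤ m ∧ x ∉ center S ∧ y ∉ center S ∧
      y * x * y⁻¹ * x ∈ D.map (center S).subtype ∧ y ^ 2 * (x ^ m)⁻¹ ∈ D.map (center S).subtype ∧
      (∀ s : S, ∃ i : ℕ, (x ^ i)⁻¹ * s ∈ D.map (center S).subtype ∨
        (y * x ^ i)⁻¹ * s ∈ D.map (center S).subtype) := by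
  obtain ⟨hn, hna, hu⟩ := hq
  haveI := hn
  haveI : Fact (Nat.Prime 2) := ⟨Nat.prime_two⟩
  set N := D.map (center S).subtype
  have hp : IsPGroup 2 (S ⧸ N) := hS.to_quotient N
  have huo : CfsgLib.Coprime.UniqueOrderP 2 (S ⧸ N) := by
    intro a b ha hb ha1
    by_cases hb1 : b = 1
    · rw [hb1]; exact one_mem _
    · rw [hu.unique (orderOf_eq_prime hb hb1) (orderOf_eq_prime ha ha1)]; exact mem_zpowers a
  rcases CfsgLib.Coprime.cyclic_or_quaternion_of_unique_two hp huo with hc | ⟨n, ⟨e⟩⟩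
  · exact absurd (inferInstance : IsMulCommutative (S ⧸ N)) hna
  set P := QuaternionGroup (2 ^ n)
  obtain ⟨x, hx⟩ := QuotientGroup.mk_surjective (e.symm (QuaternionGroup.a 1))
  obtain ⟨y, hy⟩ := QuotientGroup.mk_surjective (e.symm (QuaternionGroup.xa 0))
  have ex : e (QuotientGroup.mk x) = QuaternionGroup.a 1 := by rw [hx, e.apply_symm_apply]
  have ey : e (QuotientGroup.mk y) = QuaternionGroup.xa 0 := by rw [hy, e.apply_symm_apply]
  have hcov : ∀ s : S, ∃ i : ℕ, (x ^ i)⁻¹ * s ∈ N ∨ (y * x ^ i)⁻¹ * s ∈ N := by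
    intro s
    rcases h : e (QuotientGroup.mk s) with i | i
    · refine ⟨i.val, Or.inl (QuotientGroup.eq.1 (e.injective ?_))⟩
      rw [h, QuotientGroup.mk_pow, map_pow, ex, QuaternionGroup.a_one_pow, ZMod.natCast_zmod_val]
    · refine ⟨i.val, Or.inr (QuotientGroup.eq.1 (e.injective ?_))⟩
      rw [h, QuotientGroup.mk_mul, map_mul, QuotientGroup.mk_pow, map_pow, ex, ey,
        QuaternionGroup.a_one_pow, ZMod.natCast_zmod_val, QuaternionGroup.xa_mul_a, zero_add]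
  have hcomm : ¬ Commute (QuotientGroup.mk x : S ⧸ N) (QuotientGroup.mk y) := by
    intro hc
    refine hna ⟨⟨fun a b => ?_⟩⟩
    have key : ∀ a : S ⧸ N, ∃ i j : ℕ, a = (QuotientGroup.mk y) ^ j * (QuotientGroup.mk x) ^ i := by
      intro a
      obtain ⟨s, rfl⟩ := QuotientGroup.mk_surjective a
      obtain ⟨i, hi | hi⟩ := hcov s
      · exact ⟨i, 0, by rw [pow_zero, one_mul, ← QuotientGroup.mk_pow]; exact (QuotientGroup.eq.2 hi).symm⟩
      · exact ⟨i, 1, by
          rw [pow_one, ← QuotientGroup.mk_pow, ← QuotientGroup.mk_mul]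
          exact (QuotientGroup.eq.2 hi).symm⟩
    obtain ⟨i, j, rfl⟩ := key a
    obtain ⟨k, l, rfl⟩ := key b
    exact ((((Commute.refl _).pow_pow j l).mul_left (hc.pow_pow i l)).mul_right
      (((hc.symm).pow_pow j k).mul_left ((Commute.refl _).pow_pow i k)))
  refine ⟨x, y, 2 ^ n, Nat.one_le_two_pow, fun h => hcomm ?_, fun h => hcomm ?_, ?_, ?_, hcov⟩
  · show _ = _
    rw [← QuotientGroup.mk_mul, ← QuotientGroup.mk_mul, mem_center_iff.1 h y]
  · show _ = _
    rw [← QuotientGroup.mk_mul, ← QuotientGroup.mk_mul, mem_center_iff.1 h x]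
  · rw [← QuotientGroup.eq_one_iff (N := N), QuotientGroup.mk_mul, QuotientGroup.mk_mul,
      QuotientGroup.mk_mul, QuotientGroup.mk_inv]
    refine e.injective ?_
    rw [map_mul, map_mul, map_mul, map_inv, ex, ey, map_one, QuaternionGroup.xa_mul_a]
    show QuaternionGroup.xa ((0 : ZMod (2 * 2 ^ n)) + 1) * QuaternionGroup.xa (((2 ^ n : ℕ) : ZMod (2 * 2 ^ n)) + 0) * QuaternionGroup.a 1 = _
    rw [QuaternionGroup.xa_mul_xa, QuaternionGroup.a_mul_a, QuaternionGroup.one_def]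
    congr 1
    have := ZMod.natCast_self (2 * 2 ^ n)
    push_cast at this ⊢
    linear_combination this
  · rw [← QuotientGroup.eq_one_iff (N := N), QuotientGroup.mk_mul, QuotientGroup.mk_inv,
      QuotientGroup.mk_pow, QuotientGroup.mk_pow, mul_inv_eq_one]
    refine e.injective ?_
    rw [map_pow, map_pow, ex, ey, QuaternionGroup.xa_sq, QuaternionGroup.a_one_pow]

/-- `S₃₂₀₂`: the commutator subgroup is cyclic. -/
theorem exists_cyclic_characteristic (hS : IsPGroup 2 S) {D : Subgroup ↥(center S)}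
    (hq : QuotQuat D) : ∃ C : Subgroup S, C ≠ ⊥ ∧ IsCyclic ↥C ∧ C.Characteristic := by
  obtain ⟨x, y, m, -, hxZ, -, hd, hy2, hcov⟩ := exists_generators hS hq
  have hN : D.map (center S).subtype ≤ center S := map_subtype_le _
  obtain ⟨d, hddef⟩ : ∃ d, d = y * x * y⁻¹ * x := ⟨_, rfl⟩
  rw [← hddef] at hd
  have hdc : ∀ s, Commute d s := fun s => (mem_center_iff.1 (hN hd) s).symm
  set c := x * y * x⁻¹ * y⁻¹ with hc
  have hc' : c = x ^ 2 * d⁻¹ := by
    calc c = x * (y * x * y⁻¹ * x * x⁻¹)⁻¹ := by rw [hc]; group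
      _ = x * (d * x⁻¹)⁻¹ := by rw [← hddef]
      _ = x ^ 2 * d⁻¹ := by rw [sq]; group
  have hxc : x * c * x⁻¹ = c := by
    rw [hc', show x * (x ^ 2 * d⁻¹) * x⁻¹ = x ^ 2 * (x * d⁻¹ * x⁻¹) by group,
      ← ((hdc x).inv_left).eq, mul_inv_cancel_right]
  have hyx : y * x * y⁻¹ = d * x⁻¹ := by rw [hddef]; group
  have hyc : y * c * y⁻¹ = c⁻¹ := by
    have h1 : y * x ^ 2 * y⁻¹ = (d * x⁻¹) * (d * x⁻¹) := by rw [← hyx, sq]; group
    rw [hc', show y * (x ^ 2 * d⁻¹) * y⁻¹ = (y * x ^ 2 * y⁻¹) * (y * d⁻¹ * y⁻¹) by group, h1,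
      ← ((hdc y).inv_left).eq, mul_inv_cancel_right, (hdc x⁻¹).eq]
    have e : (x ^ 2 * d⁻¹)⁻¹ = d * (x⁻¹ * x⁻¹) := by rw [sq]; group
    rw [e, (hdc (x⁻¹ * x⁻¹)).eq]
    calc x⁻¹ * d * (x⁻¹ * d) * d⁻¹ = x⁻¹ * (d * x⁻¹) := by group
      _ = x⁻¹ * (x⁻¹ * d) := by rw [(hdc x⁻¹).eq]
      _ = x⁻¹ * x⁻¹ * d := (mul_assoc _ _ _).symm
  set K := zpowers c with hK
  have hnorm : ∀ s : S, s ∈ normalizer (K : Set S) := by
    have hconj : ∀ g : S, (g * c * g⁻¹ = c ∨ g * c * g⁻¹ = c⁻¹) → g ∈ normalizer (K : Set S) := by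
      intro g hg
      have hmap : K.map (MulAut.conj g).toMonoidHom = K := by
        rw [hK, MonoidHom.map_zpowers, MulEquiv.coe_toMonoidHom, MulAut.conj_apply]
        rcases hg with h | h <;> rw [h]
        exact zpowers_inv
      refine mem_normalizer_iff.2 fun z => ?_
      conv_rhs => rw [← hmap]
      rw [mem_map_equiv, MulAut.conj_symm_apply]
      simp [mul_assoc]
    intro s
    have hcen : center S ≤ normalizer (K : Set S) := fun z hz => hconj z (Or.inl (by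
      rw [← mem_center_iff.1 hz c, mul_inv_cancel_right]))
    have hx' := hconj x (Or.inl hxc)
    have hy' := hconj y (Or.inr hyc)
    obtain ⟨i, h | h⟩ := hcov s
    · have := mul_mem (pow_mem hx' i) (hcen (hN h))
      rwa [mul_inv_cancel_left] at this
    · have := mul_mem (mul_mem hy' (pow_mem hx' i)) (hcen (hN h))
      rwa [mul_inv_cancel_left] at this
  haveI : K.Normal := normalizer_eq_top_iff.1 (eq_top_iff.2 fun s _ => hnorm s)
  let π := QuotientGroup.mk' K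
  have hπ : Commute (π x) (π y) := by
    have h1 : π c = 1 := (QuotientGroup.eq_one_iff _).2 (mem_zpowers c)
    rw [hc, map_mul, map_mul, map_mul, map_inv, map_inv, mul_inv_eq_one, mul_inv_eq_iff_eq_mul] at h1
    exact h1
  have hz : ∀ z ∈ D.map (center S).subtype, ∀ t : S, Commute (π z) (π t) := fun z hz t =>
    Commute.map (show Commute z t from (mem_center_iff.1 (hN hz) t).symm) π
  have key : ∀ s : S, ∃ i j : ℕ, ∃ z ∈ D.map (center S).subtype, π s = (π y) ^ j * (π x) ^ i * π z := by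
    intro s
    obtain ⟨i, h | h⟩ := hcov s
    · exact ⟨i, 0, _, h, by rw [pow_zero, one_mul, ← map_pow, ← map_mul, mul_inv_cancel_left]⟩
    · exact ⟨i, 1, _, h, by rw [pow_one, ← map_pow, ← map_mul, ← map_mul, mul_inv_cancel_left]⟩
  have hle : commutator S ≤ K := by
    rw [_root_.commutator_def, commutator_le]
    intro g _ h _
    rw [← QuotientGroup.eq_one_iff (N := K)]
    show π ⁅g, h⁆ = 1
    rw [map_commutatorElement, commutatorElement_eq_one_iff_mul_comm]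
    obtain ⟨i, j, u, hu, eg⟩ := key g
    obtain ⟨k, l, v, hv, eh⟩ := key h
    rw [eg]
    refine (Commute.mul_left ?_ (hz u hu h))
    rw [eh]
    refine Commute.mul_right ?_ ?_
    · exact ((((Commute.refl _).pow_pow j l).mul_left (hπ.pow_pow i l)).mul_right
        (((hπ.symm).pow_pow j k).mul_left ((Commute.refl _).pow_pow i k)))
    · rw [← map_pow, ← map_pow, ← map_mul]
      exact (hz v hv _).symm
  have hmem : c ∈ commutator S := by
    rw [_root_.commutator_def]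
    exact commutator_mem_commutator (mem_top x) (mem_top y)
  have heq : commutator S = K := le_antisymm hle (zpowers_le.2 hmem)
  refine ⟨commutator S, ?_, ?_, inferInstance⟩
  · intro h0
    obtain ⟨hn, hna, -⟩ := hq
    haveI := hn
    refine hna ⟨⟨fun a b => ?_⟩⟩
    obtain ⟨g, rfl⟩ := QuotientGroup.mk_surjective a
    obtain ⟨h, rfl⟩ := QuotientGroup.mk_surjective b
    rw [← QuotientGroup.mk_mul, ← QuotientGroup.mk_mul]
    congr 1
    have h2 : g * h * g⁻¹ * h⁻¹ ∈ commutator S := by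
      rw [_root_.commutator_def]
      exact commutator_mem_commutator (mem_top g) (mem_top h)
    rw [h0, mem_bot, mul_inv_eq_one, mul_inv_eq_iff_eq_mul] at h2
    exact h2
  · rw [heq, hK]; infer_instance

/-- `S₃₂₀₁`: several central coatoms with quaternion quotients split the group. -/
theorem exists_split (hS : IsPGroup 2 S) {n : ℕ} (hn : 2 ≤ n) (C : Fin n → Subgroup ↥(center S))
    (hmax : ∀ i, IsCoatom (C i)) (hint : ⨅ i, C i = ⊥) (hq : ∀ i, QuotQuat (C i)) :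
    ∃ E Q : Subgroup S, Cfsg.IsInternalDirectProduct E Q ⊤ ∧ Cfsg.IsElementaryAbelian 2 E ∧
      ¬ IsMulCommutative ↥Q ∧ ∃! x : ↥Q, orderOf x = 2 := by
  set i₀ : Fin n := ⟨0, by omega⟩
  obtain ⟨x, y, m, hm, hxZ, hyZ, hd0, he0, hcov⟩ := exists_generators hS (hq i₀)
  obtain ⟨hn0, hna, hu⟩ := hq i₀
  haveI := hn0
  set N := (C i₀).map (center S).subtype with hN
  have hNZ : N ≤ center S := map_subtype_le _
  have hall : ∀ z : S, (hz : z ∈ center S) → (∀ i, (⟨z, hz⟩ : center S) ∈ C i) → z = 1 := by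
    intro z hz h
    have : (⟨z, hz⟩ : center S) ∈ ⨅ i, C i := mem_iInf.2 h
    rw [hint, mem_bot] at this
    exact congrArg Subtype.val this
  have hnot : ∀ s : S, s ∉ center S → ∀ hs : s ^ 2 ∈ center S, ∀ i, (⟨s ^ 2, hs⟩ : center S) ∉ C i :=
    fun s hs hs2 i hmem => hs (mem_center_of_sq_mem hS (hmax i) (hq i) (mem_map_center.2 ⟨hs2, hmem⟩))
  obtain ⟨d, hd⟩ : ∃ d, d = y * x * y⁻¹ * x := ⟨_, rfl⟩
  rw [← hd] at hd0
  have hdZ : d ∈ center S := hNZ hd0
  have hxy : y * x ∉ center S := by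
    intro h
    have h1 : Commute (y * x) x := (mem_center_iff.1 h x).symm
    have h2 : y * x = x * y := mul_right_cancel (h1.eq.trans (by group) : y * x * x = x * y * x)
    have h3 : x ^ 2 ∈ N := by
      have e : d = x ^ 2 := by rw [hd, h2, mul_inv_cancel_right, sq]
      rwa [e] at hd0
    exact hxZ (mem_center_of_sq_mem hS (hmax i₀) (hq i₀) h3)
  -- first: the involution `z₀ = y ^ 2`
  have hy2 : y ^ 2 ∈ center S := by
    refine mem_center_iff.2 fun t => ?_
    have hcx : Commute (y ^ 2) x := by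
      have hdy : Commute d y := (mem_center_iff.1 hdZ y).symm
      have e1 : y * x * y⁻¹ = d * x⁻¹ := by rw [hd]; group
      have e1' : y * x⁻¹ * y⁻¹ = x * d⁻¹ := by
        calc y * x⁻¹ * y⁻¹ = (y * x * y⁻¹)⁻¹ := by group
          _ = (d * x⁻¹)⁻¹ := by rw [e1]
          _ = x * d⁻¹ := by group
      show y ^ 2 * x = x * y ^ 2
      rw [← mul_inv_eq_iff_eq_mul]
      calc y ^ 2 * x * (y ^ 2)⁻¹ = y * (y * x * y⁻¹) * y⁻¹ := by rw [sq]; group
        _ = y * (d * x⁻¹) * y⁻¹ := by rw [e1]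
        _ = (y * d * y⁻¹) * (y * x⁻¹ * y⁻¹) := by group
        _ = d * (x * d⁻¹) := by rw [e1', ← hdy.eq, mul_inv_cancel_right]
        _ = x := by rw [← mul_assoc, (mem_center_iff.1 hdZ x).symm, mul_inv_cancel_right]
    obtain ⟨i, h | h⟩ := hcov t
    · have h1 : Commute (y ^ 2) (x ^ i * ((x ^ i)⁻¹ * t)) :=
        (hcx.pow_right i).mul_right (mem_center_iff.1 (hNZ h) _)
      rw [mul_inv_cancel_left] at h1
      exact h1.eq.symm
    · have h1 : Commute (y ^ 2) (y * x ^ i * ((y * x ^ i)⁻¹ * t)) :=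
        (((Commute.self_pow y 2).symm).mul_right (hcx.pow_right i)).mul_right (mem_center_iff.1 (hNZ h) _)
      rw [mul_inv_cancel_left] at h1
      exact h1.eq.symm
  obtain ⟨z₀, hz₀⟩ : ∃ z₀, z₀ = y ^ 2 := ⟨_, rfl⟩
  have hxm : x ^ m ∈ center S := by
    have h := mul_mem (inv_mem (hNZ he0)) hy2
    rwa [mul_inv_rev, inv_inv, inv_mul_cancel_right] at h
  have hd1 : d = 1 := by
    refine hall d hdZ fun i => ?_
    by_contra hdi
    have hsq : (y * x) ^ 2 = d * y ^ 2 := by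
      calc (y * x) ^ 2 = (y * x * y⁻¹) * y ^ 2 * x := by rw [sq, sq]; group
        _ = (y * x * y⁻¹) * (x * y ^ 2) := by rw [mul_assoc, ← mem_center_iff.1 hy2 x]
        _ = d * y ^ 2 := by rw [hd, ← mul_assoc]
    have hs2 : (y * x) ^ 2 ∈ center S := hsq ▸ mul_mem hdZ hy2
    refine hnot _ hxy hs2 i ?_
    convert center_mul_mem hS (hmax i) hdi (hnot y hyZ hy2 i) using 1
    exact Subtype.ext hsq
  have hinv : y * x * y⁻¹ = x⁻¹ := eq_inv_of_mul_eq_one_left (hd ▸ hd1)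
  classical
  have hex : ∃ k : ℕ, x ^ 2 ^ k ∈ center S := by
    obtain ⟨k, hk⟩ := hS x
    exact ⟨k, hk ▸ one_mem _⟩
  set k := Nat.find hex with hk
  have hkspec : x ^ 2 ^ k ∈ center S := Nat.find_spec hex
  obtain ⟨z₁, hz₁⟩ : ∃ z₁, z₁ = x ^ 2 ^ k := ⟨_, rfl⟩
  rw [← hz₁] at hkspec
  have hz₁not : ∀ i, (⟨z₁, hkspec⟩ : center S) ∉ C i := by
    rcases Nat.eq_zero_or_pos k with h0 | hpos
    · exact absurd (by rw [hz₁, h0, pow_zero, pow_one] at hkspec; exact hkspec) hxZ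
    intro i hi
    have hlt : x ^ 2 ^ (k - 1) ∉ center S := Nat.find_min hex (show k - 1 < k by omega)
    have he : (x ^ 2 ^ (k - 1)) ^ 2 = z₁ := by
      rw [hz₁, ← pow_mul, ← pow_succ, Nat.sub_add_cancel hpos]
    refine hnot _ hlt (he ▸ hkspec) i ?_
    convert hi using 1
    exact Subtype.ext he
  have hz01 : z₀ = z₁ := by
    have h1 : z₀ * z₁ = 1 := hz₀ ▸ hall _ (mul_mem hy2 hkspec) fun i =>
      center_mul_mem hS (hmax i) (hnot y hyZ hy2 i) (hz₁not i)
    have h2 : z₁ * z₁ = 1 := hall _ (mul_mem hkspec hkspec) fun i => by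
      have := center_sq_mem hS (hmax i) ⟨z₁, hkspec⟩
      rw [sq] at this
      exact this
    exact mul_right_cancel (h1.trans h2.symm)
  have hzsq : ∀ z ∈ center S, z ^ 2 = 1 := fun z hz => hall _ (pow_mem hz 2) fun i =>
    center_sq_mem hS (hmax i) ⟨z, hz⟩
  -- the complement
  have hnorm : zpowers y ≤ normalizer (zpowers x : Set S) := by
    rw [zpowers_le, mem_normalizer_iff]
    intro t
    have hmap : (zpowers x).map (MulAut.conj y).toMonoidHom = zpowers x := by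
      rw [MonoidHom.map_zpowers, MulEquiv.coe_toMonoidHom, MulAut.conj_apply, hinv, zpowers_inv]
    conv_rhs => rw [← hmap]
    rw [mem_map_equiv, MulAut.conj_symm_apply]
    simp [mul_assoc]
  set Q := zpowers y ⊔ zpowers x with hQ
  have hxQ : x ∈ Q := mem_sup_right (mem_zpowers x)
  have hyQ : y ∈ Q := mem_sup_left (mem_zpowers y)
  have hQform : ∀ q ∈ Q, ∃ b : ℤ, q = x ^ b ∨ q = y * x ^ b := by
    intro q hq
    have hq' := SetLike.mem_coe.2 hq
    rw [hQ, coe_mul_of_left_le_normalizer_right _ _ hnorm] at hq'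
    obtain ⟨_, ⟨a, rfl⟩, _, ⟨b, rfl⟩, rfl⟩ := hq'
    have hy2x : y ^ (2 : ℤ) = x ^ ((2 : ℤ) ^ k) := by
      rw [zpow_ofNat, ← hz₀, hz01, hz₁, ← zpow_natCast]; push_cast; rfl
    rcases Int.even_or_odd a with ⟨c, hc⟩ | ⟨c, hc⟩
    · refine ⟨(2 : ℤ) ^ k * c + b, Or.inl ?_⟩
      show y ^ a * x ^ b = _
      rw [hc, ← two_mul, zpow_mul, hy2x, ← zpow_mul, ← zpow_add]
    · refine ⟨(2 : ℤ) ^ k * c + b, Or.inr ?_⟩
      show y ^ a * x ^ b = _
      rw [hc, add_comm (2 * c) 1, zpow_one_add, zpow_mul, hy2x, ← zpow_mul, mul_assoc, ← zpow_add]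
  have hQN : Q ⊓ N = ⊥ := by
    rw [eq_bot_iff]
    rintro q ⟨hqQ, hqN⟩
    have hqZ := hNZ hqN
    obtain ⟨b, rfl | rfl⟩ := hQform q hqQ
    · set l : ℤ := (Int.gcd b ((2 ^ k : ℕ) : ℤ) : ℤ) with hl
      have hgl : x ^ (Int.gcd b ((2 ^ k : ℕ) : ℤ)) ∈ center S := by
        rw [← zpow_natCast, Int.gcd_eq_gcd_ab, zpow_add, zpow_mul, zpow_mul, zpow_natCast]
        exact mul_mem (zpow_mem hqZ _) (zpow_mem (hz₁ ▸ hkspec) _)
      have hdvd : Int.gcd b ((2 ^ k : ℕ) : ℤ) ∣ 2 ^ k := Int.natCast_dvd_natCast.1 (Int.gcd_dvd_right _ _)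
      obtain ⟨j, hj, hje⟩ := (Nat.dvd_prime_pow Nat.prime_two).1 hdvd
      rw [hje] at hgl
      have hkj : k ≤ j := Nat.find_min' hex hgl
      have : ((2 ^ k : ℕ) : ℤ) ∣ b := by
        have h1 := Int.gcd_dvd_left b ((2 ^ k : ℕ) : ℤ)
        rw [hje, le_antisymm hj hkj] at h1
        exact h1
      obtain ⟨c, rfl⟩ := this
      rw [mem_bot]
      rw [zpow_mul, zpow_natCast, ← hz₁] at hqN ⊢
      rcases Int.even_or_odd c with ⟨e, he⟩ | ⟨e, he⟩
      · rw [he, ← two_mul, zpow_mul, zpow_ofNat, hzsq _ hkspec, one_zpow]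
      · exfalso
        rw [he, zpow_add, zpow_mul, zpow_ofNat, hzsq _ hkspec, one_zpow, one_mul, zpow_one] at hqN
        obtain ⟨_, h⟩ := mem_map_center.1 hqN
        exact hz₁not i₀ h
    · exfalso
      have h1 : Commute (y * x ^ b) x := (mem_center_iff.1 hqZ x).symm
      have h2 : y * x = x * y := by
        refine mul_right_cancel (b := x ^ b) ?_
        calc y * x * x ^ b = y * x ^ b * x := by rw [mul_assoc, ← ((Commute.refl x).zpow_left b).eq, ← mul_assoc]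
          _ = x * (y * x ^ b) := h1.eq
          _ = x * y * x ^ b := (mul_assoc _ _ _).symm
      have h3 : x ^ 2 ∈ N := by
        have e : d = x ^ 2 := by rw [hd, h2, mul_inv_cancel_right, sq]
        rwa [e] at hd0
      exact hxZ (mem_center_of_sq_mem hS (hmax i₀) (hq i₀) h3)
  have hcomm : ∀ a ∈ N, ∀ b : S, a * b = b * a := fun a ha b => (mem_center_iff.1 (hNZ ha) b).symm
  set f : ↥Q →* S ⧸ N := (QuotientGroup.mk' N).comp Q.subtype with hf
  have hinj : Function.Injective f := by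
    rw [injective_iff_map_eq_one]
    intro q hq1
    have hmem : (q : S) ∈ Q ⊓ N := ⟨q.2, (QuotientGroup.eq_one_iff _).1 hq1⟩
    rw [hQN, mem_bot] at hmem
    exact Subtype.ext hmem
  have hsurj : Function.Surjective f := by
    intro t
    obtain ⟨s, rfl⟩ := QuotientGroup.mk_surjective t
    obtain ⟨i, h | h⟩ := hcov s
    · exact ⟨⟨x ^ i, pow_mem hxQ i⟩, QuotientGroup.eq.2 h⟩
    · exact ⟨⟨y * x ^ i, mul_mem hyQ (pow_mem hxQ i)⟩, QuotientGroup.eq.2 h⟩
  let ef : ↥Q ≃* S ⧸ N := MulEquiv.ofBijective f ⟨hinj, hsurj⟩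
  refine ⟨N, Q, ⟨le_top, le_top, fun a ha b _ => hcomm a ha b, by rw [inf_comm]; exact hQN, ?_⟩,
    ⟨⟨⟨fun a b => Subtype.ext (hcomm a a.2 b)⟩⟩, fun a ha => hzsq a (hNZ ha)⟩, ?_, ?_⟩
  · refine eq_top_iff.2 fun s _ => ?_
    obtain ⟨i, h | h⟩ := hcov s
    · have := mul_mem (mem_sup_right (pow_mem hxQ i) : x ^ i ∈ N ⊔ Q) (mem_sup_left h)
      rwa [mul_inv_cancel_left] at this
    · have := mul_mem (mem_sup_right (mul_mem hyQ (pow_mem hxQ i)) : y * x ^ i ∈ N ⊔ Q) (mem_sup_left h)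
      rwa [mul_inv_cancel_left] at this
  · intro hc
    refine hna ⟨⟨fun a b => ?_⟩⟩
    have h := congrArg ef (mul_comm' (ef.symm a) (ef.symm b))
    simpa using h
  · obtain ⟨u, hu1, hu2⟩ := hu
    refine ⟨ef.symm u, (ef.symm.orderOf_eq u).trans hu1, fun v hv => ?_⟩
    rw [← hu2 (ef v) ((ef.orderOf_eq v).trans hv), MulEquiv.symm_apply_apply]

end CfsgLib.QuatExt
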