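import Cfsg.Agent.Lib.Coprime.Frobenius
import Cfsg.Agent.Lib.Coprime.FpfAction
import Mathlib.GroupTheory.SpecificGroups.Quaternion
import Mathlib.GroupTheory.SemidirectProduct
import Mathlib.Algebra.Module.ZMod
import Mathlib.LinearAlgebra.Determinant
import Mathlib.FieldTheory.Finite.Basic
import Mathlib.Data.Nat.Factorization.Basic
import Mathlib.Algebra.Field.ZMod
import Mathlib.Data.Nat.Squarefree

/-!
# Orders of Frobenius kernels with quaternion complement
-/

set_option autoImplicit false
set_option linter.style.haveILetI false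

namespace CfsgLib.PGroup.QuaternionKernel

open Subgroup

/-- Anticommuting square roots of `-1` on a vector space over `ZMod p` force even dimension. -/
theorem even_finrank {p : ℕ} [Fact p.Prime] (hp : p ≠ 2) {V : Type*} [AddCommGroup V]
    [Module (ZMod p) V] [FiniteDimensional (ZMod p) V] (f g : V →ₗ[ZMod p] V)
    (hf : ∀ x, f (f x) = -x) (hg : ∀ x, g (g x) = -x) (hfg : ∀ x, f (g x) = -g (f x)) :
    Even (Module.finrank (ZMod p) V) := by
  have e : f.comp g = (-1 : ZMod p) • g.comp f := LinearMap.ext fun x => by simp [hfg x]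
  have h := congrArg LinearMap.det e
  rw [LinearMap.det_smul, LinearMap.det_comp, LinearMap.det_comp, mul_comm (LinearMap.det g)] at h
  have hne : ∀ k : V →ₗ[ZMod p] V, (∀ x, k (k x) = -x) → LinearMap.det k ≠ 0 := by
    intro k hk h0
    have e2 : k.comp k = (-1 : ZMod p) • LinearMap.id := LinearMap.ext fun x => by simp [hk x]
    have h2 := congrArg LinearMap.det e2
    rw [LinearMap.det_smul, LinearMap.det_comp, h0, mul_zero, LinearMap.det_id, mul_one] at h2
    exact pow_ne_zero _ (neg_ne_zero.2 one_ne_zero) h2.symm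
  have h3 : ((-1 : ZMod p)) ^ Module.finrank (ZMod p) V = 1 := by
    refine mul_right_cancel₀ (mul_ne_zero (hne f hf) (hne g hg)) ?_
    rw [one_mul, ← h]
  rcases Nat.even_or_odd (Module.finrank (ZMod p) V) with he | ho
  · exact he
  · rw [ho.neg_one_pow] at h3
    haveI : Fact (2 < p) := ⟨lt_of_le_of_ne (Fact.out : p.Prime).two_le (Ne.symm hp)⟩
    exact absurd h3 (ZMod.neg_one_ne_one)

/-- The additive case of exponent `p`. -/
theorem isSquare_card_zmod {p : ℕ} [Fact p.Prime] (hp : p ≠ 2) {V : Type*} [AddCommGroup V] [Finite V]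
    [Module (ZMod p) V] (I J : V →+ V) (hI : ∀ x, I (I x) = -x) (hJ : ∀ x, J (J x) = -x)
    (hIJ : ∀ x, I (J x) = -J (I x)) : IsSquare (Nat.card V) := by
  haveI : FiniteDimensional (ZMod p) V := Module.Finite.of_finite
  have hev := even_finrank hp (AddMonoidHom.toZModLinearMap p I) (AddMonoidHom.toZModLinearMap p J)
    hI hJ hIJ
  rw [Module.natCard_eq_pow_finrank (K := ZMod p), Nat.card_zmod]
  exact hev.isSquare_pow p

/-- The case of exponent `p`. -/
theorem isSquare_card_of_pow {p : ℕ} [Fact p.Prime] (hp : p ≠ 2) {W : Type*} [CommGroup W] [Finite W]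
    (h : ∀ x : W, x ^ p = 1) (I J : W →* W) (hI : ∀ x, I (I x) = x⁻¹) (hJ : ∀ x, J (J x) = x⁻¹)
    (hIJ : ∀ x, I (J x) = (J (I x))⁻¹) : IsSquare (Nat.card W) := by
  rw [← Nat.card_congr (Additive.toMul (α := W))]
  exact @isSquare_card_zmod p _ hp (Additive W) Additive.addCommGroup _
    (AddCommGroup.zmodModule fun x => h x.toMul) (MonoidHom.toAdditive I) (MonoidHom.toAdditive J)
    (fun x => hI x.toMul) (fun x => hJ x.toMul) (fun x => hIJ x.toMul)

/-- An abelian group of odd order with anticommuting square roots of inversion has square order. -/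
theorem isSquare_card {A : Type*} [CommGroup A] [Finite A] (hodd : Odd (Nat.card A))
    (I J : A →* A) (hI : ∀ x, I (I x) = x⁻¹) (hJ : ∀ x, J (J x) = x⁻¹)
    (hIJ : ∀ x, I (J x) = (J (I x))⁻¹) : IsSquare (Nat.card A) := by
  induction hn : Nat.card A using Nat.strong_induction_on generalizing A with
  | _ n ih =>
    subst hn
    by_cases h1 : Nat.card A = 1
    · exact ⟨1, by rw [h1]⟩
    obtain ⟨p, hp, hpd⟩ := Nat.exists_prime_and_dvd h1
    haveI := Fact.mk hp
    have hp2 : p ≠ 2 := fun e => Nat.not_even_iff_odd.2 hodd (even_iff_two_dvd.2 (e ▸ hpd))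
    let π : A →* A := powMonoidHom p
    have hmap : ∀ (k : A →* A) (x : A), π x = 1 → π (k x) = 1 := fun k x hx => by
      show k x ^ p = 1
      rw [← map_pow, show x ^ p = 1 from hx, map_one]
    let r₀ : (A →* A) → (π.ker →* π.ker) := fun k =>
      (k.comp π.ker.subtype).codRestrict π.ker fun x =>
        MonoidHom.mem_ker.2 (hmap k x (MonoidHom.mem_ker.1 x.2))
    have hker : IsSquare (Nat.card π.ker) := isSquare_card_of_pow hp2
      (fun x => Subtype.ext (MonoidHom.mem_ker.1 x.2)) (r₀ I) (r₀ J) (fun x => Subtype.ext (hI x))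
      (fun x => Subtype.ext (hJ x)) (fun x => Subtype.ext (hIJ x))
    have hmul : Nat.card π.range * Nat.card π.ker = Nat.card A := by
      rw [Nat.card_congr (QuotientGroup.quotientKerEquivRange π).symm.toEquiv,
        ← Subgroup.card_eq_card_quotient_mul_card_subgroup]
    have hlt : Nat.card π.range < Nat.card A := by
      obtain ⟨a, ha⟩ := exists_prime_orderOf_dvd_card' p hpd
      have : 1 < Nat.card π.ker := by
        rw [Finite.one_lt_card_iff_nontrivial, nontrivial_iff_exists_ne_one]
        exact ⟨a, MonoidHom.mem_ker.2 (show a ^ p = 1 from ha ▸ pow_orderOf_eq_one a),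
          fun e => hp.ne_one (by rw [← ha, e, orderOf_one])⟩
      rw [← hmul]
      exact lt_mul_of_one_lt_right Nat.card_pos this
    have res : ∀ k : A →* A, ∀ x ∈ π.range, k x ∈ π.range := by
      rintro k _ ⟨y, rfl⟩
      exact ⟨k y, (map_pow k y p).symm⟩
    let r : (A →* A) → (π.range →* π.range) := fun k =>
      (k.comp π.range.subtype).codRestrict π.range fun x => res k x x.2
    have hodd' : Odd (Nat.card π.range) := Nat.Odd.of_mul_left (hmul.symm ▸ hodd : Odd (Nat.card π.range * Nat.card π.ker))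
    have := ih _ hlt (A := π.range) hodd' (r I) (r J) (fun x => Subtype.ext (hI x))
      (fun x => Subtype.ext (hJ x)) (fun x => Subtype.ext (hIJ x)) rfl
    exact hmul ▸ this.mul hker

/-- Necessity: the kernel has odd square order greater than one. -/
theorem kernel_card {L : Type*} [Group L] [Finite L] {H : Subgroup L}
    (hH : Cfsg.IsFrobeniusComplement H) (e : H ≃* QuaternionGroup 2) :
    Odd (Nat.card (Cfsg.frobeniusKernel H)) ∧ IsSquare (Nat.card (Cfsg.frobeniusKernel H)) ∧
      1 < Nat.card (Cfsg.frobeniusKernel H) := by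
  classical
  obtain ⟨N, hN, hNn, hc⟩ := CfsgLib.Coprime.frob_kernel_subgroup hH
  haveI := hNn
  have hcard : Nat.card (Cfsg.frobeniusKernel H) = Nat.card N := Nat.card_congr (Equiv.setCongr hN.symm)
  rw [hcard]
  have hN1 : N ≠ ⊥ := fun e' => hH.2.1 (by
    have h := hc.sup_eq_top; rwa [e', bot_sup_eq] at h)
  have hfpf : CfsgLib.Coprime.IsFpfOn H N :=
    (CfsgLib.Coprime.frob_iff_fixed_point_free hc hN1 hH.1).1 hH
  have hHN : H ≤ normalizer (N : Set L) := by rw [normalizer_eq_top]; exact le_top
  have h8 : Nat.card H = 8 := by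
    rw [Nat.card_congr e.toEquiv, Nat.card_eq_fintype_card]; decide
  have hodd : Odd (Nat.card N) := by
    have h := CfsgLib.Coprime.frob_coprime_card_index hH
    rw [hc.index_eq_card, h8, show (8 : ℕ) = 2 ^ 3 by rfl,
      Nat.coprime_pow_left_iff (by norm_num), Nat.coprime_two_left] at h
    exact h
  refine ⟨hodd, ?_, (Finite.one_lt_card_iff_nontrivial).2 ((nontrivial_iff_ne_bot N).2 hN1)⟩
  set u : L := (e.symm (.a 1) : L) with hu
  set v : L := (e.symm (.xa 0) : L) with hv
  set z : L := (e.symm (.a 2) : L) with hz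
  have huu : u * u = z := by rw [hu, hz, ← Subgroup.coe_mul, ← map_mul]; rfl
  have hvv : v * v = z := by rw [hv, hz, ← Subgroup.coe_mul, ← map_mul]; rfl
  have huv : u * v = z * (v * u) := by
    rw [hu, hv, hz, ← Subgroup.coe_mul, ← Subgroup.coe_mul, ← Subgroup.coe_mul, ← map_mul, ← map_mul,
      ← map_mul]
    exact congrArg (fun q => ((e.symm q : H) : L)) (by decide)
  have hzo : orderOf z = 2 := by
    rw [hz, orderOf_coe, MulEquiv.orderOf_eq]
    exact orderOf_eq_prime (by decide) (by decide)
  have hinv : ∀ x ∈ N, z * x * z⁻¹ = x⁻¹ :=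
    hfpf.involution_inverts hHN (e.symm (.a 2)).2 hzo
  letI : CommGroup N :=
    { (inferInstance : Group N) with
      mul_comm := fun a b => by
        have h1 : z * ((a : L) * b) * z⁻¹ = (z * a * z⁻¹) * (z * b * z⁻¹) := by group
        rw [hinv _ (mul_mem a.2 b.2), hinv _ a.2, hinv _ b.2, mul_inv_rev] at h1
        have h2 := congrArg (fun t => t⁻¹) h1
        simp only [mul_inv_rev, inv_inv] at h2
        exact Subtype.ext h2 }
  let c : L → N →* N := fun t => MonoidHom.mk' (fun x => ⟨t * x * t⁻¹, hNn.conj_mem _ x.2 t⟩)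
    fun a b => Subtype.ext (show t * ((a : L) * b) * t⁻¹ = _ * _ by group)
  refine isSquare_card hodd (c u) (c v) (fun x => Subtype.ext ?_) (fun x => Subtype.ext ?_)
    (fun x => Subtype.ext ?_)
  · show u * (u * x * u⁻¹) * u⁻¹ = ((x : L))⁻¹
    rw [← hinv x x.2, ← huu]; group
  · show v * (v * x * v⁻¹) * v⁻¹ = ((x : L))⁻¹
    rw [← hinv x x.2, ← hvv]; group
  · show u * (v * x * v⁻¹) * u⁻¹ = (v * (u * x * u⁻¹) * v⁻¹)⁻¹
    have hm : v * (u * x * u⁻¹) * v⁻¹ ∈ N := hNn.conj_mem _ (hNn.conj_mem _ x.2 u) v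
    rw [← hinv _ hm, show u * (v * x * v⁻¹) * u⁻¹ = (u * v) * x * (u * v)⁻¹ by group, huv]; group

/-- Elements satisfying the quaternion relations give a homomorphism. -/
theorem exists_quatHom {M : Type*} [Group M] (u v : M) (hu : u ^ 4 = 1) (hv : v * v = u * u)
    (huv : u * v = v * (u * u * u)) :
    ∃ φ : QuaternionGroup 2 →* M, φ (.a 1) = u ∧ φ (.xa 0) = v ∧ φ (.a 2) = u * u := by
  let U : ZMod (2 * 2) → M := fun i => u ^ i.val
  have hUa : ∀ i j, U (i + j) = U i * U j := fun i j => by
    show u ^ (i + j).val = u ^ i.val * u ^ j.val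
    rw [← pow_add, ZMod.val_add, pow_eq_pow_mod (i.val + j.val) hu]
  have hcomm : ∀ n : ℕ, u ^ n * v = v * (u ^ n) ^ 3 := by
    intro n
    induction n with
    | zero => simp
    | succ n ih =>
      rw [pow_succ' u n, mul_assoc, ih, ← mul_assoc u v, huv,
        (Commute.self_pow u n).mul_pow, mul_assoc]
      congr 2
      simp [pow_succ, mul_assoc]
  have hU3 : ∀ i, U i ^ 3 = U (-i) := fun i => by
    have h1 : U (i + i + i) = U i ^ 3 := by rw [hUa, hUa, pow_succ, pow_two]
    have h4 : ∀ j : ZMod (2 * 2), j + j + j = -j := by decide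
    rw [← h1, h4]
  have hUv : ∀ i, U i * v = v * U (-i) := fun i => by rw [← hU3]; exact hcomm _
  let f : QuaternionGroup 2 → M := fun
    | .a i => U i
    | .xa i => v * U i
  refine ⟨MonoidHom.mk' f ?_, ?_, ?_, ?_⟩
  · rintro (i | i) (j | j)
    · rw [QuaternionGroup.a_mul_a]; exact hUa i j
    · rw [QuaternionGroup.a_mul_xa]
      show v * U (j - i) = U i * (v * U j)
      rw [← mul_assoc, hUv, mul_assoc, ← hUa]; congr 2; ring
    · rw [QuaternionGroup.xa_mul_a]
      show v * U (i + j) = v * U i * U j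
      rw [hUa, mul_assoc]
    · rw [QuaternionGroup.xa_mul_xa]
      show U ((2 : ℕ) + j - i) = v * U i * (v * U j)
      rw [mul_assoc, ← mul_assoc (U i), hUv, ← mul_assoc, ← mul_assoc, hv,
        show u * u = U 2 by simp [U, show (2 : ZMod (2 * 2)).val = 2 from rfl, pow_two],
        ← hUa, ← hUa]
      congr 1; push_cast; ring
  · show U 1 = u; simp [U, show (1 : ZMod (2 * 2)).val = 1 from rfl]
  · show v * U 0 = v; simp [U]
  · show U 2 = u * u; simp [U, show (2 : ZMod (2 * 2)).val = 2 from rfl, pow_two]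

/-- A ring of any odd cardinality in which `-1` is a sum of two squares. -/
theorem exists_ring (k : ℕ) (hk : k ≠ 0) :
    ∃ (R : Type) (_ : CommRing R) (_ : Finite R) (a b : R), Nat.card R = k ∧ a ^ 2 + b ^ 2 = -1 := by
  classical
  let L := k.primeFactorsList
  haveI hf : ∀ i : Fin L.length, Fact (L[i]).Prime := fun i =>
    ⟨Nat.prime_of_mem_primeFactorsList (List.getElem_mem _)⟩
  choose a b hab using fun i : Fin L.length => ZMod.sq_add_sq (L[i]) (-1)
  haveI : ∀ i : Fin L.length, NeZero (L[i]) := fun i => ⟨(hf i).out.ne_zero⟩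
  refine ⟨(i : Fin L.length) → ZMod (L[i]), inferInstance, inferInstance, a, b, ?_, funext hab⟩
  rw [Nat.card_pi]
  simp only [Nat.card_zmod]
  rw [show (∏ i : Fin L.length, L[i]) = L.prod from Fin.prod_univ_getElem L]
  exact Nat.prod_primeFactorsList hk

/-- Sufficiency: every odd square greater than one occurs. -/
theorem exists_group (k : ℕ) (hodd : Odd k) (hk : 1 < k) :
    ∃ (L : Type) (_ : Group L) (_ : Finite L) (H : Subgroup L), Cfsg.IsFrobeniusComplement H ∧
      Nonempty (H ≃* QuaternionGroup 2) ∧ Nat.card (Cfsg.frobeniusKernel H) = k * k := by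
  obtain ⟨R, _, _, a, b, hR, hab⟩ := exists_ring k (by omega)
  let N := Multiplicative (R × R)
  let mk : (R × R →+ R × R) → (N →* N) := fun f => AddMonoidHom.toMultiplicative f
  let fI : R × R →+ R × R :=
    AddMonoidHom.mk' (fun t => (-t.2, t.1)) fun s t => Prod.ext (neg_add _ _) rfl
  let fJ : R × R →+ R × R :=
    AddMonoidHom.mk' (fun t => (a * t.1 + b * t.2, b * t.1 - a * t.2)) fun s t =>
      Prod.ext (by show _ = _ + _; simp only [Prod.fst_add, Prod.snd_add]; ring)
        (by show _ = _ + _; simp only [Prod.fst_add, Prod.snd_add]; ring)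
  have hII : ∀ t, fI (fI t) = -t := fun t => Prod.ext rfl rfl
  have hJJ : ∀ t, fJ (fJ t) = -t := fun t => Prod.ext
    (by show a * (a * t.1 + b * t.2) + b * (b * t.1 - a * t.2) = -t.1
        linear_combination t.1 * hab)
    (by show b * (a * t.1 + b * t.2) - a * (b * t.1 - a * t.2) = -t.2
        linear_combination t.2 * hab)
  have hIJ : ∀ t, fI (fJ t) = -fJ (fI t) := fun t => Prod.ext
    (by show -(b * t.1 - a * t.2) = -(a * -t.2 + b * t.1); ring)
    (by show a * t.1 + b * t.2 = -(b * -t.2 - a * t.1); ring)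
  let eI : MulAut N := AddEquiv.toMultiplicative
    { toFun := fI, invFun := fun t => -fI t
      left_inv := fun t => by show -fI (fI t) = t; rw [hII, neg_neg]
      right_inv := fun t => by show fI (-fI t) = t; rw [map_neg, hII, neg_neg]
      map_add' := map_add fI }
  let eJ : MulAut N := AddEquiv.toMultiplicative
    { toFun := fJ, invFun := fun t => -fJ t
      left_inv := fun t => by show -fJ (fJ t) = t; rw [hJJ, neg_neg]
      right_inv := fun t => by show fJ (-fJ t) = t; rw [map_neg, hJJ, neg_neg]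
      map_add' := map_add fJ }
  have eII : ∀ x, eI (eI x) = x⁻¹ := fun x => hII (Multiplicative.toAdd x)
  have eJJ : ∀ x, eJ (eJ x) = x⁻¹ := fun x => hJJ (Multiplicative.toAdd x)
  have eIJ : ∀ x, eI (eJ x) = (eJ (eI x))⁻¹ := fun x => hIJ (Multiplicative.toAdd x)
  obtain ⟨φ, hu, hv, hz⟩ := exists_quatHom eI eJ
    (MulEquiv.ext fun x => by
      show eI (eI (eI (eI x))) = x
      rw [eII, eII, inv_inv])
    (MulEquiv.ext fun x => (eJJ x).trans (eII x).symm)
    (MulEquiv.ext fun x => by
      show eI (eJ x) = eJ (eI (eI (eI x)))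
      rw [eIJ, eII, map_inv])
  have hzx : ∀ x, φ (.a 2) x = x⁻¹ := fun x => by rw [hz]; exact eII x
  have hoddN : Odd (Nat.card N) := by
    rw [show Nat.card N = k * k by rw [← hR, ← Nat.card_prod]; rfl]
    exact hodd.mul hodd
  have hfree : ∀ q : QuaternionGroup 2, q ≠ 1 → ∀ x : N, φ q x = x → x = 1 := by
    intro q hq x hx
    have hfix : φ (.a 2) x = x := by
      rcases (show ∀ q : QuaternionGroup 2, q ≠ 1 → q = .a 2 ∨ q * q = .a 2 by decide) q hq with e | e
      · rwa [← e]
      · rw [← e, map_mul, MulAut.mul_apply, hx, hx]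
    rw [hzx] at hfix
    have h2 : x ^ 2 = 1 := by
      rw [pow_two]
      nth_rewrite 1 [← hfix]
      rw [inv_mul_cancel]
    refine orderOf_eq_one_iff.1 (Nat.eq_one_of_dvd_coprimes ?_ (orderOf_dvd_of_pow_eq_one h2)
      (orderOf_dvd_natCard x))
    exact Nat.coprime_two_left.2 hoddN
  let L := N ⋊[φ] QuaternionGroup 2
  haveI : Finite L := Finite.of_equiv _ SemidirectProduct.equivProd.symm
  let K : Subgroup L := (SemidirectProduct.inl : N →* L).range
  let H : Subgroup L := (SemidirectProduct.inr : QuaternionGroup 2 →* L).range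
  haveI : K.Normal := by
    show (SemidirectProduct.inl : N →* L).range.Normal
    rw [SemidirectProduct.range_inl_eq_ker_rightHom]; infer_instance
  have hc : Subgroup.IsComplement' K H := by
    refine Subgroup.isComplement'_of_disjoint_and_mul_eq_univ ?_ ?_
    · rw [disjoint_def]
      rintro _ ⟨n, rfl⟩ ⟨q, hq⟩
      have h1 := congrArg SemidirectProduct.right hq
      simp only [SemidirectProduct.right_inr, SemidirectProduct.right_inl] at h1
      rw [← hq, h1, map_one]
    · exact Set.eq_univ_of_forall fun x => Set.mem_mul.2 ⟨_, ⟨x.left, rfl⟩, _, ⟨x.right, rfl⟩,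
        SemidirectProduct.inl_left_mul_inr_right x⟩
  have hNcard : Nat.card N = k * k := by rw [← hR, ← Nat.card_prod]; rfl
  have hKcard : Nat.card K = k * k := by
    rw [← hNcard]
    exact (Nat.card_congr (MonoidHom.ofInjective SemidirectProduct.inl_injective).toEquiv).symm
  have hK1 : K ≠ ⊥ := fun e => by
    rw [e, Subgroup.card_bot] at hKcard
    nlinarith
  have hH1 : H ≠ ⊥ := fun e => by
    have : SemidirectProduct.inr (.a 1) ∈ H := ⟨_, rfl⟩
    rw [e, Subgroup.mem_bot, ← map_one (SemidirectProduct.inr : QuaternionGroup 2 →* L)] at this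
    exact absurd (SemidirectProduct.inr_injective this) (by decide)
  have hF : Cfsg.IsFrobeniusComplement H := by
    refine (CfsgLib.Coprime.frob_iff_fixed_point_free hc hK1 hH1).2 ?_
    rintro _ ⟨q, rfl⟩ hq
    refine (eq_bot_iff_forall _).2 ?_
    rintro _ ⟨⟨n, rfl⟩, hn⟩
    have hcm := mem_centralizer_singleton_iff.1 hn
    have hne : q ≠ 1 := fun e => hq (by rw [e, map_one])
    have : φ q n = n := by
      refine SemidirectProduct.inl_injective (φ := φ) ?_
      rw [SemidirectProduct.inl_aut, ← hcm, mul_assoc, ← map_mul, mul_inv_cancel, map_one, mul_one]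
    rw [hfree q hne n this, map_one]
  refine ⟨L, inferInstance, inferInstance, H, hF,
    ⟨(MonoidHom.ofInjective SemidirectProduct.inr_injective).symm⟩, ?_⟩
  rw [CfsgLib.Coprime.frob_card_kernel hF, hc.symm.symm.index_eq_card, hKcard]

end CfsgLib.PGroup.QuaternionKernel
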