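import Cfsg.Agent.Lib.CFun.OddRankTwo

/-!
Automorphisms of large prime power order of a `p`-group of rank at most two.
-/

set_option autoImplicit false
set_option maxHeartbeats 800000

open Subgroup
open scoped commutatorElement

namespace CfsgLib.RankTwoLarge

universe u

variable {G : Type u} [Group G] [Finite G] {p : ℕ} [hp : Fact p.Prime]

open CfsgLib.CFun in
/-- A prime power element whose prime is too large for `GL_2(p)` centralizes a `p`-group of rank two. -/
theorem centralizes_large (hp2 : p ≠ 2) {R : Subgroup G} (hR : IsPGroup p R)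
    (hr : Cfsg.PRankLE p 2 R) {x : G} (hxR : x ∈ normalizer (R : Set G)) {r i : ℕ} (hrpr : r.Prime)
    (hxo : orderOf x = r ^ i) (hrp : r ≠ p)
    (hgap : ∀ a b : ℕ, a ≤ 2 → b ≤ a → r ∣ p ^ a - p ^ b → a = b) :
    x ∈ centralizer (R : Set G) := by
  classical
  set A := zpowers x with hA
  have hAR : A ≤ normalizer (R : Set G) := zpowers_le.2 hxR
  have hxp : (orderOf x).Coprime p := hxo ▸ ((Nat.coprime_primes hrpr hp.out).2 hrp).pow_left i
  obtain ⟨C, ⟨hchar, hpow, hcc, hPC⟩, hcen⟩ := CfsgLib.CFun.exists_critical hR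
  set D₀ := CfsgLib.PGroup.smallSubgroup C hpow hcc with hD₀
  have hmemD : ∀ {y : R}, y ∈ D₀ ↔ y ∈ C ∧ y ^ p = 1 := by
    intro y
    show y ∈ C ∧ y ^ CfsgLib.PGroup.smallExp p = 1 ↔ _
    rw [smallExp_of_odd hp2]
  haveI hDchar : D₀.Characteristic := by
    haveI := hchar
    refine characteristic_iff_map_le.2 fun e => ?_
    rintro _ ⟨y, hy, rfl⟩
    obtain ⟨hyC, hyp⟩ := hmemD.1 hy
    exact hmemD.2 ⟨CfsgLib.CFun.mem_of_map_conj e hyC,
      show e y ^ p = 1 by rw [← map_pow, hyp, map_one]⟩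
  set D := D₀.map R.subtype with hD
  have hDR : D ≤ R := map_subtype_le _
  have hAD : A ≤ normalizer (D : Set G) :=
    hAR.trans (CfsgLib.PGroup.normalizer_le_normalizer_map_char (hX := hDchar) R D₀)
  have hDe : ∀ y ∈ D, y ^ p = 1 := by
    rintro _ ⟨y, hy, rfl⟩
    rw [← map_pow, (hmemD.1 hy).2, map_one]
  have hDp : IsPGroup p D := hR.to_le hDR
  have hrkD : ∀ E : Subgroup D, Cfsg.IsElementaryAbelian p E → Nat.card E ≤ p ^ 2 := by
    intro E hE
    set E' := (E.map D.subtype).subgroupOf R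
    have hle : E.map D.subtype ≤ R := (map_subtype_le E).trans hDR
    have h1 := hr E' ⟨⟨fun a b => Subtype.ext (Subtype.ext ?_)⟩⟩ ?_
    · rwa [Nat.card_congr (subgroupOfEquivOfLe hle).toEquiv,
        card_map_of_injective D.subtype_injective] at h1
    · obtain ⟨a', ha', hae⟩ := a.2
      obtain ⟨b', hb', hbe⟩ := b.2
      show ((a : R) : G) * (b : R) = (b : R) * (a : R)
      have h2 : a' * b' = b' * a' :=
        congrArg Subtype.val (hE.1.is_comm.comm (⟨a', ha'⟩ : E) ⟨b', hb'⟩)
      have h3 := congrArg D.subtype h2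
      rw [map_mul, map_mul, hae, hbe] at h3
      exact h3
    · rintro a ⟨a', ha', hae⟩
      refine Subtype.ext ?_
      show (a : G) ^ p = 1
      have h3 := congrArg D.subtype (hE.2 a' ha')
      rw [map_pow, hae, map_one] at h3
      exact h3
  have hDcard : Nat.card D ≤ p ^ 3 :=
    CfsgLib.RankTwoOmega.card_le_of_exponent hDp hp2 (fun y => Subtype.ext (hDe y y.2)) hrkD
  set T := (commutator D).map D.subtype with hT
  have hTD : T ≤ D := map_subtype_le _
  have hTeq : T = ⁅D, D⁆ := by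
    rw [hT, _root_.commutator_def, Subgroup.map_commutator, ← MonoidHom.range_eq_map, D.range_subtype]
  have hAT : A ≤ normalizer (T : Set G) :=
    hAD.trans (CfsgLib.PGroup.normalizer_le_normalizer_map_char D (commutator D))
  set N := normalizer (T : Set G) with hN
  have hDN : D ≤ N := fun y hy => CfsgLib.PGroup.normalizer_le_normalizer_map_char D (commutator D)
    (le_normalizer hy)
  haveI : (T.subgroupOf N).Normal := Subgroup.normal_in_normalizer
  set π := QuotientGroup.mk' (T.subgroupOf N)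
  set V := (D.subgroupOf N).map π with hV
  have hVe : Cfsg.IsElementaryAbelian p V := by
    refine ⟨⟨⟨fun u v => Subtype.ext ?_⟩⟩, ?_⟩
    · obtain ⟨a, ha, hau⟩ := u.2
      obtain ⟨b, hb, hbv⟩ := v.2
      show (u : N ⧸ T.subgroupOf N) * v = v * u
      rw [← hau, ← hbv, ← commutatorElement_eq_one_iff_mul_comm, ← map_commutatorElement]
      refine (QuotientGroup.eq_one_iff _).2 ?_
      show ((⁅a, b⁆ : N) : G) ∈ T
      rw [hTeq]
      exact commutator_mem_commutator (show (a : G) ∈ D from ha) (show (b : G) ∈ D from hb)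
    · rintro _ ⟨a, ha, rfl⟩
      rw [← map_pow]
      refine (QuotientGroup.eq_one_iff _).2 ?_
      show ((a ^ p : N) : G) ∈ T
      rw [Subgroup.coe_pow, hDe (a : G) ha]
      exact one_mem _
  have hVc : Nat.card V ≤ p ^ 2 := by
    by_cases hTb : T = ⊥
    · refine (Nat.le_of_dvd Nat.card_pos (card_map_dvd (D.subgroupOf N) π)).trans ?_
      rw [Nat.card_congr (subgroupOfEquivOfLe hDN).toEquiv]
      have habel : IsMulCommutative D := ⟨⟨fun a b => Subtype.ext (by
        have h1 : ⁅(a : G), (b : G)⁆ ∈ T := hTeq ▸ commutator_mem_commutator a.2 b.2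
        rw [hTb, mem_bot, commutatorElement_eq_one_iff_mul_comm] at h1
        exact h1)⟩⟩
      haveI := habel
      have h2 := hrkD ⊤ ⟨⟨⟨fun a b => Subtype.ext (mul_comm' (a : D) b)⟩⟩,
        fun a _ => Subtype.ext (hDe a a.2)⟩
      rwa [card_top] at h2
    · have hTp : IsPGroup p T := hDp.to_le hTD
      have hTc : p ≤ Nat.card T := by
        obtain ⟨k, hk⟩ := IsPGroup.iff_card.1 hTp
        rcases k with _ | k
        · exact absurd (card_eq_one.1 (by rw [hk, pow_zero])) hTb
        · rw [hk, pow_succ]; exact Nat.le_mul_of_pos_left p (pow_pos hp.out.pos k)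
      have hmul : Nat.card V * Nat.card T ≤ Nat.card D := by
        have h1 := card_mul_index ((T.subgroupOf N).subgroupOf (D.subgroupOf N))
        have h2 : Nat.card V = ((T.subgroupOf N).subgroupOf (D.subgroupOf N)).index := by
          rw [hV, ← Subgroup.relIndex, ← relIndex_ker (f := π)]
          rw [QuotientGroup.ker_mk']
        have hTN : T.subgroupOf N ≤ D.subgroupOf N := comap_mono hTD
        rw [Nat.card_congr (subgroupOfEquivOfLe hTN).toEquiv,
          Nat.card_congr (subgroupOfEquivOfLe (hTD.trans hDN)).toEquiv,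
          Nat.card_congr (subgroupOfEquivOfLe hDN).toEquiv, ← h2] at h1
        rw [mul_comm]; exact h1.le
      have h3 : Nat.card V * p ≤ p ^ 2 * p :=
        (Nat.mul_le_mul_left _ hTc).trans (hmul.trans (hDcard.trans (le_of_eq (by ring))))
      exact Nat.le_of_mul_le_mul_right h3 hp.out.pos
  have hxA : x ∈ A := mem_zpowers x
  set x' : N := ⟨x, hAT hxA⟩ with hx'def
  set y := π x' with hy
  have hyV : y ∈ normalizer (V : Set (N ⧸ T.subgroupOf N)) := by
    refine le_normalizer_map π ⟨x', ?_, rfl⟩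
    rw [SetLike.mem_coe, mem_normalizer_iff]
    intro z
    exact mem_normalizer_iff.1 (hAD hxA) (z : G)
  have hcent : y ∈ centralizer (V : Set (N ⧸ T.subgroupOf N)) := by
    letI : MulAction (zpowers y) V :=
      MulAction.compHom V ((normalizerMonoidHom V).comp (Subgroup.inclusion (zpowers_le.2 hyV)))
    have hsm : ∀ (g : zpowers y) (v : V), ((g • v : V) : N ⧸ T.subgroupOf N) =
        (g : N ⧸ T.subgroupOf N) * v * (g : N ⧸ T.subgroupOf N)⁻¹ := fun g v => rfl
    have hod : orderOf y ∣ r ^ i :=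
      ((orderOf_map_dvd π x').trans (dvd_of_eq (by rw [hx'def, Subgroup.orderOf_mk, hxo])))
    obtain ⟨j, -, hj⟩ := (Nat.dvd_prime_pow hrpr).1 hod
    haveI := Fact.mk hrpr
    have hg : IsPGroup r (zpowers y) := IsPGroup.of_card (n := j) (by rw [Nat.card_zpowers, hj])
    have hmod := hg.card_modEq_card_fixedPoints V
    have hVp : IsPGroup p V := fun a => ⟨1, Subtype.ext (by rw [pow_one]; exact hVe.2 a a.2)⟩
    obtain ⟨a, ha⟩ := IsPGroup.iff_card.1 hVp
    set Cy := V ⊓ centralizer ({y} : Set (N ⧸ T.subgroupOf N)) with hCy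
    obtain ⟨b, hb⟩ := IsPGroup.iff_card.1 (hVp.to_le (inf_le_left : Cy ≤ V))
    have hfix : Nat.card (MulAction.fixedPoints (zpowers y) V) = Nat.card Cy := by
      refine Nat.card_congr
        { toFun := fun v => ⟨v.1, v.1.2, mem_centralizer_singleton_iff.2 ?_⟩
          invFun := fun v => ⟨⟨v.1, v.2.1⟩, fun g => Subtype.ext ?_⟩
          left_inv := fun v => rfl
          right_inv := fun v => rfl }
      · have h := congrArg (fun w : V => (w : N ⧸ T.subgroupOf N)) (v.2 ⟨y, mem_zpowers y⟩)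
        simp only [hsm] at h
        exact (mul_inv_eq_iff_eq_mul.1 h).symm
      · rw [hsm]
        obtain ⟨k, hk⟩ := mem_zpowers_iff.1 g.2
        rw [← hk]
        have hc : Commute y (v.1 : N ⧸ T.subgroupOf N) := (mem_centralizer_singleton_iff.1 v.2.2).symm
        show y ^ k * (v.1 : N ⧸ T.subgroupOf N) * (y ^ k)⁻¹ = v.1
        rw [(hc.zpow_left k).eq, mul_inv_cancel_right]
    rw [hfix, ha, hb] at hmod
    have ha2 : a ≤ 2 := (Nat.pow_le_pow_iff_right hp.out.one_lt).1 (ha ▸ hVc)
    have hba : b ≤ a := (Nat.pow_le_pow_iff_right hp.out.one_lt).1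
      (hb ▸ ha ▸ Nat.le_of_dvd Nat.card_pos (card_dvd_of_le (inf_le_left : Cy ≤ V)))
    have hab := hgap a b ha2 hba ((Nat.modEq_iff_dvd' (Nat.pow_le_pow_right hp.out.pos hba)).1 hmod.symm)
    have hCV : Cy = V := eq_of_le_of_card_ge inf_le_left (by rw [ha, hb, hab])
    exact mem_centralizer_iff.2 fun v hv => mem_centralizer_singleton_iff.1 ((hCV.ge hv).2)
  -- `x` centralizes `D`, hence `C`, hence `R`
  have hxD : x ∈ centralizer (D : Set G) := by
    refine (CfsgLib.Coprime.le_centralizer_of_trivial_on_frattini_quotient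
      (A := zpowers x) (K := D) (zpowers_le.2 (hAD hxA)) ?_ fun w hw v hv => ?_) (mem_zpowers x)
    · obtain ⟨k, hk⟩ := IsPGroup.iff_card.1 (hDp.to_subgroup (frattini D))
      rw [hk, Nat.card_zpowers]
      exact hxp.pow_right k
    · obtain ⟨i, rfl⟩ := mem_zpowers_iff.1 hw
      have h1 : π (x' ^ i * ⟨v, hDN hv⟩ * (x' ^ i)⁻¹ * ⟨v, hDN hv⟩⁻¹) = 1 := by
        rw [map_mul, map_mul, map_mul, map_inv, map_inv, map_zpow,
          ← mem_centralizer_iff.1 (zpow_mem hcent i) (π ⟨v, hDN hv⟩) ⟨_, hv, rfl⟩,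
          mul_inv_cancel_right, mul_inv_cancel]
      have h2 : ((x' ^ i * ⟨v, hDN hv⟩ * (x' ^ i)⁻¹ * ⟨v, hDN hv⟩⁻¹ : N) : G) ∈ T :=
        (QuotientGroup.eq_one_iff (N := T.subgroupOf N) _).1 h1
      rw [hT] at h2
      rw [_root_.commutator_def] at h2
      exact map_mono (CfsgLib.Coprime.commutator_le_frattini hDp) h2
  have hxn : x ∈ normalizer (R : Set G) := hAR hxA
  set θ : MulAut R := Subgroup.normalizerMonoidHom R ⟨x, hxn⟩ with hθdef
  have hθ : ∀ y : R, ((θ y : R) : G) = x * y * x⁻¹ := fun y => rfl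
  have hCn : x ∈ normalizer ((C.map R.subtype : Subgroup G) : Set G) :=
    CfsgLib.PGroup.normalizer_le_normalizer_map_char (hX := hchar) R C hxn
  have hxC : ∀ c ∈ C, θ c = c := by
    intro c hc
    refine Subtype.ext ?_
    rw [hθ]
    have h := CfsgLib.PGroup.commute_of_fix_omega_odd hp2 (hR.to_le (map_subtype_le C)) hCn
      (fun hd => hp.out.coprime_iff_not_dvd.1 hxp.symm hd)
      (fun z hz hzp => by
        obtain ⟨z', hz', rfl⟩ := hz
        exact (mem_centralizer_iff.1 hxD _ ⟨z', hmemD.2 ⟨hz', Subtype.ext hzp⟩, rfl⟩).symm)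
      (c : G) ⟨c, hc, rfl⟩
    rw [h.eq, mul_inv_cancel_right]
  have hθ1 : θ = 1 := CfsgLib.CFun.eq_one_of_fixes_critical hR (hPC.trans inf_le_left) hcen θ
    (Nat.Coprime.coprime_dvd_left ((orderOf_map_dvd _ _).trans (by rw [Subgroup.orderOf_mk])) hxp) hxC
  refine mem_centralizer_iff.2 fun y hy => ?_
  have h := congrArg (fun σ : MulAut R => ((σ ⟨y, hy⟩ : R) : G)) hθ1
  simp only [hθ, MulAut.one_apply] at h
  exact (mul_inv_eq_iff_eq_mul.1 h).symm

end CfsgLib.RankTwoLarge
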