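import Mathlib
import Cfsg.Agent.Lib.PGroup.SchurUniversal

/-!
# Restriction and corestriction on multipliers
-/

set_option autoImplicit false
open Subgroup
open scoped commutatorElement

namespace CfsgLib.Schur

universe u v w

/-- A homomorphic image of a finite abelian group embeds in it. -/
theorem exists_injective_of_surjective {B : Type u} [CommGroup B] [Finite B] {D : Type v} [CommGroup D]
    (π : B →* D) (hπ : Function.Surjective π) : ∃ j : D →* B, Function.Injective j := by
  haveI : Finite D := Finite.of_surjective π hπ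
  obtain ⟨eB⟩ := CommGroup.monoidHom_mulEquiv_of_hasEnoughRootsOfUnity B ℂ
  obtain ⟨eD⟩ := CommGroup.monoidHom_mulEquiv_of_hasEnoughRootsOfUnity D ℂ
  let c : (D →* ℂˣ) →* (B →* ℂˣ) := MonoidHom.mk' (fun φ => φ.comp π) fun φ φ' => rfl
  have hc : Function.Injective c := fun φ φ' h => (MonoidHom.cancel_right hπ).1 h
  exact ⟨(eB.toMonoidHom.comp c).comp eD.symm.toMonoidHom, eB.injective.comp (hc.comp eD.symm.injective)⟩

/-- The transfer of an element of a normal subgroup contained in the subgroup is the product over conjugates. -/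
theorem transfer_eq_prod_of_mem_normal {F : Type u} [Group F] {H R : Subgroup F} [H.FiniteIndex]
    [R.Normal] (hRH : R ≤ H) {A : Type v} [CommGroup A] (φ : H →* A) [Fintype (F ⧸ H)] (r : F) (hr : r ∈ R) :
    MonoidHom.transfer φ r =
      ∏ q : F ⧸ H, φ ⟨q.out⁻¹ * r * q.out, hRH (by simpa using Normal.conj_mem ‹_› r hr q.out⁻¹)⟩ := by
  let T : H.LeftTransversal := ⟨Set.range Quotient.out, Subgroup.isComplement_range_left Quotient.out_eq'⟩
  have hα : ∀ q : F ⧸ H, (T.2.leftQuotientEquiv q : F) = q.out :=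
    fun q => Subgroup.IsComplement.leftQuotientEquiv_apply Quotient.out_eq' q
  rw [MonoidHom.transfer_def φ T r]
  unfold Subgroup.leftTransversals.diff
  refine Finset.prod_congr (Finset.ext fun q => by simp) fun q _ => ?_
  congr 1
  refine Subtype.ext ?_
  change (T.2.leftQuotientEquiv q : F)⁻¹ * ((r • T).2.leftQuotientEquiv q : F) = q.out⁻¹ * r * q.out
  have hq : r⁻¹ • q = q := by
    induction q using QuotientGroup.induction_on with
    | _ x =>
      change ((r⁻¹ * x : F) : F ⧸ H) = x
      rw [QuotientGroup.eq]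
      refine hRH ?_
      rw [mul_inv_rev, inv_inv]
      simpa using Normal.conj_mem ‹_› r hr x⁻¹
  rw [Subgroup.smul_apply_eq_smul_apply_inv_smul, hq, hα, smul_eq_mul, mul_assoc]

variable {G : Type u} [Group G] [Finite G] (U : Subgroup G)

/-- Corestriction after restriction is the power by the index. -/
theorem exists_res_cores :
    ∃ (res : mult G →* mult U) (cores : mult U →* mult G), ∀ z, cores (res z) = z ^ U.index := by
  classical
  let UF : Subgroup (FreeGroup G) := U.comap (pres G)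
  have hpres : Function.Surjective (pres G) := fun g => ⟨FreeGroup.of g, by simp [pres]⟩
  have hidx : UF.index = U.index := index_comap_of_surjective U hpres
  haveI : UF.FiniteIndex := ⟨by rw [hidx]; exact Subgroup.index_ne_zero_of_finite⟩
  haveI : Fintype (FreeGroup G ⧸ UF) := UF.fintypeQuotientOfFiniteIndex
  let R := (pres G).ker
  have hRU : R ≤ UF := fun r hr => by
    change pres G r ∈ U
    rw [MonoidHom.mem_ker.1 hr]; exact one_mem U
  let toU : UF →* U := ((pres G).comp UF.subtype).codRestrict U fun x => x.2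
  choose s hs using proj_surjective U
  let θ : UF →* E U := IsFreeGroup.lift fun i => s (toU (IsFreeGroup.of i))
  have hθ : ∀ x, proj U (θ x) = toU x := fun x => DFunLike.congr_fun
    (IsFreeGroup.ext_hom (f := (proj U).comp θ) (g := toU) fun i => by
      rw [MonoidHom.comp_apply, IsFreeGroup.lift_of, hs]) x
  letI : CommGroup (proj U).ker :=
    { (inferInstance : Group (proj U).ker) with
      mul_comm := fun a b => Subtype.ext (mem_center_iff.1 (ker_le_center U b.2) a.1) }
  letI : CommGroup (proj G).ker :=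
    { (inferInstance : Group (proj G).ker) with
      mul_comm := fun a b => Subtype.ext (mem_center_iff.1 (ker_le_center G b.2) a.1) }
  let ϑ : R →* (proj U).ker := (θ.comp (Subgroup.inclusion hRU)).codRestrict _ fun r => by
    rw [MonoidHom.mem_ker, MonoidHom.comp_apply, hθ]
    exact Subtype.ext r.2
  have hRn : ∀ (q : FreeGroup G) (r : R), q⁻¹ * (r : FreeGroup G) * q ∈ R := fun q r =>
    Normal.conj_mem' (MonoidHom.normal_ker (pres G)) r r.2 q
  let cj : FreeGroup G → R →* R := fun q => MonoidHom.mk' (fun r => ⟨_, hRn q r⟩)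
    fun a b => Subtype.ext (by
      change q⁻¹ * (a * b : FreeGroup G) * q = q⁻¹ * a * q * (q⁻¹ * b * q)
      group)
  let N : R →* (proj U).ker := MonoidHom.mk' (fun r => ∏ q : FreeGroup G ⧸ UF, ϑ (cj q.out r))
    fun a b => by
      simp only [map_mul]
      exact Finset.prod_mul_distrib
  have hNinv : ∀ y r, N (cj y r) = N r := by
    intro y r
    change ∏ q : FreeGroup G ⧸ UF, ϑ (cj q.out (cj y r)) = ∏ q : FreeGroup G ⧸ UF, ϑ (cj q.out r)
    refine Fintype.prod_equiv (MulAction.toPerm y) _ _ fun q => ?_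
    set t' := ((MulAction.toPerm y) q).out
    obtain ⟨u, hu, hyq⟩ : ∃ u ∈ UF, y * q.out = t' * u := by
      refine ⟨t'⁻¹ * (y * q.out), QuotientGroup.eq.1 ?_, by rw [mul_inv_cancel_left]⟩
      rw [QuotientGroup.out_eq']
      conv_lhs => rw [MulAction.toPerm_apply, ← QuotientGroup.out_eq' q]
      rfl
    refine Subtype.ext ?_
    change θ ⟨q.out⁻¹ * (y⁻¹ * r * y) * q.out, _⟩ = θ ⟨t'⁻¹ * r * t', _⟩
    have e : (⟨q.out⁻¹ * (y⁻¹ * r * y) * q.out, hRU (hRn _ (cj y r))⟩ : UF) =
        ⟨u, hu⟩⁻¹ * ⟨t'⁻¹ * r * t', hRU (hRn _ r)⟩ * ⟨u, hu⟩ := Subtype.ext (by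
      change q.out⁻¹ * (y⁻¹ * r * y) * q.out = u⁻¹ * (t'⁻¹ * r * t') * u
      rw [show q.out⁻¹ * (y⁻¹ * (r : FreeGroup G) * y) * q.out = (y * q.out)⁻¹ * r * (y * q.out) by group,
        hyq]
      group)
    rw [e, map_mul, map_mul, map_inv]
    have hc : θ ⟨t'⁻¹ * r * t', hRU (hRn _ r)⟩ ∈ center (E U) := ker_le_center U (ϑ (cj t' r)).2
    rw [mul_assoc, ← mem_center_iff.1 hc (θ ⟨u, hu⟩), inv_mul_cancel_left]
  let Rbar : R →* (proj G).ker := ((QuotientGroup.mk' (relComm G)).comp R.subtype).codRestrict _ fun r => r.2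
  have hRbar : Function.Surjective Rbar := fun e => by
    obtain ⟨x, hx⟩ := QuotientGroup.mk'_surjective (relComm G) e.1
    refine ⟨⟨x, ?_⟩, Subtype.ext hx⟩
    change pres G x = 1
    rw [← proj_mk, show (x : E G) = e.1 from hx]
    exact e.2
  have hker : Rbar.ker ≤ N.ker := by
    intro r hr
    have hr' : (r : FreeGroup G) ∈ relComm G :=
      (QuotientGroup.eq_one_iff _).1 (congrArg Subtype.val (MonoidHom.mem_ker.1 hr))
    have hle : relComm G ≤ N.ker.map R.subtype := by
      rw [relComm, commutator_le]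
      intro a ha y _
      have ha' : (a : FreeGroup G) ∈ R := ha
      refine ⟨⟨a, ha'⟩ * (cj y⁻¹ ⟨a, ha'⟩)⁻¹, ?_, ?_⟩
      · rw [SetLike.mem_coe, MonoidHom.mem_ker, map_mul, map_inv, hNinv, mul_inv_cancel]
      · change a * (y⁻¹⁻¹ * a * y⁻¹)⁻¹ = ⁅a, y⁆
        rw [commutatorElement_def]; group
    obtain ⟨r', h1, h2⟩ := hle hr'
    rwa [show r' = r from Subtype.ext h2] at h1
  let res0 : (proj G).ker →* (proj U).ker := Rbar.liftOfSurjective hRbar ⟨N, hker⟩
  have hres0 : ∀ r, res0 (Rbar r) = N r := fun r => MonoidHom.liftOfRightInverse_comp_apply _ _ _ _ r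
  -- representatives in the derived subgroup of the free group
  have hrep : ∀ z : mult G, ∃ r : R, (r : FreeGroup G) ∈ _root_.commutator (FreeGroup G) ∧
      Rbar r = ⟨z, z.2.1⟩ := by
    intro z
    have hm : (_root_.commutator (FreeGroup G)).map (QuotientGroup.mk' (relComm G)) =
        _root_.commutator (E G) := by
      rw [_root_.commutator_def, map_commutator, ← MonoidHom.range_eq_map,
        MonoidHom.range_eq_top.2 (QuotientGroup.mk'_surjective _), ← _root_.commutator_def]
    obtain ⟨x, hx, hxz⟩ := hm.ge z.2.2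
    refine ⟨⟨x, ?_⟩, hx, Subtype.ext hxz⟩
    change pres G x = 1
    rw [← proj_mk, show (x : E G) = z.1 from hxz]
    exact z.2.1
  have htrans : ∀ {A : Type u} [CommGroup A] (φ : UF →* A) (r : R),
      (r : FreeGroup G) ∈ _root_.commutator (FreeGroup G) →
      ∏ q : FreeGroup G ⧸ UF, φ ⟨(cj q.out r : R), hRU (cj q.out r).2⟩ = 1 := by
    intro A _ φ r hr
    exact (transfer_eq_prod_of_mem_normal hRU φ (r : FreeGroup G) r.2).symm.trans
      (Abelianization.commutator_subset_ker (MonoidHom.transfer φ) hr)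
  have hmemU : ∀ z : mult G, (res0 ⟨z, z.2.1⟩ : E U) ∈ mult U := by
    intro z
    obtain ⟨r, hr, hz⟩ := hrep z
    rw [← hz, hres0]
    refine Subgroup.mem_inf.2 ⟨(N r).2, ?_⟩
    rw [← Abelianization.ker_of (E U), MonoidHom.mem_ker]
    have h := htrans (Abelianization.of.comp θ) r hr
    refine Eq.trans ?_ h
    exact map_prod (Abelianization.of.comp (proj U).ker.subtype) (fun q : FreeGroup G ⧸ UF =>
      ϑ (cj q.out r)) Finset.univ
  let res : mult G →* mult U :=
    ((proj U).ker.subtype.comp (res0.comp (Subgroup.inclusion inf_le_left))).codRestrict _ hmemU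
  -- corestriction
  let Ut : Subgroup (E G) := U.comap (proj G)
  let τ : Ut →* U := ((proj G).comp Ut.subtype).codRestrict U fun x => x.2
  have hτs : Function.Surjective τ := fun u => by
    obtain ⟨e, he⟩ := proj_surjective G (u : G)
    exact ⟨⟨e, show proj G e ∈ U by rw [he]; exact u.2⟩, Subtype.ext he⟩
  have hτc : τ.ker ≤ center Ut := fun x hx => mem_center_iff.2 fun y =>
    Subtype.ext (mem_center_iff.1 (ker_le_center G (congrArg Subtype.val (MonoidHom.mem_ker.1 hx))) y.1)
  obtain ⟨η, hη⟩ := exists_lift U τ hτs hτc (MonoidHom.id U)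
  let κ : E U →* E G := Ut.subtype.comp η
  have hκ : ∀ e, proj G (κ e) = (proj U e : G) := fun e => congrArg Subtype.val (hη e)
  have hκm : ∀ z : mult U, κ z ∈ mult G := by
    intro z
    refine Subgroup.mem_inf.2 ⟨?_, ?_⟩
    · rw [MonoidHom.mem_ker, hκ, MonoidHom.mem_ker.1 z.2.1]; rfl
    · have := mem_map_of_mem κ z.2.2
      rw [_root_.commutator_def, map_commutator] at this
      exact commutator_mono le_top le_top this
  let cores : mult U →* mult G := (κ.comp (mult U).subtype).codRestrict _ hκm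
  refine ⟨res, cores, fun z => ?_⟩
  -- the difference of two lifts
  have hδmem : ∀ x : UF, (QuotientGroup.mk' (relComm G) x)⁻¹ * κ (θ x) ∈ (proj G).ker := by
    intro x
    rw [MonoidHom.mem_ker, map_mul, map_inv, hκ, hθ]
    exact inv_mul_cancel (pres G (x : FreeGroup G))
  let δ : UF →* (proj G).ker := MonoidHom.mk' (fun x => ⟨_, hδmem x⟩) fun a b => Subtype.ext (by
    change (QuotientGroup.mk' (relComm G) ((a * b : UF) : FreeGroup G))⁻¹ * κ (θ (a * b)) =
      (QuotientGroup.mk' (relComm G) a)⁻¹ * κ (θ a) * ((QuotientGroup.mk' (relComm G) b)⁻¹ * κ (θ b))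
    rw [Subgroup.coe_mul, map_mul, map_mul, map_mul, mul_inv_rev, mul_assoc,
      ← mul_assoc (QuotientGroup.mk' (relComm G) a)⁻¹ (κ (θ a)), ← mul_assoc,
      mem_center_iff.1 (ker_le_center G (hδmem a)) ((QuotientGroup.mk' (relComm G) b)⁻¹)]
    group)
  obtain ⟨r, hr, hz⟩ := hrep z
  let κK : (proj U).ker →* (proj G).ker := (κ.comp (proj U).ker.subtype).codRestrict _ fun e => by
    rw [MonoidHom.mem_ker, MonoidHom.comp_apply, hκ]
    exact congrArg Subtype.val (MonoidHom.mem_ker.1 e.2)
  have hterm : ∀ q : FreeGroup G ⧸ UF, κK (ϑ (cj q.out r)) =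
      Rbar r * δ ⟨(cj q.out r : R), hRU (cj q.out r).2⟩ := by
    intro q
    apply Subtype.ext
    have hconj : QuotientGroup.mk' (relComm G) ((cj q.out r : R) : FreeGroup G) =
        QuotientGroup.mk' (relComm G) (r : FreeGroup G) := by
      change QuotientGroup.mk' (relComm G) (q.out⁻¹ * r * q.out) = _
      have hc : QuotientGroup.mk' (relComm G) (r : FreeGroup G) ∈ center (E G) :=
        ker_le_center G (Rbar r).2
      rw [map_mul, map_mul, mul_assoc, ← mem_center_iff.1 hc, ← mul_assoc, map_inv, inv_mul_cancel,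
        one_mul]
    rw [Subgroup.coe_mul]
    change κ (θ ⟨(cj q.out r : R), hRU (cj q.out r).2⟩) = QuotientGroup.mk' (relComm G) (r : FreeGroup G) *
      ((QuotientGroup.mk' (relComm G) ((cj q.out r : R) : FreeGroup G))⁻¹ *
        κ (θ ⟨(cj q.out r : R), hRU (cj q.out r).2⟩))
    rw [hconj, mul_inv_cancel_left]
  have hN0 : κK (res0 (Rbar r)) = Rbar r ^ U.index := by
    rw [hres0]
    change κK (∏ q : FreeGroup G ⧸ UF, ϑ (cj q.out r)) = _
    rw [map_prod, Finset.prod_congr rfl fun q _ => hterm q,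
      Finset.prod_mul_distrib, htrans δ r hr, mul_one, Finset.prod_const, Finset.card_univ,
      ← Nat.card_eq_fintype_card]
    exact congrArg (Rbar r ^ ·) hidx
  refine Subtype.ext ?_
  rw [SubgroupClass.coe_pow]
  have h1 := congrArg Subtype.val hN0
  rw [SubgroupClass.coe_pow, hz] at h1
  exact h1

/-- The index-th powers of the multiplier embed in the multiplier of a subgroup. -/
theorem exists_injective_pow {A : Type v} [CommGroup A] {B : Type w} [CommGroup B]
    (hA : Cfsg.HasSchurMultiplier G A) (hB : Cfsg.HasSchurMultiplier U B) :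
    ∃ j : (powMonoidHom U.index : A →* A).range →* B, Function.Injective j := by
  obtain ⟨eA⟩ := nonempty_equiv_of_hasSchurMultiplier hA
  obtain ⟨eB⟩ := nonempty_equiv_of_hasSchurMultiplier hB
  obtain ⟨res, cores, h⟩ := exists_res_cores U
  haveI : Finite B := Finite.of_equiv _ eB.symm.toEquiv
  let c : B →* A := (eA.symm.toMonoidHom.comp cores).comp eB.toMonoidHom
  obtain ⟨j, hj⟩ := exists_injective_of_surjective c.rangeRestrict c.rangeRestrict_surjective
  have hle : (powMonoidHom U.index : A →* A).range ≤ c.range := by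
    rintro _ ⟨a, rfl⟩
    refine ⟨eB.symm (res (eA a)), ?_⟩
    change eA.symm (cores (eB (eB.symm (res (eA a))))) = a ^ U.index
    rw [eB.apply_symm_apply, h, map_pow, eA.symm_apply_apply]
  exact ⟨j.comp (Subgroup.inclusion hle), hj.comp (Subgroup.inclusion_injective hle)⟩

/-- For a Sylow subgroup the primary part is a direct summand. -/
theorem exists_primary_summand (p : ℕ) [Fact p.Prime] (hU : ¬ p ∣ U.index) {A : Type v} [CommGroup A]
    {B : Type w} [CommGroup B] (hA : Cfsg.HasSchurMultiplier G A) (hB : Cfsg.HasSchurMultiplier U B) :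
    ∃ C D : Subgroup B, C ⊓ D = ⊥ ∧ C ⊔ D = ⊤ ∧ Nonempty (CommGroup.primaryComponent A p ≃* C) := by
  obtain ⟨eA⟩ := nonempty_equiv_of_hasSchurMultiplier hA
  obtain ⟨eB⟩ := nonempty_equiv_of_hasSchurMultiplier hB
  obtain ⟨res, cores, h⟩ := exists_res_cores U
  haveI : Finite A := Finite.of_equiv _ eA.symm.toEquiv
  have hp : p.Prime := Fact.out
  let Ap := CommGroup.primaryComponent A p
  let r : Ap →* B := (eB.symm.toMonoidHom.comp res).comp (eA.toMonoidHom.comp Ap.subtype)
  let c : B →* A := (eA.symm.toMonoidHom.comp cores).comp eB.toMonoidHom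
  have hcr : ∀ a : Ap, c (r a) = (a : A) ^ U.index := fun a => by
    change eA.symm (cores (eB (eB.symm (res (eA a))))) = (a : A) ^ U.index
    rw [eB.apply_symm_apply, h, map_pow, eA.symm_apply_apply]
  set m := Nat.card A / p ^ (Nat.card A).factorization p with hm
  let ψ : B →* A := (powMonoidHom m).comp c
  have hmem : ∀ b, ψ b ∈ Ap := by
    intro b
    have h1 : ψ b ^ p ^ (Nat.card A).factorization p = 1 := by
      change (c b ^ m) ^ _ = 1
      rw [← pow_mul, hm, mul_comm, Nat.mul_div_cancel' (Nat.ordProj_dvd _ _), pow_card_eq_one']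
    exact CommGroup.mem_primaryComponent.2 ⟨_, h1⟩
  have hcop : ∀ a : Ap, (U.index * m).Coprime (orderOf (a : A)) := fun a => by
    obtain ⟨i, hi⟩ := CommGroup.mem_primaryComponent.1 a.2
    refine Nat.Coprime.coprime_dvd_right (orderOf_dvd_of_pow_eq_one hi) ?_
    refine Nat.Coprime.pow_right _ (Nat.Coprime.mul_left ?_ ?_)
    · exact (hp.coprime_iff_not_dvd.2 hU).symm
    · exact (Nat.coprime_ordCompl hp Nat.card_pos.ne').symm
  have hψr : ∀ a : Ap, ψ (r a) = (a : A) ^ (U.index * m) := fun a => by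
    change c (r a) ^ m = _
    rw [hcr, ← pow_mul]
  have hinj : ∀ a : Ap, ψ (r a) = 1 → a = 1 := by
    intro a ha
    rw [hψr] at ha
    refine Subtype.ext (orderOf_eq_one_iff.1 ?_)
    exact Nat.eq_one_of_dvd_coprimes (hcop a) (orderOf_dvd_of_pow_eq_one ha) dvd_rfl
  refine ⟨r.range, ψ.ker, ?_, ?_, ⟨MonoidHom.ofInjective fun a a' haa => ?_⟩⟩
  · rw [eq_bot_iff]
    rintro b ⟨⟨a, rfl⟩, hb⟩
    rw [hinj a hb, map_one]; exact one_mem _
  · rw [eq_top_iff]
    intro b _
    obtain ⟨j, hj⟩ := exists_pow_eq_self_of_coprime (hcop ⟨ψ b, hmem b⟩)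
    have h1 : b * (r (⟨ψ b, hmem b⟩ ^ j))⁻¹ ∈ ψ.ker := by
      rw [MonoidHom.mem_ker, map_mul, map_inv, hψr, mul_inv_eq_one]
      rw [SubgroupClass.coe_pow, ← pow_mul, mul_comm, pow_mul]
      exact hj.symm
    have h2 : r (⟨ψ b, hmem b⟩ ^ j) ∈ r.range := ⟨_, rfl⟩
    have := mul_mem_sup h2 h1
    rwa [mul_comm b, ← mul_assoc, mul_inv_cancel, one_mul] at this
  · refine mul_inv_eq_one.1 (hinj (a * a'⁻¹) ?_)
    rw [map_mul r, map_inv, haa, mul_inv_cancel, map_one]

end CfsgLib.Schur
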