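import Mathlib
import Cfsg.Agent.Lib.PGroup.SchurUniversal

/-!
# Covers: rigidity over fibre products, projective representations, perfect groups, uniqueness
-/

set_option autoImplicit false
open Subgroup
open scoped commutatorElement

namespace CfsgLib.Schur

universe u v w x

section Fiber

variable {Q : Type u} [Group Q] {Γ : Type v} [Group Γ] {Δ : Type w} [Group Δ]
  (σ : Γ →* Q) (τ : Δ →* Q)

/-- The fibre product of two extensions. -/
def fiber : Subgroup (Γ × Δ) := (σ.comp (MonoidHom.fst Γ Δ)).eqLocus (τ.comp (MonoidHom.snd Γ Δ))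

theorem mem_fiber {p : Γ × Δ} : p ∈ fiber σ τ ↔ σ p.1 = τ p.2 := Iff.rfl

/-- The first projection. -/
def fib1 : fiber σ τ →* Γ := (MonoidHom.fst Γ Δ).comp (fiber σ τ).subtype

/-- The second projection. -/
def fib2 : fiber σ τ →* Δ := (MonoidHom.snd Γ Δ).comp (fiber σ τ).subtype

theorem fib1_surjective (hτ : Function.Surjective τ) : Function.Surjective (fib1 σ τ) := fun g => by
  obtain ⟨d, hd⟩ := hτ (σ g)
  exact ⟨⟨(g, d), hd.symm⟩, rfl⟩

theorem fib2_surjective (hσ : Function.Surjective σ) : Function.Surjective (fib2 σ τ) := fun d => by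
  obtain ⟨g, hg⟩ := hσ (τ d)
  exact ⟨⟨(g, d), hg⟩, rfl⟩

theorem fib1_ker_le_center (hτc : τ.ker ≤ center Δ) : (fib1 σ τ).ker ≤ center (fiber σ τ) := by
  intro k hk
  have h1 : k.1.1 = 1 := hk
  have h2 : τ k.1.2 = 1 := (k.2).symm.trans ((congrArg σ h1).trans (map_one σ))
  refine mem_center_iff.2 fun y => Subtype.ext (Prod.ext ?_ ?_)
  · change y.1.1 * k.1.1 = k.1.1 * y.1.1
    rw [h1, one_mul, mul_one]
  · exact mem_center_iff.1 (hτc h2) y.1.2

theorem fib_ker_le_center (hσc : σ.ker ≤ center Γ) (hτc : τ.ker ≤ center Δ) :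
    (σ.comp (fib1 σ τ)).ker ≤ center (fiber σ τ) := by
  intro k hk
  have h1 : σ k.1.1 = 1 := hk
  have h2 : τ k.1.2 = 1 := (k.2).symm.trans h1
  exact mem_center_iff.2 fun y => Subtype.ext
    (Prod.ext (mem_center_iff.1 (hσc h1) y.1.1) (mem_center_iff.1 (hτc h2) y.1.2))

/-- No nontrivial element of the second kernel is a product of commutators of the fibre product. -/
def NoTwist : Prop := ∀ z ∈ _root_.commutator (fiber σ τ), fib1 σ τ z = 1 → z = 1

variable {σ τ}

theorem noTwist_of_card [Finite Q] [Finite Γ] [Finite Δ] (hσ : Cfsg.IsStemExtension σ)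
    (hc : Nat.card σ.ker = Nat.card (mult Q)) (hτs : Function.Surjective τ)
    (hτc : τ.ker ≤ center Δ) : NoTwist σ τ := by
  intro z hz hz1
  let π := σ.comp (fib1 σ τ)
  have hD := card_inf_le Q (τ := π) (hσ.1.comp (fib1_surjective σ τ hτs))
    (fib_ker_le_center σ τ hσ.2.1 hτc)
  let D : Subgroup (fiber σ τ) := π.ker ⊓ _root_.commutator (fiber σ τ)
  let f : D →* σ.ker := ((fib1 σ τ).comp D.subtype).codRestrict σ.ker fun d => d.2.1
  have hf : Function.Surjective f := by
    intro k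
    have hk : (k : Γ) ∈ (_root_.commutator (fiber σ τ)).map (fib1 σ τ) := by
      rw [_root_.commutator_def, map_commutator,
        map_top_of_surjective (fib1 σ τ) (fib1_surjective σ τ hτs)]
      exact hσ.2.2 k.2
    obtain ⟨y, hy, hy1⟩ := hk
    exact ⟨⟨y, show σ (fib1 σ τ y) = 1 by rw [hy1]; exact k.2, hy⟩, Subtype.ext hy1⟩
  have hb : Function.Bijective f := (Nat.bijective_iff_surjective_and_card f).2
    ⟨hf, le_antisymm (hD.trans hc.ge) (Nat.card_le_card_of_surjective f hf)⟩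
  have hzD : z ∈ D := ⟨show σ (fib1 σ τ z) = 1 by rw [hz1, map_one], hz⟩
  have h := hb.1 (a₁ := ⟨z, hzD⟩) (a₂ := 1) (Subtype.ext (hz1.trans (map_one (fib1 σ τ)).symm))
  exact congrArg Subtype.val h

theorem noTwist_of_trivial_multiplier [Finite Γ] [Finite Δ] (hΓ : Cfsg.HasCyclicSchurMultiplier Γ 1)
    (hτs : Function.Surjective τ) (hτc : τ.ker ≤ center Δ) : NoTwist σ τ := by
  intro z hz hz1
  haveI : Subsingleton (mult Γ) := subsingleton_mult_iff.2 hΓ
  obtain ⟨π, hπ⟩ := exists_surjection_inf Γ (τ := fib1 σ τ) (fib1_surjective σ τ hτs)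
    (fib1_ker_le_center σ τ hτc)
  haveI := hπ.subsingleton
  exact congrArg Subtype.val (Subsingleton.elim
    (⟨z, MonoidHom.mem_ker.2 hz1, hz⟩ : ((fib1 σ τ).ker ⊓ _root_.commutator (fiber σ τ) :
      Subgroup (fiber σ τ))) 1)

/-- Rigidity over the fibre product gives a surjection between the kernels. -/
theorem exists_surjection_of_noTwist (hσ : Cfsg.IsStemExtension σ) (hτ : Cfsg.IsStemExtension τ)
    (hrig : NoTwist σ τ) : ∃ π : σ.ker →* τ.ker, Function.Surjective π := by
  let D : Subgroup (fiber σ τ) := (σ.comp (fib1 σ τ)).ker ⊓ _root_.commutator (fiber σ τ)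
  let f : D →* σ.ker := ((fib1 σ τ).comp D.subtype).codRestrict σ.ker fun d => d.2.1
  let g : D →* τ.ker := ((fib2 σ τ).comp D.subtype).codRestrict τ.ker fun d =>
    (d.1.2).symm.trans d.2.1
  have hfi : Function.Injective f := by
    rw [injective_iff_map_eq_one]
    intro d hd
    exact Subtype.ext (hrig d.1 d.2.2 (congrArg Subtype.val hd))
  have hfs : Function.Surjective f := by
    intro k
    have hk : (k : Γ) ∈ (_root_.commutator (fiber σ τ)).map (fib1 σ τ) := by
      rw [_root_.commutator_def, map_commutator,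
        map_top_of_surjective (fib1 σ τ) (fib1_surjective σ τ hτ.1)]
      exact hσ.2.2 k.2
    obtain ⟨y, hy, hy1⟩ := hk
    exact ⟨⟨y, show σ (fib1 σ τ y) = 1 by rw [hy1]; exact k.2, hy⟩, Subtype.ext hy1⟩
  have hgs : Function.Surjective g := by
    intro k
    have hk : (k : Δ) ∈ (_root_.commutator (fiber σ τ)).map (fib2 σ τ) := by
      rw [_root_.commutator_def, map_commutator,
        map_top_of_surjective (fib2 σ τ) (fib2_surjective σ τ hσ.1)]
      exact hτ.2.2 k.2
    obtain ⟨y, hy, hy2⟩ := hk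
    exact ⟨⟨y, (y.2).trans ((congrArg τ hy2).trans k.2), hy⟩, Subtype.ext hy2⟩
  exact ⟨g.comp (MulEquiv.ofBijective f ⟨hfi, hfs⟩).symm.toMonoidHom,
    hgs.comp (MulEquiv.ofBijective f ⟨hfi, hfs⟩).symm.surjective⟩

end Fiber

section Projective

variable {Q : Type u} [Group Q] {Γ : Type v} [Group Γ] {n : ℕ}

/-- A cover lifts every complex projective representation. -/
theorem exists_projective_lift [Finite Q] [Finite Γ] (σ : Γ →* Q)
    (hrig : ∀ (Δ : Type u) [Group Δ] [Finite Δ] (τ : Δ →* Q),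
      Function.Surjective τ → τ.ker ≤ center Δ → NoTwist σ τ)
    (γ : Q →* (GL (Fin n) ℂ ⧸ center (GL (Fin n) ℂ))) :
    ∃ ρ : Γ →* GL (Fin n) ℂ, (QuotientGroup.mk' (center (GL (Fin n) ℂ))).comp ρ = γ.comp σ := by
  rcases Nat.eq_zero_or_pos n with rfl | hn
  · refine ⟨1, MonoidHom.ext fun g => ?_⟩
    obtain ⟨a, ha⟩ := QuotientGroup.mk_surjective (γ (σ g))
    change QuotientGroup.mk (1 : GL (Fin 0) ℂ) = γ (σ g)
    rw [← ha, Subsingleton.elim a 1]
  haveI : Nonempty (Fin n) := ⟨⟨0, hn⟩⟩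
  -- the lifts of determinant one, pushed into the universe of `Q`
  let mk := QuotientGroup.mk' (center (GL (Fin n) ℂ))
  let D0 : Subgroup (GL (Fin n) ℂ × Q) :=
    (mk.comp (MonoidHom.fst _ _)).eqLocus (γ.comp (MonoidHom.snd _ _)) ⊓
      (Matrix.GeneralLinearGroup.det.comp (MonoidHom.fst _ _)).ker
  let τ : D0 →* Q := (MonoidHom.snd _ _).comp D0.subtype
  have hscal : ∀ c : GL (Fin n) ℂ, c ∈ center (GL (Fin n) ℂ) →
      ∃ r : ℂˣ, c = Matrix.GeneralLinearGroup.scalar (Fin n) r ∧
        Matrix.GeneralLinearGroup.det c = r ^ n := by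
    intro c hc
    rw [Matrix.GeneralLinearGroup.center_eq_range_scalar] at hc
    obtain ⟨r, rfl⟩ := hc
    refine ⟨r, rfl, Units.ext ?_⟩
    simp [Matrix.GeneralLinearGroup.scalar, Matrix.det_diagonal]
  have hcent : ∀ r : ℂˣ, Matrix.GeneralLinearGroup.scalar (Fin n) r ∈ center (GL (Fin n) ℂ) := fun r => by
    rw [Matrix.GeneralLinearGroup.center_eq_range_scalar]; exact ⟨r, rfl⟩
  have hτs : Function.Surjective τ := by
    intro q
    obtain ⟨g, hg⟩ := QuotientGroup.mk'_surjective (center (GL (Fin n) ℂ)) (γ q)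
    obtain ⟨c, hc⟩ := IsAlgClosed.exists_pow_nat_eq
      (((Matrix.GeneralLinearGroup.det g)⁻¹ : ℂˣ) : ℂ) hn
    have hc0 : c ≠ 0 := by
      rintro rfl
      rw [zero_pow hn.ne'] at hc
      exact Units.ne_zero _ hc.symm
    let r := Units.mk0 c hc0
    refine ⟨⟨(g * Matrix.GeneralLinearGroup.scalar (Fin n) r, q), Subgroup.mem_inf.2 ⟨?_, ?_⟩⟩, rfl⟩
    · change mk (g * Matrix.GeneralLinearGroup.scalar (Fin n) r) = γ q
      rw [map_mul, show mk (Matrix.GeneralLinearGroup.scalar (Fin n) r) = 1 from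
        (QuotientGroup.eq_one_iff _).2 (hcent r), mul_one, hg]
    · change Matrix.GeneralLinearGroup.det (g * Matrix.GeneralLinearGroup.scalar (Fin n) r) = 1
      obtain ⟨r', hr', hd⟩ := hscal _ (hcent r)
      have hrr : r ^ n = (Matrix.GeneralLinearGroup.det g)⁻¹ := Units.ext (by
        rw [Units.val_pow_eq_pow_val]; exact hc)
      have : Matrix.GeneralLinearGroup.det (Matrix.GeneralLinearGroup.scalar (Fin n) r) = r ^ n := by
        apply Units.ext
        simp [Matrix.GeneralLinearGroup.scalar, Matrix.det_diagonal]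
      rw [map_mul, this, hrr, mul_inv_cancel]
  have hτmem : ∀ d : D0, d ∈ τ.ker →
      ∃ r : ℂˣ, d.1.1 = Matrix.GeneralLinearGroup.scalar (Fin n) r ∧ r ^ n = 1 := by
    intro d hd
    have hd1 : d.1.2 = 1 := hd
    have hq : mk d.1.1 = γ d.1.2 := d.2.1
    rw [hd1, map_one] at hq
    obtain ⟨r, hr, hdet⟩ := hscal _ ((QuotientGroup.eq_one_iff _).1 hq)
    exact ⟨r, hr, hdet ▸ d.2.2⟩
  have hτc : τ.ker ≤ center D0 := by
    intro d hd
    have hd1 : d.1.2 = 1 := hd
    obtain ⟨r, hr, -⟩ := hτmem d hd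
    refine mem_center_iff.2 fun e => Subtype.ext (Prod.ext ?_ ?_)
    · change e.1.1 * d.1.1 = d.1.1 * e.1.1
      rw [hr]; exact mem_center_iff.1 (hcent r) _
    · change e.1.2 * d.1.2 = d.1.2 * e.1.2
      rw [hd1, mul_one, one_mul]
  haveI : Finite τ.ker := by
    haveI : NeZero n := ⟨hn.ne'⟩
    have hr : ∀ d : τ.ker, ∃ r : rootsOfUnity n ℂ,
        d.1.1.1 = Matrix.GeneralLinearGroup.scalar (Fin n) (r : ℂˣ) := fun d => by
      obtain ⟨r, hr, hrn⟩ := hτmem d.1 d.2
      exact ⟨⟨r, (mem_rootsOfUnity n r).2 hrn⟩, hr⟩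
    choose F hF using hr
    refine Finite.of_injective F fun d d' hdd => Subtype.ext (Subtype.ext (Prod.ext ?_ ?_))
    · rw [hF d, hF d', hdd]
    · exact (d.2 : d.1.1.2 = 1).trans (d'.2 : d'.1.1.2 = 1).symm
  haveI : Finite D0 := by
    haveI : Finite (D0 ⧸ τ.ker) :=
      Finite.of_equiv _ (QuotientGroup.quotientKerEquivOfSurjective τ hτs).symm.toEquiv
    exact Finite.of_equiv _ (Subgroup.groupEquivQuotientProdSubgroup (s := τ.ker)).symm
  have hnt := hrig D0 τ hτs hτc
  -- extend the scalar character from the twisting subgroup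
  let X := fiber σ τ
  let p1 := fib1 σ τ
  let pm : X →* GL (Fin n) ℂ := (MonoidHom.fst _ _).comp (D0.subtype.comp (fib2 σ τ))
  haveI : Finite (Abelianization X) := Finite.of_surjective _ (QuotientGroup.mk_surjective (s := _root_.commutator X))
  let K : Subgroup (Abelianization X) := p1.ker.map Abelianization.of
  have hsc : ∀ k : p1.ker, ∃ r : ℂˣ, pm k.1 = Matrix.GeneralLinearGroup.scalar (Fin n) r := by
    intro k
    have h1 : k.1.1.1 = 1 := k.2
    obtain ⟨r, hr, -⟩ := hτmem k.1.1.2 ((k.1.2).symm.trans ((congrArg σ h1).trans (map_one σ)) : τ k.1.1.2 = 1)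
    exact ⟨r, hr⟩
  choose χ0 hχ0 using hsc
  have hinj : Function.Injective (Matrix.GeneralLinearGroup.scalar (Fin n) : ℂˣ →* GL (Fin n) ℂ) := by
    intro a b hab
    have h := congrArg (fun M : GL (Fin n) ℂ => (M : Matrix (Fin n) (Fin n) ℂ) ⟨0, hn⟩ ⟨0, hn⟩) hab
    exact Units.ext (by simpa [Matrix.GeneralLinearGroup.scalar] using h)
  let χ : p1.ker →* ℂˣ :=
    { toFun := χ0
      map_one' := hinj (by rw [← hχ0, map_one]; exact map_one pm)
      map_mul' := fun a b => hinj (by rw [← hχ0, map_mul, ← hχ0, ← hχ0]; exact map_mul pm a.1 b.1) }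
  let emb : p1.ker →* K := (Abelianization.of : X →* Abelianization X).subgroupMap p1.ker
  have hemb : Function.Bijective emb := by
    refine ⟨?_, MonoidHom.subgroupMap_surjective _ _⟩
    rw [injective_iff_map_eq_one]
    intro k hk
    refine Subtype.ext (hnt k.1 ?_ k.2)
    rw [← Abelianization.ker_of X]
    exact congrArg Subtype.val hk
  obtain ⟨ψ, hψ⟩ := MonoidHom.domRestrict_surjective ℂ K
    (χ.comp (MulEquiv.ofBijective emb hemb).symm.toMonoidHom)
  let ψX : X →* ℂˣ := ψ.comp Abelianization.of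
  have hψk : ∀ k : p1.ker, ψX k.1 = χ k := by
    intro k
    have h := DFunLike.congr_fun hψ (emb k)
    rw [MonoidHom.comp_apply] at h
    have h2 : (MulEquiv.ofBijective emb hemb).symm (emb k) = k := by
      rw [MulEquiv.symm_apply_eq]; rfl
    exact h.trans (congrArg χ h2)
  let ρX : X →* GL (Fin n) ℂ :=
    { toFun := fun y => pm y * Matrix.GeneralLinearGroup.scalar (Fin n) (ψX y)⁻¹
      map_one' := by simp only [map_one, inv_one, mul_one]
      map_mul' := fun a b => by
        simp only [map_mul, mul_inv, mul_assoc]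
        exact congrArg _ (by rw [← mul_assoc, mem_center_iff.1 (hcent (ψX a)⁻¹) (pm b), mul_assoc]) }
  have hker : p1.ker ≤ ρX.ker := by
    intro k hk
    change pm k * Matrix.GeneralLinearGroup.scalar (Fin n) (ψX k)⁻¹ = 1
    rw [hψk ⟨k, hk⟩, hχ0 ⟨k, hk⟩, ← map_mul]
    exact (congrArg _ (mul_inv_cancel _)).trans (map_one _)
  let ρ : Γ →* GL (Fin n) ℂ := p1.liftOfSurjective (fib1_surjective σ τ hτs) ⟨ρX, hker⟩
  refine ⟨ρ, MonoidHom.ext fun g => ?_⟩
  obtain ⟨y, rfl⟩ := fib1_surjective σ τ hτs g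
  have h1 : ρ (p1 y) = ρX y := MonoidHom.liftOfRightInverse_comp_apply _ _ _ _ y
  change mk (ρ (p1 y)) = γ (σ (p1 y))
  rw [h1]
  change mk (pm y * Matrix.GeneralLinearGroup.scalar (Fin n) (ψX y)⁻¹) = γ (σ y.1.1)
  rw [map_mul, show mk (Matrix.GeneralLinearGroup.scalar (Fin n) (ψX y)⁻¹) = 1 from
    (QuotientGroup.eq_one_iff _).2 (hcent _), mul_one, show σ y.1.1 = τ y.1.2 from y.2]
  exact y.1.2.2.1

/-- A stem extension lifting every projective representation is rigid. -/
theorem noTwist_of_lifts [Finite Q] [Finite Γ] (σ : Γ →* Q)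
    (hlift : ∀ (m : ℕ) (γ : Q →* (GL (Fin m) ℂ ⧸ center (GL (Fin m) ℂ))),
      ∃ ρ : Γ →* GL (Fin m) ℂ, (QuotientGroup.mk' (center (GL (Fin m) ℂ))).comp ρ = γ.comp σ)
    {Δ : Type w} [Group Δ] [Finite Δ] (τ : Δ →* Q) (hτs : Function.Surjective τ)
    (hτc : τ.ker ≤ center Δ) : NoTwist σ τ := by
  classical
  haveI : IsMulCommutative τ.ker :=
    ⟨⟨fun a b => Subtype.ext (mem_center_iff.1 (hτc b.2) a)⟩⟩
  letI : CommGroup τ.ker := { (inferInstance : Group τ.ker) with mul_comm := fun a b => mul_comm' a b }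
  intro z hz hz1
  by_contra hne
  have hzk : fib2 σ τ z ∈ τ.ker := by
    rw [MonoidHom.mem_ker]
    exact (z.2).symm.trans ((congrArg σ hz1).trans (map_one σ))
  have hz2 : (⟨fib2 σ τ z, hzk⟩ : τ.ker) ≠ 1 := fun h =>
    hne (Subtype.ext (Prod.ext hz1 (congrArg Subtype.val h)))
  obtain ⟨lam, hlam⟩ := CommGroup.exists_apply_ne_one_of_hasEnoughRootsOfUnity τ.ker ℂ hz2
  -- the monomial representation induced from the kernel
  let m := Nat.card Q
  let e : Q ≃ Fin m := Finite.equivFin Q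
  choose s hs using hτs
  have hfm : ∀ (d : Δ) (q : Q), (s (τ d * q))⁻¹ * d * s q ∈ τ.ker := fun d q => by
    rw [MonoidHom.mem_ker, map_mul, map_mul, map_inv, hs, hs]; group
  let f : Δ → Q → ℂ := fun d q => ((lam ⟨_, hfm d q⟩ : ℂˣ) : ℂ)
  have hf : ∀ a b q, f (a * b) q = f a (τ b * q) * f b q := by
    intro a b q
    simp only [f]
    rw [← Units.val_mul, ← map_mul]
    congr 2
    refine Subtype.ext ?_
    change (s (τ (a * b) * q))⁻¹ * (a * b) * s q =
      (s (τ a * (τ b * q)))⁻¹ * a * s (τ b * q) * ((s (τ b * q))⁻¹ * b * s q)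
    rw [map_mul, ← mul_assoc (τ a)]
    group
  let R0 : Δ → Matrix (Fin m) (Fin m) ℂ := fun d =>
    Matrix.of fun i j => if i = e (τ d * e.symm j) then f d (e.symm j) else 0
  let R1 : Δ →* Matrix (Fin m) (Fin m) ℂ :=
    { toFun := R0
      map_one' := by
        ext i j
        have h1 : f 1 (e.symm j) = 1 := by
          simp only [f]
          rw [show (⟨_, hfm 1 (e.symm j)⟩ : τ.ker) = 1 from Subtype.ext (by simp), map_one,
            Units.val_one]
        by_cases hij : i = j <;>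
          simp [R0, h1, hij, Matrix.one_apply]
      map_mul' := fun a b => by
        ext i j
        simp only [R0, Matrix.mul_apply, Matrix.of_apply, mul_ite, mul_zero]
        rw [Finset.sum_ite_eq' Finset.univ (e (τ b * e.symm j))]
        simp only [Finset.mem_univ, if_true, Equiv.symm_apply_apply, map_mul, mul_assoc, ite_mul,
          zero_mul, hf] }
  let R : Δ →* GL (Fin m) ℂ := R1.toHomUnits
  have hRk : ∀ k (hk : k ∈ τ.ker), R k = Matrix.GeneralLinearGroup.scalar (Fin m) (lam ⟨k, hk⟩) := by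
    intro k hk
    apply Units.ext
    ext i j
    have hk1 : τ k = 1 := hk
    have h1 : f k (e.symm j) = (lam ⟨k, hk⟩ : ℂ) := by
      simp only [f]
      congr 2
      refine Subtype.ext ?_
      change (s (τ k * e.symm j))⁻¹ * k * s (e.symm j) = k
      rw [hk1, one_mul, mul_assoc, ← mem_center_iff.1 (hτc hk), inv_mul_cancel_left]
    change R0 k i j = _
    simp only [R0, Matrix.of_apply, h1, hk1, one_mul, Equiv.apply_symm_apply]
    by_cases hij : i = j <;>
      simp [Matrix.GeneralLinearGroup.scalar, hij]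
  have hcent : ∀ r : ℂˣ, Matrix.GeneralLinearGroup.scalar (Fin m) r ∈ center (GL (Fin m) ℂ) := fun r => by
    rw [Matrix.GeneralLinearGroup.center_eq_range_scalar]; exact ⟨r, rfl⟩
  have hτs' : Function.Surjective τ := fun q => ⟨s q, hs q⟩
  let mk := QuotientGroup.mk' (center (GL (Fin m) ℂ))
  have hle : τ.ker ≤ (mk.comp R).ker := fun k hk => (QuotientGroup.eq_one_iff _).2 (hRk k hk ▸ hcent _)
  let γ : Q →* (GL (Fin m) ℂ ⧸ center (GL (Fin m) ℂ)) := τ.liftOfSurjective hτs' ⟨mk.comp R, hle⟩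
  obtain ⟨ρ, hρ⟩ := hlift m γ
  let X := fiber σ τ
  have hmem : ∀ y : X, (ρ (fib1 σ τ y))⁻¹ * R (fib2 σ τ y) ∈ center (GL (Fin m) ℂ) := by
    intro y
    refine QuotientGroup.eq.1 ?_
    have h1 : γ (τ (fib2 σ τ y)) = mk (R (fib2 σ τ y)) :=
      MonoidHom.liftOfRightInverse_comp_apply _ _ _ _ _
    have h2 := DFunLike.congr_fun hρ (fib1 σ τ y)
    exact h2.trans ((congrArg γ y.2).trans h1)
  let Ψ : X →* center (GL (Fin m) ℂ) :=
    { toFun := fun y => ⟨_, hmem y⟩
      map_one' := Subtype.ext (by simp)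
      map_mul' := fun a b => Subtype.ext (by
        change (ρ (fib1 σ τ (a * b)))⁻¹ * R (fib2 σ τ (a * b)) =
          (ρ (fib1 σ τ a))⁻¹ * R (fib2 σ τ a) * ((ρ (fib1 σ τ b))⁻¹ * R (fib2 σ τ b))
        rw [map_mul, map_mul, map_mul, map_mul, mul_inv_rev, mul_assoc,
          ← mul_assoc (ρ (fib1 σ τ a))⁻¹, ← mul_assoc (ρ (fib1 σ τ b))⁻¹,
          mem_center_iff.1 (hmem a) (ρ (fib1 σ τ b))⁻¹]
        simp only [mul_assoc]) }
  haveI : IsMulCommutative (center (GL (Fin m) ℂ)) := inferInstance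
  letI : CommGroup (center (GL (Fin m) ℂ)) :=
    { (inferInstance : Group (center (GL (Fin m) ℂ))) with mul_comm := fun a b => mul_comm' a b }
  have h0 : Ψ z = 1 := Abelianization.commutator_subset_ker Ψ hz
  have h3 : (ρ (fib1 σ τ z))⁻¹ * R (fib2 σ τ z) = 1 := congrArg Subtype.val h0
  rw [hz1, map_one, inv_one, one_mul, hRk _ hzk] at h3
  refine hlam (Units.ext ?_)
  haveI : Nonempty Q := ⟨1⟩
  have h4 := congrArg
    (fun M : GL (Fin m) ℂ => (M : Matrix (Fin m) (Fin m) ℂ) (e 1) (e 1)) h3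
  simpa [Matrix.GeneralLinearGroup.scalar] using h4

end Projective

section Perfect

variable {G : Type u} [Group G] {Q : Type v} [Group Q]

/-- In a central extension of a group by a perfect group the second centre is the centre. -/
theorem mem_center_of_map_mem_center (hG : Group.IsPerfect G) {π : G →* Q} (hker : π.ker ≤ center G)
    {x : G} (hx : π x ∈ center Q) : x ∈ center G := by
  have hc : ∀ g, ⁅x, g⁆ ∈ center G := fun g => hker (by
    rw [MonoidHom.mem_ker, map_commutatorElement, commutatorElement_eq_one_iff_mul_comm]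
    exact (mem_center_iff.1 hx _).symm)
  haveI : IsMulCommutative (center G) := inferInstance
  letI : CommGroup (center G) :=
    { (inferInstance : Group (center G)) with mul_comm := fun a b => mul_comm' a b }
  let f : G →* center G :=
    { toFun := fun g => ⟨⁅x, g⁆, hc g⟩
      map_one' := Subtype.ext (by simp)
      map_mul' := fun a b => Subtype.ext (by
        change ⁅x, a * b⁆ = ⁅x, a⁆ * ⁅x, b⁆
        calc ⁅x, a * b⁆ = ⁅x, a⁆ * (a * ⁅x, b⁆ * a⁻¹) := by
              simp only [commutatorElement_def]; group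
          _ = ⁅x, a⁆ * ⁅x, b⁆ := by rw [mem_center_iff.1 (hc b) a, mul_inv_cancel_right]) }
  refine mem_center_iff.2 fun g => ?_
  have h : f g = 1 := Abelianization.commutator_subset_ker f (hG.commutator_eq_top.ge (mem_top g))
  exact (commutatorElement_eq_one_iff_mul_comm.1 (congrArg Subtype.val h)).symm

/-- The derived subgroup of the universal central extension of a perfect group. -/
theorem exists_universal [Finite G] (hG : Group.IsPerfect G) :
    ∃ (H : Type u) (_ : Group H) (_ : Finite H) (π : H →* G), Group.IsPerfect H ∧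
      Function.Surjective π ∧ π.ker ≤ center H ∧
      ∀ (X : Type w) [Group X] (ξ : X →* G), Function.Surjective ξ → ξ.ker ≤ center X →
        ∃! η : H →* X, ξ.comp η = π := by
  let H := _root_.commutator (E G)
  let π : H →* G := (proj G).comp H.subtype
  have hmap : H.map (proj G) = ⊤ := by
    change (_root_.commutator (E G)).map (proj G) = ⊤
    rw [_root_.commutator_def, map_commutator, map_top_of_surjective _ (proj_surjective G),
      ← _root_.commutator_def]
    exact hG.commutator_eq_top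
  have hHH : ⁅H, H⁆ = H := (commutator_eq_of_sup_center (sup_center_eq_top (ker_le_center G) hmap)).symm
  have hperf : Group.IsPerfect H := Subgroup.isPerfect_iff.2 hHH
  have hsurj : Function.Surjective π := fun g => by
    obtain ⟨e, he, rfl⟩ := (hmap.ge (mem_top g) : g ∈ H.map (proj G))
    exact ⟨⟨e, he⟩, rfl⟩
  have hker : π.ker ≤ center H := fun h hh =>
    mem_center_iff.2 fun y => Subtype.ext (mem_center_iff.1 (ker_le_center G hh) y.1)
  refine ⟨H, inferInstance, finite_commutator G, π, hperf, hsurj, hker, fun X _ ξ hξ hξc => ?_⟩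
  obtain ⟨η, hη⟩ := exists_lift G ξ hξ hξc (MonoidHom.id G)
  refine ⟨η.comp H.subtype, MonoidHom.ext fun h => hη h.1, fun η' hη' => MonoidHom.ext fun h => ?_⟩
  exact eq_on_commutator hξc η' (η.comp H.subtype)
    (fun y => (DFunLike.congr_fun hη' y).trans (hη y.1).symm) (hperf.commutator_eq_top.ge (mem_top h))

/-- A perfect central extension is universal if and only if it has trivial multiplier. -/
theorem universal_iff [Finite G] (hG : Group.IsPerfect G) (π : G →* Q) (hπ : Function.Surjective π)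
    (hker : π.ker ≤ center G) :
    (∀ (X : Type u) [Group X] (ξ : X →* Q), Function.Surjective ξ → ξ.ker ≤ center X →
      ∃ η : G →* X, ξ.comp η = π) ↔ Cfsg.HasCyclicSchurMultiplier G 1 := by
  constructor
  · intro huniv
    refine hasCyclic_one_of_ker_eq_bot fun Δ _ _ τ hτ => ?_
    have hΔ : Group.IsPerfect Δ := ⟨eq_top_of_map_eq_top hτ (by
      rw [_root_.commutator_def, map_commutator, map_top_of_surjective _ hτ.1, ← _root_.commutator_def]
      exact hG.commutator_eq_top)⟩
    have hcen : (π.comp τ).ker ≤ center Δ := fun d hd =>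
      mem_center_of_map_mem_center hΔ hτ.2.1 (hker hd)
    obtain ⟨η, hη⟩ := huniv Δ (π.comp τ) (hπ.comp hτ.1) hcen
    have hid : ∀ g, τ (η g) = g := fun g =>
      eq_on_commutator hker (τ.comp η) (MonoidHom.id G) (fun y => DFunLike.congr_fun hη y)
        (hG.commutator_eq_top.ge (mem_top g))
    have htop : η.range = ⊤ := eq_top_of_map_eq_top hτ (eq_top_iff.2 fun g _ =>
      ⟨η g, ⟨g, rfl⟩, hid g⟩)
    rw [eq_bot_iff]
    intro d hd
    obtain ⟨g, rfl⟩ := htop.ge (mem_top d)
    rw [MonoidHom.mem_ker, hid] at hd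
    rw [hd, map_one]; exact one_mem _
  · intro h X _ ξ hξ hξc
    haveI : Subsingleton (mult G) := subsingleton_mult_iff.2 h
    obtain ⟨η, hη⟩ := exists_lift G ξ hξ hξc π
    let H := _root_.commutator (E G)
    let p : H →* G := (proj G).comp H.subtype
    have hp : Function.Bijective p := by
      refine ⟨?_, fun g => ?_⟩
      · rw [injective_iff_map_eq_one]
        intro c hc
        exact Subtype.ext (congrArg (fun t : mult G => (t : E G))
          (Subsingleton.elim (⟨c.1, MonoidHom.mem_ker.2 hc, c.2⟩ : mult G) 1))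
      · have : g ∈ (_root_.commutator (E G)).map (proj G) := by
          rw [_root_.commutator_def, map_commutator, map_top_of_surjective _ (proj_surjective G),
            ← _root_.commutator_def, hG.commutator_eq_top]
          exact mem_top g
        obtain ⟨e, he, rfl⟩ := this
        exact ⟨⟨e, he⟩, rfl⟩
    refine ⟨(η.comp H.subtype).comp (MulEquiv.ofBijective p hp).symm.toMonoidHom, MonoidHom.ext fun g => ?_⟩
    obtain ⟨c, rfl⟩ := hp.2 g
    change ξ (η ((MulEquiv.ofBijective p hp).symm (p c)).1) = π (p c)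
    rw [show (MulEquiv.ofBijective p hp).symm (p c) = c from MulEquiv.symm_apply_apply _ c, hη]
    rfl

end Perfect

section Unique

variable {Q : Type u} [Group Q] [Finite Q]

/-- Covers are unique over the group when the abelianization is coprime to the multiplier. -/
theorem cover_unique {Γ₁ : Type v} [Group Γ₁] [Finite Γ₁] {Γ₂ : Type w} [Group Γ₂] [Finite Γ₂]
    {σ₁ : Γ₁ →* Q} {σ₂ : Γ₂ →* Q} (h₁ : Cfsg.IsStemExtension σ₁) (h₂ : Cfsg.IsStemExtension σ₂)
    (hc₁ : Nat.card σ₁.ker = Nat.card (mult Q)) (hc₂ : Nat.card σ₂.ker = Nat.card (mult Q))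
    (hcop : Nat.Coprime (Nat.card (Abelianization Q)) (Nat.card (mult Q))) :
    ∃ e : Γ₁ ≃* Γ₂, σ₂.comp e.toMonoidHom = σ₁ := by
  haveI : IsMulCommutative σ₂.ker :=
    ⟨⟨fun a b => Subtype.ext (mem_center_iff.1 (h₂.2.1 b.2) a)⟩⟩
  letI : CommGroup σ₂.ker := { (inferInstance : Group σ₂.ker) with mul_comm := fun a b => mul_comm' a b }
  let X := fiber σ₁ σ₂
  let p1 := fib1 σ₁ σ₂
  have hp1 := fib1_surjective σ₁ σ₂ h₂.1
  have hrig := noTwist_of_card h₁ hc₁ h₂.1 h₂.2.1
  let μ : Subgroup X := p1.ker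
  let μe : μ →* σ₂.ker := ((fib2 σ₁ σ₂).comp μ.subtype).codRestrict σ₂.ker fun k =>
    (k.1.2).symm.trans ((congrArg σ₁ (k.2 : k.1.1.1 = 1)).trans (map_one σ₁))
  -- a power map retracting onto the kernel
  set q := Nat.card (Abelianization Q) with hq
  set a := Nat.card (mult Q) with ha
  have hqpow : ∀ y : X, ∃ k ∈ μ, ∃ c ∈ _root_.commutator X, k * c = y ^ q := by
    intro y
    have h1 : σ₁ (p1 y) ^ q ∈ _root_.commutator Q := by
      rw [← Abelianization.ker_of Q, MonoidHom.mem_ker, map_pow, hq, pow_card_eq_one']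
    have h2 : _root_.commutator Q = (_root_.commutator Γ₁).map σ₁ := by
      rw [_root_.commutator_def, _root_.commutator_def, map_commutator, map_top_of_surjective _ h₁.1]
    rw [h2] at h1
    obtain ⟨c1, hc1, hc1e⟩ := h1
    have h3 : (p1 y) ^ q ∈ _root_.commutator Γ₁ := by
      have : c1⁻¹ * p1 y ^ q ∈ σ₁.ker := by
        rw [MonoidHom.mem_ker, map_mul, map_inv, hc1e, map_pow, inv_mul_cancel]
      simpa using mul_mem hc1 (h₁.2.2 this)
    have h4 : _root_.commutator Γ₁ = (_root_.commutator X).map p1 := by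
      rw [_root_.commutator_def, _root_.commutator_def, map_commutator, map_top_of_surjective _ hp1]
    rw [h4] at h3
    obtain ⟨c, hc, hce⟩ := h3
    refine ⟨y ^ q * c⁻¹, ?_, c, hc, inv_mul_cancel_right _ _⟩
    change p1 (y ^ q * c⁻¹) = 1
    rw [map_mul, map_pow, map_inv, hce, mul_inv_cancel]
  choose k hk c hc hkc using hqpow
  have huniq : ∀ {k₁ k₂ c₁ c₂ : X}, k₁ ∈ μ → k₂ ∈ μ → c₁ ∈ _root_.commutator X →
      c₂ ∈ _root_.commutator X → k₁ * c₁ = k₂ * c₂ → k₁ = k₂ := by
    intro k₁ k₂ c₁ c₂ hk₁ hk₂ hc₁' hc₂' he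
    have h : k₂⁻¹ * k₁ = c₂ * c₁⁻¹ := by
      rw [eq_mul_inv_iff_mul_eq, mul_assoc, he, inv_mul_cancel_left]
    have := hrig (k₂⁻¹ * k₁) (h ▸ mul_mem hc₂' (inv_mem hc₁'))
      (by rw [map_mul, map_inv, MonoidHom.mem_ker.1 hk₁, MonoidHom.mem_ker.1 hk₂, inv_one, one_mul])
    exact (eq_of_inv_mul_eq_one this).symm
  let r : X → σ₂.ker := fun y => μe ⟨k y, hk y⟩
  have hrmul : ∀ y y', r (y * y') = r y * r y' := by
    intro y y'
    have hkk : (k (y * y') : X) = k y * k y' := by
      have hyq : (y * y') ^ q * (y' ^ q)⁻¹ * (y ^ q)⁻¹ ∈ _root_.commutator X := by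
        rw [← Abelianization.ker_of X, MonoidHom.mem_ker]
        simp only [map_mul, map_pow, map_inv, mul_pow]
        rw [mul_inv_cancel_right, mul_inv_cancel]
      have hcomm : (k y * k y')⁻¹ * (y ^ q * y' ^ q) ∈ _root_.commutator X := by
        rw [← Abelianization.ker_of X, MonoidHom.mem_ker, map_mul, map_inv, map_mul, map_mul,
          ← hkc y, ← hkc y', map_mul, map_mul]
        rw [show Abelianization.of (c y) = 1 by rw [← MonoidHom.mem_ker, Abelianization.ker_of]; exact hc y,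
          show Abelianization.of (c y') = 1 by rw [← MonoidHom.mem_ker, Abelianization.ker_of]; exact hc y',
          mul_one, mul_one, inv_mul_cancel]
      refine huniq (hk _) (mul_mem (hk y) (hk y')) (hc _)
        (c₂ := (k y * k y')⁻¹ * (y * y') ^ q) ?_ (by rw [hkc, mul_inv_cancel_left])
      rw [← Abelianization.ker_of X, MonoidHom.mem_ker] at hyq hcomm ⊢
      simp only [map_mul, map_pow, map_inv, mul_pow] at hcomm ⊢
      exact hcomm
    change μe ⟨k (y * y'), hk _⟩ = μe ⟨k y, hk y⟩ * μe ⟨k y', hk y'⟩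
    rw [← map_mul]
    exact congrArg μe (Subtype.ext hkk)
  let rh : X →* σ₂.ker := MonoidHom.mk' r hrmul
  obtain ⟨t, ht⟩ : ∃ t, ∀ y : Γ₂, y ^ a = 1 → (y ^ q) ^ t = y := by
    rcases Nat.lt_or_ge 1 a with h | h
    · obtain ⟨t, -, ht⟩ := Nat.exists_mul_mod_eq_one_of_coprime hcop h
      refine ⟨t, fun y hy => ?_⟩
      rw [← pow_mul, ← Nat.mod_add_div (q * t) a, ht, pow_add, pow_mul, hy, one_pow, mul_one, pow_one]
    · have h1 : a = 1 := by have : 0 < a := Nat.card_pos; omega
      exact ⟨0, fun y hy => by rw [h1, pow_one] at hy; rw [hy, one_pow, one_pow]⟩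
  let ψ : X →* σ₂.ker := (powMonoidHom t).comp rh
  have hψμ : ∀ y ∈ μ, (ψ y : Γ₂) = y.1.2 := by
    intro y hy
    have h1 : k y = y ^ q := huniq (hk y) (pow_mem hy q) (hc y) (one_mem _)
      (by rw [hkc, mul_one])
    have h2 : (ψ y : Γ₂) = (y.1.2 ^ q) ^ t := by
      change ((r y : σ₂.ker) ^ t).1 = _
      rw [SubgroupClass.coe_pow]
      congr 1
      change (k y).1.2 = y.1.2 ^ q
      rw [h1]; rfl
    rw [h2]
    have hy2 : y.1.2 ∈ σ₂.ker := (y.2).symm.trans ((congrArg σ₁ (hy : y.1.1 = 1)).trans (map_one σ₁))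
    have hord : y.1.2 ^ a = 1 := by
      have h := congrArg Subtype.val (pow_card_eq_one' (x := (⟨y.1.2, hy2⟩ : σ₂.ker)))
      rw [hc₂] at h
      simpa using h
    exact ht _ hord
  let g : X →* Γ₂ :=
    { toFun := fun y => y.1.2 * (ψ y : Γ₂)⁻¹
      map_one' := by simp
      map_mul' := fun y y' => by
        have hcz : ∀ z : σ₂.ker, ∀ w, w * (z : Γ₂) = z * w := fun z => mem_center_iff.1 (h₂.2.1 z.2)
        simp only [map_mul, Subgroup.coe_mul, Prod.snd_mul, mul_inv_rev]
        rw [mul_assoc (y.1.2) (ψ y : Γ₂)⁻¹, mul_assoc y.1.2 y'.1.2, ← mul_assoc y'.1.2]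
        exact congrArg _ (mem_center_iff.1 (inv_mem (h₂.2.1 (ψ y).2)) _) }
  have hg : μ ≤ g.ker := fun y hy => by
    change y.1.2 * (ψ y : Γ₂)⁻¹ = 1
    rw [hψμ y hy, mul_inv_cancel]
  let e : Γ₁ →* Γ₂ := p1.liftOfSurjective hp1 ⟨g, hg⟩
  have he : σ₂.comp e = σ₁ := by
    refine MonoidHom.ext fun x => ?_
    obtain ⟨y, rfl⟩ := hp1 x
    change σ₂ (e (p1 y)) = σ₁ (p1 y)
    rw [show e (p1 y) = g y from MonoidHom.liftOfRightInverse_comp_apply _ _ _ _ y]
    change σ₂ (y.1.2 * (ψ y : Γ₂)⁻¹) = σ₁ y.1.1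
    rw [map_mul, map_inv, MonoidHom.mem_ker.1 (ψ y).2, inv_one, mul_one]
    exact y.2.symm
  have hsurj : Function.Surjective e := MonoidHom.range_eq_top.1 (eq_top_of_map_eq_top h₂
    (eq_top_iff.2 fun x _ => by
      obtain ⟨w, rfl⟩ := h₁.1 x
      exact ⟨e w, ⟨w, rfl⟩, DFunLike.congr_fun he w⟩))
  have hcard : Nat.card Γ₁ = Nat.card Γ₂ := by
    rw [σ₁.ker.card_eq_card_quotient_mul_card_subgroup, σ₂.ker.card_eq_card_quotient_mul_card_subgroup,
      Nat.card_congr (QuotientGroup.quotientKerEquivOfSurjective σ₁ h₁.1).toEquiv,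
      Nat.card_congr (QuotientGroup.quotientKerEquivOfSurjective σ₂ h₂.1).toEquiv, hc₁, hc₂]
  exact ⟨MulEquiv.ofBijective e ((Nat.bijective_iff_surjective_and_card e).2 ⟨hsurj, hcard⟩), he⟩

omit [Finite Q] in
theorem torsionFree_E {e : E Q} {k : ℕ} (hk : k ≠ 0) (h : e ^ k ∈ _root_.commutator (E Q)) :
    e ∈ _root_.commutator (E Q) := by
  obtain ⟨y, rfl⟩ := QuotientGroup.mk'_surjective (relComm Q) e
  have hm : (_root_.commutator (FreeGroup Q)).map (QuotientGroup.mk' (relComm Q)) =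
      _root_.commutator (E Q) := by
    rw [_root_.commutator_def, map_commutator, ← MonoidHom.range_eq_map,
      MonoidHom.range_eq_top.2 (QuotientGroup.mk'_surjective _), ← _root_.commutator_def]
  rw [← hm] at h ⊢
  rw [← map_pow] at h
  refine mem_map_of_mem _ (torsionFree_modulo_commutator hk ?_)
  obtain ⟨z, hz, hzy⟩ := h
  have h1 : z⁻¹ * y ^ k ∈ relComm Q := QuotientGroup.eq.1 hzy
  have h2 : relComm Q ≤ _root_.commutator (FreeGroup Q) := by
    rw [relComm, _root_.commutator_def]; exact commutator_mono le_top le_rfl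
  simpa using mul_mem hz (h2 h1)

/-- When covers are unique over the group, the abelianization is coprime to the multiplier. -/
theorem coprime_of_cover_unique
    (h : ∀ (L L' : Subgroup (E Q)) [L.Normal] [L'.Normal] (hL : L ≤ (proj Q).ker)
      (hL' : L' ≤ (proj Q).ker), L ⊓ _root_.commutator (E Q) = ⊥ → L' ⊓ _root_.commutator (E Q) = ⊥ →
      (proj Q).ker ≤ L ⊔ mult Q → (proj Q).ker ≤ L' ⊔ mult Q →
      ∃ e : (E Q ⧸ L) →* (E Q ⧸ L'),
        (QuotientGroup.lift L' (proj Q) hL').comp e = QuotientGroup.lift L (proj Q) hL) :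
    Nat.Coprime (Nat.card (Abelianization Q)) (Nat.card (mult Q)) := by
  classical
  by_contra hnc
  obtain ⟨p, hp, hpq, hpa⟩ := Nat.Prime.not_coprime_iff_dvd.1 hnc
  haveI := Fact.mk hp
  -- a first complement
  obtain ⟨L, hLK, hLc, hsup, -⟩ := exists_section Q PUnit.{1} (1 : (proj Q).ker →* PUnit.{1})
    fun _ => ⟨1, one_mem _, Subsingleton.elim _ _⟩
  haveI : L.Normal := normal_of_le_ker Q hLK
  letI : CommGroup (proj Q).ker :=
    { (inferInstance : Group (proj Q).ker) with
      mul_comm := fun a b => Subtype.ext (mem_center_iff.1 (ker_le_center Q b.2) a.1) }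
  letI : CommGroup L :=
    { (inferInstance : Group L) with
      mul_comm := fun a b => Subtype.ext (mem_center_iff.1 (ker_le_center Q (hLK b.2)) a.1) }
  -- an element of order `p` in the abelianization
  obtain ⟨q, hq⟩ := exists_prime_orderOf_dvd_card' p hpq
  obtain ⟨q, rfl⟩ := QuotientGroup.mk_surjective q
  obtain ⟨g, rfl⟩ := proj_surjective Q q
  have hmapC : (_root_.commutator (E Q)).map (proj Q) = _root_.commutator Q := by
    rw [_root_.commutator_def, map_commutator, map_top_of_surjective _ (proj_surjective Q),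
      ← _root_.commutator_def]
  have hgp : (proj Q g) ^ p ∈ _root_.commutator Q := by
    rw [← QuotientGroup.eq_one_iff, QuotientGroup.mk_pow]
    exact orderOf_dvd_iff_pow_eq_one.1 hq.dvd
  have hg : proj Q g ∉ _root_.commutator Q := fun hc => by
    rw [← QuotientGroup.eq_one_iff] at hc
    exact hp.one_lt.ne ((orderOf_eq_one_iff.2 hc).symm.trans hq)
  obtain ⟨x, hxL, c, hc, hgx⟩ : ∃ x ∈ L, ∃ c ∈ _root_.commutator (E Q), g ^ p = x * c := by
    rw [← hmapC] at hgp
    obtain ⟨c0, hc0, hce⟩ := hgp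
    have hk : g ^ p * c0⁻¹ ∈ (proj Q).ker := by
      rw [MonoidHom.mem_ker, map_mul, map_inv, map_pow, hce, mul_inv_cancel]
    have hk' := hsup hk
    rw [← SetLike.mem_coe, Subgroup.normal_mul] at hk'
    obtain ⟨l, hl, m, hm, hlm⟩ := hk'
    exact ⟨l, hl, m * c0, mul_mem hm.2 hc0, by
      rw [← mul_assoc, show l * m = g ^ p * c0⁻¹ from hlm, inv_mul_cancel_right]⟩
  have hx : ∀ l ∈ L, l ^ p ≠ x := by
    intro l hl he
    have hcm : Commute g l⁻¹ := mem_center_iff.1 (ker_le_center Q (hLK (inv_mem hl))) g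
    have hgl : (g * l⁻¹) ^ p ∈ _root_.commutator (E Q) := by
      rw [hcm.mul_pow, inv_pow, he, hgx]
      have : x * c * x⁻¹ = c := by
        rw [← mem_center_iff.1 (ker_le_center Q (hLK hxL)) c, mul_inv_cancel_right]
      rwa [this]
    have := mem_map_of_mem (proj Q) (torsionFree_E hp.ne_zero hgl)
    rw [hmapC, map_mul, map_inv, MonoidHom.mem_ker.1 (hLK hl), inv_one, mul_one] at this
    exact hg this
  -- coordinates on the complement
  have hNker : relComm Q ≤ (Abelianization.of : FreeGroup Q →* Abelianization (FreeGroup Q)).ker := by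
    rw [Abelianization.ker_of, relComm, _root_.commutator_def]
    exact commutator_mono le_top le_rfl
  let j : Additive L →+ (Q →₀ ℤ) := (FreeAbelianGroup.equivFinsupp Q).toAddMonoidHom.comp
    (MonoidHom.toAdditive ((QuotientGroup.lift (relComm Q) Abelianization.of hNker).comp L.subtype))
  have hj : Function.Injective j := by
    refine (FreeAbelianGroup.equivFinsupp Q).injective.comp ?_
    refine (injective_iff_map_eq_zero _).2 ?_
    intro l hl
    obtain ⟨l, rfl⟩ := Additive.ofMul.surjective l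
    obtain ⟨y, hy⟩ := QuotientGroup.mk'_surjective (relComm Q) (l : E Q)
    have hy1 : y ∈ _root_.commutator (FreeGroup Q) := by
      rw [← Abelianization.ker_of, MonoidHom.mem_ker]
      have : (QuotientGroup.lift (relComm Q) Abelianization.of hNker) (l : E Q) = 1 :=
        congrArg Additive.toMul hl
      rw [← hy] at this
      exact this
    have hlC : (l : E Q) ∈ _root_.commutator (E Q) := by
      rw [← hy]
      have := mem_map_of_mem (QuotientGroup.mk' (relComm Q)) hy1
      rw [_root_.commutator_def, map_commutator] at this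
      exact commutator_mono le_top le_top this
    have : (l : E Q) ∈ L ⊓ _root_.commutator (E Q) := Subgroup.mem_inf.2 ⟨l.2, hlC⟩
    rw [hLc, mem_bot] at this
    exact congrArg Additive.ofMul (Subtype.ext this)
  let jl : Additive L →ₗ[ℤ] (Q →₀ ℤ) := j.toIntLinearMap
  obtain ⟨nb, b0⟩ := Submodule.basisOfPid (Finsupp.basisSingleOne (ι := Q) (R := ℤ)) (LinearMap.range jl)
  let b : Module.Basis (Fin nb) ℤ (Additive L) :=
    b0.map (LinearEquiv.ofInjective jl hj).symm
  obtain ⟨i0, hi0⟩ : ∃ i, ¬ (p : ℤ) ∣ b.repr (Additive.ofMul (⟨x, hxL⟩ : L)) i := by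
    by_contra hall
    push Not at hall
    choose d hd using hall
    let y : Additive L := ∑ i, d i • b i
    have : Additive.ofMul (⟨x, hxL⟩ : L) = (p : ℤ) • y := by
      rw [Finset.smul_sum, ← b.sum_repr (Additive.ofMul (⟨x, hxL⟩ : L))]
      exact Finset.sum_congr rfl fun i _ => by rw [hd i, mul_smul]
    refine hx y.toMul.1 y.toMul.2 ?_
    have h2 := congrArg (fun t : Additive L => (t.toMul : E Q)) this
    simp only [natCast_zsmul, toMul_ofMul, toMul_nsmul, SubgroupClass.coe_pow] at h2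
    exact h2.symm
  set cc := b.repr (Additive.ofMul (⟨x, hxL⟩ : L)) i0 with hcc
  -- an element of the multiplier which is no `p`-th power
  obtain ⟨m, hm⟩ : ∃ m : mult Q, ∀ n : mult Q, n ^ p ≠ m := by
    by_contra hall
    push Not at hall
    have hbij : Function.Bijective (fun n : mult Q => n ^ p) :=
      (Nat.bijective_iff_surjective_and_card _).2 ⟨fun m => hall m, rfl⟩
    obtain ⟨u, hu⟩ := exists_prime_orderOf_dvd_card' p hpa
    have : u = 1 := hbij.1 (by simp only [one_pow]; rw [← hu, pow_orderOf_eq_one])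
    rw [this, orderOf_one] at hu
    exact hp.one_lt.ne hu
  let fl : Additive L →ₗ[ℤ] Additive (mult Q) :=
    b.constr ℤ fun i => if i = i0 then Additive.ofMul m else 0
  let f : L →* mult Q := MonoidHom.mk' (fun l => (fl (Additive.ofMul l)).toMul)
    fun l l' => by rw [ofMul_mul, map_add, toMul_add]
  have hfx : f ⟨x, hxL⟩ = m ^ cc := by
    change (fl (Additive.ofMul (⟨x, hxL⟩ : L))).toMul = _
    simp only [fl, Module.Basis.constr_apply_fintype, smul_ite, smul_zero, Finset.sum_ite_eq',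
      Finset.mem_univ, if_true]
    rw [toMul_zsmul]; rfl
  have hfx' : ∀ n : mult Q, n ^ p ≠ f ⟨x, hxL⟩ := by
    intro n hn
    obtain ⟨u, w, huw⟩ := (Nat.prime_iff_prime_int.1 hp).coprime_iff_not_dvd.2 hi0
    refine hm (m ^ u * n ^ w) ?_
    rw [← zpow_natCast, mul_zpow, ← zpow_mul, ← zpow_mul, mul_comm w, zpow_mul n, zpow_natCast, hn, hfx,
      ← zpow_mul, ← zpow_add, mul_comm cc, huw, zpow_one]
  -- the twisted complement
  let ι : L × mult Q →* (proj Q).ker :=
    (Subgroup.inclusion hLK).coprod (Subgroup.inclusion (inf_le_left : mult Q ≤ (proj Q).ker))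
  have hι : Function.Bijective ι := by
    constructor
    · rw [injective_iff_map_eq_one]
      rintro ⟨l, n⟩ hln
      have h1 : (l : E Q) * n = 1 := congrArg Subtype.val hln
      have h2 : (l : E Q) ∈ L ⊓ _root_.commutator (E Q) :=
        Subgroup.mem_inf.2 ⟨l.2, eq_inv_of_mul_eq_one_left h1 ▸ inv_mem n.2.2⟩
      rw [hLc, mem_bot] at h2
      rw [h2, one_mul] at h1
      exact Prod.ext (Subtype.ext h2) (Subtype.ext h1)
    · intro k
      have hk := hsup k.2
      rw [← SetLike.mem_coe, Subgroup.normal_mul] at hk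
      obtain ⟨l, hl, n, hn, hln⟩ := hk
      exact ⟨(⟨l, hl⟩, ⟨n, hn⟩), Subtype.ext hln⟩
  let φ : (proj Q).ker →* mult Q :=
    (f.coprod (MonoidHom.id (mult Q))).comp (MulEquiv.ofBijective ι hι).symm.toMonoidHom
  have hφι : ∀ l n, φ (ι (l, n)) = f l * n := by
    intro l n
    change (f.coprod (MonoidHom.id (mult Q))) ((MulEquiv.ofBijective ι hι).symm (ι (l, n))) = _
    rw [show (MulEquiv.ofBijective ι hι).symm (ι (l, n)) = (l, n) from MulEquiv.symm_apply_apply _ _]
    rfl
  have hφm : ∀ n : mult Q, φ ⟨n, n.2.1⟩ = n := by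
    intro n
    have : ι (1, n) = ⟨n, n.2.1⟩ := Subtype.ext (one_mul _)
    rw [← this, hφι, map_one, one_mul]
  let L' : Subgroup (E Q) := φ.ker.map (proj Q).ker.subtype
  have hL'K : L' ≤ (proj Q).ker := map_subtype_le _
  have hL'c : L' ⊓ _root_.commutator (E Q) = ⊥ := by
    rw [eq_bot_iff]
    rintro l ⟨⟨k, hk, rfl⟩, hkC⟩
    have := hφm ⟨(k : E Q), Subgroup.mem_inf.2 ⟨k.2, hkC⟩⟩
    rw [show (⟨((⟨(k : E Q), Subgroup.mem_inf.2 ⟨k.2, hkC⟩⟩ : mult Q) : E Q), k.2⟩ : (proj Q).ker) = k from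
      Subtype.ext rfl, MonoidHom.mem_ker.1 hk] at this
    exact mem_bot.2 (congrArg (fun t : mult Q => (t : E Q)) this).symm
  have hsup' : (proj Q).ker ≤ L' ⊔ mult Q := by
    intro k hk
    let n := φ ⟨k, hk⟩
    have h1 : k * (n : E Q)⁻¹ ∈ L' := ⟨⟨k, hk⟩ * (⟨n, n.2.1⟩ : (proj Q).ker)⁻¹, by
      rw [SetLike.mem_coe, MonoidHom.mem_ker, map_mul, map_inv, hφm, mul_inv_cancel], rfl⟩
    have := mul_mem_sup h1 n.2
    rwa [inv_mul_cancel_right] at this
  haveI : L'.Normal := normal_of_le_ker Q hL'K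
  obtain ⟨e, he⟩ := h L L' hLK hL'K hLc hL'c hsup hsup'
  let mk' := QuotientGroup.mk' L'
  let σ' := QuotientGroup.lift L' (proj Q) hL'K
  have hlift : ∀ y : E Q, σ' (e (QuotientGroup.mk' L y)) = σ' (mk' y) := fun y =>
    DFunLike.congr_fun he (QuotientGroup.mk' L y)
  have hcen : σ'.ker ≤ center (E Q ⧸ L') := (cover_of_complement Q hL'K hL'c hsup').1.2.1
  obtain ⟨z0, hz0⟩ := QuotientGroup.mk'_surjective L' ((e (QuotientGroup.mk' L g))⁻¹ * mk' g)
  have hzK : z0 ∈ (proj Q).ker := by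
    rw [MonoidHom.mem_ker]
    change σ' (mk' z0) = 1
    rw [hz0, map_mul, map_inv, hlift, inv_mul_cancel]
  have hcm : Commute (e (QuotientGroup.mk' L g)) (mk' z0) :=
    mem_center_iff.1 (hcen (show σ' (mk' z0) = 1 from hzK)) _
  have h1 : mk' (g ^ p) = mk' c * mk' (z0 ^ p) := by
    have hg' : mk' g = e (QuotientGroup.mk' L g) * mk' z0 := by rw [hz0, mul_inv_cancel_left]
    rw [map_pow, hg', hcm.mul_pow, ← map_pow, ← map_pow, hgx, map_mul,
      show QuotientGroup.mk' L x = 1 from (QuotientGroup.eq_one_iff x).2 hxL, one_mul, ← map_pow mk']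
    congr 1
    exact eq_on_commutator (τ := σ') hcen (e.comp (QuotientGroup.mk' L)) mk' hlift hc
  have h2 : x⁻¹ * z0 ^ p ∈ L' := by
    refine QuotientGroup.eq.1 ?_
    rw [hgx, map_mul] at h1
    have hcx : mk' x * mk' c = mk' c * mk' x := by
      rw [← map_mul, ← map_mul, mem_center_iff.1 (ker_le_center Q (hLK hxL)) c]
    rw [hcx] at h1
    exact mul_left_cancel h1
  obtain ⟨k, hk, hk2⟩ := h2
  have hkk : k = (⟨x, hLK hxL⟩ : (proj Q).ker)⁻¹ * ⟨z0, hzK⟩ ^ p := Subtype.ext hk2
  rw [SetLike.mem_coe, MonoidHom.mem_ker, hkk, map_mul, map_inv, map_pow, inv_mul_eq_one] at hk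
  refine hfx' (φ ⟨z0, hzK⟩) ?_
  rw [← hk, show (⟨x, hLK hxL⟩ : (proj Q).ker) = ι (⟨x, hxL⟩, 1) from Subtype.ext (mul_one _).symm,
    hφι, mul_one]

end Unique

end CfsgLib.Schur
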