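import Mathlib
import Cfsg.Agent.Lib.PGroup.StemExtension

/-!
# The multiplier of a finite metacyclic group
-/

set_option autoImplicit false
open Subgroup
open scoped commutatorElement
open Fin.NatCast

namespace CfsgLib.Schur

universe u

/-- The relators `a ^ m`, `b ^ n = a ^ s`, `b a b⁻¹ = a ^ r` of a metacyclic group. -/
def metaRels (m n r s : ℕ) : Set (FreeGroup Bool) :=
  {FreeGroup.of true ^ m, (FreeGroup.of false) ^ n * (FreeGroup.of true ^ s)⁻¹,
    FreeGroup.of false * FreeGroup.of true * (FreeGroup.of false)⁻¹ * (FreeGroup.of true ^ r)⁻¹}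

/-- The metacyclic group. -/
abbrev MetaP (m n r s : ℕ) : Type := PresentedGroup (metaRels m n r s)

/-- Its normal generator. -/
abbrev metaA (m n r s : ℕ) : MetaP m n r s := PresentedGroup.of true

/-- Its second generator. -/
abbrev metaB (m n r s : ℕ) : MetaP m n r s := PresentedGroup.of false

variable {m n r s : ℕ}

theorem metaA_pow : metaA m n r s ^ m = 1 := by
  have h := PresentedGroup.one_of_mem (rels := metaRels m n r s) (Or.inl rfl)
  rwa [map_pow] at h

theorem metaB_pow : metaB m n r s ^ n = metaA m n r s ^ s := by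
  have h := PresentedGroup.one_of_mem (rels := metaRels m n r s) (Or.inr (Or.inl rfl))
  rw [map_mul, map_pow, map_inv, map_pow] at h
  exact mul_inv_eq_one.1 h

theorem meta_conj : metaB m n r s * metaA m n r s * (metaB m n r s)⁻¹ = metaA m n r s ^ r := by
  have h := PresentedGroup.one_of_mem (rels := metaRels m n r s) (Or.inr (Or.inr rfl))
  simp only [map_mul, map_inv, map_pow] at h
  exact mul_inv_eq_one.1 h

theorem meta_lift {H : Type u} [Group H] (x y : H) (h1 : x ^ m = 1) (h2 : y ^ n = x ^ s)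
    (h3 : y * x * y⁻¹ = x ^ r) :
    ∃ φ : MetaP m n r s →* H, φ (metaA m n r s) = x ∧ φ (metaB m n r s) = y := by
  refine ⟨PresentedGroup.toGroup (f := fun b => if b then x else y) ?_,
    PresentedGroup.toGroup.of _, PresentedGroup.toGroup.of _⟩
  intro w hw
  simp only [metaRels, Set.mem_insert_iff, Set.mem_singleton_iff] at hw
  rcases hw with rfl | rfl | rfl
  · simp [h1]
  · simp [h2]
  · simp [h3]

theorem meta_closure_eq_top :
    Subgroup.closure ({metaB m n r s, metaA m n r s} : Set (MetaP m n r s)) = ⊤ := by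
  rw [eq_top_iff, ← PresentedGroup.closure_range_of]
  refine Subgroup.closure_mono ?_
  rintro _ ⟨b, rfl⟩
  cases b
  exacts [Or.inl rfl, Or.inr rfl]

theorem meta_finite (hm : 0 < m) (hn : 0 < n) : Finite (MetaP m n r s) := by
  set a := metaA m n r s
  set b := metaB m n r s
  have ha : IsOfFinOrder a := isOfFinOrder_iff_pow_eq_one.2 ⟨m, hm, metaA_pow⟩
  have hb : IsOfFinOrder b := isOfFinOrder_iff_pow_eq_one.2 ⟨n * m, Nat.mul_pos hn hm, by
    rw [pow_mul, metaB_pow, ← pow_mul, mul_comm, pow_mul, metaA_pow, one_pow]⟩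
  haveI : Finite (zpowers a) := ha.finite_zpowers
  haveI : Finite (zpowers b) := hb.finite_zpowers
  haveI hN : (zpowers a).Normal := by
    refine Subgroup.normalizer_eq_top_iff.1 (top_le_iff.1 ?_)
    rw [← meta_closure_eq_top, Subgroup.closure_le]
    rintro g (rfl | rfl) <;> refine mem_normalizer_fintype ?_ <;> rintro _ ⟨i, rfl⟩
    · refine ⟨(r : ℤ) * i, ?_⟩
      change a ^ ((r : ℤ) * i) = b * a ^ i * b⁻¹
      rw [← conj_zpow, zpow_mul, zpow_natCast, meta_conj]
    · refine ⟨i, ?_⟩
      change a ^ i = a * a ^ i * a⁻¹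
      rw [((Commute.refl a).zpow_right i).eq, mul_inv_cancel_right]
  refine Finite.of_surjective (fun p : zpowers a × zpowers b => (p.1 : MetaP m n r s) * p.2) fun g => ?_
  have hg : g ∈ ((zpowers a ⊔ zpowers b : Subgroup (MetaP m n r s)) : Set (MetaP m n r s)) := by
    have : Subgroup.closure ({b, a} : Set (MetaP m n r s)) ≤ zpowers a ⊔ zpowers b :=
      (Subgroup.closure_le _).2 (by
        rintro x (rfl | rfl)
        exacts [mem_sup_right (mem_zpowers _), mem_sup_left (mem_zpowers _)])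
    exact this (meta_closure_eq_top.ge (mem_top g))
  rw [Subgroup.normal_mul] at hg
  obtain ⟨x, hx, y, hy, rfl⟩ := hg
  exact ⟨(⟨x, hx⟩, ⟨y, hy⟩), rfl⟩

/-- The normal generator has order exactly `m` when the parameters are consistent. -/
theorem orderOf_metaA (hm : 0 < m) (hn : 0 < n) (hrn : r ^ n ≡ 1 [MOD m]) (hs : r * s ≡ s [MOD m]) :
    orderOf (metaA m n r s) = m := by
  obtain ⟨k, rfl⟩ : ∃ k, n = k + 1 := ⟨n - 1, by omega⟩
  haveI : NeZero m := ⟨hm.ne'⟩
  have hrn' : (r : ZMod m) ^ (k + 1) = 1 := by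
    have := (ZMod.natCast_eq_natCast_iff _ _ _).2 hrn
    rwa [Nat.cast_pow, Nat.cast_one] at this
  have hs' : (r : ZMod m) * s = s := by
    have := (ZMod.natCast_eq_natCast_iff _ _ _).2 hs
    rwa [Nat.cast_mul] at this
  let u : (ZMod m)ˣ := Units.ofPowEqOne _ _ hrn' (Nat.succ_ne_zero k)
  have hu : (u : ZMod m) = r := rfl
  let A : Equiv.Perm (ZMod m × Fin (k + 1)) := (Equiv.addRight (1 : ZMod m)).prodCongr (Equiv.refl _)
  let jmp : Fin (k + 1) → ZMod m := fun j => if j = Fin.last k then (s : ZMod m) else 0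
  let B : Equiv.Perm (ZMod m × Fin (k + 1)) :=
    { toFun := fun p => ((u : ZMod m) * p.1 + jmp p.2, p.2 + 1)
      invFun := fun p => (((u⁻¹ : (ZMod m)ˣ) : ZMod m) * (p.1 - jmp (p.2 - 1)), p.2 - 1)
      left_inv := fun p => Prod.ext (by simp) (by simp)
      right_inv := fun p => Prod.ext (by simp) (by simp) }
  have hA : ∀ (i : ℕ) (p : ZMod m × Fin (k + 1)), (A ^ i) p = (p.1 + i, p.2) := by
    intro i
    induction i with
    | zero => intro p; simp
    | succ i ih =>
      intro p
      rw [pow_succ', Equiv.Perm.mul_apply, ih]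
      refine Prod.ext ?_ rfl
      change p.1 + (i : ZMod m) + 1 = p.1 + ((i + 1 : ℕ) : ZMod m)
      push_cast; ring
  have hBA : B * A = A ^ r * B := by
    refine Equiv.ext fun p => ?_
    rw [Equiv.Perm.mul_apply, Equiv.Perm.mul_apply, hA]
    refine Prod.ext ?_ rfl
    change (u : ZMod m) * (p.1 + 1) + jmp p.2 = (u : ZMod m) * p.1 + jmp p.2 + r
    rw [hu]; ring
  have hB0 : ∀ i ≤ k, ∀ x : ZMod m, (B ^ i) (x, 0) = ((r : ZMod m) ^ i * x, (i : Fin (k + 1))) := by
    intro i
    induction i with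
    | zero => intro _ x; simp
    | succ i ih =>
      intro hi x
      rw [pow_succ', Equiv.Perm.mul_apply, ih (by omega)]
      refine Prod.ext ?_ ?_
      · change (u : ZMod m) * ((r : ZMod m) ^ i * x) + jmp (i : Fin (k + 1)) = _
        have hne : (i : Fin (k + 1)) ≠ Fin.last k := fun h => by
          have := congrArg Fin.val h
          rw [Fin.val_natCast, Nat.mod_eq_of_lt (by omega : i < k + 1), Fin.val_last] at this
          omega
        simp only [jmp, if_neg hne, add_zero, hu]; ring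
      · change (i : Fin (k + 1)) + 1 = ((i + 1 : ℕ) : Fin (k + 1))
        rw [Nat.cast_add, Nat.cast_one]
  have hBs : B * A ^ s = A ^ s * B := by
    refine Equiv.ext fun p => ?_
    rw [Equiv.Perm.mul_apply, Equiv.Perm.mul_apply, hA, hA]
    refine Prod.ext ?_ rfl
    change (u : ZMod m) * (p.1 + s) + jmp p.2 = (u : ZMod m) * p.1 + jmp p.2 + s
    rw [hu, mul_add, hs']; ring
  have hBn : B ^ (k + 1) = A ^ s := by
    refine Equiv.ext fun p => ?_
    obtain ⟨x, j⟩ := p
    have hj : (B ^ (j : ℕ)) (((u⁻¹ : (ZMod m)ˣ) : ZMod m) ^ (j : ℕ) * x, 0) = (x, j) := by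
      rw [hB0 _ (by omega)]
      refine Prod.ext ?_ (by simp)
      change (r : ZMod m) ^ (j : ℕ) * _ = x
      rw [← mul_assoc, ← mul_pow, ← hu, Units.mul_inv, one_pow, one_mul]
    have hz : ∀ y : ZMod m, (B ^ (k + 1)) (y, 0) = (A ^ s) (y, 0) := by
      intro y
      rw [pow_succ', Equiv.Perm.mul_apply, hB0 k le_rfl, hA]
      refine Prod.ext ?_ ?_
      · change (u : ZMod m) * ((r : ZMod m) ^ k * y) + jmp (k : Fin (k + 1)) = y + s
        rw [Fin.natCast_eq_last]
        simp only [jmp, if_true]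
        rw [hu, ← mul_assoc, ← pow_succ', hrn', one_mul]
      · change (k : Fin (k + 1)) + 1 = 0
        rw [Fin.natCast_eq_last, Fin.last_add_one]
    have hc : Commute (A ^ s) (B ^ (j : ℕ)) := (show Commute (A ^ s) B from hBs.symm).pow_right _
    rw [← hj, ← Equiv.Perm.mul_apply, ((Commute.refl B).pow_pow (k + 1) (j : ℕ)).eq, Equiv.Perm.mul_apply, hz,
      ← Equiv.Perm.mul_apply, ← Equiv.Perm.mul_apply (A ^ s), hc.eq]
  have hAm : A ^ m = 1 := Equiv.ext fun p => by
    rw [hA, ZMod.natCast_self, add_zero]; rfl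
  obtain ⟨φ, hφa, -⟩ := meta_lift A B hAm hBn (by rw [hBA, mul_inv_cancel_right])
  refine Nat.dvd_antisymm (orderOf_dvd_of_pow_eq_one metaA_pow) ?_
  have h := orderOf_map_dvd φ (metaA m (k + 1) r s)
  rw [hφa] at h
  refine dvd_trans ?_ h
  have h0 := congrArg (fun e : Equiv.Perm (ZMod m × Fin (k + 1)) => (e (0, 0)).1) (pow_orderOf_eq_one A)
  simp only [hA, zero_add, Equiv.Perm.one_apply] at h0
  exact (ZMod.natCast_eq_zero_iff _ _).1 h0

/-- A number congruent to a coprime one modulo `y` and coprime to `δ`. -/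
theorem exists_coprime_shift {x y δ : ℕ} (hxy : Nat.Coprime x y) (hδ : δ ≠ 0) :
    ∃ t, Nat.Coprime (x + t * y) δ := by
  classical
  refine ⟨∏ p ∈ δ.primeFactors.filter (fun p => ¬ p ∣ x), p,
    Nat.coprime_of_dvd fun p hp hpd hpδ => ?_⟩
  set t := ∏ p ∈ δ.primeFactors.filter (fun p => ¬ p ∣ x), p with ht
  by_cases hpx : p ∣ x
  · have hty : p ∣ t * y := (Nat.dvd_add_right hpx).1 hpd
    rcases hp.dvd_mul.1 hty with h | h
    · obtain ⟨q, hq, hpq⟩ := (Prime.dvd_finset_prod_iff hp.prime _).1 h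
      rw [Finset.mem_filter] at hq
      rw [(Nat.prime_dvd_prime_iff_eq hp (Nat.prime_of_mem_primeFactors hq.1)).1 hpq] at hpx
      exact hq.2 hpx
    · exact hp.one_lt.ne' (Nat.eq_one_of_dvd_coprimes hxy hpx h)
  · have : p ∣ t := Finset.dvd_prod_of_mem _
      (Finset.mem_filter.2 ⟨Nat.mem_primeFactors.2 ⟨hp, hpδ, hδ⟩, hpx⟩)
    exact hpx ((Nat.dvd_add_left (dvd_mul_of_dvd_left this y)).1 hpd)

theorem geom_mul (r n : ℕ) (hr : 0 < r) :
    (r - 1) * ∑ i ∈ Finset.range n, r ^ i = r ^ n - 1 := by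
  have h : (r - 1) * ∑ i ∈ Finset.range n, r ^ i + 1 = r ^ n := by
    obtain ⟨q, rfl⟩ : ∃ q, r = q + 1 := ⟨r - 1, by omega⟩
    rw [Nat.add_sub_cancel]
    induction n with
    | zero => simp
    | succ n ih =>
      rw [Finset.sum_range_succ, mul_add, add_assoc, add_comm (q * _) 1, ← add_assoc, ih, pow_succ]
      ring
  omega

/-- The kernel of every stem extension of a metacyclic group is generated by an element killed by
`gcd l (gcd m (r - 1) * gcd m N / m)`. -/
theorem metacyclic_multiplier (m n r l : ℕ) (hm : 0 < m) (hn : 0 < n) (hr : 0 < r)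
    (hrn : r ^ n ≡ 1 [MOD m]) :
    Cfsg.HasCyclicSchurMultiplier (MetaP m n r (m * l / Nat.gcd m (r - 1)))
      (Nat.gcd l (Nat.gcd m (r - 1) * Nat.gcd m (∑ i ∈ Finset.range n, r ^ i) / m)) := by
  set d := Nat.gcd m (r - 1) with hd
  set N := ∑ i ∈ Finset.range n, r ^ i with hN
  have hdm : d ∣ m := Nat.gcd_dvd_left _ _
  have hdr : d ∣ r - 1 := Nat.gcd_dvd_right _ _
  have hd0 : 0 < d := Nat.gcd_pos_of_pos_left _ hm
  obtain ⟨y, hy⟩ : ∃ y, m = d * y := hdm
  obtain ⟨x, hx⟩ : ∃ x, r - 1 = d * x := hdr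
  have hxy : Nat.Coprime x y := by
    have h : Nat.gcd (d * y) (d * x) = d := by rw [← hy, ← hx]
    rw [Nat.gcd_mul_left] at h
    have : Nat.gcd y x = 1 := Nat.eq_of_mul_eq_mul_left hd0 (by rw [mul_one]; exact h)
    exact Nat.Coprime.symm this
  have hs : m * l / d = y * l := by
    rw [hy, mul_assoc, Nat.mul_div_cancel_left _ hd0]
  rw [hs]
  -- `m ∣ d * N`
  have hmdN : m ∣ d * N := by
    have h1 : m ∣ (r - 1) * N := by
      rw [hN, geom_mul r n hr]
      exact (Nat.modEq_iff_dvd' (Nat.one_le_pow _ _ hr)).1 hrn.symm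
    rw [hx, hy, mul_assoc] at h1
    have h2 : y ∣ x * N := Nat.dvd_of_mul_dvd_mul_left hd0 h1
    rw [hy]
    exact Nat.mul_dvd_mul_left d (hxy.symm.dvd_of_dvd_mul_left h2)
  obtain ⟨M, hM⟩ := hmdN
  have hδe : d * Nat.gcd m N / m = Nat.gcd d M := by
    rw [← Nat.gcd_mul_left, hM, mul_comm d m, Nat.gcd_mul_left, Nat.mul_div_cancel_left _ hm]
  rw [hδe]
  set δ := Nat.gcd l (Nat.gcd d M) with hδ
  have hδl : δ ∣ l := Nat.gcd_dvd_left _ _
  have hδd : δ ∣ d := (Nat.gcd_dvd_right _ _).trans (Nat.gcd_dvd_left _ _)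
  have hδM : δ ∣ M := (Nat.gcd_dvd_right _ _).trans (Nat.gcd_dvd_right _ _)
  have hδ0 : δ ≠ 0 := fun h => hd0.ne' (Nat.eq_zero_of_zero_dvd (h ▸ hδd))
  have hr1 : r = d * x + 1 := by omega
  set G := MetaP m n r (y * l)
  set a := metaA m n r (y * l)
  set b := metaB m n r (y * l)
  constructor
  · -- the covering group
    obtain ⟨t, ht⟩ := exists_coprime_shift hxy hδ0
    set r' := r + m * t with hr'
    set e := x + t * y with he
    have hr'e : r' = d * e + 1 := by rw [hr', he, hr1, hy]; ring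
    set m' := m * δ with hm'
    have hm'0 : 0 < m' := Nat.mul_pos hm (Nat.pos_of_ne_zero hδ0)
    set N' := ∑ i ∈ Finset.range n, r' ^ i with hN'
    have hrn' : r' ^ n ≡ 1 [MOD m'] := by
      refine ((Nat.modEq_iff_dvd' (Nat.one_le_pow _ _ (by omega))).2 ?_).symm
      rw [← geom_mul r' n (by omega), ← hN', show r' - 1 = d * e by omega,
        show d * e * N' = e * (d * N') by ring]
      refine dvd_mul_of_dvd_right ?_ e
      have hNN : N' ≡ N [MOD m] := by
        have hcast : (r' : ZMod m) = (r : ZMod m) := by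
          rw [hr', Nat.cast_add, Nat.cast_mul, ZMod.natCast_self, zero_mul, add_zero]
        rw [← ZMod.natCast_eq_natCast_iff]
        simp only [hN', hN, Nat.cast_sum, Nat.cast_pow, hcast]
      have h2 : d * N' ≡ d * N [MOD m'] := (hNN.mul_left' d).of_dvd
        (by rw [hm', mul_comm m δ]; exact Nat.mul_dvd_mul_right hδd m)
      refine (Nat.modEq_zero_iff_dvd).1 (h2.trans ?_)
      rw [Nat.modEq_zero_iff_dvd, hM, hm']
      exact Nat.mul_dvd_mul_left m hδM
    have hs' : r' * (y * l) ≡ y * l [MOD m'] := by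
      obtain ⟨l', hl'⟩ := hδl
      rw [hr'e, hm', hy, show (d * e + 1) * (y * l) = d * y * δ * (e * l') + y * l by rw [hl']; ring]
      exact (Nat.modEq_iff_dvd' (Nat.le_add_left _ _)).2
        (by rw [Nat.add_sub_cancel]; exact dvd_mul_right _ _) |>.symm
    haveI := meta_finite (r := r') (s := y * l) hm'0 hn
    set Γ := MetaP m' n r' (y * l)
    set a' := metaA m' n r' (y * l)
    set b' := metaB m' n r' (y * l)
    have hord : orderOf a' = m' := orderOf_metaA hm'0 hn hrn' hs'
    obtain ⟨σ, hσa, hσb⟩ := meta_lift (m := m') (n := n) (r := r') (s := y * l) a b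
      (by rw [hm', pow_mul, metaA_pow, one_pow]) metaB_pow
      (by rw [meta_conj, hr', pow_add, pow_mul, metaA_pow, one_pow, mul_one])
    change σ a' = a at hσa
    change σ b' = b at hσb
    set A := a' ^ m with hA
    have hAc : A ∈ center Γ := by
      rw [mem_center_iff]
      intro g
      have hg : g ∈ Subgroup.closure ({b', a'} : Set Γ) := meta_closure_eq_top.ge (mem_top g)
      have hle : Subgroup.closure ({b', a'} : Set Γ) ≤ centralizer {A} := by
        rw [Subgroup.closure_le]
        rintro w (rfl | rfl) <;> rw [SetLike.mem_coe, mem_centralizer_singleton_iff]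
        · obtain ⟨d', hd'⟩ := hδd
          have e2 : r' * m = m' * (d' * e) + m := by rw [hr'e, hm', hd']; ring
          have : b' * A * b'⁻¹ = A := by
            rw [hA, ← conj_pow, meta_conj, ← pow_mul, e2, pow_add, pow_mul, metaA_pow, one_pow, one_mul]
          exact (mul_inv_eq_iff_eq_mul.1 this)
        · exact ((Commute.refl a').pow_right m).eq
      exact mem_centralizer_singleton_iff.1 (hle hg)
    haveI : (zpowers A).Normal := ⟨fun w hw g => by
      rwa [mem_center_iff.1 (zpowers_le.2 hAc hw) g, mul_inv_cancel_right]⟩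
    obtain ⟨ρ, hρa, hρb⟩ := meta_lift (m := m) (n := n) (r := r) (s := y * l)
      (QuotientGroup.mk' (zpowers A) a') (QuotientGroup.mk' (zpowers A) b')
      (by rw [← map_pow]; exact (QuotientGroup.eq_one_iff A).2 (mem_zpowers A))
      (by rw [← map_pow, metaB_pow, map_pow])
      (by
        have e1 : a' ^ r' = a' ^ r * A ^ t := by rw [hA, ← pow_mul, ← pow_add]
        rw [← map_inv, ← map_mul, ← map_mul, meta_conj, e1, map_mul,
          map_pow _ A, show QuotientGroup.mk' (zpowers A) A = 1 from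
            (QuotientGroup.eq_one_iff A).2 (mem_zpowers A), one_pow, mul_one, map_pow])
    have hρσ : ρ.comp σ = QuotientGroup.mk' (zpowers A) := PresentedGroup.ext fun i => by
      cases i
      · change ρ (σ b') = _; rw [hσb]; exact hρb
      · change ρ (σ a') = _; rw [hσa]; exact hρa
    have hker : σ.ker = zpowers A := by
      refine le_antisymm (fun w hw => ?_) (zpowers_le.2 ?_)
      · refine (QuotientGroup.eq_one_iff w).1 ?_
        change QuotientGroup.mk' (zpowers A) w = 1
        rw [← hρσ, MonoidHom.comp_apply, MonoidHom.mem_ker.1 hw, map_one]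
      · rw [MonoidHom.mem_ker, hA, map_pow, hσa]; exact metaA_pow
    have hsurj : Function.Surjective σ := MonoidHom.range_eq_top.1 (top_le_iff.1 (by
      rw [← meta_closure_eq_top, Subgroup.closure_le]
      rintro w (rfl | rfl)
      exacts [⟨b', hσb⟩, ⟨a', hσa⟩]))
    have hcomm : σ.ker ≤ _root_.commutator Γ := by
      rw [hker, zpowers_le]
      have h1 : a' ^ (d * e) ∈ _root_.commutator Γ := by
        have : ⁅b', a'⁆ = a' ^ (d * e) := by
          have e1 : a' ^ r' = a' ^ (d * e) * a' := by rw [← pow_succ, ← hr'e]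
          rw [commutatorElement_def, meta_conj, e1, mul_inv_cancel_right]
        rw [← this]
        exact commutator_mem_commutator (mem_top _) (mem_top _)
      have hcop : Nat.Coprime e (y * δ) := by
        refine Nat.Coprime.mul_right ?_ ht
        rw [he, add_comm, Nat.coprime_mul_right_add_left]; exact hxy
      have h2 : (a' ^ d) ^ e ∈ _root_.commutator Γ := by rwa [← pow_mul]
      have hod : orderOf (a' ^ d) ∣ y * δ := orderOf_dvd_of_pow_eq_one (by
        rw [← pow_mul, show d * (y * δ) = m' by rw [hm', hy]; ring]; exact metaA_pow)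
      obtain ⟨j, hj⟩ := exists_pow_eq_self_of_coprime (hcop.coprime_dvd_right hod)
      rw [hA, hy, pow_mul, ← hj]
      exact pow_mem (pow_mem h2 j) y
    refine ⟨Γ, inferInstance, inferInstance, σ, ⟨hsurj, hker.le.trans (zpowers_le.2 hAc), hcomm⟩, ⟨?_⟩⟩
    have hoA : orderOf A = δ := by
      rw [hA, orderOf_pow, hord, hm', Nat.gcd_eq_right (dvd_mul_right _ _), Nat.mul_div_cancel_left _ hm]
    haveI : IsCyclic σ.ker := by rw [hker]; infer_instance
    haveI : NeZero δ := ⟨hδ0⟩
    exact mulEquivOfCyclicCardEq (by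
      rw [hker, Nat.card_zpowers, hoA, Nat.card_congr Multiplicative.toAdd, Nat.card_zmod])
  · intro Δ _ _ σ hσ
    haveI : Finite G := meta_finite hm hn
    obtain ⟨α, hα⟩ := hσ.1 a
    obtain ⟨β, hβ⟩ := hσ.1 b
    have hz : ∀ {z : Δ}, σ z = 1 → ∀ g, g * z = z * g := fun h => mem_center_iff.1 (hσ.2.1 h)
    set A := α ^ m with hAdef
    have hA : σ A = 1 := by rw [hAdef, map_pow, hα]; exact metaA_pow
    set C := β * α * β⁻¹ * (α ^ r)⁻¹ with hCdef
    have hC : σ C = 1 := by
      rw [hCdef]; simp only [map_mul, map_inv, map_pow, hα, hβ]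
      exact mul_inv_eq_one.2 meta_conj
    set B := β ^ n * (α ^ (y * l))⁻¹ with hBdef
    have hB : σ B = 1 := by
      rw [hBdef]; simp only [map_mul, map_inv, map_pow, hα, hβ]
      exact mul_inv_eq_one.2 metaB_pow
    have hconj : β * α * β⁻¹ = C * α ^ r := by rw [hCdef, inv_mul_cancel_right]
    have hcp : ∀ j : ℕ, β * α ^ j * β⁻¹ = C ^ j * α ^ (r * j) := fun j => by
      rw [← conj_pow, hconj, (hz hC (α ^ r)).symm |> fun h => (Commute.mul_pow h j), ← pow_mul]
    set c := C * α ^ (r - 1) with hcdef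
    have hc : ⁅β, α⁆ = c := by
      rw [commutatorElement_def, hconj, hcdef, mul_assoc]
      congr 1
      rw [mul_inv_eq_iff_eq_mul, ← pow_succ, Nat.sub_add_cancel hr]
    have hCα : Commute C (α ^ (r - 1)) := (hz hC _).symm
    have hcα : Commute α c := by
      rw [hcdef]
      exact Commute.mul_right (hz hC α) ((Commute.refl α).pow_right _)
    have hcβ : β * c * β⁻¹ = c ^ r := by
      calc β * c * β⁻¹ = C * (β * α ^ (r - 1) * β⁻¹) := by
            rw [hcdef, ← mul_assoc, hz hC β, mul_assoc C, mul_assoc C]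
        _ = c ^ r := by
            rw [hcp, hcdef, hCα.mul_pow, ← pow_mul, ← mul_assoc, ← pow_succ', Nat.sub_add_cancel hr,
              mul_comm r (r - 1)]
    have htop : Subgroup.closure ({β, α} : Set Δ) = ⊤ := closure_eq_top_of_lifts hσ (by
      rw [Set.image_pair, hα, hβ]; exact meta_closure_eq_top)
    have hder : _root_.commutator Δ ≤ zpowers c := by
      have hle : Subgroup.closure ({β, α} : Set Δ) ≤ normalizer (zpowers c : Set Δ) := by
        refine (Subgroup.closure_le _).2 ?_
        rintro g (rfl | rfl) <;> refine mem_normalizer_fintype ?_ <;> rintro _ ⟨i, rfl⟩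
        · exact ⟨(r : ℤ) * i, by simp only [← conj_zpow, hcβ, zpow_mul, zpow_natCast]⟩
        · exact ⟨i, by
            simp only
            rw [((hcα).zpow_right i).eq, mul_inv_cancel_right]⟩
      rw [_root_.commutator_def, ← htop]
      exact commutator_closure_pair_le (fun g hg w hw => (mem_normalizer_iff.1 (hle hg) w).1 hw)
        (hc ▸ mem_zpowers c)
    set w := C ^ y * A ^ x with hwdef
    have hCA : ∀ i j : ℕ, Commute (C ^ i) (A ^ j) := fun i j => (show Commute C A from (hz hC A).symm).pow_pow i j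
    have hcy : c ^ y = w := by
      rw [hcdef, hCα.mul_pow, hwdef, hAdef, ← pow_mul, ← pow_mul, hy, hx]
      congr 2
      ring
    have hwk : σ w = 1 := by rw [hwdef, map_mul, map_pow, map_pow, hC, hA, one_pow, one_pow, one_mul]
    have hw : ∀ k, C ^ (y * k) * A ^ (x * k) = 1 → w ^ k = 1 := fun k h => by
      rw [hwdef, (hCA y x).mul_pow, ← pow_mul, ← pow_mul, h]
    have h1 : w ^ d = 1 := hw d (by
      have h := hcp m
      rw [← hAdef, hz hA β, mul_inv_cancel_right, pow_mul', ← hAdef,
        show r = (r - 1) + 1 by omega, pow_succ, ← mul_assoc] at h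
      rw [mul_comm y d, ← hy, mul_comm x d, ← hx]
      exact right_eq_mul.1 h)
    have h2 : w ^ l = 1 := hw l (by
      have h := hcp (y * l)
      have hcomm : β * α ^ (y * l) * β⁻¹ = α ^ (y * l) := by
        have e1 : α ^ (y * l) = B⁻¹ * β ^ n := by rw [hBdef]; group
        rw [e1, ← mul_assoc, hz (by rw [map_inv, hB, inv_one]) β, mul_assoc B⁻¹, mul_assoc B⁻¹,
          ((Commute.refl β).pow_right n).eq, mul_inv_cancel_right]
      rw [hcomm, show r * (y * l) = m * (x * l) + y * l by rw [hy, hr1]; ring, pow_add, pow_mul α m,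
        ← hAdef, ← mul_assoc] at h
      exact right_eq_mul.1 h)
    have h3 : w ^ M = 1 := hw M (by
      have hiter : ∀ i : ℕ, β ^ i * α * (β ^ i)⁻¹ = C ^ (∑ k ∈ Finset.range i, r ^ k) * α ^ (r ^ i) := by
        intro i
        induction i with
        | zero => simp
        | succ i ih =>
          rw [pow_succ', mul_inv_rev, show β * β ^ i * α * ((β ^ i)⁻¹ * β⁻¹) =
            β * (β ^ i * α * (β ^ i)⁻¹) * β⁻¹ by group, ih, Finset.sum_range_succ, pow_add,
            ← mul_assoc, hz (show σ (C ^ (∑ k ∈ Finset.range i, r ^ k)) = 1 by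
              rw [map_pow, hC, one_pow]) β, mul_assoc (C ^ _) β, mul_assoc (C ^ _) (β * _), hcp,
            ← mul_assoc, ← pow_succ']
      have h := hiter n
      have hn' : β ^ n * α * (β ^ n)⁻¹ = α := by
        have e1 : β ^ n = B * α ^ (y * l) := by rw [hBdef, inv_mul_cancel_right]
        rw [e1, mul_inv_rev, mul_assoc B, ((Commute.refl α).pow_left (y * l)).eq, ← hz hB (α * _),
          mul_assoc (α * α ^ (y * l)), ← mul_assoc B, ← hz hB, mul_assoc (α ^ (y * l))⁻¹, mul_inv_cancel,
          mul_one, mul_inv_cancel_right]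
      have hyM : y * M = N := Nat.eq_of_mul_eq_mul_left hd0 (by rw [← mul_assoc, ← hy, hM])
      have hrN : r ^ n = m * (x * M) + 1 := by
        have h1 := geom_mul r n hr
        rw [← hN, hx] at h1
        have : d * x * N = m * (x * M) := by rw [← hyM, hy]; ring
        have := Nat.one_le_pow n r hr
        omega
      rw [hn', hrN, pow_add, pow_mul α m, ← hAdef, pow_one, ← mul_assoc, ← hN] at h
      rw [hyM]
      exact right_eq_mul.1 h)
    have hwδ : w ^ δ = 1 := by
      rw [← orderOf_dvd_iff_pow_eq_one] at h1 h2 h3 ⊢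
      exact Nat.dvd_gcd h2 (Nat.dvd_gcd h1 h3)
    refine exists_surjection_zmod w (MonoidHom.mem_ker.2 hwk) hwδ fun z hz' => ?_
    obtain ⟨i, rfl⟩ := mem_zpowers_iff.1 (hder (hσ.2.2 hz'))
    have hord : orderOf a = m := by
      refine orderOf_metaA hm hn hrn ?_
      rw [hr1, hy, show (d * x + 1) * (y * l) = d * y * (x * l) + y * l by ring]
      exact (Nat.modEq_iff_dvd' (Nat.le_add_left _ _)).2
        (by rw [Nat.add_sub_cancel]; exact dvd_mul_right _ _) |>.symm
    have h4 : (a ^ (r - 1)) ^ i = 1 := by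
      have : σ c = a ^ (r - 1) := by rw [hcdef, map_mul, map_pow, hC, hα, one_mul]
      rw [← this, ← map_zpow]; exact hz'
    rw [← orderOf_dvd_iff_zpow_eq_one, orderOf_pow, hord, ← hd, hy,
      Nat.mul_div_cancel_left _ hd0] at h4
    obtain ⟨j, rfl⟩ := h4
    exact mem_zpowers_iff.2 ⟨j, by rw [zpow_mul, zpow_natCast, hcy]⟩

end CfsgLib.Schur
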