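import Mathlib
import Cfsg.Agent.Lib.PGroup.SchurUniversal

/-!
# The multiplier of a direct product
-/

set_option autoImplicit false
open Subgroup
open scoped commutatorElement TensorProduct

namespace CfsgLib.Schur

universe u v w x y

section Build

variable {Γ₁ : Type u} [Group Γ₁] {Γ₂ : Type v} [Group Γ₂] {T : Type w} [AddCommGroup T]
  (β : Γ₁ → Γ₂ → T)

/-- Triples for a product twisted by a pairing. -/
@[ext] structure Twist (Γ₁ : Type u) (Γ₂ : Type v) (T : Type w) where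
  /-- first component -/
  a : Γ₁
  /-- second component -/
  b : Γ₂
  /-- central component -/
  t : T

/-- Twisted product, tagged by the pairing. -/
def TwistG (_β : Γ₁ → Γ₂ → T) : Type (max u v w) := Twist Γ₁ Γ₂ T

variable {β}

theorem TwistG.ext {g h : TwistG β} (ha : g.a = h.a) (hb : g.b = h.b) (ht : g.t = h.t) : g = h :=
  Twist.ext ha hb ht

/-- The constructor. -/
def TwistG.mk (β : Γ₁ → Γ₂ → T) (a : Γ₁) (b : Γ₂) (t : T) : TwistG β := (⟨a, b, t⟩ : Twist Γ₁ Γ₂ T)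

/-- The group structure attached to a biadditive pairing. -/
@[implicit_reducible]
def TwistG.group (β : Γ₁ → Γ₂ → T) (h1 : ∀ a a' b, β (a * a') b = β a b + β a' b)
    (h2 : ∀ a b b', β a (b * b') = β a b + β a b') : Group (TwistG β) :=
  have e1 : ∀ b, β 1 b = 0 := fun b => by
    have := h1 1 1 b; rwa [one_mul, left_eq_add] at this
  have e2 : ∀ a b, β a⁻¹ b = -β a b := fun a b => by
    have := h1 a⁻¹ a b; rw [inv_mul_cancel, e1] at this; exact eq_neg_of_add_eq_zero_left this.symm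
  letI : Mul (TwistG β) := ⟨fun g h => TwistG.mk β (g.a * h.a) (g.b * h.b) (g.t + h.t + β g.a h.b)⟩
  letI : One (TwistG β) := ⟨TwistG.mk β 1 1 0⟩
  letI : Inv (TwistG β) := ⟨fun g => TwistG.mk β g.a⁻¹ g.b⁻¹ (-g.t + β g.a g.b)⟩
  Group.ofLeftAxioms
    (fun g h k => TwistG.ext (mul_assoc _ _ _) (mul_assoc _ _ _) (by
      change g.t + h.t + β g.a h.b + k.t + β (g.a * h.a) k.b =
        g.t + (h.t + k.t + β h.a k.b) + β g.a (h.b * k.b)
      rw [h1, h2]; abel))
    (fun g => TwistG.ext (one_mul _) (one_mul _) (by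
      change 0 + g.t + β 1 g.b = g.t
      rw [e1, add_zero, zero_add]))
    (fun g => TwistG.ext (inv_mul_cancel _) (inv_mul_cancel _) (by
      change -g.t + β g.a g.b + g.t + β g.a⁻¹ g.b = 0
      rw [e2]; abel))

end Build

section Product

variable {Q₁ : Type u} [Group Q₁] {Q₂ : Type v} [Group Q₂]

variable (Q₁ Q₂) in
/-- The mixed part of the multiplier of a product. -/
abbrev MixedPart : Type (max u v) :=
  TensorProduct ℤ (Additive (Abelianization Q₁)) (Additive (Abelianization Q₂))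

/-- The class of an element in the abelianization, additively. -/
def cls {Q : Type u} [Group Q] (q : Q) : Additive (Abelianization Q) := Additive.ofMul (Abelianization.of q)

theorem cls_mul {Q : Type u} [Group Q] (a b : Q) : cls (a * b) = cls a + cls b := by
  rw [cls, map_mul, ofMul_mul]; rfl

theorem cls_surjective {Q : Type u} [Group Q] : Function.Surjective (cls : Q → _) := fun a => by
  obtain ⟨q, hq⟩ := QuotientGroup.mk_surjective a.toMul
  exact ⟨q, congrArg Additive.ofMul hq⟩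

variable (Q₁ Q₂) in
theorem finite_mixedPart [Finite Q₁] [Finite Q₂] : Finite (MixedPart Q₁ Q₂) := by
  haveI : Finite (Abelianization Q₁) := Finite.of_surjective _ QuotientGroup.mk_surjective
  haveI : Finite (Abelianization Q₂) := Finite.of_surjective _ QuotientGroup.mk_surjective
  haveI : Module.Finite ℤ (Additive (Abelianization Q₁)) := Module.Finite.of_finite
  haveI : Module.Finite ℤ (Additive (Abelianization Q₂)) := Module.Finite.of_finite
  haveI : Module.Finite ℤ (MixedPart Q₁ Q₂) := Module.Finite.tensorProduct ℤ _ _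
  refine Module.finite_of_fg_torsion _ fun x => ?_
  refine ⟨⟨(Nat.card (Abelianization Q₁) : ℤ), mem_nonZeroDivisors_of_ne_zero
    (Int.natCast_ne_zero.2 Nat.card_pos.ne')⟩, ?_⟩
  change (Nat.card (Abelianization Q₁) : ℤ) • x = 0
  induction x using TensorProduct.induction_on with
  | zero => rw [smul_zero]
  | tmul a b =>
    rw [TensorProduct.smul_tmul', natCast_zsmul,
      show Nat.card (Abelianization Q₁) • a = 0 from
        congrArg Additive.ofMul (pow_card_eq_one' (x := a.toMul)), TensorProduct.zero_tmul]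
  | add a b ha hb => rw [smul_add, ha, hb, add_zero]

/-- Stem extensions of the factors give a stem extension of the product with the mixed part adjoined. -/
theorem exists_product_stem [Finite Q₁] [Finite Q₂] {Γ₁ : Type x} [Group Γ₁] [Finite Γ₁] {Γ₂ : Type y}
    [Group Γ₂] [Finite Γ₂] (σ₁ : Γ₁ →* Q₁) (σ₂ : Γ₂ →* Q₂) (h₁ : Cfsg.IsStemExtension σ₁)
    (h₂ : Cfsg.IsStemExtension σ₂) :
    ∃ (Γ : Type (max u v x y)) (_ : Group Γ) (_ : Finite Γ) (σ : Γ →* Q₁ × Q₂), Cfsg.IsStemExtension σ ∧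
      Nonempty (σ.ker ≃* σ₁.ker × σ₂.ker × Multiplicative (MixedPart Q₁ Q₂)) := by
  let β : Γ₁ → Γ₂ → MixedPart Q₁ Q₂ := fun a b => cls (σ₁ a) ⊗ₜ[ℤ] cls (σ₂ b)
  have hb1 : ∀ a a' b, β (a * a') b = β a b + β a' b := fun a a' b => by
    simp only [β, map_mul, cls_mul, TensorProduct.add_tmul]
  have hb2 : ∀ a b b', β a (b * b') = β a b + β a b' := fun a b b' => by
    simp only [β, map_mul, cls_mul, TensorProduct.tmul_add]
  letI : Group (TwistG β) := TwistG.group β hb1 hb2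
  have hcl1 : ∀ Q' : Type u, ∀ [Group Q'], cls (1 : Q') = 0 := fun Q' _ => by simp [cls]
  have hcl2 : ∀ Q' : Type v, ∀ [Group Q'], cls (1 : Q') = 0 := fun Q' _ => by simp [cls]
  haveI : Finite (TwistG β) := by
    haveI := finite_mixedPart Q₁ Q₂
    exact Finite.of_equiv (Γ₁ × Γ₂ × MixedPart Q₁ Q₂)
      { toFun := fun p => TwistG.mk β p.1 p.2.1 p.2.2
        invFun := fun g => (g.a, g.b, g.t)
        left_inv := fun _ => rfl
        right_inv := fun _ => rfl }
  let σ : TwistG β →* Q₁ × Q₂ :=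
    { toFun := fun g => (σ₁ g.a, σ₂ g.b)
      map_one' := Prod.ext (map_one σ₁) (map_one σ₂)
      map_mul' := fun g h => Prod.ext (map_mul σ₁ _ _) (map_mul σ₂ _ _) }
  have hmul : ∀ g h : TwistG β,
      g * h = TwistG.mk β (g.a * h.a) (g.b * h.b) (g.t + h.t + β g.a h.b) := fun _ _ => rfl
  have hβ1 : ∀ b, β 1 b = 0 := fun b => by simp only [β, map_one, hcl1, TensorProduct.zero_tmul]
  have hβ2 : ∀ a, β a 1 = 0 := fun a => by simp only [β, map_one, hcl2, TensorProduct.tmul_zero]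
  let i1 : Γ₁ →* TwistG β :=
    { toFun := fun a => TwistG.mk β a 1 0
      map_one' := rfl
      map_mul' := fun a a' => TwistG.ext rfl (one_mul _).symm (by
        change (0 : MixedPart Q₁ Q₂) = 0 + 0 + β a 1
        rw [hβ2, add_zero, add_zero]) }
  let i2 : Γ₂ →* TwistG β :=
    { toFun := fun b => TwistG.mk β 1 b 0
      map_one' := rfl
      map_mul' := fun b b' => TwistG.ext (one_mul _).symm rfl (by
        change (0 : MixedPart Q₁ Q₂) = 0 + 0 + β 1 b'
        rw [hβ1, add_zero, add_zero]) }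
  have hcm : ∀ a b, ⁅i1 a, i2 b⁆ = TwistG.mk β 1 1 (β a b) := by
    intro a b
    rw [commutatorElement_def, mul_inv_eq_iff_eq_mul, mul_inv_eq_iff_eq_mul, hmul, hmul, hmul]
    refine TwistG.ext ?_ ?_ ?_
    · change a * 1 = 1 * 1 * a
      simp
    · change 1 * b = 1 * b * 1
      simp
    · change (0 : MixedPart Q₁ Q₂) + 0 + β a b = β a b + 0 + β 1 b + 0 + β (1 * 1) 1
      simp [hβ1]
  have hC : ∀ t, TwistG.mk β 1 1 t ∈ _root_.commutator (TwistG β) := by
    intro t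
    induction t using TensorProduct.induction_on with
    | zero => exact one_mem _
    | tmul u v =>
      obtain ⟨q₁, rfl⟩ := cls_surjective u
      obtain ⟨q₂, rfl⟩ := cls_surjective v
      obtain ⟨a, rfl⟩ := h₁.1 q₁
      obtain ⟨b, rfl⟩ := h₂.1 q₂
      rw [show cls (σ₁ a) ⊗ₜ[ℤ] cls (σ₂ b) = β a b from rfl, ← hcm a b]
      exact commutator_mem_commutator (mem_top _) (mem_top _)
    | add t t' ht ht' =>
      have : TwistG.mk β 1 1 (t + t') = TwistG.mk β 1 1 t * TwistG.mk β 1 1 t' :=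
        TwistG.ext (one_mul _).symm (one_mul _).symm (by
          change t + t' = t + t' + β 1 1
          rw [hβ1, add_zero])
      rw [this]
      exact mul_mem ht ht'
  have hker : ∀ g : TwistG β, g ∈ σ.ker → σ₁ g.a = 1 ∧ σ₂ g.b = 1 := fun g hg =>
    Prod.ext_iff.1 (MonoidHom.mem_ker.1 hg)
  have hstem : Cfsg.IsStemExtension σ := by
    refine ⟨fun q => ?_, fun g hg => ?_, fun g hg => ?_⟩
    · obtain ⟨a, ha⟩ := h₁.1 q.1
      obtain ⟨b, hb⟩ := h₂.1 q.2
      exact ⟨TwistG.mk β a b 0, Prod.ext ha hb⟩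
    · obtain ⟨ha, hb⟩ := hker g hg
      refine mem_center_iff.2 fun h => TwistG.ext (mem_center_iff.1 (h₁.2.1 ha) _)
        (mem_center_iff.1 (h₂.2.1 hb) _) ?_
      change h.t + g.t + β h.a g.b = g.t + h.t + β g.a h.b
      simp only [β, ha, hb, hcl1, hcl2, TensorProduct.zero_tmul, TensorProduct.tmul_zero]
      abel
    · obtain ⟨ha, hb⟩ := hker g hg
      have e : g = i1 g.a * i2 g.b * TwistG.mk β 1 1 (g.t - β g.a g.b) := by
        rw [hmul, hmul]
        refine TwistG.ext ?_ ?_ ?_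
        · change g.a = g.a * 1 * 1
          simp
        · change g.b = 1 * g.b * 1
          simp
        · change g.t = 0 + 0 + β g.a g.b + (g.t - β g.a g.b) + β (g.a * 1) 1
          rw [hβ2]; abel
      rw [e]
      refine mul_mem (mul_mem ?_ ?_) (hC _)
      · have := mem_map_of_mem i1 (h₁.2.2 ha)
        rw [_root_.commutator_def, map_commutator] at this
        exact commutator_mono le_top le_top this
      · have := mem_map_of_mem i2 (h₂.2.2 hb)
        rw [_root_.commutator_def, map_commutator] at this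
        exact commutator_mono le_top le_top this
  refine ⟨TwistG β, inferInstance, inferInstance, σ, hstem, ⟨?_⟩⟩
  exact
    { toFun := fun g => (⟨g.1.a, (hker g.1 g.2).1⟩, ⟨g.1.b, (hker g.1 g.2).2⟩, Multiplicative.ofAdd g.1.t)
      invFun := fun p => ⟨TwistG.mk β p.1.1 p.2.1.1 p.2.2.toAdd, Prod.ext p.1.2 p.2.1.2⟩
      left_inv := fun _ => rfl
      right_inv := fun _ => rfl
      map_mul' := fun g h => Prod.ext (Subtype.ext rfl) (Prod.ext (Subtype.ext rfl) (by
        change Multiplicative.ofAdd (g.1.t + h.1.t + β g.1.a h.1.b) = Multiplicative.ofAdd (g.1.t + h.1.t)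
        simp only [β, (hker g.1 g.2).1, hcl1, TensorProduct.zero_tmul, add_zero])) }

/-- The kernel of a finite stem extension of a product is an image of the three parts. -/
theorem exists_product_surjection [Finite Q₁] [Finite Q₂] {Δ : Type x} [Group Δ] (τ : Δ →* Q₁ × Q₂)
    (hτ : Cfsg.IsStemExtension τ) :
    ∃ π : mult Q₁ × mult Q₂ × Multiplicative (MixedPart Q₁ Q₂) →* τ.ker, Function.Surjective π := by
  haveI : IsMulCommutative τ.ker :=
    ⟨⟨fun a b => Subtype.ext (mem_center_iff.1 (hτ.2.1 b.2) a)⟩⟩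
  letI : CommGroup τ.ker := { (inferInstance : Group τ.ker) with mul_comm := fun a b => mul_comm' a b }
  let D₁ : Subgroup Δ := ((MonoidHom.snd Q₁ Q₂).comp τ).ker
  let D₂ : Subgroup Δ := ((MonoidHom.fst Q₁ Q₂).comp τ).ker
  let τ₁ : D₁ →* Q₁ := ((MonoidHom.fst Q₁ Q₂).comp τ).comp D₁.subtype
  let τ₂ : D₂ →* Q₂ := ((MonoidHom.snd Q₁ Q₂).comp τ).comp D₂.subtype
  have s₁ : Function.Surjective τ₁ := fun q => by
    obtain ⟨d, hd⟩ := hτ.1 (q, 1)
    exact ⟨⟨d, congrArg Prod.snd hd⟩, congrArg Prod.fst hd⟩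
  have s₂ : Function.Surjective τ₂ := fun q => by
    obtain ⟨d, hd⟩ := hτ.1 (1, q)
    exact ⟨⟨d, congrArg Prod.fst hd⟩, congrArg Prod.snd hd⟩
  have hk₁ : ∀ d : D₁, d ∈ τ₁.ker → (d : Δ) ∈ τ.ker := fun d hd => Prod.ext hd d.2
  have hk₂ : ∀ d : D₂, d ∈ τ₂.ker → (d : Δ) ∈ τ.ker := fun d hd => Prod.ext d.2 hd
  have c₁ : τ₁.ker ≤ center D₁ := fun d hd =>
    mem_center_iff.2 fun y => Subtype.ext (mem_center_iff.1 (hτ.2.1 (hk₁ d hd)) y.1)
  have c₂ : τ₂.ker ≤ center D₂ := fun d hd =>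
    mem_center_iff.2 fun y => Subtype.ext (mem_center_iff.1 (hτ.2.1 (hk₂ d hd)) y.1)
  obtain ⟨p₁, hp₁⟩ := exists_surjection_inf Q₁ s₁ c₁
  obtain ⟨p₂, hp₂⟩ := exists_surjection_inf Q₂ s₂ c₂
  let e₁ : (τ₁.ker ⊓ _root_.commutator D₁ : Subgroup D₁) →* τ.ker :=
    (D₁.subtype.comp (Subgroup.subtype _)).codRestrict τ.ker fun d => hk₁ d.1 d.2.1
  let e₂ : (τ₂.ker ⊓ _root_.commutator D₂ : Subgroup D₂) →* τ.ker :=
    (D₂.subtype.comp (Subgroup.subtype _)).codRestrict τ.ker fun d => hk₂ d.1 d.2.1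
  -- the pairing
  have hbr : ∀ (a : D₁) (b : D₂), ⁅(a : Δ), (b : Δ)⁆ ∈ τ.ker := fun a b => by
    rw [MonoidHom.mem_ker, map_commutatorElement, commutatorElement_eq_one_iff_mul_comm]
    have ha : (τ a).2 = 1 := a.2
    have hb : (τ b).1 = 1 := b.2
    exact Prod.ext (by rw [Prod.fst_mul, Prod.fst_mul, hb, mul_one, one_mul])
      (by rw [Prod.snd_mul, Prod.snd_mul, ha, one_mul, mul_one])
  have hcz : ∀ (a : D₁) (b : D₂) (w : Δ), w * ⁅(a : Δ), (b : Δ)⁆ = ⁅(a : Δ), (b : Δ)⁆ * w :=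
    fun a b => mem_center_iff.1 (hτ.2.1 (hbr a b))
  let bl : D₁ → D₂ → τ.ker := fun a b => ⟨_, hbr a b⟩
  have bl1 : ∀ a a' b, bl (a * a') b = bl a b * bl a' b := fun a a' b => Subtype.ext (by
    change ⁅(a : Δ) * a', (b : Δ)⁆ = ⁅(a : Δ), (b : Δ)⁆ * ⁅(a' : Δ), (b : Δ)⁆
    calc ⁅(a : Δ) * a', (b : Δ)⁆ = a * ⁅(a' : Δ), (b : Δ)⁆ * (a : Δ)⁻¹ * ⁅(a : Δ), (b : Δ)⁆ := by
          simp only [commutatorElement_def]; group
      _ = _ := by rw [hcz a' b, mul_inv_cancel_right, ← hcz a b])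
  have bl2 : ∀ a b b', bl a (b * b') = bl a b * bl a b' := fun a b b' => Subtype.ext (by
    change ⁅(a : Δ), (b : Δ) * b'⁆ = ⁅(a : Δ), (b : Δ)⁆ * ⁅(a : Δ), (b' : Δ)⁆
    calc ⁅(a : Δ), (b : Δ) * b'⁆ = ⁅(a : Δ), (b : Δ)⁆ * (b * ⁅(a : Δ), (b' : Δ)⁆ * (b : Δ)⁻¹) := by
          simp only [commutatorElement_def]; group
      _ = _ := by rw [hcz a b', mul_inv_cancel_right])
  -- descend to the quotients and their abelianizations
  have hleft : ∀ b, ∀ a ∈ τ₁.ker, bl a b = 1 := fun b a ha => Subtype.ext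
    (commutatorElement_eq_one_iff_mul_comm.2 (mem_center_iff.1 (hτ.2.1 (hk₁ a ha)) b).symm)
  let F : D₂ → (Abelianization Q₁ →* τ.ker) := fun b =>
    Abelianization.lift (τ₁.liftOfSurjective s₁ ⟨MonoidHom.mk' (fun a => bl a b) (fun a a' => bl1 a a' b),
      fun a ha => hleft b a ha⟩)
  have hF : ∀ a b, F b (Abelianization.of (τ₁ a)) = bl a b := fun a b =>
    (Abelianization.lift_apply_of _ _).trans (MonoidHom.liftOfRightInverse_comp_apply _ _ _ _ a)
  have hext : ∀ f f' : Abelianization Q₁ →* τ.ker,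
      (∀ a, f (Abelianization.of (τ₁ a)) = f' (Abelianization.of (τ₁ a))) → f = f' := fun f f' h =>
    MonoidHom.ext fun q => by
      obtain ⟨q, rfl⟩ := QuotientGroup.mk_surjective q
      obtain ⟨a, rfl⟩ := s₁ q
      exact h a
  let F2 : D₂ →* (Abelianization Q₁ →* τ.ker) := MonoidHom.mk' F fun b b' => hext _ _ fun a => by
    rw [MonoidHom.mul_apply, hF, hF, hF, bl2]
  have hF2 : τ₂.ker ≤ F2.ker := fun b hb => hext _ _ fun a => by
    change F b _ = 1
    rw [hF]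
    exact Subtype.ext (commutatorElement_eq_one_iff_mul_comm.2 (mem_center_iff.1 (hτ.2.1 (hk₂ b hb)) a))
  let F3 : Abelianization Q₂ →* (Abelianization Q₁ →* τ.ker) :=
    Abelianization.lift (τ₂.liftOfSurjective s₂ ⟨F2, hF2⟩)
  have hF3 : ∀ a b, F3 (Abelianization.of (τ₂ b)) (Abelianization.of (τ₁ a)) = bl a b := fun a b => by
    rw [← hF]
    exact DFunLike.congr_fun ((Abelianization.lift_apply_of _ _).trans
      (MonoidHom.liftOfRightInverse_comp_apply _ _ _ _ b)) _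
  let B : Additive (Abelianization Q₁) →+ Additive (Abelianization Q₂) →+ Additive τ.ker :=
    AddMonoidHom.mk' (fun u => AddMonoidHom.mk' (fun v => Additive.ofMul (F3 v.toMul u.toMul))
      fun v v' => by rw [toMul_add, map_mul, MonoidHom.mul_apply, ofMul_mul])
      fun u u' => AddMonoidHom.ext fun v => by
        change Additive.ofMul (F3 v.toMul (u + u').toMul) = _
        rw [toMul_add, map_mul, ofMul_mul]; rfl
  let BT : MixedPart Q₁ Q₂ →+ Additive τ.ker := TensorProduct.liftAddHom B fun r u v => by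
    rw [map_zsmul, AddMonoidHom.map_zsmul, AddMonoidHom.smul_apply]
  let eT : Multiplicative (MixedPart Q₁ Q₂) →* τ.ker :=
    MonoidHom.mk' (fun t => (BT t.toAdd).toMul) fun t t' => by rw [toAdd_mul, map_add, toMul_add]
  refine ⟨(e₁.comp p₁).coprod ((e₂.comp p₂).coprod eT), fun z => ?_⟩
  -- every kernel element is a product of the three parts
  let C₁ : Subgroup Δ := (_root_.commutator D₁).map D₁.subtype
  let C₂ : Subgroup Δ := (_root_.commutator D₂).map D₂.subtype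
  let C₃ : Subgroup Δ := (eT.range).map τ.ker.subtype
  have hC₃c : C₃ ≤ center Δ := (map_subtype_le _).trans hτ.2.1
  haveI : D₁.Normal := MonoidHom.normal_ker _
  haveI : D₂.Normal := MonoidHom.normal_ker _
  have hsup : D₁ ⊔ D₂ = ⊤ := by
    rw [eq_top_iff]
    intro d _
    obtain ⟨d₁, hd₁⟩ := hτ.1 ((τ d).1, 1)
    have h2 : d₁⁻¹ * d ∈ D₂ := by
      change (τ (d₁⁻¹ * d)).1 = 1
      rw [map_mul, map_inv, hd₁]; simp
    have := mul_mem_sup (show d₁ ∈ D₁ from congrArg Prod.snd hd₁) h2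
    rwa [mul_inv_cancel_left] at this
  have hC₁ : C₁ = ⁅D₁, D₁⁆ := by
    change (_root_.commutator D₁).map D₁.subtype = _
    rw [map_subtype_commutator]
  have hC₂ : C₂ = ⁅D₂, D₂⁆ := by
    change (_root_.commutator D₂).map D₂.subtype = _
    rw [map_subtype_commutator]
  haveI : C₁.Normal := by rw [hC₁]; infer_instance
  haveI : C₂.Normal := by rw [hC₂]; infer_instance
  haveI : C₃.Normal := ⟨fun n hn g => by rwa [mem_center_iff.1 (hC₃c hn) g, mul_inv_cancel_right]⟩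
  have h12 : ⁅D₁, D₂⁆ ≤ C₃ := commutator_le.2 fun a ha b hb =>
    ⟨bl ⟨a, ha⟩ ⟨b, hb⟩, ⟨Multiplicative.ofAdd (cls (τ₁ ⟨a, ha⟩) ⊗ₜ[ℤ] cls (τ₂ ⟨b, hb⟩)), by
      change (BT (cls (τ₁ ⟨a, ha⟩) ⊗ₜ[ℤ] cls (τ₂ ⟨b, hb⟩))).toMul = _
      rw [TensorProduct.liftAddHom_tmul]
      exact hF3 _ _⟩, rfl⟩
  have hall : _root_.commutator Δ ≤ C₁ ⊔ C₂ ⊔ C₃ := by
    have h21 : ⁅D₂, D₁⁆ ≤ C₃ := by rw [commutator_comm]; exact h12
    have hgen : ∀ s ∈ (D₁ : Set Δ) ∪ D₂, ∀ t ∈ (D₁ : Set Δ) ∪ D₂, ⁅s, t⁆ ∈ C₁ ⊔ C₂ ⊔ C₃ := by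
      rintro s (hs | hs) t (ht | ht)
      · exact mem_sup_left (mem_sup_left (hC₁ ▸ commutator_mem_commutator hs ht))
      · exact mem_sup_right (h12 (commutator_mem_commutator hs ht))
      · exact mem_sup_right (h21 (commutator_mem_commutator hs ht))
      · exact mem_sup_left (mem_sup_right (hC₂ ▸ commutator_mem_commutator hs ht))
    rw [_root_.commutator_def, ← hsup, commutator_le]
    set N := C₁ ⊔ C₂ ⊔ C₃
    -- the generators commute modulo `N`
    intro a ha b hb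
    rw [← QuotientGroup.eq_one_iff]
    change QuotientGroup.mk' N ⁅a, b⁆ = 1
    rw [map_commutatorElement, commutatorElement_eq_one_iff_mul_comm]
    have hc : IsMulCommutative (Subgroup.closure (QuotientGroup.mk' N '' ((D₁ : Set Δ) ∪ D₂))) :=
      Subgroup.isMulCommutative_closure (by
        rintro _ ⟨s, hs, rfl⟩ _ ⟨t, ht, rfl⟩
        rw [← commutatorElement_eq_one_iff_mul_comm, ← map_commutatorElement]
        exact (QuotientGroup.eq_one_iff _).2 (hgen s hs t ht))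
    have hmem : ∀ w ∈ D₁ ⊔ D₂,
        QuotientGroup.mk' N w ∈ Subgroup.closure (QuotientGroup.mk' N '' ((D₁ : Set Δ) ∪ D₂)) := by
      intro w hw
      rw [← MonoidHom.map_closure, Subgroup.closure_union, Subgroup.closure_eq, Subgroup.closure_eq]
      exact mem_map_of_mem _ hw
    exact congrArg Subtype.val (hc.is_comm.comm ⟨_, hmem a ha⟩ ⟨_, hmem b hb⟩)
  have hz := hall (hτ.2.2 z.2)
  rw [← SetLike.mem_coe, Subgroup.mul_normal, Subgroup.mul_normal] at hz
  obtain ⟨_, ⟨c₁', hc₁', c₂', hc₂', rfl⟩, c₃, hc₃, hzeq⟩ := hz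
  change c₁' * c₂' * c₃ = (z : Δ) at hzeq
  obtain ⟨c₁, hc₁, rfl⟩ := hc₁'
  obtain ⟨c₂, hc₂, rfl⟩ := hc₂'
  obtain ⟨_, ⟨t, rfl⟩, rfl⟩ := hc₃
  have h3 : τ (eT t : Δ) = 1 := (eT t).2
  have hz0 : τ (c₁ : Δ) * τ (c₂ : Δ) = 1 := by
    have := congrArg τ hzeq
    rw [map_mul, map_mul, show τ (z : Δ) = 1 from z.2] at this
    rwa [show τ (τ.ker.subtype (eT t)) = 1 from h3, mul_one] at this
  have g1 : τ₁ c₁ = 1 := by
    have h := congrArg Prod.fst hz0
    rw [Prod.fst_mul, show (τ (c₂ : Δ)).1 = 1 from c₂.2, mul_one] at h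
    exact h
  have g2 : τ₂ c₂ = 1 := by
    have h := congrArg Prod.snd hz0
    rw [Prod.snd_mul, show (τ (c₁ : Δ)).2 = 1 from c₁.2, one_mul] at h
    exact h
  obtain ⟨m₁, hm₁⟩ := hp₁ ⟨c₁, MonoidHom.mem_ker.2 g1, hc₁⟩
  obtain ⟨m₂, hm₂⟩ := hp₂ ⟨c₂, MonoidHom.mem_ker.2 g2, hc₂⟩
  refine ⟨(m₁, m₂, t), ?_⟩
  rw [MonoidHom.coprod_apply, MonoidHom.coprod_apply, MonoidHom.comp_apply, MonoidHom.comp_apply, hm₁,
    hm₂]
  refine Subtype.ext (Eq.trans ?_ hzeq)
  exact (mul_assoc _ _ _).symm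

theorem subsingleton_mixedPart
    (hcop : Nat.Coprime (Nat.card (Abelianization Q₁)) (Nat.card (Abelianization Q₂))) :
    Subsingleton (MixedPart Q₁ Q₂) := by
  refine subsingleton_of_forall_eq 0 fun x => ?_
  induction x using TensorProduct.induction_on with
  | zero => rfl
  | tmul a b =>
    have h1 : (Nat.card (Abelianization Q₁) : ℤ) • (a ⊗ₜ[ℤ] b) = 0 := by
      rw [TensorProduct.smul_tmul', natCast_zsmul,
        show Nat.card (Abelianization Q₁) • a = 0 from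
          congrArg Additive.ofMul (pow_card_eq_one' (x := a.toMul)), TensorProduct.zero_tmul]
    have h2 : (Nat.card (Abelianization Q₂) : ℤ) • (a ⊗ₜ[ℤ] b) = 0 := by
      rw [← TensorProduct.tmul_smul, natCast_zsmul,
        show Nat.card (Abelianization Q₂) • b = 0 from
          congrArg Additive.ofMul (pow_card_eq_one' (x := b.toMul)), TensorProduct.tmul_zero]
    obtain ⟨r, s, hrs⟩ := Nat.isCoprime_iff_coprime.2 hcop
    rw [← one_zsmul (a ⊗ₜ[ℤ] b), ← hrs, add_zsmul, mul_zsmul, mul_zsmul, h1, h2, smul_zero, smul_zero,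
      add_zero]
  | add a b ha hb => rw [ha, hb, add_zero]

/-- The multiplier of a direct product. -/
theorem hasSchurMultiplier_prod [Finite Q₁] [Finite Q₂] {A B : Type w} [CommGroup A] [CommGroup B]
    (hA : Cfsg.HasSchurMultiplier Q₁ A) (hB : Cfsg.HasSchurMultiplier Q₂ B) :
    Cfsg.HasSchurMultiplier (Q₁ × Q₂) (A × B × Multiplicative (MixedPart Q₁ Q₂)) := by
  obtain ⟨e₁⟩ := nonempty_equiv_of_hasSchurMultiplier hA
  obtain ⟨e₂⟩ := nonempty_equiv_of_hasSchurMultiplier hB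
  obtain ⟨⟨Γ₁, _, _, σ₁, h₁, ⟨f₁⟩⟩, -⟩ := hA
  obtain ⟨⟨Γ₂, _, _, σ₂, h₂, ⟨f₂⟩⟩, -⟩ := hB
  obtain ⟨Γ, i, j, σ, hσ, ⟨f⟩⟩ := exists_product_stem σ₁ σ₂ h₁ h₂
  refine ⟨⟨Γ, i, j, σ, hσ, ⟨f.trans (f₁.prodCongr (f₂.prodCongr (MulEquiv.refl _)))⟩⟩,
    fun Δ _ _ τ hτ => ?_⟩
  obtain ⟨π, hπ⟩ := exists_product_surjection τ hτ
  exact ⟨π.comp (e₁.prodCongr (e₂.prodCongr (MulEquiv.refl _))).toMonoidHom,
    hπ.comp (MulEquiv.surjective _)⟩

end Product

end CfsgLib.Schur
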