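import Mathlib
import Cfsg.Agent.Lib.PGroup.SchurUniversal

/-!
# The rank of the multiplier of a finitely presented finite group
-/

set_option autoImplicit false
open Subgroup
open scoped commutatorElement

namespace CfsgLib.Schur

universe u

/-- The multiplier of a finite group presented with `n` generators and `r` relators needs at most
`r - n` generators. -/
theorem exists_generators_le_relators (n : ℕ) (rels : Finset (FreeGroup (Fin n)))
    [Finite (PresentedGroup (rels : Set (FreeGroup (Fin n))))] :
    ∃ S : Finset (mult (PresentedGroup (rels : Set (FreeGroup (Fin n))))),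
      S.card ≤ rels.card - n ∧
        Subgroup.closure (S : Set (mult (PresentedGroup (rels : Set (FreeGroup (Fin n)))))) = ⊤ := by
  classical
  let α := Fin n
  let G := PresentedGroup (rels : Set (FreeGroup α))
  let R : Subgroup (FreeGroup α) := Subgroup.normalClosure (rels : Set (FreeGroup α))
  let C : Subgroup (FreeGroup α) := ⁅R, ⊤⁆
  haveI : C.Normal := commutator_normal _ _
  have hCR : C ≤ R := commutator_le_left _ _
  let W := FreeGroup α ⧸ C
  let π : W →* G := QuotientGroup.lift C (PresentedGroup.mk _) fun x hx =>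
    (QuotientGroup.eq_one_iff x).2 (hCR hx)
  have hπs : Function.Surjective π := fun g => by
    obtain ⟨x, rfl⟩ := PresentedGroup.mk_surjective _ g
    exact ⟨(x : W), rfl⟩
  have hπk : ∀ x : FreeGroup α, π (x : W) = 1 ↔ x ∈ R := fun x => QuotientGroup.eq_one_iff x
  have hπc : π.ker ≤ center W := by
    intro e he
    obtain ⟨x, rfl⟩ := QuotientGroup.mk'_surjective C e
    refine mem_center_iff.2 fun d => ?_
    obtain ⟨y, rfl⟩ := QuotientGroup.mk'_surjective C d
    rw [eq_comm, ← commutatorElement_eq_one_iff_mul_comm, ← map_commutatorElement]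
    exact (QuotientGroup.eq_one_iff _).2 (commutator_mem_commutator ((hπk x).1 he) (mem_top _))
  -- the multiplier sits inside `W`
  obtain ⟨η, hη⟩ := exists_lift G π hπs hπc (MonoidHom.id G)
  choose s hs using proj_surjective G
  let θ0 : FreeGroup α →* E G := FreeGroup.lift fun i => s (PresentedGroup.of i)
  have hθ0 : ∀ x, proj G (θ0 x) = PresentedGroup.mk _ x := fun x => DFunLike.congr_fun
    (FreeGroup.ext_hom ((proj G).comp θ0) (PresentedGroup.mk (rels : Set (FreeGroup α))) fun i => by
      simp only [θ0, MonoidHom.comp_apply, FreeGroup.lift_apply_of, hs]; rfl) x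
  have hC0 : C ≤ θ0.ker := by
    rw [commutator_le]
    intro a ha y _
    rw [MonoidHom.mem_ker, map_commutatorElement, commutatorElement_eq_one_iff_mul_comm]
    refine (mem_center_iff.1 (ker_le_center G ?_) (θ0 y)).symm
    rw [MonoidHom.mem_ker, hθ0]
    exact (QuotientGroup.eq_one_iff a).2 ha
  let θ : W →* E G := QuotientGroup.lift C θ0 hC0
  have hθ : ∀ w, proj G (θ w) = π w := fun w => by
    obtain ⟨x, rfl⟩ := QuotientGroup.mk'_surjective C w
    exact hθ0 x
  have hθη : ∀ z ∈ mult G, θ (η z) = z := fun z hz =>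
    eq_on_commutator (ker_le_center G) (θ.comp η) (MonoidHom.id (E G))
      (fun e => by rw [MonoidHom.comp_apply, hθ, hη]; rfl) hz.2
  have hmap := map_mult G hπc η hη
  -- the kernel as a quotient of the free module on the relators
  letI : CommGroup π.ker :=
    { (inferInstance : Group π.ker) with
      mul_comm := fun a b => Subtype.ext (mem_center_iff.1 (hπc b.2) a.1) }
  let gr : rels → Additive π.ker := fun r =>
    Additive.ofMul ⟨((r : FreeGroup α) : W), (hπk _).2 (subset_normalClosure r.2)⟩
  let L : (rels → ℤ) →ₗ[ℤ] Additive π.ker := Fintype.linearCombination ℤ gr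
  have hLsurj : Function.Surjective L := by
    intro e
    let T : Subgroup W := ((L.range.toAddSubgroup).toSubgroup').map π.ker.subtype
    haveI : T.Normal := ⟨fun t ht g => by
      rwa [mem_center_iff.1 (hπc (map_subtype_le _ ht)) g, mul_inv_cancel_right]⟩
    have hR : R ≤ T.comap (QuotientGroup.mk' C) := normalClosure_le_normal fun r hr => by
      refine ⟨Additive.toMul (gr ⟨r, hr⟩), ⟨Pi.single ⟨r, hr⟩ 1, ?_⟩, rfl⟩
      simp [L, Fintype.linearCombination_apply_single]
      rfl
    obtain ⟨x, hx⟩ := QuotientGroup.mk'_surjective C e.toMul.1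
    obtain ⟨k, hk, hkx⟩ := hR ((hπk x).1 (show π (x : W) = 1 by rw [show (x : W) = e.toMul.1 from hx]; exact e.toMul.2))
    obtain ⟨c, hc⟩ := hk
    refine ⟨c, hc.trans (congrArg Additive.ofMul (?_ : k = e.toMul))⟩
    exact Subtype.ext (hkx.trans hx)
  -- exponent sums
  have hNab : C ≤ (Abelianization.of : FreeGroup α →* Abelianization (FreeGroup α)).ker := by
    rw [Abelianization.ker_of, _root_.commutator_def]
    exact commutator_mono le_top le_rfl
  let ab : W →* Abelianization (FreeGroup α) := QuotientGroup.lift C Abelianization.of hNab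
  let q : Additive π.ker →ₗ[ℤ] (α →₀ ℤ) := ((FreeAbelianGroup.equivFinsupp α).toAddMonoidHom.comp
    (MonoidHom.toAdditive (ab.comp π.ker.subtype))).toIntLinearMap
  have hqker : ∀ k : π.ker, q (Additive.ofMul k) = 0 ↔ (k : W) ∈ _root_.commutator W := by
    intro k
    obtain ⟨x, hx⟩ := QuotientGroup.mk'_surjective C (k : W)
    have hm : (_root_.commutator (FreeGroup α)).map (QuotientGroup.mk' C) = _root_.commutator W := by
      rw [_root_.commutator_def, map_commutator, ← MonoidHom.range_eq_map,
        MonoidHom.range_eq_top.2 (QuotientGroup.mk'_surjective _), ← _root_.commutator_def]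
    change (FreeAbelianGroup.equivFinsupp α) (Additive.ofMul (ab k)) = 0 ↔ _
    refine (AddEquiv.map_eq_zero_iff _).trans ?_
    rw [← hx, ← hm]
    change Abelianization.of x = 1 ↔ _
    rw [← MonoidHom.mem_ker, Abelianization.ker_of]
    refine ⟨fun h => mem_map_of_mem _ h, ?_⟩
    rintro ⟨y, hy, hxy⟩
    have h1 : y⁻¹ * x ∈ C := QuotientGroup.eq.1 hxy
    have h2 : y⁻¹ * x ∈ _root_.commutator (FreeGroup α) := by
      rw [← Abelianization.ker_of]; exact hNab h1
    simpa using mul_mem hy h2
  -- the image has full rank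
  let f : (rels → ℤ) →ₗ[ℤ] (α →₀ ℤ) := q ∘ₗ L
  set N := Nat.card G with hN
  have hN0 : (N : ℤ) ≠ 0 := Int.natCast_ne_zero.2 Nat.card_pos.ne'
  have hsc : ∀ v : α →₀ ℤ, (N : ℤ) • v ∈ LinearMap.range f := by
    intro v
    induction v using Finsupp.induction_linear with
    | zero => rw [smul_zero]; exact zero_mem _
    | add a b ha hb => rw [smul_add]; exact add_mem ha hb
    | single i a =>
      have hgi : (FreeGroup.of i : FreeGroup α) ^ N ∈ R := by
        rw [← QuotientGroup.eq_one_iff, QuotientGroup.mk_pow]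
        exact pow_card_eq_one'
      let k : π.ker := ⟨((FreeGroup.of i ^ N : FreeGroup α) : W), (hπk _).2 hgi⟩
      obtain ⟨c, hc⟩ := hLsurj (Additive.ofMul k)
      refine ⟨a • c, ?_⟩
      rw [map_smul, show f c = q (L c) from rfl, hc]
      change a • (FreeAbelianGroup.equivFinsupp α) (Additive.ofMul (Abelianization.of (FreeGroup.of i ^ N))) = _
      have e1 : (Additive.ofMul (Abelianization.of (FreeGroup.of i ^ N)) : FreeAbelianGroup α) =
          N • FreeAbelianGroup.of i := by
        rw [map_pow]; exact ofMul_pow _ _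
      refine (congrArg (fun t : FreeAbelianGroup α => a • (FreeAbelianGroup.equivFinsupp α) t) e1).trans ?_

      rw [map_nsmul, show (FreeAbelianGroup.equivFinsupp α) (FreeAbelianGroup.of i) = Finsupp.single i 1 from
        FreeAbelianGroup.toFinsupp_of i]
      rw [← natCast_zsmul, smul_comm, Finsupp.smul_single, smul_eq_mul, mul_one, Finsupp.smul_single]
  have hrank : n ≤ Module.finrank ℤ (LinearMap.range f) := by
    let sc : (α →₀ ℤ) →ₗ[ℤ] LinearMap.range f :=
      (((N : ℤ) • LinearMap.id : (α →₀ ℤ) →ₗ[ℤ] (α →₀ ℤ))).codRestrict _ hsc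
    have hinj : Function.Injective sc := fun a b hab =>
      smul_right_injective (α →₀ ℤ) hN0 (congrArg Subtype.val hab)
    have h := LinearMap.finrank_le_finrank_of_injective hinj
    rwa [Module.finrank_finsupp_self, Fintype.card_fin] at h
  have hsum : Module.finrank ℤ (LinearMap.range f) + Module.finrank ℤ (LinearMap.ker f) = rels.card := by
    rw [← f.quotKerEquivRange.finrank_eq, Submodule.finrank_quotient_add_finrank,
      Module.finrank_fintype_fun_eq_card, Fintype.card_coe]
  obtain ⟨d, b⟩ := Submodule.basisOfPid (Pi.basisFun ℤ rels) (LinearMap.ker f)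
  have hd : d ≤ rels.card - n := by
    have : Module.finrank ℤ (LinearMap.ker f) = d := by
      rw [Module.finrank_eq_card_basis b, Fintype.card_fin]
    omega
  -- the images generate
  have hin : ∀ c : LinearMap.ker f, θ ((L (c : rels → ℤ)).toMul : W) ∈ mult G := by
    intro c
    set k : π.ker := (L (c : rels → ℤ)).toMul
    have hkC : (k : W) ∈ _root_.commutator W := (hqker k).1 c.2
    have hk : (k : W) ∈ (mult G).map η := by
      rw [hmap]; exact Subgroup.mem_inf.2 ⟨k.2, hkC⟩
    obtain ⟨z, hz, hzk⟩ := hk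
    rw [← hzk, hθη z hz]
    exact hz
  let Φ : LinearMap.ker f →+ Additive (mult G) :=
    AddMonoidHom.mk' (fun c => Additive.ofMul ⟨_, hin c⟩) fun c c' => congrArg Additive.ofMul (Subtype.ext (by
      change θ ((L ((c : rels → ℤ) + c')).toMul : W) = θ ((L (c : rels → ℤ)).toMul : W) *
        θ ((L (c' : rels → ℤ)).toMul : W)
      rw [map_add, toMul_add, Subgroup.coe_mul, map_mul]))
  have hΦ : Function.Surjective Φ := by
    intro z
    have hz : η z.toMul.1 ∈ π.ker ⊓ _root_.commutator W := hmap ▸ mem_map_of_mem η z.toMul.2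
    obtain ⟨c, hc⟩ := hLsurj (Additive.ofMul ⟨_, hz.1⟩)
    have hcf : c ∈ LinearMap.ker f := by
      rw [LinearMap.mem_ker]
      change q (L c) = 0
      rw [hc, hqker]
      exact hz.2
    refine ⟨⟨c, hcf⟩, congrArg Additive.ofMul (Subtype.ext ?_)⟩
    change θ ((L c).toMul : W) = z.toMul.1
    rw [hc]
    exact hθη _ z.toMul.2
  let S : Finset (mult G) := Finset.univ.image fun i : Fin d => (Φ (b i)).toMul
  refine ⟨S, Finset.card_image_le.trans (by simpa using hd), ?_⟩
  rw [eq_top_iff]
  intro z _
  obtain ⟨c, hc⟩ := hΦ (Additive.ofMul z)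
  rw [← b.sum_repr c, map_sum] at hc
  rw [show z = (∑ i, Φ (b.repr c i • b i)).toMul by rw [hc]; rfl, toMul_sum]
  refine Subgroup.prod_mem _ fun i _ => ?_
  rw [map_zsmul, toMul_zsmul]
  exact zpow_mem (Subgroup.subset_closure (Finset.mem_image_of_mem _ (Finset.mem_univ i))) _

end CfsgLib.Schur
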