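import Cfsg.Prelude.Def_CaseTheorems
import Cfsg.Agent.Lib.Coprime.PGroupFrattini
import Cfsg.Agent.Lib.Coprime.Solvable
import Cfsg.Agent.Lib.PGroup.MetacyclicRecog

/-!
# Commuting pairs of subgroups in 2-groups of sectional rank at most 4
-/

set_option autoImplicit false
set_option linter.unusedSectionVars false

open Subgroup
open scoped commutatorElement Pointwise

namespace CfsgLib.SectionalPairs

universe u

variable {S : Type u} [Group S] [Finite S]

/-- Squares and commutators of `R` lie in `D`. -/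
def ElemSec (R D : Subgroup S) : Prop :=
  (∀ r ∈ R, r * r ∈ D) ∧ ∀ r ∈ R, ∀ q ∈ R, ⁅r, q⁆ ∈ D

theorem commute_of_le_centralizer {A B : Subgroup S} (h : A ≤ centralizer (B : Set S)) {x y : S}
    (hx : x ∈ A) (hy : y ∈ B) : x * y = y * x :=
  (mem_centralizer_iff.1 (h hx) y hy).symm

theorem exists_mul_of_mem_sup {A B : Subgroup S} (h : A ≤ centralizer (B : Set S)) {r : S}
    (hr : r ∈ A ⊔ B) : ∃ x ∈ A, ∃ y ∈ B, x * y = r := by
  have : r ∈ (↑(A ⊔ B) : Set S) := hr
  rw [coe_mul_of_left_le_normalizer_right A B (h.trans (centralizer_le_normalizer _))] at this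
  exact Set.mem_mul.1 this

theorem ElemSec.sup {A B DA DB : Subgroup S} (h : A ≤ centralizer (B : Set S)) (hA : ElemSec A DA)
    (hB : ElemSec B DB) : ElemSec (A ⊔ B) (DA ⊔ DB) := by
  constructor
  · intro r hr
    obtain ⟨x, hx, y, hy, rfl⟩ := exists_mul_of_mem_sup h hr
    rw [show x * y * (x * y) = x * (y * x) * y by group, ← commute_of_le_centralizer h hx hy,
      show x * (x * y) * y = x * x * (y * y) by group]
    exact mul_mem (mem_sup_left (hA.1 x hx)) (mem_sup_right (hB.1 y hy))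
  · intro r hr q hq
    obtain ⟨x, hx, y, hy, rfl⟩ := exists_mul_of_mem_sup h hr
    obtain ⟨z, hz, w, hw, rfl⟩ := exists_mul_of_mem_sup h hq
    have e1 : y * z = z * y := (commute_of_le_centralizer h hz hy).symm
    have e2 : y * w * y⁻¹ * w⁻¹ ∈ B := mul_mem (mul_mem (mul_mem hy hw) (inv_mem hy)) (inv_mem hw)
    have key : ⁅x * y, z * w⁆ = ⁅x, z⁆ * ⁅y, w⁆ := by
      simp only [commutatorElement_def, mul_inv_rev]
      calc x * y * (z * w) * (y⁻¹ * x⁻¹) * (w⁻¹ * z⁻¹)
          = x * (y * z) * w * y⁻¹ * (x⁻¹ * w⁻¹) * z⁻¹ := by group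
        _ = x * (z * y) * w * y⁻¹ * (w⁻¹ * x⁻¹) * z⁻¹ := by
            rw [e1, commute_of_le_centralizer h (inv_mem hx) (inv_mem hw)]
        _ = x * z * ((y * w * y⁻¹ * w⁻¹) * (x⁻¹ * z⁻¹)) := by group
        _ = x * z * ((x⁻¹ * z⁻¹) * (y * w * y⁻¹ * w⁻¹)) := by
            rw [commute_of_le_centralizer h (mul_mem (inv_mem hx) (inv_mem hz)) e2]
        _ = x * z * x⁻¹ * z⁻¹ * (y * w * y⁻¹ * w⁻¹) := by group
    rw [key]
    exact mul_mem (mem_sup_left (hA.2 x hx z hz)) (mem_sup_right (hB.2 y hy w hw))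

theorem ElemSec.bound {k : ℕ} (hr : Cfsg.SectionalPRankLE 2 k S) {R D : Subgroup S} (hDR : D ≤ R)
    (h : ElemSec R D) : Nat.card R ≤ 2 ^ k * Nat.card D := by
  haveI hn : (D.subgroupOf R).Normal := ⟨fun d hd g => by
    rw [mem_subgroupOf]
    have h1 : ⁅(g : S), (d : S)⁆ * (d : S) ∈ D := mul_mem (h.2 _ g.2 _ d.2) hd
    simpa [commutatorElement_def] using h1⟩
  have hcomm : IsMulCommutative (⊤ : Subgroup (R ⧸ D.subgroupOf R)) := ⟨⟨fun a b => Subtype.ext (by
    obtain ⟨x, hx⟩ := QuotientGroup.mk_surjective (a : R ⧸ D.subgroupOf R)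
    obtain ⟨y, hy⟩ := QuotientGroup.mk_surjective (b : R ⧸ D.subgroupOf R)
    show (a : R ⧸ D.subgroupOf R) * b = b * a
    rw [← commutatorElement_eq_one_iff_mul_comm, ← hx, ← hy, ← QuotientGroup.mk'_apply,
      ← QuotientGroup.mk'_apply, ← map_commutatorElement, QuotientGroup.mk'_apply,
      QuotientGroup.eq_one_iff]
    exact h.2 _ x.2 _ y.2)⟩⟩
  have := hr R (D.subgroupOf R) ⊤ hcomm fun a _ => by
    obtain ⟨x, rfl⟩ := QuotientGroup.mk_surjective a
    rw [← QuotientGroup.mk_pow, QuotientGroup.eq_one_iff, mem_subgroupOf, Subgroup.coe_pow, pow_two]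
    exact h.1 _ x.2
  rw [Subgroup.card_top, ← Subgroup.index_eq_card] at this
  rw [← Nat.card_congr (subgroupOfEquivOfLe hDR).toEquiv, ← (D.subgroupOf R).card_mul_index, mul_comm]
  exact Nat.mul_le_mul_right _ this

theorem card_sup_of_disjoint {A B : Subgroup S} (h : A ≤ centralizer (B : Set S)) (hd : A ⊓ B = ⊥) :
    Nat.card (A ⊔ B : Subgroup S) = Nat.card A * Nat.card B := by
  rw [← Nat.card_prod]
  refine (Nat.card_congr (Equiv.ofBijective (fun p : A × B =>
    (⟨p.1 * p.2, mul_mem (mem_sup_left p.1.2) (mem_sup_right p.2.2)⟩ : (A ⊔ B : Subgroup S)))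
    ⟨fun a b e => mul_injective_of_disjoint (disjoint_iff.2 hd) (congrArg Subtype.val e), fun r => ?_⟩)).symm
  obtain ⟨x, hx, y, hy, e⟩ := exists_mul_of_mem_sup h r.2
  exact ⟨(⟨x, hx⟩, ⟨y, hy⟩), Subtype.ext e⟩

theorem elemSec_frattini {P : Subgroup S} (hp : IsPGroup 2 P) :
    ElemSec P ((frattini P).map P.subtype) := by
  haveI : Fact (Nat.Prime 2) := ⟨Nat.prime_two⟩
  refine ⟨fun r hr => ⟨⟨r, hr⟩ ^ 2, CfsgLib.Coprime.pow_mem_frattini hp _, by simp [pow_two]⟩,
    fun r hr q hq => ⟨⁅(⟨r, hr⟩ : P), ⟨q, hq⟩⁆, CfsgLib.Coprime.commutator_le_frattini hp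
      (commutator_mem_commutator (mem_top _) (mem_top _)), rfl⟩⟩

theorem four_mul_frattini_le {P : Subgroup S} (hp : IsPGroup 2 P) (hna : ¬ IsMulCommutative P) :
    4 * Nat.card ((frattini P).map P.subtype) ≤ Nat.card P := by
  haveI : Fact (Nat.Prime 2) := ⟨Nat.prime_two⟩
  rw [Nat.card_congr (equivMapOfInjective (frattini P) _ (subtype_injective P)).toEquiv.symm,
    ← (frattini P).card_mul_index, mul_comm]
  refine Nat.mul_le_mul_left _ ?_
  by_contra hlt
  obtain ⟨i, hi⟩ := hp.index (frattini P)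
  have hi1 : i ≤ 1 := by
    by_contra h2
    exact hlt (hi ▸ (show 2 ^ 2 ≤ 2 ^ i from Nat.pow_le_pow_right two_pos (by omega)))
  refine hna ⟨⟨fun a b => commutatorElement_eq_one_iff_mul_comm.1 ?_⟩⟩
  have h1 := CfsgLib.RankTwoOmega.commutator_eq_bot_of_index_frattini (p := 2) hp
    (hi ▸ (Nat.pow_le_pow_right two_pos hi1).trans_eq (pow_one 2))
  rw [← mem_bot, ← h1]
  exact commutator_mem_commutator (mem_top a) (mem_top b)

theorem center_le_commutator {P : Subgroup S} (hp : IsPGroup 2 P) (hna : ¬ IsMulCommutative P)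
    (hZ : Nat.card (center P) = 2) : center P ≤ commutator P := by
  haveI : Fact (Nat.Prime 2) := ⟨Nat.prime_two⟩
  haveI := hp.isNilpotent
  have hne : commutator P ≠ ⊥ := fun e => hna ⟨⟨fun a b => commutatorElement_eq_one_iff_mul_comm.1 (by
    rw [← mem_bot, ← e]; exact commutator_mem_commutator (mem_top a) (mem_top b))⟩⟩
  have h1 := CfsgLib.Coprime.nilpotent_inf_center_ne_bot (commutator P) hne
  rcases (Nat.dvd_prime Nat.prime_two).1 (hZ ▸ card_dvd_of_le
    (inf_le_right : commutator P ⊓ center P ≤ center P)) with h2 | h2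
  · exact absurd (Subgroup.card_eq_one.1 h2) h1
  · have h3 : commutator P ⊓ center P = center P :=
      Subgroup.eq_of_le_of_card_ge inf_le_right (by rw [h2, hZ])
    exact fun z hz => (h3.symm ▸ hz : z ∈ commutator P ⊓ center P).1

/-- The centre of order two, as an element. -/
theorem exists_center_gen {P : Subgroup S} (hZ : Nat.card (center P) = 2) :
    ∃ a : S, a ≠ 1 ∧ a ∈ P ∧ (∀ x ∈ P, x * a = a * x) ∧
      (center P).map P.subtype = zpowers a ∧ ∀ z ∈ P, (∀ x ∈ P, x * z = z * x) → z = 1 ∨ z = a := by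
  obtain ⟨a, ha, hu⟩ := (Nat.card_eq_two_iff' (1 : center P)).1 hZ
  refine ⟨((a : P) : S), fun e => ha (Subtype.ext (Subtype.ext e)), (a : P).2,
    fun x hx => congrArg Subtype.val (mem_center_iff.1 a.2 ⟨x, hx⟩), ?_, fun z hz hzc => ?_⟩
  · refine le_antisymm ?_ (zpowers_le.2 ⟨_, a.2, rfl⟩)
    rintro _ ⟨z, hz, rfl⟩
    rcases eq_or_ne (⟨z, hz⟩ : center P) 1 with h | h
    · rw [show z = 1 from congrArg Subtype.val h, map_one]; exact one_mem _
    · rw [show z = (a : P) from congrArg Subtype.val (hu _ h)]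
      exact mem_zpowers _
  · rcases eq_or_ne (⟨⟨z, hz⟩, mem_center_iff.2 fun x => Subtype.ext (hzc x x.2)⟩ : center P) 1 with h | h
    · exact Or.inl (congrArg (fun q : center P => ((q : P) : S)) h)
    · exact Or.inr (congrArg (fun q : center P => ((q : P) : S)) (hu _ h))

/-- Two subgroups normalizing each other, with different centres of order two fixed by the other. -/
theorem pair_facts (h2 : IsPGroup 2 S) {P Q : Subgroup S} (hPn : Q ≤ normalizer (P : Set S))
    (hQn : P ≤ normalizer (Q : Set S)) {a b : S} (hbQ : ∀ x ∈ Q, x * b = b * x)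
    (haP : ∀ z ∈ P, (∀ x ∈ P, x * z = z * x) → z = 1 ∨ z = a)
    (hbu : ∀ z ∈ Q, (∀ x ∈ Q, x * z = z * x) → z = 1 ∨ z = b)
    (haC : ∀ x ∈ Q, x * a = a * x) (hab : a ≠ b) :
    P ⊓ Q = ⊥ ∧ P ≤ centralizer (Q : Set S) := by
  haveI : Fact (Nat.Prime 2) := ⟨Nat.prime_two⟩
  have hd : P ⊓ Q = ⊥ := by
    by_contra hne
    haveI := (h2.to_subgroup P).isNilpotent
    haveI : (Q.subgroupOf P).Normal := normal_subgroupOf_of_le_normalizer hQn
    have hne' : Q.subgroupOf P ≠ ⊥ := fun e => hne (by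
      rw [inf_comm, ← subgroupOf_map_subtype, e, Subgroup.map_bot])
    obtain ⟨z, hz, hz1⟩ := (bot_or_exists_ne_one _).resolve_left
      (CfsgLib.Coprime.nilpotent_inf_center_ne_bot _ hne')
    have hz1' : (z : S) ≠ 1 := fun e => hz1 (Subtype.ext e)
    have hza : (z : S) = a :=
      (haP z z.2 fun x hx => congrArg Subtype.val (mem_center_iff.1 hz.2 ⟨x, hx⟩)).resolve_left hz1'
    have haQ : a ∈ Q := hza ▸ hz.1
    exact hab ((hbu a haQ haC).resolve_left (hza ▸ hz1'))
  refine ⟨hd, fun x hx => mem_centralizer_iff.2 fun y hy => ?_⟩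
  have h1 : ⁅x, y⁆ ∈ P ⊓ Q := ⟨by
    rw [commutatorElement_def, show x * y * x⁻¹ * y⁻¹ = x * (y * x⁻¹ * y⁻¹) by group]
    exact P.mul_mem hx ((mem_normalizer_iff.1 (hPn hy) _).1 (P.inv_mem hx)),
    Q.mul_mem ((mem_normalizer_iff.1 (hQn hx) _).1 hy) (Q.inv_mem hy)⟩
  rw [hd, mem_bot, commutatorElement_eq_one_iff_mul_comm] at h1
  exact h1.symm

/-- The product of a commuting pair contains its centralizer. -/
theorem centralizer_sup_le (h2 : IsPGroup 2 S) (hr : Cfsg.SectionalPRankLE 2 4 S) {P Q : Subgroup S}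
    (hPQ : P ≤ centralizer (Q : Set S)) (hd : P ⊓ Q = ⊥)
    (hP : ¬ IsMulCommutative P) (hQ : ¬ IsMulCommutative Q)
    (hZP : Nat.card (center P) = 2) (hZQ : Nat.card (center Q) = 2) :
    centralizer ((P ⊔ Q : Subgroup S) : Set S) ≤ P ⊔ Q := by
  haveI : Fact (Nat.Prime 2) := ⟨Nat.prime_two⟩
  intro c0 hc0
  by_contra hc0W
  -- choose `c` outside with square inside
  obtain ⟨c, hc, hcW, hc2⟩ : ∃ c ∈ centralizer ((P ⊔ Q : Subgroup S) : Set S), c ∉ P ⊔ Q ∧ c * c ∈ P ⊔ Q := by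
    obtain ⟨k, hk⟩ := h2 c0
    have hex : ∃ i, c0 ^ 2 ^ i ∈ P ⊔ Q := ⟨k, hk ▸ one_mem _⟩
    classical
    have hi0 : Nat.find hex ≠ 0 := fun e => hc0W (by simpa [e] using Nat.find_spec hex)
    refine ⟨c0 ^ 2 ^ (Nat.find hex - 1), pow_mem hc0 _, Nat.find_min hex (by omega), ?_⟩
    rw [← pow_add, ← two_mul, ← pow_succ', show Nat.find hex - 1 + 1 = Nat.find hex by omega]
    exact Nat.find_spec hex
  set DP := (frattini P).map P.subtype
  set DQ := (frattini Q).map Q.subtype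
  have hP' := h2.to_subgroup P
  have hQ' := h2.to_subgroup Q
  have hDP : DP ≤ P := map_subtype_le _
  have hDQ : DQ ≤ Q := map_subtype_le _
  have hcc : c * c ∈ DP ⊔ DQ := by
    obtain ⟨x, hx, y, hy, e⟩ := exists_mul_of_mem_sup hPQ hc2
    have hcomm : ∀ w ∈ P ⊔ Q, w * (x * y) = x * y * w := fun w hw => by
      rw [e]; exact mem_centralizer_iff.1 (mul_mem hc hc) w hw
    have hxc : (⟨x, hx⟩ : P) ∈ center P := mem_center_iff.2 fun w => Subtype.ext (by
      have h1 := hcomm w (mem_sup_left w.2)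
      rw [← mul_assoc, mul_assoc x y, ← commute_of_le_centralizer hPQ w.2 hy, ← mul_assoc] at h1
      exact mul_right_cancel h1)
    have hyc : (⟨y, hy⟩ : Q) ∈ center Q := mem_center_iff.2 fun w => Subtype.ext (by
      have h1 := hcomm w (mem_sup_right w.2)
      rw [← mul_assoc, ← commute_of_le_centralizer hPQ hx w.2, mul_assoc, mul_assoc] at h1
      exact mul_left_cancel h1)
    rw [← e]
    exact mul_mem
      (mem_sup_left ⟨_, CfsgLib.Coprime.commutator_le_frattini hP' (center_le_commutator hP' hP hZP hxc), rfl⟩)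
      (mem_sup_right ⟨_, CfsgLib.Coprime.commutator_le_frattini hQ' (center_le_commutator hQ' hQ hZQ hyc), rfl⟩)
  have hcW' : P ⊔ Q ≤ centralizer (zpowers c : Set S) :=
    le_centralizer_iff.1 (zpowers_le.2 hc)
  have hc3 : ElemSec (zpowers c) (zpowers (c * c)) := by
    refine ⟨?_, ?_⟩
    · rintro _ ⟨i, rfl⟩
      exact ⟨i, by rw [← (Commute.refl c).mul_zpow]⟩
    · rintro _ ⟨i, rfl⟩ _ ⟨j, rfl⟩
      rw [commutatorElement_eq_one_iff_mul_comm.2 ((Commute.refl c).zpow_zpow i j).eq]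
      exact one_mem _
  have hsec : ElemSec ((P ⊔ Q) ⊔ zpowers c) ((DP ⊔ DQ) ⊔ zpowers (c * c)) :=
    ((elemSec_frattini hP').sup hPQ (elemSec_frattini hQ')).sup hcW' hc3
  rw [sup_eq_left.2 (zpowers_le.2 hcc : zpowers (c * c) ≤ DP ⊔ DQ)] at hsec
  have hb := hsec.bound hr ((sup_le_sup hDP hDQ).trans le_sup_left)
  have h1 : Nat.card (P ⊔ Q : Subgroup S) < Nat.card ((P ⊔ Q) ⊔ zpowers c : Subgroup S) := by
    refine lt_of_le_of_ne (card_le_of_le le_sup_left) fun e => hcW ?_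
    rw [Subgroup.eq_of_le_of_card_ge le_sup_left e.ge]
    exact mem_sup_right (mem_zpowers c)
  have h3 := card_sup_of_disjoint hPQ hd
  have h4 : Nat.card (DP ⊔ DQ : Subgroup S) = Nat.card DP * Nat.card DQ :=
    card_sup_of_disjoint ((hDP.trans hPQ).trans (centralizer_le hDQ))
      (le_bot_iff.1 ((inf_le_inf hDP hDQ).trans hd.le))
  have h5 : 4 * Nat.card DP * (4 * Nat.card DQ) ≤ Nat.card P * Nat.card Q :=
    Nat.mul_le_mul (four_mul_frattini_le hP' hP) (four_mul_frattini_le hQ' hQ)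
  rw [h4] at hb
  rw [h3] at h1
  nlinarith

/-- A conjugate copy doubles the sectional rank. -/
theorem sectional_two (hr : Cfsg.SectionalPRankLE 2 4 S) {P : Subgroup S} {s : S}
    (hPQ : P ≤ centralizer (P.map (MulAut.conj s).toMonoidHom : Set S))
    (hd : P ⊓ P.map (MulAut.conj s).toMonoidHom = ⊥) : Cfsg.SectionalPRankLE 2 2 P := by
  intro H N hN A hA hA2
  set f : H →* S := P.subtype.comp H.subtype with hf
  have hfi : Function.Injective f := P.subtype_injective.comp H.subtype_injective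
  set R := (A.comap (QuotientGroup.mk' N)).map f
  set D := N.map f
  have hDR : D ≤ R := map_mono fun x hx => by
    rw [mem_comap, QuotientGroup.mk'_apply, (QuotientGroup.eq_one_iff x).2 hx]
    exact one_mem A
  have hRP : R ≤ P := by
    rintro _ ⟨x, -, rfl⟩
    exact ((x : H) : P).2
  have hs : ElemSec R D := by
    refine ⟨?_, ?_⟩
    · rintro _ ⟨x, hx, rfl⟩
      refine ⟨x * x, (QuotientGroup.eq_one_iff _).1 ?_, map_mul f x x⟩
      rw [QuotientGroup.mk_mul, ← pow_two]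
      exact hA2 _ hx
    · rintro _ ⟨x, hx, rfl⟩ _ ⟨y, hy, rfl⟩
      refine ⟨⁅x, y⁆, (QuotientGroup.eq_one_iff _).1 ?_, map_commutatorElement f x y⟩
      rw [← QuotientGroup.mk'_apply, map_commutatorElement, commutatorElement_eq_one_iff_mul_comm]
      exact congrArg Subtype.val (hA.is_comm.comm (⟨_, hx⟩ : A) ⟨_, hy⟩)
  set c := (MulAut.conj s).toMonoidHom
  have hs' : ElemSec (R.map c) (D.map c) := by
    refine ⟨?_, ?_⟩
    · rintro _ ⟨x, hx, rfl⟩
      exact ⟨x * x, hs.1 x hx, map_mul c x x⟩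
    · rintro _ ⟨x, hx, rfl⟩ _ ⟨y, hy, rfl⟩
      exact ⟨⁅x, y⁆, hs.2 x hx y hy, map_commutatorElement c x y⟩
  have hRR : R ≤ centralizer (R.map c : Set S) := (hRP.trans hPQ).trans (centralizer_le (map_mono hRP))
  have hb := (hs.sup hRR hs').bound hr (sup_le_sup hDR (map_mono hDR))
  rw [card_sup_of_disjoint hRR (le_bot_iff.1 ((inf_le_inf hRP (map_mono hRP)).trans hd.le)),
    card_sup_of_disjoint ((hDR.trans hRR).trans (centralizer_le (map_mono hDR)))
      (le_bot_iff.1 ((inf_le_inf (hDR.trans hRP) (map_mono (hDR.trans hRP))).trans hd.le)),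
    card_map_of_injective (K := R) (f := c) (MulAut.conj s).injective,
    card_map_of_injective (K := D) (f := c) (MulAut.conj s).injective,
    card_map_of_injective hfi, card_map_of_injective hfi] at hb
  have hc := Subgroup.card_map_of_injective (K := N) hfi
  have hcard : Nat.card A * Nat.card N = Nat.card (A.comap (QuotientGroup.mk' N)) := by
    have h1 := (A.comap (QuotientGroup.mk' N)).card_mul_index
    have h2' := N.card_mul_index
    have h3 := A.card_mul_index
    rw [index_comap_of_surjective _ (QuotientGroup.mk'_surjective N)] at h1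
    rw [← Subgroup.index_eq_card] at h3
    refine Nat.eq_of_mul_eq_mul_right (Nat.pos_of_ne_zero (FiniteIndex.index_ne_zero (H := A))) ?_
    rw [h1, ← h2', ← h3]
    ring
  rw [← hcard] at hb
  have hN0 : 0 < Nat.card N * Nat.card N := Nat.mul_pos Nat.card_pos Nat.card_pos
  have h16 : Nat.card A * Nat.card A ≤ 16 := Nat.le_of_mul_le_mul_right (c := Nat.card N * Nat.card N)
    (le_trans (le_of_eq (by ring)) (le_trans hb (le_of_eq (by norm_num)))) hN0
  nlinarith

end CfsgLib.SectionalPairs
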