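import Cfsg.Prelude.Def_PLocal
import Cfsg.Prelude.Def_CaseTheorems
import Cfsg.Prelude.Def_Transfer
import Cfsg.Agent.Lib.Invol.MaxClassTwo
import Cfsg.Agent.Lib.PGroup.CharPLocal
import Cfsg.Agent.Lib.PGroup.TwoConjugateGeneration
import Mathlib.RingTheory.Int.Basic
import Mathlib.NumberTheory.Multiplicity
import Mathlib.Data.Nat.Choose.Basic

/-!
# `p`-groups with a self-centralizing cyclic normal subgroup
-/

set_option autoImplicit false
set_option linter.style.haveILetI false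

open Subgroup
open scoped commutatorElement

namespace CfsgLib.SelfCentCyclic

/-- A `p`-th root of unity modulo `p ^ n` is `1` modulo `p ^ (n - 1)` for odd `p`. -/
theorem dvd_sub_one_of_pow {p n : ℕ} (hp : p.Prime) (hp2 : p ≠ 2) (hn : 1 ≤ n) {r : ℤ}
    (h : (p : ℤ) ^ n ∣ r ^ p - 1) : (p : ℤ) ^ (n - 1) ∣ r - 1 := by
  haveI := Fact.mk hp
  have hr : (p : ℤ) ∣ r - 1 := by
    rw [← ZMod.intCast_zmod_eq_zero_iff_dvd]
    have h1 : ((r ^ p - 1 : ℤ) : ZMod p) = 0 :=
      (ZMod.intCast_zmod_eq_zero_iff_dvd _ _).2 ((dvd_pow_self _ (by omega)).trans h)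
    push_cast at h1 ⊢
    rwa [ZMod.pow_card] at h1
  obtain ⟨b, hb⟩ := hr
  obtain rfl : r = 1 + p * b := by linarith
  obtain ⟨c, hc⟩ := odd_sq_dvd_geom_sum₂_sub (a := (1 : ℤ)) b (hp.odd_of_ne_two hp2)
  simp only [one_pow, mul_one] at hc
  have hs : (∑ i ∈ Finset.range p, (1 + (p : ℤ) * b) ^ i) = p * (1 + p * c) := by
    rw [sub_eq_iff_eq_add] at hc
    rw [hc]; ring
  rw [← geom_sum_mul, hs, show n = (n - 1) + 1 by omega, pow_succ'] at h
  rw [show (p : ℤ) * (1 + p * c) * (1 + p * b - 1) = p * ((1 + p * c) * (1 + p * b - 1)) by ring,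
    mul_dvd_mul_iff_left (by exact_mod_cast hp.ne_zero)] at h
  refine (IsCoprime.pow_left (IsCoprime.symm ⟨1, -c, ?_⟩)).dvd_of_dvd_mul_left h
  ring

variable {G : Type*} [Group G] [Finite G] {p : ℕ} [hp : Fact p.Prime]

/-- The dihedral, quaternion and semidihedral branch. -/
theorem left_branch (hna : ¬ IsMulCommutative G) {a x : G} {n : ℕ} (hn : 1 ≤ n)
    (ha : orderOf a = 2 ^ n) (hi : (zpowers a).index = 2) {r : ℤ}
    (hx : x ∉ zpowers a) (hr : x * a * x⁻¹ = a ^ r) (hr4 : r % 4 = 3) :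
    Nat.card G = 2 ^ (n + 1) ∧ ((∃ m : ℕ, Nonempty (G ≃* DihedralGroup m)) ∨
      (∃ m : ℕ, Nonempty (G ≃* QuaternionGroup m)) ∨ Cfsg.IsQuasiDihedral G) := by
  obtain ⟨r', e, F⟩ := CfsgLib.Invol.exists_frame hi hx
  rw [ha] at F
  have hcard : Nat.card G = 2 ^ (n + 1) := by rw [F.card, pow_succ']
  refine ⟨hcard, ?_⟩
  have hmem : a ^ (r - 1) ∈ commutator G := by
    rw [zpow_sub_one, ← hr, _root_.commutator_def]
    have := commutator_mem_commutator (mem_top x) (mem_top a)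
    rwa [commutatorElement_def] at this
  have hab : Nat.card G ≤ 4 * Nat.card (commutator G) := by
    have hdvd : 2 ^ (n - 1) ∣ orderOf (a ^ (r - 1)) := by
      set d := orderOf (a ^ (r - 1)) with hd
      have h1 : ((2 ^ n : ℕ) : ℤ) ∣ (r - 1) * d := by
        rw [← ha, orderOf_dvd_iff_zpow_eq_one, zpow_mul, zpow_natCast, hd, pow_orderOf_eq_one]
      push_cast at h1
      rw [show n = (n - 1) + 1 by omega, pow_succ', show r - 1 = 2 * ((r - 1) / 2) by omega,
        mul_assoc, mul_dvd_mul_iff_left two_ne_zero] at h1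
      have hcop : IsCoprime ((2 : ℤ) ^ (n - 1)) ((r - 1) / 2) := by
        refine IsCoprime.pow_left ?_
        rw [Int.isCoprime_iff_nat_coprime]
        refine (Nat.Prime.coprime_iff_not_dvd Nat.prime_two).2 ?_
        omega
      exact_mod_cast hcop.dvd_of_dvd_mul_left h1
    have h2 : 2 ^ (n - 1) ≤ Nat.card (commutator G) := by
      refine (Nat.le_of_dvd (orderOf_pos _) hdvd).trans ?_
      rw [← Nat.card_zpowers]
      exact Nat.le_of_dvd Nat.card_pos (card_dvd_of_le (zpowers_le.2 hmem))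
    have h3 : 2 ^ (n + 1) = 4 * 2 ^ (n - 1) := by
      rw [show (4 : ℕ) = 2 ^ 2 by norm_num, ← pow_add]; congr 1; omega
    omega
  obtain ⟨-, r₀, e₀, b, ht, F'⟩ := CfsgLib.Invol.frame_std F hna hab
  rcases CfsgLib.Invol.cases_of_std ht F' with h | h | h
  · exact Or.inl ⟨_, h⟩
  · exact Or.inr (Or.inl ⟨_, h⟩)
  · exact Or.inr (Or.inr h)

omit [Finite G] hp in
theorem pow_mul_conj {a x : G} {q : ℤ} (hx : x * a * x⁻¹ = a ^ (1 + q)) (hq : x * a ^ q * x⁻¹ = a ^ q)
    (j : ℕ) (i : ℤ) : x ^ j * a ^ i = a ^ (i * (1 + j * q)) * x ^ j := by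
  have h1 : ∀ i : ℤ, x * a ^ i = a ^ ((1 + q) * i) * x := fun i => by
    rw [← mul_inv_eq_iff_eq_mul, ← conj_zpow, hx, ← zpow_mul]
  induction j generalizing i with
  | zero => simp
  | succ j ih =>
    have hfix : x * a ^ ((j : ℤ) * q * i) = a ^ ((j : ℤ) * q * i) * x := by
      rw [← mul_inv_eq_iff_eq_mul, show (j : ℤ) * q * i = q * (j * i) by ring, zpow_mul, ← conj_zpow,
        hq]
    rw [pow_succ', mul_assoc, ih, ← mul_assoc,
      show i * (1 + (j : ℤ) * q) = (j : ℤ) * q * i + i by ring, zpow_add, ← mul_assoc, hfix,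
      mul_assoc (a ^ ((j : ℤ) * q * i)), h1, ← mul_assoc, ← zpow_add, mul_assoc]
    congr 2
    push_cast; ring

omit [Finite G] hp in
theorem mul_pow_formula {a x : G} {q : ℤ} (hx : x * a * x⁻¹ = a ^ (1 + q))
    (hq : x * a ^ q * x⁻¹ = a ^ q) (i : ℤ) (j : ℕ) :
    (a ^ i * x) ^ j = a ^ (i * (j + q * (j.choose 2 : ℕ))) * x ^ j := by
  induction j with
  | zero => simp
  | succ j ih =>
    rw [pow_succ (a ^ i * x), ih, mul_assoc, ← mul_assoc (x ^ j), pow_mul_conj hx hq, mul_assoc,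
      ← pow_succ, ← mul_assoc, ← zpow_add, Nat.choose_succ_succ' j 1, Nat.choose_one_right]
    congr 2
    push_cast; ring

theorem main (hG : IsPGroup p G) (hna : ¬ IsMulCommutative G) (U : Subgroup G) [U.Normal]
    (hU : IsCyclic U) (n : ℕ) (hUn : Nat.card U = p ^ n) (hC : centralizer (U : Set G) = U) :
    (p = 2 ∧ Nat.card G = 2 ^ (n + 1) ∧ ((∃ m : ℕ, Nonempty (G ≃* DihedralGroup m)) ∨
        (∃ m : ℕ, Nonempty (G ≃* QuaternionGroup m)) ∨ Cfsg.IsQuasiDihedral G)) ∨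
      (U.relIndex (centralizer (Cfsg.powerClosure p 1 U : Set G)) = p ∧
        Cfsg.IsElementaryAbelian p
          (Cfsg.omegaOne p (centralizer (Cfsg.powerClosure p 1 U : Set G))) ∧
        Nat.card ↥(Cfsg.omegaOne p (centralizer (Cfsg.powerClosure p 1 U : Set G))) = p ^ 2 ∧
        (Cfsg.omegaOne p (centralizer (Cfsg.powerClosure p 1 U : Set G))).Characteristic) := by
  have hp2 := hp.out.two_le
  have hpi : (p : ℤ) ≠ 0 := by exact_mod_cast hp.out.ne_zero
  obtain ⟨a, rfl⟩ : ∃ a, zpowers a = U := by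
    obtain ⟨g, hg⟩ := hU.exists_generator
    refine ⟨g, le_antisymm (zpowers_le.2 g.2) fun x hx => ?_⟩
    obtain ⟨k, hk⟩ := mem_zpowers_iff.1 (hg ⟨x, hx⟩)
    exact mem_zpowers_iff.2 ⟨k, by simpa using congrArg Subtype.val hk⟩
  rw [Nat.card_zpowers] at hUn
  have hna' : ∃ x, x ∉ zpowers a := by
    by_contra h
    push Not at h
    refine hna ⟨⟨fun x y => ?_⟩⟩
    obtain ⟨i, rfl⟩ := mem_zpowers_iff.1 (h x)
    obtain ⟨j, rfl⟩ := mem_zpowers_iff.1 (h y)
    exact ((Commute.refl a).zpow_zpow i j).eq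
  have hmemU : ∀ y : G, y ∈ zpowers a ↔ y * a * y⁻¹ = a := by
    intro y
    constructor
    · intro hy
      obtain ⟨i, rfl⟩ := mem_zpowers_iff.1 hy
      rw [((Commute.refl a).zpow_left i).eq, mul_inv_cancel_right]
    · intro hy
      refine hC.le (mem_centralizer_iff.2 fun t ht => ?_)
      obtain ⟨i, rfl⟩ := mem_zpowers_iff.1 ht
      exact ((show Commute a y from (mul_inv_eq_iff_eq_mul.1 hy).symm).zpow_left i).eq
  have hconj : ∀ x : G, ∃ r : ℤ, x * a * x⁻¹ = a ^ r := fun x => by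
    obtain ⟨r, hr⟩ := mem_zpowers_iff.1
      ((inferInstance : (zpowers a).Normal).conj_mem a (mem_zpowers a) x)
    exact ⟨r, hr.symm⟩
  have hn2 : 2 ≤ n := by
    by_contra h
    obtain ⟨x, hx⟩ := hna'
    apply hx
    rcases (by omega : n = 0 ∨ n = 1) with rfl | rfl
    · rw [hmemU, show a = 1 from orderOf_eq_one_iff.1 (by simpa using hUn)]; group
    -- a normal subgroup of order `p` is central
    · obtain ⟨z, hz, hzo, hzc⟩ := CfsgLib.CharPLoc.exists_central_order (p := p)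
        (T := (⊤ : Subgroup G)) (R := zpowers a)
        (hG.to_subgroup ⊤) le_top (by rw [normalizer_eq_top]) (fun e => by
          rw [zpowers_eq_bot] at e
          rw [e, orderOf_one, pow_one] at hUn
          omega)
      have hze : zpowers z = zpowers a := eq_of_le_of_card_ge (zpowers_le.2 hz)
        (by rw [Nat.card_zpowers, Nat.card_zpowers, hzo, hUn, pow_one])
      obtain ⟨i, hi⟩ := mem_zpowers_iff.1 (hze.ge (mem_zpowers a))
      rw [hmemU, ← hi, ((show Commute x z from hzc x (mem_top x)).zpow_right i).eq,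
        mul_inv_cancel_right]
  set z := a ^ p ^ (n - 1) with hz
  have hpn : p * p ^ (n - 1) = p ^ n := by rw [← pow_succ', Nat.sub_add_cancel (by omega)]
  have haz : ∀ i : ℤ, a ^ i = 1 ↔ ((p : ℤ) ^ n) ∣ i := fun i => by
    rw [← orderOf_dvd_iff_zpow_eq_one, hUn]; push_cast; rfl
  -- characterization of the centralizer
  set M := centralizer (Cfsg.powerClosure p 1 (zpowers a) : Set G) with hM
  have hMmem : ∀ (y : G) (r : ℤ), y * a * y⁻¹ = a ^ r →
      (y ∈ M ↔ (p : ℤ) ^ (n - 1) ∣ r - 1) := by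
    intro y r hr
    have h1 : y ∈ M ↔ y * a ^ p * y⁻¹ = a ^ p := by
      rw [hM, Cfsg.powerClosure, centralizer_closure, mem_centralizer_iff]
      constructor
      · intro h
        rw [mul_inv_eq_iff_eq_mul]
        exact (h _ ⟨a, mem_zpowers a, by rw [pow_one]⟩).symm
      · rintro h _ ⟨x, hx, rfl⟩
        obtain ⟨i, rfl⟩ := mem_zpowers_iff.1 hx
        rw [pow_one, ← zpow_natCast, ← zpow_mul, mul_comm, zpow_mul, zpow_natCast]
        exact (((show Commute y (a ^ p) from mul_inv_eq_iff_eq_mul.1 h).zpow_right i).eq).symm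
    rw [h1, ← conj_pow, hr, ← zpow_natCast, ← zpow_natCast, ← zpow_mul, ← div_eq_one,
      div_eq_mul_inv, ← zpow_sub, haz, show r * (p : ℤ) - (p : ℤ) = p * (r - 1) by ring,
      show (p : ℤ) ^ n = p * p ^ (n - 1) by exact_mod_cast hpn.symm, mul_dvd_mul_iff_left hpi]
  by_cases hMU : ∀ y ∈ M, y ∈ zpowers a
  · -- no element acts as `1 + p ^ (n - 1)`
    left
    have hfirst : ∀ x : G, x ∉ zpowers a → x ^ p ∈ zpowers a →
        p = 2 ∧ ∀ r : ℤ, x * a * x⁻¹ = a ^ r →
          r % 4 = 3 ∧ (p : ℤ) ^ (n - 1) ∣ r + 1 := by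
      intro x hx hxp
      obtain ⟨r, hr⟩ := hconj x
      have hnd : ¬ (p : ℤ) ^ (n - 1) ∣ r - 1 := fun h => hx (hMU x ((hMmem x r hr).2 h))
      have hpow : ∀ (r : ℤ), x * a * x⁻¹ = a ^ r → (p : ℤ) ^ n ∣ r ^ p - 1 := by
        intro r hr
        have hk : ∀ k : ℕ, x ^ k * a * (x ^ k)⁻¹ = a ^ (r ^ k) := by
          intro k
          induction k with
          | zero => simp
          | succ k ih =>
            rw [pow_succ', show x * x ^ k * a * (x * x ^ k)⁻¹ = x * (x ^ k * a * (x ^ k)⁻¹) * x⁻¹ by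
              group, ih, ← conj_zpow, hr, ← zpow_mul, pow_succ']
        have h := hk p
        rw [(hmemU _).1 hxp] at h
        rw [← haz, zpow_sub_one, ← h, mul_inv_cancel]
      have hp2' : p = 2 := by
        by_contra h
        exact hnd (dvd_sub_one_of_pow hp.out h (by omega) (hpow r hr))
      subst hp2'
      refine ⟨rfl, fun r hr => ?_⟩
      have hnd : ¬ (2 : ℤ) ^ (n - 1) ∣ r - 1 := fun h =>
        hx (hMU x ((hMmem x r hr).2 (by exact_mod_cast h)))
      have h2 : (2 : ℤ) ^ n ∣ (r - 1) * (r + 1) := by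
        have h := hpow r hr; push_cast at h
        rwa [show (r - 1) * (r + 1) = r ^ 2 - 1 by ring]
      have hodd : r % 2 = 1 := by
        by_contra hev
        have hd : (2 : ℤ) ∣ r ^ 2 - 1 := by
          have h := hpow r hr; push_cast at h
          exact (dvd_pow_self (2 : ℤ) (by omega : n ≠ 0)).trans h
        obtain ⟨s, rfl⟩ : (2 : ℤ) ∣ r := by omega
        rw [show (2 * s) ^ 2 - 1 = 2 * (2 * s ^ 2) - 1 by ring] at hd
        omega
      have hcop : ∀ t : ℤ, t % 2 = 1 → IsCoprime ((2 : ℤ) ^ (n - 1)) t := by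
        intro t ht
        refine IsCoprime.pow_left ?_
        rw [Int.isCoprime_iff_nat_coprime]
        refine (Nat.Prime.coprime_iff_not_dvd Nat.prime_two).2 ?_
        omega
      rw [show n = (n - 1) + 1 by omega, pow_succ'] at h2
      by_cases h4 : r % 4 = 3
      · refine ⟨h4, ?_⟩
        push_cast
        rw [show r - 1 = 2 * ((r - 1) / 2) by omega, mul_assoc,
          mul_dvd_mul_iff_left two_ne_zero] at h2
        exact (hcop _ (by omega)).dvd_of_dvd_mul_left h2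
      · exfalso
        apply hnd
        rw [show r + 1 = 2 * ((r + 1) / 2) by omega, mul_left_comm,
          mul_dvd_mul_iff_left two_ne_zero, mul_comm] at h2
        exact (hcop _ (by omega)).dvd_of_dvd_mul_left h2
    obtain ⟨x, hx, hxp⟩ : ∃ x, x ∉ zpowers a ∧ x ^ p ∈ zpowers a := by
      obtain ⟨y, hy⟩ := hna'
      obtain ⟨k, hk⟩ := hG y
      have hex : ∃ j, y ^ p ^ j ∈ zpowers a := ⟨k, hk ▸ one_mem _⟩
      classical
      have h0 : Nat.find hex ≠ 0 := fun e => hy (by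
        have h := Nat.find_spec hex
        rwa [e, pow_zero, pow_one] at h)
      refine ⟨y ^ p ^ (Nat.find hex - 1), Nat.find_min hex (by omega), ?_⟩
      rw [← pow_mul, ← pow_succ, Nat.sub_add_cancel (by omega)]
      exact Nat.find_spec hex
    obtain ⟨hp2', hx4⟩ := hfirst x hx hxp
    subst hp2'
    obtain ⟨r, hr⟩ := hconj x
    obtain ⟨hr4, hrd⟩ := hx4 r hr
    have hn3 : 3 ≤ n := by
      by_contra h
      obtain rfl : n = 2 := by omega
      apply hx
      refine hMU x ((hMmem x r hr).2 ?_)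
      push_cast
      omega
    -- all elements square into `U`
    have hsq : ∀ y : G, y ^ 2 ∈ zpowers a := by
      by_contra hall
      push Not at hall
      obtain ⟨y, hy⟩ := hall
      obtain ⟨k, hk⟩ := hG y
      have hex : ∃ j, y ^ 2 ^ j ∈ zpowers a := ⟨k, hk ▸ one_mem _⟩
      classical
      have h2 : 2 ≤ Nat.find hex := by
        by_contra h
        apply hy
        have hs := Nat.find_spec hex
        rcases (by omega : Nat.find hex = 0 ∨ Nat.find hex = 1) with e | e <;> rw [e] at hs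
        · rw [pow_zero, pow_one] at hs; exact pow_mem hs 2
        · rwa [pow_one] at hs
      set w := y ^ 2 ^ (Nat.find hex - 2) with hw
      have hw2 : w ^ 2 ∉ zpowers a := by
        rw [hw, ← pow_mul, ← pow_succ]
        exact Nat.find_min hex (by omega)
      have hw4 : (w ^ 2) ^ 2 ∈ zpowers a := by
        rw [hw, ← pow_mul, ← pow_mul, show 2 * 2 = 2 ^ 2 from rfl, ← pow_add,
          show Nat.find hex - 2 + 2 = Nat.find hex by omega]
        exact Nat.find_spec hex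
      obtain ⟨s, hs⟩ := hconj w
      have hs2 : w ^ 2 * a * (w ^ 2)⁻¹ = a ^ (s * s) := by
        rw [pow_two, show w * w * a * (w * w)⁻¹ = w * (w * a * w⁻¹) * w⁻¹ by group, hs, ← conj_zpow,
          hs, ← zpow_mul]
      obtain ⟨-, hd⟩ := (hfirst _ hw2 hw4).2 _ hs2
      have h4 : (4 : ℤ) ∣ s * s + 1 := by
        refine (dvd_trans ?_ hd)
        push_cast
        exact (pow_dvd_pow (2 : ℤ) (show 2 ≤ n - 1 by omega))
      rcases Int.even_or_odd' s with ⟨m, rfl | rfl⟩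
      · rw [show 2 * m * (2 * m) + 1 = 4 * (m * m) + 1 by ring] at h4; omega
      · rw [show (2 * m + 1) * (2 * m + 1) + 1 = 4 * (m * m + m) + 2 by ring] at h4; omega
    have hidx : (zpowers a).index = 2 := by
      rw [index_eq_two_iff]
      refine ⟨x, fun y => ?_⟩
      by_cases hy : y ∈ zpowers a
      · exact Or.inr ⟨hy, fun h => hx (by
          have := mul_mem (inv_mem hy) h; rwa [inv_mul_cancel_left] at this)⟩
      · refine Or.inl ⟨hMU _ ?_, hy⟩
        obtain ⟨s, hs⟩ := hconj y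
        obtain ⟨-, hsd⟩ := (hfirst y hy (hsq y)).2 s hs
        refine (hMmem (y * x) (r * s) ?_).2 ?_
        · rw [show y * x * a * (y * x)⁻¹ = y * (x * a * x⁻¹) * y⁻¹ by group, hr, ← conj_zpow, hs,
            ← zpow_mul, mul_comm]
        · rw [show r * s - 1 = (r + 1) * s - (s + 1) by ring]
          exact dvd_sub (hrd.mul_right s) hsd
    obtain ⟨h1, h2⟩ := left_branch hna (by omega) hUn hidx hx hr hr4
    exact ⟨rfl, h1, h2⟩
  push Not at hMU
  obtain ⟨x, hxM, hx⟩ := hMU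
  -- elements of `M`
  set q : ℤ := (p : ℤ) ^ (n - 1) with hq
  have hqz : ∀ j : ℤ, a ^ (q * j) = z ^ j := fun j => by
    rw [zpow_mul, hq, ← Nat.cast_pow, zpow_natCast]
  have hzp : z ^ p = 1 := by rw [hz, ← pow_mul, mul_comm, hpn, ← hUn, pow_orderOf_eq_one]
  have hz1 : z ≠ 1 := fun h => by
    have := orderOf_dvd_of_pow_eq_one h
    rw [hUn, Nat.pow_dvd_pow_iff_le_right hp.out.one_lt] at this
    omega
  have hzo : orderOf z = p := orderOf_eq_prime hzp hz1
  have hMdata : ∀ y ∈ M, ∃ k : ℤ, y * a * y⁻¹ = a ^ (1 + q * k) ∧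
      y * a ^ (q * k) * y⁻¹ = a ^ (q * k) ∧ y ^ p ∈ zpowers a := by
    intro y hy
    obtain ⟨r, hr⟩ := hconj y
    obtain ⟨k, hk⟩ := (hMmem y r hr).1 hy
    have hr' : y * a * y⁻¹ = a ^ (1 + q * k) := by rw [hr]; congr 1; linarith
    have hfix : y * a ^ (q * k) * y⁻¹ = a ^ (q * k) := by
      rw [← conj_zpow, hr', ← zpow_mul, ← div_eq_one, div_eq_mul_inv, ← zpow_sub, haz]
      rw [show (1 + q * k) * (q * k) - q * k = q * q * (k * k) by ring]
      refine Dvd.dvd.mul_right ?_ _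
      rw [hq, ← pow_add]
      exact pow_dvd_pow _ (by omega)
    refine ⟨k, hr', hfix, (hmemU _).2 ?_⟩
    have h := pow_mul_conj hr' hfix p 1
    rw [zpow_one] at h
    rw [mul_inv_eq_iff_eq_mul, h, one_mul]
    congr 1
    rw [zpow_add, zpow_one, mul_eq_left, haz]
    refine ⟨k, ?_⟩
    rw [show (p : ℤ) ^ n = p * p ^ (n - 1) by exact_mod_cast hpn.symm, hq]; ring
  obtain ⟨k, hxk, hxfix, hxp⟩ := hMdata x hxM
  have hk : ¬ (p : ℤ) ∣ k := by
    rintro ⟨t, rfl⟩
    apply hx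
    rw [hmemU, hxk, zpow_add, zpow_one, mul_eq_left, haz]
    exact ⟨t, by rw [show (p : ℤ) ^ n = p * p ^ (n - 1) by exact_mod_cast hpn.symm, hq]; ring⟩
  have hUM : zpowers a ≤ M := fun y hy => by
    refine (hMmem y 1 ?_).2 (by simp)
    rw [zpow_one]; exact (hmemU y).1 hy
  have hUmem : ∀ u ∈ zpowers a, u ^ p = 1 → ∃ j : ℤ, u = z ^ j := by
    intro u hu hu1
    obtain ⟨i, rfl⟩ := mem_zpowers_iff.1 hu
    rw [← zpow_natCast, ← zpow_mul, haz,
      show (p : ℤ) ^ n = p ^ (n - 1) * p by rw [mul_comm]; exact_mod_cast hpn.symm,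
      mul_dvd_mul_iff_right hpi] at hu1
    obtain ⟨j, rfl⟩ := hu1
    exact ⟨j, hqz j⟩
  -- every element of `M` is a power modulo `U` of any element outside `U`
  have hgen : ∀ (x : G) (k : ℤ), x * a * x⁻¹ = a ^ (1 + q * k) →
      x * a ^ (q * k) * x⁻¹ = a ^ (q * k) → ¬ (p : ℤ) ∣ k →
      ∀ y ∈ M, ∃ (i : ℤ) (j : ℕ), y = a ^ i * x ^ j := by
    intro x k hxk hxfix hk y hy
    obtain ⟨l, hl, -, -⟩ := hMdata y hy
    obtain ⟨u, v, huv⟩ := (Nat.prime_iff_prime_int.1 hp.out).coprime_iff_not_dvd.2 hk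
    obtain ⟨j, hj⟩ : ∃ j : ℕ, (p : ℤ) ∣ (j : ℤ) * k - l := by
      refine ⟨((v * l) % p).toNat, ?_⟩
      have h0 : 0 ≤ (v * l) % (p : ℤ) := Int.emod_nonneg _ hpi
      rw [Int.toNat_of_nonneg h0, Int.emod_def]
      refine ⟨-u * l - (v * l) / p * k, ?_⟩
      linear_combination l * huv
    have h1 : y * (x ^ j)⁻¹ ∈ zpowers a := by
      have hxj := pow_mul_conj hxk hxfix j 1
      rw [zpow_one, one_mul, ← mul_inv_eq_iff_eq_mul] at hxj
      obtain ⟨t, ht⟩ := hj
      have hsame : x ^ j * a * (x ^ j)⁻¹ = y * a * y⁻¹ := by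
        rw [hxj, hl, ← div_eq_one, div_eq_mul_inv, ← zpow_sub, haz]
        refine ⟨t, ?_⟩
        rw [show (p : ℤ) ^ n = p * p ^ (n - 1) by exact_mod_cast hpn.symm, hq]
        linear_combination (p : ℤ) ^ (n - 1) * ht
      have hinv : (x ^ j)⁻¹ * a * x ^ j ∈ zpowers a := by
        simpa using (inferInstance : (zpowers a).Normal).conj_mem a (mem_zpowers a) (x ^ j)⁻¹
      obtain ⟨s, hs⟩ := mem_zpowers_iff.1 hinv
      rw [hmemU]
      calc y * (x ^ j)⁻¹ * a * (y * (x ^ j)⁻¹)⁻¹ = y * ((x ^ j)⁻¹ * a * x ^ j) * y⁻¹ := by group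
        _ = (y * a * y⁻¹) ^ s := by rw [← hs, conj_zpow]
        _ = x ^ j * a ^ s * (x ^ j)⁻¹ := by rw [← hsame, conj_zpow]
        _ = a := by rw [hs]; group
    obtain ⟨i, hi⟩ := mem_zpowers_iff.1 h1
    exact ⟨i, j, by rw [hi, inv_mul_cancel_right]⟩
  have hindex : (zpowers a).relIndex M = p := by
    have hsup : zpowers a ⊔ zpowers x = M := by
      refine le_antisymm (sup_le hUM (zpowers_le.2 hxM)) fun y hy => ?_
      obtain ⟨i, j, rfl⟩ := hgen x k hxk hxfix hk y hy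
      exact mul_mem (mem_sup_left (zpow_mem (mem_zpowers a) i))
        (mem_sup_right (pow_mem (mem_zpowers x) j))
    rw [← hsup, relIndex_sup_left]
    conv_lhs => rw [← QuotientGroup.ker_mk' (zpowers a)]
    rw [relIndex_ker, MonoidHom.map_zpowers, Nat.card_zpowers, orderOf_eq_prime_iff]
    refine ⟨?_, fun h => hx ((QuotientGroup.eq_one_iff x).1 h)⟩
    rw [← map_pow]
    exact (QuotientGroup.eq_one_iff _).2 hxp
  by_cases hn22 : p = 2 ∧ n = 2
  · -- order eight
    obtain ⟨rfl, rfl⟩ := hn22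
    left
    have htop : M = ⊤ := by
      rw [eq_top_iff]
      intro y _
      obtain ⟨r, hr⟩ := hconj y
      refine (hMmem y r hr).2 ?_
      norm_num
      by_contra hev
      obtain ⟨s, rfl⟩ : (2 : ℤ) ∣ r := by omega
      apply hz1
      have h : y * z * y⁻¹ = 1 := by
        rw [hz, show (2 : ℕ) ^ (2 - 1) = 2 by norm_num, ← conj_pow, hr, ← zpow_natCast, ← zpow_mul,
          haz]
        exact ⟨s, by push_cast; ring⟩
      rwa [conj_eq_one_iff] at h
    have hidx : (zpowers a).index = 2 := by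
      rw [← relIndex_top_right, ← htop]; exact hindex
    have hr4 : (1 + q * k) % 4 = 3 := by
      rw [hq]; norm_num
      have : k % 2 = 1 := by push_cast at hk; omega
      omega
    obtain ⟨h1, h2⟩ := left_branch hna (by norm_num) hUn hidx hx hxk hr4
    exact ⟨rfl, h1, h2⟩
  right
  refine ⟨hindex, ?_⟩
  -- the binomial term
  have hw : ∀ k' : ℤ, ∃ c : ℤ, q * k' * (p.choose 2 : ℕ) = p * c ∧ ¬ (p : ℤ) ∣ 1 + c := by
    intro k'
    have hq' : q = p * p ^ (n - 2) := by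
      rw [hq, ← pow_succ', show n - 2 + 1 = n - 1 by omega]
    refine ⟨(p : ℤ) ^ (n - 2) * k' * (p.choose 2 : ℕ), by rw [hq']; ring, ?_⟩
    have hd : (p : ℤ) ∣ (p : ℤ) ^ (n - 2) * k' * (p.choose 2 : ℕ) := by
      by_cases hp2' : p = 2
      · exact ((dvd_pow_self _ (by omega : n - 2 ≠ 0)).mul_right _).mul_right _
      · refine Dvd.dvd.mul_left ?_ _
        exact_mod_cast hp.out.dvd_choose_self two_ne_zero (by omega)
    rw [dvd_add_left hd]
    exact fun h => hp.out.ne_one (by exact_mod_cast Int.eq_one_of_dvd_one (by positivity) h)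
  -- an element of order `p` outside `U`
  obtain ⟨m, hm⟩ := mem_zpowers_iff.1 hxp
  obtain ⟨m', rfl⟩ : (p : ℤ) ∣ m := by
    have h : x * a ^ m * x⁻¹ = a ^ m := by
      rw [hm, ← pow_succ', pow_succ, mul_inv_cancel_right]
    rw [← conj_zpow, hxk, ← zpow_mul, ← div_eq_one, div_eq_mul_inv, ← zpow_sub, haz,
      show (1 + q * k) * m - m = q * (k * m) by ring,
      show (p : ℤ) ^ n = q * p by rw [hq, mul_comm]; exact_mod_cast hpn.symm] at h
    rcases (Nat.prime_iff_prime_int.1 hp.out).dvd_or_dvd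
      ((mul_dvd_mul_iff_left (pow_ne_zero _ hpi)).1 h) with h' | h'
    · exact absurd h' hk
    · exact h'
  obtain ⟨c, hc, hc1⟩ := hw k
  obtain ⟨u, w, huw⟩ := (IsCoprime.pow_left (m := n - 1)
    ((Nat.prime_iff_prime_int.1 hp.out).coprime_iff_not_dvd.2 hc1))
  set v := a ^ (-(m' * w)) * x with hv
  have hvp : v ^ p = 1 := by
    rw [hv, mul_pow_formula hxk hxfix, ← hm, ← zpow_add, haz, hc,
      show (p : ℤ) ^ n = p * p ^ (n - 1) by exact_mod_cast hpn.symm]
    refine ⟨m' * u, ?_⟩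
    linear_combination (-(p : ℤ) * m') * huw
  have hvM : v ∈ M := mul_mem (hUM (zpow_mem (mem_zpowers a) _)) hxM
  have hvU : v ∉ zpowers a := fun h => hx (by
    have := mul_mem (inv_mem (zpow_mem (mem_zpowers a) (-(m' * w)))) h
    rwa [hv, inv_mul_cancel_left] at this)
  obtain ⟨kv, hvk, hvfix, -⟩ := hMdata v hvM
  have hkv : ¬ (p : ℤ) ∣ kv := by
    rintro ⟨t, rfl⟩
    apply hvU
    rw [hmemU, hvk, zpow_add, zpow_one, mul_eq_left, haz]
    exact ⟨t, by rw [show (p : ℤ) ^ n = p * p ^ (n - 1) by exact_mod_cast hpn.symm, hq]; ring⟩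
  have hzfix : ∀ y ∈ M, y * z = z * y := by
    intro y hy
    obtain ⟨l, hl, -, -⟩ := hMdata y hy
    have h1 : z = a ^ q := by rw [← mul_one q, hqz, zpow_one]
    rw [← mul_inv_eq_iff_eq_mul, h1, ← conj_zpow, hl, ← zpow_mul, ← div_eq_one, div_eq_mul_inv,
      ← zpow_sub, haz, show (1 + q * l) * q - q = q * q * l by ring]
    refine Dvd.dvd.mul_right ?_ _
    rw [hq, ← pow_add]
    exact pow_dvd_pow _ (by omega)
  set E := zpowers z ⊔ zpowers v with hE
  have hzM : z ∈ M := hUM (pow_mem (mem_zpowers a) _)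
  have hEM : E ≤ M := sup_le (zpowers_le.2 hzM) (zpowers_le.2 hvM)
  have hzv : Commute z v := (hzfix v hvM).symm
  have hnv : zpowers v ≤ normalizer (zpowers z : Set G) := zpowers_le.2
    (centralizer_le_normalizer _ (mem_centralizer_iff.2 fun y hy => by
      obtain ⟨i, rfl⟩ := mem_zpowers_iff.1 hy
      exact (hzv.zpow_left i).eq))
  have hEmem : ∀ y ∈ E, ∃ i j : ℤ, y = z ^ i * v ^ j := by
    intro y hy
    obtain ⟨s, hs, t, ht, rfl⟩ := CfsgLib.Coprime.mem_sup_exists hnv hy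
    obtain ⟨i, rfl⟩ := mem_zpowers_iff.1 hs
    obtain ⟨j, rfl⟩ := mem_zpowers_iff.1 ht
    exact ⟨i, j, rfl⟩
  have hEp : ∀ y ∈ E, y ^ p = 1 := by
    intro y hy
    obtain ⟨i, j, rfl⟩ := hEmem y hy
    rw [(hzv.zpow_zpow i j).mul_pow, ← zpow_natCast, ← zpow_natCast (v ^ j), ← zpow_mul,
      ← zpow_mul, mul_comm i, mul_comm j, zpow_mul, zpow_mul, zpow_natCast, zpow_natCast, hzp, hvp,
      one_zpow, one_zpow, one_mul]
  have hEc : IsMulCommutative E := by
    refine ⟨⟨fun e f => Subtype.ext ?_⟩⟩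
    obtain ⟨i, j, h1⟩ := hEmem e e.2
    obtain ⟨i', j', h2⟩ := hEmem f f.2
    show (e : G) * f = f * e
    rw [h1, h2]
    exact ((((Commute.refl z).zpow_zpow i i').mul_right (hzv.zpow_zpow i j')).mul_left
      (((hzv.zpow_zpow i' j).symm).mul_right ((Commute.refl v).zpow_zpow j j'))).eq
  have hMp : ∀ y ∈ M, y ^ p = 1 → y ∈ E := by
    intro y hy hy1
    obtain ⟨i, j, rfl⟩ := hgen v kv hvk hvfix hkv y hy
    obtain ⟨k', hk', hfix', -⟩ := hMdata (v ^ j) (pow_mem hvM j)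
    obtain ⟨c', hc', hc1'⟩ := hw k'
    rw [mul_pow_formula hk' hfix', hc', ← pow_mul, mul_comm j p, pow_mul, hvp, one_pow, mul_one,
      haz, show (p : ℤ) ^ n = p * p ^ (n - 1) by exact_mod_cast hpn.symm,
      show i * ((p : ℤ) + p * c') = p * (i * (1 + c')) by ring, mul_dvd_mul_iff_left hpi] at hy1
    obtain ⟨t, rfl⟩ := ((IsCoprime.pow_left (m := n - 1)
      ((Nat.prime_iff_prime_int.1 hp.out).coprime_iff_not_dvd.2 hc1'))).dvd_of_dvd_mul_right hy1
    refine mul_mem (mem_sup_left ?_) (mem_sup_right (pow_mem (mem_zpowers v) j))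
    rw [hqz]
    exact zpow_mem (mem_zpowers z) t
  have hΩ : Cfsg.omegaOne p M = E := by
    refine le_antisymm ((closure_le _).2 fun y hy => hMp y hy.1 hy.2) fun y hy => ?_
    exact subset_closure ⟨hEM hy, hEp y hy⟩
  have hcard : Nat.card E = p ^ 2 := by
    have h := CfsgLib.EABasic.card_sup_mul_card_inf_of_le_normalizer hnv
    have hinf : zpowers v ⊓ zpowers z = ⊥ := by
      rw [eq_bot_iff]
      intro y hy
      obtain ⟨h1, h2⟩ := Subgroup.mem_inf.1 hy
      obtain ⟨j, rfl⟩ := mem_zpowers_iff.1 h1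
      have hU' : v ^ j ∈ zpowers a := (zpowers_le.2 (pow_mem (mem_zpowers a) _)) h2
      by_cases hd : (p : ℤ) ∣ j
      · exact mem_bot.2 (CfsgLib.TwoConjugate.zpow_eq_one_of_dvd hvp hd)
      · exact absurd (CfsgLib.TwoConjugate.mem_of_zpow_mem hvp hd hU') hvU
    rw [hinf, card_bot, mul_one, sup_comm, ← hE, Nat.card_zpowers, Nat.card_zpowers, hzo,
      orderOf_eq_prime hvp fun e => hvU (e ▸ one_mem _)] at h
    rw [h, pow_two]
  rw [hΩ]
  refine ⟨⟨hEc, hEp⟩, hcard, ?_⟩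
  have hEn : E.Normal := by
    refine ⟨fun y hy g => ?_⟩
    obtain ⟨r, hr⟩ := hconj y
    obtain ⟨s, hs⟩ := mem_zpowers_iff.1
      ((inferInstance : (zpowers a).Normal).conj_mem a (mem_zpowers a) g⁻¹)
    refine hMp _ ((hMmem _ r ?_).2 ((hMmem y r hr).1 (hEM hy)))
      (by rw [conj_pow, hEp y hy, mul_one, mul_inv_cancel])
    calc g * y * g⁻¹ * a * (g * y * g⁻¹)⁻¹ = g * (y * (g⁻¹ * a * g⁻¹⁻¹) * y⁻¹) * g⁻¹ := by group
      _ = g * ((a ^ s) ^ r) * g⁻¹ := by
        rw [← hs, ← conj_zpow, hr, ← zpow_mul, ← zpow_mul, mul_comm]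
      _ = a ^ r := by rw [hs, ← conj_zpow]; congr 1; group
  rw [characteristic_iff_map_le]
  intro φ
  set E' := E.map φ.toMonoidHom with hE'
  haveI : E'.Normal := hEn.map _ φ.surjective
  have hE'p : ∀ y ∈ E', y ^ p = 1 := by
    rintro _ ⟨y, hy, rfl⟩
    rw [← map_pow, hEp y hy, map_one]
  obtain ⟨w0, hw0, hw0o, hw0c⟩ := CfsgLib.CharPLoc.exists_central_order (p := p)
    (T := (⊤ : Subgroup G)) (R := E') (hG.to_subgroup ⊤) le_top
    (by rw [normalizer_eq_top (H := E')]) (fun e => by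
      have h := card_map_of_injective (K := E) (f := φ.toMonoidHom) φ.injective
      rw [← hE', e, card_bot, hcard] at h
      have := Nat.one_lt_pow (two_ne_zero) hp.out.one_lt
      omega)
  have hw0U : w0 ∈ zpowers a := (hmemU w0).2 (by
    rw [← hw0c a (mem_top a), mul_inv_cancel_right])
  obtain ⟨j0, hj0⟩ := hUmem w0 hw0U (hE'p w0 hw0)
  have hzE' : z ∈ E' := by
    have h : zpowers w0 = zpowers z := eq_of_le_of_card_ge
      (zpowers_le.2 (hj0 ▸ zpow_mem (mem_zpowers z) j0))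
      (by rw [Nat.card_zpowers, Nat.card_zpowers, hw0o, hzo])
    exact (zpowers_le.2 hw0) (h.ge (mem_zpowers z))
  intro y hy
  refine hMp y ?_ (hE'p y hy)
  have hyU : y * a * y⁻¹ * a⁻¹ ∈ zpowers a :=
    mul_mem ((inferInstance : (zpowers a).Normal).conj_mem a (mem_zpowers a) y)
      (inv_mem (mem_zpowers a))
  have hyE : y * a * y⁻¹ * a⁻¹ ∈ E' := by
    rw [show y * a * y⁻¹ * a⁻¹ = y * (a * y⁻¹ * a⁻¹) by group]
    exact mul_mem hy ((inferInstance : E'.Normal).conj_mem _ (inv_mem hy) a)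
  obtain ⟨j, hj⟩ := hUmem _ hyU (hE'p _ hyE)
  refine (hMmem y (1 + q * j) ?_).2 ⟨j, by rw [hq]; ring⟩
  calc y * a * y⁻¹ = (y * a * y⁻¹ * a⁻¹) * a := by group
    _ = a ^ (q * j) * a ^ (1 : ℤ) := by rw [hj, hqz, zpow_one]
    _ = _ := by rw [← zpow_add, add_comm]

end CfsgLib.SelfCentCyclic
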