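import Mathlib

/-!
Isaacs, *Subgroups generated by small classes in finite groups*.
-/
set_option autoImplicit false

namespace CfsgLib.SmallClasses

open Subgroup
open scoped commutatorElement

variable {G : Type*} [Group G] [Finite G]

private theorem card_mul_relIndex' {H K : Subgroup G} (h : H ≤ K) :
    Nat.card H * H.relIndex K = Nat.card K := by
  rw [← relIndex_bot_left, relIndex_mul_relIndex _ _ _ bot_le h, relIndex_bot_left]

private theorem card_centralizer_mul_index (x : G) :
    Nat.card (centralizer ({x} : Set G)) * (centralizer ({x} : Set G)).index = Nat.card G :=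
  Subgroup.card_mul_index _

/-- An element of smallest nontrivial class size moves an abelian normal self-centralizing
subgroup into the centre. -/
theorem commutator_mem_center {A : Subgroup G} [A.Normal] (hA : IsMulCommutative A)
    (m : ℕ) (hmin : ∀ x : G, 1 < (centralizer ({x} : Set G)).index →
      m ≤ (centralizer ({x} : Set G)).index)
    (x : G) (hx : (centralizer ({x} : Set G)).index ≤ m) (a : G) (ha : a ∈ A) :
    ⁅a, x⁆ ∈ center G := by
  classical
  set C := centralizer ({x} : Set G) with hC
  haveI := hA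
  have hcomm : ∀ b ∈ A, ∀ c ∈ A, b * c = c * b := fun b hb c hc =>
    congrArg Subtype.val (mul_comm' (⟨b, hb⟩ : A) ⟨c, hc⟩)
  have hmemA : ∀ b ∈ A, ⁅b, x⁆ ∈ A := fun b hb => by
    rw [commutatorElement_def, mul_assoc, mul_assoc]
    exact mul_mem hb (by simpa [mul_assoc] using (inferInstance : A.Normal).conj_mem _ (inv_mem hb) x)
  have hhom : ∀ b ∈ A, ∀ c ∈ A, ⁅b * c, x⁆ = ⁅b, x⁆ * ⁅c, x⁆ := fun b hb c hc => by
    rw [show ⁅b * c, x⁆ = b * ⁅c, x⁆ * b⁻¹ * ⁅b, x⁆ by simp only [commutatorElement_def]; group,
      hcomm b hb _ (hmemA c hc), mul_inv_cancel_right, hcomm _ (hmemA c hc) _ (hmemA b hb)]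
  let f : A →* G :=
    { toFun := fun b => ⁅(b : G), x⁆
      map_one' := by simp
      map_mul' := fun b c => hhom b b.2 c c.2 }
  by_contra hnc
  set y := ⁅a, x⁆ with hy
  have hy1 : y ≠ 1 := fun h => hnc (h ▸ one_mem _)
  have hyidx : 1 < (centralizer ({y} : Set G)).index := by
    have h0 : (centralizer ({y} : Set G)).index ≠ 0 := index_ne_zero_of_finite
    have h1 : (centralizer ({y} : Set G)).index ≠ 1 := by
      rw [Ne, index_eq_one]
      intro h
      refine hnc (mem_center_iff.2 fun g => ?_)
      have hg : g ∈ centralizer ({y} : Set G) := h ▸ mem_top g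
      exact (mem_centralizer_singleton_iff.1 hg)
    omega
  have hle : Nat.card (centralizer ({y} : Set G)) ≤ Nat.card C := by
    have e1 := card_centralizer_mul_index x
    have e2 := card_centralizer_mul_index y
    have hmy := hmin y hyidx
    by_contra hlt
    push Not at hlt
    have : Nat.card G < Nat.card G := by
      calc Nat.card G = Nat.card C * C.index := e1.symm
        _ < Nat.card (centralizer ({y} : Set G)) * C.index := by
          refine Nat.mul_lt_mul_of_pos_right hlt (Nat.pos_of_ne_zero index_ne_zero_of_finite)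
        _ ≤ Nat.card (centralizer ({y} : Set G)) * (centralizer ({y} : Set G)).index :=
          Nat.mul_le_mul_left _ (hx.trans hmy)
        _ = Nat.card G := e2
    exact lt_irrefl _ this
  -- the action of `C` by conjugation on `[A, x]`
  set Y := f.range with hY
  have hyY : y ∈ Y := ⟨⟨a, ha⟩, rfl⟩
  set Cy := C ⊓ centralizer ({y} : Set G) with hCy
  have hsub : A ⊔ Cy ≤ centralizer ({y} : Set G) := by
    refine sup_le (fun b hb => mem_centralizer_singleton_iff.2 ?_) inf_le_right
    exact hcomm b hb y (hmemA a ha)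
  -- |A Cy| = |A| |Cy| / |A ∩ Cy|
  have hker : Nat.card f.ker = Nat.card ↥(A ⊓ C) := by
    refine Nat.card_congr ⟨fun b => ⟨b.1.1, b.1.2, ?_⟩, fun b => ⟨⟨b.1, b.2.1⟩, ?_⟩,
      fun _ => rfl, fun _ => rfl⟩
    · exact mem_centralizer_singleton_iff.2 (commutatorElement_eq_one_iff_mul_comm.1 b.2)
    · exact commutatorElement_eq_one_iff_mul_comm.2 (mem_centralizer_singleton_iff.1 b.2.2)
  have hAcard : Nat.card A = Nat.card Y * Nat.card ↥(A ⊓ C) := by
    rw [← hker, ← Subgroup.index_mul_card f.ker, Subgroup.index_ker]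
  have hinf : A ⊓ Cy = A ⊓ C := by
    refine le_antisymm (inf_le_inf_left _ inf_le_left) (le_inf inf_le_left (le_inf inf_le_right ?_))
    exact fun b hb => mem_centralizer_singleton_iff.2 (hcomm b hb.1 y (hmemA a ha))
  have hbig : Nat.card Y * Nat.card Cy ≤ Nat.card C := by
    refine le_trans (le_trans ?_ (Subgroup.card_le_of_le hsub)) hle
    have h1 : Nat.card ↥(A ⊔ Cy) = Nat.card A * A.relIndex (A ⊔ Cy) :=
      (card_mul_relIndex' le_sup_left).symm
    have h2 : A.relIndex (A ⊔ Cy) = A.relIndex Cy := relIndex_sup_left ..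
    have h3 : Nat.card Cy = Nat.card ↥(A ⊓ Cy) * A.relIndex Cy := by
      rw [← inf_relIndex_right A Cy, card_mul_relIndex' inf_le_right]
    rw [h1, h2, h3, hinf, hAcard]
    exact le_of_eq (by ring)
  -- the orbit of `y` under `C` misses the identity
  have horb : Cy.relIndex C < Nat.card Y := by
    have hinj : ∀ c d : C, ((c : G) * y * (c : G)⁻¹ = (d : G) * y * (d : G)⁻¹) →
        (QuotientGroup.mk c : C ⧸ Cy.subgroupOf C) = QuotientGroup.mk d := by
      intro c d h
      refine QuotientGroup.eq.2 ?_
      show ((c⁻¹ * d : C) : G) ∈ Cy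
      refine ⟨(c⁻¹ * d).2, mem_centralizer_singleton_iff.2 ?_⟩
      push_cast
      calc (c : G)⁻¹ * d * y = (c : G)⁻¹ * ((d : G) * y * (d : G)⁻¹) * d := by group
        _ = (c : G)⁻¹ * ((c : G) * y * (c : G)⁻¹) * d := by rw [h]
        _ = y * ((c : G)⁻¹ * d) := by group
    have himg : ∀ c : C, (c : G) * y * (c : G)⁻¹ ∈ (Y : Set G) \ {1} := by
      intro c
      refine ⟨⟨⟨(c : G) * a * (c : G)⁻¹, (inferInstance : A.Normal).conj_mem _ ha _⟩, ?_⟩, ?_⟩
      · show ⁅(c : G) * a * (c : G)⁻¹, x⁆ = (c : G) * ⁅a, x⁆ * (c : G)⁻¹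
        have hcx : (c : G) * x * (c : G)⁻¹ = x := by
          rw [mem_centralizer_singleton_iff.1 c.2, mul_inv_cancel_right]
        conv_lhs => rw [← hcx]
        exact (conjugate_commutatorElement a x (c : G)).symm
      · intro h
        refine hy1 ?_
        rw [Set.mem_singleton_iff] at h
        simpa [mul_assoc] using congrArg (fun t => (c : G)⁻¹ * t * (c : G)) h
    let g : C ⧸ Cy.subgroupOf C → ↥((Y : Set G) \ {1}) := fun q => ⟨_, himg q.out⟩
    have hg : Function.Injective g := fun q r h => by
      have := hinj q.out r.out (congrArg Subtype.val h)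
      rwa [QuotientGroup.out_eq', QuotientGroup.out_eq'] at this
    have h1 := Nat.card_le_card_of_injective g hg
    have h2 : Nat.card ↥((Y : Set G) \ {1}) < Nat.card Y := by
      rw [Nat.card_coe_set_eq]
      exact (Set.ncard_diff_singleton_lt_of_mem (one_mem Y)).trans_eq (Nat.card_coe_set_eq (Y : Set G)).symm
    exact lt_of_le_of_lt h1 h2
  have hC2 : Nat.card C = Nat.card Cy * Cy.relIndex C := (card_mul_relIndex' inf_le_left).symm
  have : Nat.card Cy * Cy.relIndex C < Nat.card Y * Nat.card Cy := by
    rw [mul_comm (Nat.card Y)]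
    exact Nat.mul_lt_mul_of_pos_left horb Nat.card_pos
  omega

/-- Isaacs: the subgroup generated by the central and the smallest noncentral classes has class
at most three. -/
theorem class_le_three {A : Subgroup G} [A.Normal] (hA : IsMulCommutative A)
    (hCA : centralizer (A : Set G) = A)
    (m : ℕ) (hm1 : 1 < m)
    (hmin : ∀ x : G, 1 < (centralizer ({x} : Set G)).index →
      m ≤ (centralizer ({x} : Set G)).index) :
    Subgroup.upperCentralSeries ↥(closure {x : G | (centralizer ({x} : Set G)).index = 1 ∨
      (centralizer ({x} : Set G)).index = m}) 3 = ⊤ := by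
  set M := closure {x : G | (centralizer ({x} : Set G)).index = 1 ∨
      (centralizer ({x} : Set G)).index = m} with hM
  have hAM : ⁅A, M⁆ ≤ center G := by
    rw [commutator_comm, commutator_le]
    intro g hg a ha
    let q := QuotientGroup.mk' (center G)
    have key : ∀ g ∈ M, ∀ a ∈ A, q g * q a = q a * q g := by
      intro g hg
      induction hg using closure_induction with
      | mem x hx =>
        intro a ha
        have h := commutator_mem_center hA m hmin x (by rcases hx with h | h <;> omega) a ha
        have : q ⁅a, x⁆ = 1 := (QuotientGroup.eq_one_iff _).2 h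
        rw [map_commutatorElement, commutatorElement_eq_one_iff_mul_comm] at this
        exact this.symm
      | one => simp
      | mul x y _ _ hx hy =>
        intro a ha
        rw [map_mul, mul_assoc, hy a ha, ← mul_assoc, hx a ha, mul_assoc]
      | inv x _ hx =>
        intro a ha
        rw [map_inv]
        exact (Commute.inv_left (hx a ha)).eq
    refine (QuotientGroup.eq_one_iff _).1 ?_
    show q ⁅g, a⁆ = 1
    rw [map_commutatorElement]
    exact commutatorElement_eq_one_iff_mul_comm.2 (key g hg a ha)
  have hcenter : ∀ K : Subgroup G, ⁅center G, K⁆ = ⊥ := fun K =>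
    commutator_eq_bot_iff_le_centralizer.2 (center_le_centralizer _)
  have h1 : ⁅⁅A, M⁆, M⁆ = ⊥ := eq_bot_iff.2 ((commutator_mono hAM le_rfl).trans (hcenter M).le)
  have h2 : ⁅M, M⁆ ≤ A := by
    rw [← hCA, ← commutator_eq_bot_iff_le_centralizer]
    refine commutator_commutator_eq_bot_of_rotate ?_ h1
    rw [commutator_comm M A]
    exact h1
  have h3 : M.lowerCentralSeries 3 = ⊥ := by
    simp only [Subgroup.lowerCentralSeries_succ, Subgroup.lowerCentralSeries_zero]
    refine eq_bot_iff.2 ((commutator_mono (commutator_mono h2 le_rfl) le_rfl).trans h1.le)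
  rw [← lowerCentralSeries_eq_bot_iff_upperCentralSeries_eq_top]
  apply Subgroup.map_injective M.subtype_injective
  rw [top_subtype_lowerCentralSeries, h3, Subgroup.map_bot]

/-- A largest abelian normal subgroup of a nilpotent group is its own centralizer. -/
theorem exists_selfCentralizing (hN : Group.IsNilpotent G) :
    ∃ A : Subgroup G, A.Normal ∧ IsMulCommutative A ∧ centralizer (A : Set G) = A := by
  obtain ⟨A, ⟨hAn, hAc⟩, hmax⟩ :=
    Set.exists_max_image {A : Subgroup G | A.Normal ∧ IsMulCommutative A}
      (fun A => Nat.card A) (Set.toFinite _) ⟨⊥, inferInstance, inferInstance⟩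
  haveI := hAn
  haveI := hAc
  refine ⟨A, hAn, hAc, le_antisymm ?_ (le_centralizer A)⟩
  intro c hc
  by_contra hcA
  obtain ⟨n, hn⟩ := hN.1
  -- least term of the series meeting `C(A)` outside `A`
  have hex : ∃ i, ∃ u ∈ Subgroup.upperCentralSeries G i, u ∈ centralizer (A : Set G) ∧ u ∉ A :=
    ⟨n, c, hn ▸ mem_top c, hc, hcA⟩
  classical
  obtain ⟨u, hu, huC, huA⟩ := Nat.find_spec hex
  have hcom : ∀ g : G, ⁅u, g⁆ ∈ A := by
    intro g
    have hC : (centralizer (A : Set G)).Normal := inferInstance
    have h1 : ⁅u, g⁆ ∈ centralizer (A : Set G) := by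
      rw [commutatorElement_def, mul_assoc, mul_assoc]
      exact mul_mem huC (by simpa [mul_assoc] using hC.conj_mem _ (inv_mem huC) g)
    by_contra h2
    rcases h0 : Nat.find hex with _ | k
    · rw [h0] at hu
      exact huA ((mem_bot.1 hu) ▸ one_mem A)
    · rw [h0] at hu
      exact Nat.find_min hex (h0 ▸ Nat.lt_succ_self k)
        ⟨_, (Subgroup.mem_upperCentralSeries_succ_iff.1 hu g), h1, h2⟩
  set B := A ⊔ zpowers u with hB
  have hBn : B.Normal := by
    refine ⟨fun b hb g => ?_⟩
    have hle : B ≤ B.comap (MulAut.conj g).toMonoidHom := by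
      refine sup_le (fun a ha => ?_) ?_
      · exact mem_sup_left (hAn.conj_mem a ha g)
      · rw [zpowers_le]
        show g * u * g⁻¹ ∈ B
        rw [show g * u * g⁻¹ = ⁅u, g⁆⁻¹ * u by simp only [commutatorElement_def]; group]
        exact mul_mem (mem_sup_left (inv_mem (hcom g))) (mem_sup_right (mem_zpowers u))
    exact hle hb
  have hBc : IsMulCommutative B := by
    refine le_centralizer_iff_isMulCommutative.1 ?_
    refine sup_le (le_centralizer_iff.1 (sup_le (le_centralizer A) ?_))
      (le_centralizer_iff.1 (sup_le ?_ (le_centralizer (zpowers u))))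
    · rw [zpowers_le]; exact huC
    · rw [le_centralizer_iff, zpowers_le]; exact huC
  have := eq_of_le_of_card_ge (le_sup_left : A ≤ B) (hmax B ⟨hBn, hBc⟩)
  exact huA (this ▸ mem_sup_right (mem_zpowers u))

end CfsgLib.SmallClasses
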