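import Cfsg.Agent.Lib.PGroup.SmallCommutatorModule

/-!
The imprimitive case for groups with an element moving only a plane.
-/

set_option autoImplicit false
set_option linter.style.haveILetI false
set_option linter.unusedSectionVars false
set_option maxHeartbeats 1000000

open Subgroup

namespace CfsgLib.SmallComm

universe u v

variable {H : Type u} [Group H] [Finite H] {W : Type v} [AddCommGroup W] [Module (ZMod 2) W]
  [Finite W] (ρ : H →* Module.End (ZMod 2) W) (c : H)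

theorem conj_conj (h k : H) (f : Module.End (ZMod 2) W) :
    ρ k * (ρ h * f * ρ h⁻¹) * ρ k⁻¹ = ρ (k * h) * f * ρ (k * h)⁻¹ := by
  rw [map_mul, mul_inv_rev, map_mul]
  simp only [mul_assoc]

theorem conj_one (f : Module.End (ZMod 2) W) : ρ 1 * f * ρ 1⁻¹ = f := by
  rw [inv_one, map_one, one_mul, mul_one]

theorem conj_inj (k : H) {f f' : Module.End (ZMod 2) W}
    (h : ρ k * f * ρ k⁻¹ = ρ k * f' * ρ k⁻¹) : f = f' := by
  have h' := congrArg (fun x => ρ k⁻¹ * x * ρ k⁻¹⁻¹) h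
  have e : ∀ x : Module.End (ZMod 2) W, ρ k⁻¹ * (ρ k * x * ρ k⁻¹) * ρ k⁻¹⁻¹ = x := fun x => by
    rw [conj_conj, inv_mul_cancel, conj_one]
  simpa only [e] using h'

theorem range_conj (h : H) (f : Module.End (ZMod 2) W) :
    LinearMap.range (ρ h * f * ρ h⁻¹) = (LinearMap.range f).map (ρ h) := by
  refine le_antisymm ?_ ?_
  · rintro _ ⟨y, rfl⟩
    exact ⟨f (ρ h⁻¹ y), ⟨_, rfl⟩, rfl⟩
  · rintro _ ⟨_, ⟨y, rfl⟩, rfl⟩
    exact ⟨ρ h y, by rw [Module.End.mul_apply, Module.End.mul_apply, apply_inv]⟩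

theorem exists_moved (hc : Small ρ c) : ∃ u, ρ c u ≠ u := by
  by_contra h
  push Not at h
  have h1 : ρ c - 1 = 0 := LinearMap.ext fun w => by
    rw [T_apply, h w, addSelf, LinearMap.zero_apply]
  have h4 := hc.2.2
  rw [h1, LinearMap.range_zero] at h4
  simp at h4

theorem T_eq_zero_iff (w : W) : (ρ c - 1) w = 0 ↔ ρ c w = w := by
  rw [T_apply]
  exact ⟨fun h => add_right_cancel (h.trans (addSelf w).symm), fun h => by rw [h, addSelf]⟩

theorem gap_three {r : ℕ} (hrp : r.Prime) (hr : 5 ≤ r) :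
    ∀ a b : ℕ, a ≤ 2 → b ≤ a → r ∣ 3 ^ a - 3 ^ b → a = b := by
  intro a b ha hb hd
  have key : ∀ k : ℕ, (k = 2 ∨ k = 6 ∨ k = 8) → ¬ r ∣ k := by
    intro k hk hd
    have hle : r ≤ 8 := (Nat.le_of_dvd (by omega) hd).trans (by omega)
    interval_cases r <;> first | omega | (norm_num at hrp)
  interval_cases a <;> interval_cases b <;> first | rfl | (exfalso; exact key _ (by norm_num) hd)

/-- A group of order a power of three in `F₀` of order above nine contains one of order 27. -/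
theorem exists_card_27 {G : Type u} [Group G] [Finite G] {P : Subgroup G} (hP : IsPGroup 3 P)
    (hr : ¬ Cfsg.PRankLE 3 2 P) :
    ∃ F : Subgroup G, F ≤ P ∧ Cfsg.IsElementaryAbelian 3 F ∧ Nat.card F = 3 ^ 3 := by
  haveI : Fact (Nat.Prime 3) := ⟨Nat.prime_three⟩
  simp only [Cfsg.PRankLE, not_forall, not_le] at hr
  obtain ⟨F₀, hF₀c, hF₀e, hF₀k⟩ := hr
  obtain ⟨j, hj⟩ := IsPGroup.iff_card.1 (hP.to_subgroup F₀)
  obtain ⟨F₁, hF₁⟩ := Sylow.exists_subgroup_card_pow_prime (G := F₀) 3 (n := 3) (by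
    rw [hj]
    refine pow_dvd_pow 3 ?_
    by_contra hlt
    rw [hj] at hF₀k
    have := Nat.pow_le_pow_right (show 3 > 0 by norm_num) (show j ≤ 2 by omega)
    omega)
  refine ⟨(F₁.map F₀.subtype).map P.subtype, map_subtype_le _, ⟨?_, ?_⟩, ?_⟩
  · haveI := hF₀c
    infer_instance
  · rintro _ ⟨_, ⟨x, -, rfl⟩, rfl⟩
    rw [← map_pow, show F₀.subtype x ^ 3 = 1 from hF₀e _ x.2, map_one]
  · rw [card_map_of_injective P.subtype_injective, card_map_of_injective F₀.subtype_injective, hF₁]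

/-- Blocks are not moved by the element moving only a plane. -/
theorem blocks_fixed (hc : Small ρ c) {O : Set (Module.End (ZMod 2) W)} (hO : Blocks ρ O)
    (hirr : ∀ U : Submodule (ZMod 2) W, (∀ h, ∀ u ∈ U, ρ h u ∈ U) → U = ⊥ ∨ U = ⊤) :
    ∀ f ∈ O, ρ c * f * ρ c⁻¹ = f := by
  classical
  haveI : Finite (Module.End (ZMod 2) W) := finite_end
  obtain ⟨hne, hidem, horth, hconj, htrans⟩ := hO
  obtain ⟨u₀, hu₀⟩ := exists_moved ρ c hc
  have hmem : ∀ {f : Module.End (ZMod 2) W}, f ∈ O → ∀ {w : W}, w ∈ LinearMap.range f → f w = w := by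
    rintro f hf _ ⟨y, rfl⟩
    rw [← Module.End.mul_apply, (hidem f hf).1]
  have hzero : ∀ {f f' : Module.End (ZMod 2) W}, f ∈ O → f' ∈ O → f ≠ f' →
      ∀ {w : W}, w ∈ LinearMap.range f' → f w = 0 := by
    rintro f f' hf hf' hne _ ⟨y, rfl⟩
    rw [← Module.End.mul_apply, horth f hf f' hf' hne, LinearMap.zero_apply]
  intro f hf
  by_contra hne1
  have hf' := hconj c f hf
  set f' := ρ c * f * ρ c⁻¹ with hf'def
  have hf'' := hconj c f' hf'
  set f'' := ρ c * f' * ρ c⁻¹ with hf''def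
  have h3 : ρ (c * (c * c)) = 1 := by
    rw [map_mul, map_mul, ← hc.2.1, pow_succ', pow_two]
  have h3' : ρ (c * (c * c))⁻¹ = 1 := by
    have h := map_mul ρ (c * (c * c))⁻¹ (c * (c * c))
    rw [inv_mul_cancel, map_one, h3, mul_one] at h
    exact h.symm
  have hne3 : f'' ≠ f' := fun e => hne1 (conj_inj ρ c e)
  have hne2 : f'' ≠ f := fun e => hne1 (by
    have e3 : ρ c * f'' * ρ c⁻¹ = f := by
      rw [hf''def, hf'def, conj_conj, conj_conj, mul_assoc c c c, h3, h3', one_mul, mul_one]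
    rwa [e, ← hf'def] at e3)
  obtain ⟨u, hu, hu0⟩ : ∃ u ∈ LinearMap.range f, u ≠ 0 := by
    by_contra hh
    push Not at hh
    exact (hidem f hf).2.1 (LinearMap.ext fun w => hh _ ⟨w, rfl⟩)
  have hcu : ρ c u ∈ LinearMap.range f' := by rw [hf'def, range_conj]; exact ⟨u, hu, rfl⟩
  have hccu : ρ c (ρ c u) ∈ LinearMap.range f'' := by
    rw [hf''def, range_conj]; exact ⟨_, hcu, rfl⟩
  let g := f.comp (LinearMap.range (ρ c - 1)).subtype
  have hker : 2 ≤ Nat.card (LinearMap.ker g) := by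
    have hv2 : (ρ c - 1) (ρ c u) ≠ 0 := by
      rw [T_apply]
      intro e
      have h := congrArg f'' e
      rw [map_add, map_zero, hmem hf'' hccu, hzero hf'' hf' hne3 hcu, add_zero] at h
      exact hu0 (CfsgLib.PGroup.rep_injective ρ c (CfsgLib.PGroup.rep_injective ρ c
        (h.trans ((congrArg (ρ c) (map_zero (ρ c))).trans (map_zero _)).symm)))
    have hin : (⟨(ρ c - 1) (ρ c u), _, rfl⟩ : LinearMap.range (ρ c - 1)) ∈ LinearMap.ker g := by
      rw [LinearMap.mem_ker]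
      show f ((ρ c - 1) (ρ c u)) = 0
      rw [T_apply, map_add, hzero hf hf'' (Ne.symm hne2) hccu, hzero hf hf' (Ne.symm hne1) hcu,
        add_zero]
    haveI : Nontrivial (LinearMap.ker g) := ⟨⟨⟨_, hin⟩, 0, fun e => hv2
      (congrArg (fun z : LinearMap.ker g => ((z : LinearMap.range (ρ c - 1)) : W)) e)⟩⟩
    exact Finite.one_lt_card
  have himg : Nat.card (LinearMap.range g) ≤ 2 := by
    have h := card_ker_mul_range g
    rw [hc.2.2] at h
    nlinarith
  have hsize : Nat.card (LinearMap.range f) ≤ 2 := by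
    refine le_trans (Nat.card_le_card_of_injective (fun x : LinearMap.range f =>
      (⟨(x : W), ⟨⟨(ρ c - 1) x, _, rfl⟩, ?_⟩⟩ : LinearMap.range g))
      fun a b h => Subtype.ext (congrArg (fun z : LinearMap.range g => (z : W)) h)) himg
    show f ((ρ c - 1) (x : W)) = x
    have hcx : ρ c (x : W) ∈ LinearMap.range f' := by rw [hf'def, range_conj]; exact ⟨_, x.2, rfl⟩
    rw [T_apply, map_add, hzero hf hf' (Ne.symm hne1) hcx, hmem hf x.2, zero_add]
  have hsz : ∀ f₁ ∈ O, Nat.card (LinearMap.range f₁) ≤ 2 := by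
    intro f₁ hf₁
    obtain ⟨h, rfl⟩ := htrans f hf f₁ hf₁
    rw [range_conj, ← Nat.card_congr (Submodule.equivMapOfInjective (ρ h)
      (CfsgLib.PGroup.rep_injective ρ h) _).toEquiv]
    exact hsize
  have hex : ∀ f₁ : Module.End (ZMod 2) W, ∃ w, f₁ ∈ O → w ∈ LinearMap.range f₁ ∧ w ≠ 0 := by
    intro f₁
    by_cases hf₁ : f₁ ∈ O
    · by_contra hh
      push Not at hh
      exact (hidem f₁ hf₁).2.1 (LinearMap.ext fun w => (hh (f₁ w)).2 ⟨w, rfl⟩)
    · exact ⟨0, fun h => absurd h hf₁⟩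
  choose φ hφ using hex
  have huniq : ∀ f₁ ∈ O, ∀ w ∈ LinearMap.range f₁, w ≠ 0 → w = φ f₁ := by
    intro f₁ hf₁ w hw hw0
    by_contra hne4
    have h3 : 3 ≤ Nat.card (LinearMap.range f₁) := by
      let F : Fin 3 → LinearMap.range f₁ := ![⟨0, zero_mem _⟩, ⟨w, hw⟩, ⟨φ f₁, (hφ f₁ hf₁).1⟩]
      have hF : Function.Injective F := by
        intro i j h
        fin_cases i <;> fin_cases j <;>
          simp [F, Subtype.ext_iff, hw0, hne4, (hφ f₁ hf₁).2, Ne.symm hne4, eq_comm] at h ⊢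
      simpa using Nat.card_le_card_of_injective F hF
    have := hsz f₁ hf₁
    omega
  set S := O.toFinite.toFinset with hS
  let Fx : Submodule (ZMod 2) W :=
    { carrier := {w | ∀ h, ρ h w = w}
      add_mem' := fun {a b} ha hb h => by rw [map_add, ha h, hb h]
      zero_mem' := fun h => map_zero _
      smul_mem' := fun t x hx h => by rw [map_smul, hx h] }
  have hs : ∑ f₁ ∈ S, φ f₁ ∈ Fx := by
    intro h
    rw [map_sum]
    refine Finset.sum_bij (fun f₁ _ => ρ h * f₁ * ρ h⁻¹) (fun a ha => ?_)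
      (fun a _ b _ e => conj_inj ρ h e) (fun b hb => ⟨ρ h⁻¹ * b * ρ h⁻¹⁻¹, ?_, ?_⟩) fun a ha => ?_
    · exact (Set.Finite.mem_toFinset _).2 (hconj h a ((Set.Finite.mem_toFinset _).1 ha))
    · exact (Set.Finite.mem_toFinset _).2 (hconj h⁻¹ b ((Set.Finite.mem_toFinset _).1 hb))
    · rw [conj_conj, mul_inv_cancel, conj_one]
    · have haO := (Set.Finite.mem_toFinset _).1 ha
      refine huniq _ (hconj h a haO) _ ?_ fun e => (hφ a haO).2
        (CfsgLib.PGroup.rep_injective ρ h (e.trans (map_zero _).symm))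
      rw [range_conj]
      exact ⟨_, (hφ a haO).1, rfl⟩
  have hs0 : f (∑ f₁ ∈ S, φ f₁) = φ f := by
    rw [map_sum, Finset.sum_eq_single f]
    · exact hmem hf (hφ f hf).1
    · intro b hb hbf
      have hbO := (Set.Finite.mem_toFinset _).1 hb
      exact hzero hf hbO (Ne.symm hbf) (hφ b hbO).1
    · exact fun h => absurd ((Set.Finite.mem_toFinset _).2 hf) h
  rcases hirr Fx (fun h u hu k => by rw [hu h]; exact hu k) with h | h
  · have h0 := (Submodule.mem_bot _).1 (h.le hs)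
    rw [h0, map_zero] at hs0
    exact (hφ f hf).2 hs0.symm
  · exact hu₀ ((h.ge Submodule.mem_top : u₀ ∈ Fx) c)

/-- The imprimitive case. -/
theorem of_blocks {N : ℕ} (IH : ∀ M < N, Stmt.{u, v} M) [Group.IsSolvable H]
    (hodd : Odd (Nat.card H)) (hN : Nat.card H + Nat.card W = N) (hc : Small ρ c)
    {r : ℕ} (hr : r.Prime) (E : Subgroup H) (hE : Cfsg.IsElementaryAbelian r E)
    (hE3 : Nat.card E = r ^ 3) (hπ : ∀ s : ℕ, s.Prime → s ∣ Nat.card H → s = 3 ∨ s = r)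
    (hirr : ∀ U : Submodule (ZMod 2) W, (∀ h, ∀ u ∈ U, ρ h u ∈ U) → U = ⊥ ∨ U = ⊤)
    {O : Set (Module.End (ZMod 2) W)} (hO : Blocks ρ O) : Good ρ c := by
  classical
  haveI : Finite (Module.End (ZMod 2) W) := finite_end
  haveI := Fact.mk hr
  haveI : Fact (Nat.Prime 3) := ⟨Nat.prime_three⟩
  have hcfix := blocks_fixed ρ c hc hO hirr
  obtain ⟨hne, hidem, horth, hconj, htrans⟩ := hO
  obtain ⟨u₀, hu₀⟩ := exists_moved ρ c hc
  have hmem : ∀ {f : Module.End (ZMod 2) W}, f ∈ O → ∀ {w : W}, w ∈ LinearMap.range f → f w = w := by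
    rintro f hf _ ⟨y, rfl⟩
    rw [← Module.End.mul_apply, (hidem f hf).1]
  have hccomm : ∀ f ∈ O, ∀ w, f (ρ c w) = ρ c (f w) := by
    intro f hf w
    conv_lhs => rw [← hcfix f hf]
    rw [Module.End.mul_apply, Module.End.mul_apply, apply_inv]
  have hspan : ∀ w : W, (∀ f ∈ O, f w = 0) → w = 0 := by
    let U : Submodule (ZMod 2) W :=
      { carrier := {w | ∀ f ∈ O, f w = 0}
        add_mem' := fun {a b} ha hb f hf => by rw [map_add, ha f hf, hb f hf, add_zero]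
        zero_mem' := fun f _ => map_zero f
        smul_mem' := fun t x hx f hf => by rw [map_smul, hx f hf, smul_zero] }
    have hUi : ∀ h, ∀ u ∈ U, ρ h u ∈ U := by
      intro h u hu f hf
      have h1 : (ρ h⁻¹ * f * ρ h⁻¹⁻¹) u = 0 := hu _ (hconj h⁻¹ f hf)
      rw [inv_inv, Module.End.mul_apply, Module.End.mul_apply] at h1
      exact CfsgLib.PGroup.rep_injective ρ h⁻¹ (h1.trans (map_zero _).symm)
    rcases hirr U hUi with h | h
    · exact fun w hw => (Submodule.mem_bot _).1 (h.le hw)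
    · obtain ⟨f, hf⟩ := hne
      exact absurd (LinearMap.ext fun w => (h.ge Submodule.mem_top : w ∈ U) f hf) (hidem f hf).2.1
  obtain ⟨f₀, hf₀, w₀, hw₀⟩ : ∃ f ∈ O, ∃ w, ρ c (f w) ≠ f w := by
    by_contra hh
    push Not at hh
    refine hu₀ ((T_eq_zero_iff ρ c u₀).1 (hspan _ fun f hf => ?_))
    rw [T_apply, map_add, hccomm f hf, hh f hf, addSelf]
  set U₀ := LinearMap.range f₀ with hU₀
  have hcU : ∀ u ∈ U₀, ρ c u ∈ U₀ := by
    rintro _ ⟨y, rfl⟩
    exact ⟨ρ c y, hccomm f₀ hf₀ y⟩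
  have hVU : ∀ w, (ρ c - 1) w ∈ U₀ := by
    intro w
    obtain ⟨y, hy, hyw⟩ := range_le ρ c hc hcU ⟨w₀, rfl⟩ hw₀ ⟨w, rfl⟩
    rw [← hyw, T_apply]
    exact add_mem (hcU y hy) hy
  have hother : ∀ f ∈ O, f ≠ f₀ → ∀ w ∈ LinearMap.range f, ρ c w = w := by
    intro f hf hne1 w hw
    refine (T_eq_zero_iff ρ c w).1 ?_
    have h1 : (ρ c - 1) w ∈ LinearMap.range f := by
      obtain ⟨y, rfl⟩ := hw
      rw [T_apply, ← hccomm f hf]
      exact add_mem ⟨_, rfl⟩ ⟨_, rfl⟩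
    rw [← hmem hf h1]
    obtain ⟨y, hy⟩ := hVU w
    rw [← hy, ← Module.End.mul_apply, horth f hf f₀ hf₀ hne1, LinearMap.zero_apply]
  -- stabilisers
  let St : Module.End (ZMod 2) W → Subgroup H := fun f =>
    { carrier := {h | ρ h * f * ρ h⁻¹ = f}
      one_mem' := conj_one ρ f
      mul_mem' := fun {a b} (ha : ρ a * f * ρ a⁻¹ = f) (hb : ρ b * f * ρ b⁻¹ = f) => by
        show ρ (a * b) * f * ρ (a * b)⁻¹ = f
        rw [← conj_conj, hb, ha]
      inv_mem' := fun {a} (ha : ρ a * f * ρ a⁻¹ = f) => by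
        show ρ a⁻¹ * f * ρ a⁻¹⁻¹ = f
        conv_lhs => rw [← ha]
        rw [conj_conj, inv_mul_cancel, conj_one] }
  obtain ⟨wo, hwo⟩ : ∃ w, w ∉ U₀ := by
    by_contra hh
    push Not at hh
    exact (hidem f₀ hf₀).2.2 (LinearMap.ext fun w => hmem hf₀ (hh w))
  have hgood : ∀ (r' : ℕ) (F : Subgroup H), r'.Prime → Cfsg.IsElementaryAbelian r' F →
      Nat.card F = r' ^ 3 → F ≤ St f₀ → Good ρ c := by
    intro r' F hr' hF hF3 hFS
    refine descend ρ c IH hodd hc (St f₀) (hcfix f₀ hf₀) U₀ (fun h hh u hu => ?_)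
      ⟨w₀, rfl⟩ hw₀ hVU hr' F hFS hF hF3 ?_
    · have h1 : LinearMap.range (ρ h * f₀ * ρ h⁻¹) = U₀ := by
        rw [show ρ h * f₀ * ρ h⁻¹ = f₀ from hh]
      rw [range_conj] at h1
      exact h1.le ⟨u, hu, rfl⟩
    · have h1 : Nat.card (St f₀) ≤ Nat.card H := card_le_card_group _
      have h2 : Nat.card U₀ < Nat.card W := Finite.card_subtype_lt hwo
      omega
  by_cases hES : E ≤ St f₀
  · exact hgood r E hr hE hE3 hES
  obtain ⟨e, he, hef⟩ := SetLike.not_le_iff_exists.1 hES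
  -- a conjugate of `c` lives on one block
  have hsingle : ∀ h : H, f₀ ≠ ρ h * f₀ * ρ h⁻¹ →
      ∀ w ∈ LinearMap.range f₀, ρ (h * c * h⁻¹) w = w := by
    intro h hne1 w hw
    have h1 : ρ h⁻¹ w ∈ LinearMap.range (ρ h⁻¹ * f₀ * ρ h⁻¹⁻¹) := by
      rw [range_conj]; exact ⟨w, hw, rfl⟩
    rw [apply_mul, apply_mul, hother _ (hconj h⁻¹ f₀ hf₀) (fun e1 => hne1 (by
      conv_rhs => rw [← e1]
      rw [conj_conj, mul_inv_cancel, conj_one])) _ h1, apply_inv']
  have hdvd : r ∣ Nat.card H := by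
    refine dvd_trans ?_ (card_subgroup_dvd_card E)
    rw [hE3]
    exact dvd_pow_self r three_ne_zero
  have hr2 : r ≠ 2 := fun h2 => by
    rw [h2] at hdvd
    exact Nat.not_even_iff_odd.2 hodd (even_iff_two_dvd.2 hdvd)
  by_cases h3 : r = 3
  · subst h3
    have hHp : IsPGroup 3 H := IsPGroup.of_card
      (Nat.eq_prime_pow_of_unique_prime_dvd Nat.card_pos.ne' fun {d} hd hdd =>
        (hπ d hd hdd).elim id id)
    have hrk : ¬ Cfsg.PRankLE 3 2 H := fun h => by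
      have := h E hE.1 hE.2
      rw [hE3] at this
      norm_num at this
    have hnc : ¬ IsCyclic (⊤ : Subgroup H) := fun h => by
      haveI := h
      refine noncyclic_of_card (K := E) hr hE.2 (by rw [hE3]; norm_num) ?_
      exact isCyclic_of_injective (Subgroup.inclusion le_top) (inclusion_injective le_top)
    obtain ⟨E₂, -, hE₂n, hE₂, hE₂c⟩ :=
      CfsgLib.CFun.exists_normal_elementary_two (by norm_num) (hHp.to_subgroup ⊤) hnc
    haveI : E₂.Normal := normalizer_eq_top_iff.1 (top_le_iff.1 hE₂n)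
    obtain ⟨A, -, hAn, hAc, -, hAr⟩ :=
      CfsgLib.CFun.exists_scn_three_ge (by norm_num) hHp hrk E₂ hE₂ hE₂c
    obtain ⟨F, hFA, hF, hF3⟩ := exists_card_27 (hHp.to_subgroup A) hAr
    refine hgood 3 F Nat.prime_three hF hF3 fun a ha' => ?_
    have ha : a ∈ A := hFA ha'
    by_contra haS
    have ha2 : a ^ 2 ∉ St f₀ := fun h => haS (by
      obtain ⟨m, hm⟩ := exists_pow_eq_self_of_coprime (x := a) (n := 2)
        (Nat.coprime_two_left.2 (hodd.of_dvd_nat (orderOf_dvd_natCard a)))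
      rw [← hm]
      exact pow_mem h m)
    have hu : c * a * c⁻¹ * a⁻¹ ∈ A := mul_mem (hAn.conj_mem a ha c) (inv_mem ha)
    have hcm : a * (c * a * c⁻¹ * a⁻¹) = c * a * c⁻¹ * a⁻¹ * a :=
      congrArg Subtype.val (hAc.is_comm.comm (⟨a, ha⟩ : A) ⟨_, hu⟩)
    have key : c = a * c * a⁻¹ * (a ^ 2 * c * (a ^ 2)⁻¹)⁻¹ * (a * c * a⁻¹) := by
      have e1 : a * (c * a * c⁻¹ * a⁻¹) * a⁻¹ = c * a * c⁻¹ * a⁻¹ := by
        rw [hcm, mul_inv_cancel_right]
      calc c = (c * a * c⁻¹ * a⁻¹) * (a * c * a⁻¹) := by group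
        _ = a * (c * a * c⁻¹ * a⁻¹) * a⁻¹ * (a * c * a⁻¹) := by rw [e1]
        _ = a * c * a⁻¹ * (a ^ 2 * c * (a ^ 2)⁻¹)⁻¹ * (a * c * a⁻¹) := by rw [pow_two]; group
    refine hw₀ ?_
    have h1 := hsingle a (fun e => haS e.symm) _ ⟨w₀, rfl⟩
    have h2 := hsingle (a ^ 2) (fun e => ha2 e.symm) _ ⟨w₀, rfl⟩
    have h2' : ρ (a ^ 2 * c * (a ^ 2)⁻¹)⁻¹ (f₀ w₀) = f₀ w₀ := by
      conv_lhs => rw [← h2]
      rw [apply_inv]
    conv_lhs => rw [key]
    rw [apply_mul, h1, apply_mul, h2', h1]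
  have hr5 : 5 ≤ r := by
    have := hr.two_le
    by_contra hlt
    interval_cases r
    · exact hr2 rfl
    · exact h3 rfl
    · norm_num at hr
  let L : Subgroup H := ⨅ f : O, St f
  have hLS : ∀ {l}, l ∈ L → ∀ f ∈ O, ρ l * f * ρ l⁻¹ = f := fun hl f hf =>
    (mem_iInf.1 hl ⟨f, hf⟩ :)
  haveI hLn : L.Normal := ⟨fun l hl h => mem_iInf.2 fun f => by
    show ρ (h * l * h⁻¹) * (f : Module.End (ZMod 2) W) * ρ (h * l * h⁻¹)⁻¹ = f
    rw [← conj_conj, ← conj_conj, hLS hl _ (hconj h⁻¹ f f.2), conj_conj, mul_inv_cancel, conj_one]⟩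
  have hcL : c ∈ L := mem_iInf.2 fun f => hcfix f f.2
  let P : Sylow 3 L := Classical.arbitrary _
  set P' := (P : Subgroup L).map L.subtype with hP'
  by_cases hrk : Cfsg.PRankLE 3 2 P'
  swap
  · obtain ⟨F, hFP, hF, hF3⟩ := exists_card_27 (P.isPGroup'.map L.subtype) hrk
    exact hgood 3 F Nat.prime_three hF hF3 fun a ha => hLS (map_subtype_le _ (hFP ha)) f₀ hf₀
  exfalso
  obtain ⟨n, hn, l, hl, hnl⟩ :=
    mem_sup_of_normal_right.1 ((Sylow.normalizer_sup_eq_top P).ge (mem_top e))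
  have hnS : n ∉ St f₀ := fun h => hef (by
    rw [← hnl]
    exact mul_mem h (hLS hl f₀ hf₀))
  have hnr : n ^ r ∈ L := by
    refine (QuotientGroup.eq_one_iff _).1 ?_
    have hq : QuotientGroup.mk' L n = QuotientGroup.mk' L e := by
      rw [← hnl, map_mul, show QuotientGroup.mk' L l = 1 from (QuotientGroup.eq_one_iff _).2 hl,
        mul_one]
    show QuotientGroup.mk' L (n ^ r) = 1
    rw [map_pow, hq, ← map_pow, hE.2 e he, map_one]
  obtain ⟨a, m, hm, hnm⟩ :=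
    Nat.exists_eq_pow_mul_and_not_dvd (orderOf_pos n).ne' 3 Nat.prime_three.ne_one
  have hm' : m = r ^ m.primeFactorsList.length :=
    Nat.eq_prime_pow_of_unique_prime_dvd (fun h0 => hm (h0 ▸ dvd_zero 3)) fun {d} hd hdd =>
      (hπ d hd (hdd.trans ((Dvd.intro_left _ hnm.symm).trans (orderOf_dvd_natCard n)))).elim
        (fun e3 => absurd (e3 ▸ hdd) hm) id
  set n' := n ^ 3 ^ a with hn'
  have hn'o : orderOf n' = r ^ m.primeFactorsList.length := by
    rw [← hm', hn', orderOf_pow' _ (by positivity), hnm, Nat.gcd_eq_right (dvd_mul_right _ _),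
      Nat.mul_div_cancel_left _ (by positivity)]
  have hn'S : n' ∉ St f₀ := fun h => hnS (by
    have hnr' : n ^ r ∈ St f₀ := hLS hnr f₀ hf₀
    have hco : IsCoprime ((3 ^ a : ℕ) : ℤ) (r : ℤ) := Nat.Coprime.isCoprime
      (((Nat.coprime_primes Nat.prime_three hr).2 (Ne.symm h3)).pow_left a)
    obtain ⟨x, y, hxy⟩ := hco
    rw [← zpow_one n, ← hxy, zpow_add, mul_comm x, mul_comm y, zpow_mul, zpow_mul, zpow_natCast,
      zpow_natCast]
    exact mul_mem (zpow_mem h x) (zpow_mem hnr' y))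
  obtain ⟨l', hl', hc1⟩ : ∃ l' ∈ L, l' * c * l'⁻¹ ∈ P' := by
    obtain ⟨k, hk⟩ := hc.1
    obtain ⟨Q, hQ⟩ := IsPGroup.exists_le_sylow (p := 3) (P := zpowers (⟨c, hcL⟩ : L))
      (IsPGroup.of_card (n := k) (by rw [Nat.card_zpowers, Subgroup.orderOf_mk, hk]))
    obtain ⟨g, hg⟩ := MulAction.exists_smul_eq L Q P
    refine ⟨g, g.2, g * ⟨c, hcL⟩ * g⁻¹, ?_, rfl⟩
    rw [← hg]
    exact ⟨⟨c, hcL⟩, hQ (mem_zpowers _), rfl⟩
  have hcent := CfsgLib.RankTwoLarge.centralizes_large (p := 3) (by norm_num)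
    (P.isPGroup'.map L.subtype) hrk (pow_mem hn (3 ^ a)) hr hn'o h3 (gap_three hr hr5)
  have hcm := mem_centralizer_iff.1 hcent _ hc1
  refine hw₀ ?_
  have hne1 : f₀ ≠ ρ (n' * l') * f₀ * ρ (n' * l')⁻¹ := by
    rw [← conj_conj, hLS hl' f₀ hf₀]
    exact fun e => hn'S e.symm
  have hlw : ρ l' (f₀ w₀) ∈ LinearMap.range f₀ := by
    have h := hLS hl' f₀ hf₀
    refine ⟨ρ l' w₀, ?_⟩
    conv_lhs => rw [← h]
    rw [Module.End.mul_apply, Module.End.mul_apply, apply_inv]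
  have h5 := hsingle (n' * l') hne1 _ hlw
  rw [show n' * l' * c * (n' * l')⁻¹ = l' * c * l'⁻¹ by
    rw [mul_inv_rev, show n' * l' * c * (l'⁻¹ * n'⁻¹) = n' * (l' * c * l'⁻¹) * n'⁻¹ by group,
      ← hcm, mul_inv_cancel_right],
    apply_mul, apply_inv, apply_mul] at h5
  exact CfsgLib.PGroup.rep_injective ρ l' h5

end CfsgLib.SmallComm
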