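import Cfsg.Agent.Lib.PGroup.SmallCommutatorPrimitive

/-!
Solvable groups with a cyclic three-subgroup moving a four-group and an elementary subgroup of rank three.
-/

set_option autoImplicit false
set_option linter.style.haveILetI false
set_option linter.unusedSectionVars false
set_option maxHeartbeats 1000000

open Subgroup
open scoped commutatorElement

namespace CfsgLib.SmallComm

universe u v

theorem stmt (N : ℕ) : Stmt.{u, v} N := by
  induction N using Nat.strong_induction_on with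
  | _ N IH =>
  intro H _ _ W _ _ _ ρ c hsol hodd hc hex hN
  obtain ⟨r, E, hr, hE, hE3⟩ := hex
  haveI := hsol
  haveI := Fact.mk hr
  obtain ⟨u₀, hu₀⟩ := exists_moved ρ c hc
  by_cases hirr : ∀ U : Submodule (ZMod 2) W, (∀ h, ∀ u ∈ U, ρ h u ∈ U) → U = ⊥ ∨ U = ⊤
  swap
  · push Not at hirr
    obtain ⟨U, hU, hU0, hU1⟩ := hirr
    suffices h : ∃ U : Submodule (ZMod 2) W, (∀ h, ∀ u ∈ U, ρ h u ∈ U) ∧ U ≠ ⊤ ∧
        ∃ u ∈ U, ρ c u ≠ u by
      obtain ⟨U, hU, hU1, u, hu, hm⟩ := h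
      refine descend ρ c IH hodd hc ⊤ (mem_top c) U (fun h _ => hU h) hu hm (fun w => ?_) hr E
        le_top hE hE3 ?_
      · obtain ⟨y, hy, hyw⟩ := range_le ρ c hc (hU c) hu hm ⟨w, rfl⟩
        rw [← hyw, T_apply]
        exact add_mem (hU c y hy) hy
      · obtain ⟨w, hw⟩ : ∃ w, w ∉ U := by
          by_contra hh
          push Not at hh
          exact hU1 (eq_top_iff.2 fun w _ => hh w)
        have h1 : Nat.card U < Nat.card W := Finite.card_subtype_lt hw
        rw [card_top]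
        omega
    by_cases hm : ∃ u ∈ U, ρ c u ≠ u
    · exact ⟨U, hU, hU1, hm⟩
    push Not at hm
    obtain ⟨P, hP, hPid, hPc⟩ := exists_compl ρ hodd U hU
    refine ⟨LinearMap.ker P, fun h u hu => ?_, fun htop => hU0 ?_, u₀ + P u₀, ?_, fun e => hu₀ ?_⟩
    · rw [LinearMap.mem_ker] at hu ⊢
      rw [hPc, hu, map_zero]
    · refine (Submodule.eq_bot_iff U).2 fun u hu => ?_
      rw [← hPid u hu]
      exact LinearMap.mem_ker.1 (htop.ge Submodule.mem_top)
    · rw [LinearMap.mem_ker, map_add, hPid _ (hP u₀), addSelf]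
    · rw [map_add, hm _ (hP u₀)] at e
      exact add_right_cancel e
  by_cases hπ : ∀ s : ℕ, s.Prime → s ∣ Nat.card H → s = 3 ∨ s = r
  · by_cases hO : ∃ O, Blocks ρ O
    · obtain ⟨O, hO⟩ := hO
      exact of_blocks ρ c IH hodd hN hc hr E hE hE3 hπ hirr hO
    · refine of_primitive ρ c hodd hc hr E hE hE3 hπ fun A hA hAc => ?_
      haveI := hA
      exact (dichotomy ρ (hodd.of_dvd_nat (card_dvd_of_surjective _
        ρ.toHomUnits.rangeRestrict_surjective)) A hAc).resolve_right hO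
  push Not at hπ
  obtain ⟨s, hs, hsd, hs3, hsr⟩ := hπ
  obtain ⟨m, n, hmn, hm, hn⟩ := CfsgLib.Coprime.exists_pi_split ({3, r} : Set ℕ)
    (Nat.card_pos (α := H)).ne'
  have hcop : m.Coprime n := Nat.coprime_of_dvd fun k hk hkm hkn => hn k hk hkn (hm k hk hkm)
  have hpow : ∀ (q k : ℕ), q.Prime → q ∈ ({3, r} : Set ℕ) → (q ^ k).Coprime n := fun q k hq hqm =>
    (hq.coprime_iff_not_dvd.2 fun h => hn q hq h hqm).pow_left k
  obtain ⟨k, hk⟩ := hc.1
  obtain ⟨H₀, hH₀, hcH⟩ := CfsgLib.Coprime.exists_hall_ge hmn hcop (K := zpowers c)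
    (by rw [Nat.card_zpowers, hk]; exact hpow 3 k Nat.prime_three (Or.inl rfl))
  obtain ⟨g, hg⟩ := CfsgLib.Coprime.hall_le_conj hmn hcop hH₀ (K := E)
    (by rw [hE3]; exact hpow r 3 hr (Or.inr rfl))
  refine descend ρ c IH hodd hc H₀ (hcH (mem_zpowers c)) ⊤ (fun _ _ _ _ => Submodule.mem_top)
    (Submodule.mem_top (x := u₀)) hu₀ (fun _ => Submodule.mem_top) hr
    (CfsgLib.Coprime.conjBy g E) hg ⟨?_, ?_⟩ ?_ ?_
  · haveI := hE.1
    exact (inferInstance : IsMulCommutative (E.map (MulAut.conj g).toMonoidHom))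
  · rintro _ ⟨x, hx, rfl⟩
    rw [← map_pow, hE.2 x hx, map_one]
  · rw [CfsgLib.Coprime.card_conjBy, hE3]
  · have h1 : Nat.card H₀ < Nat.card H := by
      rw [hH₀]
      refine lt_of_le_of_ne (Nat.le_of_dvd Nat.card_pos (Dvd.intro n hmn.symm)) fun e => ?_
      rcases hm s hs (e ▸ hsd) with h | h
      · exact hs3 h
      · exact hsr (Set.mem_singleton_iff.1 h)
    rw [Nat.card_congr (Submodule.topEquiv (R := ZMod 2) (M := W)).toEquiv]
    omega

/-- The main result for a group acting on a space. -/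
theorem good {H : Type u} [Group H] [Finite H] [Group.IsSolvable H] {W : Type v} [AddCommGroup W]
    [Module (ZMod 2) W] [Finite W] (ρ : H →* Module.End (ZMod 2) W) (c : H)
    (hodd : Odd (Nat.card H)) (hc : Small ρ c) {r : ℕ} (hr : r.Prime) (E : Subgroup H)
    (hE : Cfsg.IsElementaryAbelian r E) (hE3 : Nat.card E = r ^ 3) : Good ρ c :=
  stmt _ H W ρ c inferInstance hodd hc ⟨r, E, hr, hE, hE3⟩ rfl

/-- An elementary subgroup of rank three yields one with a rank two part centralizing `[Q, M]`. -/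
theorem main {S : Type u} [Group S] [Finite S] [Group.IsSolvable S] (M : Subgroup S) [M.Normal]
    (hM : Cfsg.IsElementaryAbelian 2 M) (p : ℕ) (hp : p.Prime) (hp2 : p ≠ 2) (E : Subgroup S)
    (hE : Cfsg.IsElementaryAbelian p E) (hE3 : Nat.card E = p ^ 3) (Q : Subgroup S)
    (hQc : IsCyclic Q) (hQ3 : IsPGroup 3 Q) (hQ1 : ∀ x ∈ Q, x ^ 3 ∈ centralizer (M : Set S))
    (hQM : Nat.card ↥⁅Q, M⁆ = 4) :
    ∃ (r : ℕ) (F : Subgroup S), r.Prime ∧ r ≠ 2 ∧ Cfsg.IsElementaryAbelian r F ∧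
      Nat.card F = r ^ 3 ∧ ¬ IsCyclic ↥(F ⊓ centralizer ((⁅Q, M⁆ : Subgroup S) : Set S)) := by
  classical
  obtain ⟨g₀, hg₀⟩ := hQc.exists_generator
  obtain ⟨a, m, hm2, hSm⟩ := Nat.exists_eq_pow_mul_and_not_dvd (Nat.card_pos (α := S)).ne' 2
    (by norm_num)
  have hcop : m.Coprime (2 ^ a) := ((Nat.prime_two.coprime_iff_not_dvd.2 hm2).symm).pow_right a
  have hSm' : Nat.card S = m * 2 ^ a := by rw [hSm, mul_comm]
  have hodd : ∀ (q : ℕ), q.Prime → q ≠ 2 → ∀ k, (q ^ k).Coprime (2 ^ a) := fun q hq hq2 k =>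
    (((Nat.coprime_primes hq Nat.prime_two).2 hq2).pow_left k).pow_right a
  haveI : Fact (Nat.Prime 3) := ⟨Nat.prime_three⟩
  obtain ⟨kQ, hkQ⟩ := IsPGroup.iff_card.1 hQ3
  obtain ⟨H, hH, hQH⟩ := CfsgLib.Coprime.exists_hall_ge hSm' hcop (K := Q)
    (hkQ ▸ hodd 3 Nat.prime_three (by norm_num) kQ)
  obtain ⟨g, hg⟩ := CfsgLib.Coprime.hall_le_conj hSm' hcop hH (K := E)
    (hE3 ▸ hodd p hp hp2 3)
  letI : CommGroup M :=
    { (inferInstance : Group M) with mul_comm := fun a b => hM.1.is_comm.comm a b }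
  letI : Module (ZMod 2) (Additive M) := AddCommGroup.zmodModule (n := 2) fun a => by
    show Additive.ofMul (a.toMul ^ 2) = 0
    rw [show a.toMul ^ 2 = 1 from Subtype.ext (hM.2 _ a.toMul.2)]
    rfl
  haveI : Finite (Additive M) := Finite.of_equiv M Additive.ofMul
  have hext : ∀ {z z' : Additive M}, ((Additive.toMul z : M) : S) = (Additive.toMul z' : M) → z = z' :=
    fun h => Additive.toMul.injective (Subtype.ext h)
  let cf : H → (Additive M →+ Additive M) := fun h =>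
    MonoidHom.toAdditive (MulAut.conjNormal (H := M) (h : S)).toMonoidHom
  have hcf : ∀ (h : H) (z : Additive M),
      ((Additive.toMul (cf h z) : M) : S) = h * (Additive.toMul z : M) * (h : S)⁻¹ := fun h z => rfl
  let ρ : H →* Module.End (ZMod 2) (Additive M) :=
    { toFun := fun h => (cf h).toZModLinearMap 2
      map_one' := LinearMap.ext fun z => hext (by
        show ((Additive.toMul (cf 1 z) : M) : S) = (Additive.toMul z : M)
        rw [hcf]; simp)
      map_mul' := fun h k => LinearMap.ext fun z => hext (by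
        show ((Additive.toMul (cf (h * k) z) : M) : S) = (Additive.toMul (cf h (cf k z)) : M)
        rw [hcf, hcf, hcf, Subgroup.coe_mul]; group) }
  have hρ : ∀ (h : H) (z : Additive M),
      ((Additive.toMul (ρ h z) : M) : S) = h * (Additive.toMul z : M) * (h : S)⁻¹ := hcf
  set c : H := ⟨(g₀ : S), hQH g₀.2⟩ with hc
  have hTval : ∀ z : Additive M, ((Additive.toMul ((ρ c - 1) z) : M) : S) =
      (g₀ : S) * (Additive.toMul z : M) * (g₀ : S)⁻¹ * ((Additive.toMul z : M) : S)⁻¹ := by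
    intro z
    rw [LinearMap.sub_apply, toMul_sub, div_eq_mul_inv, Subgroup.coe_mul, InvMemClass.coe_inv, hρ]
    rfl
  have hinv : ∀ n : ℕ, ∀ z : Additive M, ρ (c ^ n) z - z ∈ LinearMap.range (ρ c - 1) := by
    intro n
    induction n with
    | zero => intro z; rw [pow_zero, map_one, Module.End.one_apply, sub_self]; exact zero_mem _
    | succ n ih =>
      intro z
      rw [show ρ (c ^ (n + 1)) z - z = (ρ c - 1) (ρ (c ^ n) z) + (ρ (c ^ n) z - z) by
        rw [pow_succ', apply_mul ρ, LinearMap.sub_apply, Module.End.one_apply]; abel]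
      exact add_mem ⟨_, rfl⟩ (ih z)
  let V' : Subgroup S :=
    { carrier := {s | ∃ z ∈ LinearMap.range (ρ c - 1), ((Additive.toMul z : M) : S) = s}
      one_mem' := ⟨0, zero_mem _, rfl⟩
      mul_mem' := by
        rintro _ _ ⟨z, hz, rfl⟩ ⟨z', hz', rfl⟩
        exact ⟨z + z', add_mem hz hz', rfl⟩
      inv_mem' := by
        rintro _ ⟨z, hz, rfl⟩
        exact ⟨-z, neg_mem hz, rfl⟩ }
  have hV : (⁅Q, M⁆ : Subgroup S) = V' := by
    refine le_antisymm (commutator_le.2 fun q hq v hv => ?_) ?_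
    · obtain ⟨n, hn⟩ := ((isOfFinOrder_of_finite g₀).mem_powers_iff_mem_zpowers).2 (hg₀ ⟨q, hq⟩)
      refine ⟨ρ (c ^ n) (Additive.ofMul ⟨v, hv⟩) - Additive.ofMul ⟨v, hv⟩, hinv n _, ?_⟩
      rw [toMul_sub, div_eq_mul_inv, Subgroup.coe_mul, InvMemClass.coe_inv, hρ]
      have hnq : ((c ^ n : H) : S) = q := by
        rw [Subgroup.coe_pow]
        exact congrArg Subtype.val hn
      rw [hnq]
      rfl
    · rintro _ ⟨_, ⟨z, rfl⟩, rfl⟩
      rw [hTval]
      exact commutator_mem_commutator g₀.2 (Additive.toMul z : M).2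
  have hcard : Nat.card (LinearMap.range (ρ c - 1)) = 4 := by
    rw [← hQM, hV]
    exact Nat.card_congr (Equiv.ofBijective
      (fun z : LinearMap.range (ρ c - 1) => (⟨_, (z : Additive M), z.2, rfl⟩ : V'))
      ⟨fun a b h => Subtype.ext (hext (congrArg (fun t : V' => (t : S)) h)), fun s => by
        obtain ⟨z, hz, hzs⟩ := s.2
        exact ⟨⟨z, hz⟩, Subtype.ext hzs⟩⟩)
  have hsmall : Small ρ c := by
    refine ⟨?_, LinearMap.ext fun z => hext ?_, hcard⟩
    · obtain ⟨k, hk⟩ := IsPGroup.iff_orderOf.1 hQ3 g₀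
      exact ⟨k, by rw [hc, Subgroup.orderOf_mk, Subgroup.orderOf_coe, hk]⟩
    · rw [← map_pow, hρ, Module.End.one_apply, Subgroup.coe_pow]
      show (g₀ : S) ^ 3 * _ * ((g₀ : S) ^ 3)⁻¹ = _
      rw [← mem_centralizer_iff.1 (hQ1 _ g₀.2) _ (Additive.toMul z : M).2, mul_inv_cancel_right]
  have hHodd : Odd (Nat.card H) := by
    rw [hH, ← Nat.not_even_iff_odd, even_iff_two_dvd]
    exact hm2
  have hE' : Cfsg.IsElementaryAbelian p (CfsgLib.Coprime.conjBy g E) := by
    refine ⟨?_, ?_⟩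
    · haveI := hE.1
      exact (inferInstance : IsMulCommutative (E.map (MulAut.conj g).toMonoidHom))
    · rintro _ ⟨u, hu, rfl⟩
      rw [← map_pow, hE.2 u hu, map_one]
  obtain ⟨r, F, hr, hr2, hF, hF3, hFc⟩ := good ρ c hHodd hsmall hp
    ((CfsgLib.Coprime.conjBy g E).subgroupOf H)
    ⟨⟨⟨fun u v => Subtype.ext (Subtype.ext (by
      show ((u : H) : S) * ((v : H) : S) = ((v : H) : S) * ((u : H) : S)
      exact congrArg Subtype.val (hE'.1.is_comm.comm
        (⟨((u : H) : S), u.2⟩ : CfsgLib.Coprime.conjBy g E) ⟨((v : H) : S), v.2⟩)))⟩⟩,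
      fun u hu => Subtype.ext (hE'.2 (u : S) hu)⟩
    (by rw [Nat.card_congr (subgroupOfEquivOfLe hg).toEquiv, CfsgLib.Coprime.card_conjBy, hE3])
  refine ⟨r, F.map H.subtype, hr, hr2, ⟨?_, ?_⟩, ?_, fun hcyc => hFc ?_⟩
  · haveI := hF.1
    infer_instance
  · rintro _ ⟨u, hu, rfl⟩
    rw [← map_pow, hF.2 u hu, map_one]
  · rw [card_map_of_injective H.subtype_injective, hF3]
  · haveI := hcyc
    refine isCyclic_of_injective
      (⟨⟨fun u => ⟨((u : H) : S), ⟨(u : H), u.2.1, rfl⟩, mem_centralizer_iff.2 fun v hv => ?_⟩, rfl⟩,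
        fun u v => rfl⟩ : ↥(F ⊓ fixV ρ c) →*
          ↥(F.map H.subtype ⊓ centralizer ((⁅Q, M⁆ : Subgroup S) : Set S)))
      fun u v h => Subtype.ext (Subtype.ext (congrArg
        (fun z : ↥(F.map H.subtype ⊓ centralizer ((⁅Q, M⁆ : Subgroup S) : Set S)) => (z : S)) h))
    rw [SetLike.mem_coe, hV] at hv
    obtain ⟨z, hz, rfl⟩ := hv
    have h := congrArg (fun w : Additive M => ((Additive.toMul w : M) : S)) (u.2.2 z hz)
    simp only [hρ] at h
    exact (mul_inv_eq_iff_eq_mul.1 h).symm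

end CfsgLib.SmallComm
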