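import Cfsg.Agent.Lib.PGroup.RankTwoLargePrime
import Cfsg.Agent.Lib.CFun.OddPrelimSCN
import Cfsg.Agent.Lib.CFun.OddUniqueness
import Cfsg.Agent.Lib.PGroup.TwoPQModule
import Cfsg.Agent.Lib.Coprime.Hall
import Mathlib.LinearAlgebra.Quotient.Card
import Mathlib.RingTheory.IntegralDomain
import Mathlib.FieldTheory.Finite.Basic

/-!
Odd solvable groups acting on a space over two elements with an element of order three moving only a
plane: an elementary subgroup of rank three forces one with rank two fixing the plane.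
-/

set_option autoImplicit false
set_option linter.style.haveILetI false
set_option linter.unusedSectionVars false
set_option maxHeartbeats 1000000

open Subgroup

namespace CfsgLib.SmallComm

universe u v

section Vec

variable {W : Type v} [AddCommGroup W] [Module (ZMod 2) W]

theorem addSelf (w : W) : w + w = 0 := ZModModule.add_self w

theorem endAddSelf (x : Module.End (ZMod 2) W) : x + x = 0 := LinearMap.ext fun w => addSelf (x w)

theorem endSub (x y : Module.End (ZMod 2) W) : x - y = x + y :=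
  sub_eq_iff_eq_add.2 (by rw [add_assoc, endAddSelf, add_zero])

variable [Finite W]

theorem finite_end : Finite (Module.End (ZMod 2) W) :=
  Finite.of_injective (fun f => (f : W → W)) DFunLike.coe_injective

theorem card_eq_two_pow (U : Submodule (ZMod 2) W) : ∃ k, Nat.card U = 2 ^ k :=
  ⟨Module.finrank (ZMod 2) U, by
    rw [Module.natCard_eq_pow_finrank (K := ZMod 2) (V := U), Nat.card_zmod]⟩

theorem card_ker_mul_range {W' : Type v} [AddCommGroup W'] [Module (ZMod 2) W']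
    (f : W →ₗ[ZMod 2] W') :
    Nat.card (LinearMap.ker f) * Nat.card (LinearMap.range f) = Nat.card W := by
  rw [Submodule.card_eq_card_quotient_mul_card (LinearMap.ker f),
    Nat.card_congr f.quotKerEquivRange.toEquiv]

/-- A fixed point free map of prime order forces the cardinal to be one modulo that prime. -/
theorem card_mod {q : ℕ} [Fact q.Prime] (e : Module.End (ZMod 2) W) (he : e ^ q = 1)
    (X : Submodule (ZMod 2) W) (hX : ∀ w ∈ X, e w ∈ X) (hfix : ∀ w ∈ X, e w = w → w = 0) :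
    Nat.card X ≡ 1 [MOD q] := by
  haveI : Finite (Module.End (ZMod 2) X) := finite_end
  have hq := (Fact.out : q.Prime)
  set g := LinearMap.restrict e hX with hg
  have hpow : ∀ (n : ℕ) (w : X), (((g ^ n) w : X) : W) = (e ^ n) (w : W) := by
    intro n
    induction n with
    | zero => intro w; rw [pow_zero, pow_zero]; rfl
    | succ n ih =>
      intro w
      rw [pow_succ', pow_succ', Module.End.mul_apply, Module.End.mul_apply, ← ih w]
      rfl
  have hgq : g ^ q = 1 := LinearMap.ext fun w => Subtype.ext (by rw [hpow, he]; rfl)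
  let u : (Module.End (ZMod 2) X)ˣ := Units.ofPowEqOne g q hgq hq.ne_zero
  have hu : IsPGroup q (zpowers u) := by
    have hd : orderOf u ∣ q := orderOf_dvd_of_pow_eq_one (Units.pow_ofPowEqOne hgq hq.ne_zero)
    obtain ⟨j, -, hj⟩ := (Nat.dvd_prime_pow hq).1 (hd.trans (pow_one q).symm.dvd)
    exact IsPGroup.of_card (n := j) (by rw [Nat.card_zpowers, hj])
  letI : MulAction (zpowers u) X :=
    { smul := fun z w => ((z : (Module.End (ZMod 2) X)ˣ) : Module.End (ZMod 2) X) w
      one_smul := fun w => rfl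
      mul_smul := fun a b w => rfl }
  have h := hu.card_modEq_card_fixedPoints X
  rwa [show Nat.card (MulAction.fixedPoints (zpowers u) X) = 1 from ?_] at h
  rw [Nat.card_eq_one_iff_unique]
  refine ⟨⟨fun a b => Subtype.ext ?_⟩, ⟨⟨0, fun z => map_zero _⟩⟩⟩
  have h0 : ∀ w : MulAction.fixedPoints (zpowers u) X, (w : X) = 0 := fun w =>
    Subtype.ext (hfix _ (w : X).2 (congrArg Subtype.val (w.2 ⟨u, mem_zpowers u⟩)))
  rw [h0 a, h0 b]

/-- Subring generated by commuting endomorphisms is commutative. -/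
theorem closure_comm {s : Set (Module.End (ZMod 2) W)} (hs : ∀ a ∈ s, ∀ b ∈ s, a * b = b * a) :
    ∀ x ∈ Subring.closure s, ∀ y ∈ Subring.closure s, x * y = y * x := by
  have h1 : ∀ x ∈ Subring.closure s, ∀ b ∈ s, b * x = x * b := fun x hx =>
    Subring.mem_centralizer_iff.1 ((Subring.closure_le (t := Subring.centralizer s)).2
      (fun a ha => Subring.mem_centralizer_iff.2 fun b hb => hs b hb a ha) hx)
  intro x hx y hy
  exact (Subring.mem_centralizer_iff.1 ((Subring.closure_le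
    (t := Subring.centralizer (Subring.closure s : Set (Module.End (ZMod 2) W)))).2
      (fun a ha => Subring.mem_centralizer_iff.2 fun z hz => (h1 z hz a ha).symm) hy)) x hx

/-- Finite commutative operator groups generating a domain are cyclic. -/
theorem cyclic_of_domain {A : Type u} [Group A] [Finite A] (φ : A →* Module.End (ZMod 2) W)
    (hφ : Function.Injective φ) (hc : ∀ a b : A, a * b = b * a) [Nontrivial W]
    (hdom : ∀ x ∈ Subring.closure (Set.range φ), x ≠ 0 → ∀ w, x w = 0 → w = 0) : IsCyclic A := by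
  set R := Subring.closure (Set.range φ)
  have hcomm := closure_comm (s := Set.range φ) (by
    rintro _ ⟨a, rfl⟩ _ ⟨b, rfl⟩
    rw [← map_mul, ← map_mul, hc])
  letI : CommRing R :=
    { (inferInstance : Ring R) with mul_comm := fun a b => Subtype.ext (hcomm a a.2 b b.2) }
  haveI : NoZeroDivisors R := ⟨fun {a b} hab => by
    by_contra hne
    push Not at hne
    refine hne.2 (Subtype.ext (LinearMap.ext fun w => ?_))
    exact hdom a a.2 (fun e => hne.1 (Subtype.ext e)) _ (LinearMap.congr_fun (congrArg Subtype.val hab) w)⟩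
  haveI : Nontrivial R := ⟨⟨0, 1, fun e => zero_ne_one (congrArg Subtype.val e)⟩⟩
  haveI : IsDomain R := NoZeroDivisors.to_isDomain R
  exact isCyclic_of_subgroup_isDomain
    (⟨⟨fun a => ⟨φ a, Subring.subset_closure ⟨a, rfl⟩⟩, Subtype.ext (map_one φ)⟩,
      fun a b => Subtype.ext (map_mul φ a b)⟩ : A →* R)
    fun a b h => hφ (congrArg Subtype.val h)

end Vec

section Action

variable {H : Type u} [Group H] [Finite H] {W : Type v} [AddCommGroup W] [Module (ZMod 2) W]
  [Finite W] (ρ : H →* Module.End (ZMod 2) W)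

theorem apply_mul (g h : H) (w : W) : ρ (g * h) w = ρ g (ρ h w) := by rw [map_mul]; rfl

theorem apply_inv (g : H) (w : W) : ρ g⁻¹ (ρ g w) = w := by
  rw [← apply_mul, inv_mul_cancel, map_one]; rfl

theorem apply_inv' (g : H) (w : W) : ρ g (ρ g⁻¹ w) = w := by
  rw [← apply_mul, mul_inv_cancel, map_one]; rfl

/-- An invariant complement of an invariant subspace. -/
theorem exists_compl (hodd : Odd (Nat.card H)) (U : Submodule (ZMod 2) W)
    (hU : ∀ h, ∀ u ∈ U, ρ h u ∈ U) : ∃ P : Module.End (ZMod 2) W,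
      (∀ w, P w ∈ U) ∧ (∀ u ∈ U, P u = u) ∧ ∀ h w, P (ρ h w) = ρ h (P w) := by
  classical
  letI := Fintype.ofFinite H
  obtain ⟨g, hg⟩ := LinearMap.exists_leftInverse_of_injective U.subtype (Submodule.ker_subtype U)
  refine ⟨∑ h : H, ρ h ∘ₗ (U.subtype ∘ₗ g) ∘ₗ ρ h⁻¹, fun w => ?_, fun u hu => ?_, fun k w => ?_⟩
  · rw [LinearMap.sum_apply]
    exact sum_mem fun h _ => hU h _ (g _).2
  · rw [LinearMap.sum_apply, Finset.sum_congr rfl (g := fun _ => u) fun h _ => by
      have e : g (ρ h⁻¹ u) = ⟨ρ h⁻¹ u, hU _ u hu⟩ := LinearMap.congr_fun hg ⟨_, hU h⁻¹ u hu⟩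
      show ρ h (g (ρ h⁻¹ u) : W) = u
      rw [e]
      exact apply_inv' ρ h u]
    rw [Finset.sum_const, Finset.card_univ, ← Nat.card_eq_fintype_card,
      ← Nat.cast_smul_eq_nsmul (ZMod 2), ZMod.natCast_eq_one_iff_odd.2 hodd, one_smul]
  · rw [LinearMap.sum_apply, LinearMap.sum_apply, map_sum]
    refine (Fintype.sum_equiv (Equiv.mulLeft k) _ _ fun h => ?_).symm
    show ρ k (ρ h (g (ρ h⁻¹ w) : W)) = ρ (k * h) (g (ρ (k * h)⁻¹ (ρ k w)) : W)
    rw [apply_mul, mul_inv_rev, apply_mul, apply_inv]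

variable (c : H)

/-- `c` acts with order three and moves exactly a plane. -/
def Small : Prop :=
  (∃ k, orderOf c = 3 ^ k) ∧ ρ c ^ 3 = 1 ∧ Nat.card (LinearMap.range (ρ c - 1)) = 4

/-- The elements fixing the plane moved by `c`. -/
def fixV : Subgroup H where
  carrier := {h | ∀ v ∈ LinearMap.range (ρ c - 1), ρ h v = v}
  one_mem' := fun v _ => by rw [map_one]; rfl
  mul_mem' := fun {a b} ha hb v hv => by rw [apply_mul, hb v hv, ha v hv]
  inv_mem' := fun {a} ha v hv => by conv_lhs => rw [← ha v hv, apply_inv]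

/-- What is to be proved. -/
def Good : Prop := ∃ (r : ℕ) (F : Subgroup H), r.Prime ∧ r ≠ 2 ∧
  Cfsg.IsElementaryAbelian r F ∧ Nat.card F = r ^ 3 ∧ ¬ IsCyclic ↥(F ⊓ fixV ρ c)

theorem T_apply (w : W) : (ρ c - 1) w = ρ c w + w := by
  rw [endSub, LinearMap.add_apply]; rfl

theorem range_fix (hc : ρ c ^ 3 = 1) {v : W} (hv : v ∈ LinearMap.range (ρ c - 1))
    (hfix : ρ c v = v) : v = 0 := by
  obtain ⟨w, rfl⟩ := hv
  have h3 : ρ c (ρ c (ρ c w)) = w := by
    have h := LinearMap.congr_fun hc w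
    rwa [pow_succ, pow_succ, pow_one, Module.End.mul_apply, Module.End.mul_apply,
      Module.End.one_apply] at h
  rw [T_apply, map_add] at hfix
  rw [T_apply]
  have e1 : ρ c (ρ c w) = w := add_right_cancel (hfix.trans (add_comm _ _))
  rw [e1] at h3
  rw [h3, addSelf]

/-- A nonzero `c`-invariant subspace of the plane is the plane. -/
theorem range_le (hc : Small ρ c) {U : Submodule (ZMod 2) W} (hU : ∀ u ∈ U, ρ c u ∈ U) {u : W}
    (hu : u ∈ U) (hm : ρ c u ≠ u) : LinearMap.range (ρ c - 1) ≤ U.map (ρ c - 1) := by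
  haveI : Finite (U.map (ρ c - 1)) := inferInstance
  set V := LinearMap.range (ρ c - 1)
  set v := (ρ c - 1) u with hv
  have hv0 : v ≠ 0 := fun e => hm (by
    rw [hv, T_apply] at e
    exact add_right_cancel (e.trans (addSelf u).symm))
  have hvV : v ∈ V := ⟨u, rfl⟩
  have hcv : ρ c v = (ρ c - 1) (ρ c u) := by rw [hv, T_apply, T_apply, map_add]
  have hcne : ρ c v ≠ v := fun e => hv0 (range_fix ρ c hc.2.1 hvV e)
  have hle : U.map (ρ c - 1) ≤ V := by
    rintro _ ⟨x, -, rfl⟩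
    exact ⟨x, rfl⟩
  have h3 : 3 ≤ Nat.card (U.map (ρ c - 1)) := by
    let f : Fin 3 → U.map (ρ c - 1) := ![⟨0, zero_mem _⟩, ⟨v, u, hu, rfl⟩,
      ⟨ρ c v, ρ c u, hU u hu, hcv.symm⟩]
    have hf : Function.Injective f := by
      intro i j h
      fin_cases i <;> fin_cases j <;> simp [f, Subtype.ext_iff] at h ⊢
      · exact hv0 h.symm
      · exact hv0 (CfsgLib.PGroup.rep_injective ρ c (h.symm.trans (map_zero (ρ c)).symm))
      · exact hv0 h
      · exact hcne h.symm
      · exact hv0 (CfsgLib.PGroup.rep_injective ρ c (h.trans (map_zero (ρ c)).symm))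
      · exact hcne h
    simpa using Nat.card_le_card_of_injective f hf
  obtain ⟨k, hk⟩ := card_eq_two_pow (U.map (ρ c - 1))
  have h4 : Nat.card V ≤ Nat.card (U.map (ρ c - 1)) := by
    rw [hc.2.2]
    rcases k with _ | _ | k
    · rw [hk] at h3; norm_num at h3
    · rw [hk] at h3; norm_num at h3
    · rw [hk, pow_succ, pow_succ]
      have := Nat.one_le_two_pow (n := k)
      omega
  exact (SetLike.coe_injective (Set.eq_of_subset_of_ncard_le (s := (U.map (ρ c - 1) : Set W))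
    (t := (V : Set W)) hle (by rw [← Nat.card_coe_set_eq, ← Nat.card_coe_set_eq]; exact h4) (Set.toFinite _))).ge

theorem noncyclic_of_card {G : Type u} [Group G] [Finite G] {K : Subgroup G} {r : ℕ}
    (hr : r.Prime) (he : ∀ x ∈ K, x ^ r = 1) (hc : r ^ 2 ≤ Nat.card K) : ¬ IsCyclic K := by
  intro h
  obtain ⟨g, hg⟩ := h.exists_generator
  have h1 : Nat.card K = orderOf g := (orderOf_eq_card_of_forall_mem_zpowers hg).symm
  have h2 : orderOf g ≤ r :=
    Nat.le_of_dvd hr.pos (orderOf_dvd_of_pow_eq_one (Subtype.ext (he g g.2)))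
  have := hr.one_lt
  rw [h1, pow_two] at hc
  nlinarith

end Action

/-- The induction statement. -/
def Stmt (N : ℕ) : Prop :=
  ∀ (H : Type u) [Group H] [Finite H] (W : Type v) [AddCommGroup W] [Module (ZMod 2) W] [Finite W]
    (ρ : H →* Module.End (ZMod 2) W) (c : H), Group.IsSolvable H → Odd (Nat.card H) → Small ρ c →
    (∃ (r : ℕ) (E : Subgroup H), r.Prime ∧ Cfsg.IsElementaryAbelian r E ∧ Nat.card E = r ^ 3) →
    Nat.card H + Nat.card W = N → Good ρ c

section Step

variable {H : Type u} [Group H] [Finite H] {W : Type v} [AddCommGroup W] [Module (ZMod 2) W]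
  [Finite W] (ρ : H →* Module.End (ZMod 2) W) (c : H)

/-- Passage to a subgroup and an invariant subspace containing the plane. -/
theorem descend {N : ℕ} (IH : ∀ M < N, Stmt.{u, v} M) [Group.IsSolvable H]
    (hodd : Odd (Nat.card H)) (hc : Small ρ c) (H₀ : Subgroup H) (hcH : c ∈ H₀)
    (U : Submodule (ZMod 2) W) (hU : ∀ h ∈ H₀, ∀ u ∈ U, ρ h u ∈ U) {u₁ : W} (hu₁ : u₁ ∈ U)
    (hm : ρ c u₁ ≠ u₁) (hVU : ∀ w, (ρ c - 1) w ∈ U) {r : ℕ} (hr : r.Prime) (E : Subgroup H)
    (hEH : E ≤ H₀) (hE : Cfsg.IsElementaryAbelian r E) (hE3 : Nat.card E = r ^ 3)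
    (hlt : Nat.card H₀ + Nat.card U < N) : Good ρ c := by
  let ρ' : H₀ →* Module.End (ZMod 2) U :=
    { toFun := fun h => (ρ (h : H)).restrict (hU h h.2)
      map_one' := LinearMap.ext fun w => Subtype.ext (by
        show ρ (1 : H) (w : W) = w
        rw [map_one]; rfl)
      map_mul' := fun a b => LinearMap.ext fun w => Subtype.ext (apply_mul ρ (a : H) b w) }
  have hT : ∀ w : U, (((ρ' ⟨c, hcH⟩ - 1) w : U) : W) = (ρ c - 1) (w : W) := fun w => rfl
  have hVm := range_le ρ c hc (fun u hu => hU c hcH u hu) hu₁ hm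
  have hsmall : Small ρ' ⟨c, hcH⟩ := by
    refine ⟨?_, LinearMap.ext fun w => Subtype.ext ?_, ?_⟩
    · rw [Subgroup.orderOf_mk]; exact hc.1
    · have h := LinearMap.congr_fun hc.2.1 (w : W)
      rw [pow_succ, pow_succ, pow_one] at h ⊢
      exact h
    · rw [← hc.2.2]
      refine Nat.card_congr (Equiv.ofBijective
        (fun x : LinearMap.range (ρ' ⟨c, hcH⟩ - 1) =>
          (⟨((x : U) : W), by obtain ⟨y, hy⟩ := x.2; exact ⟨y, by rw [← hy, hT]⟩⟩ :
            LinearMap.range (ρ c - 1))) ⟨fun a b h => ?_, fun x => ?_⟩)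
      · exact Subtype.ext (Subtype.ext (congrArg (fun z : LinearMap.range (ρ c - 1) => (z : W)) h))
      · obtain ⟨y, hy, hyx⟩ := hVm x.2
        exact ⟨⟨(ρ' ⟨c, hcH⟩ - 1) ⟨y, hy⟩, ⟨⟨y, hy⟩, rfl⟩⟩, Subtype.ext ((hT _).trans hyx)⟩
  obtain ⟨r', F, hr', hr2, hFe, hF3, hF⟩ := IH _ hlt H₀ U ρ' ⟨c, hcH⟩ inferInstance
    (hodd.of_dvd_nat (card_subgroup_dvd_card H₀)) hsmall
    ⟨r, E.subgroupOf H₀, hr, ⟨⟨⟨fun a b => Subtype.ext (Subtype.ext (by
        show ((a : H₀) : H) * ((b : H₀) : H) = ((b : H₀) : H) * ((a : H₀) : H)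
        exact congrArg Subtype.val (hE.1.is_comm.comm (⟨((a : H₀) : H), a.2⟩ : E)
          ⟨((b : H₀) : H), b.2⟩)))⟩⟩,
      fun a ha => Subtype.ext (hE.2 (a : H) ha)⟩,
      by rw [Nat.card_congr (subgroupOfEquivOfLe hEH).toEquiv, hE3]⟩ rfl
  refine ⟨r', F.map H₀.subtype, hr', hr2, ⟨?_, ?_⟩, ?_, fun hcyc => hF ?_⟩
  · haveI := hFe.1
    infer_instance
  · rintro _ ⟨a, ha, rfl⟩
    rw [← map_pow, hFe.2 a ha, map_one]
  · rw [card_map_of_injective H₀.subtype_injective, hF3]
  · haveI := hcyc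
    refine isCyclic_of_injective
      (⟨⟨fun a => ⟨((a : H₀) : H), ⟨(a : H₀), a.2.1, rfl⟩, fun v hv => ?_⟩, rfl⟩,
        fun a b => rfl⟩ : ↥(F ⊓ fixV ρ' ⟨c, hcH⟩) →* ↥(F.map H₀.subtype ⊓ fixV ρ c))
      fun a b h => Subtype.ext (Subtype.ext (congrArg (fun z : ↥(F.map H₀.subtype ⊓ fixV ρ c) =>
        (z : H)) h))
    obtain ⟨y, hy, hyx⟩ := hVm hv
    have h := a.2.2 ((ρ' ⟨c, hcH⟩ - 1) ⟨y, hy⟩) ⟨⟨y, hy⟩, rfl⟩
    rw [← hyx]
    exact congrArg Subtype.val h

/-- A system of imprimitivity by idempotents. -/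
def Blocks (O : Set (Module.End (ZMod 2) W)) : Prop :=
  O.Nonempty ∧ (∀ f ∈ O, f * f = f ∧ f ≠ 0 ∧ f ≠ 1) ∧
    (∀ f ∈ O, ∀ f' ∈ O, f ≠ f' → f * f' = 0) ∧
    (∀ h, ∀ f ∈ O, ρ h * f * ρ h⁻¹ ∈ O) ∧
    ∀ f ∈ O, ∀ f' ∈ O, ∃ h, f' = ρ h * f * ρ h⁻¹

/-- Either a block system or every normal abelian group of operators generates a field. -/
theorem dichotomy (hodd : Odd (Nat.card ρ.toHomUnits.range)) (A : Subgroup ρ.toHomUnits.range)
    [A.Normal] (hAc : ∀ a ∈ A, ∀ b ∈ A, a * b = b * a) :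
    (∀ x ∈ Subring.closure (Set.range fun a : A =>
        (((a : ρ.toHomUnits.range) : (Module.End (ZMod 2) W)ˣ) : Module.End (ZMod 2) W)),
      x ≠ 0 → ∀ w, x w = 0 → w = 0) ∨ ∃ O, Blocks ρ O := by
  classical
  haveI : Finite (Module.End (ZMod 2) W) := finite_end
  set ι : A → Module.End (ZMod 2) W := fun a =>
    (((a : ρ.toHomUnits.range) : (Module.End (ZMod 2) W)ˣ) : Module.End (ZMod 2) W) with hι
  set R := Subring.closure (Set.range ι) with hR
  have hcomm := closure_comm (s := Set.range ι) (by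
    rintro _ ⟨a, rfl⟩ _ ⟨b, rfl⟩
    exact congrArg (fun z : ρ.toHomUnits.range => ((z : (Module.End (ZMod 2) W)ˣ) : Module.End (ZMod 2) W))
      (hAc a a.2 b b.2))
  set k := Nat.totient (Nat.card ρ.toHomUnits.range) with hk
  obtain ⟨t, ht⟩ : ∃ t, 2 ^ k = 1 + Nat.card ρ.toHomUnits.range * t := by
    have h := Nat.ModEq.pow_totient (x := 2) (n := Nat.card ρ.toHomUnits.range)
      (Nat.coprime_two_left.2 hodd)
    obtain ⟨t, ht⟩ := (Nat.modEq_iff_dvd' Nat.one_le_two_pow).1 h.symm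
    exact ⟨t, by rw [← hk] at ht; have := Nat.one_le_two_pow (n := k); omega⟩
  have hadd : ∀ j, ∀ x ∈ R, ∀ y ∈ R, (x + y) ^ 2 ^ j = x ^ 2 ^ j + y ^ 2 ^ j := by
    intro j
    induction j with
    | zero => intro x _ y _; simp
    | succ j ih =>
      intro x hx y hy
      rw [pow_succ 2 j, pow_mul, pow_mul, pow_mul, ih x hx y hy, pow_two, pow_two, pow_two, add_mul,
        mul_add, mul_add, hcomm _ (pow_mem hy _) _ (pow_mem hx _), add_assoc,
        ← add_assoc (x ^ 2 ^ j * y ^ 2 ^ j), endAddSelf, zero_add]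
  have hfrob : ∀ x ∈ R, x ^ 2 ^ k = x := by
    intro x hx
    refine Subring.closure_induction (p := fun z _ => z ^ 2 ^ k = z) ?_ ?_ ?_ ?_ ?_ ?_ hx
    · rintro _ ⟨a, rfl⟩
      have h1 : (a : ρ.toHomUnits.range) ^ 2 ^ k = a := by
        rw [ht, pow_add, pow_one, pow_mul, pow_card_eq_one', one_pow, mul_one]
      calc ι a ^ 2 ^ k
          = ((((a : ρ.toHomUnits.range) ^ 2 ^ k : ρ.toHomUnits.range) : (Module.End (ZMod 2) W)ˣ) : Module.End (ZMod 2) W) := by
            simp [hι]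
        _ = ι a := by rw [h1]
    · exact zero_pow (by positivity)
    · exact one_pow _
    · intro x y hx hy ex ey
      rw [hadd k x hx y hy, ex, ey]
    · intro x _ ex
      rw [show -x = x from neg_eq_of_add_eq_zero_left (endAddSelf x), ex]
    · intro x y hx hy ex ey
      rw [(show Commute x y from hcomm x hx y hy).mul_pow, ex, ey]
  have hk0 : 2 ≤ 2 ^ k := by
    have : 0 < k := Nat.totient_pos.2 Nat.card_pos
    calc 2 = 2 ^ 1 := (pow_one 2).symm
      _ ≤ 2 ^ k := Nat.pow_le_pow_right two_pos this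
  by_cases hid : ∀ e ∈ R, e * e = e → e = 0 ∨ e = 1
  · left
    intro x hx hx0 w hw
    rcases hid _ (pow_mem hx (2 ^ k - 1)) (by
      rw [← pow_add, show 2 ^ k - 1 + (2 ^ k - 1) = (2 ^ k - 2) + 2 ^ k by omega, pow_add,
        hfrob x hx, ← pow_succ, show 2 ^ k - 2 + 1 = 2 ^ k - 1 by omega]) with h | h
    · refine absurd ?_ hx0
      rw [← hfrob x hx, show 2 ^ k = (2 ^ k - 1) + 1 by omega, pow_succ, h, zero_mul]
    · rw [show 2 ^ k - 1 = (2 ^ k - 2) + 1 by omega, pow_succ] at h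
      have h2 := LinearMap.congr_fun h w
      rw [Module.End.mul_apply, hw, map_zero] at h2
      exact h2.symm
  right
  push Not at hid
  obtain ⟨e₀, he₀R, he₀i, he₀0, he₀1⟩ := hid
  obtain ⟨e, ⟨heR, hei, he0⟩, hemin⟩ := Set.exists_min_image
    {e : Module.End (ZMod 2) W | e ∈ R ∧ e * e = e ∧ e ≠ 0}
    (fun e => Nat.card (LinearMap.range e)) (Set.toFinite _) ⟨e₀, he₀R, he₀i, he₀0⟩
  have hconjR : ∀ h, ∀ x ∈ R, ρ h * x * ρ h⁻¹ ∈ R := by
    intro h x hx
    refine Subring.closure_induction (p := fun z _ => ρ h * z * ρ h⁻¹ ∈ R) ?_ ?_ ?_ ?_ ?_ ?_ hx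
    · rintro _ ⟨a, rfl⟩
      let g : ρ.toHomUnits.range := ⟨ρ.toHomUnits h, ⟨h, rfl⟩⟩
      refine Subring.subset_closure ⟨⟨g * a * g⁻¹, Subgroup.Normal.conj_mem inferInstance _ a.2 g⟩, ?_⟩
      show (((g * a * g⁻¹ : ρ.toHomUnits.range) : (Module.End (ZMod 2) W)ˣ) : Module.End (ZMod 2) W) = _
      rw [Subgroup.coe_mul, Subgroup.coe_mul, Units.val_mul, Units.val_mul]
      congr 1
    · rw [mul_zero, zero_mul]; exact zero_mem _
    · rw [mul_one, ← map_mul, mul_inv_cancel, map_one]; exact one_mem _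
    · intro x y _ _ hx hy; rw [mul_add, add_mul]; exact add_mem hx hy
    · intro x _ hx; rw [mul_neg, neg_mul]; exact neg_mem hx
    · intro x y _ _ hx hy
      rw [show ρ h * (x * y) * ρ h⁻¹ = ρ h * x * ρ h⁻¹ * (ρ h * y * ρ h⁻¹) by
        rw [mul_assoc (ρ h * x) (ρ h⁻¹), ← mul_assoc (ρ h⁻¹), ← mul_assoc (ρ h⁻¹), ← map_mul,
          inv_mul_cancel, map_one, one_mul, ← mul_assoc, ← mul_assoc]]
      exact mul_mem hx hy
  have he1 : e ≠ 1 := by
    intro h1
    have hle := hemin e₀ ⟨he₀R, he₀i, he₀0⟩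
    rw [h1, show LinearMap.range (1 : Module.End (ZMod 2) W) = ⊤ from LinearMap.range_id] at hle
    refine he₀1 (LinearMap.ext fun w => ?_)
    have htop : (LinearMap.range e₀ : Set W) = Set.univ :=
      Set.eq_of_subset_of_ncard_le (Set.subset_univ _) (by
        rw [← Nat.card_coe_set_eq, ← Nat.card_coe_set_eq]
        simpa [Nat.card_congr (Equiv.Set.univ W), Nat.card_congr (Submodule.topEquiv.toEquiv)]
          using hle) (Set.toFinite _)
    obtain ⟨y, rfl⟩ := htop.ge (Set.mem_univ w)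
    rw [← Module.End.mul_apply, he₀i, Module.End.one_apply]
  set O := Set.range fun h => ρ h * e * ρ h⁻¹
  have hcc : ∀ h k : H, ρ k * (ρ h * e * ρ h⁻¹) * ρ k⁻¹ = ρ (k * h) * e * ρ (k * h)⁻¹ := by
    intro h k
    rw [map_mul, mul_inv_rev, map_mul]
    simp only [mul_assoc]
  have hcan : ∀ (h : H) (x : Module.End (ZMod 2) W), ρ h⁻¹ * (ρ h * x * ρ h⁻¹) * ρ h = x := by
    intro h x
    rw [← mul_assoc, ← mul_assoc, ← map_mul, inv_mul_cancel, map_one, one_mul, mul_assoc, ← map_mul,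
      inv_mul_cancel, map_one, mul_one]
  have hprop : ∀ f ∈ O, f ∈ R ∧ f * f = f ∧ f ≠ 0 ∧
      Nat.card (LinearMap.range f) = Nat.card (LinearMap.range e) := by
    rintro _ ⟨h, rfl⟩
    refine ⟨hconjR h e heR, ?_, fun e' => he0 ((hcan h e).symm.trans (by
      rw [show ρ h * e * ρ h⁻¹ = 0 from e', mul_zero, zero_mul])), ?_⟩
    · show ρ h * e * ρ h⁻¹ * (ρ h * e * ρ h⁻¹) = ρ h * e * ρ h⁻¹
      rw [mul_assoc (ρ h * e) (ρ h⁻¹), ← mul_assoc (ρ h⁻¹), ← mul_assoc (ρ h⁻¹), ← map_mul,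
        inv_mul_cancel, map_one, one_mul, ← mul_assoc, mul_assoc (ρ h), hei]
    · refine (Nat.card_congr (Equiv.ofBijective (fun x : LinearMap.range e =>
        (⟨ρ h (x : W), by
          obtain ⟨y, hy⟩ := x.2
          exact ⟨ρ h y, by rw [Module.End.mul_apply, Module.End.mul_apply, apply_inv, hy]⟩⟩ :
          LinearMap.range (ρ h * e * ρ h⁻¹))) ⟨fun a b hab => Subtype.ext
            (CfsgLib.PGroup.rep_injective ρ h (congrArg Subtype.val hab)), fun x => ?_⟩)).symm
      obtain ⟨y, hy⟩ := x.2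
      exact ⟨⟨e (ρ h⁻¹ y), ⟨_, rfl⟩⟩, Subtype.ext hy⟩
  refine ⟨O, ⟨e, 1, by simp⟩, fun f hf => ⟨(hprop f hf).2.1, (hprop f hf).2.2.1, ?_⟩, ?_, ?_, ?_⟩
  · intro f1
    obtain ⟨h, rfl⟩ := hf
    exact he1 ((hcan h e).symm.trans (by
      rw [show ρ h * e * ρ h⁻¹ = 1 from f1, mul_one, ← map_mul, inv_mul_cancel, map_one]))
  · intro f hf f' hf' hne
    by_contra h0
    obtain ⟨hfR, hfi, -, hfc⟩ := hprop f hf
    obtain ⟨hfR', hfi', -, hfc'⟩ := hprop f' hf'
    have hcm := hcomm f hfR f' hfR'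
    have hid : f * f' * (f * f') = f * f' := by
      rw [mul_assoc f f', ← mul_assoc f' f, ← hcm, mul_assoc f f', hfi', ← mul_assoc, hfi]
    have hmn := hemin (f * f') ⟨mul_mem hfR hfR', hid, h0⟩
    have key : ∀ g ∈ R, g * g = g → g * (f * f') = f * f' →
        Nat.card (LinearMap.range g) = Nat.card (LinearMap.range e) → g = f * f' := by
      intro g hgR hg hgf hgc
      have hle : LinearMap.range (f * f') ≤ LinearMap.range g := by
        rintro _ ⟨w, rfl⟩
        exact ⟨(f * f') w, by rw [← Module.End.mul_apply, hgf]⟩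
      have heq : (LinearMap.range (f * f') : Set W) = LinearMap.range g :=
        Set.eq_of_subset_of_ncard_le hle (by
          simpa [← Nat.card_coe_set_eq] using hgc.le.trans hmn) (Set.toFinite _)
      refine LinearMap.ext fun w => ?_
      obtain ⟨y, hy⟩ := heq.ge ⟨w, rfl⟩
      calc g w = (f * f') y := hy.symm
        _ = (f * f') ((f * f') y) := (LinearMap.congr_fun hid y).symm
        _ = (f * f') (g w) := by rw [hy]
        _ = (f * f') w := LinearMap.congr_fun
            (show f * f' * g = f * f' from (hcomm _ (mul_mem hfR hfR') g hgR).trans hgf) w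
    exact hne ((key f hfR hfi (by rw [← mul_assoc, hfi]) hfc).trans
      (key f' hfR' hfi' (by rw [← mul_assoc, ← hcm, mul_assoc, hfi']) hfc').symm)
  · rintro k _ ⟨h, rfl⟩
    exact ⟨k * h, (hcc h k).symm⟩
  · rintro _ ⟨h, rfl⟩ _ ⟨h', rfl⟩
    exact ⟨h' * h⁻¹, by rw [hcc, inv_mul_cancel_right]⟩

end Step

end CfsgLib.SmallComm
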