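import Cfsg.Agent.Lib.PGroup.SmallCommutatorBlocks

/-!
Two disjoint subspaces on which an elementary operator group of rank two has fixed point free elements.
-/

set_option autoImplicit false
set_option linter.style.haveILetI false
set_option linter.unusedSectionVars false
set_option maxHeartbeats 1000000

open Subgroup

namespace CfsgLib.SmallComm

universe u v

variable {W : Type v} [AddCommGroup W] [Module (ZMod 2) W] [Finite W]

/-- Two disjoint subspaces with fixed point free operators. -/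
theorem two_parts {r : ℕ} [Fact r.Prime] (hr2 : r ≠ 2) {Q : Type u} [Group Q] [Finite Q]
    (φ : Q →* Module.End (ZMod 2) W) (hφ : Function.Injective φ) (hQc : ∀ a b : Q, a * b = b * a)
    (hQe : ∀ a : Q, a ^ r = 1) (hQ2 : Nat.card Q = r ^ 2) (Z : Module.End (ZMod 2) W)
    (hZ : ∀ q, Z * φ q = φ q * Z) :
    ∃ X Y : Submodule (ZMod 2) W, X ≠ ⊥ ∧ Y ≠ ⊥ ∧ Nat.card X * Nat.card Y ≤ Nat.card W ∧
      (∀ w ∈ X, Z w ∈ X) ∧ (∀ w ∈ Y, Z w ∈ Y) ∧
      Nat.card X ≡ 1 [MOD r] ∧ Nat.card Y ≡ 1 [MOD r] := by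
  classical
  have hr := (Fact.out : r.Prime)
  letI := Fintype.ofFinite Q
  have hodd : Odd (Nat.card Q) := by rw [hQ2]; exact (hr.odd_of_ne_two hr2).pow
  set P : Module.End (ZMod 2) W := ∑ q : Q, φ q with hP
  have hPφ : ∀ q w, P (φ q w) = P w ∧ φ q (P w) = P w := by
    intro q w
    simp only [hP, LinearMap.sum_apply, map_sum, ← apply_mul φ]
    exact ⟨Fintype.sum_equiv (Equiv.mulRight q) _ _ fun x => rfl,
      Fintype.sum_equiv (Equiv.mulLeft q) _ _ fun x => rfl⟩
  have hPfix : ∀ w, (∀ q, φ q w = w) → P w = w := by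
    intro w hw
    rw [hP, LinearMap.sum_apply, Finset.sum_congr rfl fun q _ => hw q, Finset.sum_const,
      Finset.card_univ, ← Nat.card_eq_fintype_card, ← Nat.cast_smul_eq_nsmul (ZMod 2),
      ZMod.natCast_eq_one_iff_odd.2 hodd, one_smul]
  have hPZ : ∀ w, P (Z w) = Z (P w) := by
    intro w
    simp only [hP, LinearMap.sum_apply, map_sum]
    exact Finset.sum_congr rfl fun q _ => (LinearMap.congr_fun (hZ q) w).symm
  let C := {X : Submodule (ZMod 2) W | X ≠ ⊥ ∧ X ≤ LinearMap.ker P ∧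
    (∀ q, ∀ w ∈ X, φ q w ∈ X) ∧ ∀ w ∈ X, Z w ∈ X}
  have hK : LinearMap.ker P ∈ C := by
    refine ⟨fun h => ?_, le_rfl, fun q w hw => ?_, fun w hw => ?_⟩
    · haveI : Nontrivial Q := Finite.one_lt_card_iff_nontrivial.1 (by
        rw [hQ2]; exact Nat.one_lt_pow two_ne_zero hr.one_lt)
      obtain ⟨q, hq⟩ := exists_ne (1 : Q)
      refine hq (hφ (LinearMap.ext fun w => ?_))
      have hw : w + P w ∈ LinearMap.ker P := by
        rw [LinearMap.mem_ker, map_add, hPfix (P w) fun q => (hPφ q w).2, addSelf]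
      rw [h, Submodule.mem_bot] at hw
      rw [map_one, Module.End.one_apply,
        show w = P w from add_right_cancel (hw.trans (addSelf (P w)).symm)]
      exact (hPφ q w).2
    · rw [LinearMap.mem_ker] at hw ⊢
      rw [(hPφ q w).1, hw]
    · rw [LinearMap.mem_ker] at hw ⊢
      rw [hPZ, hw, map_zero]
  haveI : Finite (Submodule (ZMod 2) W) := Finite.of_injective _ SetLike.coe_injective
  obtain ⟨X, ⟨hX0, hXK, hXq, hXZ⟩, hmin⟩ :=
    Set.exists_min_image C (fun X => Nat.card X) (Set.toFinite _) ⟨_, hK⟩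
  have hsub : ∀ X' : Submodule (ZMod 2) W, X' ≤ X → (∀ q, ∀ w ∈ X', φ q w ∈ X') →
      (∀ w ∈ X', Z w ∈ X') → X' = ⊥ ∨ X' = X := by
    intro X' hle h1 h2
    by_cases h0 : X' = ⊥
    · exact Or.inl h0
    · refine Or.inr (SetLike.coe_injective (Set.eq_of_subset_of_ncard_le hle ?_ (Set.toFinite _)))
      simpa [← Nat.card_coe_set_eq] using hmin X' ⟨h0, hle.trans hXK, h1, h2⟩
  haveI : Nontrivial X := Submodule.nontrivial_iff_ne_bot.2 hX0
  obtain ⟨e₁, he₁, he₁X⟩ : ∃ e : Q, e ≠ 1 ∧ ∀ w ∈ X, φ e w = w := by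
    by_contra hh
    push Not at hh
    let ψ : Q →* Module.End (ZMod 2) X :=
      { toFun := fun q => (φ q).restrict (hXq q)
        map_one' := LinearMap.ext fun w => Subtype.ext (by
          show φ 1 (w : W) = w
          rw [map_one]; rfl)
        map_mul' := fun a b => LinearMap.ext fun w => Subtype.ext (apply_mul φ a b w) }
    have hψ : Function.Injective ψ := (injective_iff_map_eq_one ψ).2 fun q hq => by
      by_contra hq1
      obtain ⟨w, hw, hw'⟩ := hh q hq1
      exact hw' (congrArg Subtype.val (LinearMap.congr_fun hq ⟨w, hw⟩))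
    let Z' : Module.End (ZMod 2) X := Z.restrict hXZ
    have hcyc : IsCyclic Q := by
      refine cyclic_of_domain ψ hψ hQc fun x hx hx0 w hw => ?_
      have hcx : x * Z' = Z' * x ∧ ∀ q, x * ψ q = ψ q * x := by
        refine Subring.closure_induction
          (p := fun z _ => z * Z' = Z' * z ∧ ∀ q, z * ψ q = ψ q * z) ?_ ?_ ?_ ?_ ?_ ?_ hx
        · rintro _ ⟨q, rfl⟩
          exact ⟨LinearMap.ext fun z => Subtype.ext (LinearMap.congr_fun (hZ q) (z : W)).symm,
            fun q' => by rw [← map_mul, hQc, map_mul]⟩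
        · exact ⟨by rw [mul_zero, zero_mul], fun q => by rw [mul_zero, zero_mul]⟩
        · exact ⟨by rw [mul_one, one_mul], fun q => by rw [mul_one, one_mul]⟩
        · intro a b _ _ ha hb
          exact ⟨by rw [add_mul, mul_add, ha.1, hb.1],
            fun q => by rw [add_mul, mul_add, ha.2, hb.2]⟩
        · intro a _ ha
          exact ⟨by rw [neg_mul, mul_neg, ha.1], fun q => by rw [neg_mul, mul_neg, ha.2]⟩
        · intro a b _ _ ha hb
          exact ⟨by rw [mul_assoc, hb.1, ← mul_assoc, ha.1, mul_assoc],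
            fun q => by rw [mul_assoc, hb.2, ← mul_assoc, ha.2, mul_assoc]⟩
      have hi1 : ∀ q, ∀ z ∈ (LinearMap.ker x).map X.subtype, φ q z ∈ (LinearMap.ker x).map X.subtype := by
        rintro q _ ⟨z, hz, rfl⟩
        refine ⟨ψ q z, ?_, rfl⟩
        show x (ψ q z) = 0
        rw [← Module.End.mul_apply, hcx.2, Module.End.mul_apply, show x z = 0 from hz, map_zero]
      have hi2 : ∀ z ∈ (LinearMap.ker x).map X.subtype, Z z ∈ (LinearMap.ker x).map X.subtype := by
        rintro _ ⟨z, hz, rfl⟩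
        refine ⟨Z' z, ?_, rfl⟩
        show x (Z' z) = 0
        rw [← Module.End.mul_apply, hcx.1, Module.End.mul_apply, show x z = 0 from hz, map_zero]
      rcases hsub ((LinearMap.ker x).map X.subtype) (Submodule.map_subtype_le _ _) hi1 hi2 with h | h
      · by_contra hw0
        exact hw0 (Subtype.ext ((Submodule.mem_bot _).1 (h.le ⟨w, hw, rfl⟩)))
      · exfalso
        refine hx0 (LinearMap.ext fun z => ?_)
        obtain ⟨z', hz', hzz⟩ := h.ge z.2
        rw [← show z' = z from Subtype.ext hzz]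
        exact hz'
    refine noncyclic_of_card (K := (⊤ : Subgroup Q)) hr (fun x _ => hQe x) (by rw [card_top, hQ2]) ?_
    exact isCyclic_of_injective (⊤ : Subgroup Q).subtype (Subgroup.subtype_injective _)
  obtain ⟨e₂, he₂⟩ : ∃ e : Q, ¬ ∀ w ∈ X, φ e w = w := by
    by_contra hh
    push Not at hh
    obtain ⟨w, hw, hw0⟩ := X.exists_mem_ne_zero_of_ne_bot hX0
    exact hw0 ((hPfix w fun q => hh q w hw).symm.trans (hXK hw))
  set Y := LinearMap.range (φ e₁ - 1) with hY
  have hT1 : ∀ w, (φ e₁ - 1) w = φ e₁ w + w := T_apply φ e₁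
  have hYfix : ∀ w ∈ Y, φ e₁ w = w → w = 0 := by
    rintro _ ⟨v, rfl⟩ hv
    rw [hT1, map_add] at hv
    have h2 : φ (e₁ ^ 2) v = v := by
      rw [pow_two, apply_mul]
      exact add_right_cancel (hv.trans (add_comm _ _))
    obtain ⟨m, hm⟩ := exists_pow_eq_self_of_coprime (x := e₁) (n := 2)
      (Nat.coprime_two_left.2 (hodd.of_dvd_nat (orderOf_dvd_natCard e₁)))
    have h1 : ∀ j : ℕ, φ ((e₁ ^ 2) ^ j) v = v := by
      intro j
      induction j with
      | zero => rw [pow_zero, map_one]; rfl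
      | succ j ih => rw [pow_succ, apply_mul, h2, ih]
    have := h1 m
    rw [hm] at this
    rw [hT1, this, addSelf]
  refine ⟨X, Y, hX0, fun h => he₁ (hφ (LinearMap.ext fun w => ?_)), ?_, hXZ, ?_, ?_, ?_⟩
  · rw [map_one, Module.End.one_apply]
    exact (T_eq_zero_iff φ e₁ w).1 ((Submodule.mem_bot _).1 (h.le ⟨w, rfl⟩))
  · rw [← Nat.card_prod]
    refine Nat.card_le_card_of_injective (fun s : X × Y => (s.1 : W) + (s.2 : W)) ?_
    rintro ⟨a, b⟩ ⟨a', b'⟩ h
    have e : ((a : W) - a') = (b' : W) - b := by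
      rw [sub_eq_sub_iff_add_eq_add, add_comm (b' : W)]
      exact h
    have h0 : (a : W) - a' = 0 := hYfix _ (e ▸ sub_mem b'.2 b.2) (he₁X _ (sub_mem a.2 a'.2))
    rw [h0] at e
    exact Prod.ext (Subtype.ext (sub_eq_zero.1 h0)) (Subtype.ext (sub_eq_zero.1 e.symm).symm)
  · rintro _ ⟨v, rfl⟩
    refine ⟨Z v, ?_⟩
    rw [hT1, hT1, map_add]
    exact congrArg (· + Z v) (LinearMap.congr_fun (hZ e₁) v).symm
  · refine card_mod (q := r) (φ e₂) (by rw [← map_pow, hQe, map_one]) X (hXq e₂) fun w hw hfw => ?_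
    let X' : Submodule (ZMod 2) W := X ⊓ LinearMap.ker (φ e₂ - 1)
    have hm : ∀ {z}, z ∈ X' ↔ z ∈ X ∧ φ e₂ z = z := fun {z} => by
      rw [Submodule.mem_inf, LinearMap.mem_ker, T_eq_zero_iff]
    have hi1 : ∀ q, ∀ z ∈ X', φ q z ∈ X' := fun q z hz => hm.2 ⟨hXq q z (hm.1 hz).1, by
      rw [← apply_mul φ, hQc, apply_mul, (hm.1 hz).2]⟩
    have hi2 : ∀ z ∈ X', Z z ∈ X' := fun z hz => hm.2 ⟨hXZ z (hm.1 hz).1,
      (LinearMap.congr_fun (hZ e₂) z).symm.trans (congrArg Z (hm.1 hz).2)⟩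
    rcases hsub X' inf_le_left hi1 hi2 with h | h
    · exact (Submodule.mem_bot _).1 (h.le (hm.2 ⟨hw, hfw⟩))
    · exact absurd (fun z hz => (hm.1 (h.ge hz)).2) he₂
  · refine card_mod (q := r) (φ e₁) (by rw [← map_pow, hQe, map_one]) Y ?_ hYfix
    rintro _ ⟨v, rfl⟩
    exact ⟨φ e₁ v, by rw [hT1, hT1, map_add]⟩

/-- Consequence: such a space is large. -/
theorem eight_le {r : ℕ} (hr : 5 ≤ r) (X : Submodule (ZMod 2) W) (hX : X ≠ ⊥)
    (hm : Nat.card X ≡ 1 [MOD r]) : 8 ≤ Nat.card X := by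
  obtain ⟨j, hj⟩ := card_eq_two_pow X
  have h1 : 1 < Nat.card X :=
    Finite.one_lt_card_iff_nontrivial.2 (Submodule.nontrivial_iff_ne_bot.2 hX)
  rw [hj] at h1 hm ⊢
  rcases j with _ | _ | _ | j
  · norm_num at h1
  · have := Nat.le_of_dvd (by norm_num) ((Nat.modEq_iff_dvd' (by norm_num)).1 hm.symm)
    norm_num at this
    omega
  · have := Nat.le_of_dvd (by norm_num) ((Nat.modEq_iff_dvd' (by norm_num)).1 hm.symm)
    norm_num at this
    omega
  · calc 8 = 2 ^ 3 := by norm_num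
      _ ≤ 2 ^ (j + 3) := Nat.pow_le_pow_right two_pos (by omega)

end CfsgLib.SmallComm
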