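import Cfsg.Agent.Lib.PGroup.SmallCommutatorParts

/-!
The primitive case for groups with an element moving only a plane.
-/

set_option autoImplicit false
set_option linter.style.haveILetI false
set_option linter.unusedSectionVars false
set_option maxHeartbeats 1000000

open Subgroup

namespace CfsgLib.SmallComm

universe u v

variable {W : Type v} [AddCommGroup W] [Module (ZMod 2) W] [Finite W]

/-- Three eigenspaces of `u` give `|U| ^ 3 ≤ |W|`. -/
theorem cube_le {G : Type u} [Group G] [Finite G] (τ : G →* Module.End (ZMod 2) W) (u b z : G)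
    (hub : u * b = z * b * u) (hzu : z * u = u * z) (hzb : z * b = b * z)
    (hz : ∀ w, τ z (τ z w) + τ z w + w = 0) :
    Nat.card (LinearMap.ker (τ u - 1)) * Nat.card (LinearMap.ker (τ u - 1)) *
      Nat.card (LinearMap.ker (τ u - 1)) ≤ Nat.card W := by
  set U := LinearMap.ker (τ u - 1)
  have hUm : ∀ {w}, w ∈ U → τ u w = w := fun hw => (T_eq_zero_iff τ u _).1 hw
  have hub1 : ∀ x, τ u (τ b x) = τ z (τ b (τ u x)) := fun x => by
    rw [← apply_mul τ, ← apply_mul τ, ← apply_mul τ, hub, mul_assoc]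
  have hzu1 : ∀ x, τ u (τ z x) = τ z (τ u x) := fun x => by rw [← apply_mul τ, ← apply_mul τ, hzu]
  have hzb1 : ∀ x, τ b (τ z x) = τ z (τ b x) := fun x => by rw [← apply_mul τ, ← apply_mul τ, hzb]
  have hz3 : ∀ w, τ z (τ z (τ z w)) = w := fun w => by
    have h1 := hz w
    have h2 := congrArg (τ z) h1
    rw [map_zero, map_add, map_add, ← h1] at h2
    rw [← sub_eq_zero]
    have h3 : τ z (τ z (τ z w)) - w =
        (τ z (τ z (τ z w)) + τ z (τ z w) + τ z w) - (τ z (τ z w) + τ z w + w) := by abel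
    rw [h3, h2, sub_self]
  have key : ∀ w₀ ∈ U, ∀ w₁ ∈ U, ∀ w₂ ∈ U, w₀ + τ b w₁ + τ b (τ b w₂) = 0 →
      w₀ = 0 ∧ w₁ = 0 ∧ w₂ = 0 := by
    intro w₀ h0 w₁ h1 w₂ h2 e
    set A := τ b w₁ with hA
    set B := τ b (τ b w₂) with hB
    have uA : τ u A = τ z A := by rw [hA, hub1, hUm h1]
    have uB : τ u B = τ z (τ z B) := by rw [hB, hub1, hub1, hUm h2, hzb1]
    have e1 : w₀ + τ z A + τ z (τ z B) = 0 := by
      have h := congrArg (τ u) e
      rwa [map_add, map_add, map_zero, hUm h0, uA, uB] at h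
    have e2 : w₀ + τ z (τ z A) + τ z B = 0 := by
      have h := congrArg (τ u) e1
      rwa [map_add, map_add, map_zero, hUm h0, hzu1, uA, hzu1, hzu1, uB, hz3] at h
    have hw0 : w₀ = 0 := by
      have hsum : w₀ + A + B + (w₀ + τ z A + τ z (τ z B)) + (w₀ + τ z (τ z A) + τ z B) =
          w₀ + (w₀ + w₀) + (τ z (τ z A) + τ z A + A) + (τ z (τ z B) + τ z B + B) := by abel
      rw [e, e1, e2, hz, hz, addSelf w₀] at hsum
      simpa using hsum.symm
    rw [hw0, zero_add] at e e1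
    have eq1 : A = B := by rw [← sub_eq_zero, ZModModule.sub_eq_add]; exact e
    rw [eq1, ← map_add] at e1
    have hzB : B + τ z B = 0 := CfsgLib.PGroup.rep_injective τ z (e1.trans (map_zero _).symm)
    have hzB' : τ z B = B := add_left_cancel (hzB.trans (addSelf B).symm)
    have hB0 : B = 0 := by
      have h := hz B
      rwa [hzB', hzB', addSelf, zero_add] at h
    refine ⟨hw0, CfsgLib.PGroup.rep_injective τ b ((eq1.trans hB0).trans (map_zero _).symm), ?_⟩
    exact CfsgLib.PGroup.rep_injective τ b (CfsgLib.PGroup.rep_injective τ b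
      (hB0.trans ((congrArg (τ b) (map_zero (τ b))).trans (map_zero _)).symm))
  have hf : Function.Injective
      (fun s : U × U × U => (s.1 : W) + τ b (s.2.1 : W) + τ b (τ b (s.2.2 : W))) := by
    rintro ⟨p₀, p₁, p₂⟩ ⟨q₀, q₁, q₂⟩ h
    have h' : ((p₀ : W) - q₀) + τ b ((p₁ : W) - q₁) + τ b (τ b ((p₂ : W) - q₂)) = 0 := by
      have e : (p₀ : W) + τ b (p₁ : W) + τ b (τ b (p₂ : W)) =
          (q₀ : W) + τ b (q₁ : W) + τ b (τ b (q₂ : W)) := h
      rw [map_sub, map_sub, map_sub, ← sub_eq_zero.2 e]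
      abel
    obtain ⟨a0, a1, a2⟩ := key _ (sub_mem p₀.2 q₀.2) _ (sub_mem p₁.2 q₁.2) _ (sub_mem p₂.2 q₂.2) h'
    exact Prod.ext (Subtype.ext (sub_eq_zero.1 a0))
      (Prod.ext (Subtype.ext (sub_eq_zero.1 a1)) (Subtype.ext (sub_eq_zero.1 a2)))
  have h3 := Nat.card_le_card_of_injective _ hf
  rwa [Nat.card_prod, Nat.card_prod, ← mul_assoc] at h3

variable {H : Type u} [Group H] [Finite H] (ρ : H →* Module.End (ZMod 2) W) (c : H)

/-- The primitive case. -/
theorem of_primitive [Group.IsSolvable H] (hodd : Odd (Nat.card H)) (hc : Small ρ c) {r : ℕ}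
    (hr : r.Prime) (E : Subgroup H) (hE : Cfsg.IsElementaryAbelian r E) (hE3 : Nat.card E = r ^ 3)
    (hπ : ∀ s : ℕ, s.Prime → s ∣ Nat.card H → s = 3 ∨ s = r)
    (hfield : ∀ A : Subgroup ρ.toHomUnits.range, A.Normal → (∀ a ∈ A, ∀ b ∈ A, a * b = b * a) →
      ∀ x ∈ Subring.closure (Set.range fun a : A =>
        (((a : ρ.toHomUnits.range) : (Module.End (ZMod 2) W)ˣ) : Module.End (ZMod 2) W)),
      x ≠ 0 → ∀ w, x w = 0 → w = 0) : Good ρ c := by
  classical
  haveI := Fact.mk hr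
  haveI : Fact (Nat.Prime 3) := ⟨Nat.prime_three⟩
  haveI : Finite (Module.End (ZMod 2) W) := finite_end
  obtain ⟨u₀, hu₀⟩ := exists_moved ρ c hc
  haveI : Nontrivial W := ⟨⟨_, _, hu₀⟩⟩
  let π : H →* ρ.toHomUnits.range := ρ.toHomUnits.rangeRestrict
  let τ : ρ.toHomUnits.range →* Module.End (ZMod 2) W :=
    (Units.coeHom _).comp ρ.toHomUnits.range.subtype
  have hτi : Function.Injective τ := fun a b h => Subtype.ext (Units.ext h)
  have hτπ : ∀ h, τ (π h) = ρ h := fun h => rfl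
  have hπs : Function.Surjective π := ρ.toHomUnits.rangeRestrict_surjective
  haveI : Group.IsSolvable ρ.toHomUnits.range := Group.isSolvable_of_surjective hπs
  have hGd : Nat.card ρ.toHomUnits.range ∣ Nat.card H := card_dvd_of_surjective π hπs
  have hGodd : Odd (Nat.card ρ.toHomUnits.range) := hodd.of_dvd_nat hGd
  set Eb := E.map π with hEb
  have hEbe : ∀ x ∈ Eb, x ^ r = 1 := by
    rintro _ ⟨x, hx, rfl⟩
    rw [← map_pow, hE.2 x hx, map_one]
  have hEbc : ∀ a ∈ Eb, ∀ b ∈ Eb, a * b = b * a := by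
    rintro _ ⟨a, ha, rfl⟩ _ ⟨b, hb, rfl⟩
    rw [← map_mul, ← map_mul]
    exact congrArg π (congrArg Subtype.val (hE.1.is_comm.comm (⟨a, ha⟩ : E) ⟨b, hb⟩))
  have hrodd : r ≠ 2 := fun h2 => by
    have h := (dvd_pow_self r three_ne_zero).trans (hE3 ▸ card_subgroup_dvd_card E)
    rw [h2] at h
    exact Nat.not_even_iff_odd.2 hodd (even_iff_two_dvd.2 h)
  obtain ⟨k, hk⟩ := IsPGroup.iff_card.1 (IsPGroup.map (IsPGroup.of_card hE3) π : IsPGroup r Eb)
  by_cases hk1 : k ≤ 1
  · refine ⟨r, E, hr, hrodd, hE, hE3, noncyclic_of_card hr (fun x hx => hE.2 x hx.1) ?_⟩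
    have h1 := card_mul_index (π.ker.subgroupOf E)
    rw [← Subgroup.relIndex, relIndex_ker, show Nat.card ↥(E.map π) = r ^ k from hk, hE3] at h1
    have hle : Nat.card (π.ker.subgroupOf E) ≤ Nat.card ↥(E ⊓ fixV ρ c) := by
      refine Nat.card_le_card_of_injective (fun x => ⟨((x : E) : H), (x : E).2, fun v _ => ?_⟩)
        fun a b h => Subtype.ext (Subtype.ext (congrArg (fun t : ↥(E ⊓ fixV ρ c) => (t : H)) h))
      have hx : π ((x : E) : H) = 1 := x.2
      rw [← hτπ, hx, map_one]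
      rfl
    refine le_trans ?_ hle
    by_contra hlt
    push Not at hlt
    have h2 : r ^ k ≤ r ^ 1 := Nat.pow_le_pow_right hr.pos hk1
    rw [pow_one] at h2
    have h3 : r ^ 3 = r ^ 2 * r := pow_succ r 2
    nlinarith [hr.pos]
  obtain ⟨Q₀, hQ₀⟩ := Sylow.exists_subgroup_card_pow_prime (G := Eb) r (n := 2)
    (hk ▸ pow_dvd_pow r (by omega))
  exfalso
  have hncyc : ¬ IsCyclic ρ.toHomUnits.range := fun h => by
    haveI := h
    exact noncyclic_of_card (K := Eb) hr hEbe (hk ▸ Nat.pow_le_pow_right hr.pos (by omega))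
      (Subgroup.isCyclic Eb)
  have hAcyc : ∀ A : Subgroup ρ.toHomUnits.range, A.Normal →
      (∀ a ∈ A, ∀ b ∈ A, a * b = b * a) → IsCyclic A :=
    fun A hA hAc => cyclic_of_domain (τ.comp A.subtype) (hτi.comp A.subtype_injective)
      (fun a b => Subtype.ext (hAc a a.2 b b.2)) (hfield A hA hAc)
  by_cases h3 : r = 3
  · subst h3
    have hGp : IsPGroup 3 ρ.toHomUnits.range := IsPGroup.of_card
      (Nat.eq_prime_pow_of_unique_prime_dvd Nat.card_pos.ne' fun {d} hd hdd =>
        (hπ d hd (hdd.trans hGd)).elim id id)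
    obtain ⟨E₂, -, hE₂n, hE₂, hE₂c⟩ :=
      CfsgLib.CFun.exists_normal_elementary_two (by norm_num) (hGp.to_subgroup ⊤) fun h => hncyc (by
        haveI := h
        exact isCyclic_of_surjective (⊤ : Subgroup ρ.toHomUnits.range).subtype
          fun x => ⟨⟨x, mem_top x⟩, rfl⟩)
    exact noncyclic_of_card hr hE₂.2 hE₂c.ge (hAcyc E₂ (normalizer_eq_top_iff.1 (top_le_iff.1 hE₂n))
      fun a ha b hb => congrArg Subtype.val (hE₂.1.is_comm.comm (⟨a, ha⟩ : E₂) ⟨b, hb⟩))
  have hr5 : 5 ≤ r := by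
    have := hr.two_le
    by_contra hlt
    interval_cases r
    · exact hrodd rfl
    · exact h3 rfl
    · norm_num at hr
  let φ : Q₀ →* Module.End (ZMod 2) W := τ.comp (Eb.subtype.comp Q₀.subtype)
  have hφ : Function.Injective φ := hτi.comp (Eb.subtype_injective.comp Q₀.subtype_injective)
  have hQc : ∀ a b : Q₀, a * b = b * a := fun a b =>
    Subtype.ext (Subtype.ext (hEbc _ (a : Eb).2 _ (b : Eb).2))
  have hQe : ∀ a : Q₀, a ^ r = 1 := fun a => Subtype.ext (Subtype.ext (hEbe _ (a : Eb).2))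
  set KT := LinearMap.ker (ρ c - 1) with hKT
  have hW4 : Nat.card W = Nat.card KT * 4 := by rw [← hc.2.2, card_ker_mul_range]
  have hcK : ∀ w ∈ KT, ρ c w = w := fun w hw => (T_eq_zero_iff ρ c w).1 hw
  have hsmall : ¬ Nat.card W ≤ 16 := fun hle => by
    obtain ⟨X, Y, hX, hY, hXY, -, -, hXm, hYm⟩ :=
      two_parts hrodd φ hφ hQc hQe hQ₀ 1 fun q => by rw [one_mul, mul_one]
    have := eight_le hr5 X hX hXm
    have := eight_le hr5 Y hY hYm
    nlinarith
  obtain ⟨A, ⟨hAn, hAc⟩, hAmax⟩ := (Set.toFinite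
    {A : Subgroup ρ.toHomUnits.range | A.Normal ∧ ∀ a ∈ A, ∀ b ∈ A, a * b = b * a}).exists_maximal
      ⟨⊥, inferInstance, fun a ha b hb => by rw [mem_bot.1 ha, mem_bot.1 hb]⟩
  haveI := hAn
  have hdom := hfield A hAn hAc
  set R := Subring.closure (Set.range fun a : A =>
    (((a : ρ.toHomUnits.range) : (Module.End (ZMod 2) W)ˣ) : Module.End (ZMod 2) W)) with hR
  have hAR : ∀ a ∈ A, τ a ∈ R := fun a ha => Subring.subset_closure ⟨⟨a, ha⟩, rfl⟩
  have hRcomm : ∀ x ∈ R, ∀ y ∈ R, x * y = y * x := closure_comm (by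
    rintro _ ⟨a, rfl⟩ _ ⟨b, rfl⟩
    exact congrArg τ (hAc a a.2 b b.2))
  have hcentR : ∀ g : ρ.toHomUnits.range, (∀ b ∈ A, g * b = b * g) →
      ∀ x ∈ R, τ g * x = x * τ g := by
    intro g hg x hx
    refine (Subring.mem_centralizer_iff.1 ((Subring.closure_le
      (t := Subring.centralizer {τ g})).2 ?_ hx)) _ rfl
    rintro _ ⟨b, rfl⟩
    refine Subring.mem_centralizer_iff.2 ?_
    rintro _ rfl
    show τ g * τ b = τ b * τ g
    rw [← map_mul, ← map_mul, hg b b.2]
  set cb := π c with hcb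
  have hτc : τ cb = ρ c := rfl
  by_cases hcA : ∃ a ∈ A, cb * a * cb⁻¹ ≠ a
  · obtain ⟨a, ha, hd⟩ := hcA
    refine hsmall ?_
    set d := cb * a * cb⁻¹ with hd'
    have hdif : τ d + τ a ≠ 0 := fun e => hd (hτi (add_right_cancel (e.trans (endAddSelf _).symm)))
    have hgv : ∀ w : KT, (ρ c - 1) (τ a (w : W)) = (τ d + τ a) (w : W) := fun w => by
      rw [T_apply, LinearMap.add_apply, ← hτc, ← apply_mul τ,
        show cb * a = d * cb by rw [hd', inv_mul_cancel_right], apply_mul τ, hτc, hcK w w.2]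
    let g : KT → LinearMap.range (ρ c - 1) := fun w => ⟨(τ d + τ a) w, ⟨τ a w, hgv w⟩⟩
    have hg : Function.Injective g := fun w w' h => Subtype.ext (sub_eq_zero.1
      (hdom _ (add_mem (hAR d (hAn.conj_mem a ha cb)) (hAR a ha)) hdif _ (by
        rw [map_sub, sub_eq_zero]
        exact congrArg Subtype.val h)))
    have := Nat.card_le_card_of_injective g hg
    rw [hc.2.2] at this
    rw [hW4]
    omega
  push Not at hcA
  have hRc : ∀ x ∈ R, ρ c * x = x * ρ c := fun x hx =>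
    hcentR cb (fun b hb => mul_inv_eq_iff_eq_mul.1 (hcA b hb)) x hx
  obtain ⟨v₀, hv₀, hv₀0⟩ : ∃ v ∈ LinearMap.range (ρ c - 1), v ≠ 0 :=
    ⟨(ρ c - 1) u₀, ⟨u₀, rfl⟩, fun e => hu₀ ((T_eq_zero_iff ρ c u₀).1 e)⟩
  have hcommV : ∀ x : Module.End (ZMod 2) W, ρ c * x = x * ρ c →
      x v₀ ∈ LinearMap.range (ρ c - 1) := by
    intro x hx
    obtain ⟨y, hy⟩ := hv₀
    refine ⟨x y, ?_⟩
    rw [← hy, T_apply, T_apply, map_add]
    exact congrArg (· + x y) (LinearMap.congr_fun hx y)
  let ev : R → LinearMap.range (ρ c - 1) := fun x =>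
    ⟨(x : Module.End (ZMod 2) W) v₀, hcommV x (hRc x x.2)⟩
  have hev : Function.Injective ev := fun x y h => Subtype.ext (sub_eq_zero.1 (by
    by_contra hne
    exact hv₀0 (hdom _ (sub_mem x.2 y.2) hne v₀ (by
      rw [LinearMap.sub_apply, sub_eq_zero]
      exact congrArg Subtype.val h))))
  haveI : Nontrivial ρ.toHomUnits.range := by
    by_contra hh
    rw [not_nontrivial_iff_subsingleton] at hh
    exact hncyc inferInstance
  obtain ⟨a, ha, ha1⟩ : ∃ a ∈ A, a ≠ 1 := by
    obtain ⟨A', hA'n, hA'0, hA'c⟩ := CfsgLib.TwoPQ.exists_abelian_normal (G := ρ.toHomUnits.range)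
    by_contra hh
    push Not at hh
    have hAb : A = ⊥ := (eq_bot_iff_forall A).2 hh
    exact hA'0 (le_bot_iff.1 (hAb ▸ hAmax ⟨hA'n, hA'c⟩ (hAb ▸ bot_le)))
  have haa : a * a ≠ 1 := fun e => ha1 (orderOf_eq_one_iff.1 (Nat.eq_one_of_dvd_coprimes
      (Nat.coprime_two_left.2 (hGodd.of_dvd_nat (orderOf_dvd_natCard a)))
      (orderOf_dvd_of_pow_eq_one (by rw [pow_two, e])) dvd_rfl))
  have hτ0 : ∀ x : ρ.toHomUnits.range, τ x ≠ 0 := fun x e => by
    refine hu₀ (CfsgLib.PGroup.rep_injective τ x ?_)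
    rw [e, LinearMap.zero_apply, LinearMap.zero_apply]
  have haa' : a * a ≠ a := fun e => ha1 (mul_eq_left.1 e)
  let q4 : Fin 4 → R := ![0, ⟨1, one_mem R⟩, ⟨τ a, hAR a ha⟩, ⟨τ (a * a), hAR _ (mul_mem ha ha)⟩]
  have h1τ : (1 : Module.End (ZMod 2) W) = τ 1 := (map_one τ).symm
  have hq4 : Function.Bijective q4 := by
    have hi : Function.Injective q4 := by
      intro i j h
      fin_cases i <;> fin_cases j <;>
        simp [q4, Subtype.ext_iff, h1τ, hτi.eq_iff, hτ0, (hτ0 _).symm, ha1, ha1.symm, haa, haa.symm,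
          haa', haa'.symm, -map_mul, -map_one] at h ⊢
    refine (Nat.bijective_iff_injective_and_card q4).2 ⟨hi, le_antisymm
      (Nat.card_le_card_of_injective q4 hi) ?_⟩
    rw [Nat.card_fin, ← hc.2.2]
    exact Nat.card_le_card_of_injective ev hev
  have hR4 : ∀ x ∈ R, x = 0 ∨ x = 1 ∨ x = τ a ∨ x = τ (a * a) := by
    intro x hx
    obtain ⟨i, hi⟩ := hq4.2 ⟨x, hx⟩
    have hi' : ((q4 i : R) : Module.End (ZMod 2) W) = x := congrArg Subtype.val hi
    fin_cases i <;> simp [q4, -map_mul] at hi' <;> simp [← hi', -map_mul]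
  have hA3 : ∀ x ∈ A, x = 1 ∨ x = a ∨ x = a * a := by
    intro x hx
    rcases hR4 _ (hAR x hx) with h | h | h | h
    · exact absurd h (hτ0 x)
    · exact Or.inl (hτi (h.trans h1τ))
    · exact Or.inr (Or.inl (hτi h))
    · exact Or.inr (Or.inr (hτi h))
  have ha3 : a * a * a = 1 := by
    rcases hA3 _ (mul_mem (mul_mem ha ha) ha) with h | h | h
    · exact h
    · exact absurd (mul_eq_right.1 h) haa
    · exact absurd (mul_eq_left.1 h) ha1
  have hsum : ∀ z ∈ A, z ≠ 1 → ∀ w, τ z (τ z w) + τ z w + w = 0 := by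
    intro z hz hz1 w
    have hz3 : z * z * z = 1 := by
      rcases hA3 z hz with rfl | rfl | rfl
      · exact absurd rfl hz1
      · exact ha3
      · calc a * a * (a * a) * (a * a) = (a * a * a) * (a * a * a) := by group
          _ = 1 := by rw [ha3, one_mul]
    have e3 : τ z (τ z (τ z w)) = w := by
      rw [← apply_mul τ, ← apply_mul τ, hz3, map_one]; rfl
    have hx : τ z + 1 ∈ R := add_mem (hAR z hz) (one_mem R)
    have hx0 : τ z + 1 ≠ 0 := fun e => hz1 (hτi
      ((add_right_cancel (e.trans (endAddSelf (1 : Module.End (ZMod 2) W)).symm)).trans h1τ))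
    refine hdom _ hx hx0 _ ?_
    simp only [LinearMap.add_apply, Module.End.one_apply, map_add, e3]
    calc _ = (w + w) + (τ z (τ z w) + τ z (τ z w)) + (τ z w + τ z w) := by abel
      _ = 0 := by simp [addSelf]
  have hcent : ∀ g : ρ.toHomUnits.range, ∀ x ∈ A, g * x = x * g := by
    have hga : ∀ g : ρ.toHomUnits.range, g * a = a * g := by
      intro g
      rcases hA3 _ (hAn.conj_mem a ha g) with h | h | h
      · exact absurd (conj_eq_one_iff.1 h) ha1
      · exact mul_inv_eq_iff_eq_mul.1 h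
      · exfalso
        have h2 : g ^ 2 * a * (g ^ 2)⁻¹ = a := by
          calc g ^ 2 * a * (g ^ 2)⁻¹ = g * (g * a * g⁻¹) * g⁻¹ := by rw [pow_two]; group
            _ = g * (a * a) * g⁻¹ := by rw [h]
            _ = (g * a * g⁻¹) * (g * a * g⁻¹) := by group
            _ = a * a * (a * a) := by rw [h]
            _ = a := by rw [← mul_assoc, ha3, one_mul]
        obtain ⟨m, hm⟩ := exists_pow_eq_self_of_coprime (x := g) (n := 2)
          (Nat.coprime_two_left.2 (hGodd.of_dvd_nat (orderOf_dvd_natCard g)))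
        have hc2 : Commute ((g ^ 2) ^ m) a :=
          (show Commute (g ^ 2) a from mul_inv_eq_iff_eq_mul.1 h2).pow_left m
        rw [hm] at hc2
        rw [hc2.eq, mul_inv_cancel_right] at h
        exact haa' h.symm
    intro g x hx
    rcases hA3 x hx with rfl | rfl | rfl
    · rw [one_mul, mul_one]
    · exact hga g
    · rw [← mul_assoc, hga g, mul_assoc, hga g, mul_assoc]
  have hbound : ¬ Nat.card W ≤ 64 := fun hle => by
    obtain ⟨X, Y, hX, hY, hXY, hXa, hYa, hXm, hYm⟩ :=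
      two_parts hrodd φ hφ hQc hQe hQ₀ (τ a) fun q => by
        show τ a * τ ((q : Eb) : ρ.toHomUnits.range) = τ ((q : Eb) : ρ.toHomUnits.range) * τ a
        rw [← map_mul, ← map_mul, hcent _ a ha]
    have h16 : ∀ Z : Submodule (ZMod 2) W, Z ≠ ⊥ → (∀ w ∈ Z, τ a w ∈ Z) →
        Nat.card Z ≡ 1 [MOD r] → 16 ≤ Nat.card Z := by
      intro Z hZ hZa hZm
      have h8 := eight_le hr5 Z hZ hZm
      have h3m := card_mod (q := 3) (τ a) (by
        rw [← map_pow, pow_succ, pow_two, ha3, map_one]) Z hZa fun w _ hw => by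
          have := hsum a ha ha1 w
          rwa [hw, hw, addSelf, zero_add] at this
      obtain ⟨j, hj⟩ := card_eq_two_pow Z
      rw [hj] at h8 h3m ⊢
      rcases j with _ | _ | _ | _ | j
      · norm_num at h8
      · norm_num at h8
      · norm_num at h8
      · exact absurd h3m (by decide)
      · calc 16 = 2 ^ 4 := by norm_num
          _ ≤ 2 ^ (j + 4) := Nat.pow_le_pow_right two_pos (by omega)
    have := h16 X hX hXa hXm
    have := h16 Y hY hYa hYm
    nlinarith
  -- a normal subgroup of class two above `A`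
  haveI : Nontrivial (ρ.toHomUnits.range ⧸ A) := by
    by_contra hh
    rw [not_nontrivial_iff_subsingleton] at hh
    have hAt : A = ⊤ := eq_top_iff.2 fun x _ =>
      (QuotientGroup.eq_one_iff x).1 (Subsingleton.elim _ _)
    haveI := hAcyc A hAn hAc
    exact hncyc (isCyclic_of_surjective A.subtype fun x => ⟨⟨x, hAt ▸ mem_top x⟩, rfl⟩)
  haveI : Group.IsSolvable (ρ.toHomUnits.range ⧸ A) :=
    Group.isSolvable_of_surjective (QuotientGroup.mk'_surjective A)
  obtain ⟨B₀, hB₀n, hB₀0, hB₀c⟩ :=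
    CfsgLib.TwoPQ.exists_abelian_normal (G := ρ.toHomUnits.range ⧸ A)
  set B := B₀.comap (QuotientGroup.mk' A)
  haveI : B.Normal := hB₀n.comap _
  have hAB : A ≤ B := fun x hx => by
    show QuotientGroup.mk' A x ∈ B₀
    rw [show QuotientGroup.mk' A x = 1 from (QuotientGroup.eq_one_iff x).2 hx]
    exact one_mem _
  have hBA : ∀ x ∈ B, ∀ y ∈ B, x * y * x⁻¹ * y⁻¹ ∈ A := fun x hx y hy => by
    refine (QuotientGroup.eq_one_iff _).1 ?_
    show QuotientGroup.mk' A (x * y * x⁻¹ * y⁻¹) = 1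
    rw [map_mul, map_mul, map_mul, map_inv, map_inv, hB₀c _ hx _ hy, mul_inv_cancel_right,
      mul_inv_cancel]
  have hBne : ¬ ∀ x ∈ B, ∀ y ∈ B, x * y = y * x := fun hh => by
    refine hB₀0 (le_bot_iff.1 fun z hz => ?_)
    obtain ⟨x, rfl⟩ := QuotientGroup.mk'_surjective A z
    exact mem_bot.2 ((QuotientGroup.eq_one_iff x).2 (hAmax ⟨inferInstance, hh⟩ hAB hz))
  by_cases hgA : ∀ g ∈ B, cb * g * cb⁻¹ * g⁻¹ ∈ A
  · by_cases hone : ∀ g ∈ B, cb * g * cb⁻¹ * g⁻¹ = 1
    · refine hBne fun x hx y hy => ?_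
      have hsur : Function.Surjective ev :=
        ((Nat.bijective_iff_injective_and_card ev).2 ⟨hev, by
          rw [← Nat.card_congr (Equiv.ofBijective q4 hq4), Nat.card_fin, hc.2.2]⟩).2
      have hact : ∀ g ∈ B, ∃ z ∈ R, ∀ s ∈ R, τ g (s v₀) = z (s v₀) := by
        intro g hg
        obtain ⟨z, hz⟩ := hsur ⟨τ g v₀, hcommV (τ g) (by
          rw [← hτc, ← map_mul, ← map_mul]
          exact congrArg τ (mul_inv_eq_iff_eq_mul.1 (mul_inv_eq_one.1 (hone g hg))))⟩
        have hz' : (z : Module.End (ZMod 2) W) v₀ = τ g v₀ := congrArg Subtype.val hz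
        refine ⟨z, z.2, fun s hs => ?_⟩
        rw [← Module.End.mul_apply, hcentR g (hcent g) s hs, Module.End.mul_apply, ← hz',
          ← Module.End.mul_apply, ← Module.End.mul_apply, hRcomm s hs z z.2]
      obtain ⟨zx, hzx, hx'⟩ := hact x hx
      obtain ⟨zy, hzy, hy'⟩ := hact y hy
      have e1 : τ (x * y) v₀ = τ (y * x) v₀ := by
        have e0 := hy' 1 (one_mem R)
        have e0' := hx' 1 (one_mem R)
        rw [Module.End.one_apply] at e0 e0'
        rw [apply_mul τ, apply_mul τ, e0, e0', hx' zy hzy, hy' zx hzx, ← Module.End.mul_apply,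
          ← Module.End.mul_apply, hRcomm zx hzx zy hzy]
      by_contra hne
      have hz1 : x * y * x⁻¹ * y⁻¹ ≠ 1 := fun e =>
        hne (mul_inv_eq_iff_eq_mul.1 (mul_inv_eq_one.1 e))
      have hfix : τ (x * y * x⁻¹ * y⁻¹) (τ (y * x) v₀) = τ (y * x) v₀ := by
        rw [← apply_mul τ, show x * y * x⁻¹ * y⁻¹ * (y * x) = x * y by group]
        exact e1
      have h0 := hsum _ (hBA x hx y hy) hz1 (τ (y * x) v₀)
      rw [hfix, hfix, addSelf, zero_add] at h0
      exact hv₀0 (CfsgLib.PGroup.rep_injective τ (y * x) (h0.trans (map_zero _).symm))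
    · push Not at hone
      obtain ⟨g, hg, hu1⟩ := hone
      refine hsmall ?_
      set u := cb * g * cb⁻¹ * g⁻¹ with hu
      let f : KT × KT → W := fun s => (s.1 : W) + τ g (s.2 : W)
      have hf : Function.Injective f := by
        rintro ⟨w, w'⟩ ⟨v, v'⟩ h
        have e : τ g ((w' : W) - v') = (v : W) - w := by
          rw [map_sub, sub_eq_sub_iff_add_eq_add, add_comm]
          exact h
        have hm : τ g ((w' : W) - v') ∈ KT := e ▸ sub_mem v.2 w.2
        have h1 : τ u (τ g ((w' : W) - v')) = τ g ((w' : W) - v') := by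
          conv_rhs => rw [← hcK _ hm, ← hτc, ← apply_mul τ,
            show cb * g = u * g * cb by rw [hu]; group, apply_mul τ, hτc,
            hcK _ (sub_mem w'.2 v'.2), apply_mul τ]
        have h0 := hsum u (hgA g hg) hu1 (τ g ((w' : W) - v'))
        rw [h1, h1, addSelf, zero_add] at h0
        have h2 : (w' : W) - v' = 0 :=
          CfsgLib.PGroup.rep_injective τ g (h0.trans (map_zero _).symm)
        rw [h2, map_zero] at e
        exact Prod.ext (Subtype.ext (sub_eq_zero.1 e.symm).symm) (Subtype.ext (sub_eq_zero.1 h2))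
      have := Nat.card_le_card_of_injective f hf
      rw [Nat.card_prod, hW4] at this
      have h4 : Nat.card KT ≤ 4 := Nat.le_of_mul_le_mul_left this Nat.card_pos
      rw [hW4]
      omega
  · push Not at hgA
    obtain ⟨g, hg, huA⟩ := hgA
    refine hbound ?_
    set u := cb * g * cb⁻¹ * g⁻¹ with hu
    have huB : u ∈ B := mul_mem (Subgroup.Normal.conj_mem inferInstance g hg cb) (inv_mem hg)
    obtain ⟨b, hb, hub⟩ : ∃ b ∈ B, u * b ≠ b * u := by
      by_contra hh
      push Not at hh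
      refine huA (hAmax (y := (center B).map B.subtype) ⟨inferInstance, ?_⟩ ?_
        ⟨⟨u, huB⟩, mem_center_iff.2 fun y => Subtype.ext (hh y y.2).symm, rfl⟩)
      · rintro _ ⟨y, hy, rfl⟩ _ ⟨z, -, rfl⟩
        exact congrArg Subtype.val (mem_center_iff.1 hy z).symm
      · exact fun x hx => ⟨⟨x, hAB hx⟩, mem_center_iff.2 fun y =>
          Subtype.ext (hcent (y : ρ.toHomUnits.range) x hx), rfl⟩
    set z := u * b * u⁻¹ * b⁻¹ with hz
    have hzA : z ∈ A := hBA u huB b hb
    have hz1 : z ≠ 1 := fun e => hub (mul_inv_eq_iff_eq_mul.1 (mul_inv_eq_one.1 e))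
    have hcube := cube_le τ u b z (by rw [hz]; group) (hcent u z hzA).symm (hcent b z hzA).symm
      (hsum z hzA hz1)
    set U := LinearMap.ker (τ u - 1)
    let f₁ := (ρ c - 1).prod ((ρ c - 1).comp (τ g⁻¹))
    have hker : Nat.card (LinearMap.ker f₁) ≤ Nat.card U := by
      refine Nat.card_le_card_of_injective (fun w => ⟨(w : W), ?_⟩)
        fun a b h => Subtype.ext (congrArg (fun t : U => (t : W)) h)
      have hw : (ρ c - 1) (w : W) = 0 ∧ (ρ c - 1) (τ g⁻¹ (w : W)) = 0 := Prod.ext_iff.1 w.2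
      have hcinv : τ cb⁻¹ (τ g⁻¹ (w : W)) = τ g⁻¹ (w : W) := by
        conv_lhs => arg 2; rw [← hcK _ hw.2, ← hτc]
        rw [apply_inv τ]
      rw [LinearMap.mem_ker, T_eq_zero_iff, show u = cb * (g * cb⁻¹ * g⁻¹) by rw [hu]; group,
        apply_mul τ, apply_mul τ, apply_mul τ, hcinv, apply_inv' τ, hτc, hcK _ hw.1]
    have hrng : Nat.card (LinearMap.range f₁) ≤ 16 := by
      refine le_trans (Nat.card_le_card_of_injective (fun x : LinearMap.range f₁ =>
        ((⟨(x : W × W).1, by obtain ⟨y, hy⟩ := x.2; rw [← hy]; exact ⟨_, rfl⟩⟩ :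
            LinearMap.range (ρ c - 1)),
          (⟨(x : W × W).2, by obtain ⟨y, hy⟩ := x.2; rw [← hy]; exact ⟨_, rfl⟩⟩ :
            LinearMap.range (ρ c - 1))))
        fun a b h => Subtype.ext (Prod.ext (congrArg Subtype.val (congrArg Prod.fst h))
          (congrArg Subtype.val (congrArg Prod.snd h)))) ?_
      rw [Nat.card_prod, hc.2.2]
    have hW16 : Nat.card W ≤ Nat.card U * 16 := by
      have := card_ker_mul_range (W' := W × W) f₁
      calc Nat.card W = _ := this.symm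
        _ ≤ Nat.card U * 16 := Nat.mul_le_mul hker hrng
    have h4 : Nat.card U ≤ 4 := by
      by_contra h5
      push Not at h5
      have h25 := Nat.mul_le_mul_right (Nat.card U) (Nat.mul_le_mul h5 h5)
      omega
    omega

end CfsgLib.SmallComm
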