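import Cfsg.Agent.Lib.Coprime.Action
import Cfsg.Agent.Lib.Coprime.Core
import Cfsg.Agent.Lib.Coprime.Solvable

/-!
# Balance when the commutator of a Sylow subgroup with its normal complement is solvable
-/

set_option autoImplicit false
set_option linter.style.haveILetI false

open Subgroup
open scoped commutatorElement

namespace CfsgLib.PGroup.SolvableCommutatorBalance

universe u

variable {G : Type u} [Group G] [Finite G] {p q : ℕ} [hp : Fact p.Prime] [hq : Fact q.Prime]

/-- The statement with `O_{q'}` trivial. -/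
theorem core (H P : Subgroup G) [H.Normal] (hP : IsPGroup p P) (hHP : H ⊔ P = ⊤)
    (hcop : (Nat.card H).Coprime p) (hsol : Group.IsSolvable ↥⁅H, P⁆)
    (hO : ∀ N : Subgroup G, N.Normal → N ≤ H → (Nat.card N).Coprime q → N = ⊥)
    (z : G) (hzH : z ∈ H) (hz : IsPGroup q (zpowers z))
    (U : Subgroup G) (hUC : U ≤ H ⊓ centralizer {z}) (hUn : H ⊓ centralizer {z} ≤ normalizer (U : Set G))
    (hPU : P ≤ normalizer (U : Set G)) (hU : (Nat.card U).Coprime q)
    (V : Subgroup G) (hV : (Nat.card V).Coprime q)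
    (hVn : H ⊓ centralizer (P : Set G) ≤ normalizer (V : Set G)) :
    ⁅U, P⁆ = ⊥ ∧ U ⊓ V = ⊥ := by
  set K := ⁅H, P⁆ with hK
  have hKH : K ≤ H := Subgroup.commutator_le_left H P
  haveI hKn : K.Normal := by
    rw [← normalizer_eq_top_iff, eq_top_iff, ← hHP]
    refine sup_le (normalizer_commutator_ge_left H P) ?_
    rw [hK, commutator_comm]
    exact normalizer_commutator_ge_left P H
  haveI := hsol
  have hcoreK : Cfsg.pPrimeCore q K = ⊥ := by
    haveI := CfsgLib.Coprime.pPrimeCore_characteristic (G := K) q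
    have h1 := hO _ (CfsgLib.Coprime.map_subtype_normal_of_characteristic K (Cfsg.pPrimeCore q K))
      ((map_subtype_le _).trans hKH)
      (by rw [card_map_of_injective K.subtype_injective]; exact CfsgLib.Coprime.pPrimeCore_coprime hq.out)
    exact (map_eq_bot_iff_of_injective _ K.subtype_injective).1 h1
  set Q := (Cfsg.pCore q K).map K.subtype with hQ
  haveI hQn : Q.Normal := by
    haveI := CfsgLib.Coprime.pCore_characteristic (G := K) q
    exact CfsgLib.Coprime.map_subtype_normal_of_characteristic K (Cfsg.pCore q K)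
  have hQq : IsPGroup q Q := (CfsgLib.Coprime.pCore_isPGroup q).map _
  have hCQ : K ⊓ centralizer (Q : Set G) ≤ Q := by
    rintro k ⟨hkK, hkC⟩
    refine ⟨⟨k, hkK⟩, CfsgLib.Coprime.centralizer_pCore_le hcoreK (mem_centralizer_iff.2 fun x hx => ?_), rfl⟩
    exact Subtype.ext (mem_centralizer_iff.1 hkC (x : G) (mem_map_of_mem K.subtype hx))
  -- `U` centralizes `Q`
  have hUz : zpowers z ≤ centralizer (U : Set G) := by
    rw [zpowers_le, mem_centralizer_iff]
    exact fun u hu => mem_centralizer_singleton_iff.1 (hUC hu).2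
  have hQle : ∀ x : Subgroup G, x ≤ normalizer (Q : Set G) := fun x => by
    rw [normalizer_eq_top_iff.2 hQn]; exact le_top
  have hUQ : U ≤ centralizer (Q : Set G) := by
    refine CfsgLib.Coprime.pq_lemma hz hU hQq hUz (hQle _) (hQle _) ?_
    rintro v ⟨hvQ, hvz⟩
    refine mem_centralizer_iff.2 fun u hu => ?_
    have hv : v ∈ H ⊓ centralizer ({z} : Set G) :=
      ⟨hKH (map_subtype_le _ hvQ), mem_centralizer_singleton_iff.2
        (mem_centralizer_iff.1 hvz z (mem_zpowers z)).symm⟩
    have h1 : u * v * u⁻¹ * v⁻¹ ∈ U := by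
      rw [show u * v * u⁻¹ * v⁻¹ = u * (v * u⁻¹ * v⁻¹) by group]
      exact mul_mem hu ((mem_normalizer_iff.1 (hUn hv) _).1 (inv_mem hu))
    have h2 : u * v * u⁻¹ * v⁻¹ ∈ Q := mul_mem (hQn.conj_mem v hvQ u) (inv_mem hvQ)
    have hcq : (Nat.card U).Coprime (Nat.card Q) := by
      obtain ⟨n, hn⟩ := IsPGroup.iff_card.1 hQq
      rw [hn]
      exact hU.pow_right n
    have h3 : u * v * u⁻¹ * v⁻¹ = 1 := orderOf_eq_one_iff.1 (Nat.eq_one_of_dvd_coprimes hcq
      (Subgroup.orderOf_dvd_natCard _ h1) (Subgroup.orderOf_dvd_natCard _ h2))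
    calc u * v = (u * v * u⁻¹ * v⁻¹) * (v * u) := by group
      _ = v * u := by rw [h3, one_mul]
  -- a `q'`-subgroup and a `q`-group meet trivially
  have hmeet : ∀ x : G, x ∈ Q → x ∈ U → x = 1 := by
    intro x hx hxU
    obtain ⟨n, hn⟩ := IsPGroup.iff_card.1 hQq
    exact orderOf_eq_one_iff.1 (Nat.eq_one_of_dvd_coprimes (hU.pow_right n)
      (Subgroup.orderOf_dvd_natCard _ hxU) (hn ▸ Subgroup.orderOf_dvd_natCard _ hx))
  have hUP : ⁅U, P⁆ = ⊥ := by
    rw [eq_bot_iff]
    intro x hx
    have h1 : x ∈ U := by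
      refine (commutator_le.2 fun u hu b hb => ?_) hx
      rw [commutatorElement_def, show u * b * u⁻¹ * b⁻¹ = u * (b * u⁻¹ * b⁻¹) by group]
      exact mul_mem hu ((mem_normalizer_iff.1 (hPU hb) _).1 (inv_mem hu))
    have h2 : x ∈ K := commutator_mono (hUC.trans inf_le_left) le_rfl hx
    exact mem_bot.2 (hmeet x (hCQ ⟨h2, hUQ h1⟩) h1)
  refine ⟨hUP, ?_⟩
  -- `W` is normal in `C = C_H(Q)`
  set C := H ⊓ centralizer (Q : Set G) with hC
  haveI : (centralizer (Q : Set G)).Normal := Subgroup.normal_centralizer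
  haveI hCn : C.Normal := Subgroup.normal_inf_normal H _
  have hUV : U ⊓ V ≤ V ⊓ C :=
    le_inf inf_le_right (inf_le_left.trans (le_inf (hUC.trans inf_le_left) hUQ))
  refine le_bot_iff.1 (hUV.trans ?_)
  set W := V ⊓ C
  have hWC : W ≤ C := inf_le_right
  have hcopC : (Nat.card P).Coprime (Nat.card C) := by
    obtain ⟨n, hn⟩ := IsPGroup.iff_card.1 hP
    rw [hn]
    exact ((hcop.coprime_dvd_left (card_dvd_of_le inf_le_left)).symm).pow_left n
  have hdec := CfsgLib.Coprime.commutator_sup_centralizer (A := P) (K := C)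
    (normalizer_eq_top_iff.2 hCn ▸ le_top) hcopC
    (Or.inl (CfsgLib.Coprime.isSolvable_of_isNilpotent hP.isNilpotent))
  have hCW : C ≤ normalizer (W : Set G) := by
    rw [← hdec]
    refine sup_le (fun x hx => ?_) (fun x hx => CfsgLib.Coprime.inf_le_normalizer
      ((fun y hy => hVn ⟨hy.1.1, hy.2⟩) : C ⊓ centralizer (P : Set G) ≤ normalizer (V : Set G))
      (inf_le_left.trans le_normalizer) hx)
    have hxC : x ∈ C := Subgroup.commutator_le_left C P hx
    have hxQ : x ∈ Q := hCQ ⟨commutator_mono inf_le_left le_rfl hx, hxC.2⟩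
    refine centralizer_le_normalizer _ (mem_centralizer_iff.2 fun w hw => ?_)
    exact (mem_centralizer_iff.1 hw.2.2 x hxQ).symm
  set Wc := W.subgroupOf C with hWc
  haveI : Wc.Normal := (normal_subgroupOf_iff_le_normalizer hWC).2 hCW
  have hWcop : (Nat.card Wc).Coprime q := by
    rw [Nat.card_congr (subgroupOfEquivOfLe hWC).toEquiv]
    exact hV.coprime_dvd_left (card_dvd_of_le inf_le_left)
  haveI := CfsgLib.Coprime.pPrimeCore_characteristic (G := C) q
  have h1 := hO _ (CfsgLib.Coprime.map_subtype_normal_of_characteristic C (Cfsg.pPrimeCore q C))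
    ((map_subtype_le _).trans inf_le_left)
    (by rw [card_map_of_injective C.subtype_injective]; exact CfsgLib.Coprime.pPrimeCore_coprime hq.out)
  have h2 : Wc = ⊥ := le_bot_iff.1 ((CfsgLib.Coprime.le_pPrimeCore hWcop).trans
    ((map_eq_bot_iff_of_injective _ C.subtype_injective).1 h1).le)
  exact ((subgroupOf_eq_bot.1 h2).eq_bot_of_le hWC).le

/-- Centralizers of coprime operators lift. -/
theorem lift_centralized {A N H : Subgroup G} [N.Normal] (hNH : N ≤ H)
    (hcop : (Nat.card A).Coprime (Nat.card N)) (hA : Group.IsSolvable A) {h : G} (hh : h ∈ H)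
    (hc : ∀ a ∈ A, QuotientGroup.mk' N a * QuotientGroup.mk' N h =
      QuotientGroup.mk' N h * QuotientGroup.mk' N a) :
    ∃ k ∈ H ⊓ centralizer (A : Set G), QuotientGroup.mk' N k = QuotientGroup.mk' N h := by
  have hNn : ∀ X : Subgroup G, X ≤ normalizer (N : Set G) := fun X => by
    rw [normalizer_eq_top_iff.2 (inferInstance : N.Normal)]; exact le_top
  obtain ⟨n, hn, hcn⟩ := CfsgLib.Coprime.exists_fixed_in_coset (k := h) (hNn A) hcop (Or.inl hA)
    (hNn H hh) (fun a ha => by
      rw [← QuotientGroup.eq_one_iff]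
      show QuotientGroup.mk' N (a * h * a⁻¹ * h⁻¹) = 1
      rw [map_mul, map_mul, map_mul, map_inv, map_inv, hc a ha, mul_inv_cancel_right, mul_inv_cancel])
  refine ⟨h * n, ⟨mul_mem hh (hNH hn), hcn⟩, ?_⟩
  rw [map_mul, show QuotientGroup.mk' N n = 1 from (QuotientGroup.eq_one_iff n).2 hn, mul_one]

theorem pPrimeCore_map_normalized (Y X : Subgroup G) (hX : X ≤ normalizer (Y : Set G)) :
    X ≤ normalizer (((Cfsg.pPrimeCore q Y).map Y.subtype : Subgroup G) : Set G) := by
  intro g hg
  haveI := CfsgLib.Coprime.pPrimeCore_characteristic (G := Y) q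
  refine mem_normalizer_fintype ?_
  rintro _ ⟨y, hy, rfl⟩
  refine ⟨Y.normalizerMonoidHom ⟨g, hX hg⟩ y, ?_, rfl⟩
  exact characteristic_iff_map_le.1 inferInstance (Y.normalizerMonoidHom ⟨g, hX hg⟩)
    (mem_map_of_mem _ hy)

/-- General form. -/
theorem main (H P : Subgroup G) [H.Normal] (hP : IsPGroup p P) (hHP : H ⊔ P = ⊤)
    (hcop : (Nat.card H).Coprime p) (hsol : Group.IsSolvable ↥⁅H, P⁆)
    (z : G) (hzH : z ∈ H) (hzP : z ∈ centralizer (P : Set G)) (hz : IsPGroup q (zpowers z)) :
    ((Cfsg.pPrimeCore q ↥(H ⊓ centralizer ({z} : Set G))).map (H ⊓ centralizer ({z} : Set G)).subtype ⊓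
      (Cfsg.pPrimeCore q ↥(H ⊓ centralizer (P : Set G))).map (H ⊓ centralizer (P : Set G)).subtype) ⊔
    ⁅(Cfsg.pPrimeCore q ↥(H ⊓ centralizer ({z} : Set G))).map
        (H ⊓ centralizer ({z} : Set G)).subtype, P⁆ ≤
    (Cfsg.pPrimeCore q ↥H).map H.subtype := by
  set Cz := H ⊓ centralizer ({z} : Set G) with hCz
  set CP := H ⊓ centralizer (P : Set G) with hCP
  set U := (Cfsg.pPrimeCore q Cz).map Cz.subtype with hU
  set V := (Cfsg.pPrimeCore q CP).map CP.subtype with hV
  set O := (Cfsg.pPrimeCore q H).map H.subtype with hO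
  haveI := CfsgLib.Coprime.pPrimeCore_characteristic (G := H) q
  haveI : O.Normal := CfsgLib.Coprime.map_subtype_normal_of_characteristic H (Cfsg.pPrimeCore q H)
  have hOH : O ≤ H := map_subtype_le _
  have hOq : (Nat.card O).Coprime q := by
    rw [card_map_of_injective H.subtype_injective]; exact CfsgLib.Coprime.pPrimeCore_coprime hq.out
  set π := QuotientGroup.mk' O with hπ
  have hπs := QuotientGroup.mk'_surjective O
  haveI : (H.map π).Normal := (inferInstance : H.Normal).map π hπs
  have hUq : (Nat.card U).Coprime q := by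
    rw [card_map_of_injective Cz.subtype_injective]; exact CfsgLib.Coprime.pPrimeCore_coprime hq.out
  have hUCz : U ≤ Cz := map_subtype_le _
  have hVq : (Nat.card V).Coprime q := by
    rw [card_map_of_injective CP.subtype_injective]; exact CfsgLib.Coprime.pPrimeCore_coprime hq.out
  have hCzn : Cz ≤ normalizer (U : Set G) := pPrimeCore_map_normalized Cz Cz le_normalizer
  have hCPn : CP ≤ normalizer (V : Set G) := pPrimeCore_map_normalized CP CP le_normalizer
  have hPCz : P ≤ normalizer (Cz : Set G) := by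
    intro b hb
    refine mem_normalizer_fintype fun w hw => ⟨(inferInstance : H.Normal).conj_mem w hw.1 b, ?_⟩
    have e1 : z * b = b * z := (mem_centralizer_iff.1 hzP b hb).symm
    have e2 : w * z = z * w := mem_centralizer_singleton_iff.1 hw.2
    refine mem_centralizer_singleton_iff.2 ?_
    have hbz : Commute b z := e1.symm
    calc b * w * b⁻¹ * z = b * (w * z) * b⁻¹ := by
          rw [mul_assoc (b * w), hbz.inv_left.eq]; group
      _ = b * (z * w) * b⁻¹ := by rw [e2]
      _ = z * (b * w * b⁻¹) := by rw [← mul_assoc b z w, hbz.eq]; group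
  have hPU : P ≤ normalizer (U : Set G) := pPrimeCore_map_normalized Cz P hPCz
  have hzsol : Group.IsSolvable (zpowers z) :=
    CfsgLib.Coprime.isSolvable_of_isMulCommutative inferInstance
  have hcopz : (Nat.card (zpowers z)).Coprime (Nat.card O) := by
    obtain ⟨n, hn⟩ := IsPGroup.iff_card.1 hz
    rw [hn]; exact hOq.symm.pow_left n
  have hcopP : (Nat.card P).Coprime (Nat.card O) := by
    obtain ⟨n, hn⟩ := IsPGroup.iff_card.1 hP
    rw [hn]; exact ((hcop.coprime_dvd_left (card_dvd_of_le hOH)).symm).pow_left n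
  have hmain := core (p := p) (q := q) (H.map π) (P.map π) (hP.map π)
    (by rw [← Subgroup.map_sup, hHP, map_top_of_surjective _ hπs])
    (hcop.coprime_dvd_left (CfsgLib.Coprime.card_map_dvd_card π H))
    (by
      rw [← map_commutator]
      haveI := hsol
      exact Group.isSolvable_of_surjective ((π).subgroupMap_surjective ⁅H, P⁆))
    (fun N hN hNH hNq => by
      haveI := hN
      have hle : N.comap π ≤ H := by
        intro x hx
        obtain ⟨h, hh, e⟩ := hNH hx
        have hm : x⁻¹ * h ∈ O := by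
          rw [← QuotientGroup.eq_one_iff]
          show π (x⁻¹ * h) = 1
          rw [map_mul, map_inv, e, inv_mul_cancel]
        have h2 := mul_mem hh (inv_mem (hOH hm))
        rwa [mul_inv_rev, inv_inv, mul_inv_cancel_left] at h2
      have hOc : O ≤ N.comap π := QuotientGroup.le_comap_mk' O N
      haveI : ((N.comap π).subgroupOf H).Normal := (hN.comap π).subgroupOf H
      have hc : (Nat.card ((N.comap π).subgroupOf H)).Coprime q := by
        rw [Nat.card_congr (subgroupOfEquivOfLe hle).toEquiv,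
          CfsgLib.Coprime.card_eq_card_mul_card_map_mk' O hOc, map_comap_eq_self_of_surjective hπs]
        exact hOq.mul_left hNq
      have hle2 : N.comap π ≤ O := fun x hx =>
        ⟨⟨x, hle hx⟩, CfsgLib.Coprime.le_pPrimeCore hc hx, rfl⟩
      rw [← map_comap_eq_self_of_surjective hπs N, eq_bot_iff]
      rintro _ ⟨x, hx, rfl⟩
      exact mem_bot.2 ((QuotientGroup.eq_one_iff x).2 (hle2 hx)))
    (π z) (mem_map_of_mem π hzH) (by rw [← MonoidHom.map_zpowers]; exact hz.map π)
    (U.map π)
    (by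
      rintro _ ⟨u, hu, rfl⟩
      refine ⟨mem_map_of_mem π (hUCz hu).1, mem_centralizer_singleton_iff.2 ?_⟩
      rw [← map_mul, ← map_mul, mem_centralizer_singleton_iff.1 (hUCz hu).2])
    (by
      rintro x ⟨⟨h, hh, rfl⟩, hc⟩
      obtain ⟨k, hk, hke⟩ := lift_centralized hOH hcopz hzsol hh (fun a ha => by
        obtain ⟨i, rfl⟩ := ha
        rw [map_zpow]
        exact Commute.zpow_left (mem_centralizer_singleton_iff.1 hc : Commute (π h) (π z)).symm i)
      rw [← hke]
      refine le_normalizer_map π (mem_map_of_mem π (hCzn ⟨hk.1, mem_centralizer_singleton_iff.2 ?_⟩))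
      exact (mem_centralizer_iff.1 hk.2 z (mem_zpowers z)).symm)
    ((map_mono hPU).trans (le_normalizer_map π))
    (hUq.coprime_dvd_left (CfsgLib.Coprime.card_map_dvd_card π U))
    (V.map π) (hVq.coprime_dvd_left (CfsgLib.Coprime.card_map_dvd_card π V))
    (by
      rintro x ⟨⟨h, hh, rfl⟩, hc⟩
      obtain ⟨k, hk, hke⟩ := lift_centralized hOH hcopP
        (CfsgLib.Coprime.isSolvable_of_isNilpotent hP.isNilpotent) hh
        (fun a ha => mem_centralizer_iff.1 hc _ (mem_map_of_mem π ha))
      rw [← hke]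
      exact le_normalizer_map π (mem_map_of_mem π (hCPn hk)))
  refine sup_le (fun x hx => ?_) ?_
  · refine (QuotientGroup.eq_one_iff x).1 (mem_bot.1 ?_)
    rw [← hmain.2]
    exact ⟨mem_map_of_mem π hx.1, mem_map_of_mem π hx.2⟩
  · intro x hx
    refine (QuotientGroup.eq_one_iff x).1 (mem_bot.1 ?_)
    rw [← hmain.1, ← map_commutator]
    exact mem_map_of_mem π hx

end CfsgLib.PGroup.SolvableCommutatorBalance
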