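import Cfsg.Agent.Lib.PGroup.FixedPointFree
import Cfsg.Agent.Lib.Char.Burnside
import Cfsg.Agent.Lib.Fusion.Sylow

/-!
Kegel: splitting automorphisms of prime order; the Hughes subgroup.
-/

set_option linter.style.haveILetI false

namespace CfsgLib.PGroup

open Subgroup
open scoped IsMulCommutative Pointwise commutatorElement

universe u

section Norms
variable {G : Type u} [Group G] (M : Subgroup G)

/-- Conjugation by an element of the normalizer, as an endomorphism. -/
def normConj (g : normalizer (M : Set G)) : M →* M where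
  toFun m := ⟨(g : G) * m * (g : G)⁻¹, (mem_normalizer_iff.1 g.2 m).1 m.2⟩
  map_one' := Subtype.ext (by simp)
  map_mul' a b := Subtype.ext (by simp [mul_assoc])

theorem normConj_coe (g : normalizer (M : Set G)) (m : M) :
    (normConj M g m : G) = (g : G) * m * (g : G)⁻¹ := rfl

theorem normConj_mul (g h : normalizer (M : Set G)) (m : M) :
    normConj M (g * h) m = normConj M g (normConj M h m) :=
  Subtype.ext (by simp only [normConj_coe, coe_mul]; group)

theorem coe_prod_normConj [IsMulCommutative M] (b : normalizer (M : Set G)) (m : M) (n : ℕ) :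
    ((∏ i ∈ Finset.range n, normConj M (b ^ i) m : M) : G) = ((m : G) * b) ^ n * ((b : G) ^ n)⁻¹ := by
  induction n with
  | zero => simp
  | succ n ih =>
    rw [Finset.prod_range_succ, Subgroup.coe_mul, ih, normConj_coe, Subgroup.coe_pow, pow_succ ((m : G) * b),
      pow_succ (b : G)]
    group

/-- Two-generator trick: if all `b = a z^j` have trivial norm on `M`, then `z` centralizes `M`. -/
theorem fixed_of_norms_eq_one [Finite G] [IsMulCommutative M] {p : ℕ} (hp : p.Prime) (hpM : ¬ p ∣ Nat.card M)
    (a z : normalizer (M : Set G)) (hcomm : ∀ m, normConj M (a * z) m = normConj M (z * a) m)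
    (hzp : ∀ m, normConj M (z ^ p) m = m)
    (hnorm : ∀ (j : ℕ) (m : M), ∏ i ∈ Finset.range p, normConj M ((a * z ^ j) ^ i) m = 1) :
    ∀ m, normConj M z m = m := by
  haveI := Fact.mk hp
  have h1c : ∀ m, normConj M 1 m = m := fun m => Subtype.ext (by simp [normConj_coe])
  have hzi : ∀ (i : ℕ) (m : M), normConj M (z ^ i) m = normConj M (z ^ (i % p)) m := by
    intro i m
    conv_lhs => rw [← Nat.div_add_mod i p, pow_add, normConj_mul, pow_mul]
    generalize i / p = k
    induction k with
    | zero => rw [pow_zero, h1c]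
    | succ k ih => rw [pow_succ, normConj_mul, hzp, ih]
  have haz : ∀ (i : ℕ) (m : M), normConj M (z ^ i) (normConj M a m) = normConj M a (normConj M (z ^ i) m) := by
    intro i
    induction i with
    | zero => intro m; rw [pow_zero, h1c, h1c]
    | succ i ih =>
      intro m
      rw [pow_succ', normConj_mul, ih, ← normConj_mul M z a, ← hcomm, normConj_mul, ← normConj_mul M z]
  have haz' : ∀ (i k : ℕ) (m : M),
      normConj M (z ^ i) (normConj M (a ^ k) m) = normConj M (a ^ k) (normConj M (z ^ i) m) := by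
    intro i k
    induction k with
    | zero => intro m; rw [pow_zero, h1c, h1c]
    | succ k ih => intro m; rw [pow_succ', normConj_mul, haz, ih, ← normConj_mul]
  have hsplit : ∀ (j i : ℕ) (m : M),
      normConj M ((a * z ^ j) ^ i) m = normConj M (a ^ i) (normConj M (z ^ (j * i)) m) := by
    intro j i
    induction i with
    | zero => intro m; rw [pow_zero, mul_zero, pow_zero, pow_zero, h1c, h1c]
    | succ i ih =>
      intro m
      rw [pow_succ', normConj_mul, ih, normConj_mul, haz', ← normConj_mul M a, ← pow_succ',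
        ← normConj_mul M (z ^ j), ← pow_add, Nat.mul_succ, add_comm j]
  let Nz : M →* M := ∏ j ∈ Finset.range p, normConj M (z ^ j)
  have hNz : ∀ m, Nz m = ∏ j ∈ Finset.range p, normConj M (z ^ j) m := fun m =>
    MonoidHom.finsetProd_apply _ _ _
  have hre : ∀ i ∈ Finset.Ico 1 p, ∀ m : M,
      ∏ j ∈ Finset.range p, normConj M ((a * z ^ j) ^ i) m = normConj M (a ^ i) (Nz m) := by
    intro i hi m
    rw [Finset.mem_Ico] at hi
    simp only [hsplit, hNz, ← map_prod]
    congr 1
    refine Finset.prod_nbij (fun j => j * i % p) (fun j _ => Finset.mem_range.2 (Nat.mod_lt _ hp.pos))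
      ?_ ?_ (fun j _ => hzi _ _)
    · intro j hj k hk h
      simp only [Finset.coe_range, Set.mem_Iio] at hj hk
      have h2 : (j : ZMod p) * i = (k : ZMod p) * i := by
        exact_mod_cast (ZMod.natCast_eq_natCast_iff' (j * i) (k * i) p).2 h
      have hi0 : (i : ZMod p) ≠ 0 := fun h0 =>
        Nat.not_dvd_of_pos_of_lt hi.1 hi.2 ((ZMod.natCast_eq_zero_iff i p).1 h0)
      have h3 := (ZMod.natCast_eq_natCast_iff' j k p).1 (mul_right_cancel₀ hi0 h2)
      rwa [Nat.mod_eq_of_lt hj, Nat.mod_eq_of_lt hk] at h3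
    · refine Finset.surjOn_of_injOn_of_card_le (fun j => j * i % p)
        (fun j _ => Finset.mem_range.2 (Nat.mod_lt _ hp.pos)) ?_ le_rfl
      intro j hj k hk h
      simp only [Finset.coe_range, Set.mem_Iio] at hj hk
      have h2 : (j : ZMod p) * i = (k : ZMod p) * i := by
        exact_mod_cast (ZMod.natCast_eq_natCast_iff' (j * i) (k * i) p).2 h
      have hi0 : (i : ZMod p) ≠ 0 := fun h0 =>
        Nat.not_dvd_of_pos_of_lt hi.1 hi.2 ((ZMod.natCast_eq_zero_iff i p).1 h0)
      have h3 := (ZMod.natCast_eq_natCast_iff' j k p).1 (mul_right_cancel₀ hi0 h2)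
      rwa [Nat.mod_eq_of_lt hj, Nat.mod_eq_of_lt hk] at h3
  have hpow : ∀ m, Nz m = m ^ p := by
    intro m
    have h1 : ∏ j ∈ Finset.range p, ∏ i ∈ Finset.range p, normConj M ((a * z ^ j) ^ i) m = 1 :=
      Finset.prod_eq_one fun j _ => hnorm j m
    have h2 : ∏ i ∈ Finset.range p, normConj M (a ^ i) (Nz m) = 1 := by
      have := hnorm 0 (Nz m)
      simpa using this
    rw [Finset.prod_comm] at h1
    rw [Finset.range_eq_Ico, Finset.prod_eq_prod_Ico_succ_bot hp.pos] at h1 h2
    rw [← Finset.range_eq_Ico, Finset.prod_congr rfl (fun i hi => hre i (by simpa using hi) m)] at h1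
    simp only [pow_zero, h1c, Finset.prod_const, Finset.card_range] at h1
    rw [pow_zero, h1c] at h2
    exact mul_right_cancel (h2.trans h1.symm)
  intro m
  have hfix : normConj M z (Nz m) = Nz m := by
    obtain ⟨k, hk⟩ := Nat.exists_eq_succ_of_ne_zero hp.ne_zero
    simp only [hNz, map_prod, ← normConj_mul, ← pow_succ']
    rw [hk, Finset.prod_range_succ (fun j => normConj M (z ^ (j + 1)) m),
      Finset.prod_range_succ' (fun j => normConj M (z ^ j) m), pow_zero, h1c, show k + 1 = p from hk.symm, hzp]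
  rw [hpow, map_pow] at hfix
  have hco : p.Coprime (orderOf m) :=
    (hp.coprime_iff_not_dvd.2 hpM).coprime_dvd_right (orderOf_dvd_natCard m)
  obtain ⟨k, hk⟩ := exists_pow_eq_self_of_coprime (x := m) hco
  have := congrArg (· ^ k) hfix
  simp only [← map_pow] at this
  rwa [hk] at this

end Norms

/-- Frobenius action: a coprime group `Q` with a fixed point free `b` of prime order acting centralizes
`M` as soon as the norm of `b` on `M` is trivial. -/
theorem centralizes_of_frobenius {G : Type u} [Group G] [Finite G] {M Q : Subgroup G} [IsMulCommutative M]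
    {p : ℕ} (hp : p.Prime) {b : G} (hbp : b ^ p = 1) (hbM : b ∈ normalizer (M : Set G))
    (hQM : Q ≤ normalizer (M : Set G)) (hbQ : b ∈ normalizer (Q : Set G))
    (hfix : ∀ x ∈ Q, Commute b x → x = 1) (hco : (Nat.card Q).Coprime (Nat.card M))
    (hnorm : ∀ m ∈ M, (m * b) ^ p = 1) :
    Q ≤ centralizer (M : Set G) := by
  classical
  haveI : Fintype Q := Fintype.ofFinite _
  let β : normalizer (M : Set G) := ⟨b, hbM⟩
  let q : Q → normalizer (M : Set G) := fun x => ⟨x, hQM x.2⟩
  let S : M →* M := ∏ y : Q, normConj M (q y)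
  have hS : ∀ m, S m = ∏ y : Q, normConj M (q y) m := fun m => MonoidHom.finsetProd_apply _ _ _
  have hE : ∀ m : M, ∏ i ∈ Finset.range p, normConj M (β ^ i) m = 1 := fun m => Subtype.ext (by
    rw [coe_prod_normConj, hnorm m m.2, hbp]; simp)
  have hre : ∀ i ∈ Finset.Ico 1 p, ∀ m : M,
      ∏ x : Q, normConj M (q x * β ^ i * q x⁻¹) m = S (normConj M (β ^ i) m) := by
    intro i hi m
    rw [Finset.mem_Ico] at hi
    have hmem : ∀ x : Q, b ^ i * (x : G) * (b ^ i)⁻¹ ∈ Q :=
      fun x => (mem_normalizer_iff.1 (pow_mem hbQ i) x).1 x.2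
    let u : Q → Q := fun x => ⟨(x : G) * (b ^ i * (x : G) * (b ^ i)⁻¹)⁻¹, mul_mem x.2 (inv_mem (hmem x))⟩
    have hu : Function.Bijective u := by
      refine (Finite.injective_iff_bijective (f := u)).1 fun x y h => ?_
      have h' := congrArg Subtype.val h
      simp only [u] at h'
      have hcm : Commute (b ^ i) ((y : G)⁻¹ * x) := by
        show b ^ i * ((y : G)⁻¹ * x) = (y : G)⁻¹ * x * b ^ i
        calc b ^ i * ((y : G)⁻¹ * x)
            = (y : G)⁻¹ * ((y : G) * (b ^ i * (y : G) * (b ^ i)⁻¹)⁻¹) * (b ^ i * x) := by group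
          _ = (y : G)⁻¹ * x * b ^ i := by rw [← h']; group
      obtain ⟨k, hk⟩ := exists_pow_eq_self_of_coprime (x := b) (n := i)
        ((hp.coprime_iff_not_dvd.2 (Nat.not_dvd_of_pos_of_lt hi.1 hi.2)).symm.coprime_dvd_right
          (orderOf_dvd_of_pow_eq_one hbp))
      have := hcm.pow_left k
      rw [hk] at this
      exact Subtype.ext (inv_mul_eq_one.1 (hfix _ (mul_mem (inv_mem y.2) x.2) this)).symm
    rw [hS, ← hu.prod_comp fun y => normConj M (q y) (normConj M (β ^ i) m)]
    refine Finset.prod_congr rfl fun x _ => ?_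
    rw [← normConj_mul]
    refine congrArg (fun g => normConj M g m) (Subtype.ext ?_)
    show (x : G) * b ^ i * (x : G)⁻¹ = (x : G) * (b ^ i * (x : G) * (b ^ i)⁻¹)⁻¹ * b ^ i
    group
  have hcard : ∀ m : M, S m = m ^ Nat.card Q := by
    intro m
    have h1 : ∏ x : Q, ∏ i ∈ Finset.range p, normConj M (q x * β ^ i * q x⁻¹) m = 1 := by
      refine Finset.prod_eq_one fun x _ => ?_
      simp only [normConj_mul, ← map_prod, hE, map_one]
    rw [Finset.prod_comm] at h1
    have h2 : ∏ i ∈ Finset.range p, S (normConj M (β ^ i) m) = 1 := by rw [← map_prod, hE, map_one]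
    rw [Finset.range_eq_Ico, Finset.prod_eq_prod_Ico_succ_bot hp.pos] at h1 h2
    rw [Finset.prod_congr rfl (fun i hi => hre i (by simpa using hi) m)] at h1
    have h0 : ∏ x : Q, normConj M (q x * β ^ 0 * q x⁻¹) m = m ^ Nat.card Q := by
      rw [Nat.card_eq_fintype_card, ← Finset.card_univ]
      refine Finset.prod_eq_pow_card fun x _ => Subtype.ext ?_
      show ((x : G) * b ^ 0 * (x : G)⁻¹) * m * ((x : G) * b ^ 0 * (x : G)⁻¹)⁻¹ = m
      group
    rw [h0] at h1
    have h0' : normConj M (β ^ 0) m = m := Subtype.ext (by simp [normConj_coe])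
    rw [h0'] at h2
    exact mul_right_cancel (h2.trans h1.symm)
  intro z hz
  refine mem_centralizer_iff.2 fun w hw => ?_
  have hfixS : ∀ m : M, normConj M (q ⟨z, hz⟩) (S m) = S m := by
    intro m
    rw [hS, map_prod]
    conv_rhs => rw [← Equiv.prod_comp (Equiv.mulLeft (⟨z, hz⟩ : Q)) fun y => normConj M (q y) m]
    refine Finset.prod_congr rfl fun x _ => ?_
    rw [← normConj_mul]
    rfl
  obtain ⟨k, hk⟩ := exists_pow_eq_self_of_coprime (x := (⟨w, hw⟩ : M))
    (hco.coprime_dvd_right (orderOf_dvd_natCard _))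
  have h := hfixS ((⟨w, hw⟩ : M) ^ k)
  rw [hcard, ← pow_mul, mul_comm, pow_mul, hk] at h
  have h' : z * w * z⁻¹ = w := congrArg Subtype.val h
  exact (mul_inv_eq_iff_eq_mul.1 h').symm

section
variable {G : Type u} [Group G] [Finite G]

/-- A central-modulo-`C` element of exponent `p` mod `C` in a normal subgroup of a `p`-group. -/
theorem exists_central_mod {p : ℕ} [Fact p.Prime] {R Q C : Subgroup G} (hR : IsPGroup p R) (hQR : Q ≤ R)
    (hQ : R ≤ normalizer (Q : Set G)) (hC : R ≤ normalizer (C : Set G)) (hCQ : C < Q) :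
    ∃ z ∈ Q, z ∉ C ∧ (∀ r ∈ R, r * z * r⁻¹ * z⁻¹ ∈ C) ∧ z ^ p ∈ C := by
  obtain ⟨z₀, hz₀Q, hz₀C, hz₀p⟩ : ∃ z ∈ Q, z ∉ C ∧ ∀ r ∈ R, r * z * r⁻¹ * z⁻¹ ∈ C := by
    haveI : (C.subgroupOf R).Normal := (normal_subgroupOf_iff_le_normalizer (hCQ.le.trans hQR)).2 hC
    haveI : (Q.subgroupOf R).Normal := (normal_subgroupOf_iff_le_normalizer hQR).2 hQ
    set π := QuotientGroup.mk' (C.subgroupOf R)
    haveI : ((Q.subgroupOf R).map π).Normal := Normal.map inferInstance _ (QuotientGroup.mk'_surjective _)
    have hP : IsPGroup p (R ⧸ C.subgroupOf R) := hR.to_quotient _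
    have hne : (Q.subgroupOf R).map π ≠ ⊥ := by
      rw [Ne, Subgroup.map_eq_bot_iff, QuotientGroup.ker_mk']
      intro h
      obtain ⟨x, hxQ, hxC⟩ := SetLike.exists_of_lt hCQ
      exact hxC (h (show (⟨x, hQR hxQ⟩ : R) ∈ Q.subgroupOf R from hxQ))
    haveI : Nontrivial ((Q.subgroupOf R).map π) := (nontrivial_iff_ne_bot _).2 hne
    obtain ⟨k, hk⟩ := (hP.to_subgroup ((Q.subgroupOf R).map π)).exists_card_eq
    have hdvd : p ∣ Nat.card ((Q.subgroupOf R).map π) := by
      rcases k with _ | k
      · exact absurd hk (Finite.one_lt_card (α := (Q.subgroupOf R).map π)).ne'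
      · exact hk ▸ dvd_pow_self p (Nat.succ_ne_zero k)
    have hact : IsPGroup p (ConjAct (R ⧸ C.subgroupOf R)) := hP.of_equiv ConjAct.toConjAct
    obtain ⟨b, hb, hb1⟩ := hact.exists_fixed_point_of_prime_dvd_card_of_fixed_point
      ((Q.subgroupOf R).map π) hdvd (a := 1) (fun g => by simp)
    obtain ⟨z, hzQ, hzb⟩ := mem_map.1 b.2
    refine ⟨z, hzQ, fun hzC => hb1 ?_, fun r hr => ?_⟩
    · refine (Subtype.ext ?_).symm
      rw [← hzb]
      exact (QuotientGroup.eq_one_iff z).2 hzC
    · have h := congrArg Subtype.val (hb (ConjAct.toConjAct (π ⟨r, hr⟩)))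
      rw [ConjAct.Subgroup.val_conj_smul, ConjAct.toConjAct_smul, ← hzb] at h
      have h2 : π (⟨r, hr⟩ * z * (⟨r, hr⟩)⁻¹ * z⁻¹) = 1 := by
        rw [map_mul, map_mul, map_mul, map_inv, map_inv, h, mul_inv_cancel]
      exact (QuotientGroup.eq_one_iff (N := C.subgroupOf R) _).1 h2
  have hconj : ∀ r ∈ R, ∀ c ∈ C, r * c * r⁻¹ ∈ C := fun r hr c hc => (mem_normalizer_iff.1 (hC hr) c).1 hc
  obtain ⟨k, hk⟩ := IsPGroup.iff_orderOf.1 hR ⟨z₀, hQR hz₀Q⟩
  rw [orderOf_mk] at hk
  have hex : ∃ k, z₀ ^ p ^ k ∈ C := ⟨k, by rw [← hk, pow_orderOf_eq_one]; exact one_mem C⟩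
  classical
  obtain ⟨j, hj⟩ : ∃ j, Nat.find hex = j + 1 := Nat.exists_eq_succ_of_ne_zero fun h0 => hz₀C (by
    have := Nat.find_spec hex; rwa [h0, pow_zero, pow_one] at this)
  refine ⟨z₀ ^ p ^ j, pow_mem hz₀Q _, Nat.find_min hex (by omega), fun r hr => ?_, ?_⟩
  · induction p ^ j with
    | zero => simp [one_mem]
    | succ n ihn =>
      have := mul_mem ihn (hconj _ (pow_mem (hQR hz₀Q) n) _ (hz₀p r hr))
      convert this using 1
      rw [pow_succ]; group
  · rw [← pow_mul, ← pow_succ, ← hj]
    exact Nat.find_spec hex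

/-- `H` is normal, `G = H⟨a⟩` and every element of the coset `Ha` has order dividing `p`. -/
structure SplitPair (H : Subgroup G) (a : G) (p : ℕ) : Prop where
  normal : H.Normal
  not_mem : a ∉ H
  top : H ⊔ zpowers a = ⊤
  split : ∀ h ∈ H, (h * a) ^ p = 1

namespace SplitPair

variable {H : Subgroup G} {a : G} {p : ℕ}

omit [Finite G] in
theorem translate (h : SplitPair H a p) {k : G} (hk : k ∈ H) : SplitPair H (k * a) p := by
  refine ⟨h.normal, fun h1 => h.not_mem ?_, ?_, fun x hx => ?_⟩
  · simpa using mul_mem (inv_mem hk) h1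
  · refine eq_top_iff.2 (h.top.ge.trans (sup_le le_sup_left (zpowers_le.2 ?_)))
    have : k⁻¹ * (k * a) ∈ H ⊔ zpowers (k * a) :=
      mul_mem (mem_sup_left (inv_mem hk)) (mem_sup_right (mem_zpowers _))
    rwa [inv_mul_cancel_left] at this
  · rw [← mul_assoc]; exact h.split _ (mul_mem hx hk)

omit [Finite G] in
theorem pow_eq_one (h : SplitPair H a p) : a ^ p = 1 := by
  simpa using h.split 1 (one_mem H)

omit [Finite G] in
theorem restrict (h : SplitPair H a p) {K : Subgroup G} (hKH : K ≤ H) (haK : a ∈ normalizer (K : Set G)) :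
    SplitPair (K.subgroupOf (K ⊔ zpowers a)) (⟨a, mem_sup_right (mem_zpowers a)⟩ : ↥(K ⊔ zpowers a)) p := by
  refine ⟨(normal_subgroupOf_iff_le_normalizer le_sup_left).2 (sup_le le_normalizer (zpowers_le.2 haK)),
    fun h1 => h.not_mem (hKH h1), ?_, fun x hx => Subtype.ext (h.split _ (hKH hx))⟩
  apply map_injective (K ⊔ zpowers a).subtype_injective
  rw [Subgroup.map_sup, subgroupOf_map_subtype, inf_eq_left.2 le_sup_left, MonoidHom.map_zpowers,
    ← MonoidHom.range_eq_map, range_subtype]
  rfl

omit [Finite G] in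
theorem quotient (h : SplitPair H a p) (N : Subgroup G) [N.Normal] (hN : N ≤ H) :
    SplitPair (H.map (QuotientGroup.mk' N)) (a : G ⧸ N) p := by
  refine ⟨h.normal.map _ (QuotientGroup.mk'_surjective N), fun h1 => h.not_mem ?_, ?_, ?_⟩
  · have h2 : a ∈ (H.map (QuotientGroup.mk' N)).comap (QuotientGroup.mk' N) := h1
    rwa [comap_map_eq, QuotientGroup.ker_mk', sup_eq_left.2 hN] at h2
  · have := congrArg (Subgroup.map (QuotientGroup.mk' N)) h.top
    rwa [Subgroup.map_sup, MonoidHom.map_zpowers, map_top_of_surjective _ (QuotientGroup.mk'_surjective N)] at this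
  · rintro _ ⟨x, hx, rfl⟩
    show ((x : G ⧸ N) * (a : G ⧸ N)) ^ p = 1
    rw [← QuotientGroup.mk_mul, ← QuotientGroup.mk_pow, h.split x hx, QuotientGroup.mk_one]

/-- Inside `H`, a Sylow subgroup is normalized by a translate of `a`. -/
theorem exists_normalizing (h : SplitPair H a p) {q : ℕ} [Fact q.Prime] (Q : Sylow q H) :
    ∃ k ∈ H, k * a ∈ normalizer (((Q : Subgroup H).map H.subtype) : Set G) := by
  haveI := h.normal
  have hfr := Sylow.normalizer_sup_eq_top Q
  have ha : a ∈ H ⊔ normalizer (((Q : Subgroup H).map H.subtype) : Set G) := by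
    rw [sup_comm, hfr]; exact mem_top a
  rw [mem_sup_of_normal_left] at ha
  obtain ⟨k, hk, n, hn, rfl⟩ := ha
  exact ⟨k⁻¹, inv_mem hk, by rwa [inv_mul_cancel_left]⟩

/-- The norm condition for any element of the coset `Ha`. -/
theorem mul_pow (h : SplitPair H a p) {m b : G} (hm : m ∈ H) (hb : b * a⁻¹ ∈ H) : (m * b) ^ p = 1 := by
  have := h.split _ (mul_mem hm hb)
  rwa [← mul_assoc, inv_mul_cancel_right] at this

/-- For `M` an abelian `p'`-group, a `p`-subgroup `Q` of `H` normalised by `a` centralizes `M`. -/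
theorem pGroup_centralizes (h : SplitPair H a p) (hp : p.Prime) {M Q : Subgroup G} [M.Normal]
    [IsMulCommutative M] (hMH : M ≤ H) (hQH : Q ≤ H) (hpM : ¬ p ∣ Nat.card M) (hQ : IsPGroup p Q)
    (haQ : a ∈ normalizer (Q : Set G)) : Q ≤ centralizer (M : Set G) := by
  haveI := Fact.mk hp
  haveI := h.normal
  by_contra hne
  have haz : IsPGroup p (zpowers a) := by
    obtain ⟨k, -, hk⟩ := (Nat.dvd_prime_pow hp).1
      (show orderOf a ∣ p ^ 1 by rw [pow_one]; exact orderOf_dvd_of_pow_eq_one h.pow_eq_one)
    exact IsPGroup.of_card (by rw [Nat.card_zpowers, hk])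
  set R := Q ⊔ zpowers a with hR
  have hRn : R ≤ normalizer (Q : Set G) := sup_le le_normalizer (zpowers_le.2 haQ)
  have hRp : IsPGroup p R := by
    rw [hR, sup_comm]
    exact haz.to_sup_of_normal_right' hQ (zpowers_le.2 haQ)
  set C := Q ⊓ centralizer (M : Set G) with hC
  have hCn : R ≤ normalizer (C : Set G) := by
    intro g hg
    refine CfsgLib.Fusion.conjBy_eq_iff.1 (CfsgLib.Fusion.conjBy_eq_of_le ?_)
    rintro _ ⟨c, hc, rfl⟩
    exact ⟨(mem_normalizer_iff.1 (hRn hg) c).1 hc.1, (inferInstance : (centralizer (M : Set G)).Normal).conj_mem c hc.2 g⟩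
  have hCQ : C < Q := lt_of_le_of_ne inf_le_left fun e => hne (e.ge.trans inf_le_right)
  obtain ⟨z, hzQ, hzC, hzc, hzp⟩ := exists_central_mod hRp le_sup_left hRn hCn hCQ
  let α : normalizer (M : Set G) := ⟨a, by rw [normalizer_eq_top]; exact mem_top _⟩
  let ζ : normalizer (M : Set G) := ⟨z, by rw [normalizer_eq_top]; exact mem_top _⟩
  have hkey := fixed_of_norms_eq_one M hp hpM α ζ (fun m => Subtype.ext ?_) (fun m => Subtype.ext ?_)
    fun j m => Subtype.ext ?_
  · refine hzC ⟨hzQ, mem_centralizer_iff.2 fun w hw => ?_⟩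
    exact (mul_inv_eq_iff_eq_mul.1 (congrArg Subtype.val (hkey ⟨w, hw⟩))).symm
  · show a * z * m * (a * z)⁻¹ = z * a * m * (z * a)⁻¹
    have hc2 := mem_centralizer_iff.1 (hzc a (mem_sup_right (mem_zpowers a))).2
      ((z * a) * m * (z * a)⁻¹) ((inferInstance : M.Normal).conj_mem _ m.2 _)
    calc a * z * m * (a * z)⁻¹
        = (a * z * a⁻¹ * z⁻¹) * ((z * a) * m * (z * a)⁻¹) * (a * z * a⁻¹ * z⁻¹)⁻¹ := by group
      _ = ((z * a) * m * (z * a)⁻¹) * (a * z * a⁻¹ * z⁻¹) * (a * z * a⁻¹ * z⁻¹)⁻¹ := by rw [hc2]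
      _ = z * a * m * (z * a)⁻¹ := mul_inv_cancel_right _ _
  · show z ^ p * m * (z ^ p)⁻¹ = m
    rw [← mem_centralizer_iff.1 hzp.2 m m.2, mul_inv_cancel_right]
  · rw [coe_prod_normConj]
    show ((m : G) * (a * z ^ j)) ^ p * ((a * z ^ j) ^ p)⁻¹ = 1
    have hb : a * z ^ j * a⁻¹ ∈ H := h.normal.conj_mem _ (pow_mem (hQH hzQ) j) a
    have h1 := h.mul_pow (one_mem H) hb
    rw [one_mul] at h1
    rw [h.mul_pow (hMH m.2) hb, h1]; simp

/-- For `M` abelian, a `q`-subgroup (`q ≠ p`) of `H` normalised by `a` centralizes `M` when coprime. -/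
theorem qGroup_centralizes (h : SplitPair H a p) (hp : p.Prime) {M Q : Subgroup G} [M.Normal]
    [IsMulCommutative M] (hMH : M ≤ H) (hQH : Q ≤ H) {q : ℕ} (hq : q.Prime) (hqp : q ≠ p)
    (hQ : IsPGroup q Q) (haQ : a ∈ normalizer (Q : Set G))
    (hco : (Nat.card Q).Coprime (Nat.card M)) : Q ≤ centralizer (M : Set G) := by
  refine centralizes_of_frobenius hp h.pow_eq_one (by rw [normalizer_eq_top]; exact mem_top _)
    (by rw [normalizer_eq_top]; exact le_top) haQ ?_ hco fun m hm => h.split m (hMH hm)
  intro x hx hc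
  have h1 := h.split x (hQH hx)
  rw [hc.symm.mul_pow, h.pow_eq_one, mul_one] at h1
  haveI := Fact.mk hq
  obtain ⟨k, hk⟩ := IsPGroup.iff_orderOf.1 hQ ⟨x, hx⟩
  rw [orderOf_mk] at hk
  refine orderOf_eq_one_iff.1 (Nat.eq_one_of_dvd_coprimes ?_ hk.dvd (orderOf_dvd_of_pow_eq_one h1))
  exact Nat.Coprime.pow_left k ((Nat.coprime_primes hq hp).2 hqp)

end SplitPair

end

/-- Kegel: in a split pair the normal subgroup is nilpotent. -/
theorem SplitPair.isNilpotent {p : ℕ} (hp : p.Prime) :
    ∀ {G : Type u} [Group G] [Finite G] {H : Subgroup G} {a : G}, SplitPair H a p → Group.IsNilpotent H := by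
  intro G
  induction hn : Nat.card G using Nat.strong_induction_on generalizing G with
  | _ n ih =>
    intro _ _ H a hS
    subst hn
    haveI := hS.normal
    classical
    -- proper invariant subgroups are nilpotent
    have hrest : ∀ K : Subgroup G, K ≤ H → K ≠ H → ∀ k ∈ H, k * a ∈ normalizer (K : Set G) →
        Group.IsNilpotent K := by
      intro K hKH hne k hk hka
      have hS' := (hS.translate hk).restrict hKH hka
      have hlt : Nat.card ↥(K ⊔ zpowers (k * a)) < Nat.card G := by
        refine lt_of_le_of_ne (card_le_card_group _) fun e => hne (le_antisymm hKH fun x hx => ?_)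
        have htop := eq_top_of_card_eq _ e
        have hx' : x ∈ K ⊔ zpowers (k * a) := htop ▸ mem_top x
        have hx'' : x ∈ ((K ⊔ zpowers (k * a) : Subgroup G) : Set G) := hx'
        rw [sup_comm, coe_mul_of_left_le_normalizer_right _ _ (zpowers_le.2 hka)] at hx''
        obtain ⟨y, hy, w, hw, rfl⟩ := hx''
        obtain ⟨i, hi⟩ := mem_zpowers_iff.1 hy
        have hyH : y ∈ H := by
          have := mul_mem hx (inv_mem (hKH hw))
          rwa [show (fun x1 x2 : G => x1 * x2) y w * w⁻¹ = y from mul_inv_cancel_right y w] at this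
        suffices hy1 : y = 1 by
          show y * w ∈ K
          rw [hy1, one_mul]; exact hw
        have hS2 := hS.translate hk
        haveI := Fact.mk hp
        by_contra hy1
        refine hS2.not_mem ?_
        have hord : orderOf (k * a) = p := orderOf_eq_prime hS2.pow_eq_one fun e1 => hS2.not_mem (e1 ▸ one_mem H)
        have hz : zpowers y = zpowers (k * a) := by
          refine eq_of_le_of_card_ge (zpowers_le.2 hy) ?_
          rw [Nat.card_zpowers, Nat.card_zpowers, hord, orderOf_eq_prime (p := p) ?_ hy1]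
          rw [← hi, ← zpow_natCast, ← zpow_mul, mul_comm, zpow_mul, zpow_natCast, hS2.pow_eq_one, one_zpow]
        exact zpowers_le.2 hyH (hz ▸ mem_zpowers (k * a))
      haveI := ih _ hlt rfl hS'
      exact Group.nilpotent_of_mulEquiv (subgroupOfEquivOfLe (le_sup_left : K ≤ K ⊔ zpowers (k * a)))
    have hquot : ∀ (N : Subgroup G) [N.Normal], N ≤ H → N ≠ ⊥ → Group.IsNilpotent (H.map (QuotientGroup.mk' N)) := by
      intro N _ hN hN1
      refine ih _ ?_ rfl (hS.quotient N hN)
      rw [← index_eq_card, ← N.card_mul_index]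
      exact lt_mul_left (Nat.pos_of_ne_zero index_ne_zero_of_finite) ((one_lt_card_iff_ne_bot N).2 hN1)
    by_cases hH1 : H = ⊥
    · subst hH1; infer_instance
    -- solvability
    have hsol : Group.IsSolvable H := by
      by_cases hcase : ∃ N : Subgroup G, N.Normal ∧ N ≤ H ∧ N ≠ H ∧ N ≠ ⊥
      · obtain ⟨N, hNn, hNH, hNH', hN1⟩ := hcase
        haveI := hNn
        haveI := hquot N hNH hN1
        haveI := hrest N hNH hNH' 1 (one_mem H) (by rw [normalizer_eq_top]; exact mem_top _)
        exact Group.isSolvable_of_ker_le_range (inclusion hNH)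
          ((QuotientGroup.mk' N).subgroupMap H) (fun x hx => ⟨⟨x, by
            have := congrArg Subtype.val hx
            exact (QuotientGroup.eq_one_iff (x : G)).1 this⟩, Subtype.ext rfl⟩)
      push Not at hcase
      by_cases hodd : ∃ q : ℕ, q.Prime ∧ q ≠ p ∧ q ≠ 2 ∧ q ∣ Nat.card H
      · obtain ⟨q, hq, hqp, hq2, hqH⟩ := hodd
        haveI := Fact.mk hq
        let Q : Sylow q H := Classical.arbitrary _
        obtain ⟨k, hk, hka⟩ := hS.exists_normalizing Q
        by_cases hQtop : (Q : Subgroup H) = ⊤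
        · have : IsPGroup q H := fun g => by
            obtain ⟨j, hj⟩ := Q.2 ⟨g, hQtop ▸ mem_top g⟩
            exact ⟨j, congrArg Subtype.val hj⟩
          haveI := this.isNilpotent
          infer_instance
        exfalso
        set Q0 := (Q : Subgroup H).map H.subtype with hQ0
        have hQ1 : (Q : Subgroup H) ≠ ⊥ := Q.ne_bot_of_dvd_card hqH
        let θ : H ≃* H := MulAut.conjNormal (k * a)
        have hθQ : (Q : Subgroup H).map (θ : H →* H) = Q := by
          refine eq_of_le_of_card_ge ?_ (card_map_of_injective θ.injective).ge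
          rintro _ ⟨w, hw, rfl⟩
          have := (mem_normalizer_iff.1 hka (w : G)).1 (mem_map_of_mem _ hw)
          obtain ⟨v, hv, hve⟩ := this
          have he : v = θ w := Subtype.ext (by rw [MulAut.conjNormal_apply]; exact hve)
          exact he ▸ hv
        have hfin : ∀ X : Subgroup H, X.map (θ : H →* H) = X → X ≠ ⊥ → X ≤ (Q : Subgroup H) →
            ∀ K : Subgroup H, K.map (θ : H →* H) = K → K ≤ normalizer (X : Set H) →
              Cfsg.HasNormalPComplement q K := by
          intro X hX hX1 hXQ K hK hKX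
          have hmem : ∀ (Y : Subgroup H), Y.map (θ : H →* H) = Y → k * a ∈ normalizer ((Y.map H.subtype) : Set G) := by
            intro Y hY
            refine CfsgLib.Fusion.conjBy_eq_iff.1 (CfsgLib.Fusion.conjBy_eq_of_le ?_)
            rintro _ ⟨_, ⟨w, hw, rfl⟩, rfl⟩
            exact ⟨θ w, hY.le (mem_map_of_mem _ hw), by rw [Subgroup.coe_subtype, MulAut.conjNormal_apply]; rfl⟩
          by_cases hKtop : K = ⊤
          · exfalso
            have hXn : (X.map H.subtype).Normal := by
              refine normalizer_eq_top_iff.1 (eq_top_iff.2 ((hS.translate hk).top.ge.trans (sup_le ?_ (zpowers_le.2 (hmem X hX)))))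
              intro x hx
              refine CfsgLib.Fusion.conjBy_eq_iff.1 (CfsgLib.Fusion.conjBy_eq_of_le ?_)
              rintro _ ⟨_, ⟨w, hw, rfl⟩, rfl⟩
              exact ⟨⟨x, hx⟩ * w * (⟨x, hx⟩ : H)⁻¹,
                (mem_normalizer_iff.1 (hKX (hKtop ▸ mem_top _)) w).1 hw, rfl⟩
            have hXH : X.map H.subtype = H := by
              by_contra hne
              exact hX1 ((map_eq_bot_iff_of_injective _ H.subtype_injective).1
                (hcase _ hXn (map_subtype_le X) hne))
            refine hQtop (eq_top_iff.2 (le_trans ?_ hXQ))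
            rw [← comap_map_eq_self_of_injective H.subtype_injective X, hXH]
            exact fun x _ => x.2
          have hne : K.map H.subtype ≠ H := fun e => hKtop (by
            rw [← comap_map_eq_self_of_injective H.subtype_injective K, e]
            exact eq_top_iff.2 fun x _ => x.2)
          haveI := hrest _ (map_subtype_le K) hne k hk (hmem K hK)
          haveI : Group.IsNilpotent K :=
            Group.nilpotent_of_mulEquiv (K.equivMapOfInjective H.subtype H.subtype_injective).symm
          exact hasNormalPComplement_of_isNilpotent q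
        have hmapX : ∀ X : Subgroup H, X.map (θ : H →* H) = X →
            (normalizer (X : Set H)).map (θ : H →* H) = normalizer (X : Set H) ∧
            (centralizer (X : Set H)).map (θ : H →* H) = centralizer (X : Set H) := by
          intro X hX
          constructor
          · refine eq_of_le_of_card_ge ?_ (card_map_of_injective θ.injective).ge
            rintro _ ⟨g, hg, rfl⟩
            refine mem_normalizer_iff.2 fun w => ?_
            obtain ⟨v, rfl⟩ := θ.surjective w
            show θ v ∈ X ↔ θ g * θ v * (θ g)⁻¹ ∈ X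
            rw [← map_inv, ← map_mul, ← map_mul]
            have e : ∀ v, θ v ∈ X ↔ v ∈ X := fun v => by
              conv_lhs => rw [← hX]
              exact mem_map_iff_mem θ.injective
            rw [e, e]
            exact mem_normalizer_iff.1 hg v
          · refine eq_of_le_of_card_ge ?_ (card_map_of_injective θ.injective).ge
            rintro _ ⟨g, hg, rfl⟩
            refine mem_centralizer_iff.2 fun w hw => ?_
            obtain ⟨v, hv, rfl⟩ := hX.ge hw
            rw [← map_mul, ← map_mul, mem_centralizer_iff.1 hg v hv]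
        have hmapJ : (Cfsg.thompsonSubgroupOf q (Q : Subgroup H)).map (θ : H →* H)
            = Cfsg.thompsonSubgroupOf q (Q : Subgroup H) := by
          rw [CfsgLib.Fusion.map_thompsonSubgroupOf (θ : H →* H) fun x _ h => by simpa using h, hθQ]
        have hJ := hfin _ hmapJ (CfsgLib.Fusion.thompsonSubgroupOf_ne_bot Q.2 hQ1)
          (CfsgLib.Fusion.thompsonSubgroupOf_le _) _ (hmapX _ hmapJ).1 le_rfl
        have hmapZ : (CfsgLib.Fusion.centerOf (Q : Subgroup H)).map (θ : H →* H)
            = CfsgLib.Fusion.centerOf (Q : Subgroup H) := by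
          refine eq_of_le_of_card_ge ((map_inf_le _ _ _).trans ?_) (card_map_of_injective θ.injective).ge
          rw [hθQ, (hmapX _ hθQ).2]
        have hZ := hfin _ hmapZ (CfsgLib.Fusion.centerOf_ne_bot Q.2 hQ1) inf_le_left
          _ (hmapX _ hmapZ).2 (centralizer_le_normalizer _)
        obtain ⟨P', N, hNn, hc⟩ := CfsgLib.Fusion.hasNormalPComplement_of_thompson hq2 H Q hJ hZ
        have hNq : ¬ q ∣ Nat.card N := by rw [← hc.index_eq_card]; exact P'.not_dvd_index
        have hres := CfsgLib.Fusion.eq_pResidual_of_isComplement' P' N hc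
        haveI : N.Characteristic := characteristic_iff_map_le.2 fun e => by
          rw [map_le_iff_le_comap]
          intro x hx
          rw [mem_comap, hres]
          refine CfsgLib.Fusion.mem_pResidual ?_
          show (orderOf (e x)).Coprime q
          rw [MulEquiv.orderOf_eq]
          exact (hq.coprime_iff_not_dvd.2 fun hd => hNq (hd.trans (Subgroup.orderOf_dvd_natCard N hx))).symm
        by_cases hNtop : N.map H.subtype = H
        · refine hNq ?_
          rwa [Nat.card_congr (N.equivMapOfInjective H.subtype H.subtype_injective).toEquiv, hNtop]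
        have := hcase (N.map H.subtype) inferInstance (map_subtype_le N) hNtop
        rw [map_eq_bot_iff_of_injective _ H.subtype_injective] at this
        refine hQtop (eq_top_of_card_eq _ ?_)
        rw [Q.card_eq_multiplicity, ← P'.card_eq_multiplicity, ← hc.symm.index_eq_card, this, index_bot]
      · push Not at hodd
        refine CfsgLib.Char.isSolvable_of_card_two_primes (q := if p = 2 then 3 else 2) hp
          (by split_ifs <;> norm_num) H ((Nat.card H).factorization p)
          ((Nat.card H).factorization (if p = 2 then 3 else 2)) ?_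
        conv_lhs => rw [← Nat.prod_factorization_pow_eq_self (Nat.card_pos (α := H)).ne']
        rw [Finsupp.prod, ← Finset.prod_pair (f := fun r => r ^ (Nat.card H).factorization r)
          (show p ≠ if p = 2 then 3 else 2 by split_ifs <;> omega)]
        refine Finset.prod_subset (fun r hr => ?_) fun r _ hr => by
          rw [Finsupp.notMem_support_iff.1 hr, pow_zero]
        rw [Nat.support_factorization, Nat.mem_primeFactors] at hr
        rw [Finset.mem_insert, Finset.mem_singleton]
        by_cases hrp : r = p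
        · exact Or.inl hrp
        · right
          have hr2 : r = 2 := by
            by_contra h2
            exact hodd r hr.1 hrp h2 hr.2.1
          rw [hr2] at hrp ⊢
          rw [if_neg fun h => hrp h.symm]
    -- a normal elementary abelian subgroup
    haveI := hsol
    haveI : Nontrivial H := (nontrivial_iff_ne_bot H).2 hH1
    obtain ⟨D, hDc, hD1, hDab⟩ : ∃ D : Subgroup H, D.Characteristic ∧ D ≠ ⊥ ∧ IsMulCommutative D := by
      obtain ⟨m, hm⟩ := (Group.isSolvable_def H).1 inferInstance
      obtain ⟨j, hj0, hj1⟩ : ∃ j, derivedSeries H (j + 1) = ⊥ ∧ derivedSeries H j ≠ ⊥ := by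
        by_contra hc
        push Not at hc
        have : ∀ j, j ≤ m → derivedSeries H (m - j) = ⊥ := by
          intro j
          induction j with
          | zero => intro; simpa using hm
          | succ j ihj =>
            intro hj
            exact hc (m - (j + 1)) (by rw [show m - (j + 1) + 1 = m - j by omega]; exact ihj (by omega))
        have h0 := this m le_rfl
        rw [Nat.sub_self, derivedSeries_zero] at h0
        exact top_ne_bot h0
      refine ⟨derivedSeries H j, inferInstance, hj1, ⟨⟨fun a b => Subtype.ext ?_⟩⟩⟩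
      have h3 : ⁅(a : H), (b : H)⁆ ∈ derivedSeries H (j + 1) := commutator_mem_commutator a.2 b.2
      rw [hj0] at h3
      exact commutatorElement_eq_one_iff_mul_comm.1 (mem_bot.1 h3)
    haveI := hDc
    haveI := hDab
    set D' := D.map H.subtype with hD'
    haveI : IsMulCommutative D' := map_isMulCommutative _ _
    obtain ⟨r, hr, hrD⟩ := Nat.exists_prime_and_dvd ((one_lt_card_iff_ne_bot D).2 hD1).ne'
    haveI := Fact.mk hr
    let M : Subgroup G :=
      { carrier := {x | x ∈ D' ∧ x ^ r = 1}
        one_mem' := ⟨one_mem D', one_pow r⟩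
        mul_mem' := fun {x y} hx hy => ⟨mul_mem hx.1 hy.1, by
          rw [(show Commute x y from congrArg Subtype.val (mul_comm' (⟨x, hx.1⟩ : D') ⟨y, hy.1⟩)).mul_pow,
            hx.2, hy.2, one_mul]⟩
        inv_mem' := fun {x} hx => ⟨inv_mem hx.1, by rw [inv_pow, hx.2, inv_one]⟩ }
    haveI hMn : M.Normal := ⟨fun x hx g => ⟨(inferInstance : D'.Normal).conj_mem x hx.1 g, by
      rw [conj_pow, hx.2, mul_one, mul_inv_cancel]⟩⟩
    haveI : IsMulCommutative M := ⟨⟨fun x y => by
      have h := congrArg Subtype.val (mul_comm' (⟨x, x.2.1⟩ : D') ⟨y, y.2.1⟩)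
      exact Subtype.ext h⟩⟩
    have hMH : M ≤ H := fun x hx => map_subtype_le D hx.1
    have hMr : IsPGroup r M := fun x => ⟨1, Subtype.ext (by rw [pow_one, coe_pow]; exact x.2.2)⟩
    have hM1 : M ≠ ⊥ := by
      obtain ⟨x, hx⟩ := exists_prime_orderOf_dvd_card' (G := D) r hrD
      intro h0
      have hxM : ((x : H) : G) ∈ M :=
        ⟨mem_map_of_mem _ x.2, by rw [← hx, ← orderOf_coe, ← orderOf_coe, pow_orderOf_eq_one]⟩
      rw [h0, mem_bot] at hxM
      rw [← orderOf_coe, ← orderOf_coe, hxM, orderOf_one] at hx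
      exact hr.ne_one hx.symm
    haveI := hquot M hMH hM1
    refine ((Group.isNilpotent_of_finite_tfae (G := H)).out 0 3 rfl rfl).2 fun q hq Q => ?_
    set Q0 := (Q : Subgroup H).map H.subtype with hQ0
    suffices hQn : Q0.Normal by
      rw [← comap_map_eq_self_of_injective H.subtype_injective (Q : Subgroup H)]
      exact hQn.comap _
    have hL : (Q0 ⊔ M).Normal := by
      have hQim := ((Group.isNilpotent_of_finite_tfae (G := ↥(H.map (QuotientGroup.mk' M)))).out 0 3 rfl rfl).1
        inferInstance q hq (Q.mapSurjective ((QuotientGroup.mk' M).subgroupMap_surjective H))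
      haveI := hQim
      haveI := (hS.quotient M hMH).normal
      haveI := Sylow.characteristic_of_normal (Q.mapSurjective ((QuotientGroup.mk' M).subgroupMap_surjective H)) hQim
      have h4 : (((Q.mapSurjective ((QuotientGroup.mk' M).subgroupMap_surjective H) :
          Sylow q ↥(H.map (QuotientGroup.mk' M))) : Subgroup ↥(H.map (QuotientGroup.mk' M))).map
            (H.map (QuotientGroup.mk' M)).subtype).Normal := inferInstance
      have e : ((Q.mapSurjective ((QuotientGroup.mk' M).subgroupMap_surjective H) :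
          Sylow q ↥(H.map (QuotientGroup.mk' M))) : Subgroup ↥(H.map (QuotientGroup.mk' M))).map
            (H.map (QuotientGroup.mk' M)).subtype = Q0.map (QuotientGroup.mk' M) := by
        rw [Sylow.coe_mapSurjective, Subgroup.map_map, hQ0, Subgroup.map_map]
        rfl
      rw [e] at h4
      have h5 := h4.comap (QuotientGroup.mk' M)
      rwa [comap_map_eq, QuotientGroup.ker_mk'] at h5
    by_cases hqr : q = r
    · subst hqr
      have hle : M ≤ Q0 := by
        haveI : (M.subgroupOf H).Normal := inferInstance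
        have h1 : M.subgroupOf H ≤ (Q : Subgroup H) :=
          (hMr.comap_of_injective H.subtype H.subtype_injective).le_sylow_of_normal Q
        intro x hx
        exact ⟨⟨x, hMH hx⟩, h1 hx, rfl⟩
      rwa [sup_eq_left.2 hle] at hL
    obtain ⟨k, hk, hka⟩ := hS.exists_normalizing Q
    have hQp : IsPGroup q Q0 := Q.2.map H.subtype
    obtain ⟨c1, hc1⟩ := hQp.exists_card_eq
    obtain ⟨c2, hc2⟩ := hMr.exists_card_eq
    have hco : (Nat.card Q0).Coprime (Nat.card M) := by
      rw [hc1, hc2]; exact Nat.Coprime.pow _ _ ((Nat.coprime_primes hq.1 hr).2 hqr)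
    have hQc : Q0 ≤ centralizer (M : Set G) := by
      by_cases hqp : q = p
      · subst hqp
        refine (hS.translate hk).pGroup_centralizes hp hMH (map_subtype_le _) ?_ hQp hka
        intro hd
        rw [hc2] at hd
        exact hqr ((Nat.prime_dvd_prime_iff_eq hp hr).1 (hp.dvd_of_dvd_pow hd))
      · exact (hS.translate hk).qGroup_centralizes hp hMH (map_subtype_le _) hq.1 hqp hQp hka hco
    haveI := hL
    let Q' : Sylow q ↥(Q0 ⊔ M) := (hQp.comap_of_injective (Q0 ⊔ M).subtype (Q0 ⊔ M).subtype_injective).toSylow (by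
      intro hd
      refine Q.not_dvd_index (hd.trans ?_)
      have hsub : Q0 ⊔ M ≤ H := sup_le (map_subtype_le _) hMH
      rw [show (Q : Subgroup H).index = Q0.relIndex H by
        rw [hQ0, relIndex, subgroupOf, comap_map_eq_self_of_injective H.subtype_injective]]
      exact Dvd.intro _ (relIndex_mul_relIndex Q0 (Q0 ⊔ M) H le_sup_left hsub))
    have hfr := Sylow.normalizer_sup_eq_top Q'
    rw [IsPGroup.toSylow_coe, ← subgroupOf, subgroupOf_map_subtype, inf_eq_left.2 le_sup_left] at hfr
    refine normalizer_eq_top_iff.1 (eq_top_iff.2 (hfr.ge.trans (sup_le le_rfl (sup_le le_normalizer ?_))))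
    exact (le_centralizer_iff.1 hQc).trans (centralizer_le_normalizer _)

end CfsgLib.PGroup
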