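import Cfsg.Agent.Lib.PGroup.GeneratorBounds
import Cfsg.Agent.Lib.PGroup.PivotGenerators
import Cfsg.Agent.Lib.PGroup.MaxNormalAbelian

/-!
# Generators of subgroups of `p`-groups, `p` odd, from the rank of normal abelian subgroups
-/

set_option autoImplicit false

namespace CfsgLib.PGroup.SubGen

open Subgroup

variable {p : ℕ} [hp : Fact p.Prime]

theorem exists_tri_vectors {H : Type*} [Group H] [Finite H] (hH : IsPGroup p H) {V : Type*}
    [AddCommGroup V] [Module (ZMod p) V] [Finite V] (ρ : H →* Module.End (ZMod p) V) (m : ℕ)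
    (hm : m ≤ Module.finrank (ZMod p) V) :
    ∃ v : Fin m → V, LinearIndependent (ZMod p) v ∧
      ∀ h j, ρ h (v j) - v j ∈ Submodule.span (ZMod p) (v '' {i | i < j}) := by
  induction m with
  | zero => exact ⟨Fin.elim0, linearIndependent_empty_type, fun _ j => j.elim0⟩
  | succ m ih =>
    obtain ⟨v, hli, hv⟩ := ih (Nat.le_of_succ_le hm)
    let W := Submodule.span (ZMod p) (Set.range v)
    have hW : ∀ h, W ≤ W.comap (ρ h) := fun h => Submodule.span_le.2 (by
      rintro _ ⟨j, rfl⟩
      show ρ h (v j) ∈ W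
      have h1 : ρ h (v j) - v j ∈ W :=
        Submodule.span_mono (Set.image_subset_range _ _) (hv h j)
      simpa using W.add_mem h1 (Submodule.subset_span ⟨j, rfl⟩))
    letI : MulAction H (V ⧸ W) :=
      { smul := fun h x => W.mapQ W (ρ h) (hW h) x
        one_smul := fun x => Submodule.Quotient.induction_on _ x fun y => by
          show Submodule.Quotient.mk _ = Submodule.Quotient.mk y
          simp
        mul_smul := fun a b x => Submodule.Quotient.induction_on _ x fun y => by
          show Submodule.Quotient.mk _ = Submodule.Quotient.mk _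
          simp }
    have hne : W ≠ ⊤ := fun h => by
      have h1 := finrank_range_le_card (R := ZMod p) v
      rw [Set.finrank, (show Submodule.span (ZMod p) (Set.range v) = ⊤ from h), finrank_top,
        Fintype.card_fin] at h1
      omega
    haveI : Nontrivial (V ⧸ W) := Submodule.Quotient.nontrivial_iff.2 hne
    have hd : p ∣ Nat.card (V ⧸ W) := by
      rw [Module.natCard_eq_pow_finrank (K := ZMod p) (V := V ⧸ W), Nat.card_zmod]
      exact dvd_pow_self p (Module.finrank_pos (R := ZMod p) (M := V ⧸ W)).ne'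
    have h0 : (0 : V ⧸ W) ∈ MulAction.fixedPoints H (V ⧸ W) := fun h => by
      show W.mapQ W (ρ h) (hW h) 0 = 0
      exact map_zero _
    haveI : Finite (V ⧸ W) := Finite.of_surjective _ (Submodule.Quotient.mk_surjective W)
    obtain ⟨x, hx, hx0⟩ := hH.exists_fixed_point_of_prime_dvd_card_of_fixed_point (V ⧸ W) hd h0
    obtain ⟨y, rfl⟩ := Submodule.Quotient.mk_surjective _ x
    have hy : y ∉ W := fun h => hx0 ((Submodule.Quotient.mk_eq_zero W).2 h).symm
    refine ⟨Fin.snoc v y, linearIndependent_finSnoc.2 ⟨hli, hy⟩, fun h j => ?_⟩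
    induction j using Fin.lastCases with
    | last =>
      rw [Fin.snoc_last]
      refine Submodule.span_mono ?_ ((Submodule.Quotient.eq W).1 (hx h))
      rintro _ ⟨i, rfl⟩
      exact ⟨i.castSucc, Fin.castSucc_lt_last i, Fin.snoc_castSucc _ _ _⟩
    | cast j =>
      rw [Fin.snoc_castSucc]
      refine Submodule.span_mono ?_ (hv h j)
      rintro _ ⟨i, hi, rfl⟩
      exact ⟨i.castSucc, Fin.castSucc_lt_castSucc_iff.2 hi, Fin.snoc_castSucc _ _ _⟩

/-- A finite `p`-group of linear maps of an `n`-dimensional space over `ZMod p` is generated,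
modulo the kernel of the representation, by at most `n ^ 2 / 4` elements. -/
theorem exists_generators_mod_fix {H : Type*} [Group H] [Finite H] (hH : IsPGroup p H) {V : Type*}
    [AddCommGroup V] [Module (ZMod p) V] [Finite V] (ρ : H →* Module.End (ZMod p) V) :
    ∃ S : Finset H, S.card ≤ Module.finrank (ZMod p) V ^ 2 / 4 ∧
      ∀ g, ∃ k ∈ closure (S : Set H), ρ g = ρ k := by
  obtain ⟨v, hli, hv⟩ := exists_tri_vectors hH ρ _ le_rfl
  let b := basisOfLinearIndependentOfCardEqFinrank' v hli (Fintype.card_fin _)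
  have hb : ∀ i, b i = v i := fun i => by simp [b]
  let T := LinearMap.toMatrixAlgEquiv b
  let φ : H →* Matrix (Fin (Module.finrank (ZMod p) V)) (Fin (Module.finrank (ZMod p) V)) (ZMod p) :=
    T.toMonoidHom.comp ρ
  have hU : ∀ h, CfsgLib.PGroup.Pivot.SU (φ h - 1) := by
    intro h i j hji
    have h1 := hv h j
    have himg : v '' {i | i < j} = b '' {i | i < j} :=
      Set.image_congr fun i _ => (hb i).symm
    rw [himg, Module.Basis.mem_span_image] at h1
    have h2 : b.repr (ρ h (v j) - v j) i = 0 :=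
      Finsupp.notMem_support_iff.1 fun hmem => (not_lt.2 hji) (h1 hmem)
    show T (ρ h) i j - (1 : Matrix _ _ (ZMod p)) i j = 0
    rw [LinearMap.toMatrixAlgEquiv_apply, Matrix.one_apply, hb]
    rw [map_sub, Finsupp.sub_apply, ← hb j, Module.Basis.repr_self, Finsupp.single_apply, hb] at h2
    simpa [eq_comm] using h2
  obtain ⟨S, hS, hgen⟩ := CfsgLib.PGroup.Pivot.exists_generators_mod_ker φ hU
  refine ⟨S, hS, fun g => ?_⟩
  obtain ⟨k, hk, hgk⟩ := hgen g
  exact ⟨k, hk, T.injective hgk⟩

/-- Automorphisms of an abelian group of exponent `p` as linear maps. -/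
def autToEnd {A : Type*} [CommGroup A] [Module (ZMod p) (Additive A)] :
    MulAut A →* Module.End (ZMod p) (Additive A) where
  toFun e := AddMonoidHom.toZModLinearMap p (MonoidHom.toAdditive e.toMonoidHom)
  map_one' := LinearMap.ext fun _ => rfl
  map_mul' _ _ := LinearMap.ext fun _ => rfl

/-- A `p`-group acting on an elementary abelian group of order at most `p ^ k` is generated,
modulo the kernel of the action, by `k ^ 2 / 4` elements. -/
theorem exists_generators_mod_aut {H : Type*} [Group H] [Finite H] (hH : IsPGroup p H)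
    {A : Type*} [CommGroup A] [Finite A] (hexp : ∀ x : A, x ^ p = 1) {k : ℕ}
    (hk : Nat.card A ≤ p ^ k) (ψ : H →* MulAut A) :
    ∃ S : Finset H, S.card ≤ k ^ 2 / 4 ∧ ∀ g, ∃ s ∈ closure (S : Set H), ψ g = ψ s := by
  letI : Module (ZMod p) (Additive A) :=
    AddCommGroup.zmodModule (n := p) (fun x : Additive A => congrArg Additive.ofMul (hexp (Additive.toMul x)))
  haveI : Module.Finite (ZMod p) (Additive A) := Module.Finite.of_finite
  obtain ⟨S, hS, hgen⟩ := exists_generators_mod_fix hH ((autToEnd (p := p)).comp ψ)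
  have hn : Module.finrank (ZMod p) (Additive A) ≤ k := by
    refine (Nat.pow_le_pow_iff_right hp.out.one_lt).1 (le_trans (le_of_eq ?_) hk)
    have h : Nat.card (Additive A) = Nat.card (ZMod p) ^ Module.finrank (ZMod p) (Additive A) :=
      Module.natCard_eq_pow_finrank
    rw [Nat.card_zmod] at h
    exact h.symm.trans (Nat.card_congr Additive.toMul)
  refine ⟨S, hS.trans (Nat.div_le_div_right (Nat.pow_le_pow_left hn 2)), fun g => ?_⟩
  obtain ⟨s, hs, hgs⟩ := hgen g
  exact ⟨s, hs, MulEquiv.ext fun x =>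
    congrArg Additive.toMul (LinearMap.congr_fun hgs (Additive.ofMul x))⟩

/-- Modulo the centralizer of an elementary abelian normal subgroup of order at most `p ^ k`,
every subgroup is generated by `k ^ 2 / 4` elements. -/
theorem exists_generators_mod_centralizer {P : Type*} [Group P] [Finite P] (hP : IsPGroup p P)
    (A : Subgroup P) [A.Normal] (hcomm : ∀ x y : A, x * y = y * x)
    (hexp : ∀ x : A, x ^ p = 1) {k : ℕ} (hk : Nat.card A ≤ p ^ k) (H : Subgroup P) :
    ∃ S : Finset ↥H, S.card ≤ k ^ 2 / 4 ∧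
      ∀ g : ↥H, ∃ s ∈ closure (S : Set ↥H), ((s : P)⁻¹ * g) ∈ centralizer (A : Set P) := by
  let CA : CommGroup ↥A := { (inferInstance : Group ↥A) with mul_comm := hcomm }
  obtain ⟨S, hS, hgen⟩ := @exists_generators_mod_aut p _ ↥H _ _ (hP.to_subgroup H) ↥A CA _ hexp k
    hk ((MulAut.conjNormal (H := A)).comp H.subtype)
  refine ⟨S, hS, fun g => ?_⟩
  obtain ⟨s, hs, hgs⟩ := hgen g
  refine ⟨s, hs, mem_centralizer_iff.2 fun a ha => ?_⟩
  have h1 : (g : P) * a * (g : P)⁻¹ = (s : P) * a * (s : P)⁻¹ := by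
    have h2 := congrArg Subtype.val (DFunLike.congr_fun hgs (⟨a, ha⟩ : ↥A))
    simpa using h2
  calc a * ((s : P)⁻¹ * g) = (s : P)⁻¹ * ((s : P) * a * (s : P)⁻¹) * g := by group
    _ = (s : P)⁻¹ * ((g : P) * a * (g : P)⁻¹) * g := by rw [h1]
    _ = (s : P)⁻¹ * g * a := by group

theorem exists_generators {P : Type*} [Group P] [Finite P] (hp2 : p ≠ 2) (hP : IsPGroup p P)
    (k : ℕ) (hab : ∀ A : Subgroup P, A.Normal → IsMulCommutative A →
      ∃ S : Finset P, S.card ≤ k ∧ closure (S : Set P) = A) (H : Subgroup P) :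
    ∃ S : Finset P, S.card ≤ k * (k + 4) / 4 ∧ closure (S : Set P) = H := by
  classical
  obtain ⟨A, ⟨hAn, hAc, hAe⟩, hmax⟩ :=
    (Set.toFinite {B : Subgroup P | B.Normal ∧ IsMulCommutative B ∧ ∀ b ∈ B, b ^ p ^ 1 = 1}).exists_maximal
      ⟨⊥, inferInstance, inferInstance, fun b hb => by simp [mem_bot.1 hb]⟩
  haveI := hAn
  have hcomm : ∀ x y : A, x * y = y * x := fun x y => isMulCommutative_iff.1 hAc x y
  have hexp : ∀ x : A, x ^ p = 1 := fun x => Subtype.ext (by
    simpa using hAe x x.2)
  obtain ⟨S₀, hS₀, hS₀A⟩ := hab A hAn hAc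
  have hAcard : Nat.card A ≤ p ^ k := by
    refine GenBound.card_le_pow_of_generators hexp hcomm
      (S₀.subtype (· ∈ A)) ?_ ?_
    · exact (Finset.card_subtype _ _).le.trans ((Finset.card_filter_le _ _).trans hS₀)
    · refine (Subgroup.map_injective A.subtype_injective) ?_
      rw [MonoidHom.map_closure, ← MonoidHom.range_eq_map, range_subtype]
      refine le_antisymm ((closure_le _).2 ?_) ?_
      · rintro _ ⟨x, -, rfl⟩
        exact x.2
      · conv_lhs => rw [← hS₀A]
        refine closure_mono fun x hx => ?_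
        have hxA : x ∈ A := hS₀A ▸ subset_closure hx
        exact ⟨⟨x, hxA⟩, Finset.mem_subtype.2 hx, rfl⟩
  -- elements of order `p` centralizing `A` lie in `A`
  have hΩ : ∀ x ∈ centralizer (A : Set P), x ^ p = 1 → x ∈ A := fun x hx hxp =>
    mem_of_maximal_abelian_exponent hP (n := 1) (by rwa [pow_one]) hAc hAe
      (fun B hBn hBc hBe hle => le_antisymm (hmax ⟨hBn, hBc, hBe⟩ hle) hle) hx
      (by rwa [pow_one])
  let X := H ⊓ centralizer (A : Set P)
  obtain ⟨S₁, hS₁, hS₁X⟩ := GenBound.exists_generators_of_central_omega hp2 (hP.to_subgroup X)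
    (fun x hxp y => Subtype.ext
      ((mem_centralizer_iff.1 y.2.2 x (hΩ x x.2.2 (congrArg Subtype.val hxp)))))
    (a := k) (Ω := {x : X | (x : P) ∈ A})
    (fun x hxp => hΩ x x.2.2 (congrArg Subtype.val hxp)) (by
      rw [← Nat.card_coe_set_eq]
      refine (Nat.card_le_card_of_injective
        (fun x => (⟨(x.1 : P), x.2⟩ : A)) fun x y e => ?_).trans hAcard
      exact Subtype.ext (Subtype.ext (congrArg (fun z : A => (z : P)) e)))
  obtain ⟨S₂, hS₂, hS₂H⟩ := exists_generators_mod_centralizer hP A hcomm hexp hAcard H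
  refine ⟨S₁.image Subtype.val ∪ S₂.image Subtype.val, ?_, ?_⟩
  · refine (Finset.card_union_le _ _).trans ((Nat.add_le_add
      (Finset.card_image_le.trans hS₁) (Finset.card_image_le.trans hS₂)).trans (le_of_eq ?_))
    rw [show k * (k + 4) = k ^ 2 + 4 * k by ring, Nat.add_mul_div_left _ _ (by norm_num : 0 < 4),
      add_comm]
  · rw [Finset.coe_union, Finset.coe_image, Finset.coe_image, Subgroup.closure_union]
    have e1 : closure ((Subtype.val : ↥X → P) '' (S₁ : Set ↥X)) = X := by
      have := MonoidHom.map_closure X.subtype (S₁ : Set ↥X)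
      rw [hS₁X, ← MonoidHom.range_eq_map, range_subtype] at this
      exact this.symm
    have e2 : closure ((Subtype.val : ↥H → P) '' (S₂ : Set ↥H)) =
        (closure (S₂ : Set ↥H)).map H.subtype :=
      (MonoidHom.map_closure H.subtype (S₂ : Set ↥H)).symm
    rw [e1, e2]
    refine le_antisymm (sup_le inf_le_left (map_subtype_le _)) fun g hg => ?_
    obtain ⟨s, hs, hsg⟩ := hS₂H ⟨g, hg⟩
    have hsg' : (s : P)⁻¹ * g ∈ X := ⟨H.mul_mem (H.inv_mem s.2) hg, hsg⟩
    have := mul_mem (mem_sup_right (S := X) (mem_map_of_mem H.subtype hs)) (mem_sup_left hsg')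
    simpa using this

end CfsgLib.PGroup.SubGen
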