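import Cfsg.Agent.Lib.Char.Burnside
import Mathlib.GroupTheory.Perm.Basic
import Mathlib.GroupTheory.GroupAction.Quotient

/-!
Permutation groups generated by few transpositions.
-/

set_option autoImplicit false

namespace CfsgLib.PGroup

open Equiv

variable {α : Type*} [Fintype α] [DecidableEq α]

/-- `m` transpositions preserve a map whose image has at least `card α - m` values. -/
theorem exists_fibreMap_of_swaps (l : List (Perm α)) (hl : ∀ t ∈ l, t.IsSwap) :
    ∃ f : α → α, (∀ t ∈ l, ∀ x, f (t x) = f x) ∧
      Fintype.card α ≤ (Finset.univ.image f).card + l.length := by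
  induction l with
  | nil => exact ⟨id, by simp, by simp⟩
  | cons t l ih =>
    obtain ⟨f, hf, hc⟩ := ih fun s hs => hl s (List.mem_cons_of_mem _ hs)
    obtain ⟨a, b, _, rfl⟩ := hl t (List.mem_cons_self ..)
    refine ⟨fun x => if f x = f b then f a else f x, ?_, ?_⟩
    · intro s hs x
      rcases List.mem_cons.1 hs with rfl | hs
      · rw [swap_apply_def]
        split_ifs <;> simp_all
      · simp only [hf s hs x]
    · have hsub : (Finset.univ.image f).erase (f b) ⊆
          Finset.univ.image (fun x => if f x = f b then f a else f x) := by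
        intro y hy
        obtain ⟨hne, x, -, rfl⟩ := by simpa only [Finset.mem_erase, Finset.mem_image] using hy
        exact Finset.mem_image.2 ⟨x, Finset.mem_univ _, by simp [hne]⟩
      have h1 := Finset.card_le_card hsub
      have h2 := Finset.card_erase_add_one (Finset.mem_image_of_mem f (Finset.mem_univ b))
      simp only [List.length_cons]
      omega

theorem fibre_card_le {m : ℕ} {f : α → α} (hc : Fintype.card α ≤ (Finset.univ.image f).card + m)
    (c : α) : Fintype.card {x // f x = c} ≤ m + 1 := by
  rw [Fintype.card_subtype]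
  have h : (Finset.univ.image f).erase c ⊆ (Finset.univ.filter (fun x => f x ≠ c)).image f := by
    intro y hy
    obtain ⟨hne, x, -, rfl⟩ := by simpa only [Finset.mem_erase, Finset.mem_image] using hy
    exact Finset.mem_image.2 ⟨x, by simp [hne], rfl⟩
  have h1 : ((Finset.univ.image f).erase c).card ≤
      (Finset.univ.filter (fun x => f x ≠ c)).card :=
    (Finset.card_le_card h).trans Finset.card_image_le
  have h2 := Finset.pred_card_le_card_erase (a := c) (s := Finset.univ.image f)
  have h3 := Finset.card_filter_add_card_filter_not (s := (Finset.univ : Finset α))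
    (fun x => f x = c)
  have h4 : (Finset.univ : Finset α).card = Fintype.card α := rfl
  simp only [ne_eq] at h1
  omega

/-- The permutations preserving all fibres of `f`. -/
def fibreStab (f : α → α) : Subgroup (Perm α) where
  carrier := {g | ∀ x, f (g x) = f x}
  one_mem' := fun _ => rfl
  mul_mem' := fun {a b} ha hb x => (ha (b x)).trans (hb x)
  inv_mem' := fun {a} ha x => by simpa using (ha (a⁻¹ x)).symm

/-- The action on the fibres. -/
def fibreHom (f : α → α) : fibreStab f →* ((c : α) → Perm {x // f x = c}) where
  toFun g c := Equiv.Perm.subtypePerm g.1 (p := fun x => f x = c) (fun x => by rw [g.2 x])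
  map_one' := by funext c; ext x; rfl
  map_mul' g h := by funext c; ext x; rfl

theorem fibreHom_injective (f : α → α) : Function.Injective (fibreHom f) := by
  intro g h e
  apply Subtype.ext
  ext x
  have := congrFun e (f x)
  exact congrArg Subtype.val (DFunLike.congr_fun this ⟨x, rfl⟩)

theorem card_fibreStab_dvd (f : α → α) :
    Nat.card (fibreStab f) ∣ ∏ c, (Fintype.card {x // f x = c}).factorial := by
  have h := Subgroup.card_dvd_of_injective (fibreHom f) (fibreHom_injective f)
  simp only [Nat.card_pi, Nat.card_perm] at h
  simpa only [Nat.card_eq_fintype_card] using h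

omit [Fintype α] [DecidableEq α] in
theorem closure_le_fibreStab {S : Set (Perm α)} {f : α → α}
    (hf : ∀ t ∈ S, ∀ x, f (t x) = f x) : Subgroup.closure S ≤ fibreStab f :=
  (Subgroup.closure_le _).2 fun t ht => hf t ht

theorem prime_le_of_dvd_card_closure_swaps (l : List (Perm α)) (hl : ∀ t ∈ l, t.IsSwap)
    {q : ℕ} (hq : q.Prime) (hd : q ∣ Nat.card (Subgroup.closure {t | t ∈ l})) :
    q ≤ l.length + 1 := by
  obtain ⟨f, hf, hc⟩ := exists_fibreMap_of_swaps l hl
  have := (hd.trans (Subgroup.card_dvd_of_le (closure_le_fibreStab (S := {t | t ∈ l}) hf))).trans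
    (card_fibreStab_dvd f)
  obtain ⟨c, -, hc'⟩ := (Prime.dvd_finsetProd_iff hq.prime _).1 this
  exact (hq.dvd_factorial.1 hc').trans (fibre_card_le hc c)

theorem isSolvable_closure_swaps (l : List (Perm α)) (hl : ∀ t ∈ l, t.IsSwap)
    (h3 : l.length ≤ 3) : Group.IsSolvable (Subgroup.closure {t | t ∈ l}) := by
  set H := Subgroup.closure {t | t ∈ l}
  have hp : ∀ q : ℕ, q.Prime → q ∣ Nat.card H → q = 2 ∨ q = 3 := by
    intro q hq hd
    have := prime_le_of_dvd_card_closure_swaps l hl hq hd
    have h4 : q ≤ 4 := by omega
    have := hq.two_le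
    interval_cases q
    · simp
    · simp
    · exact absurd hq (by norm_num)
  refine CfsgLib.Char.isSolvable_of_card_two_primes Nat.prime_two Nat.prime_three H
    (Nat.card H |>.factorization 2) (Nat.card H |>.factorization 3) ?_
  refine Nat.eq_of_factorization_eq Nat.card_pos.ne' (by positivity) fun q => ?_
  rw [Nat.factorization_mul (by positivity) (by positivity), Nat.prime_two.factorization_pow,
    Nat.prime_three.factorization_pow]
  by_cases hq : q.Prime ∧ q ∣ Nat.card H
  · rcases hp q hq.1 hq.2 with rfl | rfl <;> simp
  · have h0 : (Nat.card H).factorization q = 0 := by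
      by_cases h1 : q.Prime
      · exact Nat.factorization_eq_zero_of_not_dvd fun hd => hq ⟨h1, hd⟩
      · exact Nat.factorization_eq_zero_of_not_prime _ h1
    rcases eq_or_ne q 2 with rfl | h2
    · simp [h0]
    rcases eq_or_ne q 3 with rfl | h3'
    · simp [h0]
    simp [h0, h2, h3', Ne.symm h2, Ne.symm h3']

end CfsgLib.PGroup
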