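import Cfsg.Agent.Lib.PGroup.Subnormalizer

/-!
# Conjugates of a `p`-subgroup inside a Sylow subgroup along a normal series
-/

set_option autoImplicit false
set_option linter.style.haveILetI false
set_option linter.unusedSectionVars false

open Subgroup

namespace CfsgLib.Subnormalizer

universe u

variable {G : Type u} [Group G] [Finite G] {p : ℕ} [Fact p.Prime]

/-- The elements conjugating `H` into `P`, counted by the Sylow subgroups above `H`. -/
theorem card_conj_le_sylow (H : Subgroup G) (P : Sylow p G) :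
    Nat.card {g : G // CfsgLib.Coprime.conjBy g H ≤ (P : Subgroup G)} =
      Nat.card {Q : Sylow p G // H ≤ (Q : Subgroup G)} *
        Nat.card (normalizer ((P : Subgroup G) : Set G)) := by
  classical
  let Z := {g : G // CfsgLib.Coprime.conjBy g H ≤ (P : Subgroup G)}
  let A := {Q : Sylow p G // H ≤ (Q : Subgroup G)}
  haveI := Fintype.ofFinite A
  have conjBy_le : ∀ (g : G) (B : Subgroup G),
      CfsgLib.Coprime.conjBy g H ≤ B ↔ H ≤ CfsgLib.Coprime.conjBy g⁻¹ B := by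
    intro g B
    constructor
    · intro h
      calc H = CfsgLib.Coprime.conjBy g⁻¹ (CfsgLib.Coprime.conjBy g H) := by
            rw [CfsgLib.Coprime.conjBy_conjBy, inv_mul_cancel, CfsgLib.Coprime.conjBy_one]
        _ ≤ _ := map_mono h
    · intro h
      calc CfsgLib.Coprime.conjBy g H ≤ CfsgLib.Coprime.conjBy g (CfsgLib.Coprime.conjBy g⁻¹ B) :=
            map_mono h
        _ = B := by rw [CfsgLib.Coprime.conjBy_conjBy, mul_inv_cancel, CfsgLib.Coprime.conjBy_one]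
  let fA : Z → A := fun g => ⟨g.1⁻¹ • P, (conjBy_le g.1 _).1 g.2⟩
  have cA : ∀ Q : A, Nat.card {g : Z // fA g = Q} =
      Nat.card (normalizer ((P : Subgroup G) : Set G)) := by
    intro Q
    obtain ⟨x, hx⟩ := MulAction.exists_smul_eq G P Q.1
    have hmem : ∀ g : G, g⁻¹ • P = Q.1 ↔ g * x ∈ normalizer ((P : Subgroup G) : Set G) := by
      intro g
      rw [show (g * x ∈ normalizer ((P : Subgroup G) : Set G)) ↔ (g * x) • P = P from
        (Sylow.smul_eq_iff_mem_normalizer).symm, mul_smul, hx, inv_smul_eq_iff, eq_comm]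
    refine Nat.card_congr
      { toFun := fun g => ⟨g.1.1 * x, (hmem _).1 (congrArg Subtype.val g.2)⟩
        invFun := fun n => ⟨⟨n.1 * x⁻¹, (conjBy_le _ _).2 (by
          have h2 : (n.1 * x⁻¹)⁻¹ • P = Q.1 := (hmem _).2 (by simpa using n.2)
          have h3 : CfsgLib.Coprime.conjBy (n.1 * x⁻¹)⁻¹ (P : Subgroup G) = (Q.1 : Subgroup G) :=
            congrArg (fun S : Sylow p G => (S : Subgroup G)) h2
          rw [h3]; exact Q.2)⟩, Subtype.ext ((hmem _).2 (by simpa using n.2))⟩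
        left_inv := fun g => Subtype.ext (Subtype.ext (by simp))
        right_inv := fun n => Subtype.ext (by simp) }
  have e1 := (Nat.card_congr (Equiv.sigmaFiberEquiv fA)).symm
  rw [Nat.card_sigma, Finset.sum_congr rfl (fun Q _ => cA Q), Finset.sum_const, smul_eq_mul,
    Finset.card_univ, ← Nat.card_eq_fintype_card] at e1
  exact e1

/-- A `p`-factor is absorbed by a Sylow subgroup. -/
theorem sup_eq_of_pow (P : Sylow p G) (M M' : Subgroup G) [M.Normal] [M'.Normal] (hle : M ≤ M')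
    {m : ℕ} (hm : M.relIndex M' = p ^ m) : (P : Subgroup G) ⊔ M = (P : Subgroup G) ⊔ M' := by
  refine le_antisymm (sup_le_sup_left hle _) (sup_le le_sup_left ?_)
  set π := QuotientGroup.mk' M with hπ
  have hs : Function.Surjective π := QuotientGroup.mk'_surjective M
  haveI : (M'.map π).Normal := Normal.map inferInstance π hs
  have hp : IsPGroup p (M'.map π) := IsPGroup.iff_card.2 ⟨m, by
    rw [← hm, ← relIndex_ker (K := M') π, hπ, QuotientGroup.ker_mk']⟩
  have h1 : M'.map π ≤ (P : Subgroup G).map π := hp.le_sylow_of_normal (P.mapSurjective hs)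
  have h2 := map_le_iff_le_comap.1 h1
  rwa [comap_map_eq, hπ, QuotientGroup.ker_mk'] at h2

theorem inf_le_of_coprime (P : Sylow p G) (M M' : Subgroup G) [M.Normal]
    (hcop : (M.relIndex M').Coprime p) : (P : Subgroup G) ⊓ M' ≤ M := by
  rintro x ⟨hxP, hxM⟩
  have h1 : (⟨x, hxM⟩ : M') ^ M.relIndex M' ∈ M.subgroupOf M' := Subgroup.pow_index_mem _ _
  rw [mem_subgroupOf, Subgroup.coe_pow] at h1
  obtain ⟨k, hk⟩ := P.2 ⟨x, hxP⟩
  have hk' : x ^ p ^ k = 1 := congrArg Subtype.val hk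
  obtain ⟨a, b, hab⟩ : ∃ a b : ℤ, a * (M.relIndex M' : ℤ) + b * ((p ^ k : ℕ) : ℤ) = 1 :=
    Nat.Coprime.isCoprime (Nat.Coprime.pow_right k hcop)
  rw [← zpow_one x, ← hab, zpow_add, mul_comm a, mul_comm b, zpow_mul, zpow_mul, zpow_natCast,
    zpow_natCast, hk', one_zpow, mul_one]
  exact M.zpow_mem h1 a

theorem card_sup_mul (A M : Subgroup G) [M.Normal] :
    Nat.card ↥(A ⊔ M) * Nat.card ↥(A ⊓ M) = Nat.card A * Nat.card M := by
  have e1 := relIndex_mul_relIndex ⊥ M (A ⊔ M) bot_le le_sup_right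
  have e2 := relIndex_mul_relIndex ⊥ (A ⊓ M) A bot_le inf_le_left
  simp only [relIndex_bot_left, relIndex_sup_right, inf_relIndex_left] at e1 e2
  rw [← e1, ← e2]; ring

/-- The step over a `p'`-factor. -/
theorem coprime_step (H : Subgroup G) (hH : IsPGroup p H) (P : Sylow p G) (M M' : Subgroup G)
    [M.Normal] [M'.Normal] (hle : M ≤ M') (hcop : (M.relIndex M').Coprime p) :
    Nat.card {g : G // CfsgLib.Coprime.conjBy g H ≤ (P : Subgroup G) ⊔ M} * Nat.card M' =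
      Nat.card {g : G // CfsgLib.Coprime.conjBy g H ≤ (P : Subgroup G) ⊔ M'} *
        Nat.card {u : G // u ∈ M' ∧ ∀ h ∈ H, h * u * h⁻¹ * u⁻¹ ∈ M} ∧
    Nat.card ↥((P : Subgroup G) ⊔ M') * Nat.card M =
      Nat.card ↥((P : Subgroup G) ⊔ M) * Nat.card M' ∧
    Nat.card M ∣ Nat.card {u : G // u ∈ M' ∧ ∀ h ∈ H, h * u * h⁻¹ * u⁻¹ ∈ M} := by
  classical
  set L := (P : Subgroup G) ⊔ M' with hL
  set L₀ := (P : Subgroup G) ⊔ M with hL₀
  have hLL : L₀ ≤ L := sup_le_sup_left hle _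
  have hinf : L₀ ⊓ M' = M := by
    refine le_antisymm (fun x hx => ?_) (le_inf le_sup_right hle)
    obtain ⟨a, ha, b, hb, rfl⟩ := mem_sup_of_normal_right.1 hx.1
    refine M.mul_mem (inf_le_of_coprime P M M' hcop ⟨ha, ?_⟩) hb
    have := M'.mul_mem hx.2 (M'.inv_mem (hle hb))
    rwa [mul_inv_cancel_right] at this
  -- the centralizer of `H` on the factor
  set π := QuotientGroup.mk' M with hπ
  set C := M' ⊓ (centralizer ((H.map π : Subgroup (G ⧸ M)) : Set (G ⧸ M))).comap π with hC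
  have memC : ∀ u, u ∈ C ↔ u ∈ M' ∧ ∀ h ∈ H, h * u * h⁻¹ * u⁻¹ ∈ M := by
    intro u
    rw [hC, mem_inf, mem_comap, mem_centralizer_iff]
    refine and_congr_right fun _ => ⟨fun h x hx => ?_, ?_⟩
    · have h1 := h (π x) (mem_map_of_mem π hx)
      rw [← QuotientGroup.eq_one_iff]
      show π (x * u * x⁻¹ * u⁻¹) = 1
      simp only [map_mul, map_inv, h1, mul_inv_cancel_right, mul_inv_cancel]
    · rintro h _ ⟨x, hx, rfl⟩
      have h1 : π (x * u * x⁻¹ * u⁻¹) = 1 := (QuotientGroup.eq_one_iff _).2 (h x hx)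
      simp only [map_mul, map_inv] at h1
      rw [mul_inv_eq_one, mul_inv_eq_iff_eq_mul] at h1
      exact h1
  have hCcard : Nat.card C = Nat.card {u : G // u ∈ M' ∧ ∀ h ∈ H, h * u * h⁻¹ * u⁻¹ ∈ M} :=
    Nat.card_congr (Equiv.subtypeEquivRight memC)
  refine ⟨?_, ?_, hCcard ▸ card_dvd_of_le (le_inf hle (le_of_eq_of_le
    (QuotientGroup.ker_mk' M).symm (MonoidHom.ker_le_comap π _)))⟩
  swap
  · have h1 := card_sup_mul (P : Subgroup G) M
    have h2 := card_sup_mul (P : Subgroup G) M'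
    have h3 : (P : Subgroup G) ⊓ M' = (P : Subgroup G) ⊓ M := le_antisymm
      (le_inf inf_le_left (inf_le_of_coprime P M M' hcop)) (inf_le_inf_left _ hle)
    rw [h3] at h2
    refine Nat.eq_of_mul_eq_mul_right (Nat.card_pos (α := ↥((P : Subgroup G) ⊓ M))) ?_
    calc _ = Nat.card ↥L * Nat.card ↥((P : Subgroup G) ⊓ M) * Nat.card M := by ring
      _ = Nat.card (P : Subgroup G) * Nat.card M * Nat.card M' := by rw [h2]; ring
      _ = _ := by rw [← h1]; ring
  rw [← hCcard]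
  -- double count
  let Z := {g : G // CfsgLib.Coprime.conjBy g H ≤ L}
  let Z₀ := {g : G // CfsgLib.Coprime.conjBy g H ≤ L₀}
  have hLn : ∀ m ∈ M', ∀ g, CfsgLib.Coprime.conjBy g H ≤ L → CfsgLib.Coprime.conjBy (m * g) H ≤ L :=
    fun m hm g hg => by
      rw [← CfsgLib.Coprime.conjBy_conjBy]
      exact (map_mono hg).trans (le_of_eq
        (CfsgLib.Coprime.conjBy_eq_self_of_mem ((le_sup_right : M' ≤ L) hm)))
  let f : Z₀ × M' → Z := fun wn => ⟨(wn.2 : G)⁻¹ * wn.1.1,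
    hLn _ (M'.inv_mem wn.2.2) _ (wn.1.2.trans hLL)⟩
  haveI := Fintype.ofFinite Z
  have hfib : ∀ g : Z, Nat.card {x : Z₀ × M' // f x = g} = Nat.card C := by
    rintro ⟨g, hg⟩
    obtain ⟨n₀, hn₀, hK⟩ : ∃ n₀ ∈ M', CfsgLib.Coprime.conjBy (n₀ * g) H ≤ L₀ := by
      have hp : IsPGroup p ((CfsgLib.Coprime.conjBy g H).subgroupOf L) :=
        (hH.map _).comap_of_injective L.subtype L.subtype_injective
      obtain ⟨Q, hQ⟩ := hp.exists_le_sylow
      obtain ⟨l, hl⟩ := MulAction.exists_smul_eq L Q (P.subtype (le_sup_left : (P : Subgroup G) ≤ L))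
      obtain ⟨a, ha, n, hn, hal⟩ := mem_sup_of_normal_right.1 l.2
      refine ⟨n, hn, ?_⟩
      rw [← CfsgLib.Coprime.conjBy_conjBy]
      rintro _ ⟨y, hy, rfl⟩
      show n * y * n⁻¹ ∈ L₀
      have hyQ : (⟨y, hg hy⟩ : L) ∈ (Q : Subgroup L) := hQ hy
      have h1 : l * ⟨y, hg hy⟩ * l⁻¹ ∈ (P.subtype (le_sup_left : (P : Subgroup G) ≤ L) : Subgroup L) := by
        rw [← hl]
        exact ⟨⟨y, hg hy⟩, hyQ, rfl⟩
      have h2 : (l : G) * y * (l : G)⁻¹ ∈ (P : Subgroup G) := h1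
      have h3 : a⁻¹ * ((l : G) * y * (l : G)⁻¹) * a ∈ (P : Subgroup G) :=
        mul_mem (mul_mem (inv_mem ha) h2) ha
      have e : a⁻¹ * ((l : G) * y * (l : G)⁻¹) * a = n * y * n⁻¹ := by rw [← hal]; group
      exact mem_sup_left (e ▸ h3)
    have key : ∀ n ∈ M', CfsgLib.Coprime.conjBy (n * g) H ≤ L₀ ↔
        (n₀ * g)⁻¹ * (n * n₀⁻¹) * (n₀ * g) ∈ C := by
      intro n hn
      rw [memC]
      have hu : (n₀ * g)⁻¹ * (n * n₀⁻¹) * (n₀ * g) ∈ M' := by
        have := (inferInstance : M'.Normal).conj_mem _ (M'.mul_mem hn (M'.inv_mem hn₀)) (n₀ * g)⁻¹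
        simpa using this
      simp only [hu, true_and]
      constructor
      · intro hle' h hh
        have h1 : n * g * h * (n * g)⁻¹ ∈ L₀ := hle' ⟨h, hh, rfl⟩
        have h2 : n₀ * g * h * (n₀ * g)⁻¹ ∈ L₀ := hK ⟨h, hh, rfl⟩
        set x := n₀ * g * h * (n₀ * g)⁻¹ with hx
        set v := n * n₀⁻¹ with hv
        have hv' : v ∈ M' := M'.mul_mem hn (M'.inv_mem hn₀)
        have h3 : x * v * x⁻¹ * v⁻¹ ∈ L₀ ⊓ M' := by
          refine ⟨?_, ?_⟩
          · have e : x * v * x⁻¹ * v⁻¹ = x * (n * g * h * (n * g)⁻¹)⁻¹ := by rw [hx, hv]; group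
            rw [e]; exact L₀.mul_mem h2 (L₀.inv_mem h1)
          · exact M'.mul_mem ((inferInstance : M'.Normal).conj_mem v hv' x) (M'.inv_mem hv')
        rw [hinf] at h3
        have h4 := (inferInstance : M.Normal).conj_mem _ h3 (n₀ * g)⁻¹
        have e : (n₀ * g)⁻¹ * (x * v * x⁻¹ * v⁻¹) * (n₀ * g)⁻¹⁻¹ =
            h * ((n₀ * g)⁻¹ * v * (n₀ * g)) * h⁻¹ * ((n₀ * g)⁻¹ * v * (n₀ * g))⁻¹ := by
          rw [hx]; group
        rwa [e] at h4
      · rintro hc _ ⟨h, hh, rfl⟩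
        show n * g * h * (n * g)⁻¹ ∈ L₀
        have h4 := (inferInstance : M.Normal).conj_mem _ (hc h hh) (n₀ * g)
        have h2 : n₀ * g * h * (n₀ * g)⁻¹ ∈ L₀ := hK ⟨h, hh, rfl⟩
        have h5 := L₀.mul_mem (L₀.inv_mem ((le_sup_right : M ≤ L₀) h4)) h2
        convert h5 using 1
        group
    rw [← hCcard] at *
    refine Nat.card_congr
      { toFun := fun x => ⟨(n₀ * g)⁻¹ * ((x.1.2 : G) * n₀⁻¹) * (n₀ * g), (key _ x.1.2.2).1 (by
          have e : (x.1.2 : G)⁻¹ * x.1.1.1 = g := congrArg Subtype.val x.2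
          rw [(inv_mul_eq_iff_eq_mul.1 e).symm]
          exact x.1.1.2)⟩
        invFun := fun u =>
          have hn : n₀ * g * (u : G) * (n₀ * g)⁻¹ * n₀ ∈ M' :=
            M'.mul_mem ((inferInstance : M'.Normal).conj_mem _ (mem_inf.1 u.2).1 _) hn₀
          ⟨(⟨n₀ * g * (u : G) * (n₀ * g)⁻¹ * n₀ * g, (key _ hn).2 (by
              convert u.2 using 1; group)⟩, ⟨n₀ * g * (u : G) * (n₀ * g)⁻¹ * n₀, hn⟩),
            Subtype.ext (by show _⁻¹ * _ = g; group)⟩
        left_inv := fun x => by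
          have e : (x.1.2 : G)⁻¹ * x.1.1.1 = g := congrArg Subtype.val x.2
          apply Subtype.ext
          refine Prod.ext (Subtype.ext ?_) (Subtype.ext ?_)
          · show n₀ * g * ((n₀ * g)⁻¹ * ((x.1.2 : G) * n₀⁻¹) * (n₀ * g)) * (n₀ * g)⁻¹ * n₀ * g = x.1.1.1
            rw [inv_mul_eq_iff_eq_mul.1 e]; group
          · show n₀ * g * ((n₀ * g)⁻¹ * ((x.1.2 : G) * n₀⁻¹) * (n₀ * g)) * (n₀ * g)⁻¹ * n₀ = x.1.2
            group
        right_inv := fun u => Subtype.ext (by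
          show (n₀ * g)⁻¹ * (n₀ * g * (u : G) * (n₀ * g)⁻¹ * n₀ * n₀⁻¹) * (n₀ * g) = u
          group) }
  have e1 := (Nat.card_congr (Equiv.sigmaFiberEquiv f)).symm
  rw [Nat.card_sigma, Finset.sum_congr rfl (fun g _ => hfib g), Finset.sum_const, smul_eq_mul,
    Finset.card_univ, ← Nat.card_eq_fintype_card, Nat.card_prod] at e1
  exact e1

end CfsgLib.Subnormalizer
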