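import Cfsg.Agent.Lib.PGroup.SylowNumber
import Mathlib.GroupTheory.Perm.Cycle.Type
import Mathlib.GroupTheory.Perm.Closure
import Mathlib.GroupTheory.Transfer
import Mathlib.GroupTheory.SchurZassenhaus
import Mathlib.GroupTheory.SpecificGroups.Cyclic
import Mathlib.Combinatorics.Enumerative.DoubleCounting

/-!
# No finite group has exactly 22 Sylow 3-subgroups

The Sylow 3-subgroups are the points. If their order is at least 9, call two of them adjacent
when they meet in index 3; the subgroups containing a common such intersection form lines. Counting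
shows that there are 12 neighbours per point in four lines of four points, that no triangle lies
outside a line, and thus that points fall in classes of ten with equal neighbourhoods, which is
impossible. If their order is 3, a minimal group is simple, and the normalizer of a Sylow
11-subgroup leaves only groups with 12 Sylow 11-subgroups, which do not exist.
-/

set_option autoImplicit false
set_option linter.style.haveILetI false
set_option linter.unusedSectionVars false
set_option linter.unusedFintypeInType false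

open Subgroup MulAction
open scoped Pointwise

namespace CfsgLib.PGroup.SylowTwentyTwo

/-! ### Orbit lemmas -/

section Orbits

variable {H α : Type*} [Group H] [MulAction H α] [Finite α]

/-- An invariant set all whose orbits have size divisible by `d`. -/
theorem dvd_card_of_invariant (d : ℕ) (s : Finset α) (hinv : ∀ (h : H), ∀ a ∈ s, h • a ∈ s)
    (hd : ∀ a ∈ s, d ∣ Nat.card (orbit H a)) : d ∣ s.card := by
  classical
  induction hn : s.card using Nat.strongRecOn generalizing s with
  | ind n ih =>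
    rcases s.eq_empty_or_nonempty with rfl | ⟨a, ha⟩
    · simp at hn; simp [← hn]
    · set O : Finset α := (Set.toFinite (orbit H a)).toFinset with hO
      have hsub : O ⊆ s := fun b hb => by
        obtain ⟨h, rfl⟩ := (Set.Finite.mem_toFinset _).1 hb
        exact hinv h a ha
      have haO : a ∈ O := (Set.Finite.mem_toFinset _).2 (mem_orbit_self a)
      have hlt : (s \ O).card < n := by
        rw [← hn]
        exact Finset.card_lt_card (Finset.sdiff_ssubset hsub ⟨a, haO⟩)
      have h1 : d ∣ (s \ O).card := by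
        refine ih _ hlt (s \ O) (fun h b hb => ?_) (fun b hb => hd b (Finset.mem_sdiff.1 hb).1) rfl
        obtain ⟨hb1, hb2⟩ := Finset.mem_sdiff.1 hb
        refine Finset.mem_sdiff.2 ⟨hinv h b hb1, fun hb3 => hb2 ?_⟩
        rw [hO, Set.Finite.mem_toFinset] at hb3 ⊢
        rw [← inv_smul_smul h b]
        exact mem_orbit_of_mem_orbit h⁻¹ hb3
      have h2 : d ∣ O.card := by
        have h3 := hd a ha
        rwa [Nat.card_coe_set_eq, Set.ncard_eq_toFinset_card _ (Set.toFinite _)] at h3
      rw [← hn, ← Finset.card_sdiff_add_card_eq_card hsub]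
      exact dvd_add h1 h2

/-- An element commuting with `x` and mapping a point into its `x`-orbit fixes that point, if its
order is prime to that of `x`. -/
theorem fix_of_commute {x y : H} {r q : ℕ} (hxy : Commute x y) (hx : x ^ r = 1) (hy : y ^ q = 1)
    (hrq : r.Coprime q) {a : α} {i : ℕ} (h : y • a = x ^ i • a) : y • a = a := by
  have hiter : ∀ m : ℕ, y ^ m • a = x ^ (i * m) • a := fun m => by
    induction m with
    | zero => simp
    | succ m ih =>
      rw [pow_succ', mul_smul, ih, ← mul_smul, ← (hxy.pow_left (i * m)).eq, mul_smul, h, ← mul_smul,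
        ← pow_add, Nat.mul_succ]
  have h1 : x ^ i ∈ stabilizer H a := by
    have h2 : (x ^ i) ^ q ∈ stabilizer H a := by
      rw [mem_stabilizer_iff, ← pow_mul, ← hiter q, hy, one_smul]
    have h3 : (x ^ i) ^ r = 1 := by rw [← pow_mul, mul_comm, pow_mul, hx, one_pow]
    obtain ⟨e, he⟩ : ∃ e : ℕ, ((x ^ i) ^ q) ^ e = x ^ i :=
      exists_pow_eq_self_of_coprime (hrq.coprime_dvd_left (orderOf_dvd_of_pow_eq_one h3)).symm
    rw [← he]
    exact pow_mem h2 e
  rw [h]
  exact h1

end Orbits

/-- The sign of an involution. -/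
theorem sign_of_sq_eq_one {α : Type*} [Fintype α] [DecidableEq α] (σ : Equiv.Perm α)
    (h : σ ^ 2 = 1) : Equiv.Perm.sign σ = (-1) ^ (σ.support.card / 2) := by
  have htwo : ∀ n ∈ σ.cycleType, n = 2 := fun n hn => by
    have h1 : n ∣ 2 := (Equiv.Perm.dvd_of_mem_cycleType hn).trans (orderOf_dvd_of_pow_eq_one h)
    exact ((Nat.dvd_prime Nat.prime_two).1 h1).resolve_left
      (Equiv.Perm.one_lt_of_mem_cycleType hn).ne'
  have hrep := Multiset.eq_replicate_card.2 htwo
  have hsum : σ.support.card = σ.cycleType.card * 2 := by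
    rw [← Equiv.Perm.sum_cycleType]
    conv_lhs => rw [hrep]
    rw [Multiset.sum_replicate, smul_eq_mul]
  rw [Equiv.Perm.sign_of_cycleType, Equiv.Perm.sum_cycleType, hsum, Nat.mul_div_cancel _ two_pos,
    pow_add, pow_mul']
  simp

variable {G : Type*} [Group G] [Finite G]

theorem three_prime : Fact (Nat.Prime 3) := ⟨Nat.prime_three⟩

attribute [local instance] three_prime

/-- The conjugates of a Sylow subgroup as maps. -/
theorem coe_smul' {p : ℕ} (g : G) (P : Sylow p G) :
    ((g • P : Sylow p G) : Subgroup G) = (P : Subgroup G).map (MulAut.conj g).toMonoidHom := rfl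

theorem card_sylow_coe (P Q : Sylow 3 G) : Nat.card (P : Subgroup G) = Nat.card (Q : Subgroup G) := by
  rw [P.card_eq_multiplicity, Q.card_eq_multiplicity]

/-- Stabilizer in `P` of `Q`. -/
theorem smul_eq_self_iff (P Q : Sylow 3 G) (x : (P : Subgroup G)) :
    x • Q = Q ↔ (x : G) ∈ (Q : Subgroup G) := by
  rw [show x • Q = (x : G) • Q from rfl, Sylow.smul_eq_iff_mem_normalizer]
  constructor
  · intro h
    have h1 : (x : G) ∈ (P : Subgroup G) ⊓ normalizer (Q : Set G) := ⟨x.2, h⟩
    rw [IsPGroup.inf_normalizer_sylow P.2] at h1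
    exact h1.2
  · exact fun h => le_normalizer h

/-- Orbit length times intersection. -/
theorem card_orbit_mul (P Q : Sylow 3 G) :
    Nat.card (orbit (P : Subgroup G) Q) * Nat.card ↥((P : Subgroup G) ⊓ Q) =
      Nat.card (P : Subgroup G) := by
  have hst : stabilizer (P : Subgroup G) Q = (Q : Subgroup G).subgroupOf (P : Subgroup G) := by
    ext x
    rw [mem_stabilizer_iff, smul_eq_self_iff, mem_subgroupOf]
  rw [Nat.card_congr (orbitEquivQuotientStabilizer (P : Subgroup G) Q), hst, ← Subgroup.index,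
    ← inf_subgroupOf_left, ← Nat.card_congr (subgroupOfEquivOfLe
      (inf_le_left : (P : Subgroup G) ⊓ Q ≤ P)).toEquiv, mul_comm, card_mul_index]

theorem eq_of_le_coe {P Q : Sylow 3 G} (h : (P : Subgroup G) ≤ Q) : P = Q :=
  Sylow.ext (Subgroup.eq_of_le_of_card_ge h (card_sylow_coe Q P).le)

/-- Intersections of distinct Sylow subgroups. -/
theorem three_mul_inf_dvd {P Q : Sylow 3 G} (h : P ≠ Q) :
    3 * Nat.card ↥((P : Subgroup G) ⊓ Q) ∣ Nat.card (P : Subgroup G) := by
  obtain ⟨a, ha⟩ := IsPGroup.iff_card.1 P.2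
  obtain ⟨b, hb⟩ := IsPGroup.iff_card.1 (P.2.to_le (inf_le_left : (P : Subgroup G) ⊓ Q ≤ P))
  have hlt : b < a := by
    by_contra hle
    refine h (eq_of_le_coe ?_)
    rw [← Subgroup.eq_of_le_of_card_ge (inf_le_left : (P : Subgroup G) ⊓ Q ≤ P) (by
      rw [ha, hb]; exact Nat.pow_le_pow_right (by norm_num) (not_lt.1 hle))]
    exact inf_le_right
  rw [ha, hb, ← pow_succ']
  exact pow_dvd_pow 3 hlt

/-- Meeting in index three. -/
def Adj (P Q : Sylow 3 G) : Prop :=
  P ≠ Q ∧ 3 * Nat.card ↥((P : Subgroup G) ⊓ Q) = Nat.card (P : Subgroup G)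

theorem Adj.symm {P Q : Sylow 3 G} (h : Adj P Q) : Adj Q P :=
  ⟨h.1.symm, by rw [inf_comm, h.2]; exact card_sylow_coe P Q⟩

theorem Adj.smul {P Q : Sylow 3 G} (h : Adj P Q) (g : G) : Adj (g • P) (g • Q) := by
  refine ⟨fun e => h.1 (smul_left_cancel g e), ?_⟩
  rw [card_sylow_coe (g • P) P, coe_smul', coe_smul',
    ← Subgroup.map_inf _ _ (MulAut.conj g).toMonoidHom (MulAut.conj g).injective,
    Subgroup.card_map_of_injective (MulAut.conj g).injective, h.2]

/-- A subgroup of index three in a Sylow subgroup is normalized by it. -/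
theorem le_normalizer_of_three {P : Sylow 3 G} {D : Subgroup G} (hD : D ≤ P)
    (h3 : 3 * Nat.card D = Nat.card (P : Subgroup G)) :
    (P : Subgroup G) ≤ normalizer (D : Set G) := by
  haveI : (D.subgroupOf (P : Subgroup G)).Normal := by
    refine Subgroup.normal_of_index_eq_minFac_card ?_
    have h1 := (D.subgroupOf (P : Subgroup G)).card_mul_index
    rw [Nat.card_congr (subgroupOfEquivOfLe hD).toEquiv, ← h3, mul_comm 3] at h1
    rw [Nat.eq_of_mul_eq_mul_left Nat.card_pos h1]
    obtain ⟨a, ha⟩ := IsPGroup.iff_card.1 P.2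
    rw [ha, Nat.Prime.pow_minFac Nat.prime_three]
    rintro rfl
    rw [pow_zero] at ha
    omega
  exact Subgroup.normal_subgroupOf_iff_le_normalizer hD |>.1 inferInstance

section Configuration

variable [Fintype (Sylow 3 G)]

open Classical in
/-- The neighbours. -/
noncomputable def nb (P : Sylow 3 G) : Finset (Sylow 3 G) := Finset.univ.filter (Adj P)

open Classical in
/-- The points above `D`. -/
noncomputable def line (D : Subgroup G) : Finset (Sylow 3 G) :=
  Finset.univ.filter fun S => D ≤ (S : Subgroup G)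

open Classical in
/-- The intersections of adjacent points. -/
noncomputable def tops (G : Type*) [Group G] [Finite G] [Fintype (Sylow 3 G)] :
    Finset (Subgroup G) :=
  ((Finset.univ : Finset (Sylow 3 G × Sylow 3 G)).filter fun x => Adj x.1 x.2).image
    fun x => (x.1 : Subgroup G) ⊓ x.2

theorem mem_nb {P Q : Sylow 3 G} : Q ∈ nb P ↔ Adj P Q := by simp [nb]

theorem mem_line {D : Subgroup G} {S : Sylow 3 G} : S ∈ line D ↔ D ≤ (S : Subgroup G) := by
  simp [line]

theorem mem_tops {D : Subgroup G} :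
    D ∈ tops G ↔ ∃ P Q : Sylow 3 G, Adj P Q ∧ (P : Subgroup G) ⊓ Q = D := by
  simp [tops]

/-- Two points of a line meet in it. -/
theorem inf_eq_of_mem {D : Subgroup G} {S T : Sylow 3 G}
    (hD : 3 * Nat.card D = Nat.card (S : Subgroup G)) (hS : D ≤ S) (hT : D ≤ T) (hne : S ≠ T) :
    (S : Subgroup G) ⊓ T = D := by
  refine (Subgroup.eq_of_le_of_card_ge (le_inf hS hT) ?_).symm
  have h1 := Nat.le_of_dvd Nat.card_pos (three_mul_inf_dvd hne)
  omega

theorem top_card {D : Subgroup G} (hD : D ∈ tops G) (S : Sylow 3 G) :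
    3 * Nat.card D = Nat.card (S : Subgroup G) := by
  obtain ⟨P, Q, h, rfl⟩ := mem_tops.1 hD
  rw [h.2, card_sylow_coe]

theorem adj_of_mem_line {D : Subgroup G} (hD : D ∈ tops G) {S T : Sylow 3 G} (hS : S ∈ line D)
    (hT : T ∈ line D) (hne : S ≠ T) : Adj S T :=
  ⟨hne, by rw [inf_eq_of_mem (top_card hD S) (mem_line.1 hS) (mem_line.1 hT) hne]; exact top_card hD S⟩

theorem orbit_card_of_adj {P Q : Sylow 3 G} (h : Adj P Q) :
    Nat.card (orbit (P : Subgroup G) Q) = 3 := by
  have h1 := card_orbit_mul P Q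
  rw [← h.2] at h1
  exact Nat.eq_of_mul_eq_mul_right Nat.card_pos h1

theorem smul_mem_line {D : Subgroup G} {S : Sylow 3 G} {g : G}
    (hg : g ∈ normalizer (D : Set G)) (hS : S ∈ line D) : g • S ∈ line D := by
  rw [mem_line] at hS ⊢
  intro d hd
  rw [coe_smul']
  exact ⟨g⁻¹ * d * g, hS ((Subgroup.mem_normalizer_iff'.1 hg _).2 (by simpa [mul_assoc] using hd)),
    by simp [mul_assoc]⟩

theorem line_card_mod {D : Subgroup G} (hD : D ∈ tops G) : (line D).card % 3 = 1 := by
  classical
  obtain ⟨P, Q, h, rfl⟩ := mem_tops.1 hD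
  have hP : P ∈ line ((P : Subgroup G) ⊓ Q) := mem_line.2 inf_le_left
  have hdvd : 3 ∣ ((line ((P : Subgroup G) ⊓ Q)).erase P).card := by
    refine dvd_card_of_invariant (H := (P : Subgroup G)) 3 _ (fun x S hS => ?_) fun S hS => ?_
    · obtain ⟨hne, hS⟩ := Finset.mem_erase.1 hS
      have hxP : x • P = P := (smul_eq_self_iff P P x).2 x.2
      refine Finset.mem_erase.2 ⟨fun e => hne ?_, smul_mem_line
        (le_normalizer_of_three inf_le_left h.2 x.2) hS⟩
      exact smul_left_cancel x (e.trans hxP.symm)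
    · obtain ⟨hne, hS⟩ := Finset.mem_erase.1 hS
      rw [orbit_card_of_adj (adj_of_mem_line hD hP hS hne.symm)]
  rw [← Finset.card_erase_add_one hP]
  omega

variable (h22 : Nat.card (Sylow 3 G) = 22)
include h22

theorem univ_card : (Finset.univ : Finset (Sylow 3 G)).card = 22 := by
  rw [Finset.card_univ, ← Nat.card_eq_fintype_card, h22]

theorem nb_card (P : Sylow 3 G) :
    (nb P).card ≤ 21 ∧ 9 ∣ 21 - (nb P).card ∧ 3 ∣ (nb P).card := by
  classical
  have hPn : P ∉ nb P := fun h => (mem_nb.1 h).1 rfl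
  have hfix : ∀ x : (P : Subgroup G), x • P = P := fun x => (smul_eq_self_iff P P x).2 x.2
  have hinv : ∀ (x : (P : Subgroup G)), ∀ Q ∈ nb P, x • Q ∈ nb P := fun x Q hQ => by
    have h := (mem_nb.1 hQ).smul (x : G)
    rw [show (x : G) • P = P from hfix x] at h
    exact mem_nb.2 h
  have hle : (insert P (nb P)).card ≤ 22 := univ_card h22 ▸ Finset.card_le_univ _
  rw [Finset.card_insert_of_notMem hPn] at hle
  refine ⟨by omega, ?_, dvd_card_of_invariant (H := (P : Subgroup G)) 3 _ hinv fun Q hQ => ?_⟩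
  · have hc : (Finset.univ \ insert P (nb P)).card = 21 - (nb P).card := by
      rw [Finset.card_univ_diff, Finset.card_insert_of_notMem hPn, ← Nat.card_eq_fintype_card, h22]
      omega
    rw [← hc]
    refine dvd_card_of_invariant (H := (P : Subgroup G)) 9 _ (fun x Q hQ => ?_) fun Q hQ => ?_
    · simp only [Finset.mem_sdiff, Finset.mem_univ, true_and, Finset.mem_insert, not_or] at hQ ⊢
      refine ⟨fun e => hQ.1 (smul_left_cancel x (e.trans (hfix x).symm)), fun e => hQ.2 ?_⟩
      have h := hinv x⁻¹ _ e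
      rwa [inv_smul_smul] at h
    · simp only [Finset.mem_sdiff, Finset.mem_univ, true_and, Finset.mem_insert, not_or] at hQ
      have hne : P ≠ Q := Ne.symm hQ.1
      have h1 := card_orbit_mul P Q
      obtain ⟨c, hc2⟩ := three_mul_inf_dvd hne
      have hc3 : Nat.card (orbit (P : Subgroup G) Q) = 3 * c := by
        refine Nat.eq_of_mul_eq_mul_right
          (Nat.card_pos (α := ↥((P : Subgroup G) ⊓ Q))) ?_
        rw [h1, hc2]; ring
      have hc1 : c ≠ 1 := fun e => hQ.2 (mem_nb.2 ⟨hne, by rw [hc2, e, mul_one]⟩)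
      obtain ⟨a, ha⟩ := IsPGroup.iff_card.1 P.2
      have hd : Nat.card (orbit (P : Subgroup G) Q) ∣ 3 ^ a := ha ▸ ⟨_, h1.symm⟩
      obtain ⟨j, -, hj⟩ := (Nat.dvd_prime_pow Nat.prime_three).1 hd
      rw [hc3] at hj
      rw [hc3, hj]
      rcases j with _ | _ | j
      · rw [pow_zero] at hj; omega
      · rw [pow_one] at hj; omega
      · exact ⟨3 ^ j, by ring⟩
  · rw [orbit_card_of_adj (mem_nb.1 hQ)]

/-- The lines with `c` points at `P`. -/
noncomputable def atPoint (P : Sylow 3 G) (c : ℕ) : Finset (Subgroup G) :=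
  open Classical in (tops G).filter fun D => D ≤ (P : Subgroup G) ∧ (line D).card = c

omit h22 in
theorem mem_atPoint {P : Sylow 3 G} {c : ℕ} {D : Subgroup G} :
    D ∈ atPoint P c ↔ D ∈ tops G ∧ D ≤ (P : Subgroup G) ∧ (line D).card = c := by
  simp [atPoint]

omit h22 in
theorem atPoint_smul (g : G) (P : Sylow 3 G) (c : ℕ) :
    (atPoint P c).card ≤ (atPoint (g • P) c).card := by
  classical
  refine Finset.card_le_card_of_injOn (fun D => D.map (MulAut.conj g).toMonoidHom) ?_
    fun a _ b _ e => Subgroup.map_injective (MulAut.conj g).injective e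
  intro D hD
  rw [Finset.mem_coe, mem_atPoint] at hD ⊢
  obtain ⟨hD, hle, hc⟩ := hD
  obtain ⟨S, T, h, rfl⟩ := mem_tops.1 hD
  refine ⟨mem_tops.2 ⟨g • S, g • T, h.smul g, ?_⟩, ?_, ?_⟩
  · rw [coe_smul', coe_smul', ← Subgroup.map_inf _ _ _ (MulAut.conj g).injective]
  · rw [coe_smul']
    exact Subgroup.map_mono hle
  · rw [← hc]
    refine Finset.card_equiv (MulAction.toPerm g⁻¹) fun R => ?_
    simp only [mem_line, MulAction.toPerm_apply, coe_smul']
    rw [Subgroup.map_le_iff_le_comap]
    have e : (R : Subgroup G).map (MulAut.conj g⁻¹).toMonoidHom =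
        (R : Subgroup G).comap (MulAut.conj g).toMonoidHom := by
      rw [Subgroup.map_equiv_eq_comap_symm', map_inv]
      rfl
    rw [e]

omit h22 in
theorem nb_eq_sum (P : Sylow 3 G) (D : Subgroup G) (hD : D ∈ tops G) (hDP : D ≤ (P : Subgroup G)) :
    ((atPoint P (line D).card).card) * ((line D).card - 1) ≤ (nb P).card := by
  classical
  rw [← smul_eq_mul, ← Finset.sum_const]
  refine le_trans (le_of_eq ?_) (Finset.card_le_card
    (s := (atPoint P (line D).card).biUnion fun E => (line E).erase P) ?_)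
  · rw [Finset.card_biUnion]
    · refine Finset.sum_congr rfl fun E hE => ?_
      obtain ⟨-, hEP, hc⟩ := mem_atPoint.1 hE
      rw [Finset.card_erase_of_mem (mem_line.2 hEP), hc]
    · intro E hE F hF hne
      rw [Function.onFun, Finset.disjoint_left]
      intro S hSE hSF
      refine hne ?_
      obtain ⟨hSP, hSE⟩ := Finset.mem_erase.1 hSE
      obtain ⟨hE1, hE2, -⟩ := mem_atPoint.1 hE
      obtain ⟨hF1, hF2, -⟩ := mem_atPoint.1 hF
      rw [← inf_eq_of_mem (top_card hE1 P) hE2 (mem_line.1 hSE) hSP.symm,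
        ← inf_eq_of_mem (top_card hF1 P) hF2 (mem_line.1 (Finset.mem_of_mem_erase hSF)) hSP.symm]
  · intro S hS
    obtain ⟨E, hE, hS⟩ := Finset.mem_biUnion.1 hS
    obtain ⟨hSP, hS⟩ := Finset.mem_erase.1 hS
    obtain ⟨hE1, hE2, -⟩ := mem_atPoint.1 hE
    exact mem_nb.2 (adj_of_mem_line hE1 (mem_line.2 hE2) hS hSP.symm)

omit h22 in
theorem atPoint_card_eq (P Q : Sylow 3 G) (c : ℕ) : (atPoint P c).card = (atPoint Q c).card := by
  obtain ⟨g, rfl⟩ := MulAction.exists_smul_eq G P Q
  refine le_antisymm (atPoint_smul g P c) ?_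
  have h := atPoint_smul g⁻¹ (g • P) c
  rwa [inv_smul_smul] at h

/-- Incidences with lines of `c` points. -/
theorem incidence (P : Sylow 3 G) (c : ℕ) : c ∣ 22 * (atPoint P c).card := by
  classical
  have h := Finset.sum_card_bipartiteAbove_eq_sum_card_bipartiteBelow
    (fun (S : Sylow 3 G) (D : Subgroup G) => D ≤ (S : Subgroup G))
    (s := Finset.univ) (t := (tops G).filter fun D => (line D).card = c)
  have h1 : ∀ S : Sylow 3 G, (Finset.bipartiteAbove (fun (S : Sylow 3 G) (D : Subgroup G) =>
      D ≤ (S : Subgroup G)) ((tops G).filter fun D => (line D).card = c) S).card =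
        (atPoint P c).card := fun S => by
    rw [atPoint_card_eq P S c]
    congr 1
    ext D
    simp only [Finset.bipartiteAbove, Finset.mem_filter, mem_atPoint]
    tauto
  have h2 : ∀ D ∈ (tops G).filter (fun D => (line D).card = c), (Finset.bipartiteBelow
      (fun (S : Sylow 3 G) (D : Subgroup G) => D ≤ (S : Subgroup G)) Finset.univ D).card = c :=
    fun D hD => by
    rw [← (Finset.mem_filter.1 hD).2]
    congr 1
  rw [Finset.sum_congr rfl fun S _ => h1 S, Finset.sum_congr rfl h2, Finset.sum_const,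
    Finset.sum_const, univ_card h22, smul_eq_mul, smul_eq_mul] at h
  exact ⟨_, by rw [h, mul_comm]⟩

variable (hker : ∀ D : Subgroup G, (∀ S : Sylow 3 G, D ≤ (S : Subgroup G)) → D = ⊥)
variable (h9 : ∀ S : Sylow 3 G, Nat.card (S : Subgroup G) ≠ 3)
include hker h9

theorem line_four {D : Subgroup G} (hD : D ∈ tops G) : (line D).card = 4 := by
  classical
  obtain ⟨P, Q, h, e⟩ := mem_tops.1 hD
  have hDP : D ≤ (P : Subgroup G) := e ▸ inf_le_left
  have hmod := line_card_mod hD
  have hne22 : (line D).card ≠ 22 := by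
    intro hc
    have hall : line D = Finset.univ :=
      Finset.eq_univ_of_card _ (by rw [hc, ← Nat.card_eq_fintype_card, h22])
    have hb := hker D fun S => mem_line.1 (hall ▸ Finset.mem_univ S)
    have h3 := top_card hD P
    rw [hb, Subgroup.card_bot, mul_one] at h3
    exact h9 P h3.symm
  have h2 : 2 ≤ (line D).card := Finset.one_lt_card.2 ⟨P, mem_line.2 hDP, Q,
    mem_line.2 (e ▸ inf_le_right), h.1⟩
  have hle : (line D).card ≤ 22 := univ_card h22 ▸ Finset.card_le_univ _
  have hr : 1 ≤ (atPoint P (line D).card).card :=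
    Finset.card_pos.2 ⟨D, mem_atPoint.2 ⟨hD, hDP, rfl⟩⟩
  have hb : (atPoint P (line D).card).card * ((line D).card - 1) ≤ 21 :=
    (nb_eq_sum P D hD hDP).trans (nb_card h22 P).1
  have hdiv := incidence h22 P (line D).card
  generalize (atPoint P (line D).card).card = r at hr hb hdiv
  generalize (line D).card = c at hmod hne22 h2 hle hb hdiv ⊢
  obtain ⟨m, hm⟩ := hdiv
  interval_cases c <;> omega

theorem nb_twelve (P : Sylow 3 G) : (nb P).card = 12 := by
  classical
  have hfib : (nb P).card = ∑ D ∈ atPoint P 4,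
      ((nb P).filter fun Q : Sylow 3 G => (P : Subgroup G) ⊓ (Q : Subgroup G) = D).card :=
    Finset.card_eq_sum_card_fiberwise fun Q hQ => by
      have h : (P : Subgroup G) ⊓ (Q : Subgroup G) ∈ tops G := mem_tops.2 ⟨P, Q, mem_nb.1 hQ, rfl⟩
      exact mem_atPoint.2 ⟨h, inf_le_left, line_four h22 hker h9 h⟩
  have hcard : ∀ D ∈ atPoint P 4,
      ((nb P).filter fun Q : Sylow 3 G => (P : Subgroup G) ⊓ (Q : Subgroup G) = D).card = 3 := by
    intro D hD
    obtain ⟨hD1, hD2, hD4⟩ := mem_atPoint.1 hD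
    have e : (nb P).filter (fun Q : Sylow 3 G => (P : Subgroup G) ⊓ (Q : Subgroup G) = D) =
        (line D).erase P := by
      ext Q
      simp only [Finset.mem_filter, Finset.mem_erase, mem_nb, mem_line]
      constructor
      · rintro ⟨hA, rfl⟩
        exact ⟨hA.1.symm, inf_le_right⟩
      · rintro ⟨hne, hQ⟩
        exact ⟨adj_of_mem_line hD1 (mem_line.2 hD2) (mem_line.2 hQ) hne.symm,
          inf_eq_of_mem (top_card hD1 P) hD2 hQ hne.symm⟩
    rw [e, Finset.card_erase_of_mem (mem_line.2 hD2), hD4]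
  rw [Finset.sum_congr rfl hcard, Finset.sum_const, smul_eq_mul] at hfib
  obtain ⟨h21, h9d, -⟩ := nb_card h22 P
  obtain ⟨m, hm⟩ := incidence h22 P 4
  omega

omit h22 hker h9 in
/-- A triangle lies in a line. -/
theorem no_triangle {P Q S : Sylow 3 G} (hPQ : Adj P Q) (hQS : Adj Q S)
    (hne : (Q : Subgroup G) ⊓ S ≠ (P : Subgroup G) ⊓ Q) : ¬ Adj P S := by
  intro hPS
  obtain ⟨D, hDdef⟩ : ∃ D, D = (P : Subgroup G) ⊓ Q := ⟨_, rfl⟩
  obtain ⟨E, hEdef⟩ : ∃ E, E = (Q : Subgroup G) ⊓ S := ⟨_, rfl⟩
  rw [← hDdef, ← hEdef] at hne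
  have hDc : 3 * Nat.card D = Nat.card (Q : Subgroup G) := hDdef ▸ hPQ.2.trans (card_sylow_coe P Q)
  have hEc : 3 * Nat.card E = Nat.card (Q : Subgroup G) := hEdef ▸ hQS.2
  have hDP : D ≤ (P : Subgroup G) := hDdef ▸ inf_le_left
  have hDQ : D ≤ (Q : Subgroup G) := hDdef ▸ inf_le_right
  have hEQ : E ≤ (Q : Subgroup G) := hEdef ▸ inf_le_left
  have hES : E ≤ (S : Subgroup G) := hEdef ▸ inf_le_right
  obtain ⟨d, hd, hdS⟩ : ∃ d ∈ D, d ∉ (S : Subgroup G) := by
    by_contra hc
    push Not at hc
    refine hne (Subgroup.eq_of_le_of_card_ge ?_ (by omega)).symm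
    rw [hEdef]
    exact le_inf hDQ fun x hx => hc x hx
  set S' : Sylow 3 G := d • S with hS'
  have hne' : S ≠ S' := fun e => hdS ((smul_eq_self_iff Q S ⟨d, hDQ hd⟩).1 e.symm)
  have hES' : E ≤ (S' : Subgroup G) := mem_line.1 (smul_mem_line
    (le_normalizer_of_three hEQ hEc (hDQ hd))
    (mem_line.2 hES))
  have hFS' : (P : Subgroup G) ⊓ S ≤ (S' : Subgroup G) := mem_line.1 (smul_mem_line
    (le_normalizer_of_three (inf_le_left : (P : Subgroup G) ⊓ S ≤ (P : Subgroup G)) hPS.2 (hDP hd))
    (mem_line.2 (inf_le_right : (P : Subgroup G) ⊓ S ≤ (S : Subgroup G))))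
  have h1 := inf_eq_of_mem (hEc.trans (card_sylow_coe Q S)) hES hES' hne'
  have h2 := inf_eq_of_mem (hPS.2.trans (card_sylow_coe P S)) inf_le_right hFS' hne'
  refine hne (Subgroup.eq_of_le_of_card_ge ?_ (by omega))
  rw [hDdef]
  refine le_inf ?_ hEQ
  rw [← h1, h2]
  exact inf_le_left

/-- Sylow subgroups of order at least nine give a contradiction. -/
theorem false_of_nine : False := by
  classical
  have key : ∀ P : Sylow 3 G, ∀ X ∈ Finset.univ \ insert P (nb P), nb X = nb P := by
    intro P X hX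
    symm
    refine Finset.eq_of_subset_of_card_le (fun Q hQ => ?_)
      (by rw [nb_twelve h22 hker h9 P, nb_twelve h22 hker h9 X])
    have hPQ := mem_nb.1 hQ
    have hDt : (P : Subgroup G) ⊓ (Q : Subgroup G) ∈ tops G := mem_tops.2 ⟨P, Q, hPQ, rfl⟩
    set A := (nb Q) \ (line ((P : Subgroup G) ⊓ (Q : Subgroup G))).erase Q with hA
    have hsubA : A ⊆ Finset.univ \ insert P (nb P) := by
      intro S hS
      simp only [hA, Finset.mem_sdiff, Finset.mem_erase, not_and, mem_nb, mem_line] at hS
      simp only [Finset.mem_sdiff, Finset.mem_univ, true_and, Finset.mem_insert, mem_nb, not_or]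
      have hne : ¬ ((P : Subgroup G) ⊓ Q ≤ (S : Subgroup G)) := hS.2 hS.1.1.symm
      refine ⟨fun e => hne (e.symm ▸ inf_le_left), no_triangle hPQ hS.1 fun e => hne ?_⟩
      rw [← e]
      exact inf_le_right
    have hsubL : (line ((P : Subgroup G) ⊓ (Q : Subgroup G))).erase Q ⊆ nb Q := fun S hS => by
      obtain ⟨hne, hS⟩ := Finset.mem_erase.1 hS
      exact mem_nb.2 (adj_of_mem_line hDt (mem_line.2 inf_le_right) hS hne.symm)
    have hPn : P ∉ nb P := fun h => (mem_nb.1 h).1 rfl
    have hcardA : A.card = 9 := by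
      rw [hA, Finset.card_sdiff_of_subset hsubL, nb_twelve h22 hker h9 Q,
        Finset.card_erase_of_mem (mem_line.2 inf_le_right), line_four h22 hker h9 hDt]
    have heq := Finset.eq_of_subset_of_card_le hsubA (by
      rw [hcardA, Finset.card_univ_diff, Finset.card_insert_of_notMem hPn, nb_twelve h22 hker h9 P,
        ← Nat.card_eq_fintype_card, h22])
    rw [← heq, hA] at hX
    exact mem_nb.2 (mem_nb.1 (Finset.mem_sdiff.1 hX).1).symm
  have hclass : ∀ b ∈ (Finset.univ : Finset (Sylow 3 G)).image nb,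
      ((Finset.univ : Finset (Sylow 3 G)).filter fun X => nb X = b).card = 10 := by
    intro b hb
    obtain ⟨P, -, rfl⟩ := Finset.mem_image.1 hb
    have hPn : P ∉ nb P := fun h => (mem_nb.1 h).1 rfl
    have e : (Finset.univ : Finset (Sylow 3 G)).filter (fun X => nb X = nb P) =
        insert P (Finset.univ \ insert P (nb P)) := by
      ext X
      simp only [Finset.mem_filter, Finset.mem_univ, true_and]
      refine ⟨fun h => ?_, fun h => ?_⟩
      · by_cases hXP : X = P
        · exact Finset.mem_insert.2 (Or.inl hXP)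
        refine Finset.mem_insert_of_mem (Finset.mem_sdiff.2 ⟨Finset.mem_univ _, fun h' => ?_⟩)
        rcases Finset.mem_insert.1 h' with rfl | h'
        · exact hXP rfl
        · rw [← h] at h'
          exact (mem_nb.1 h').1 rfl
      · rcases Finset.mem_insert.1 h with rfl | h
        · rfl
        · exact key P X h
    rw [e, Finset.card_insert_of_notMem (by simp), Finset.card_univ_diff,
      Finset.card_insert_of_notMem hPn, nb_twelve h22 hker h9 P, ← Nat.card_eq_fintype_card, h22]
  have h := Finset.card_eq_sum_card_image nb (Finset.univ : Finset (Sylow 3 G))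
  rw [Finset.sum_congr rfl hclass, univ_card h22, Finset.sum_const, smul_eq_mul] at h
  omega

end Configuration

end CfsgLib.PGroup.SylowTwentyTwo
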