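import Cfsg.Agent.Lib.PGroup.SylowThreeTwentyTwo

/-!
# Twenty-two Sylow 3-subgroups of order three

A simple group with 22 Sylow 3-subgroups of order 3 has order `132 k` with `k` dividing 560, and
twelve Sylow 11-subgroups; both possibilities for their normalizers are impossible.
-/

set_option autoImplicit false
set_option linter.style.haveILetI false
set_option linter.unusedSectionVars false

open Subgroup MulAction
open scoped Pointwise

namespace CfsgLib.PGroup.SylowTwentyTwo

variable {G : Type*} [Group G] [Finite G]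

/-- The normalizer of a Sylow subgroup of prime order in a simple group. -/
theorem automizer_data [IsSimpleGroup G] {p : ℕ} [hp : Fact p.Prime] (Z : Sylow p G)
    (hZ : Nat.card (Z : Subgroup G) = p) (hne : (Z : Subgroup G) ≠ ⊤) :
    ∃ f : ℕ, f ∣ p - 1 ∧ f ≠ 1 ∧
      Nat.card (normalizer (Z : Set G)) =
        f * Nat.card (centralizer (Z : Set G)) := by
  set N := normalizer (Z : Set G) with hN
  set C := centralizer (Z : Set G) with hC
  have hCN : C ≤ N := centralizer_le_normalizer _
  refine ⟨C.relIndex N, ?_, ?_, ?_⟩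
  · haveI : IsCyclic (Z : Subgroup G) := isCyclic_of_prime_card hZ
    have h1 : (Nat.card ((Z : Subgroup G).normalizerMonoidHom.range)) ∣
        Nat.card (MulAut (Z : Subgroup G)) := Subgroup.card_subgroup_dvd_card _
    rw [← Subgroup.index_ker, Subgroup.normalizerMonoidHom_ker, IsCyclic.card_mulAut, hZ,
      Nat.totient_prime hp.out] at h1
    exact h1
  · intro h1
    have hle : normalizer (Z : Set G) ≤ centralizer (Z : Set G) := Subgroup.relIndex_eq_one.1 h1
    have hcompl := MonoidHom.ker_transferSylow_isComplement' Z hle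
    rcases (MonoidHom.transferSylow Z hle).normal_ker.eq_bot_or_eq_top with hb | hb
    · rw [hb, Subgroup.isComplement'_bot_left] at hcompl
      exact hne hcompl
    · rw [hb, Subgroup.isComplement'_top_left] at hcompl
      rw [hcompl, Subgroup.card_bot] at hZ
      exact hp.out.ne_one hZ.symm
  · rw [← Nat.card_congr (subgroupOfEquivOfLe hCN).toEquiv, Subgroup.relIndex, mul_comm]
    exact (Subgroup.card_mul_index _).symm

/-- A nonabelian simple group acts by even permutations. -/
theorem sign_eq_one_of_simple [IsSimpleGroup G] (hna : ¬ IsMulCommutative G) {α : Type*}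
    [Fintype α] [DecidableEq α] (ρ : G →* Equiv.Perm α) (g : G) : Equiv.Perm.sign (ρ g) = 1 := by
  rcases (Equiv.Perm.sign.comp ρ).normal_ker.eq_bot_or_eq_top with h | h
  · refine absurd ⟨⟨fun a b => ?_⟩⟩ hna
    refine (MonoidHom.ker_eq_bot_iff _).1 h ?_
    rw [map_mul, map_mul, mul_comm]
  · exact (MonoidHom.mem_ker (f := Equiv.Perm.sign.comp ρ)).1 (by rw [h]; trivial)

/-- Transfer of sign information. -/
theorem toPerm_mul_self {α : Type*} [MulAction G α] {t : G} (ht : t ^ 2 = 1) :
    (MulAction.toPermHom G α t) ^ 2 = 1 := by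
  rw [← map_pow, ht, map_one]

/-- Subgroups of the symmetric group of degree seven without elements of order three. -/
theorem perm_seven {α : Type*} [Fintype α] [DecidableEq α] (hα : Fintype.card α = 7)
    (K : Subgroup (Equiv.Perm α)) (hK : Nat.card K ∣ 560) :
    ¬ 35 ∣ Nat.card K ∧ Nat.card K ≠ 112 := by
  have h5040 : Nat.card (Equiv.Perm α) = 5040 := by
    rw [Nat.card_eq_fintype_card, Fintype.card_perm, hα]; rfl
  haveI : Fact (Nat.Prime 7) := ⟨by norm_num⟩
  haveI : Fact (Nat.Prime 5) := ⟨by norm_num⟩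
  haveI : Fact (Nat.Prime 2) := ⟨Nat.prime_two⟩
  have hcyc : ∀ x : Equiv.Perm α, orderOf x = 7 → x.IsCycle ∧ x.support = Finset.univ := by
    intro x hx
    have h1 := Equiv.Perm.isCycle_of_prime_order'' (σ := x) (by rw [hα]; norm_num) (by rw [hx, hα])
    exact ⟨h1, Finset.eq_univ_of_card _ (by rw [← h1.orderOf, hx, hα])⟩
  refine ⟨fun h35 => ?_, fun h112 => ?_⟩
  · -- an element of order five would centralize a seven-cycle
    let Z : Sylow 7 K := default
    obtain ⟨m, hm⟩ := h35
    obtain ⟨d, hd⟩ := hK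
    have hmd : m * d = 16 := Nat.eq_of_mul_eq_mul_left (show 0 < 35 by norm_num)
      (by rw [← mul_assoc, ← hm, ← hd])
    have hm16 : m ≤ 16 := Nat.le_of_dvd (by norm_num) ⟨d, hmd.symm⟩
    have hZ : Nat.card (Z : Subgroup K) = 7 := by
      rw [Z.card_eq_multiplicity, hm]
      have h7 : ¬ 7 ∣ m := fun h => by
        have : 7 ∣ 16 := h.trans ⟨d, hmd.symm⟩
        norm_num at this
      rw [Nat.factorization_mul (by norm_num) (by rintro rfl; simp at hmd), Finsupp.add_apply,
        Nat.factorization_eq_zero_of_not_dvd h7, add_zero,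
        show (35 : ℕ) = 7 * 5 from rfl, Nat.factorization_mul (by norm_num) (by norm_num),
        Finsupp.add_apply, Nat.Prime.factorization_self (by norm_num),
        Nat.factorization_eq_zero_of_not_dvd (show ¬ 7 ∣ 5 by norm_num)]
      norm_num
    have hn : Nat.card (Sylow 7 K) ∣ 5 * m := by
      refine Nat.dvd_of_mul_dvd_mul_left (show 0 < 7 by norm_num) ?_
      rw [← mul_assoc, show 7 * 5 = 35 from rfl, ← hm, ← (Z : Subgroup K).card_mul_index, hZ]
      exact Nat.mul_dvd_mul_left _ Z.card_dvd_index
    have hnle : Nat.card (Sylow 7 K) ≤ 80 :=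
      (Nat.le_of_dvd (by
        rcases Nat.eq_zero_or_pos m with rfl | h
        · simp at hmd
        · omega) hn).trans (by omega)
    have h5n : ¬ 5 ∣ Nat.card (Sylow 7 K) := by
      intro h5
      have hmod : Nat.card (Sylow 7 K) % 7 = 1 := card_sylow_modEq_one 7 K
      have h80 : Nat.card (Sylow 7 K) ∣ 80 :=
        hn.trans ⟨d, by rw [mul_assoc, hmd]; rfl⟩
      generalize Nat.card (Sylow 7 K) = n at hmod h80 h5 hnle
      revert hmod h80 h5
      interval_cases n <;> decide
    have h5N : 5 ∣ Nat.card (normalizer (Z : Set K)) := by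
      have h1 := (normalizer (Z : Set K)).card_mul_index
      rw [← Z.card_eq_index_normalizer, hm] at h1
      refine (((Nat.Prime.coprime_iff_not_dvd (by norm_num)).2 h5n).dvd_of_dvd_mul_right ?_)
      rw [h1]
      exact dvd_mul_of_dvd_left (by norm_num) _
    obtain ⟨y, hy⟩ := exists_prime_orderOf_dvd_card' 5 h5N
    obtain ⟨x, hx⟩ := exists_prime_orderOf_dvd_card' (G := (Z : Subgroup K)) 7 (by rw [hZ])
    haveI : IsCyclic (Z : Subgroup K) := isCyclic_of_prime_card hZ
    have hker : y ∈ (Z : Subgroup K).normalizerMonoidHom.ker := by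
      rw [MonoidHom.mem_ker, ← orderOf_eq_one_iff]
      refine Nat.eq_one_of_dvd_coprimes (a := 5) (b := 6) (by norm_num)
        (hy ▸ orderOf_map_dvd _ y) ?_
      have := orderOf_dvd_natCard ((Z : Subgroup K).normalizerMonoidHom y)
      rwa [IsCyclic.card_mulAut, hZ, Nat.totient_prime (by norm_num)] at this
    rw [Subgroup.normalizerMonoidHom_ker, Subgroup.mem_subgroupOf, Subgroup.mem_centralizer_iff]
      at hker
    have hcomm : Commute (((x : K) : Equiv.Perm α)) ((y : K) : Equiv.Perm α) :=
      congrArg Subtype.val (hker _ x.2)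
    have hxo : orderOf ((x : K) : Equiv.Perm α) = 7 := by
      rw [Subgroup.orderOf_coe, Subgroup.orderOf_coe, hx]
    have hyo : orderOf ((y : K) : Equiv.Perm α) = 5 := by
      rw [Subgroup.orderOf_coe, Subgroup.orderOf_coe, hy]
    obtain ⟨hc, hs⟩ := hcyc _ hxo
    have h1 : ((y : K) : Equiv.Perm α) = 1 := Equiv.ext fun a => by
      obtain ⟨i, hi⟩ := hc.exists_pow_eq
        (Equiv.Perm.mem_support.1 (hs ▸ Finset.mem_univ a))
        (Equiv.Perm.mem_support.1 (hs ▸ Finset.mem_univ (((y : K) : Equiv.Perm α) a)))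
      exact fix_of_commute (α := α) hcomm (hxo ▸ pow_orderOf_eq_one _)
        (hyo ▸ pow_orderOf_eq_one _) (by norm_num) (a := a) (i := i) hi.symm
    rw [h1, orderOf_one] at hyo
    omega
  · -- a Sylow two-subgroup contains a transposition, which with a seven-cycle generates everything
    obtain ⟨x, hx⟩ := exists_prime_orderOf_dvd_card' (G := K) 7 (by rw [h112]; norm_num)
    let S : Sylow 2 K := default
    have h16 : Nat.card (S : Subgroup K) = 16 := by
      rw [S.card_eq_multiplicity, h112, show (112 : ℕ) = 2 ^ 4 * 7 from rfl,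
        Nat.factorization_mul (by norm_num) (by norm_num), Finsupp.add_apply,
        Nat.factorization_pow, Finsupp.smul_apply, Nat.Prime.factorization_self Nat.prime_two,
        Nat.factorization_eq_zero_of_not_dvd (show ¬ 2 ∣ 7 by norm_num)]
      norm_num
    obtain ⟨T, hT⟩ := (S.2.map K.subtype).exists_le_sylow
    have hTc : Nat.card (T : Subgroup (Equiv.Perm α)) = 16 := by
      rw [T.card_eq_multiplicity, h5040, show (5040 : ℕ) = 2 ^ 4 * 315 from rfl,
        Nat.factorization_mul (by norm_num) (by norm_num), Finsupp.add_apply,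
        Nat.factorization_pow, Finsupp.smul_apply, Nat.Prime.factorization_self Nat.prime_two,
        Nat.factorization_eq_zero_of_not_dvd (show ¬ 2 ∣ 315 by norm_num)]
      norm_num
    have hTK : (T : Subgroup (Equiv.Perm α)) ≤ K := by
      rw [← Subgroup.eq_of_le_of_card_ge hT (by
        rw [Subgroup.card_map_of_injective K.subtype_injective, h16, hTc])]
      exact map_subtype_le _
    obtain ⟨a, b, hab⟩ := Fintype.exists_pair_of_one_lt_card (α := α) (by rw [hα]; norm_num)
    have h2 : IsPGroup 2 (zpowers (Equiv.swap a b)) := IsPGroup.of_card (n := 1) (by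
      rw [Nat.card_zpowers, pow_one]
      exact orderOf_eq_prime (by rw [pow_two, Equiv.swap_mul_self])
        fun e => hab (by simpa using (Equiv.congr_fun e a).symm))
    obtain ⟨U, hU⟩ := h2.exists_le_sylow
    obtain ⟨g, hg⟩ := MulAction.exists_smul_eq (Equiv.Perm α) T U
    have hmem : g⁻¹ * Equiv.swap a b * g ∈ K := hTK (by
      have h := hU (mem_zpowers (Equiv.swap a b))
      rw [← hg, coe_smul'] at h
      obtain ⟨s, hs, e⟩ := h
      rw [← e, MulEquiv.coe_toMonoidHom, MulAut.conj_apply]
      simpa [mul_assoc] using SetLike.mem_coe.1 hs)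
    have hsw : (g⁻¹ * Equiv.swap a b * g).IsSwap := by
      refine ⟨g⁻¹ a, g⁻¹ b, fun e => hab (g⁻¹.injective e), ?_⟩
      rw [Equiv.swap_apply_apply, inv_inv]
    have hxo : orderOf (x : Equiv.Perm α) = 7 := by rw [Subgroup.orderOf_coe, hx]
    obtain ⟨hc, hs⟩ := hcyc _ hxo
    have htop := Equiv.Perm.closure_prime_cycle_swap (by rw [hα]; norm_num) hc hs hsw
    have hle : Subgroup.closure ({(x : Equiv.Perm α), g⁻¹ * Equiv.swap a b * g} : Set _) ≤ K := by
      refine (Subgroup.closure_le K).2 ?_
      rintro _ (rfl | rfl)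
      · exact x.2
      · exact hmem
    rw [htop, top_le_iff] at hle
    rw [hle, Subgroup.card_top, h5040] at h112
    omega

/-- No simple group has 22 Sylow 3-subgroups of order 3. -/
theorem false_of_three [IsSimpleGroup G] (hna : ¬ IsMulCommutative G)
    (h22 : Nat.card (Sylow 3 G) = 22) (h3 : ∀ P : Sylow 3 G, Nat.card (P : Subgroup G) = 3) :
    False := by
  classical
  letI := Fintype.ofFinite (Sylow 3 G)
  haveI : Fact (Nat.Prime 11) := ⟨by norm_num⟩
  haveI : Fact (Nat.Prime 5) := ⟨by norm_num⟩
  haveI : Fact (Nat.Prime 2) := ⟨Nat.prime_two⟩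
  let P : Sylow 3 G := default
  have hNtop : ∀ {p : ℕ} [Fact p.Prime] (S : Sylow p G), 1 < Nat.card (Sylow p G) →
      normalizer (S : Set G) ≠ ⊤ := fun {p} _ S h e => by
    rw [S.card_eq_index_normalizer, e, Subgroup.index_top] at h
    omega
  have hPtop : (P : Subgroup G) ≠ ⊤ := fun e =>
    hNtop P (by omega) (eq_top_iff.2 (e.ge.trans le_normalizer))
  -- the centralizer of `P`
  obtain ⟨e, he, he1, hN⟩ := automizer_data P (h3 P) hPtop
  have he2 : e = 2 := by
    have h2 : e ∣ 2 := he
    have := Nat.le_of_dvd two_pos h2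
    interval_cases e <;> simp_all
  subst he2
  set C := centralizer (P : Set G) with hC
  haveI hPc : IsMulCommutative (P : Subgroup G) :=
    haveI : IsCyclic (P : Subgroup G) := isCyclic_of_prime_card (h3 P)
    IsCyclic.isMulCommutative
  have hPC : (P : Subgroup G) ≤ C := le_centralizer_iff_isMulCommutative.2 hPc
  haveI : ((P : Subgroup G).subgroupOf C).Normal :=
    (normal_subgroupOf_iff_le_normalizer hPC).2 (centralizer_le_normalizer _)
  have hPCc : Nat.card ((P : Subgroup G).subgroupOf C) = 3 := by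
    rw [Nat.card_congr (subgroupOfEquivOfLe hPC).toEquiv, h3 P]
  have h3i : ¬ 3 ∣ ((P : Subgroup G).subgroupOf C).index := fun h =>
    P.not_dvd_index (h.trans ((relIndex_dvd_index_of_le hPC : _ ∣ (P : Subgroup G).index)))
  obtain ⟨K, hK⟩ := Subgroup.exists_right_complement'_of_coprime
    (N := (P : Subgroup G).subgroupOf C) (by
      rw [hPCc]; exact (Nat.Prime.coprime_iff_not_dvd Nat.prime_three).2 h3i)
  have hKc : Nat.card C = 3 * Nat.card K := by rw [← hK.card_mul, hPCc]
  have hK3 : ¬ 3 ∣ Nat.card K := by rwa [← hK.symm.index_eq_card]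
  have hG : Nat.card G = 132 * Nat.card K := by
    rw [← (normalizer (P : Set G)).card_mul_index, ← P.card_eq_index_normalizer,
      h22, hN, hKc]
    ring
  -- `K` permutes the seven orbits of `P` faithfully
  have hcommK : ∀ (x : K) (y : (P : Subgroup G)), Commute (y : G) ((x : C) : G) := fun x y =>
    Subgroup.mem_centralizer_iff.1 (x : C).2 y y.2
  let O := {s : Set (Sylow 3 G) // ∃ Q, Q ≠ P ∧ s = orbit (P : Subgroup G) Q}
  have hfix : ∀ y : (P : Subgroup G), y • P = P := fun y => (smul_eq_self_iff P P y).2 y.2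
  have horb : ∀ Q : Sylow 3 G, Q ≠ P → Nat.card (orbit (P : Subgroup G) Q) = 3 := by
    intro Q hQ
    have h1 := card_orbit_mul P Q
    rw [h3 P] at h1
    have h2 := three_mul_inf_dvd (P := P) (Q := Q) hQ.symm
    rw [h3 P] at h2
    have h4 := Nat.card_pos (α := ↥((P : Subgroup G) ⊓ Q))
    have h5 : Nat.card ↥((P : Subgroup G) ⊓ Q) = 1 := by
      have := Nat.le_of_dvd (by norm_num) h2
      omega
    rwa [h5, mul_one] at h1
  letI : Fintype O := Fintype.ofFinite O
  have hO7 : Fintype.card O = 7 := by
    let T : Finset (Sylow 3 G) := Finset.univ.erase P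
    have hT : T.card = 21 := by
      rw [Finset.card_erase_of_mem (Finset.mem_univ P), Finset.card_univ,
        ← Nat.card_eq_fintype_card, h22]
    have h := Finset.card_eq_sum_card_fiberwise (s := T)
      (t := (Finset.univ : Finset O).map ⟨Subtype.val, Subtype.val_injective⟩)
      (f := fun Q => orbit (P : Subgroup G) Q) fun Q hQ => by
        simp only [Finset.coe_map, Function.Embedding.coeFn_mk, Finset.coe_univ, Set.image_univ,
          Subtype.range_coe_subtype, Set.mem_setOf_eq]
        exact ⟨Q, (Finset.mem_erase.1 hQ).1, rfl⟩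
    rw [hT, Finset.sum_map] at h
    rw [Finset.sum_congr rfl (fun (o : O) _ => ?_), Finset.sum_const, Finset.card_univ,
      smul_eq_mul] at h
    · have h' : Fintype.card O * 3 = 21 := h.symm
      omega
    · show _ = 3
      obtain ⟨s, Q, hQ, rfl⟩ := o
      refine Eq.trans ?_ (horb Q hQ)
      rw [Nat.card_eq_fintype_card, ← Set.toFinset_card]
      congr 1
      ext R
      simp only [Function.Embedding.coeFn_mk, Finset.mem_filter, T, Finset.mem_erase,
        Finset.mem_univ, and_true, Set.mem_toFinset]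
      refine ⟨fun h => h.2 ▸ mem_orbit_self R, fun h => ⟨?_, orbit_eq_iff.2 h⟩⟩
      rintro rfl
      obtain ⟨y, hy⟩ := h
      exact hQ (smul_left_cancel y (hy.trans (hfix y).symm))
  have hKfix : ∀ x : K, ((x : C) : G) • P = P := fun x => by
    rw [Sylow.smul_eq_iff_mem_normalizer]
    exact centralizer_le_normalizer _ (x : C).2
  let σ : K → O → O := fun x o => ⟨(fun R => ((x : C) : G) • R) '' o.1, by
    obtain ⟨s, Q, hQ, rfl⟩ := o
    refine ⟨((x : C) : G) • Q, fun e => hQ (smul_left_cancel _ (e.trans (hKfix x).symm)), ?_⟩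
    ext R
    constructor
    · rintro ⟨_, ⟨y, rfl⟩, rfl⟩
      refine ⟨y, ?_⟩
      show (y : G) • ((x : C) : G) • Q = ((x : C) : G) • (y : G) • Q
      rw [← mul_smul, ← mul_smul, (hcommK x y).eq]
    · rintro ⟨y, rfl⟩
      refine ⟨y • Q, ⟨y, rfl⟩, ?_⟩
      show ((x : C) : G) • (y : G) • Q = (y : G) • ((x : C) : G) • Q
      rw [← mul_smul, ← mul_smul, (hcommK x y).eq]⟩
  have hσmul : ∀ x x' : K, ∀ o, σ (x * x') o = σ x (σ x' o) := fun x x' o =>
    Subtype.ext (by simp only [σ, Set.image_image, ← mul_smul]; rfl)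
  have hσone : ∀ o, σ 1 o = o := fun o => Subtype.ext (by simp [σ])
  let π : K →* Equiv.Perm O :=
    { toFun := fun x => ⟨σ x, σ x⁻¹, fun o => by rw [← hσmul, inv_mul_cancel, hσone],
        fun o => by rw [← hσmul, mul_inv_cancel, hσone]⟩
      map_one' := Equiv.ext hσone
      map_mul' := fun x x' => Equiv.ext (hσmul x x') }
  have hρinj : Function.Injective (MulAction.toPermHom G (Sylow 3 G)) := by
    rw [← MonoidHom.ker_eq_bot_iff]
    refine (MulAction.toPermHom G (Sylow 3 G)).normal_ker.eq_bot_or_eq_top.resolve_right fun h => ?_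
    refine hNtop P (by omega) (eq_top_iff.2 fun g _ => ?_)
    rw [← Sylow.stabilizer_eq_normalizer, mem_stabilizer_iff]
    exact Equiv.congr_fun ((MonoidHom.mem_ker (f := MulAction.toPermHom G (Sylow 3 G))).1
      (by rw [h]; trivial) : MulAction.toPermHom G (Sylow 3 G) g = 1) P
  have hπ : Function.Injective π := by
    rw [injective_iff_map_eq_one]
    intro x hx
    have hx3 : MulAction.toPermHom G (Sylow 3 G) (((x : C) : G) ^ 3) = 1 := Equiv.ext fun Q => by
      show (((x : C) : G) ^ 3) • Q = Q
      rcases eq_or_ne Q P with rfl | hQ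
      · exact hKfix (x ^ 3)
      · have h1 := congrArg Subtype.val (Equiv.congr_fun hx ⟨_, Q, hQ, rfl⟩)
        have h2 : ((x : C) : G) • Q ∈ orbit (P : Subgroup G) Q := by
          have h5 : ((x : C) : G) • Q ∈ (fun R => ((x : C) : G) • R) '' orbit (P : Subgroup G) Q :=
            ⟨Q, mem_orbit_self Q, rfl⟩
          rw [show (fun R => ((x : C) : G) • R) '' orbit (P : Subgroup G) Q =
            orbit (P : Subgroup G) Q from h1] at h5
          exact h5
        obtain ⟨y, hy⟩ := h2
        have hiter : ∀ m : ℕ, (((x : C) : G) ^ m) • Q = ((y : G) ^ m) • Q := fun m => by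
          induction m with
          | zero => simp
          | succ m ih =>
            rw [pow_succ', mul_smul, ih, ← mul_smul, ← ((hcommK x y).pow_left m).eq, mul_smul,
              ← hy, pow_succ, mul_smul]
            rfl
        rw [hiter 3]
        have : y ^ 3 = 1 := (congrArg (fun m => y ^ m) (h3 P)).symm.trans pow_card_eq_one'
        rw [show ((y : G) ^ 3) = ((y ^ 3 : (P : Subgroup G)) : G) from rfl, this,
          Subgroup.coe_one, one_smul]
    have h4 : x ^ 3 = 1 := Subtype.ext (Subtype.ext (hρinj (hx3.trans (map_one _).symm)))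
    rw [← orderOf_eq_one_iff]
    exact Nat.eq_one_of_dvd_coprimes ((Nat.Prime.coprime_iff_not_dvd Nat.prime_three).2 hK3)
      (orderOf_dvd_of_pow_eq_one h4) (orderOf_dvd_natCard x)
  have hKπ : Nat.card π.range = Nat.card K :=
    (Nat.card_congr (MonoidHom.ofInjective hπ).toEquiv).symm
  have hK560 : Nat.card K ∣ 560 := by
    have h1 : Nat.card π.range ∣ Nat.card (Equiv.Perm O) := Subgroup.card_subgroup_dvd_card _
    rw [hKπ, Nat.card_eq_fintype_card (α := Equiv.Perm O), Fintype.card_perm, hO7,
      show Nat.factorial 7 = 560 * 9 from rfl] at h1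
    exact (Nat.Coprime.pow_right 2 ((Nat.Prime.coprime_iff_not_dvd Nat.prime_three).2 hK3).symm :
      (Nat.card K).Coprime (3 ^ 2)).dvd_of_dvd_mul_right h1
  obtain ⟨hno35, hno112⟩ := perm_seven hO7 π.range (hKπ ▸ hK560)
  rw [hKπ] at hno35 hno112
  -- a Sylow eleven-subgroup
  let Z : Sylow 11 G := default
  have h11K : ¬ 11 ∣ Nat.card K := fun h => by
    have : 11 ∣ 560 := h.trans hK560
    norm_num at this
  have hZ : Nat.card (Z : Subgroup G) = 11 := by
    have h0 : Nat.card K ≠ 0 := Nat.card_pos.ne'
    rw [Z.card_eq_multiplicity, hG, show 132 = 11 * 12 from rfl, mul_assoc,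
      Nat.factorization_mul (by norm_num) (by positivity), Finsupp.add_apply,
      Nat.Prime.factorization_self (by norm_num), Nat.factorization_eq_zero_of_not_dvd, add_zero,
      pow_one]
    exact fun h => ((Nat.Prime.dvd_mul (by norm_num)).1 h).elim (by norm_num) h11K
  haveI hZc : IsCyclic (Z : Subgroup G) := isCyclic_of_prime_card hZ
  obtain ⟨z, hz⟩ := exists_prime_orderOf_dvd_card' (G := (Z : Subgroup G)) 11 (by rw [hZ])
  have hzo : orderOf (z : G) = 11 := by rw [Subgroup.orderOf_coe, hz]
  have hz11 : (z : G) ^ 11 = 1 := orderOf_dvd_iff_pow_eq_one.1 hzo.dvd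
  have hzZ : zpowers (z : G) = Z := Subgroup.eq_of_le_of_card_ge (zpowers_le.2 z.2)
    (by rw [Nat.card_zpowers, hzo, hZ])
  have hzfree : ∀ Q : Sylow 3 G, (z : G) • Q ≠ Q := fun Q h => by
    have h1 : orderOf (z : G) ∣ Nat.card (normalizer (Q : Set G)) := by
      have h0 : (z : G) ∈ normalizer (Q : Set G) :=
        Sylow.smul_eq_iff_mem_normalizer.1 h
      have := orderOf_dvd_natCard (⟨_, h0⟩ : normalizer (Q : Set G))
      rwa [← Subgroup.orderOf_coe] at this
    have h2 : 6 * Nat.card K = Nat.card (normalizer (Q : Set G)) := by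
      have h4 := (normalizer (Q : Set G)).card_mul_index
      rw [← Q.card_eq_index_normalizer, h22, hG] at h4
      omega
    rw [hzo, ← h2] at h1
    rcases (Nat.Prime.dvd_mul (by norm_num)).1 h1 with h4 | h4
    · norm_num at h4
    · exact h11K h4
  let W := zpowers (z : G)
  have hWorb : ∀ Q : Sylow 3 G, Nat.card (orbit W Q) = 11 := fun Q => by
    have hd : Nat.card (orbit W Q) ∣ 11 := by
      rw [Nat.card_congr (orbitEquivQuotientStabilizer W Q), ← Subgroup.index]
      exact (Subgroup.index_dvd_card _).trans (dvd_of_eq ((Nat.card_zpowers _).trans hzo))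
    refine ((Nat.dvd_prime (by norm_num)).1 hd).resolve_left fun h1 => hzfree Q ?_
    haveI : Subsingleton (orbit W Q) := (Nat.card_eq_one_iff_unique.1 h1).1
    exact congrArg Subtype.val (Subsingleton.elim
      (⟨_, mem_orbit Q (⟨_, mem_zpowers _⟩ : W)⟩ : orbit W Q) ⟨_, mem_orbit_self Q⟩)
  have hCz : Nat.card (centralizer (Z : Set G)) = 11 := by
    have hd : 11 ∣ Nat.card (centralizer (Z : Set G)) :=
      (dvd_of_eq hZ.symm).trans
        (Subgroup.card_dvd_of_le (le_centralizer_iff_isMulCommutative.2 IsCyclic.isMulCommutative))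
    obtain ⟨m, hm⟩ := hd
    by_contra hne
    have hm1 : m ≠ 1 := fun e => hne (by rw [hm, e, mul_one])
    obtain ⟨q, hq, hqm⟩ := Nat.exists_prime_and_dvd hm1
    have hq11 : q ≠ 11 := by
      rintro rfl
      have h121 : 11 * 11 ∣ Nat.card G :=
        (hm ▸ Nat.mul_dvd_mul_left 11 hqm).trans (Subgroup.card_subgroup_dvd_card _)
      have h12 : 11 ∣ 12 * Nat.card K := Nat.dvd_of_mul_dvd_mul_left (show 0 < 11 by norm_num)
        (h121.trans (hG ▸ ⟨1, by ring⟩))
      exact ((Nat.Prime.dvd_mul (by norm_num)).1 h12).elim (by norm_num) h11K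
    haveI := Fact.mk hq
    obtain ⟨x, hx⟩ := exists_prime_orderOf_dvd_card'
      (G := centralizer (Z : Set G)) q (hm ▸ dvd_mul_of_dvd_right hqm _)
    have hxo : orderOf (x : G) = q := by rw [Subgroup.orderOf_coe, hx]
    have hxz : Commute (z : G) (x : G) := Subgroup.mem_centralizer_iff.1 x.2 _ z.2
    have hcop : Nat.Coprime 11 q := (Nat.coprime_primes (by norm_num) hq).2 hq11.symm
    have hxq : (x : G) ^ q = 1 := hxo ▸ pow_orderOf_eq_one _
    have hfixone : ∀ Q : Sylow 3 G, (x : G) • Q ∈ orbit W Q → (x : G) • Q = Q := by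
      rintro Q ⟨⟨w, hw⟩, hwQ⟩
      obtain ⟨i, hi⟩ := (isOfFinOrder_of_finite (z : G)).mem_powers_iff_mem_zpowers.2 hw
      exact fix_of_commute hxz hz11 hxq hcop (i := i) (by
        rw [← hwQ]
        show w • Q = _
        rw [← hi])
    by_cases hall : ∃ Q : Sylow 3 G, (x : G) • Q ∈ orbit W Q
    · -- then `x` fixes everything
      obtain ⟨Q, hQ⟩ := hall
      have hQf := hfixone Q hQ
      have hA : ∀ R ∈ orbit W Q, (x : G) • R = R := by
        rintro _ ⟨⟨w, hw⟩, rfl⟩
        obtain ⟨i, hi⟩ := hw
        show (x : G) • w • Q = w • Q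
        rw [← mul_smul, ← hi, ← ((hxz.zpow_left i).eq), mul_smul, hQf]
      have hall' : ∀ R : Sylow 3 G, (x : G) • R = R := by
        intro R
        by_cases hR : R ∈ orbit W Q
        · exact hA R hR
        refine hfixone R ?_
        by_contra hxR
        have hxQ : (x : G) • R ∉ orbit W Q := fun h => hR (by
          rw [← smul_left_cancel _ (hA _ h)]; exact h)
        -- three disjoint orbits of eleven points
        have hsub : ((orbit W Q).toFinset ∪ (orbit W R).toFinset ∪
            (orbit W ((x : G) • R)).toFinset).card ≤ 22 := by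
          rw [← h22, Nat.card_eq_fintype_card]; exact Finset.card_le_univ _
        have hc : ∀ S : Sylow 3 G, (orbit W S).toFinset.card = 11 := fun S => by
          rw [Set.toFinset_card, ← Nat.card_eq_fintype_card, hWorb]
        have hdis : ∀ S T : Sylow 3 G, T ∉ orbit W S →
            Disjoint (orbit W S).toFinset (orbit W T).toFinset := fun S T hT => by
          rw [Set.disjoint_toFinset, Set.disjoint_left]
          intro U hU hU'
          exact hT ((orbit_eq_iff.2 hU) ▸ (orbit_eq_iff.2 hU').symm ▸ mem_orbit_self T)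
        rw [Finset.card_union_of_disjoint (Finset.disjoint_union_left.2 ⟨hdis Q _ hxQ, hdis R _ hxR⟩),
          Finset.card_union_of_disjoint (hdis Q R hR), hc, hc, hc] at hsub
        omega
      have : (x : G) = 1 := hρinj ((Equiv.ext hall').trans (map_one _).symm)
      rw [this, orderOf_one] at hxo
      exact hq.ne_one hxo.symm
    · -- then `x` is an involution without fixed points
      push Not at hall
      have hx2Q : ∀ Q : Sylow 3 G, (x : G) • (x : G) • Q ∈ orbit W Q := by
        intro Q
        by_contra hxx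
        have hc : ∀ S : Sylow 3 G, (orbit W S).toFinset.card = 11 := fun S => by
          rw [Set.toFinset_card, ← Nat.card_eq_fintype_card, hWorb]
        have hdis : ∀ S T : Sylow 3 G, T ∉ orbit W S →
            Disjoint (orbit W S).toFinset (orbit W T).toFinset := fun S T hT => by
          rw [Set.disjoint_toFinset, Set.disjoint_left]
          intro U hU hU'
          exact hT ((orbit_eq_iff.2 hU) ▸ (orbit_eq_iff.2 hU').symm ▸ mem_orbit_self T)
        have hsub : ((orbit W Q).toFinset ∪ (orbit W ((x : G) • Q)).toFinset ∪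
            (orbit W ((x : G) • (x : G) • Q)).toFinset).card ≤ 22 := by
          rw [← h22, Nat.card_eq_fintype_card]; exact Finset.card_le_univ _
        rw [Finset.card_union_of_disjoint (Finset.disjoint_union_left.2
          ⟨hdis Q _ hxx, hdis _ _ (hall _)⟩),
          Finset.card_union_of_disjoint (hdis Q _ (hall Q)), hc, hc, hc] at hsub
        omega
      have hq2 : q = 2 := by
        rcases hq.eq_two_or_odd' with h | hodd
        · exact h
        exfalso
        have hiter : ∀ (m : ℕ) (Q : Sylow 3 G), ((x : G) ^ (2 * m)) • Q ∈ orbit W Q := by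
          intro m
          induction m with
          | zero => intro Q; simp [mem_orbit_self]
          | succ m ih =>
            intro Q
            rw [show 2 * (m + 1) = 2 + 2 * m by ring, pow_add, mul_smul, pow_two, mul_smul]
            have h1 := hx2Q (((x : G) ^ (2 * m)) • Q)
            exact orbit_eq_iff.1 ((orbit_eq_iff.2 h1).trans (orbit_eq_iff.2 (ih Q)))
        obtain ⟨m, rfl⟩ := hodd
        have h1 := hiter m ((x : G) • P)
        rw [← mul_smul, ← pow_succ, hxq, one_smul] at h1
        exact hall P (orbit_eq_iff.1 (orbit_eq_iff.2 h1).symm)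
      subst hq2
      have hsupp : (MulAction.toPermHom G (Sylow 3 G) (x : G)).support = Finset.univ :=
        Finset.eq_univ_of_forall fun Q => Equiv.Perm.mem_support.2 fun h =>
          hall Q ((show (x : G) • Q = Q from h).symm ▸ mem_orbit_self Q)
      have hs := sign_of_sq_eq_one _ (toPerm_mul_self (α := Sylow 3 G) hxq)
      rw [sign_eq_one_of_simple hna, hsupp, Finset.card_univ, ← Nat.card_eq_fintype_card, h22]
        at hs
      exact absurd hs (by decide)
  have hZtop : (Z : Subgroup G) ≠ ⊤ := fun h => by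
    have h1 := hG
    rw [← Subgroup.card_top (G := G), ← h, hZ] at h1
    omega
  obtain ⟨f, hf, hf1, hNZ⟩ := automizer_data Z hZ hZtop
  have hn11 : Nat.card (Sylow 11 G) * f = 12 * Nat.card K := by
    have h1 := (normalizer (Z : Set G)).card_mul_index
    rw [← Z.card_eq_index_normalizer, hNZ, hCz, hG] at h1
    refine Nat.eq_of_mul_eq_mul_left (show 0 < 11 by norm_num) ?_
    linear_combination h1
  have hmod : Nat.card (Sylow 11 G) % 11 = 1 := card_sylow_modEq_one 11 G
  have hf10 : f = 2 ∨ f = 5 ∨ f = 10 := by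
    have h10 : f ∣ 10 := hf
    have := Nat.le_of_dvd (by norm_num) h10
    interval_cases f <;> simp_all
  obtain ⟨h12, hk5⟩ : Nat.card (Sylow 11 G) = 12 ∧ (f = 5 → Nat.card K = 5) := by
    have hdec : ∀ k ∈ Nat.divisors 560, ∀ f ∈ [2, 5, 10], 12 * k % f = 0 →
        12 * k / f % 11 = 1 → 35 ∣ k ∨ k = 112 ∨ (12 * k / f = 12 ∧ (f = 5 → k = 5)) := by
      decide +kernel
    have hfmem : f ∈ [2, 5, 10] := by rcases hf10 with rfl | rfl | rfl <;> simp
    have hf0 : 0 < f := by rcases hf10 with rfl | rfl | rfl <;> norm_num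
    have hdiv : 12 * Nat.card K / f = Nat.card (Sylow 11 G) := by
      rw [← hn11, Nat.mul_div_cancel _ hf0]
    rcases hdec _ (Nat.mem_divisors.2 ⟨hK560, by norm_num⟩) f hfmem
      (by rw [← hn11, Nat.mul_mod_left]) (by rw [hdiv, hmod]) with h | h | h
    · exact absurd h hno35
    · exact absurd h hno112
    · exact ⟨hdiv ▸ h.1, h.2⟩
  -- the twelve points
  letI := Fintype.ofFinite (Sylow 11 G)
  have hinj : Function.Injective (MulAction.toPermHom G (Sylow 11 G)) := by
    rw [← MonoidHom.ker_eq_bot_iff]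
    refine (MulAction.toPermHom G (Sylow 11 G)).normal_ker.eq_bot_or_eq_top.resolve_right fun h => ?_
    refine hNtop Z (by omega) (eq_top_iff.2 fun g _ => ?_)
    rw [← Sylow.stabilizer_eq_normalizer, mem_stabilizer_iff]
    exact Equiv.congr_fun ((MonoidHom.mem_ker (f := MulAction.toPermHom G (Sylow 11 G))).1
      (by rw [h]; trivial) : MulAction.toPermHom G (Sylow 11 G) g = 1) Z
  have hcardN : ∀ S : Sylow 11 G,
      Nat.card (normalizer (S : Set G)) = 11 * f := fun S => by
    have h1 := (normalizer (S : Set G)).card_mul_index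
    have h2 := (normalizer (Z : Set G)).card_mul_index
    rw [← S.card_eq_index_normalizer, h12] at h1
    rw [← Z.card_eq_index_normalizer, h12, hNZ, hCz] at h2
    omega
  by_cases hodd : f = 5
  · -- an element of order five commuting with one of order three
    have hk := hk5 hodd
    obtain ⟨y, hy⟩ := exists_prime_orderOf_dvd_card' (G := K) 5 (by rw [hk])
    obtain ⟨x, hx⟩ := exists_prime_orderOf_dvd_card' (G := (P : Subgroup G)) 3 (by rw [h3 P])
    have hyo : orderOf ((y : C) : G) = 5 := by rw [Subgroup.orderOf_coe, Subgroup.orderOf_coe, hy]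
    have hxo : orderOf (x : G) = 3 := by rw [Subgroup.orderOf_coe, hx]
    have hxfree : ∀ S : Sylow 11 G, (x : G) • S ≠ S := fun S h => by
      have h0 : (x : G) ∈ normalizer (S : Set G) :=
        Sylow.smul_eq_iff_mem_normalizer.1 h
      have h1 := orderOf_dvd_natCard (⟨_, h0⟩ : normalizer (S : Set G))
      rw [← Subgroup.orderOf_coe, show ((⟨_, h0⟩ : normalizer (S : Set G)) : G) = x
        from rfl, hxo, hcardN S, hodd] at h1
      norm_num at h1
    set y' : G := ((y : C) : G) with hy'
    set F : Finset (Sylow 11 G) := Finset.univ.filter fun S => y' • S = S with hF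
    have hpy : IsPGroup 5 (zpowers y') :=
      IsPGroup.of_card (n := 1) (by rw [Nat.card_zpowers, hyo, pow_one])
    have hF5 : F.card % 5 = 2 := by
      have h1 := hpy.card_modEq_card_fixedPoints (Sylow 11 G)
      rw [h12] at h1
      have h2 : Nat.card (fixedPoints (zpowers y') (Sylow 11 G)) = F.card := by
        rw [← Nat.card_eq_finsetCard]
        refine Nat.card_congr (Equiv.subtypeEquivRight fun S => ?_)
        simp only [hF, Finset.mem_filter, Finset.mem_univ, true_and, mem_fixedPoints]
        refine ⟨fun h => h ⟨y', mem_zpowers _⟩, fun h w => ?_⟩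
        obtain ⟨w, j, rfl⟩ := w
        show y' ^ j • S = S
        exact (mem_stabilizer_iff).1 (zpowers_le.2 (mem_stabilizer_iff.2 h : y' ∈ stabilizer G S)
          ⟨_, rfl⟩)
      rw [h2] at h1
      exact h1.symm
    have hF3 : 3 ∣ F.card := by
      refine dvd_card_of_invariant (H := zpowers (x : G)) 3 F (fun w S hS => ?_) fun S _ => ?_
      · obtain ⟨w, i, rfl⟩ := w
        simp only [hF, Finset.mem_filter, Finset.mem_univ, true_and] at hS ⊢
        show y' • (x : G) ^ i • S = (x : G) ^ i • S
        rw [← mul_smul, ← ((hcommK y x).zpow_left i).eq, mul_smul, hS]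
      · have hd : Nat.card (orbit (zpowers (x : G)) S) ∣ 3 := by
          rw [Nat.card_congr (orbitEquivQuotientStabilizer (zpowers (x : G)) S), ← Subgroup.index]
          exact (Subgroup.index_dvd_card _).trans (dvd_of_eq ((Nat.card_zpowers _).trans hxo))
        refine dvd_of_eq (((Nat.dvd_prime Nat.prime_three).1 hd).resolve_left fun h1 => hxfree S ?_).symm
        haveI : Subsingleton (orbit (zpowers (x : G)) S) := (Nat.card_eq_one_iff_unique.1 h1).1
        exact congrArg Subtype.val (Subsingleton.elim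
          (⟨_, mem_orbit S (⟨_, mem_zpowers _⟩ : zpowers (x : G))⟩ : orbit (zpowers (x : G)) S)
          ⟨_, mem_orbit_self S⟩)
    have hle : F.card ≤ 12 := h12 ▸ Nat.card_eq_fintype_card (α := Sylow 11 G) ▸ Finset.card_le_univ _
    have hF12 : F = Finset.univ := Finset.eq_univ_of_card _ (by
      rw [← Nat.card_eq_fintype_card, h12]; omega)
    have : y' = 1 := hinj ((Equiv.ext fun S => (Finset.mem_filter.1
      (hF12 ▸ Finset.mem_univ S : S ∈ F)).2).trans (map_one _).symm)
    rw [this, orderOf_one] at hyo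
    omega
  · -- an involution inverting `z` is odd
    have h2N : 2 ∣ Nat.card (normalizer (Z : Set G)) := by
      rw [hcardN Z]
      rcases hf10 with rfl | rfl | rfl
      · norm_num
      · exact absurd rfl hodd
      · norm_num
    obtain ⟨t, ht⟩ := exists_prime_orderOf_dvd_card' 2 h2N
    have ht2 : (t : G) ^ 2 = 1 := by
      rw [← ht, ← Subgroup.orderOf_coe]; exact pow_orderOf_eq_one _
    have htinv : (t : G)⁻¹ = t := inv_eq_of_mul_eq_one_right (by rw [← pow_two, ht2])
    have hconjZ : (t : G) * z * (t : G)⁻¹ ∈ (Z : Subgroup G) :=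
      (Subgroup.mem_normalizer_iff.1 t.2 _).1 z.2
    obtain ⟨i, hi⟩ : (t : G) * z * (t : G)⁻¹ ∈ zpowers (z : G) := hzZ.symm ▸ hconjZ
    simp only at hi
    have hzi : ((z : G) ^ i) ^ i = z := by
      rw [hi, conj_zpow, hi]
      nth_rewrite 2 [htinv]
      rw [show (t : G) * ((t : G) * z * (t : G)⁻¹) * t =
        ((t : G) ^ 2) * z * ((t : G)⁻¹ * t) by rw [pow_two]; group, ht2, inv_mul_cancel,
        one_mul, mul_one]
    have h11i : (11 : ℤ) ∣ (i - 1) * (i + 1) := by
      rw [← zpow_mul] at hzi
      have h1 : ((z : G)) ^ (i * i - 1) = 1 := by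
        rw [zpow_sub, hzi, zpow_one, mul_inv_cancel]
      rw [← orderOf_dvd_iff_zpow_eq_one, hzo] at h1
      rw [show (i - 1) * (i + 1) = i * i - 1 by ring]
      exact_mod_cast h1
    have hinv : (t : G) * z * (t : G)⁻¹ = (z : G)⁻¹ := by
      rcases (Int.Prime.dvd_mul' (show Nat.Prime 11 by norm_num) h11i) with h | h
      · exfalso
        have hzz : (t : G) * z * (t : G)⁻¹ = z := by
          rw [← hi, ← zpow_one (z : G), ← zpow_mul, one_mul, zpow_eq_zpow_iff_modEq, hzo]
          exact (Int.modEq_iff_dvd.2 (by exact_mod_cast h)).symm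
        have hcen : (t : G) ∈ centralizer (Z : Set G) := by
          refine Subgroup.mem_centralizer_iff.2 fun w hw => ?_
          have hw' : w ∈ (Z : Subgroup G) := hw
          rw [← hzZ] at hw'
          obtain ⟨j, rfl⟩ := hw'
          exact ((show Commute (z : G) t from (mul_inv_eq_iff_eq_mul.1 hzz).symm).zpow_left j).eq
        have h1 := orderOf_dvd_natCard (⟨_, hcen⟩ : centralizer (Z : Set G))
        rw [← Subgroup.orderOf_coe, show ((⟨_, hcen⟩ : centralizer (Z : Set G)) : G)
          = (t : G) from rfl, Subgroup.orderOf_coe, ht, hCz] at h1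
        norm_num at h1
      · rw [← hi, ← zpow_neg_one, zpow_eq_zpow_iff_modEq, hzo, Int.modEq_iff_dvd]
        rw [show (-1 : ℤ) - i = -(i + 1) by ring]
        exact dvd_neg.2 (by exact_mod_cast h)
    have hzfix : ∀ S : Sylow 11 G, (z : G) • S = S → S = Z := fun S h => by
      have h1 : (z : G) ∈ (Z : Subgroup G) ⊓ normalizer (S : Set G) :=
        ⟨z.2, Sylow.smul_eq_iff_mem_normalizer.1 h⟩
      rw [IsPGroup.inf_normalizer_sylow Z.2] at h1
      refine Sylow.ext (Subgroup.eq_of_le_of_card_ge ?_ ?_).symm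
      · rw [← hzZ]; exact zpowers_le.2 h1.2
      · rw [S.card_eq_multiplicity, Z.card_eq_multiplicity]
    obtain ⟨S0, hS0⟩ : ∃ S : Sylow 11 G, S ≠ Z :=
      Fintype.exists_ne_of_one_lt_card (by rw [← Nat.card_eq_fintype_card, h12]; norm_num) Z
    have hzn : ∀ n : ℤ, (z : G) ^ n • S0 = S0 → (11 : ℤ) ∣ n := by
      intro n hn
      by_contra hn'
      obtain ⟨a, b, hab⟩ : IsCoprime n (11 : ℤ) :=
        ((Prime.coprime_iff_not_dvd (Int.prime_iff_natAbs_prime.2 (by norm_num))).2 hn').symm
      refine hS0 (hzfix S0 (mem_stabilizer_iff.1 ?_))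
      have hz' : (z : G) = ((z : G) ^ n) ^ a := by
        have h1 : (z : G) ^ ((11 : ℤ) * b) = 1 := by
          rw [zpow_mul, show (11 : ℤ) = ((11 : ℕ) : ℤ) from rfl, zpow_natCast, hz11, one_zpow]
        rw [← zpow_mul, show n * a = 1 - 11 * b by linarith, zpow_sub, zpow_one, h1, inv_one,
          mul_one]
      rw [hz']
      exact zpow_mem (mem_stabilizer_iff.2 hn) a
    have hzfixZ : (z : G) • Z = Z :=
      Sylow.smul_eq_iff_mem_normalizer.2 (le_normalizer z.2)
    have horbS : ∀ S : Sylow 11 G, S ≠ Z → ∃ n : ℤ, (z : G) ^ n • S0 = S := by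
      intro S hS
      have hsub : (orbit W S0).toFinset ⊆ Finset.univ.erase Z := by
        intro R hR
        rw [Set.mem_toFinset] at hR
        obtain ⟨⟨w, j, rfl⟩, rfl⟩ := hR
        refine Finset.mem_erase.2 ⟨fun e => hS0 (smul_left_cancel ((z : G) ^ j) (e.trans ?_)),
          Finset.mem_univ _⟩
        exact (mem_stabilizer_iff.1 (zpow_mem (mem_stabilizer_iff.2 hzfixZ) j)).symm
      have hcard : (orbit W S0).toFinset.card = 11 := by
        rw [Set.toFinset_card, ← Nat.card_eq_fintype_card,
          Nat.card_congr (orbitEquivQuotientStabilizer W S0), ← Subgroup.index]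
        have hd : (stabilizer W S0).index ∣ 11 :=
          (Subgroup.index_dvd_card _).trans (dvd_of_eq ((Nat.card_zpowers _).trans hzo))
        refine ((Nat.dvd_prime (by norm_num)).1 hd).resolve_left fun h1 => ?_
        have h2 : (⟨_, mem_zpowers (z : G)⟩ : W) ∈ stabilizer W S0 := by
          rw [Subgroup.index_eq_one.1 h1]; exact Subgroup.mem_top _
        exact hS0 (hzfix S0 h2)
      have heq := Finset.eq_of_subset_of_card_le hsub (by
        rw [hcard, Finset.card_erase_of_mem (Finset.mem_univ _), Finset.card_univ,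
          ← Nat.card_eq_fintype_card, h12])
      have h2 : S ∈ (orbit W S0).toFinset := heq ▸ Finset.mem_erase.2 ⟨hS, Finset.mem_univ _⟩
      obtain ⟨⟨w, j, rfl⟩, hw⟩ := Set.mem_toFinset.1 h2
      exact ⟨j, hw⟩
    have htZ : (t : G) • Z = Z := Sylow.smul_eq_iff_mem_normalizer.2 t.2
    obtain ⟨j, hj⟩ := horbS ((t : G) • S0) fun e => hS0 (smul_left_cancel _ (e.trans htZ.symm))
    have hact : ∀ n : ℤ, (t : G) • (z : G) ^ n • S0 = (z : G) ^ (j - n) • S0 := fun n => by
      rw [← mul_smul, show (t : G) * (z : G) ^ n = ((t : G) * z * (t : G)⁻¹) ^ n * t by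
        rw [conj_zpow, inv_mul_cancel_right], hinv, mul_smul, ← hj, ← mul_smul, inv_zpow,
        ← zpow_neg, ← zpow_add, neg_add_eq_sub]
    have hfixset : (Finset.univ.filter fun S : Sylow 11 G => (t : G) • S = S) =
        {Z, (z : G) ^ (6 * j) • S0} := by
      ext S
      simp only [Finset.mem_filter, Finset.mem_univ, true_and, Finset.mem_insert,
        Finset.mem_singleton]
      refine ⟨fun h => ?_, ?_⟩
      · rcases eq_or_ne S Z with rfl | hS
        · exact Or.inl rfl
        obtain ⟨n, rfl⟩ := horbS S hS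
        right
        rw [hact] at h
        have h1 : (11 : ℤ) ∣ (j - n) - n := hzn _ (by
          rw [sub_eq_add_neg (j - n) n, add_comm, zpow_add, mul_smul, h, ← mul_smul, ← zpow_add,
            neg_add_cancel, zpow_zero, one_smul])
        have h2 : (z : G) ^ n = (z : G) ^ (6 * j) := by
          rw [zpow_eq_zpow_iff_modEq, hzo, Int.modEq_iff_dvd]
          obtain ⟨c, hc⟩ := h1
          exact ⟨6 * c + n, by push_cast; linarith⟩
        rw [h2]
      · rintro (rfl | rfl)
        · exact htZ
        · rw [hact]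
          congr 1
          rw [zpow_eq_zpow_iff_modEq, hzo, Int.modEq_iff_dvd]
          exact ⟨j, by push_cast; ring⟩
    have hne : Z ≠ (z : G) ^ (6 * j) • S0 := fun e => hS0 (smul_left_cancel _ (e.symm.trans
      (mem_stabilizer_iff.1 (zpow_mem (mem_stabilizer_iff.2 hzfixZ) (6 * j))).symm))
    have hsupp : (MulAction.toPermHom G (Sylow 11 G) (t : G)).support =
        Finset.univ \ (Finset.univ.filter fun S : Sylow 11 G => (t : G) • S = S) := by
      ext S
      simp only [Equiv.Perm.mem_support, Finset.mem_sdiff, Finset.mem_univ, true_and,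
        Finset.mem_filter]
      rfl
    have hs := sign_of_sq_eq_one _ (toPerm_mul_self (α := Sylow 11 G) ht2)
    rw [sign_eq_one_of_simple hna, hsupp, Finset.card_univ_diff, hfixset, Finset.card_pair hne,
      ← Nat.card_eq_fintype_card, h12] at hs
    exact absurd hs (by decide)

end CfsgLib.PGroup.SylowTwentyTwo
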