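import Cfsg.Agent.Lib.CFun.Critical
import Cfsg.Agent.Lib.PGroup.SymplecticPairs
import Cfsg.Agent.Lib.PGroup.SelfCentralizingCyclic
import Cfsg.Agent.Lib.PGroup.MetacyclicOmega

/-!
# `p`-groups of symplectic type
-/

set_option autoImplicit false
set_option linter.style.haveILetI false

open Subgroup
open scoped commutatorElement

namespace CfsgLib.SympType

universe u

variable {G : Type u} [Group G] [Finite G] {p : ℕ} [hp : Fact p.Prime]

omit [Finite G] in
theorem cen_char {K : Subgroup G} (hK : K.Characteristic) : (CfsgLib.CFun.cen K).Characteristic := by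
  haveI := hK
  refine characteristic_iff_map_le.2 fun φ => ?_
  rintro _ ⟨c, hc, rfl⟩
  obtain ⟨hc1, hc2⟩ := Subgroup.mem_inf.1 hc
  refine Subgroup.mem_inf.2 ⟨CfsgLib.CFun.mem_of_map_conj φ hc1,
    mem_centralizer_iff.2 fun k hk => ?_⟩
  have h := congrArg φ
    (mem_centralizer_iff.1 hc2 _ (CfsgLib.CFun.mem_of_map_conj (C := K) φ.symm hk))
  simpa using h

omit [Finite G] in
theorem cen_comm (K : Subgroup G) : IsMulCommutative (CfsgLib.CFun.cen K) :=
  ⟨⟨fun a b => Subtype.ext
    (mem_centralizer_iff.1 (Subgroup.mem_inf.1 b.2).2 a (Subgroup.mem_inf.1 a.2).1)⟩⟩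

/-- A cyclic subgroup has one subgroup of order `p`. -/
theorem mem_zpowers_of_cyclic {H : Subgroup G} (hH : IsCyclic H) {x z : G} (hx : x ∈ H)
    (hz : z ∈ H) (hxp : x ^ p = 1) (hzo : orderOf z = p) : x ∈ zpowers z := by
  obtain ⟨b, hb⟩ := hH.exists_generator
  obtain ⟨q, hq⟩ : p ∣ orderOf (b : G) := by
    rw [← hzo, Subgroup.orderOf_coe, orderOf_eq_card_of_forall_mem_zpowers hb]
    exact Subgroup.orderOf_dvd_natCard H hz
  have hmem : ∀ y ∈ H, y ^ p = 1 → y ∈ zpowers ((b : G) ^ q) := by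
    intro y hy hyp
    obtain ⟨i, hi⟩ := mem_zpowers_iff.1 (hb ⟨y, hy⟩)
    have hi' : (b : G) ^ i = y := by simpa using congrArg Subtype.val hi
    rw [← hi', ← zpow_natCast, ← zpow_mul, ← orderOf_dvd_iff_zpow_eq_one, hq, Nat.cast_mul,
      mul_comm i, mul_dvd_mul_iff_left (by exact_mod_cast hp.out.ne_zero)] at hyp
    obtain ⟨j, rfl⟩ := hyp
    rw [← hi', zpow_mul, zpow_natCast]
    exact zpow_mem (mem_zpowers _) j
  have hq0 : orderOf ((b : G) ^ q) ∣ p := by
    refine orderOf_dvd_of_pow_eq_one ?_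
    rw [← pow_mul, mul_comm, ← hq, pow_orderOf_eq_one]
  have heq : zpowers z = zpowers ((b : G) ^ q) :=
    eq_of_le_of_card_ge (zpowers_le.2 (hmem z hz (hzo ▸ pow_orderOf_eq_one z))) (by
      rw [Nat.card_zpowers, Nat.card_zpowers, hzo]
      exact Nat.le_of_dvd hp.out.pos hq0)
  exact heq.ge (hmem x hx hxp)

omit [Finite G] hp in
theorem conj_pow_of_commute {x y : G} (hc : Commute x ⁅x, y⁆) (k : ℕ) :
    x ^ k * y * (x ^ k)⁻¹ = ⁅x, y⁆ ^ k * y := by
  induction k with
  | zero => simp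
  | succ k ih =>
    calc x ^ (k + 1) * y * (x ^ (k + 1))⁻¹ = x * (x ^ k * y * (x ^ k)⁻¹) * x⁻¹ := by
          rw [pow_succ']; group
      _ = x * ⁅x, y⁆ ^ k * x⁻¹ * (x * y * x⁻¹) := by rw [ih]; group
      _ = ⁅x, y⁆ ^ k * (x * y * x⁻¹) := by rw [(hc.pow_right k).eq, mul_inv_cancel_right]
      _ = _ := by rw [pow_succ, commutatorElement_def]; group

theorem main (hG : IsPGroup p G)
    (hsymp : ∀ A : Subgroup G, A.Characteristic → IsMulCommutative A → IsCyclic A) :
    ∃ E R : Subgroup G, (∀ e ∈ E, ∀ r ∈ R, e * r = r * e) ∧ E ⊔ R = ⊤ ∧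
      (E = ⊥ ∨ Cfsg.IsExtraspecial p ↥E) ∧ (IsCyclic R ∨ (p = 2 ∧ 16 ≤ Nat.card R ∧
        ((∃ m : ℕ, Nonempty (↥R ≃* DihedralGroup m)) ∨ (∃ m : ℕ, Nonempty (↥R ≃* QuaternionGroup m)) ∨
          Cfsg.IsQuasiDihedral ↥R))) := by
  have hpi : (p : ℤ) ≠ 0 := by exact_mod_cast hp.out.ne_zero
  cases subsingleton_or_nontrivial G with
  | inl hs =>
    refine ⟨⊥, ⊥, fun e _ r _ => Subsingleton.elim _ _, ?_, Or.inl rfl, Or.inl inferInstance⟩
    exact Subsingleton.elim _ _
  | inr hnt =>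
  obtain ⟨C, ⟨hchar, hpow, -, hPC⟩, hself⟩ := CfsgLib.CFun.exists_critical (p := p) hG
  haveI := hchar
  set U := CfsgLib.CFun.cen C with hU
  haveI hUchar : U.Characteristic := cen_char hchar
  have hUcyc : IsCyclic U := hsymp U hUchar (cen_comm C)
  have hUC : U ≤ C := inf_le_left
  have hUcomm : ∀ u ∈ U, ∀ c ∈ C, c * u = u * c := fun u hu c hc =>
    mem_centralizer_iff.1 (Subgroup.mem_inf.1 hu).2 c hc
  have hUne : U ≠ ⊥ := by
    intro h
    have hC : C ≠ ⊥ := fun e => by
      obtain ⟨g, hg⟩ := exists_ne (1 : G)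
      refine hg (mem_bot.1 ?_)
      rw [← e]
      refine hself (mem_centralizer_iff.2 fun c hc => ?_)
      have hc' : c ∈ C := hc
      rw [e, mem_bot] at hc'
      rw [hc', one_mul, mul_one]
    obtain ⟨w, hw, hwo, hwc⟩ := CfsgLib.CharPLoc.exists_central_order (p := p) (hG.to_subgroup C)
      le_rfl le_normalizer hC
    have hwU : w ∈ U := Subgroup.mem_inf.2 ⟨hw, mem_centralizer_iff.2 fun c hc => hwc c hc⟩
    rw [h, mem_bot] at hwU
    rw [hwU, orderOf_one] at hwo
    exact hp.out.ne_one hwo.symm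
  obtain ⟨z, hzU, hzo, hzc⟩ := CfsgLib.CharPLoc.exists_central_order (p := p) (T := (⊤ : Subgroup G))
    (R := U) (hG.to_subgroup ⊤) le_top (by rw [normalizer_eq_top (H := U)]) hUne
  have hzp : z ^ p = 1 := hzo ▸ pow_orderOf_eq_one z
  have hz1 : z ≠ 1 := fun h => by rw [h, orderOf_one] at hzo; exact hp.out.ne_one hzo.symm
  have hzcen : ∀ g : G, g * z = z * g := fun g => hzc g (mem_top g)
  have hUz : ∀ u ∈ U, u ^ p = 1 → u ∈ zpowers z := fun u hu hu1 =>
    mem_zpowers_of_cyclic hUcyc hu hzU hu1 hzo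
  obtain ⟨a, haU, hgenU⟩ : ∃ a ∈ U, ∀ u ∈ U, ∃ i : ℤ, a ^ i = u := by
    obtain ⟨b, hb⟩ := hUcyc.exists_generator
    refine ⟨b, b.2, fun u hu => ?_⟩
    obtain ⟨i, hi⟩ := mem_zpowers_iff.1 (hb ⟨u, hu⟩)
    exact ⟨i, by simpa using congrArg Subtype.val hi⟩
  obtain ⟨n, hn⟩ := (hG.to_subgroup U).exists_card_eq
  have hn1 : 1 ≤ n := by
    by_contra h
    exact hUne (card_eq_one.1 (by rw [hn, show n = 0 by omega, pow_zero]))
  have hUU : ∀ x ∈ U, ∀ y ∈ U, x * y = y * x := fun x hx y hy =>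
    congrArg Subtype.val ((cen_comm C).1.comm ⟨x, hx⟩ ⟨y, hy⟩)
  have hUexp : ∀ u ∈ U, u ^ p ^ n = 1 := fun u hu => by
    rw [← hn]
    exact orderOf_dvd_iff_pow_eq_one.1 (Subgroup.orderOf_dvd_natCard U hu)
  have hao : orderOf a = p ^ n := by
    refine Nat.dvd_antisymm (orderOf_dvd_of_pow_eq_one (hUexp a haU)) ?_
    rw [← hn, ← Nat.card_zpowers]
    exact card_dvd_of_le fun u hu => mem_zpowers_iff.2 (hgenU u hu)
  -- the critical subgroup has small derived subgroup
  have hsmallC : CfsgLib.SympPairs.Small p z C := by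
    refine ⟨hzp, hz1, hUC hzU, hzcen, fun x hx y hy => ?_⟩
    have hm : ⁅x, y⁆ ∈ U := hPC (commutator_mem_commutator (mem_top x) hy)
    refine hUz _ hm ?_
    have hc : Commute x ⁅x, y⁆ := hUcomm _ hm x hx
    have h := conj_pow_of_commute hc p
    rw [← hUcomm _ (hpow x hx) y hy, mul_inv_cancel_right] at h
    exact mul_eq_right.1 h.symm
  -- the exceptional configuration
  have hadj : ∀ x ∈ C, ∃ c ∈ C ⊓ centralizer (C : Set G), (x * c) ^ p ∈ zpowers z := by
    by_cases hn2 : n = 1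
    · intro x hx
      refine ⟨1, one_mem _, ?_⟩
      rw [mul_one]
      exact hUz _ (hpow x hx) (by have := hUexp _ (hpow x hx); rwa [hn2, pow_one] at this)
    have hexp : ∀ x ∈ C, x ^ p ^ n = 1 := by
      by_contra hne
      push Not at hne
      obtain ⟨x₀, hx₀, hx₀1⟩ := hne
      have hchoose : p ∣ (p ^ n).choose 2 := hp.out.dvd_choose_pow two_ne_zero (by
        have h2 := hp.out.two_le
        have h3 : p ^ 2 ≤ p ^ n := Nat.pow_le_pow_right hp.out.pos (by omega)
        have : 2 * 2 ≤ p ^ 2 := by rw [pow_two]; exact Nat.mul_le_mul h2 h2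
        omega)
      have hfmul : ∀ x ∈ C, ∀ y ∈ C, (x * y) ^ p ^ n = x ^ p ^ n * y ^ p ^ n := by
        intro x hx y hy
        obtain ⟨k, hk⟩ := hchoose
        rw [hsmallC.mul_pow hx hy, hk, pow_mul, hsmallC.comm_pow hy hx, one_pow, mul_one]
      have hfz : ∀ x ∈ C, x ^ p ^ n ∈ zpowers z := by
        intro x hx
        have h1 : x ^ p ^ n = (x ^ p) ^ p ^ (n - 1) := by
          rw [← pow_mul, ← pow_succ', Nat.sub_add_cancel hn1]
        refine hUz _ (h1 ▸ pow_mem (hpow x hx) _) ?_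
        rw [← pow_mul, mul_comm, pow_mul]
        exact hUexp _ (hpow x hx)
      obtain ⟨y, hy, hyf⟩ := CfsgLib.SympPairs.Small.dual p z C hsmallC (fun x => x ^ p ^ n) hfmul
        hfz (fun c hc => hUexp c hc)
      let K : Subgroup G :=
        { carrier := {x | x ∈ C ∧ x ^ p ^ n = 1}
          one_mem' := ⟨one_mem C, one_pow _⟩
          mul_mem' := fun {x y} hx hy => ⟨mul_mem hx.1 hy.1, by
            rw [hfmul x hx.1 y hy.1, hx.2, hy.2, one_mul]⟩
          inv_mem' := fun {x} hx => ⟨inv_mem hx.1, by rw [inv_pow, hx.2, inv_one]⟩ }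
      have hKchar : K.Characteristic := characteristic_iff_map_le.2 fun φ => by
        rintro _ ⟨k, hk, rfl⟩
        exact ⟨CfsgLib.CFun.mem_of_map_conj φ hk.1, by
          rw [← map_pow, hk.2]; exact map_one _⟩
      set A := CfsgLib.CFun.cen K with hA
      have hAcyc : IsCyclic A := hsymp A (cen_char hKchar) (cen_comm K)
      have hUA : U ≤ A := fun u hu => Subgroup.mem_inf.2 ⟨⟨hUC hu, hUexp u hu⟩,
        mem_centralizer_iff.2 fun k hk => hUcomm u hu k hk.1⟩
      have hyA : y ∈ A := Subgroup.mem_inf.2 ⟨⟨hy, by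
        rw [hyf y hy, commutatorElement_self]⟩, mem_centralizer_iff.2 fun k hk =>
          commutatorElement_eq_one_iff_mul_comm.1 ((hyf k hk.1).symm.trans hk.2)⟩
      have hcardA : Nat.card A ≤ Nat.card U := by
        obtain ⟨g, hg⟩ := IsCyclic.exists_ofOrder_eq_natCard (α := A)
        rw [hn, ← hg]
        exact orderOf_le_of_pow_eq_one (pow_pos hp.out.pos n)
          (Subtype.ext (by simpa using (Subgroup.mem_inf.1 g.2).1.2))
      have hyU : y ∈ U := (eq_of_le_of_card_ge hUA hcardA).ge hyA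
      apply hx₀1
      rw [hyf x₀ hx₀]
      exact commutatorElement_eq_one_iff_mul_comm.2 (hUcomm y hyU x₀ hx₀)
    intro x hx
    obtain ⟨i, hi⟩ := hgenU _ (hpow x hx)
    obtain ⟨j, rfl⟩ : (p : ℤ) ∣ i := by
      have h := hexp x hx
      rw [show p ^ n = p * p ^ (n - 1) by rw [← pow_succ', Nat.sub_add_cancel hn1], pow_mul, ← hi,
        ← zpow_natCast, ← zpow_mul, ← orderOf_dvd_iff_zpow_eq_one, hao,
        show p ^ n = p * p ^ (n - 1) by rw [← pow_succ', Nat.sub_add_cancel hn1], Nat.cast_mul,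
        mul_dvd_mul_iff_right (by exact_mod_cast (pow_pos hp.out.pos (n - 1)).ne')] at h
      exact h
    have hcU : a ^ (-j) ∈ U := zpow_mem haU _
    refine ⟨a ^ (-j), hcU, ?_⟩
    rw [(show Commute x (a ^ (-j)) from hUcomm _ hcU x hx).mul_pow, ← hi, ← zpow_natCast (a ^ (-j)),
      ← zpow_mul, ← zpow_add, show (p : ℤ) * j + -j * p = 0 by ring, zpow_zero]
    exact one_mem _
  obtain ⟨E, hEC, hzE, hEp, hEcen, hEs⟩ :=
    CfsgLib.SympPairs.Small.exists_factor p z C hsmallC hadj
  have hEsmall : CfsgLib.SympPairs.Small p z E := hsmallC.mono hEC hzE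
  have hEcenE : ∀ e ∈ E, e ∈ centralizer (E : Set G) → e ∈ zpowers z := by
    intro e he hec
    refine hEcen e he (mem_centralizer_iff.2 fun c hc => ?_)
    obtain ⟨e', he', u, hu, rfl⟩ := hEs c hc
    exact ((show Commute e' e from mem_centralizer_iff.1 hec e' he').mul_left
      (show Commute u e from (hUcomm u hu e (hEC he)).symm)).eq
  set R := centralizer (E : Set G) with hR
  have hUR : U ≤ R := fun u hu => mem_centralizer_iff.2 fun e he => hUcomm u hu e (hEC he)
  have hER : ∀ g : G, ∃ e ∈ E, ∃ r ∈ R, g = e * r := by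
    intro g
    have hmemU : ∀ e ∈ E, g * e * g⁻¹ * e⁻¹ ∈ U := fun e he => by
      have := hPC (commutator_mem_commutator (mem_top g) (hEC he))
      rwa [commutatorElement_def] at this
    have hfz : ∀ e ∈ E, g * e * g⁻¹ * e⁻¹ ∈ zpowers z := by
      intro e he
      refine hUz _ (hmemU e he) ?_
      have hc : Commute (g * e * g⁻¹ * e⁻¹) e := (hUcomm _ (hmemU e he) e (hEC he)).symm
      have h := hc.mul_pow p
      rw [inv_mul_cancel_right, conj_pow, hsmallC.central_of_mem (hEp e he) g,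
        mul_inv_cancel_right] at h
      exact mul_eq_right.1 h.symm
    obtain ⟨u, hu, huf⟩ := CfsgLib.SympPairs.Small.dual p z E hEsmall
      (fun e => g * e * g⁻¹ * e⁻¹) (fun x hx y hy => by
        calc g * (x * y) * g⁻¹ * (x * y)⁻¹ = (g * x * g⁻¹ * x⁻¹) *
              (x * (g * y * g⁻¹ * y⁻¹) * x⁻¹) := by group
          _ = _ := by rw [hsmallC.central_of_mem (hfz y hy) x, mul_inv_cancel_right])
      hfz (fun c hc => by
        rw [hsmallC.central_of_mem (hEcenE c (Subgroup.mem_inf.1 hc).1 (Subgroup.mem_inf.1 hc).2) g,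
          mul_inv_cancel_right, mul_inv_cancel])
    refine ⟨u⁻¹, inv_mem hu, u * g, ?_, by group⟩
    rw [hR, mem_centralizer_iff]
    intro e he
    have hfe := huf e he
    have hc := hsmallC.central_of_mem (hfz e he) u
    rw [eq_comm, ← mul_inv_eq_iff_eq_mul]
    calc u * g * e * (u * g)⁻¹ = u * (g * e * g⁻¹ * e⁻¹) * (e * u⁻¹) := by group
      _ = (g * e * g⁻¹ * e⁻¹) * u * (e * u⁻¹) := by rw [hc]
      _ = ⁅e, u⁆ * u * (e * u⁻¹) := by rw [hfe]
      _ = e := by rw [commutatorElement_def]; group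
  have hERsup : E ⊔ R = ⊤ := by
    rw [eq_top_iff]
    intro g _
    obtain ⟨e, he, r, hr, rfl⟩ := hER g
    exact mul_mem (mem_sup_left he) (mem_sup_right hr)
  have hselfR : ∀ r ∈ R, (∀ u ∈ U, u * r = r * u) → r ∈ U := by
    intro r hr hru
    have hrC : r ∈ centralizer (C : Set G) := mem_centralizer_iff.2 fun c hc => by
      obtain ⟨e, he, u, hu, rfl⟩ := hEs c hc
      exact ((show Commute e r from mem_centralizer_iff.1 hr e he).mul_left
        (show Commute u r from hru u hu)).eq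
    exact Subgroup.mem_inf.2 ⟨hself hrC, hrC⟩
  -- assembling the decomposition
  have finish : (IsCyclic R ∨ (p = 2 ∧ 16 ≤ Nat.card R ∧
      ((∃ m : ℕ, Nonempty (↥R ≃* DihedralGroup m)) ∨ (∃ m : ℕ, Nonempty (↥R ≃* QuaternionGroup m)) ∨
        Cfsg.IsQuasiDihedral ↥R))) →
      ∃ E R : Subgroup G, (∀ e ∈ E, ∀ r ∈ R, e * r = r * e) ∧ E ⊔ R = ⊤ ∧
        (E = ⊥ ∨ Cfsg.IsExtraspecial p ↥E) ∧ (IsCyclic R ∨ (p = 2 ∧ 16 ≤ Nat.card R ∧
        ((∃ m : ℕ, Nonempty (↥R ≃* DihedralGroup m)) ∨ (∃ m : ℕ, Nonempty (↥R ≃* QuaternionGroup m)) ∨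
          Cfsg.IsQuasiDihedral ↥R))) := by
    intro h
    by_cases hna : ∃ x ∈ E, ∃ y ∈ E, ⁅x, y⁆ ≠ 1
    · exact ⟨E, R, fun e he r hr => mem_centralizer_iff.1 hr e he, hERsup,
        Or.inr (CfsgLib.SympPairs.isExtraspecial_of_data E (hG.to_subgroup E) hEsmall hEp hEcenE
          hna), h⟩
    · push Not at hna
      refine ⟨⊥, R, fun e he r _ => by rw [mem_bot.1 he, one_mul, mul_one], ?_, Or.inl rfl, h⟩
      rw [bot_sup_eq, ← hERsup, eq_comm, sup_eq_right]
      intro e he
      exact hUR (zpowers_le.2 hzU (hEcenE e he (mem_centralizer_iff.2 fun y hy =>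
        commutatorElement_eq_one_iff_mul_comm.1 (hna y hy e he))))
  by_cases hRab : IsMulCommutative R
  · have hRU : R = U := le_antisymm (fun r hr => hselfR r hr fun u hu =>
      congrArg Subtype.val (hRab.1.comm ⟨u, hUR hu⟩ ⟨r, hr⟩)) hUR
    exact finish (Or.inl (by rw [hRU]; exact hUcyc))
  -- the nonabelian factor
  set U' := U.subgroupOf R with hU'
  have hUcard : Nat.card U' = p ^ n := by
    rw [hU', Nat.card_congr (subgroupOfEquivOfLe hUR).toEquiv, hn]
  have hC' : centralizer (U' : Set R) = U' := by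
    ext r
    rw [mem_centralizer_iff]
    constructor
    · intro h
      exact hselfR r r.2 fun u hu =>
        congrArg Subtype.val (h ⟨u, hUR hu⟩ (mem_subgroupOf.2 hu))
    · intro h u hu
      exact Subtype.ext (hUU _ hu _ h)
  have hU'cyc : IsCyclic U' := (subgroupOfEquivOfLe hUR).isCyclic.2 hUcyc
  have hn2 : 2 ≤ n := by
    by_contra h
    refine hRab ⟨⟨fun x y => ?_⟩⟩
    have hUle : ∀ r : R, r ∈ U' := fun r => hselfR r r.2 fun u hu => by
      have hu' := hUz u hu (by
        have := hUexp u hu; rwa [show n = 1 by omega, pow_one] at this)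
      exact (hsmallC.central_of_mem hu' r).symm
    exact Subtype.ext (hUU _ (hUle x) _ (hUle y))
  have hmain := CfsgLib.SelfCentCyclic.main (hG.to_subgroup R) hRab U' hU'cyc n hUcard hC'
  set a' : R := ⟨a, hUR haU⟩ with ha'
  have hMmem : ∀ r : R, r ∈ centralizer (Cfsg.powerClosure p 1 U' : Set R) ↔
      Commute (r : G) (a ^ p) := by
    intro r
    rw [Cfsg.powerClosure, centralizer_closure, mem_centralizer_iff]
    constructor
    · intro h
      exact (congrArg Subtype.val (h (a' ^ p) ⟨a', haU, by rw [pow_one]⟩)).symm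
    · rintro h _ ⟨x, hx, rfl⟩
      obtain ⟨i, hi⟩ := hgenU (x : G) hx
      refine Subtype.ext ?_
      show ((x ^ p ^ 1 : R) : G) * r = r * ((x ^ p ^ 1 : R) : G)
      rw [pow_one, SubgroupClass.coe_pow, ← hi, ← zpow_natCast, ← zpow_mul, mul_comm, zpow_mul,
        zpow_natCast]
      exact (h.zpow_right i).eq.symm
  by_cases hsmalln : n = 2
  · -- the whole group is extraspecial
    subst hsmalln
    have hap : a ^ p ∈ zpowers z := hUz _ (pow_mem haU p) (by
      rw [← pow_mul, ← pow_two]; exact hUexp a haU)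
    have hidx : U'.index = p := by
      rcases hmain with ⟨rfl, hcard, -⟩ | ⟨hrel, -⟩
      · have h := U'.card_mul_index
        rw [hUcard, hcard] at h
        norm_num at h ⊢
        omega
      · have htop : centralizer (Cfsg.powerClosure p 1 U' : Set R) = ⊤ := eq_top_iff.2 fun r _ =>
          (hMmem r).2 (hsmallC.central_of_mem hap r)
        rwa [htop, relIndex_top_right] at hrel
    have hcardR : Nat.card R = p ^ 3 := by
      rw [← U'.card_mul_index, hUcard, hidx, ← pow_succ]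
    have hcenR : ∀ r : R, r ∈ center R → (r : G) ∈ zpowers z := by
      intro r hr
      have hrU : (r : G) ∈ U := hselfR r r.2 fun u hu =>
        congrArg Subtype.val (mem_center_iff.1 hr ⟨u, hUR hu⟩)
      obtain ⟨i, hi⟩ := hgenU _ hrU
      by_cases hd : (p : ℤ) ∣ i
      · obtain ⟨j, rfl⟩ := hd
        rw [← hi, zpow_mul, zpow_natCast]
        exact zpow_mem hap j
      · exfalso
        apply hRab
        obtain ⟨s, t, hst⟩ := ((Nat.prime_iff_prime_int.1 hp.out).coprime_iff_not_dvd.2 hd).pow_left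
          (m := 2)
        have ha : a' ∈ center R := by
          have e : a' = (r : R) ^ t := by
            refine Subtype.ext ?_
            rw [SubgroupClass.coe_zpow, ← hi, ← zpow_mul]
            show a = a ^ (i * t)
            conv_lhs => rw [← zpow_one a, ← hst, zpow_add, mul_comm s, zpow_mul,
              ← Nat.cast_pow, zpow_natCast, ← hao, pow_orderOf_eq_one, one_zpow, one_mul, mul_comm t]
          rw [e]; exact zpow_mem hr t
        have hUle : ∀ x : R, x ∈ U' := fun x => hselfR x x.2 fun u hu => by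
          obtain ⟨l, rfl⟩ := hgenU u hu
          exact ((show Commute (x : G) a from
            congrArg Subtype.val (mem_center_iff.1 ha x)).zpow_right l).eq.symm
        exact ⟨⟨fun x y => Subtype.ext (hUU _ (hUle x) _ (hUle y))⟩⟩
    have hcomR : ∀ x y : R, ⁅(x : G), (y : G)⁆ ∈ zpowers z := fun x y => by
      have := hcenR _ (CfsgLib.MetacyclicOmega.commutator_le_center_of_card (hG.to_subgroup R)
        hcardR (commutator_mem_commutator (mem_top x) (mem_top y)))
      exact this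
    have hpowR : ∀ r : R, (r : G) ^ p ∈ zpowers z := by
      intro r
      by_cases hr : r ∈ U'
      · obtain ⟨i, hi⟩ := hgenU _ (mem_subgroupOf.1 hr)
        rw [← hi, ← zpow_natCast, ← zpow_mul, mul_comm, zpow_mul, zpow_natCast]
        exact zpow_mem hap i
      · have hrp : r ^ p ∈ U' := hidx ▸ U'.pow_index_mem r
        have hsup : U' ⊔ zpowers r = ⊤ := by
          rw [← index_eq_one]
          have hd : (U' ⊔ zpowers r).index ∣ p := hidx ▸ index_dvd_of_le le_sup_left
          refine ((Nat.dvd_prime hp.out).1 hd).resolve_right fun e => hr ?_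
          have h1 := (U' ⊔ zpowers r).card_mul_index
          rw [e, ← U'.card_mul_index, hidx] at h1
          have heq := eq_of_le_of_card_ge (le_sup_left : U' ≤ U' ⊔ zpowers r)
            (Nat.eq_of_mul_eq_mul_right hp.out.pos h1).le
          exact heq.ge (mem_sup_right (mem_zpowers r))
        have := hcenR (r ^ p) (mem_center_iff.2 fun x => by
          have hx : x ∈ centralizer {r ^ p} := by
            have hle : U' ⊔ zpowers r ≤ centralizer {r ^ p} := by
              refine sup_le (fun u hu => mem_centralizer_singleton_iff.2 ?_) (zpowers_le.2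
                (mem_centralizer_singleton_iff.2 ((Commute.refl r).pow_right p).eq))
              exact Subtype.ext (hUU _ hu _ hrp)
            rw [hsup] at hle
            exact hle (mem_top x)
          exact mem_centralizer_singleton_iff.1 hx)
        simpa using this
    haveI hzn : (zpowers z).Normal := ⟨fun c hc g => by
      rw [hsmallC.central_of_mem hc g, mul_inv_cancel_right]; exact hc⟩
    have hcomG : commutator G ≤ zpowers z := by
      refine CfsgLib.Invol.commutator_le_of_generators (X := (E : Set G) ∪ (R : Set G)) ?_ ?_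
      · rw [Subgroup.closure_union, Subgroup.closure_eq, Subgroup.closure_eq, hERsup]
      · have hmix : ∀ e ∈ E, ∀ r ∈ R, ⁅e, r⁆ ∈ zpowers z ∧ ⁅r, e⁆ ∈ zpowers z := fun e he r hr => by
          have h := mem_centralizer_iff.1 hr e he
          rw [commutatorElement_eq_one_iff_mul_comm.2 h,
            commutatorElement_eq_one_iff_mul_comm.2 h.symm]
          exact ⟨one_mem _, one_mem _⟩
        rintro x (hx | hx) y (hy | hy)
        · exact hEsmall.comm x hx y hy
        · exact (hmix x hx y hy).1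
        · exact (hmix y hy x hx).2
        · exact hcomR ⟨x, hx⟩ ⟨y, hy⟩
    have hGsmall : CfsgLib.SympPairs.Small p z (⊤ : Subgroup G) :=
      ⟨hzp, hz1, mem_top z, hzcen, fun x _ y _ =>
        hcomG (commutator_mem_commutator (mem_top x) (mem_top y))⟩
    refine ⟨⊤, ⊥, fun e _ r hr => by rw [mem_bot.1 hr, one_mul, mul_one], sup_bot_eq _, Or.inr ?_,
      Or.inl inferInstance⟩
    refine CfsgLib.SympPairs.isExtraspecial_of_data ⊤ (hG.to_subgroup ⊤) hGsmall ?_ ?_ ?_
    · intro g _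
      obtain ⟨e, he, r, hr, rfl⟩ := hER g
      rw [(show Commute e r from mem_centralizer_iff.1 hr e he).mul_pow]
      exact mul_mem (hEp e he) (hpowR ⟨r, hr⟩)
    · intro g _ hg
      obtain ⟨e, he, r, hr, rfl⟩ := hER g
      have hge : ∀ x : G, x * (e * r) = e * r * x := fun x =>
        mem_centralizer_iff.1 hg x (mem_top x)
      have he' : e ∈ zpowers z := hEcenE e he (mem_centralizer_iff.2 fun x hx => by
        have h := hge x
        have hxr := mem_centralizer_iff.1 hr x hx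
        rw [← mul_assoc, mul_assoc e r x, ← hxr, ← mul_assoc] at h
        exact mul_right_cancel h)
      refine mul_mem he' (hcenR ⟨r, hr⟩ (mem_center_iff.2 fun x => Subtype.ext ?_))
      have h := hge (x : G)
      rw [← mul_assoc, hsmallC.central_of_mem he' x, mul_assoc, mul_assoc] at h
      exact mul_left_cancel h
    · by_contra h
      push Not at h
      exact hRab ⟨⟨fun x y => Subtype.ext
        (commutatorElement_eq_one_iff_mul_comm.1 (h x (mem_top _) y (mem_top _)))⟩⟩
  have hn3 : 3 ≤ n := by omega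
  rcases hmain with ⟨rfl, hcard, htype⟩ | ⟨hrel, hΩ, hΩcard, -⟩
  · refine finish (Or.inr ⟨rfl, ?_, htype⟩)
    rw [hcard]
    calc 16 = 2 ^ 4 := by norm_num
      _ ≤ 2 ^ (n + 1) := Nat.pow_le_pow_right two_pos (by omega)
  exfalso
  set M' := centralizer (Cfsg.powerClosure p 1 U' : Set R) with hM'
  have hΩM : Cfsg.omegaOne p M' ≤ M' := (closure_le _).2 fun x hx => hx.1
  obtain ⟨v, hvΩ, hvU⟩ : ∃ v ∈ Cfsg.omegaOne p M', v ∉ U' := by
    by_contra h
    push Not at h
    have hle : Cfsg.omegaOne p M' ≤ (zpowers z).subgroupOf R := fun x hx => mem_subgroupOf.2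
      (hUz _ (mem_subgroupOf.1 (h x hx)) (by simpa using congrArg Subtype.val (hΩ.2 x hx)))
    have h1 := Nat.le_of_dvd Nat.card_pos (card_dvd_of_le hle)
    rw [Nat.card_congr (subgroupOfEquivOfLe ((zpowers_le.2 (hUR hzU)) : zpowers z ≤ R)).toEquiv,
      Nat.card_zpowers, hzo, hΩcard] at h1
    have h2 : p < p ^ 2 := by
      calc p = p * 1 := (mul_one p).symm
        _ < p * p := Nat.mul_lt_mul_of_pos_left hp.out.one_lt hp.out.pos
        _ = p ^ 2 := (pow_two p).symm
    omega
  have hvp : (v : G) ^ p = 1 := by simpa using congrArg Subtype.val (hΩ.2 v hvΩ)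
  have hvM := (hMmem v).1 (hΩM hvΩ)
  have hgenM : ∀ r : R, r ∈ M' → ∃ (i : ℤ) (j : ℤ), (r : G) = a ^ i * (v : G) ^ j := by
    intro r hr
    have hUM : U' ≤ M' := fun u hu => (hMmem u).2
      (hUU _ hu _ (pow_mem haU p))
    have hle : U' ⊔ zpowers v ≤ M' := sup_le hUM (zpowers_le.2 (hΩM hvΩ))
    have h := relIndex_mul_relIndex U' (U' ⊔ zpowers v) M' le_sup_left hle
    rw [hrel] at h
    have h' : (U' ⊔ zpowers v).relIndex M' = 1 := by
      rcases (Nat.dvd_prime hp.out).1 ⟨_, h.symm⟩ with h0 | h0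
      · exact absurd (relIndex_eq_one.1 h0 (mem_sup_right (mem_zpowers v))) hvU
      · rw [h0] at h
        exact Nat.eq_of_mul_eq_mul_left hp.out.pos (h.trans (mul_one p).symm)
    have hn' : zpowers v ≤ normalizer (U' : Set R) := by rw [normalizer_eq_top]; exact le_top
    obtain ⟨u, hu, w, hw, rfl⟩ :=
      CfsgLib.Coprime.mem_sup_exists hn' (relIndex_eq_one.1 h' hr)
    obtain ⟨i, hi⟩ := hgenU _ (mem_subgroupOf.1 hu)
    obtain ⟨j, rfl⟩ := mem_zpowers_iff.1 hw
    exact ⟨i, j, by simp [hi]⟩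
  haveI hzn : (zpowers z).Normal := ⟨fun c hc g => by
    rw [hsmallC.central_of_mem hc g, mul_inv_cancel_right]; exact hc⟩
  set π := QuotientGroup.mk' (zpowers z) with hπ
  have hπ1 : ∀ x y : G, ⁅x, y⁆ ∈ zpowers z → Commute (π x) (π y) := by
    intro x y h
    refine commutatorElement_eq_one_iff_mul_comm.1 ?_
    rw [← map_commutatorElement]
    exact (QuotientGroup.eq_one_iff _).2 h
  have hav : ⁅(v : G), a⁆ ∈ zpowers z := by
    rw [commutatorElement_def]
    have hw : (v : G) * a * (v : G)⁻¹ ∈ U :=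
      (inferInstance : U.Normal).conj_mem a haU v
    refine hUz _ (mul_mem hw (inv_mem haU)) ?_
    rw [(show Commute ((v : G) * a * (v : G)⁻¹) a⁻¹ from congrArg Subtype.val
      ((cen_comm C).1.comm ⟨_, hw⟩ ⟨_, inv_mem haU⟩)).mul_pow, conj_pow, hvM.eq,
      mul_inv_cancel_right, inv_pow, mul_inv_cancel]
  set MG := centralizer {a ^ p} with hMG
  have hMGdec : ∀ g ∈ MG, ∃ e ∈ E, ∃ (i j : ℤ), g = e * (a ^ i * (v : G) ^ j) := by
    intro g hg
    obtain ⟨e, he, r, hr, rfl⟩ := hER g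
    have hre : Commute r (a ^ p) := by
      have h1 : Commute e (a ^ p) := hUcomm _ (pow_mem haU p) e (hEC he)
      have h2 : Commute (e * r) (a ^ p) := mem_centralizer_singleton_iff.1 hg
      have := h1.inv_left.mul_left h2
      rwa [inv_mul_cancel_left] at this
    obtain ⟨i, j, hij⟩ := hgenM ⟨r, hr⟩ ((hMmem _).2 hre)
    exact ⟨e, he, i, j, by rw [← hij]⟩
  have hMGsmall : CfsgLib.SympPairs.Small p z MG := by
    refine ⟨hzp, hz1, mem_centralizer_singleton_iff.2 (hzcen _).symm, hzcen, fun x hx y hy => ?_⟩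
    obtain ⟨e, he, i, j, rfl⟩ := hMGdec x hx
    obtain ⟨e', he', i', j', rfl⟩ := hMGdec y hy
    have hE1 : ∀ w ∈ R, ∀ f ∈ E, Commute (π f) (π w) := fun w hw f hf =>
      (show Commute f w from mem_centralizer_iff.1 hw f hf).map π
    have hr : a ^ i * (v : G) ^ j ∈ R := mul_mem (zpow_mem (hUR haU) i) (zpow_mem v.2 j)
    have hr' : a ^ i' * (v : G) ^ j' ∈ R := mul_mem (zpow_mem (hUR haU) i') (zpow_mem v.2 j')
    have hva : Commute (π (v : G)) (π a) := hπ1 _ _ hav
    have hrr : Commute (π (a ^ i * (v : G) ^ j)) (π (a ^ i' * (v : G) ^ j')) := by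
      simp only [map_mul, map_zpow]
      exact ((((Commute.refl (π a)).zpow_zpow i i').mul_right (hva.symm.zpow_zpow i j')).mul_left
        (((hva.zpow_zpow j i')).mul_right ((Commute.refl (π (v : G))).zpow_zpow j j')))
    have h : Commute (π (e * (a ^ i * (v : G) ^ j))) (π (e' * (a ^ i' * (v : G) ^ j'))) := by
      rw [map_mul, map_mul π e']
      exact ((hπ1 e e' (hEsmall.comm e he e' he')).mul_right (hE1 _ hr' e he)).mul_left
        ((hE1 _ hr e' he').symm.mul_right hrr)
    rw [← QuotientGroup.eq_one_iff]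
    show π _ = 1
    rw [map_commutatorElement]
    exact commutatorElement_eq_one_iff_mul_comm.2 h
  have hch2 : p ∣ (p ^ 2).choose 2 := hp.out.dvd_choose_pow two_ne_zero (by
    have h2 := hp.out.two_le
    have : 2 * 2 ≤ p ^ 2 := by rw [pow_two]; exact Nat.mul_le_mul h2 h2
    omega)
  have hpow2 : ∀ x ∈ MG, ∀ y ∈ MG, (x * y) ^ p ^ 2 = x ^ p ^ 2 * y ^ p ^ 2 := by
    intro x hx y hy
    obtain ⟨k, hk⟩ := hch2
    rw [hMGsmall.mul_pow hx hy, hk, pow_mul, hMGsmall.comm_pow hy hx, one_pow, mul_one]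
  let K : Subgroup G :=
    { carrier := {g | g ∈ MG ∧ g ^ p ^ 2 = 1}
      one_mem' := ⟨one_mem MG, one_pow _⟩
      mul_mem' := fun {x y} hx hy => ⟨mul_mem hx.1 hy.1, by
        rw [hpow2 x hx.1 y hy.1, hx.2, hy.2, one_mul]⟩
      inv_mem' := fun {x} hx => ⟨inv_mem hx.1, by rw [inv_pow, hx.2, inv_one]⟩ }
  have hKchar : K.Characteristic := characteristic_iff_map_le.2 fun φ => by
    rintro _ ⟨k, hk, rfl⟩
    refine ⟨?_, by rw [← map_pow, hk.2]; exact map_one _⟩
    obtain ⟨i, hi⟩ := hgenU _ (CfsgLib.CFun.mem_of_map_conj φ.symm haU)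
    have h1 : Commute k ((a ^ p) ^ i) :=
      (show Commute k (a ^ p) from mem_centralizer_singleton_iff.1 hk.1).zpow_right i
    have h2 : (a ^ p) ^ i = φ.symm (a ^ p) := by
      rw [map_pow, ← hi, ← zpow_natCast, ← zpow_mul, ← zpow_natCast (a ^ i), ← zpow_mul, mul_comm]
    rw [h2] at h1
    rw [hMG, mem_centralizer_singleton_iff]
    have h3 := congrArg φ h1.eq
    simpa using h3
  have hAcyc := hsymp (CfsgLib.CFun.cen K) (cen_char hKchar) (cen_comm K)
  have hvK : (v : G) ∈ K := ⟨mem_centralizer_singleton_iff.2 hvM.eq, by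
    rw [pow_two, pow_mul, hvp, one_pow]⟩
  have hvA : (v : G) ∈ CfsgLib.CFun.cen K := by
    refine Subgroup.mem_inf.2 ⟨hvK, mem_centralizer_iff.2 fun g hg => ?_⟩
    obtain ⟨e, he, i, j, rfl⟩ := hMGdec g hg.1
    have hr : a ^ i * (v : G) ^ j ∈ R := mul_mem (zpow_mem (hUR haU) i) (zpow_mem v.2 j)
    have he2 : e ^ p ^ 2 = 1 := by
      obtain ⟨k, hk⟩ := mem_zpowers_iff.1 (hEp e he)
      rw [pow_two, pow_mul, ← hk, ← zpow_natCast, ← zpow_mul, mul_comm, zpow_mul, zpow_natCast, hzp,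
        one_zpow]
    have hvM' : (v : G) ∈ MG := hvK.1
    have haM : a ∈ MG := mem_centralizer_singleton_iff.2 ((Commute.refl a).pow_right p).eq
    have hg2 := hg.2
    have hvv : ((v : G) ^ j) ^ p ^ 2 = 1 := by
      rw [← zpow_natCast, ← zpow_mul, mul_comm, zpow_mul, zpow_natCast, pow_two, pow_mul, hvp,
        one_pow, one_zpow]
    rw [(show Commute e (a ^ i * (v : G) ^ j) from mem_centralizer_iff.1 hr e he).mul_pow, he2,
      one_mul, hpow2 _ (zpow_mem haM i) _ (zpow_mem hvM' j), hvv, mul_one, ← zpow_natCast,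
      ← zpow_mul, ← orderOf_dvd_iff_zpow_eq_one, hao,
      show p ^ n = p ^ 2 * p ^ (n - 2) by rw [← pow_add]; congr 1; omega, Nat.cast_mul,
      mul_comm i, mul_dvd_mul_iff_left (by exact_mod_cast (pow_pos hp.out.pos 2).ne')] at hg2
    obtain ⟨k, rfl⟩ : (p : ℤ) ∣ i := by
      refine dvd_trans ?_ hg2
      push_cast
      exact dvd_pow_self _ (by omega)
    have hev : Commute e (v : G) := mem_centralizer_iff.1 v.2 e he
    refine (hev.mul_left (Commute.mul_left ?_ ((Commute.refl (v : G)).zpow_left j))).eq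
    rw [zpow_mul, zpow_natCast]
    exact (hvM.symm.zpow_left k)
  have hzA : z ∈ CfsgLib.CFun.cen K := Subgroup.mem_inf.2 ⟨⟨hMGsmall.mem, by
    rw [pow_two, pow_mul, hzp, one_pow]⟩, mem_centralizer_iff.2 fun g _ => hzcen g⟩
  exact hvU (mem_subgroupOf.2 (zpowers_le.2 hzU
    (mem_zpowers_of_cyclic hAcyc hvA hzA hvp hzo)))

end CfsgLib.SympType
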