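import Cfsg.Agent.Lib.Coprime.Solvable
import Cfsg.Agent.Lib.Coprime.Action
import Cfsg.Agent.Lib.Coprime.UniqueOrderP
import Mathlib.GroupTheory.SpecificGroups.ZGroup

/-!
# Trivial intersection Hall subgroups of π-separable groups

A non-normal TI subgroup `H` which is a Hall subgroup of its normalizer is a Hall subgroup; when
the group is π-separable for `π = π(H)` and Sylow 2-subgroups of `H` are abelian, all Sylow
subgroups of `H` are cyclic, and `C_H(Q)` has a normal complement for a complement `Q` of `H` in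
its normalizer.
-/

set_option autoImplicit false
set_option linter.style.haveILetI false
set_option linter.unusedSectionVars false

open Subgroup
open scoped commutatorElement

namespace CfsgLib.PGroup.TIHall

open CfsgLib.Coprime

variable {G : Type*} [Group G] [Finite G] (H : Subgroup G)

/-- If `g` sends a non-trivial element of `H` into `H` then it normalizes `H`. -/
theorem mem_normalizer_of_conj_mem (hTI : Cfsg.IsTISubset (H : Set G)) {g x : G} (hx : x ∈ H)
    (hgx : g * x * g⁻¹ ∈ H) (hx1 : x ≠ 1) : g ∈ Subgroup.normalizer (H : Set G) := by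
  by_contra hg
  exact hx1 (hTI g hg x hx hgx)

theorem exists_sylow_in (p : ℕ) [Fact p.Prime] :
    ∃ P : Subgroup G, P ≤ H ∧ IsSylowIn p P H :=
  ⟨_, map_subtype_le _, isSylowIn_map (default : Sylow p H)⟩

/-- A TI subgroup which is a Hall subgroup of its normalizer is a Hall subgroup. -/
theorem coprime_index (hTI : Cfsg.IsTISubset (H : Set G))
    (hHall : (Nat.card H).Coprime (H.subgroupOf (Subgroup.normalizer (H : Set G))).index) :
    (Nat.card H).Coprime H.index := by
  refine Nat.coprime_of_dvd fun p hp hpH hpi => ?_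
  haveI := Fact.mk hp
  obtain ⟨P, hPH, hP⟩ := exists_sylow_in H p
  obtain ⟨S, hPS⟩ := hP.isPGroup.exists_le_sylow
  rcases eq_or_lt_of_le hPS with h | h
  · -- then `P` is a Sylow subgroup and `p` does not divide `|G : H|`
    apply S.not_dvd_index
    rw [← h, ← Subgroup.relIndex_mul_index hPH]
    exact dvd_mul_of_dvd_right hpi _
  · haveI : Group.IsNilpotent S := S.isPGroup'.isNilpotent
    have hne : P.subgroupOf S ≠ ⊤ := fun e => h.not_ge (subgroupOf_eq_top.1 e)
    obtain ⟨g, hgN, hgP⟩ := SetLike.exists_of_lt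
      (Group.normalizerCondition_of_isNilpotent _ hne.lt_top)
    have hPne : P ≠ ⊥ := by
      intro hb
      have h2 := hP.2
      rw [hb, Subgroup.card_bot] at h2
      exact absurd h2.symm (Nat.one_lt_pow (Nat.pos_iff_ne_zero.1
        (hp.factorization_pos_of_dvd Nat.card_pos.ne' hpH)) hp.one_lt).ne'
    obtain ⟨⟨x, hxP⟩, hx1⟩ := Subgroup.ne_bot_iff_exists_ne_one.1 hPne
    have hconj : ∀ y ∈ P, (g : G) * y * (g : G)⁻¹ ∈ P := fun y hy =>
      (Subgroup.mem_normalizer_iff.1 hgN ⟨y, hPS hy⟩).1 hy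
    have hgNH : (g : G) ∈ Subgroup.normalizer (H : Set G) :=
      mem_normalizer_of_conj_mem H hTI (hPH hxP) (hPH (hconj _ hxP))
        fun e => hx1 (Subtype.ext e)
    -- `g` is a `p`-element of the normalizer of `H`, hence lies in `H`
    have hgH : (g : G) ∈ H := by
      haveI : (H.subgroupOf (Subgroup.normalizer (H : Set G))).Normal := inferInstance
      set f := QuotientGroup.mk' (H.subgroupOf (Subgroup.normalizer (H : Set G)))
      obtain ⟨k, hk⟩ := S.isPGroup' g
      have h1 : orderOf (f ⟨g, hgNH⟩) ∣ p ^ k := orderOf_dvd_of_pow_eq_one (by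
        rw [← map_pow]
        have : (⟨g, hgNH⟩ : Subgroup.normalizer (H : Set G)) ^ p ^ k = 1 :=
          Subtype.ext (congrArg Subtype.val hk :)
        rw [this, map_one])
      have h2 : orderOf (f ⟨g, hgNH⟩) ∣ (H.subgroupOf (Subgroup.normalizer (H : Set G))).index :=
        orderOf_dvd_natCard _
      have h3 := Nat.eq_one_of_dvd_coprimes
        (Nat.Coprime.pow_left k (Nat.Coprime.coprime_dvd_left hpH hHall)) h1 h2
      have h4 := (QuotientGroup.eq_one_iff (⟨g, hgNH⟩ : Subgroup.normalizer (H : Set G))).1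
        (orderOf_eq_one_iff.1 h3)
      exact Subgroup.mem_subgroupOf.1 h4
    -- `P⟨g⟩` is a larger `p`-subgroup of `H`
    have hle : (S : Subgroup G) ⊓ H ≤ P := by
      refine le_of_eq (Subgroup.eq_of_le_of_card_ge (le_inf hPS hPH) ?_).symm
      have hS : IsPGroup p ↥((S : Subgroup G) ⊓ H) := S.isPGroup'.to_le inf_le_left
      obtain ⟨n, hn⟩ := IsPGroup.iff_card.1 hS
      rw [hn, hP.2]
      exact Nat.pow_le_pow_right hp.pos ((hp.pow_dvd_iff_le_factorization Nat.card_pos.ne').1
        (hn ▸ Subgroup.card_dvd_of_le inf_le_right))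
    exact hgP (Subgroup.mem_subgroupOf.2 (hle ⟨g.2, hgH⟩))

/-- The primes of `H`. -/
abbrev primesOf : Set ℕ := {q | q ∣ Nat.card H}

/-- `O_{π'}(G)` for `π = π(H)`. -/
abbrev core' : Subgroup G := Cfsg.piCore {q | ¬ q ∣ Nat.card H} G

theorem coprime_of_isPiNum {n : ℕ} (hn : IsPiNum {q | ¬ q ∣ Nat.card H} n) :
    (Nat.card H).Coprime n :=
  Nat.coprime_of_dvd fun q hq hqH hqn => hn q hq hqn hqH

theorem isPiNum_of_coprime {n : ℕ} (hn : (Nat.card H).Coprime n) :
    IsPiNum {q | ¬ q ∣ Nat.card H} n :=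
  fun q hq hqn hqH => hq.ne_one (Nat.eq_one_of_dvd_coprimes hn hqH hqn)

theorem coprime_core' : (Nat.card H).Coprime (Nat.card (core' H)) :=
  coprime_of_isPiNum H (piCore_isPiNum _)

/-- A normal π-subgroup lies in a Hall π-subgroup. -/
theorem le_of_normal_isPiNum (hH : (Nat.card H).Coprime H.index) (D : Subgroup G) [D.Normal]
    (hD : IsPiNum (primesOf H) (Nat.card D)) : D ≤ H := by
  have h1 : H.relIndex (H ⊔ D) ∣ H.index := Subgroup.relIndex_dvd_index_of_le le_sup_left
  have h2 : Nat.card H * H.relIndex (H ⊔ D) = Nat.card (H ⊔ D : Subgroup G) := by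
    have e := Subgroup.relIndex_mul_relIndex ⊥ H (H ⊔ D) bot_le le_sup_left
    rwa [Subgroup.relIndex_bot_left, Subgroup.relIndex_bot_left] at e
  have h3 : H.relIndex (H ⊔ D) ∣ Nat.card D :=
    Nat.dvd_of_mul_dvd_mul_left Nat.card_pos (h2 ▸ card_sup_dvd_of_normal H D)
  have h4 : H.relIndex (H ⊔ D) = 1 := by
    by_contra hne
    obtain ⟨q, hq, hqd⟩ := Nat.exists_prime_and_dvd hne
    exact hq.ne_one (Nat.eq_one_of_dvd_coprimes hH (hD q hq (hqd.trans h3)) (hqd.trans h1))
  exact le_sup_right.trans (Subgroup.relIndex_eq_one.1 h4)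

theorem eq_bot_of_normal_isPiNum (hTI : Cfsg.IsTISubset (H : Set G)) (hnn : ¬ H.Normal)
    (hH : (Nat.card H).Coprime H.index) (D : Subgroup G) [D.Normal]
    (hD : IsPiNum (primesOf H) (Nat.card D)) : D = ⊥ := by
  have hle := le_of_normal_isPiNum H hH D hD
  by_contra hne
  obtain ⟨⟨d, hd⟩, hd1⟩ := Subgroup.ne_bot_iff_exists_ne_one.1 hne
  refine hnn (Subgroup.normalizer_eq_top_iff.1 (eq_top_iff.2 fun g _ => ?_))
  exact mem_normalizer_of_conj_mem H hTI (hle hd) (hle (Subgroup.Normal.conj_mem ‹_› d hd g))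
    fun e => hd1 (Subtype.ext e)

/-- The separability hypothesis produces a normal subgroup just above a proper `O_{π'}`. -/
theorem exists_normal_above
    (hsep : ∃ (n : ℕ) (M : Fin (n + 1) → Subgroup G), M 0 = ⊥ ∧ M (Fin.last n) = ⊤ ∧ Monotone M ∧
      (∀ i, (M i).Normal) ∧
      ∀ i : Fin n, (∀ q : ℕ, q.Prime → q ∣ (M i.castSucc).relIndex (M i.succ) → q ∣ Nat.card H) ∨
        ((M i.castSucc).relIndex (M i.succ)).Coprime (Nat.card H))
    (hL : core' H ≠ ⊤) :
    ∃ D : Subgroup G, D.Normal ∧ core' H < D ∧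
      IsPiNum (primesOf H) ((core' H).relIndex D) := by
  obtain ⟨n, M, h0, hlast, -, hn, hstep⟩ := hsep
  obtain ⟨i, hi1, hi2⟩ : ∃ i : Fin n, M i.castSucc ≤ core' H ∧ ¬ M i.succ ≤ core' H := by
    by_contra hcon
    push Not at hcon
    have hall : ∀ j : Fin (n + 1), M j ≤ core' H := fun j => by
      induction j using Fin.induction with
      | zero => rw [h0]; exact bot_le
      | succ j ih => exact hcon j ih
    exact hL (top_le_iff.1 (hlast ▸ hall _))
  haveI := hn i.succ
  set D := core' H ⊔ M i.succ with hD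
  have hlt : core' H < D := lt_of_le_of_ne le_sup_left fun e => hi2 (e.symm ▸ le_sup_right)
  have hrel : (core' H).relIndex D ∣ (M i.castSucc).relIndex (M i.succ) := by
    rw [hD, sup_comm, Subgroup.relIndex_sup_right]
    exact Subgroup.relIndex_dvd_of_le_left _ hi1
  refine ⟨D, inferInstance, hlt, fun q hq hqd => ?_⟩
  rcases hstep i with h | h
  · exact h q hq (hqd.trans hrel)
  · exfalso
    have hc : (Nat.card H).Coprime (Nat.card D) := by
      have e := Subgroup.relIndex_mul_relIndex ⊥ (core' H) D bot_le le_sup_left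
      rw [Subgroup.relIndex_bot_left, Subgroup.relIndex_bot_left] at e
      rw [← e]
      exact (coprime_core' H).mul_right (Nat.Coprime.coprime_dvd_right hrel h.symm)
    exact hlt.not_ge (le_piCore (isPiNum_of_coprime H hc))

/-- An element of `O_{π'}` normalizing `H` centralizes it. -/
theorem mem_centralizer_of_core' {l : G} (hl : l ∈ core' H)
    (hN : l ∈ Subgroup.normalizer (H : Set G)) : l ∈ Subgroup.centralizer (H : Set G) :=
  mem_centralizer_of_mem_normalizer (by rw [Subgroup.normalizer_eq_top]; exact le_top)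
    (coprime_core' H) hl hN

variable (hTI : Cfsg.IsTISubset (H : Set G)) (hnn : ¬ H.Normal)
  (hH : (Nat.card H).Coprime H.index)
  (hsep : ∃ (n : ℕ) (M : Fin (n + 1) → Subgroup G), M 0 = ⊥ ∧ M (Fin.last n) = ⊤ ∧ Monotone M ∧
      (∀ i, (M i).Normal) ∧
      ∀ i : Fin n, (∀ q : ℕ, q.Prime → q ∣ (M i.castSucc).relIndex (M i.succ) → q ∣ Nat.card H) ∨
        ((M i.castSucc).relIndex (M i.succ)).Coprime (Nat.card H))

include hTI hnn hH hsep

theorem core'_ne_top : core' H ≠ ⊤ := by
  intro h
  have h1 := coprime_core' H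
  rw [h, Subgroup.card_top] at h1
  have h2 := Nat.eq_one_of_dvd_coprimes h1 dvd_rfl (Subgroup.card_subgroup_dvd_card H)
  exact hnn ((Subgroup.card_eq_one.1 h2).symm ▸ inferInstance)

/-- Above `O_{π'}` there is a normal subgroup `O_{π'} H₀` with `H₀ = D ∩ H` non-trivial. -/
theorem exists_normal_split :
    ∃ D : Subgroup G, D.Normal ∧ core' H ≤ D ∧ D ⊓ H ≠ ⊥ ∧ core' H ⊔ (D ⊓ H) = D := by
  obtain ⟨D, hDn, hlt, hπ⟩ := exists_normal_above H hsep (core'_ne_top H hTI hnn hH hsep)
  haveI := hDn
  set L := core' H with hLdef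
  have hcopL := coprime_core' H
  have eD : Nat.card L * L.relIndex D = Nat.card D := by
    have e := Subgroup.relIndex_mul_relIndex ⊥ L D bot_le hlt.le
    rwa [Subgroup.relIndex_bot_left, Subgroup.relIndex_bot_left] at e
  have eI : Nat.card ↥(D ⊓ H) * H.relIndex D = Nat.card D := by
    have e := Subgroup.relIndex_mul_relIndex ⊥ (D ⊓ H) D bot_le inf_le_left
    rwa [Subgroup.relIndex_bot_left, Subgroup.relIndex_bot_left, inf_comm D H,
      Subgroup.inf_relIndex_right, inf_comm H D] at e
  have hrel : H.relIndex D ∣ H.index := by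
    have h1 : H.relIndex D ≤ H.relIndex (H ⊔ D) :=
      Subgroup.relIndex_le_of_le_right le_sup_right Subgroup.index_ne_zero_of_finite
    have h2 : H.relIndex (H ⊔ D) = H.relIndex D := by
      have e1 := Subgroup.relIndex_mul_relIndex (D ⊓ H) H (H ⊔ D) inf_le_right le_sup_left
      have e2 := Subgroup.relIndex_mul_relIndex (D ⊓ H) D (H ⊔ D) inf_le_left le_sup_right
      have e3 : D.relIndex (H ⊔ D) = D.relIndex H := Subgroup.relIndex_sup_right H D
      have e4 : (D ⊓ H).relIndex H = D.relIndex H := Subgroup.inf_relIndex_right D H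
      have e5 : (D ⊓ H).relIndex D = H.relIndex D := by
        rw [inf_comm, Subgroup.inf_relIndex_right]
      rw [e4] at e1; rw [e3, e5] at e2
      refine Nat.eq_of_mul_eq_mul_left (n := D.relIndex H)
        (Nat.pos_of_ne_zero Subgroup.index_ne_zero_of_finite) ?_
      rw [e1, ← e2, mul_comm]
    exact h2 ▸ Subgroup.relIndex_dvd_index_of_le le_sup_left
  have hDH : Nat.card ↥(D ⊓ H) ∣ Nat.card H := Subgroup.card_dvd_of_le inf_le_right
  have c1 : (L.relIndex D).Coprime (H.relIndex D) := Nat.coprime_of_dvd fun q hq hq1 hq2 =>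
    hq.ne_one (Nat.eq_one_of_dvd_coprimes hH (hπ q hq hq1) (hq2.trans hrel))
  have hr1 : L.relIndex D ∣ Nat.card ↥(D ⊓ H) :=
    c1.dvd_of_dvd_mul_right (eI ▸ eD ▸ dvd_mul_left _ _)
  have hne : D ⊓ H ≠ ⊥ := fun h => by
    rw [h, Subgroup.card_bot, Nat.dvd_one] at hr1
    exact hlt.not_ge (Subgroup.relIndex_eq_one.1 hr1)
  refine ⟨D, hDn, hlt.le, hne, ?_⟩
  refine Subgroup.eq_of_le_of_card_ge (sup_le hlt.le inf_le_left) ?_
  rw [← eD]
  refine Nat.le_of_dvd Nat.card_pos ?_
  refine Nat.Coprime.mul_dvd_of_dvd_of_dvd ?_ (Subgroup.card_dvd_of_le le_sup_left)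
    (hr1.trans (Subgroup.card_dvd_of_le le_sup_right))
  exact Nat.Coprime.coprime_dvd_right (hr1.trans hDH) hcopL.symm

theorem not_core'_le_centralizer : ¬ core' H ≤ Subgroup.centralizer (H : Set G) := by
  intro hle
  obtain ⟨D, hDn, hLD, hne, hsup⟩ := exists_normal_split H hTI hnn hH hsep
  haveI := hDn
  -- `D ∩ H` is normal in `D`
  have hn : ((D ⊓ H).subgroupOf D).Normal := by
    refine (Subgroup.normal_subgroupOf_iff_le_normalizer inf_le_left).2 ?_
    calc D = core' H ⊔ (D ⊓ H) := hsup.symm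
      _ ≤ _ := sup_le (fun l hl => Subgroup.centralizer_le_normalizer _
          (Subgroup.centralizer_le (show ((D ⊓ H : Subgroup G) : Set G) ⊆ H from fun x hx => hx.2)
            (hle hl))) Subgroup.le_normalizer
  haveI := hn
  have h1 : (D ⊓ H).subgroupOf D ≤ Cfsg.piCore (primesOf H) D := by
    refine le_piCore (fun q hq hqd => ?_)
    rw [Nat.card_congr (Subgroup.subgroupOfEquivOfLe inf_le_left).toEquiv] at hqd
    exact hqd.trans (Subgroup.card_dvd_of_le inf_le_right)
  have h2 := Subgroup.map_mono (f := D.subtype) h1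
  rw [Subgroup.map_subgroupOf_eq_of_le inf_le_left, piCore_map_subtype_eq] at h2
  exact hne (le_bot_iff.1 ((h2.trans inf_le_left).trans
    (eq_bot_of_normal_isPiNum H hTI hnn hH _ (piCore_isPiNum _)).le))

/-- All Sylow subgroups of `H` are cyclic. -/
theorem isZGroup (h2 : ∀ P : Sylow 2 H, IsMulCommutative (P : Subgroup H)) : IsZGroup H := by
  refine ⟨fun p hp P => ?_⟩
  haveI := Fact.mk hp
  by_contra hnc
  have hPu : ¬ UniqueOrderP p (P : Subgroup H) := by
    intro hu
    by_cases hp2 : p = 2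
    · subst hp2
      haveI := h2 P
      exact hnc (isCyclic_of_comm_of_unique P.isPGroup' hu)
    · exact hnc (isCyclic_of_unique_odd hp2 P.isPGroup' hu)
  unfold UniqueOrderP at hPu
  push Not at hPu
  obtain ⟨x, y, hx, hy, hx1, hxy⟩ := hPu
  -- a central element of order `p` and another one outside it
  haveI : Nontrivial (P : Subgroup H) := ⟨⟨x, 1, hx1⟩⟩
  haveI := P.isPGroup'.center_nontrivial
  obtain ⟨z, hz⟩ : ∃ z : Subgroup.center (P : Subgroup H), orderOf z = p := by
    refine exists_prime_orderOf_dvd_card' p ?_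
    obtain ⟨n, hn⟩ := IsPGroup.iff_card.1 ((P.isPGroup').to_subgroup (Subgroup.center (P : Subgroup H)))
    have h1 : 1 < Nat.card (Subgroup.center (P : Subgroup H)) := Finite.one_lt_card
    rw [hn] at h1 ⊢
    exact dvd_pow_self p (fun h => by rw [h, pow_zero] at h1; exact lt_irrefl _ h1)
  obtain ⟨w, hw, hwz⟩ : ∃ w : (P : Subgroup H), w ^ p = 1 ∧
      w ∉ Subgroup.zpowers (z : (P : Subgroup H)) := by
    by_cases hxz : x ∈ Subgroup.zpowers (z : (P : Subgroup H))
    · refine ⟨y, hy, fun hyz => hxy ?_⟩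
      have hxo : Nat.card (Subgroup.zpowers x) = p := by
        rw [Nat.card_zpowers, orderOf_eq_prime hx hx1]
      have hzo : Nat.card (Subgroup.zpowers (z : (P : Subgroup H))) = p := by
        rw [Nat.card_zpowers, Subgroup.orderOf_coe, hz]
      rwa [Subgroup.eq_of_le_of_card_ge (Subgroup.zpowers_le.2 hxz) (by rw [hxo, hzo])]
    · exact ⟨x, hx, hxz⟩
  let E : Subgroup G := Subgroup.closure {((z : (P : Subgroup H)) : G), ((w : H) : G)}
  have hEH : E ≤ H := (Subgroup.closure_le H).2 (by
    intro e he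
    rcases he with rfl | rfl <;> exact SetLike.coe_mem _)
  have hcomm : Commute ((z : (P : Subgroup H)) : G) ((w : H) : G) :=
    congrArg (fun e : (P : Subgroup H) => ((e : H) : G)) (Subgroup.mem_center_iff.1 z.2 w).symm
  haveI : IsMulCommutative E := Subgroup.isMulCommutative_closure (by
    rintro a (rfl | rfl) b (rfl | rfl)
    · rfl
    · exact hcomm.eq
    · exact hcomm.eq.symm
    · rfl)
  have hEc : ¬ IsCyclic E := by
    intro hc
    classical
    haveI := Fintype.ofFinite E
    let zE : E := ⟨_, Subgroup.subset_closure (Set.mem_insert _ _)⟩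
    let wE : E := ⟨_, Subgroup.subset_closure (Set.mem_insert_of_mem _ (Set.mem_singleton _))⟩
    have hzEo : orderOf zE = p := by
      rw [← Subgroup.orderOf_coe]
      show orderOf ((((z : (P : Subgroup H)) : H) : G)) = p
      rw [Subgroup.orderOf_coe, Subgroup.orderOf_coe, Subgroup.orderOf_coe, hz]
    have hwE : wE ^ p = 1 := Subtype.ext
      (congrArg (fun e : (P : Subgroup H) => ((e : H) : G)) hw :)
    have hsub : insert wE ((Subgroup.zpowers zE : Set E).toFinset) ⊆
        Finset.univ.filter fun e : E => e ^ p = 1 := by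
      intro e he
      simp only [Finset.mem_insert, Set.mem_toFinset, SetLike.mem_coe] at he
      simp only [Finset.mem_filter, Finset.mem_univ, true_and]
      rcases he with rfl | ⟨i, rfl⟩
      · exact hwE
      · rw [← zpow_natCast, ← zpow_mul, mul_comm, zpow_mul, zpow_natCast, ← hzEo,
          pow_orderOf_eq_one, one_zpow]
    have hnotin : wE ∉ Subgroup.zpowers zE := by
      rintro ⟨i, hi⟩
      refine hwz ⟨i, Subtype.ext (Subtype.ext ?_)⟩
      have := congrArg Subtype.val hi
      simpa [zE, wE] using this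
    have h3 := (Finset.card_le_card hsub).trans (IsCyclic.card_pow_eq_one_le (α := E) hp.pos)
    rw [Finset.card_insert_of_notMem (by simpa using hnotin), Set.toFinset_card,
      ← Nat.card_eq_fintype_card] at h3
    have e : Nat.card ↑(Subgroup.zpowers zE : Set E) = p := by
      show Nat.card (Subgroup.zpowers zE) = p
      rw [Nat.card_zpowers, hzEo]
    omega
  refine not_core'_le_centralizer H hTI hnn hH hsep ?_
  have hEL : E ≤ Subgroup.normalizer (core' H : Set G) := by
    rw [Subgroup.normalizer_eq_top]; exact le_top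
  have hcopE : (Nat.card E).Coprime (Nat.card (core' H)) :=
    (coprime_core' H).coprime_dvd_left (Subgroup.card_dvd_of_le hEH)
  refine le_of_centralizers_le (A := E) hEc hEL hcopE (fun a ha ha1 => ?_)
  rintro l ⟨hl, hla⟩
  refine mem_centralizer_of_core' H hl (mem_normalizer_of_conj_mem H hTI (hEH ha) ?_ ha1)
  have : Commute l a := Subgroup.mem_centralizer_singleton_iff.1 hla
  rw [this.eq, mul_inv_cancel_right]
  exact hEH ha

/-- `G = O_{π'}(G) N(H)`. -/
theorem core'_sup_normalizer (h2 : ∀ P : Sylow 2 H, IsMulCommutative (P : Subgroup H)) :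
    core' H ⊔ Subgroup.normalizer (H : Set G) = ⊤ := by
  haveI := isZGroup H hTI hnn hH hsep h2
  obtain ⟨D, hDn, hLD, hne, hsup⟩ := exists_normal_split H hTI hnn hH hsep
  haveI := hDn
  refine eq_top_iff.2 fun g _ => ?_
  have hsol : Group.IsSolvable ↥(D ⊓ H) :=
    isSolvable_of_le inf_le_right (inferInstance : Group.IsSolvable H)
  have hcop : (Nat.card (core' H)).Coprime (Nat.card ↥(D ⊓ H)) :=
    (coprime_core' H).symm.coprime_dvd_right (Subgroup.card_dvd_of_le inf_le_right)
  have hB : conjBy g (D ⊓ H) ≤ (D ⊓ H) ⊔ core' H := by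
    rw [sup_comm, hsup]
    intro y hy
    rw [mem_conjBy] at hy
    have h := hDn.conj_mem _ hy.1 g
    rwa [show g * (g⁻¹ * y * g) * g⁻¹ = y by group] at h
  obtain ⟨l, hl, hlg⟩ := sz_conj_in (by rw [Subgroup.normalizer_eq_top]; exact le_top) hcop hB
    (card_conjBy _ _) (Or.inl hsol)
  rw [conjBy_conjBy] at hlg
  obtain ⟨⟨d, hd⟩, hd1⟩ := Subgroup.ne_bot_iff_exists_ne_one.1 hne
  have hmem : (l * g) * d * (l * g)⁻¹ ∈ D ⊓ H := by
    have h : (l * g) * d * (l * g)⁻¹ ∈ conjBy (l * g) (D ⊓ H) := conj_mem_conjBy hd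
    rwa [hlg] at h
  have hN := mem_normalizer_of_conj_mem H hTI hd.2 hmem.2 fun e => hd1 (Subtype.ext e)
  rw [show g = l⁻¹ * (l * g) by group]
  exact mul_mem_sup (inv_mem hl) hN

end CfsgLib.PGroup.TIHall

namespace CfsgLib.PGroup.TIHall

open CfsgLib.Coprime

/-- In a solvable group with abelian Sylow `p`-subgroup, an automorphism of order prime to `p`
fixing a Sylow `p`-subgroup pointwise acts trivially modulo the `p'`-core. -/
theorem inv_mul_mem_pPrimeCore {X : Type*} [Group X] [Finite X] [Group.IsSolvable X] {p : ℕ}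
    [Fact p.Prime] (P : Sylow p X) (hP : IsMulCommutative P) (θ : MulAut X) {n : ℕ}
    (hn : θ ^ n = 1) (hpn : ¬ p ∣ n) (hfix : ∀ y ∈ (P : Subgroup X), θ y = y) (h : X) :
    h⁻¹ * θ h ∈ Cfsg.pPrimeCore p X := by
  set K := Cfsg.pPrimeCore p X with hK
  haveI : K.Normal := Subgroup.sSup_normal _ (fun _ h => h.1)
  set f := QuotientGroup.mk' K with hf
  haveI : Group.IsSolvable (X ⧸ K) :=
    Group.isSolvable_of_surjective (QuotientGroup.mk'_surjective K)
  have hle := centralizer_pCore_le (G := X ⧸ K) (pPrimeCore_quotient_eq_bot (Fact.out : p.Prime))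
  set Pq := P.mapSurjective (QuotientGroup.mk'_surjective K)
  have hPK := sylow_sup_pPrimeCore_normal P hP
  have hKmap : K.map θ.toMonoidHom = K := map_pPrimeCore_equiv θ p
  have hθK : ∀ k ∈ K, θ k ∈ K := fun k hk => hKmap ▸ Subgroup.mem_map_of_mem _ hk
  set w := h⁻¹ * θ h with hw
  -- the image of `w` centralizes the image of `P`
  have hcent : f w ∈ Subgroup.centralizer (Cfsg.pCore p (X ⧸ K) : Set (X ⧸ K)) := by
    refine Subgroup.mem_centralizer_iff.2 fun u hu => ?_
    obtain ⟨y, hy, rfl⟩ := pCore_le_sylow Pq hu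
    have hy' : h * y * h⁻¹ ∈ (P : Subgroup X) ⊔ K :=
      hPK.conj_mem y ((le_sup_left : (P : Subgroup X) ≤ _) hy) h
    obtain ⟨a, ha, k, hk, hak⟩ := Subgroup.mem_sup_of_normal_right.1 hy'
    have e1 : θ h * y * (θ h)⁻¹ = a * θ k := by
      have := congrArg θ hak
      rw [map_mul, map_mul, map_mul, hfix a ha, hfix y hy, map_inv] at this
      exact this.symm
    have e2 : f (θ h) * f y * (f (θ h))⁻¹ = f h * f y * (f h)⁻¹ := by
      rw [← map_inv, ← map_mul, ← map_mul, e1, ← map_inv, ← map_mul, ← map_mul, ← hak, map_mul,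
        map_mul, show f k = 1 from (QuotientGroup.eq_one_iff k).2 hk,
        show f (θ k) = 1 from (QuotientGroup.eq_one_iff _).2 (hθK k hk)]
    show f y * f w = f w * f y
    rw [hw, map_mul, map_inv]
    calc f y * ((f h)⁻¹ * f (θ h)) = (f h)⁻¹ * (f h * f y * (f h)⁻¹) * f (θ h) := by group
      _ = (f h)⁻¹ * (f (θ h) * f y * (f (θ h))⁻¹) * f (θ h) := by rw [e2]
      _ = (f h)⁻¹ * f (θ h) * f y := by group
  obtain ⟨y, hy, hyw⟩ := pCore_le_sylow Pq (hle hcent)
  -- so it is fixed by `θ`
  have hiter : ∀ i : ℕ, f ((θ ^ i) h) = f h * f y ^ i := by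
    intro i
    induction i with
    | zero => simp
    | succ i ih =>
      obtain ⟨k, hk, hkey⟩ : ∃ k ∈ K, (θ ^ i) h = h * y ^ i * k := by
        refine ⟨(h * y ^ i)⁻¹ * (θ ^ i) h, ?_, by group⟩
        rw [← QuotientGroup.eq_one_iff, ← QuotientGroup.mk'_apply, ← hf, map_mul, map_inv, ih,
          map_mul, map_pow, inv_mul_cancel]
      have hθh : f (θ h) = f h * f y := by
        rw [hyw, hw, map_mul, map_inv, mul_inv_cancel_left]
      rw [pow_succ', MulAut.mul_apply, hkey]
      simp only [map_mul, map_pow, hfix y hy]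
      rw [hθh, show f (θ k) = 1 from (QuotientGroup.eq_one_iff _).2 (hθK k hk),
        mul_one, mul_assoc, ← pow_succ']
  have h1 := hiter n
  rw [hn, MulAut.one_apply, left_eq_mul] at h1
  obtain ⟨j, hj⟩ := P.isPGroup' ⟨y, hy⟩
  have h2 : f y ^ p ^ j = 1 := by
    rw [← map_pow, show y ^ p ^ j = 1 from congrArg Subtype.val hj, map_one]
  have h3 : f y = 1 := orderOf_eq_one_iff.1 (Nat.eq_one_of_dvd_coprimes
    ((((Fact.out : p.Prime).coprime_iff_not_dvd.2 hpn).pow_left j))
    (orderOf_dvd_of_pow_eq_one h2) (orderOf_dvd_of_pow_eq_one h1))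
  rw [h3] at hyw
  exact (QuotientGroup.eq_one_iff w).1 hyw.symm

variable {G : Type*} [Group G] [Finite G] {H Q : Subgroup G}

/-- Coprime action on a group with cyclic Sylow subgroups: each prime of the fixed points is
prime to the index of the fixed points and to the commutator. -/
theorem prime_of_fixed [IsZGroup H] (hQH : Q ≤ Subgroup.normalizer (H : Set G))
    (hcop : (Nat.card Q).Coprime (Nat.card H)) {p : ℕ} [Fact p.Prime]
    (hp : p ∣ Nat.card ↥(H ⊓ Subgroup.centralizer (Q : Set G))) :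
    ¬ p ∣ (H ⊓ Subgroup.centralizer (Q : Set G)).relIndex H ∧ ¬ p ∣ Nat.card ↥⁅H, Q⁆ := by
  have hHs : Group.IsSolvable H := inferInstance
  obtain ⟨a, ha⟩ := exists_prime_orderOf_dvd_card'
    (G := ↥(H ⊓ Subgroup.centralizer (Q : Set G))) p hp
  set u : G := (a : G) with hu
  have huo : orderOf u = p := by rw [hu, Subgroup.orderOf_coe, ha]
  have hU : IsPGroup p (Subgroup.zpowers u) :=
    IsPGroup.of_card (n := 1) (by rw [Nat.card_zpowers, huo, pow_one])
  have hUA : Q ≤ Subgroup.normalizer (Subgroup.zpowers u : Set G) := fun b hb => by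
    refine Subgroup.centralizer_le_normalizer _ (Subgroup.mem_centralizer_iff.2 ?_)
    rintro _ ⟨i, rfl⟩
    exact ((show Commute u b from (Subgroup.mem_centralizer_iff.1 a.2.2 b hb).symm).zpow_left i).eq
  obtain ⟨P, hP, huP, hPQ⟩ := le_invariant_sylow (p := p) hQH hcop (Or.inr hHs)
    (Subgroup.zpowers_le.2 a.2.1) hU hUA
  have hu1 : u ≠ 1 := fun h => by
    rw [h, orderOf_one] at huo; exact (Fact.out : p.Prime).ne_one huo.symm
  haveI hPc : IsCyclic P := by
    haveI h : IsCyclic ↥(P.subgroupOf H) := IsZGroup.isZGroup p Fact.out hP.toSylow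
    exact isCyclic_of_surjective _ (Subgroup.subgroupOfEquivOfLe hP.1).surjective
  haveI hPcomm : IsMulCommutative P := IsCyclic.isMulCommutative
  have hcopP : (Nat.card Q).Coprime (Nat.card P) :=
    hcop.coprime_dvd_right (Subgroup.card_dvd_of_le hP.1)
  -- `P` is centralized by `Q`
  have hPC : P ≤ Subgroup.centralizer (Q : Set G) := by
    have h0 := centralizer_inf_commutator_eq_bot (A := Q) hPcomm hPQ hcopP
    have hsupP := commutator_sup_centralizer hPQ hcopP (Or.inr (isSolvable_of_isMulCommutative hPcomm))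
    have hcb : ⁅P, Q⁆ = ⊥ := by
      by_contra hne
      have hle : ⁅P, Q⁆ ≤ P := le_sup_left.trans hsupP.le
      have hq : IsPGroup p ↥⁅P, Q⁆ := hP.isPGroup.to_le hle
      haveI : Nontrivial ↥⁅P, Q⁆ := (Subgroup.nontrivial_iff_ne_bot _).2 hne
      obtain ⟨n, hn⟩ := IsPGroup.iff_card.1 hq
      have hd : p ∣ Nat.card ↥⁅P, Q⁆ := by
        have h1 : 1 < Nat.card ↥⁅P, Q⁆ := Finite.one_lt_card
        rw [hn] at h1 ⊢
        exact dvd_pow_self p (fun h => by rw [h, pow_zero] at h1; exact lt_irrefl _ h1)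
      obtain ⟨v, hv⟩ := exists_prime_orderOf_dvd_card' p hd
      classical
      haveI := Fintype.ofFinite P
      let uP : P := ⟨u, huP (Subgroup.mem_zpowers u)⟩
      let vP : P := ⟨v, hle v.2⟩
      have huPo : orderOf uP = p := by rw [← Subgroup.orderOf_coe]; exact huo
      have hvPo : orderOf vP = p := by rw [← Subgroup.orderOf_coe]; rw [show ((vP : P) : G) = v from rfl, Subgroup.orderOf_coe, hv]
      have hmem : vP ∈ Subgroup.zpowers uP := by
        have hsub : (Subgroup.zpowers uP : Set P).toFinset ⊆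
            Finset.univ.filter fun e : P => e ^ p = 1 := by
          intro e he
          simp only [Set.mem_toFinset, SetLike.mem_coe] at he
          obtain ⟨i, rfl⟩ := he
          simp only [Finset.mem_filter, Finset.mem_univ, true_and]
          rw [← zpow_natCast, ← zpow_mul, mul_comm, zpow_mul, zpow_natCast, ← huPo,
            pow_orderOf_eq_one, one_zpow]
        have heq := Finset.eq_of_subset_of_card_le hsub (by
          rw [Set.toFinset_card, ← Nat.card_eq_fintype_card]
          show _ ≤ Nat.card (Subgroup.zpowers uP)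
          rw [Nat.card_zpowers, huPo]
          exact IsCyclic.card_pow_eq_one_le (Fact.out : p.Prime).pos)
        have hv' : vP ∈ (Subgroup.zpowers uP : Set P).toFinset := by
          rw [heq]
          simp only [Finset.mem_filter, Finset.mem_univ, true_and]
          rw [← hvPo, pow_orderOf_eq_one]
        simpa using hv'
      obtain ⟨i, hi⟩ := hmem
      have hvC : (v : G) ∈ (P ⊓ Subgroup.centralizer (Q : Set G)) ⊓ ⁅P, Q⁆ := by
        refine ⟨⟨hle v.2, ?_⟩, v.2⟩
        have e : (v : G) = u ^ i := by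
          rw [show (v : G) = ((vP : P) : G) from rfl, ← hi]; simp [uP]
        rw [e]
        exact zpow_mem (show u ∈ Subgroup.centralizer (Q : Set G) from a.2.2) i
      rw [h0, Subgroup.mem_bot] at hvC
      rw [show v = 1 from Subtype.ext hvC, orderOf_one] at hv
      exact (Fact.out : p.Prime).ne_one hv.symm
    rw [hcb, bot_sup_eq] at hsupP
    exact hsupP.ge.trans inf_le_right
  refine ⟨fun hd => ?_, fun hd => ?_⟩
  · have hle : P ≤ H ⊓ Subgroup.centralizer (Q : Set G) := le_inf hP.1 hPC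
    refine hP.toSylow.not_dvd_index (hd.trans ?_)
    show _ ∣ P.relIndex H
    exact Subgroup.relIndex_dvd_of_le_left _ hle
  · haveI : Group.IsSolvable H := hHs
    set K := (Cfsg.pPrimeCore p H).map H.subtype with hKdef
    have hB : ⁅H, Q⁆ ≤ K := by
      rw [Subgroup.commutator_le]
      intro h hh b hb
      let θ : MulAut H := Subgroup.normalizerMonoidHom H ⟨b, hQH hb⟩
      have hθ : ∀ y : H, ((θ y : H) : G) = b * y * b⁻¹ := fun y => rfl
      have hn : θ ^ orderOf b = 1 := by
        show (Subgroup.normalizerMonoidHom H ⟨b, hQH hb⟩) ^ orderOf b = 1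
        rw [← map_pow]
        have : (⟨b, hQH hb⟩ : Subgroup.normalizer (H : Set G)) ^ orderOf b = 1 :=
          Subtype.ext (by rw [SubmonoidClass.coe_pow, pow_orderOf_eq_one]; rfl)
        rw [this, map_one]
      have hpn : ¬ p ∣ orderOf b := fun hd => (Fact.out : p.Prime).ne_one
        (Nat.eq_one_of_dvd_coprimes hcop (hd.trans (Subgroup.orderOf_dvd_natCard Q hb))
          (hp.trans (Subgroup.card_dvd_of_le inf_le_left)))
      have hPs : IsMulCommutative (hP.toSylow : Subgroup H) := IsCyclic.isMulCommutative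
      have hfix : ∀ y ∈ (hP.toSylow : Subgroup H), θ y = y := fun y hy => by
        refine Subtype.ext ?_
        rw [hθ]
        have : b * (y : G) = (y : G) * b := Subgroup.mem_centralizer_iff.1 (hPC hy) b hb
        rw [this, mul_inv_cancel_right]
      have hmem := inv_mul_mem_pPrimeCore hP.toSylow hPs θ hn hpn hfix ⟨h⁻¹, inv_mem hh⟩
      refine ⟨_, hmem, ?_⟩
      show ((h⁻¹)⁻¹ * (b * h⁻¹ * b⁻¹) : G) = h * b * h⁻¹ * b⁻¹
      group
    have h1 := hd.trans (Subgroup.card_dvd_of_le hB)
    rw [hKdef, Subgroup.card_map_of_injective H.subtype_injective] at h1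
    exact pPrimeCore_not_dvd (Fact.out : p.Prime) h1

/-- The conclusion: `C_H(Q)` is a Hall subgroup of `G` with a normal complement. -/
theorem fixedPoints_hall_and_normal_complement (H : Subgroup G)
    (hTI : Cfsg.IsTISubset (H : Set G)) (hnn : ¬ H.Normal)
    (hHall : (Nat.card H).Coprime (H.subgroupOf (Subgroup.normalizer (H : Set G))).index)
    (hsep : ∃ (n : ℕ) (M : Fin (n + 1) → Subgroup G), M 0 = ⊥ ∧ M (Fin.last n) = ⊤ ∧ Monotone M ∧
      (∀ i, (M i).Normal) ∧
      ∀ i : Fin n, (∀ q : ℕ, q.Prime → q ∣ (M i.castSucc).relIndex (M i.succ) → q ∣ Nat.card H) ∨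
        ((M i.castSucc).relIndex (M i.succ)).Coprime (Nat.card H))
    (h2 : ∀ P : Sylow 2 H, IsMulCommutative (P : Subgroup H))
    (Q : Subgroup G) (hQ : Q ≤ Subgroup.normalizer (H : Set G)) (hQH : Q ⊓ H = ⊥)
    (hQH' : Q ⊔ H = Subgroup.normalizer (H : Set G)) :
    (Nat.card ↥(H ⊓ Subgroup.centralizer (Q : Set G))).Coprime
      (H ⊓ Subgroup.centralizer (Q : Set G)).index ∧
    ∃ N : Subgroup G, N.Normal ∧
      N.IsComplement' (H ⊓ Subgroup.centralizer (Q : Set G)) := by
  have hH := coprime_index H hTI hHall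
  haveI := isZGroup H hTI hnn hH hsep h2
  have hHs : Group.IsSolvable H := inferInstance
  have hcop : (Nat.card Q).Coprime (Nat.card H) := by
    refine Nat.Coprime.coprime_dvd_left ?_ hHall.symm
    set N := Subgroup.normalizer (H : Set G)
    have h1 : H.relIndex Q = Nat.card Q := by
      rw [← Subgroup.inf_relIndex_right, inf_comm, hQH, Subgroup.relIndex_bot_left]
    rw [← h1]
    show H.relIndex Q ∣ H.relIndex N
    haveI hn : (H.subgroupOf N).Normal := inferInstance
    have e : H.relIndex N = H.relIndex Q := by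
      conv_lhs => rw [← hQH']
      rw [← Subgroup.relIndex_subgroupOf (hQH'.le : Q ⊔ H ≤ N),
        Subgroup.subgroupOf_sup hQ Subgroup.le_normalizer, Subgroup.relIndex_sup_right,
        Subgroup.relIndex_subgroupOf hQ]
    rw [e]
  set A := H ⊓ Subgroup.centralizer (Q : Set G) with hA
  set L := core' H with hL
  set B := ⁅H, Q⁆ with hB
  have hAH : A ≤ H := inf_le_left
  have hidx : (Nat.card A).Coprime A.index := by
    rw [← Subgroup.relIndex_mul_index hAH]
    refine Nat.Coprime.mul_right (Nat.coprime_of_dvd fun p hp hpA hpr => ?_)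
      (hH.coprime_dvd_left (Subgroup.card_dvd_of_le hAH))
    haveI := Fact.mk hp
    exact (prime_of_fixed hQ hcop hpA).1 hpr
  refine ⟨hidx, ?_⟩
  have hBH : B ≤ H := by
    rw [hB, Subgroup.commutator_le]
    intro h hh b hb
    rw [commutatorElement_def, show h * b * h⁻¹ * b⁻¹ = h * (b * h⁻¹ * b⁻¹) by group]
    exact mul_mem hh (conj_mem_of_le_normalizer hQ hb (inv_mem hh))
  have hHB : H ≤ Subgroup.normalizer (B : Set G) := Subgroup.normalizer_commutator_ge_left H Q
  have hQB : Q ≤ Subgroup.normalizer (B : Set G) := by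
    rw [hB, Subgroup.commutator_comm]; exact Subgroup.normalizer_commutator_ge_left Q H
  have hNQB : Subgroup.normalizer (H : Set G) ≤ Subgroup.normalizer ((Q ⊔ B : Subgroup G) : Set G) := by
    rw [← hQH']
    refine sup_le (Coprime.sup_le_normalizer Subgroup.le_normalizer hQB) ?_
    intro h hh
    have hmem : ∀ h ∈ H, ∀ y ∈ Q ⊔ B, h * y * h⁻¹ ∈ Q ⊔ B := by
      intro h hh y hy
      have hle : Q ⊔ B ≤ (Q ⊔ B).comap (MulAut.conj h).toMonoidHom := by
        refine sup_le (fun b hb => ?_) (fun b hb => ?_)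
        · show h * b * h⁻¹ ∈ (Q ⊔ B : Subgroup G)
          rw [show h * b * h⁻¹ = (h * b * h⁻¹ * b⁻¹) * b by group]
          exact mul_mem ((le_sup_right : B ≤ Q ⊔ B) (Subgroup.commutator_mem_commutator hh hb))
            ((le_sup_left : Q ≤ Q ⊔ B) hb)
        · show h * b * h⁻¹ ∈ (Q ⊔ B : Subgroup G)
          exact (le_sup_right : B ≤ Q ⊔ B) ((Subgroup.mem_normalizer_iff.1 (hHB hh) b).1 hb)
      exact hle hy
    refine Subgroup.mem_normalizer_iff.2 fun y => ⟨hmem h hh y, fun hy => ?_⟩
    have := hmem h⁻¹ (inv_mem hh) _ hy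
    rwa [inv_inv, show h⁻¹ * (h * y * h⁻¹) * h = y by group] at this
  have htop := core'_sup_normalizer H hTI hnn hH hsep h2
  set N := L ⊔ (Q ⊔ B) with hN
  haveI hNn : N.Normal := by
    refine Subgroup.normalizer_eq_top_iff.1 (eq_top_iff.2 ?_)
    rw [← htop]
    refine sup_le ((le_sup_left : L ≤ N).trans Subgroup.le_normalizer) ?_
    exact Coprime.sup_le_normalizer (le_top.trans (Subgroup.normalizer_eq_top (H := L)).ge) hNQB
  have hNA : (Nat.card N).Coprime (Nat.card A) := by
    refine Nat.Coprime.coprime_dvd_left ?_ (?_ : (Nat.card L * (Nat.card Q * Nat.card B)).Coprime _)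
    · rw [hN, sup_comm]
      refine (card_sup_dvd_of_normal (Q ⊔ B) L).trans ?_
      rw [mul_comm]
      exact mul_dvd_mul_left _ (card_sup_dvd_of_le_normalizer hQB)
    · refine Nat.Coprime.mul_left ?_ (Nat.Coprime.mul_left ?_ ?_)
      · exact (coprime_core' H).symm.coprime_dvd_right (Subgroup.card_dvd_of_le hAH)
      · exact hcop.coprime_dvd_right (Subgroup.card_dvd_of_le hAH)
      · refine Nat.coprime_of_dvd fun p hp hpB hpA => ?_
        haveI := Fact.mk hp
        exact (prime_of_fixed hQ hcop hpA).2 hpB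
  refine ⟨N, hNn, Subgroup.isComplement'_of_disjoint_and_mul_eq_univ
    (Subgroup.disjoint_of_coprime_natCard hNA) ?_⟩
  rw [← Subgroup.normal_mul, ← Subgroup.coe_top]
  refine congrArg _ (eq_top_iff.2 ?_)
  rw [← htop, ← hQH']
  have hHle : H ≤ B ⊔ A :=
    (commutator_sup_centralizer hQ hcop (Or.inr hHs)).ge
  refine sup_le (le_trans (le_sup_left (b := Q ⊔ B)) le_sup_left) (sup_le ?_ (hHle.trans (sup_le ?_ le_sup_right)))
  · exact (le_sup_left : Q ≤ Q ⊔ B).trans ((le_sup_right : Q ⊔ B ≤ N).trans le_sup_left)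
  · exact (le_sup_right : B ≤ Q ⊔ B).trans ((le_sup_right : Q ⊔ B ≤ N).trans le_sup_left)

end CfsgLib.PGroup.TIHall
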