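import Cfsg.Agent.Lib.PGroup.TIHall
import Cfsg.Agent.Lib.Char.Zassenhaus.Main
import Cfsg.Agent.Lib.Coprime.Component
import Cfsg.Agent.Lib.Invol.QuaternionSection

/-!
# π-separable groups with a TI Hall subgroup: structure and solvability

With no assumption on the Sylow 2-subgroups: `G = O_{π'}(G) N(H)`, the subgroup `O_{π'}(G) H` is
normal, and when `O_{π'}(G)` is solvable, `H` acts fixed point freely on a section of it, so that
`G` is solvable as soon as `H` has no subgroup isomorphic to `SL(2,5)`.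
-/

set_option autoImplicit false
set_option linter.style.haveILetI false
set_option linter.unusedSectionVars false

open Subgroup
open scoped commutatorElement

namespace CfsgLib.PGroup.TIHall

open CfsgLib.Coprime CfsgLib.Char.Zassenhaus

/-- `SL(2,5)` is not solvable. -/
theorem not_isSolvable_sl25 : ¬ Group.IsSolvable SL25 := by
  intro h
  haveI := h
  haveI : Nontrivial SL25 := ⟨⟨A5, 1, fun e => by
    have h1 := congrArg toQ e
    rw [toQ_A5, toQ_one] at h1
    revert h1
    decide +kernel⟩⟩
  refine (Group.IsSolvable.commutator_lt_top_of_nontrivial SL25).ne ?_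
  rw [eq_top_iff]
  intro g _
  let x : SL25 := ⟨!![0, 2; 2, 0], by rw [Matrix.det_fin_two_of]; decide +kernel⟩
  let y : SL25 := ⟨!![0, 1; 4, 1], by rw [Matrix.det_fin_two_of]; decide +kernel⟩
  let z : SL25 := ⟨!![0, 1; 4, 4], by rw [Matrix.det_fin_two_of]; decide +kernel⟩
  have hx : toQ x = (0, 2, 2, 0) := by simp [toQ, x]
  have hy : toQ y = (0, 1, 4, 1) := by simp [toQ, y]
  have hz : toQ z = (0, 1, 4, 4) := by simp [toQ, z]
  have hA : A5 = ⁅x, y⁆ := by
    rw [commutatorElement_def, eq_mul_inv_iff_mul_eq, eq_mul_inv_iff_mul_eq]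
    apply toQ_injective
    simp only [toQ_mul, toQ_A5, hx, hy]
    decide +kernel
  have hB : B5 = ⁅x, z⁆ := by
    rw [commutatorElement_def, eq_mul_inv_iff_mul_eq, eq_mul_inv_iff_mul_eq]
    apply toQ_injective
    simp only [toQ_mul, toQ_B5, hx, hz]
    decide +kernel
  refine sl25_induction (p := fun g => g ∈ _root_.commutator SL25) (one_mem _) (fun g hg => ?_)
    (fun g hg => ?_) g
  · exact mul_mem hg (hA ▸ Subgroup.commutator_mem_commutator (Subgroup.mem_top x) (Subgroup.mem_top y))
  · exact mul_mem hg (hB ▸ Subgroup.commutator_mem_commutator (Subgroup.mem_top x) (Subgroup.mem_top z))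

/-- Automorphism groups of order prime to `p` of `p`-groups with one subgroup of order `p`. -/
theorem isSolvable_aut_of_uniqueOrderP {P : Type*} [Group P] [Finite P] {p : ℕ} [Fact p.Prime]
    (hP : IsPGroup p P) (hu : UniqueOrderP p P) (A : Subgroup (MulAut P))
    (hcop : (Nat.card A).Coprime p) : Group.IsSolvable A := by
  rcases cyclic_or_quaternion_of_unique hP hu with hc | ⟨rfl, n, ⟨e⟩⟩
  · haveI := hc
    refine isSolvable_of_isMulCommutative ⟨⟨fun a b => Subtype.ext (MulEquiv.ext fun g => ?_)⟩⟩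
    obtain ⟨i, hi⟩ := MonoidHom.map_cyclic ((a : MulAut P) : P →* P)
    obtain ⟨j, hj⟩ := MonoidHom.map_cyclic ((b : MulAut P) : P →* P)
    change (a : MulAut P) ((b : MulAut P) g) = (b : MulAut P) ((a : MulAut P) g)
    simp only [MonoidHom.coe_coe] at hi hj
    rw [hj g, hi, hi g, hj, ← zpow_mul, ← zpow_mul, mul_comm]
  · haveI : Fact (Nat.Prime 3) := ⟨Nat.prime_three⟩
    have h3 : IsPGroup 3 A := fun a => ⟨1, by
      rw [pow_one]
      by_cases ha : (a : MulAut P) = 1
      · exact Subtype.ext (by push_cast; rw [ha, one_pow])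
      · refine Subtype.ext ?_
        have hodd : Odd (orderOf (a : MulAut P)) := by
          rw [Subgroup.orderOf_coe]
          exact Nat.coprime_two_right.1 (hcop.coprime_dvd_left (orderOf_dvd_natCard a))
        exact (CfsgLib.Invol.quaternion_subgroup_of_aut hP e.toMonoidHom e.injective
          (a : MulAut P) hodd (pow_orderOf_eq_one _) ha).2.2⟩
    haveI := h3.isNilpotent
    infer_instance

/-- Groups of automorphisms of coprime order of solvable groups all whose `p`-subgroups have one
subgroup of order `p`. -/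
theorem isSolvable_aut_of_solvable {H : Type*} [Group H] [Finite H] [Group.IsSolvable H]
    (hu : ∀ (p : ℕ) [Fact p.Prime] (P : Subgroup H), IsPGroup p P → UniqueOrderP p P)
    (A : Subgroup (MulAut H)) (hcop : (Nat.card A).Coprime (Nat.card H)) : Group.IsSolvable A := by
  classical
  have hmem : ∀ (p : ℕ) (a : MulAut H), ∀ x ∈ Cfsg.pCore p H, a x ∈ Cfsg.pCore p H := fun p a x hx => by
    have h := Subgroup.mem_map_of_mem a.toMonoidHom hx
    rwa [map_pCore_equiv a p] at h
  let r : ∀ p : ℕ, A →* MulAut (Cfsg.pCore p H) := fun p =>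
    { toFun := fun a =>
        { toFun := fun x => ⟨(a : MulAut H) x, hmem p _ _ x.2⟩
          invFun := fun x => ⟨(a : MulAut H).symm x, hmem p (a : MulAut H).symm _ x.2⟩
          left_inv := fun x => Subtype.ext (by simp)
          right_inv := fun x => Subtype.ext (by simp)
          map_mul' := fun x y => Subtype.ext (by simp) }
      map_one' := MulEquiv.ext fun x => Subtype.ext rfl
      map_mul' := fun a b => MulEquiv.ext fun x => Subtype.ext rfl }
  have hsol : ∀ p ∈ (Nat.card H).primeFactors, ∃ n : ℕ, derivedSeries A n ≤ (r p).ker := by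
    intro p hp
    obtain ⟨hp, hpH, -⟩ := Nat.mem_primeFactors.1 hp
    haveI := Fact.mk hp
    have hc : (Nat.card (r p).range).Coprime p :=
      (hcop.coprime_dvd_left (Subgroup.card_range_dvd _)).coprime_dvd_right hpH
    obtain ⟨n, hn⟩ := (isSolvable_aut_of_uniqueOrderP (pCore_isPGroup p) (hu p _ (pCore_isPGroup p))
      (r p).range hc)
    refine ⟨n, fun a ha => ?_⟩
    have h1 := map_derivedSeries_le_derivedSeries (r p).rangeRestrict n (Subgroup.mem_map_of_mem _ ha)
    rw [hn, Subgroup.mem_bot] at h1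
    exact MonoidHom.mem_ker.2 (congrArg Subtype.val h1)
  choose n hn using hsol
  refine ⟨⟨(Nat.card H).primeFactors.attach.sup fun p => n p.1 p.2, ?_⟩⟩
  rw [eq_bot_iff]
  intro a ha
  rw [Subgroup.mem_bot]
  -- `a` fixes the Fitting subgroup pointwise
  have hfix : ∀ f ∈ Cfsg.fittingSubgroup H, (a : MulAut H) f = f := by
    have hle : Cfsg.fittingSubgroup H ≤ MonoidHom.eqLocus ((a : MulAut H) : H →* H) (MonoidHom.id H) := by
      rw [fitting_eq_iSup_pCore]
      refine iSup_le fun p x hx => ?_
      by_cases hp : (p : ℕ) ∈ (Nat.card H).primeFactors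
      · have h1 : a ∈ (r p).ker := hn _ hp (derivedSeries_antitone _
          (Finset.le_sup (f := fun q : {q // q ∈ (Nat.card H).primeFactors} => n q.1 q.2)
            (Finset.mem_attach _ ⟨_, hp⟩)) ha)
        exact congrArg Subtype.val (MulEquiv.congr_fun (MonoidHom.mem_ker.1 h1) ⟨x, hx⟩)
      · haveI : Fact (p : ℕ).Prime := ⟨p.2⟩
        obtain ⟨k, hk⟩ := pCore_isPGroup (G := H) (p : ℕ) ⟨x, hx⟩
        have h1 : orderOf x ∣ (p : ℕ) ^ k := orderOf_dvd_of_pow_eq_one (congrArg Subtype.val hk :)
        have h2 : x = 1 := by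
          rw [← orderOf_eq_one_iff]
          refine Nat.eq_one_of_dvd_coprimes (Nat.Coprime.pow_left k ?_) h1 (orderOf_dvd_natCard x)
          exact p.2.coprime_iff_not_dvd.2 fun h =>
            hp (Nat.mem_primeFactors.2 ⟨p.2, h, Nat.card_pos.ne'⟩)
        show (a : MulAut H) x = x
        rw [h2, map_one]
    exact fun f hf => hle hf
  refine Subtype.ext (MulEquiv.ext fun h => ?_)
  haveI := fitting_normal (G := H)
  set c := h⁻¹ * (a : MulAut H) h with hc
  have hcF : c ∈ Cfsg.fittingSubgroup H := centralizer_fitting_le (Subgroup.mem_centralizer_iff.2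
    fun f hf => by
      have h1 := hfix _ (Subgroup.Normal.conj_mem inferInstance f hf h)
      rw [map_mul, map_mul, map_inv, hfix f hf] at h1
      calc f * c = h⁻¹ * (h * f * h⁻¹) * (a : MulAut H) h := by rw [hc]; group
        _ = h⁻¹ * ((a : MulAut H) h * f * ((a : MulAut H) h)⁻¹) * (a : MulAut H) h := by rw [h1]
        _ = c * f := by rw [hc]; group)
  have hiter : ∀ i : ℕ, ((a : MulAut H) ^ i) h = h * c ^ i := fun i => by
    induction i with
    | zero => simp
    | succ i ih =>
      rw [pow_succ', MulAut.mul_apply, ih, map_mul, map_pow, hfix c hcF, pow_succ',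
        show (a : MulAut H) h = h * c by rw [hc, mul_inv_cancel_left], mul_assoc]
  have h1 := hiter (orderOf (a : MulAut H))
  rw [pow_orderOf_eq_one, MulAut.one_apply, left_eq_mul] at h1
  have h2 : c = 1 := orderOf_eq_one_iff.1 (Nat.eq_one_of_dvd_coprimes hcop
    ((orderOf_dvd_of_pow_eq_one h1).trans (by
      rw [Subgroup.orderOf_coe]; exact orderOf_dvd_natCard a)) (orderOf_dvd_natCard c))
  rw [hc, inv_mul_eq_one] at h2
  exact h2.symm

variable {G : Type*} [Group G] [Finite G] (H : Subgroup G)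
variable (hTI : Cfsg.IsTISubset (H : Set G)) (hnn : ¬ H.Normal)
  (hH : (Nat.card H).Coprime H.index)
  (hsep : ∃ (n : ℕ) (M : Fin (n + 1) → Subgroup G), M 0 = ⊥ ∧ M (Fin.last n) = ⊤ ∧ Monotone M ∧
      (∀ i, (M i).Normal) ∧
      ∀ i : Fin n, (∀ q : ℕ, q.Prime → q ∣ (M i.castSucc).relIndex (M i.succ) → q ∣ Nat.card H) ∨
        ((M i.castSucc).relIndex (M i.succ)).Coprime (Nat.card H))

include hTI hnn hH hsep

/-- `G = O_{π'}(G) N(H)`, by the Frattini argument for a Sylow subgroup. -/
theorem core'_sup_normalizer' : core' H ⊔ Subgroup.normalizer (H : Set G) = ⊤ := by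
  obtain ⟨D, hDn, hLD, hne, hsup⟩ := exists_normal_split H hTI hnn hH hsep
  haveI := hDn
  obtain ⟨p, hp, hpM⟩ := Nat.exists_prime_and_dvd (fun h => hne (Subgroup.card_eq_one.1 h))
  haveI := Fact.mk hp
  obtain ⟨P, hPM, hP⟩ : ∃ P : Subgroup G, P ≤ D ⊓ H ∧ IsSylowIn p P (D ⊓ H) :=
    ⟨_, map_subtype_le _, isSylowIn_map (default : Sylow p ↥(D ⊓ H))⟩
  have hpL : ¬ p ∣ Nat.card (core' H) := fun h => hp.ne_one (Nat.eq_one_of_dvd_coprimes
    (coprime_core' H) (hpM.trans (Subgroup.card_dvd_of_le inf_le_right)) h)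
  have hfac : (Nat.card D).factorization p = (Nat.card ↥(D ⊓ H)).factorization p := by
    refine le_antisymm ((hp.pow_dvd_iff_le_factorization Nat.card_pos.ne').1 ?_)
      ((hp.pow_dvd_iff_le_factorization Nat.card_pos.ne').1
        ((Nat.ordProj_dvd _ p).trans (Subgroup.card_dvd_of_le inf_le_left)))
    have h1 : Nat.card D ∣ Nat.card ↥(D ⊓ H) * Nat.card (core' H) := by
      have h2 := card_sup_dvd_of_normal (D ⊓ H) (core' H)
      rwa [sup_comm, hsup] at h2
    exact (Nat.Coprime.pow_left _ (hp.coprime_iff_not_dvd.2 hpL)).dvd_of_dvd_mul_right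
      ((Nat.ordProj_dvd _ p).trans h1)
  have hPD : IsSylowIn p P D := ⟨hPM.trans inf_le_left, by rw [hP.2, hfac]⟩
  obtain ⟨x, hx, hx1⟩ : ∃ x ∈ P, x ≠ (1 : G) := by
    by_contra hc
    push Not at hc
    have h2 := hP.2
    rw [(Subgroup.eq_bot_iff_forall P).2 hc, Subgroup.card_bot] at h2
    exact absurd h2.symm (Nat.one_lt_pow (Nat.pos_iff_ne_zero.1
      (hp.factorization_pos_of_dvd Nat.card_pos.ne' hpM)) hp.one_lt).ne'
  refine eq_top_iff.2 fun g _ => ?_
  have hg : g ∈ Subgroup.normalizer (D : Set G) := by rw [Subgroup.normalizer_eq_top]; trivial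
  obtain ⟨k, hk, hkg⟩ := (hPD.conjBy hg).exists_conj hPD
  rw [conjBy_conjBy] at hkg
  have hmem : (k * g) * x * (k * g)⁻¹ ∈ P := by
    have h := conj_mem_conjBy (g := k * g) hx
    rwa [hkg] at h
  have hN := mem_normalizer_of_conj_mem H hTI (hPM hx).2 (hPM hmem).2 hx1
  have hk' : k ∈ core' H ⊔ Subgroup.normalizer (H : Set G) :=
    (sup_le le_sup_left ((inf_le_right.trans Subgroup.le_normalizer).trans le_sup_right) :
      core' H ⊔ (D ⊓ H) ≤ _) (hsup.symm ▸ hk)
  rw [show g = k⁻¹ * (k * g) by group]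
  exact mul_mem (inv_mem hk') (Subgroup.mem_sup_right hN)

/-- `O_{π'}(G) H` is normal. -/
theorem core'_sup_normal : (core' H ⊔ H).Normal := by
  rw [← Subgroup.normalizer_eq_top_iff, eq_top_iff, ← core'_sup_normalizer' H hTI hnn hH hsep]
  refine sup_le (le_sup_left.trans Subgroup.le_normalizer) (sup_le_normalizer ?_ le_rfl)
  exact le_top.trans_eq (Subgroup.normalizer_eq_top (H := core' H)).symm

/-- If `O_{π'}(G)` is solvable, `H` has a fixed-point-free representation. -/
theorem exists_zrep (hO : Group.IsSolvable (core' H)) : Nonempty (ZRep H) := by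
  have hHL : H ≤ Subgroup.normalizer (core' H : Set G) := by
    rw [Subgroup.normalizer_eq_top]; exact le_top
  have hcop := coprime_core' H
  -- an invariant Sylow subgroup not centralized by `H`
  obtain ⟨q, hq, Q, hQ, hQH, hQC⟩ : ∃ q : ℕ, q.Prime ∧ ∃ Q : Subgroup G,
      IsSylowIn q Q (core' H) ∧ H ≤ Subgroup.normalizer (Q : Set G) ∧
        ¬ Q ≤ Subgroup.centralizer (H : Set G) := by
    by_contra hc
    push Not at hc
    refine not_core'_le_centralizer H hTI hnn hH hsep ?_
    suffices h : (Subgroup.centralizer (H : Set G)).subgroupOf (core' H) = ⊤ from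
      Subgroup.subgroupOf_eq_top.1 h
    refine Subgroup.eq_top_of_card_eq _ (Nat.dvd_antisymm (Subgroup.card_subgroup_dvd_card _) ?_)
    refine (Nat.dvd_iff_prime_pow_dvd_dvd _ _).2 fun q k hq hd => ?_
    haveI : Fact q.Prime := ⟨hq⟩
    obtain ⟨Q, hQs, hQA⟩ := exists_invariant_sylow hHL hcop (Or.inr hO) q
    have hle : Q.subgroupOf (core' H) ≤ (Subgroup.centralizer (H : Set G)).subgroupOf (core' H) :=
      Subgroup.comap_mono (hc q hq Q hQs hQA)
    refine dvd_trans ?_ (Subgroup.card_dvd_of_le hle)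
    rw [Nat.card_congr (Subgroup.subgroupOfEquivOfLe hQs.1).toEquiv, hQs.2]
    exact pow_dvd_pow q ((hq.pow_dvd_iff_le_factorization Nat.card_pos.ne').1 hd)
  haveI := Fact.mk hq
  -- a minimal invariant subgroup of it not centralized by `H`
  obtain ⟨U, hU⟩ := exists_minimal_of_wellFoundedLT
    (fun U : Subgroup G => U ≤ Q ∧ H ≤ Subgroup.normalizer (U : Set G) ∧
      ¬ U ≤ Subgroup.centralizer (H : Set G)) ⟨Q, le_rfl, hQH, hQC⟩
  obtain ⟨hUQ, hUH, hUC⟩ := hU.prop
  have hUL : U ≤ core' H := hUQ.trans hQ.1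
  haveI : Group.IsNilpotent U := (hQ.isPGroup.to_le hUQ).isNilpotent
  have hconj : ∀ h ∈ H, ∀ u ∈ U, h * u * h⁻¹ ∈ U := fun h hh u hu =>
    (Subgroup.mem_normalizer_iff.1 (hUH hh) u).1 hu
  -- its derived subgroup is centralized by `H`
  have hder : ⁅U, U⁆ ≤ Subgroup.centralizer (H : Set G) := by
    by_contra hc
    have hlt : ⁅U, U⁆ < U := by
      refine lt_of_le_of_ne (Subgroup.commutator_le_self U) fun e => ?_
      haveI : Nontrivial U := (Subgroup.nontrivial_iff_ne_bot _).2 fun hb => hUC (hb ▸ bot_le)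
      haveI : Group.IsSolvable U := inferInstance
      refine (Group.IsSolvable.commutator_lt_top_of_nontrivial U).ne ?_
      apply Subgroup.map_injective U.subtype_injective
      rw [_root_.commutator_def, Subgroup.map_commutator, ← MonoidHom.range_eq_map,
        Subgroup.range_subtype, e]
    refine hlt.not_ge (hU.le_of_le ⟨hlt.le.trans hUQ, ?_, hc⟩ hlt.le)
    intro h hh
    rw [← conjBy_eq_self_iff]
    show Subgroup.map _ ⁅U, U⁆ = _
    have hU' : conjBy h U = U := conjBy_eq_self_iff.2 (hUH hh)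
    rw [Subgroup.map_commutator]
    exact congrArg₂ _ hU' hU'
  let C : Subgroup U := (Subgroup.centralizer (H : Set G)).subgroupOf U
  haveI hCn : C.Normal := ⟨fun n hn u => by
    rw [Subgroup.mem_subgroupOf]
    have h1 := mul_mem (hder (Subgroup.commutator_mem_commutator u.2 n.2)) (Subgroup.mem_subgroupOf.1 hn)
    rw [commutatorElement_def] at h1
    simpa [mul_assoc] using h1⟩
  haveI : Nontrivial (U ⧸ C) :=
    QuotientGroup.nontrivial_iff.2 fun e => hUC (Subgroup.subgroupOf_eq_top.1 e)
  let e : H → MulAut U := fun h =>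
    { toFun := fun u => ⟨(h : G) * u * (h : G)⁻¹, hconj h h.2 u u.2⟩
      invFun := fun u => ⟨(h : G)⁻¹ * u * ((h : G)⁻¹)⁻¹, hconj _ (inv_mem h.2) u u.2⟩
      left_inv := fun u => Subtype.ext (by simp [mul_assoc])
      right_inv := fun u => Subtype.ext (by simp [mul_assoc])
      map_mul' := fun u v => Subtype.ext (by simp [mul_assoc]) }
  have heC : ∀ h : H, C.map (e h).toMonoidHom = C := by
    intro h
    have hfix : ∀ c ∈ C, e h c = c := fun c hc => Subtype.ext (by
      show (h : G) * c * (h : G)⁻¹ = c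
      rw [Subgroup.mem_centralizer_iff.1 (Subgroup.mem_subgroupOf.1 hc) h h.2, mul_inv_cancel_right])
    ext c
    constructor
    · rintro ⟨d, hd, rfl⟩
      show e h d ∈ C
      rw [hfix d hd]
      exact hd
    · exact fun hc => ⟨c, hc, hfix c hc⟩
  let φ : H →* MulAut (U ⧸ C) :=
    { toFun := fun h => QuotientGroup.congr C C (e h) (heC h)
      map_one' := MulEquiv.ext fun x => by
        obtain ⟨u, rfl⟩ := QuotientGroup.mk_surjective x
        exact congrArg QuotientGroup.mk (Subtype.ext (by simp [e]))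
      map_mul' := fun a b => MulEquiv.ext fun x => by
        obtain ⟨u, rfl⟩ := QuotientGroup.mk_surjective x
        exact congrArg QuotientGroup.mk (Subtype.ext (by simp [e, mul_assoc])) }
  refine exists_zrep_of_fpf φ fun h hh x hx => ?_
  obtain ⟨u, rfl⟩ := QuotientGroup.mk_surjective x
  rw [QuotientGroup.eq_one_iff, Subgroup.mem_subgroupOf]
  have hc : u⁻¹ * e h u ∈ C := QuotientGroup.eq.1 (Eq.symm hx)
  set c : G := (u : G)⁻¹ * ((h : G) * u * (h : G)⁻¹) with hcdef
  have hcC : c ∈ Subgroup.centralizer (H : Set G) := Subgroup.mem_subgroupOf.1 hc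
  have hch : ∀ i : ℕ, Commute c ((h : G) ^ i) := fun i =>
    (Subgroup.mem_centralizer_iff.1 hcC _ (pow_mem h.2 i)).symm
  have hiter : ∀ i : ℕ, (h : G) ^ i * u * ((h : G) ^ i)⁻¹ = u * c ^ i := fun i => by
    induction i with
    | zero => simp
    | succ i ih =>
      calc (h : G) ^ (i + 1) * u * ((h : G) ^ (i + 1))⁻¹
          = h * ((h : G) ^ i * u * ((h : G) ^ i)⁻¹) * (h : G)⁻¹ := by rw [pow_succ']; group
        _ = h * u * c ^ i * (h : G)⁻¹ := by rw [ih]; group
        _ = h * u * ((h : G)⁻¹ * (h * c ^ i)) * (h : G)⁻¹ := by group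
        _ = h * u * (h : G)⁻¹ * c ^ i := by
              rw [show (h : G) * c ^ i = c ^ i * h from
                (((pow_one (h : G)) ▸ hch 1).pow_left i).eq.symm]
              group
        _ = u * c ^ (i + 1) := by
              have e1 : (h : G) * u * (h : G)⁻¹ = u * c := by rw [hcdef, mul_inv_cancel_left]
              rw [pow_succ' c i, e1, mul_assoc]
  have h1 := hiter (orderOf (h : G))
  rw [pow_orderOf_eq_one, one_mul, inv_one, mul_one, left_eq_mul] at h1
  have hcL : c ∈ core' H := mul_mem (inv_mem (hUL u.2)) (hUL (hconj h h.2 u u.2))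
  have h2 : c = 1 := orderOf_eq_one_iff.1 (Nat.eq_one_of_dvd_coprimes hcop
    ((orderOf_dvd_of_pow_eq_one h1).trans (by
      rw [Subgroup.orderOf_coe]; exact orderOf_dvd_natCard h))
    (by
      have := orderOf_dvd_natCard (⟨c, hcL⟩ : core' H)
      rwa [← Subgroup.orderOf_coe] at this))
  rw [hcdef, inv_mul_eq_one] at h2
  refine mem_centralizer_of_core' H (hUL u.2)
    (mem_normalizer_of_conj_mem H hTI h.2 ?_ fun e => hh (Subtype.ext e))
  have h3 : Commute (h : G) u := (mul_inv_eq_iff_eq_mul.1 h2.symm : (h : G) * u = u * h)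
  rw [h3.symm.eq, mul_inv_cancel_right]
  exact h.2

/-- If `O_{π'}(G)` is solvable and `H` has no subgroup `SL(2,5)` then `G` is solvable. -/
theorem isSolvable_of_no_sl25 (hO : Group.IsSolvable (core' H))
    (hno : ∀ K : Subgroup G, K ≤ H → ¬ Nonempty (K ≃* SL25)) : Group.IsSolvable G := by
  obtain ⟨ψ⟩ := exists_zrep H hTI hnn hH hsep hO
  haveI hHsol : Group.IsSolvable H := by
    by_contra hns
    obtain ⟨G₀, -, -, S, M, -, -, -, ⟨eS⟩, -, -⟩ := nonsolvable_structure ψ hns
    exact hno (S.map H.subtype) (Subgroup.map_subtype_le _)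
      ⟨(S.equivMapOfInjective H.subtype H.subtype_injective).symm.trans eS⟩
  set N := Subgroup.normalizer (H : Set G) with hNdef
  set L := core' H with hLdef
  haveI hLn : L.Normal := Subgroup.sSup_normal _ (fun _ h => h.1)
  have hsup := core'_sup_normalizer' H hTI hnn hH hsep
  haveI : (H.subgroupOf N).Normal := inferInstance
  have hcopN : (Nat.card (H.subgroupOf N)).Coprime (H.subgroupOf N).index := by
    rw [Nat.card_congr (Subgroup.subgroupOfEquivOfLe Subgroup.le_normalizer).toEquiv]
    exact hH.coprime_dvd_right (Subgroup.relIndex_dvd_index_of_le Subgroup.le_normalizer)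
  obtain ⟨Q, hQ⟩ := Subgroup.exists_right_complement'_of_coprime hcopN
  have hQcard : (Nat.card Q).Coprime (Nat.card H) := by
    rw [← hQ.symm.index_eq_card,
      ← Nat.card_congr (Subgroup.subgroupOfEquivOfLe (Subgroup.le_normalizer (H := H))).toEquiv]
    exact hcopN.symm
  let ρ : Q →* MulAut H := H.normalizerMonoidHom.comp Q.subtype
  have hker : ∀ x : Q, x ∈ ρ.ker → ((x : N) : G) ∈ L := by
    let Q0 : Subgroup G := ρ.ker.map (N.subtype.comp Q.subtype)
    have hQ0 : ∀ y ∈ Q0, y ∈ Subgroup.centralizer (H : Set G) := by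
      rintro _ ⟨x, hx, rfl⟩
      refine Subgroup.mem_centralizer_iff.2 fun h hh => ?_
      have h1 : ((x : N) : G) * h * ((x : N) : G)⁻¹ = h :=
        congrArg Subtype.val (MulEquiv.congr_fun (MonoidHom.mem_ker.1 hx) ⟨h, hh⟩)
      exact (mul_inv_eq_iff_eq_mul.1 h1).symm
    have hQ0n : N ≤ Subgroup.normalizer (Q0 : Set G) := by
      have htop : H.subgroupOf N ⊔ Q = ⊤ := hQ.sup_eq_top
      have h1 : (H.subgroupOf N ⊔ Q).map N.subtype = N := by
        rw [htop, ← MonoidHom.range_eq_map, Subgroup.range_subtype]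
      rw [← h1, Subgroup.map_sup]
      refine sup_le ?_ ?_
      · rw [Subgroup.map_subgroupOf_eq_of_le Subgroup.le_normalizer]
        intro h hh
        refine Subgroup.centralizer_le_normalizer _ (Subgroup.mem_centralizer_iff.2 fun y hy => ?_)
        exact (Subgroup.mem_centralizer_iff.1 (hQ0 y hy) h hh).symm
      · refine le_trans (le_of_eq ?_) ((ρ.ker.le_normalizer_map (N.subtype.comp Q.subtype)))
        rw [Subgroup.normalizer_eq_top, ← MonoidHom.range_eq_map, MonoidHom.range_comp,
          Subgroup.range_subtype]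
    haveI : (L ⊔ Q0).Normal := by
      rw [← Subgroup.normalizer_eq_top_iff, eq_top_iff, ← hsup]
      refine sup_le (le_sup_left.trans Subgroup.le_normalizer) (sup_le_normalizer ?_ hQ0n)
      exact le_top.trans_eq (Subgroup.normalizer_eq_top (H := L)).symm
    have hcop0 : (Nat.card H).Coprime (Nat.card (L ⊔ Q0 : Subgroup G)) := by
      rw [sup_comm]
      refine Nat.Coprime.coprime_dvd_right (card_sup_dvd_of_normal Q0 L) ?_
      refine Nat.Coprime.mul_right ?_ (coprime_core' H)
      exact hQcard.symm.coprime_dvd_right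
        ((Subgroup.card_map_dvd _ _).trans (Subgroup.card_subgroup_dvd_card _))
    intro x hx
    exact (le_sup_right.trans (le_piCore (isPiNum_of_coprime H hcop0)) :)
      (Subgroup.mem_map_of_mem _ hx)
  haveI hQsol : Group.IsSolvable Q := by
    haveI : Group.IsSolvable ρ.ker := by
      let f : ρ.ker →* L :=
        ((N.subtype.comp Q.subtype).comp ρ.ker.subtype).codRestrict L fun x => hker x.1 x.2
      haveI := hO
      exact Group.isSolvable_of_isSolvable_injective (f := f) fun a b hab =>
        Subtype.ext (Subtype.ext (Subtype.ext (congrArg Subtype.val hab :)))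
    haveI : Group.IsSolvable ρ.range := isSolvable_aut_of_solvable
      (fun p _ P hP => uniqueOrderP_sylow ψ P hP) ρ.range
      (hQcard.coprime_dvd_left (Subgroup.card_range_dvd ρ))
    exact Group.isSolvable_of_ker_le_range ρ.ker.subtype ρ.rangeRestrict
      (by rw [MonoidHom.ker_rangeRestrict, Subgroup.range_subtype])
  haveI : Group.IsSolvable N := by
    let π := QuotientGroup.mk' (H.subgroupOf N)
    haveI : Group.IsSolvable (H.subgroupOf N) :=
      Group.isSolvable_of_surjective (f := (Subgroup.subgroupOfEquivOfLe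
        (Subgroup.le_normalizer (H := H))).symm.toMonoidHom) (MulEquiv.surjective _)
    haveI : Group.IsSolvable (N ⧸ H.subgroupOf N) :=
      Group.isSolvable_of_surjective (f := π.comp Q.subtype) fun q => by
        obtain ⟨n, rfl⟩ := QuotientGroup.mk'_surjective (H.subgroupOf N) q
        obtain ⟨⟨h, q⟩, hhq⟩ := hQ.2 n
        refine ⟨q, ?_⟩
        rw [← hhq]
        show π q = π (h * q)
        rw [map_mul, show π h = 1 from (QuotientGroup.eq_one_iff _).2 h.2, one_mul]
    exact Group.isSolvable_of_ker_le_range (H.subgroupOf N).subtype π (by simp [π])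
  haveI : Group.IsSolvable (G ⧸ L) :=
    Group.isSolvable_of_surjective (f := (QuotientGroup.mk' L).comp N.subtype) fun q => by
      obtain ⟨g, rfl⟩ := QuotientGroup.mk'_surjective L q
      have hg : g ∈ L ⊔ N := by rw [hsup]; trivial
      obtain ⟨l, hl, n, hn, rfl⟩ := Subgroup.mem_sup_of_normal_left.1 hg
      refine ⟨⟨n, hn⟩, ?_⟩
      show QuotientGroup.mk' L n = QuotientGroup.mk' L (l * n)
      rw [map_mul, show QuotientGroup.mk' L l = 1 from (QuotientGroup.eq_one_iff l).2 hl, one_mul]
  haveI := hO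
  exact Group.isSolvable_of_ker_le_range L.subtype (QuotientGroup.mk' L) (by simp)

end CfsgLib.PGroup.TIHall
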