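import Cfsg.Agent.Lib.PGroup.MinimalAction

/-!
# Thompson's lemma for a `p`-group times a `p'`-group, `p` odd

The nilpotent class two step is done with Baer's commutative operation.
-/

set_option autoImplicit false
set_option linter.style.haveILetI false
set_option linter.unusedSectionVars false

open Subgroup
open scoped commutatorElement

namespace CfsgLib.PGroup

universe u

/-- A carrier for Baer's operation. -/
structure BaerWrap (M : Type u) where
  /-- The underlying element. -/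
  val : M

section BaerGroup

variable {M : Type u} [Group M] {p : ℕ}

/-- Baer's operation. -/
def baerMul (p : ℕ) (a b : M) : M := a * b * ⁅b, a⁆ ^ ((p + 1) / 2)

variable (hc : ∀ a b d : M, Commute ⁅a, b⁆ d) (hexp : ∀ a : M, a ^ p = 1) (hodd : Odd p)

include hc

theorem commutatorElement_mul_left_central (a b d : M) : ⁅a * b, d⁆ = ⁅a, d⁆ * ⁅b, d⁆ := by
  have h := (hc b d a).eq
  simp only [commutatorElement_def] at h ⊢
  calc a * b * d * (a * b)⁻¹ * d⁻¹ = (a * (b * d * b⁻¹ * d⁻¹)) * (d * a⁻¹ * d⁻¹) := by group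
    _ = (b * d * b⁻¹ * d⁻¹ * a) * (d * a⁻¹ * d⁻¹) := by rw [h]
    _ = (b * d * b⁻¹ * d⁻¹) * (a * d * a⁻¹ * d⁻¹) := by group
    _ = _ := (hc b d (a * d * a⁻¹ * d⁻¹)).eq

theorem commutatorElement_mul_right_central (a b d : M) : ⁅a, b * d⁆ = ⁅a, b⁆ * ⁅a, d⁆ := by
  rw [← inv_inj, mul_inv_rev, commutatorElement_inv, commutatorElement_inv, commutatorElement_inv,
    commutatorElement_mul_left_central hc]
  exact (hc b a ⁅d, a⁆).eq

theorem commutatorElement_central_left (a b d : M) : ⁅⁅a, b⁆, d⁆ = 1 :=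
  commutatorElement_eq_one_iff_commute.2 (hc a b d)

theorem baer_assoc (a b d : M) : baerMul p (baerMul p a b) d = baerMul p a (baerMul p b d) := by
  set h := (p + 1) / 2 with hh
  have hl : ∀ x y z : M, ⁅x, y⁆ ^ h * z = z * ⁅x, y⁆ ^ h := fun x y z => ((hc x y z).pow_left h).eq
  have e0 : ∀ x y z : M, ⁅z, ⁅x, y⁆ ^ h⁆ = 1 := fun x y z =>
    commutatorElement_eq_one_iff_commute.2 ((hc x y z).pow_left h).symm
  have e0' : ∀ x y z : M, ⁅⁅x, y⁆ ^ h, z⁆ = 1 := fun x y z =>
    commutatorElement_eq_one_iff_commute.2 ((hc x y z).pow_left h)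
  show a * b * ⁅b, a⁆ ^ h * d * ⁅d, a * b * ⁅b, a⁆ ^ h⁆ ^ h =
    a * (b * d * ⁅d, b⁆ ^ h) * ⁅b * d * ⁅d, b⁆ ^ h, a⁆ ^ h
  rw [commutatorElement_mul_right_central hc, e0, mul_one, commutatorElement_mul_right_central hc,
    commutatorElement_mul_left_central hc (b * d), e0', mul_one,
    commutatorElement_mul_left_central hc, (hc d a ⁅d, b⁆).mul_pow, (hc b a ⁅d, a⁆).mul_pow]
  simp only [mul_assoc]
  congr 2
  calc ⁅b, a⁆ ^ h * (d * (⁅d, a⁆ ^ h * ⁅d, b⁆ ^ h))
      = d * (⁅b, a⁆ ^ h * (⁅d, a⁆ ^ h * ⁅d, b⁆ ^ h)) := by rw [← mul_assoc, hl, mul_assoc]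
    _ = d * (⁅d, b⁆ ^ h * (⁅b, a⁆ ^ h * ⁅d, a⁆ ^ h)) := by
      rw [← mul_assoc (⁅b, a⁆ ^ h), hl d b (⁅b, a⁆ ^ h * ⁅d, a⁆ ^ h)]

theorem baer_self (a : M) (n : ℕ) : baerMul p (a ^ n) a = a ^ (n + 1) := by
  have h : ⁅a, a ^ n⁆ = 1 := commutatorElement_eq_one_iff_commute.2 (Commute.self_pow a n)
  rw [baerMul, h, one_pow, mul_one, pow_succ]

include hexp hodd

theorem baer_comm (a b : M) : baerMul p a b = baerMul p b a := by
  set h := (p + 1) / 2 with hh
  show a * b * ⁅b, a⁆ ^ h = b * a * ⁅a, b⁆ ^ h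
  have hab : a * b = b * a * ⁅a, b⁆ := by
    rw [← (hc a b (b * a)).eq, commutatorElement_def]; group
  have h2 : h + h = p + 1 := by
    obtain ⟨k, hk⟩ := hodd
    omega
  rw [hab, mul_assoc]
  congr 1
  rw [← commutatorElement_inv a b, inv_pow, mul_inv_eq_iff_eq_mul, ← pow_add, h2, pow_succ, hexp,
    one_mul]

/-- The Baer group. -/
@[reducible] noncomputable def baerCommGroup : CommGroup (BaerWrap M) where
  mul x y := ⟨baerMul p x.val y.val⟩
  mul_assoc x y z := congrArg BaerWrap.mk (baer_assoc hc x.val y.val z.val)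
  one := ⟨1⟩
  one_mul x := by
    refine congrArg BaerWrap.mk ?_
    show 1 * x.val * ⁅x.val, 1⁆ ^ _ = x.val
    rw [commutatorElement_one_right, one_pow, one_mul, mul_one]
  mul_one x := by
    refine congrArg BaerWrap.mk ?_
    show x.val * 1 * ⁅(1 : M), x.val⁆ ^ _ = x.val
    rw [commutatorElement_one_left, one_pow, mul_one, mul_one]
  inv := fun x => ⟨x.val⁻¹⟩
  inv_mul_cancel x := by
    refine congrArg BaerWrap.mk ?_
    show x.val⁻¹ * x.val * ⁅x.val, x.val⁻¹⁆ ^ _ = 1
    rw [commutatorElement_eq_one_iff_commute.2 (Commute.refl x.val).inv_right, one_pow,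
      inv_mul_cancel, mul_one]
  mul_comm x y := congrArg BaerWrap.mk (baer_comm hc hexp hodd x.val y.val)

/-- An automorphism family of size prime to `p` of a class two group of exponent `p` is trivial if
its fixed points contain those of a `p`-group normalizing it. -/
theorem fixed_of_baer [Finite M] [Fact p.Prime] {ι : Type*} [Fintype ι] (σ : ι → MulAut M)
    (hperm : ∀ j, ∃ π : ι ≃ ι, ∀ i x, σ i (σ j x) = σ (π i) x)
    (hι : (Fintype.card ι).Coprime p) {P₀ : Type*} [Group P₀] [Finite P₀] (hP0 : IsPGroup p P₀)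
    (τ : P₀ →* MulAut M) (hτ : ∀ t, ∃ π : ι ≃ ι, ∀ i x, τ t (σ i x) = σ (π i) (τ t x))
    (hfix : ∀ x, (∀ t, τ t x = x) → ∀ i, σ i x = x) (j : ι) (x : M) : σ j x = x := by
  classical
  letI := baerCommGroup hc hexp hodd
  haveI : Finite (BaerWrap M) :=
    Finite.of_injective BaerWrap.val fun a b h => by cases a; cases b; exact congrArg BaerWrap.mk h
  let act : MulAut M → (BaerWrap M →* BaerWrap M) := fun α =>
    MonoidHom.mk' (fun u => ⟨α u.val⟩) fun u v => by
      show BaerWrap.mk (α (baerMul p u.val v.val)) = ⟨baerMul p (α u.val) (α v.val)⟩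
      simp [baerMul, map_commutatorElement]
  let N : BaerWrap M →* BaerWrap M := ∏ i : ι, act (σ i)
  have hN : ∀ u, N u = ∏ i : ι, act (σ i) u := fun u => MonoidHom.finsetProd_apply _ _ _
  have hNσ : ∀ k u, N (act (σ k) u) = N u := fun k u => by
    obtain ⟨π, hπ⟩ := hperm k
    rw [hN, hN]
    exact Fintype.prod_equiv π _ _ fun i => congrArg BaerWrap.mk (hπ i u.val)
  have hNτ : ∀ t u, act (τ t) (N u) = N (act (τ t) u) := fun t u => by
    obtain ⟨π, hπ⟩ := hτ t
    rw [hN, hN, map_prod]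
    exact Fintype.prod_equiv π _ _ fun i => congrArg BaerWrap.mk (hπ i u.val)
  have hpow : ∀ (u : M) (n : ℕ), (⟨u⟩ : BaerWrap M) ^ n = ⟨u ^ n⟩ := by
    intro u n
    induction n with
    | zero => rw [pow_zero, pow_zero]; rfl
    | succ n ih =>
      rw [pow_succ, ih]
      exact congrArg BaerWrap.mk (baer_self hc u n)
  have hWexp : ∀ u : BaerWrap M, u ^ p = 1 := fun u => by
    obtain ⟨u⟩ := u
    rw [hpow, hexp]
    rfl
  letI : MulAction P₀ N.ker :=
    { smul := fun t u => ⟨act (τ t) u, by rw [MonoidHom.mem_ker, ← hNτ, u.2, map_one]⟩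
      one_smul := fun u => Subtype.ext (show act (τ 1) (u : BaerWrap M) = u by
        show BaerWrap.mk (τ 1 (u : BaerWrap M).val) = u
        rw [map_one, MulAut.one_apply])
      mul_smul := fun s t u => Subtype.ext (by
        show BaerWrap.mk (τ (s * t) (u : BaerWrap M).val) =
          ⟨τ s (τ t (u : BaerWrap M).val)⟩
        rw [map_mul, MulAut.mul_apply]) }
  have hfixK : ∀ u : N.ker, u ∈ MulAction.fixedPoints P₀ N.ker → u = 1 := by
    intro u hu
    have h1 := hfix (u : BaerWrap M).val fun t =>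
      congrArg (fun v : N.ker => (v : BaerWrap M).val) (hu t)
    have h2 : N (u : BaerWrap M) = (u : BaerWrap M) ^ Fintype.card ι := by
      rw [hN, Finset.prod_congr rfl fun i _ => show act (σ i) (u : BaerWrap M) = u from
        congrArg BaerWrap.mk (h1 i), Finset.prod_const, Finset.card_univ]
    rw [MonoidHom.mem_ker.1 u.2] at h2
    exact Subtype.ext (orderOf_eq_one_iff.1 (Nat.eq_one_of_dvd_coprimes hι
      (orderOf_dvd_of_pow_eq_one h2.symm) (orderOf_dvd_of_pow_eq_one (hWexp (u : BaerWrap M)))))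
  have hK : N.ker = ⊥ := by
    by_contra hne
    have hKp : IsPGroup p N.ker := fun u => ⟨1, Subtype.ext (by
      rw [pow_one, SubmonoidClass.coe_pow, hWexp]; rfl)⟩
    haveI : Nontrivial N.ker := (Subgroup.nontrivial_iff_ne_bot _).2 hne
    obtain ⟨n, hn0, hn⟩ := hKp.nontrivial_iff_card.1 inferInstance
    obtain ⟨b, hb, hb1⟩ := hP0.exists_fixed_point_of_prime_dvd_card_of_fixed_point N.ker
      (hn ▸ dvd_pow_self p hn0.ne') (a := 1) fun t => Subtype.ext (map_one (act (τ t)))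
    exact hb1 (hfixK b hb).symm
  exact congrArg BaerWrap.val ((MonoidHom.ker_eq_bot_iff N).1 hK (hNσ j ⟨x⟩))

end BaerGroup

/-- Thompson's lemma: a `p'`-group `Q` normalized by a `p`-group `P` acting on a `p`-group `G`
centralizes `G` if it centralizes the fixed points of `P`. -/
theorem thompson_pq_semidirect {X : Type u} [Group X] [Finite X] {p : ℕ} [Fact p.Prime] (hp : p ≠ 2)
    (P Q : Subgroup X) (hP : IsPGroup p P) (hQ : (Nat.card Q).Coprime p)
    (hPQ : P ≤ normalizer (Q : Set X)) :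
    ∀ G : Subgroup X, IsPGroup p G → P ≤ normalizer (G : Set X) → Q ≤ normalizer (G : Set X) →
      G ⊓ centralizer (P : Set X) ≤ centralizer (Q : Set X) → Q ≤ centralizer (G : Set X) := by
  intro G
  induction hn : Nat.card G using Nat.strong_induction_on generalizing G with
  | _ n ih =>
  intro hG hPG hQG hC
  by_contra hcon
  have hnt : ⁅G, Q⁆ ≠ ⊥ := fun h =>
    hcon (le_centralizer_iff.1 (commutator_eq_bot_iff_le_centralizer.1 h))
  have hmin : ∀ U : Subgroup X, U < G → P ⊔ Q ≤ normalizer (U : Set X) → ⁅U, Q⁆ = ⊥ := by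
    intro U hU hUn
    have hlt : Nat.card U < n := hn ▸ Set.Finite.card_lt_card (Set.toFinite _) hU
    exact commutator_eq_bot_iff_le_centralizer.2 (le_centralizer_iff.1
      (ih _ hlt U rfl (hG.to_le hU.le) (le_sup_left.trans hUn) (le_sup_right.trans hUn)
        ((inf_le_inf_right _ hU.le).trans hC)))
  obtain ⟨-, hstr, -, hexp⟩ := minimal_action_structure (P ⊔ Q) Q G hG (sup_le hPG hQG) le_sup_right
    (sup_le hPQ le_normalizer) hQ hnt hmin
  have hc : ∀ a b d : G, Commute ⁅a, b⁆ d := by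
    intro a b d
    rcases hstr with ⟨hab, -⟩ | ⟨-, -, hcom⟩
    · exact isMulCommutative_iff.1 hab _ _
    · exact (Subgroup.mem_center_iff.1
        (hcom ▸ commutator_mem_commutator (mem_top a) (mem_top b) : ⁅a, b⁆ ∈ center G) d).symm
  have hexp' : ∀ a : G, a ^ p = 1 := fun a => Subtype.ext (by simpa using hexp hp a a.2)
  letI : Fintype Q := Fintype.ofFinite _
  let σ : Q → MulAut G := fun q => G.normalizerMonoidHom ⟨q, hQG q.2⟩
  let τ : P →* MulAut G := G.normalizerMonoidHom.comp (Subgroup.inclusion hPG)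
  refine hcon fun q hq => mem_centralizer_iff.2 fun g hg => ?_
  have h := fixed_of_baer hc hexp' ((Fact.out : p.Prime).odd_of_ne_two hp) σ ?_ ?_ hP τ ?_ ?_
    ⟨q, hq⟩ ⟨g, hg⟩
  · exact (mul_inv_eq_iff_eq_mul.1 (congrArg Subtype.val h)).symm
  · exact fun j => ⟨Equiv.mulRight j, fun i x => Subtype.ext (by
      show (i : X) * ((j : X) * x * (j : X)⁻¹) * (i : X)⁻¹ =
        ((i * j : Q) : X) * x * ((i * j : Q) : X)⁻¹
      rw [Subgroup.coe_mul]; group)⟩
  · rwa [← Nat.card_eq_fintype_card]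
  · intro t
    refine ⟨⟨fun i => ⟨(t : X) * i * (t : X)⁻¹, (Subgroup.mem_normalizer_iff.1 (hPQ t.2) _).1 i.2⟩,
      fun i => ⟨(t : X)⁻¹ * i * (t : X), (Subgroup.mem_normalizer_iff''.1 (hPQ t.2) _).1 i.2⟩,
      fun i => Subtype.ext (by simp [mul_assoc]), fun i => Subtype.ext (by simp [mul_assoc])⟩,
      fun i x => Subtype.ext ?_⟩
    show (t : X) * ((i : X) * x * (i : X)⁻¹) * (t : X)⁻¹ =
      (t : X) * i * (t : X)⁻¹ * ((t : X) * x * (t : X)⁻¹) * ((t : X) * i * (t : X)⁻¹)⁻¹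
    group
  · intro x hx i
    have hxP : (x : X) ∈ G ⊓ centralizer (P : Set X) := ⟨x.2, mem_centralizer_iff.2 fun t ht =>
      mul_inv_eq_iff_eq_mul.1 (congrArg Subtype.val (hx ⟨t, ht⟩))⟩
    exact Subtype.ext (mul_inv_eq_iff_eq_mul.2 (mem_centralizer_iff.1 (hC hxP) i i.2))

end CfsgLib.PGroup
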