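import Cfsg.Agent.Lib.PGroup.FpfModule
import Cfsg.Agent.Lib.Char.Burnside
import Cfsg.Agent.Lib.Coprime.Fitting
import Cfsg.Agent.Lib.Coprime.Action
import Cfsg.Prelude.Def_Transfer
import Mathlib.GroupTheory.SemidirectProduct

/-!
Groups of order not a prime power with exactly three automorphism orbits.
-/

set_option linter.style.haveILetI false

namespace CfsgLib.PGroup

open Subgroup
open scoped IsMulCommutative Pointwise

universe u

variable {G : Type u} [Group G]

/-- Extend a twisted automorphism of the normal part of `P ⋊ ⟨x⟩`. -/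
theorem exists_aut_extension [Finite G] (P : Subgroup G) [P.Normal] (x : G) (hsup : P ⊔ zpowers x = ⊤)
    (hdisj : Disjoint P (zpowers x)) (L : P →* P) (hL : Function.Surjective L) (i : ℕ)
    (hi : (orderOf x).Coprime i)
    (hLx : ∀ u : P, L (MulAut.conjNormal x u) = MulAut.conjNormal (x ^ i) (L u)) :
    ∃ a : MulAut G, a x = x ^ i ∧ ∀ u : P, a u = L u := by
  classical
  have hc : P.IsComplement' (zpowers x) := isComplement'_of_disjoint_and_mul_eq_univ hdisj (by
    rw [← normal_mul, hsup, coe_top])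
  let φ := (P.normalizerMonoidHom).comp (inclusion (P.normalizer_eq_top ▸ le_top (a := zpowers x)))
  let fg : zpowers x →* G :=
    { toFun := fun y => (y : G) ^ i
      map_one' := one_pow i
      map_mul' := fun y z => by
        obtain ⟨a, ha⟩ := mem_zpowers_iff.1 y.2
        obtain ⟨b, hb⟩ := mem_zpowers_iff.1 z.2
        rw [coe_mul]
        exact (show Commute (y : G) (z : G) by rw [← ha, ← hb]; exact (Commute.refl x).zpow_zpow a b).mul_pow i }
  have key : ∀ (j : ℕ) (u : P), L (MulAut.conjNormal (x ^ j) u) = MulAut.conjNormal ((x ^ j) ^ i) (L u) := by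
    intro j
    induction j with
    | zero => intro u; simp
    | succ j ih =>
      intro u
      rw [pow_succ, map_mul, MulAut.mul_apply, ih, hLx, ← MulAut.mul_apply, ← map_mul,
        ((Commute.refl x).pow_left j).mul_pow]
  let ψ : P ⋊[φ] (zpowers x) →* G := SemidirectProduct.lift (P.subtype.comp L) fg fun g => by
    refine MonoidHom.ext fun u => ?_
    obtain ⟨j, hj⟩ : ∃ j : ℕ, x ^ j = (g : G) := by
      have := g.2
      rw [← mem_powers_iff_mem_zpowers] at this
      exact this
    have e : (φ g).toMonoidHom u = MulAut.conjNormal (g : G) u := Subtype.ext (by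
      rw [MulAut.conjNormal_apply]; rfl)
    show ((L ((φ g).toMonoidHom u) : P) : G) = (g : G) ^ i * (L u : G) * ((g : G) ^ i)⁻¹
    rw [e, ← hj, key, MulAut.conjNormal_apply]
  let e := SemidirectProduct.mulEquivSubgroup hc
  have hsurj : Function.Surjective (ψ.comp e.symm.toMonoidHom) := by
    rw [← MonoidHom.range_eq_top]
    refine eq_top_iff.2 (hsup.ge.trans (sup_le ?_ ?_))
    · intro u hu
      obtain ⟨w, hw⟩ := hL ⟨u, hu⟩
      refine ⟨e (SemidirectProduct.inl w), ?_⟩
      simp [ψ, hw]
    · rw [zpowers_le]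
      obtain ⟨m, hm⟩ := exists_pow_eq_self_of_coprime (x := x) hi.symm
      have h1 : x ^ i ∈ (ψ.comp e.symm.toMonoidHom).range :=
        ⟨e (SemidirectProduct.inr ⟨x, mem_zpowers x⟩), by simp [ψ, fg]⟩
      have h2 := pow_mem h1 m
      rwa [hm] at h2
  refine ⟨MulEquiv.ofBijective (ψ.comp e.symm.toMonoidHom)
    ⟨Finite.injective_iff_surjective.2 hsurj, hsurj⟩, ?_, fun u => ?_⟩
  · show ψ (e.symm x) = x ^ i
    have : e.symm x = SemidirectProduct.inr ⟨x, mem_zpowers x⟩ := by
      rw [MulEquiv.symm_apply_eq]; simp [e, SemidirectProduct.mulEquivSubgroup, SemidirectProduct.monoidHomSubgroup]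
    rw [this]; simp [ψ, fg]
  · show ψ (e.symm (u : G)) = (L u : G)
    have : e.symm (u : G) = SemidirectProduct.inl u := by
      rw [MulEquiv.symm_apply_eq]; simp [e, SemidirectProduct.mulEquivSubgroup, SemidirectProduct.monoidHomSubgroup]
    rw [this]; simp [ψ]

/-- Conjugation by `x` on the elementary abelian normal subgroup `P` as a linear operator. -/
noncomputable def conjEnd (p : ℕ) (P : Subgroup G) [P.Normal] [IsMulCommutative P]
    [Module (ZMod p) (Additive P)] (x : G) : Module.End (ZMod p) (Additive P) :=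
  AddMonoidHom.toZModLinearMap p (MonoidHom.toAdditive (MulAut.conjNormal x : MulAut P).toMonoidHom)

theorem conjEnd_apply (p : ℕ) (P : Subgroup G) [P.Normal] [IsMulCommutative P]
    [Module (ZMod p) (Additive P)] (x : G) (v : Additive P) :
    conjEnd p P x v = Additive.ofMul (MulAut.conjNormal x v.toMul) := rfl

theorem conjEnd_pow_apply (p : ℕ) (P : Subgroup G) [P.Normal] [IsMulCommutative P]
    [Module (ZMod p) (Additive P)] (x : G) (j : ℕ) (v : Additive P) :
    (conjEnd p P x ^ j) v = Additive.ofMul (MulAut.conjNormal (x ^ j) v.toMul) := by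
  induction j with
  | zero => simp
  | succ j ih =>
    rw [pow_succ', Module.End.mul_apply, ih, conjEnd_apply, toMul_ofMul, ← MulAut.mul_apply, ← map_mul,
      ← pow_succ']

variable [Finite G] {p q n : ℕ} [hp : Fact p.Prime] [hq : Fact q.Prime]

/-- The converse direction: the orders of elements and the transitivity. -/
theorem three_orbits_of_structure (hpq : p ≠ q) (hn : 1 ≤ n) (hcard : Nat.card G = p ^ n * q)
    (hP : ∀ P : Sylow p G, (P : Subgroup G).Normal ∧ Cfsg.IsElementaryAbelian p (P : Subgroup G))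
    (hord : orderOf (p : ZMod q) = q - 1)
    (hfix : ∀ x y : G, orderOf x = q → orderOf y = p → x * y * x⁻¹ ≠ y) :
    (∀ g : G, orderOf g = 1 ∨ orderOf g = p ∨ orderOf g = q) ∧
    ∀ g h : G, orderOf g = orderOf h → ∃ a : MulAut G, a g = h := by
  classical
  let S : Sylow p G := Classical.arbitrary _
  obtain ⟨hPn, hPab, hPexp⟩ := hP S
  set P := (S : Subgroup G) with hPdef
  haveI := hPn
  haveI := hPab
  have hPc : Nat.card P = p ^ n := by
    rw [hPdef, S.card_eq_multiplicity, hcard, Nat.factorization_mul (pow_ne_zero _ hp.1.ne_zero) hq.1.ne_zero]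
    simp [hp.1.factorization_self, Nat.factorization_eq_zero_of_not_dvd
      (fun h => hpq ((Nat.prime_dvd_prime_iff_eq hp.1 hq.1).1 h))]
  have hidx : P.index = q := by
    have := P.card_mul_index
    rw [hPc, hcard] at this
    exact Nat.eq_of_mul_eq_mul_left (pow_pos hp.1.pos n) this
  have hmemP : ∀ g : G, g ^ q ∈ P := fun g => hidx ▸ P.pow_index_mem g
  have hPone : ∀ g : G, g ∈ P → g ≠ 1 → orderOf g = p := fun g hg h1 => orderOf_eq_prime (hPexp g hg) h1
  have hnotP : ∀ g : G, g ∉ P → orderOf g = q := by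
    intro g hg
    refine orderOf_eq_prime ?_ fun h1 => hg (h1 ▸ one_mem P)
    by_contra hz
    have hzo := hPone _ (hmemP g) hz
    have hgz : g * g ^ q * g⁻¹ = g ^ q := by rw [← pow_succ', pow_succ, mul_inv_cancel_right]
    -- the `q`-part of `g` fixes `g ^ q`
    have hdvd : orderOf g ∣ q * p :=
      orderOf_dvd_of_pow_eq_one (by rw [pow_mul, hPexp _ (hmemP g)])
    have hy : orderOf (g ^ p) = q := by
      refine orderOf_eq_prime (by rw [← pow_mul, mul_comm, pow_mul, hPexp _ (hmemP g)]) fun h1 => hg ?_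
      obtain ⟨m, hm⟩ := exists_pow_eq_self_of_coprime (x := g) (n := q) (by
        have : orderOf g ∣ p := orderOf_dvd_of_pow_eq_one h1
        exact (Nat.Coprime.coprime_dvd_right this ((Nat.coprime_primes hq.1 hp.1).2 (Ne.symm hpq))))
      exact hm ▸ pow_mem (hmemP g) m
    exact hfix _ _ hy hzo (by rw [mul_inv_eq_iff_eq_mul]; exact (Commute.pow_pow_self g p q).eq)
  refine ⟨fun g => ?_, ?_⟩
  · by_cases hg : g ∈ P
    · by_cases h1 : g = 1
      · exact Or.inl (by rw [h1, orderOf_one])
      · exact Or.inr (Or.inl (hPone g hg h1))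
    · exact Or.inr (Or.inr (hnotP g hg))
  obtain ⟨x, hxq⟩ := exists_prime_orderOf_dvd_card' (G := G) q (hcard ▸ dvd_mul_left q _)
  have hxP : x ∉ P := fun h => hpq (by
    rw [← hxq]; exact (hPone x h fun h1 => hq.1.ne_one (by rw [← hxq, h1, orderOf_one])).symm)
  have hdisj : Disjoint P (zpowers x) := by
    refine disjoint_iff.2 (inf_eq_bot_of_coprime ?_)
    rw [hPc, Nat.card_zpowers, hxq]
    exact Nat.Coprime.pow_left _ ((Nat.coprime_primes hp.1 hq.1).2 hpq)
  have hsup : P ⊔ zpowers x = ⊤ := by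
    refine index_eq_one.1 ?_
    rcases (Nat.dvd_prime hq.1).1 (hidx ▸ index_dvd_of_le (le_sup_left : P ≤ P ⊔ zpowers x)) with h | h
    · exact h
    · exfalso
      have h2 : P ⊔ zpowers x = P := by
        refine (eq_of_le_of_card_ge le_sup_left ?_).symm
        have e1 := (P ⊔ zpowers x).card_mul_index
        rw [h, hcard] at e1
        rw [hPc, Nat.eq_of_mul_eq_mul_right hq.1.pos e1]
      exact hxP (h2 ▸ mem_sup_right (mem_zpowers x))
  have hexp : ∀ v : Additive P, p • v = 0 := fun v => Subtype.ext (hPexp _ v.toMul.2)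
  obtain ⟨hmod⟩ : Nonempty (Module (ZMod p) (Additive P)) := ⟨AddCommGroup.zmodModule hexp⟩
  set T := conjEnd p P x with hT
  have hTq : T ^ q = 1 := LinearMap.ext fun v => by
    rw [hT, conjEnd_pow_apply, ← hxq, pow_orderOf_eq_one, map_one]; rfl
  have hTfix : ∀ v, T v = v → v = 0 := by
    intro v hv
    by_contra h0
    refine hfix x _ hxq (hPone _ v.toMul.2 fun h1 => h0 (Additive.toMul.injective (Subtype.ext h1))) ?_
    rw [← MulAut.conjNormal_apply]
    exact congrArg (fun w : Additive P => ((w.toMul : P) : G)) hv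
  have hext : ∀ (a : Additive P →+ Additive P), Function.Bijective a → ∀ i : ℕ, ¬ q ∣ i →
      (∀ v, a (T v) = (T ^ i) (a v)) → ∃ A : MulAut G, A x = x ^ i ∧ ∀ u : P, A u = (a (Additive.ofMul u)).toMul := by
    intro a ha i hi hai
    have hsur : Function.Surjective (MonoidHom.toAdditive.symm a : P →* P) := fun u => by
      obtain ⟨v, hv⟩ := ha.2 (Additive.ofMul u)
      exact ⟨v.toMul, congrArg Additive.toMul hv⟩
    exact exists_aut_extension P x hsup hdisj (MonoidHom.toAdditive.symm a) hsur i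
      (by rw [hxq]; exact hq.1.coprime_iff_not_dvd.2 hi)
      fun u => congrArg Additive.toMul ((hai (Additive.ofMul u)).trans
        (conjEnd_pow_apply p P x i (a (Additive.ofMul u))))
  obtain ⟨z, hzp⟩ := exists_prime_orderOf_dvd_card' (G := P) p (hPc ▸ dvd_pow_self p (by omega))
  have hz0 : Additive.ofMul z ≠ 0 := fun h0 => hp.1.ne_one (by
    rw [← hzp, show z = 1 from congrArg Additive.toMul h0, orderOf_one])
  -- every element of order `q` is equivalent to `x`
  have hq_orb : ∀ g : G, orderOf g = q → ∃ a : MulAut G, a x = g := by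
    intro g hg
    have hgP : g ∉ P := fun h => hpq (by
      rw [← hg]; exact (hPone g h fun h1 => hq.1.ne_one (by rw [← hg, h1, orderOf_one])).symm)
    have hQ : ∀ w : G, orderOf w = q → ¬ q ∣ (zpowers w).index := by
      intro w hw hd
      have := (zpowers w).card_mul_index
      rw [Nat.card_zpowers, hw, hcard, mul_comm] at this
      rw [Nat.eq_of_mul_eq_mul_right hq.1.pos this] at hd
      exact hpq ((Nat.prime_dvd_prime_iff_eq hq.1 hp.1).1 (hq.1.dvd_of_dvd_pow hd)).symm
    have hpg : ∀ w : G, orderOf w = q → IsPGroup q (zpowers w) := fun w hw =>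
      IsPGroup.of_card (n := 1) (by rw [Nat.card_zpowers, hw, pow_one])
    obtain ⟨c, hc⟩ := MulAction.exists_smul_eq G ((hpg g hg).toSylow (hQ g hg)) ((hpg x hxq).toSylow (hQ x hxq))
    have hcg : c * g * c⁻¹ ∈ zpowers x := by
      have h2 := Subgroup.smul_mem_pointwise_smul g (MulAut.conj c) (zpowers g) (mem_zpowers g)
      have h3 : MulAut.conj c • zpowers g = zpowers x := congrArg Sylow.toSubgroup hc
      rw [h3] at h2
      exact h2
    obtain ⟨i, hi⟩ : ∃ i : ℕ, x ^ i = c * g * c⁻¹ := by
      rw [← mem_powers_iff_mem_zpowers] at hcg; exact hcg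
    have hiq : ¬ q ∣ i := fun ⟨k, hk⟩ => by
      rw [hk, pow_mul, ← hxq, pow_orderOf_eq_one, one_pow, eq_comm, conj_eq_one_iff] at hi
      exact hgP (hi ▸ one_mem P)
    obtain ⟨-, a, ha, hai⟩ := exists_twist_of_orderOf_eq T hpq hord hTq hTfix hz0 hz0 hiq
    obtain ⟨A, hA, -⟩ := hext a ha i hiq hai
    refine ⟨MulAut.conj c⁻¹ * A, ?_⟩
    show c⁻¹ * A x * c⁻¹⁻¹ = g
    rw [hA, hi]; group
  intro g h hgh
  by_cases hg : g ∈ P
  · by_cases hg1 : g = 1
    · refine ⟨1, ?_⟩
      rw [hg1, orderOf_one, eq_comm, orderOf_eq_one_iff] at hgh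
      rw [hg1, hgh]; rfl
    have hh : h ∈ P := by
      by_contra hh
      exact hpq ((hPone g hg hg1).symm.trans (hgh.trans (hnotP h hh)))
    have hh1 : h ≠ 1 := fun e => hg1 (orderOf_eq_one_iff.1 (by rw [hgh, e, orderOf_one]))
    obtain ⟨⟨a, ha, hau, hai⟩, -⟩ := exists_twist_of_orderOf_eq T hpq hord hTq hTfix
      (u := Additive.ofMul (⟨g, hg⟩ : P)) (w := Additive.ofMul (⟨h, hh⟩ : P))
      (fun e => hg1 (congrArg Subtype.val (congrArg Additive.toMul e)))
      (fun e => hh1 (congrArg Subtype.val (congrArg Additive.toMul e))) (i := 1) hq.1.not_dvd_one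
    obtain ⟨A, -, hA⟩ := hext a ha 1 hq.1.not_dvd_one fun v => by rw [pow_one]; exact hai v
    exact ⟨A, (hA ⟨g, hg⟩).trans (by rw [hau]; rfl)⟩
  · have hgq := hnotP g hg
    obtain ⟨A, hA⟩ := hq_orb g hgq
    obtain ⟨B, hB⟩ := hq_orb h (hgh ▸ hgq)
    exact ⟨B * A⁻¹, by show B (A.symm g) = h; rw [← hA, MulEquiv.symm_apply_apply, hB]⟩

/-- With the Fitting subgroup containing an element of order `p`, it is the set of `x ^ p = 1`. -/
theorem orbit_structure (hp' : p.Prime) (hq' : q.Prime) (hpq : p ≠ q)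
    (hord : ∀ g : G, orderOf g = 1 ∨ orderOf g = p ∨ orderOf g = q)
    (htrans : ∀ g h : G, orderOf g = orderOf h → ∃ a : MulAut G, a g = h)
    (hqG : ∃ g : G, orderOf g = q)
    {z : G} (hzF : z ∈ Cfsg.fittingSubgroup G) (hz : orderOf z = p) :
    ∃ n : ℕ, 1 ≤ n ∧ Nat.card G = p ^ n * q ∧
      (∀ P : Sylow p G, (P : Subgroup G).Normal ∧ Cfsg.IsElementaryAbelian p (P : Subgroup G)) ∧
      orderOf (p : ZMod q) = q - 1 ∧
      ∀ x y : G, orderOf x = q → orderOf y = p → x * y * x⁻¹ ≠ y := by
  classical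
  haveI := Fact.mk hp'
  haveI := Fact.mk hq'
  set F := Cfsg.fittingSubgroup G with hF
  haveI hFn : F.Normal := CfsgLib.Coprime.fitting_normal
  haveI : F.Characteristic := CfsgLib.Coprime.fitting_characteristic
  have hFa : ∀ a : MulAut G, ∀ g ∈ F, a g ∈ F := fun a g hg =>
    (characteristic_iff_map_eq.1 (inferInstance : F.Characteristic) a).le (mem_map_of_mem _ hg)
  have hno : ∀ x y : G, orderOf x = q → orderOf y = p → x * y * x⁻¹ ≠ y := by
    intro x y hx hy he
    have hc : Commute x y := mul_inv_eq_iff_eq_mul.1 he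
    have h3 := hc.orderOf_mul_eq_mul_orderOf_of_coprime
      (by rw [hx, hy]; exact (Nat.coprime_primes hq' hp').2 (Ne.symm hpq))
    rw [hx, hy] at h3
    have h1 := hp'.one_lt
    have h2 := hq'.one_lt
    rcases hord (x * y) with h | h | h <;> rw [h3] at h <;> nlinarith
  haveI : Group.IsNilpotent F := CfsgLib.Coprime.fitting_isNilpotent
  have hFp : ∀ g : G, g ∈ F ↔ g ^ p = 1 := by
    intro g
    refine ⟨fun hg => ?_, fun hg => ?_⟩
    · rcases hord g with h | h | h
      · rw [orderOf_eq_one_iff.1 h, one_pow]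
      · rw [← h, pow_orderOf_eq_one]
      · exfalso
        have h1 : IsPGroup q (zpowers (⟨g, hg⟩ : F)) :=
          IsPGroup.of_card (n := 1) (by rw [Nat.card_zpowers, orderOf_mk, h, pow_one])
        have h2 : IsPGroup p (zpowers (⟨z, hzF⟩ : F)) :=
          IsPGroup.of_card (n := 1) (by rw [Nat.card_zpowers, orderOf_mk, hz, pow_one])
        obtain ⟨Q, hQ⟩ := h1.exists_le_sylow
        obtain ⟨R, hR⟩ := h2.exists_le_sylow
        have hd : Disjoint (Q : Subgroup F) R := IsPGroup.disjoint_of_ne q p (Ne.symm hpq) (Q : Subgroup F) (R : Subgroup F) Q.2 R.2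
        have hc := Subgroup.commute_of_normal_of_disjoint _ _ inferInstance inferInstance hd _ _
          (hQ (mem_zpowers _)) (hR (mem_zpowers _))
        exact hno g z h hz (mul_inv_eq_iff_eq_mul.2 (congrArg Subtype.val hc.eq))
    · rcases eq_or_ne g 1 with rfl | h1
      · exact one_mem F
      · obtain ⟨a, rfl⟩ := htrans z g (hz.trans (orderOf_eq_prime hg h1).symm)
        exact hFa a z hzF
  have hFpg : IsPGroup p F := fun g => ⟨1, Subtype.ext (by rw [pow_one, coe_pow]; exact (hFp g).1 g.2)⟩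
  have hSyl : ∀ S : Sylow p G, (S : Subgroup G) = F := by
    intro S
    refine le_antisymm (fun g hg => (hFp g).2 ?_) (hFpg.le_sylow_of_normal S)
    obtain ⟨k, hk⟩ := IsPGroup.iff_orderOf.1 S.2 ⟨g, hg⟩
    rw [orderOf_mk] at hk
    rcases hord g with h | h | h
    · rw [orderOf_eq_one_iff.1 h, one_pow]
    · rw [← h, pow_orderOf_eq_one]
    · exact absurd ((Nat.prime_dvd_prime_iff_eq hq' hp').1 (hq'.dvd_of_dvd_pow (h ▸ hk.dvd))) (Ne.symm hpq)
  have hz1 : z ≠ 1 := fun h => hp'.ne_one (by rw [← hz, h, orderOf_one])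
  haveI : Nontrivial F := ⟨⟨⟨z, hzF⟩, 1, fun h => hz1 (congrArg Subtype.val h)⟩⟩
  haveI hFab : IsMulCommutative F := by
    haveI : Nontrivial (center F) := hFpg.center_nontrivial
    obtain ⟨w, hw⟩ := exists_ne (1 : center F)
    have hw1 : ((w : F) : G) ≠ 1 := fun h => hw (Subtype.ext (Subtype.ext h))
    have hwp : orderOf ((w : F) : G) = p := orderOf_eq_prime ((hFp _).1 (w : F).2) hw1
    refine ⟨⟨fun a b => ?_⟩⟩
    rcases eq_or_ne (b : G) 1 with hb | hb
    · rw [show b = 1 from Subtype.ext hb, mul_one, one_mul]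
    obtain ⟨c, hc⟩ := htrans _ (b : G) (hwp.trans (orderOf_eq_prime ((hFp _).1 b.2) hb).symm)
    obtain ⟨a', ha'⟩ : ∃ a' : F, c (a' : G) = a := ⟨⟨c.symm a, hFa c.symm a a.2⟩, c.apply_symm_apply _⟩
    refine Subtype.ext ?_
    show (a : G) * b = b * a
    rw [← ha', ← hc, ← map_mul, ← map_mul]
    exact congrArg c (congrArg Subtype.val (mem_center_iff.1 w.2 a'))
  -- the Sylow `q`-subgroup has order `q`
  let Q : Sylow q G := Classical.arbitrary _
  obtain ⟨nF, hnF⟩ := hFpg.exists_card_eq
  have hQexp : ∀ g ∈ (Q : Subgroup G), g ≠ 1 → orderOf g = q := by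
    intro g hg h1
    obtain ⟨k, hk⟩ := IsPGroup.iff_orderOf.1 Q.2 ⟨g, hg⟩
    rw [orderOf_mk] at hk
    rcases hord g with h | h | h
    · exact absurd (orderOf_eq_one_iff.1 h) h1
    · exact absurd ((Nat.prime_dvd_prime_iff_eq hp' hq').1 (hp'.dvd_of_dvd_pow (h ▸ hk.dvd))) hpq
    · exact h
  obtain ⟨x, hxq⟩ := hqG
  have hQne : (Q : Subgroup G) ≠ ⊥ := Q.ne_bot_of_dvd_card (hxq ▸ orderOf_dvd_natCard x)
  have hQq : Nat.card (Q : Subgroup G) = q := by
    haveI : Nontrivial (Q : Subgroup G) := (nontrivial_iff_ne_bot _).2 hQne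
    haveI : Nontrivial (center (Q : Subgroup G)) := Q.2.center_nontrivial
    obtain ⟨c, hc⟩ := exists_ne (1 : center (Q : Subgroup G))
    have hc1 : ((c : (Q : Subgroup G)) : G) ≠ 1 := fun h => hc (Subtype.ext (Subtype.ext h))
    have hcq := hQexp _ (c : (Q : Subgroup G)).2 hc1
    by_contra hne
    have hnle : ¬ (Q : Subgroup G) ≤ zpowers ((c : (Q : Subgroup G)) : G) := fun hle => hne
      (le_antisymm ((Nat.le_of_dvd Nat.card_pos (card_dvd_of_le hle)).trans_eq
          ((Nat.card_zpowers _).trans hcq))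
        (Nat.le_of_dvd Nat.card_pos (hcq.symm.dvd.trans (Subgroup.orderOf_dvd_natCard _ (c : (Q : Subgroup G)).2))))
    obtain ⟨y, hyQ, hyc⟩ := SetLike.not_le_iff_exists.1 hnle
    set A := closure ({((c : (Q : Subgroup G)) : G), y} : Set G) with hA
    have hAQ : A ≤ (Q : Subgroup G) := (closure_le _).2 (by
      rintro w (rfl | rfl)
      · exact (c : (Q : Subgroup G)).2
      · exact hyQ)
    have hcy : Commute ((c : (Q : Subgroup G)) : G) y :=
      (congrArg Subtype.val (mem_center_iff.1 c.2 ⟨y, hyQ⟩)).symm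
    haveI : IsMulCommutative A := isMulCommutative_closure (by
      rintro a (rfl | rfl) b (rfl | rfl) <;> first | rfl | exact hcy.eq | exact hcy.eq.symm)
    have hAnc : ¬ IsCyclic A := by
      intro hcyc
      obtain ⟨g, hg⟩ := hcyc.exists_generator
      have hcle : Nat.card A ≤ q := by
        rw [← orderOf_eq_card_of_forall_mem_zpowers hg, ← orderOf_coe]
        rcases eq_or_ne (g : G) 1 with h1 | h1
        · rw [h1, orderOf_one]; exact hq'.one_lt.le
        · exact (hQexp _ (hAQ g.2) h1).le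
      refine hyc ?_
      have heq : zpowers ((c : (Q : Subgroup G)) : G) = A :=
        eq_of_le_of_card_ge (zpowers_le.2 (subset_closure (Set.mem_insert _ _)))
          (hcle.trans (le_of_eq (by rw [Nat.card_zpowers, hcq])))
      exact heq ▸ subset_closure (Set.mem_insert_of_mem _ rfl)
    have hFbot : F ≤ ⊥ := by
      refine CfsgLib.Coprime.le_of_centralizers_le (A := A) (K := F) (W := ⊥) hAnc
        (by rw [normalizer_eq_top]; exact le_top) ?_ ?_
      · obtain ⟨k, hk⟩ := (Q.2.to_le hAQ).exists_card_eq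
        rw [hk, hnF]
        exact Nat.Coprime.pow _ _ ((Nat.coprime_primes hq' hp').2 (Ne.symm hpq))
      · rintro a haA ha1 w ⟨hwF, hwc⟩
        rw [mem_bot]
        by_contra hw1
        exact hno a w (hQexp a (hAQ haA) ha1) (orderOf_eq_prime ((hFp w).1 hwF) hw1)
          (mul_inv_eq_iff_eq_mul.2 (mem_centralizer_singleton_iff.1 hwc).symm)
    exact hz1 (mem_bot.1 (hFbot hzF))
  let S : Sylow p G := Classical.arbitrary _
  have hFidx : ¬ p ∣ F.index := hSyl S ▸ S.not_dvd_index
  have hcard : Nat.card G = p ^ nF * q := by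
    have e := F.card_mul_index
    rw [← e, hnF]
    congr 1
    have h1 : F.index ∣ Nat.card (Q : Subgroup G) * (Q : Subgroup G).index :=
      ((Q : Subgroup G).card_mul_index).symm ▸ index_dvd_card F
    have hall : ∀ r : ℕ, r.Prime → r ∣ F.index → r = q := by
      intro r hr hd
      haveI := Fact.mk hr
      obtain ⟨g, hg⟩ := exists_prime_orderOf_dvd_card' (G := G) r (hd.trans (index_dvd_card F))
      rcases hord g with h | h | h <;> rw [hg] at h
      · exact absurd h hr.ne_one
      · exact absurd (h ▸ hd) hFidx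
      · exact h
    have hco : F.index.Coprime (Q : Subgroup G).index := Nat.coprime_of_dvd fun r hr hd1 hd2 =>
      Q.not_dvd_index ((hall r hr hd1) ▸ hd2)
    have h2 := hco.dvd_of_dvd_mul_right h1
    rw [hQq] at h2
    refine ((Nat.dvd_prime hq').1 h2).resolve_left fun h3 => ?_
    rw [index_eq_one] at h3
    have := (hFp x).1 (h3 ▸ mem_top x)
    exact hpq ((Nat.prime_dvd_prime_iff_eq hq' hp').1 (hxq ▸ orderOf_dvd_of_pow_eq_one this)).symm
  refine ⟨nF, ?_, hcard, fun P => ⟨(hSyl P).symm ▸ hFn, (hSyl P).symm ▸ ⟨hFab, fun a ha => (hFp a).1 ha⟩⟩,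
    ?_, hno⟩
  · by_contra h0
    have h0' : nF = 0 := by omega
    rw [h0', pow_zero] at hnF
    exact hz1 (mem_bot.1 ((card_eq_one.1 hnF) ▸ hzF))
  have hexp : ∀ v : Additive F, p • v = 0 := fun v => Subtype.ext ((hFp _).1 v.toMul.2)
  obtain ⟨hmod⟩ : Nonempty (Module (ZMod p) (Additive F)) := ⟨AddCommGroup.zmodModule hexp⟩
  set T := conjEnd p F x with hT
  have hTq : T ^ q = 1 := LinearMap.ext fun v => by
    rw [hT, conjEnd_pow_apply, ← hxq, pow_orderOf_eq_one, map_one]; rfl
  have hTfix : ∀ v, T v = v → v = 0 := by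
    intro v hv
    by_contra h0
    refine hno x _ hxq (orderOf_eq_prime ((hFp _).1 v.toMul.2)
      fun h1 => h0 (Additive.toMul.injective (Subtype.ext h1))) ?_
    rw [← MulAut.conjNormal_apply]
    exact congrArg (fun w : Additive F => ((w.toMul : F) : G)) hv
  -- automorphisms act semilinearly
  have hact : ∀ A : MulAut G, ∃ a : Additive F →+ Additive F, Function.Bijective a ∧
      ∀ v, ((a v).toMul : G) = A (v.toMul : G) := by
    intro A
    refine ⟨MonoidHom.toAdditive ((A.toMonoidHom.comp F.subtype).codRestrict F fun w => hFa A w w.2),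
      ⟨?_, ?_⟩, fun v => rfl⟩
    · intro v w h
      exact Additive.toMul.injective (Subtype.ext (A.injective (congrArg Subtype.val (congrArg Additive.toMul h))))
    · intro v
      exact ⟨Additive.ofMul ⟨A.symm v.toMul, hFa _ _ v.toMul.2⟩,
        Additive.toMul.injective (Subtype.ext (A.apply_symm_apply _))⟩
  have hTG : ∀ (j : ℕ) (v : Additive F), (((T ^ j) v).toMul : G) = x ^ j * (v.toMul : G) * (x ^ j)⁻¹ := by
    intro j v
    rw [hT, conjEnd_pow_apply, toMul_ofMul, MulAut.conjNormal_apply]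
  haveI : Nontrivial (Additive F) := inferInstance
  refine orderOf_eq_of_twists T hpq hTq hTfix ?_ ?_
  · intro u v hu hv
    have hordF : ∀ w : Additive F, w ≠ 0 → orderOf ((w.toMul : F) : G) = p := fun w hw =>
      orderOf_eq_prime ((hFp _).1 w.toMul.2) fun h1 => hw (Additive.toMul.injective (Subtype.ext h1))
    -- the closed-up orbit of `w` is the normal closure of `w`
    have key : ∀ (A : MulAut G) (w w' : Additive F), A ((w.toMul : F) : G) = ((w'.toMul : F) : G) →
        Nat.card (cyclicSub T w) ≤ Nat.card (cyclicSub T w') := by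
      intro A w w' hA
      obtain ⟨a, ha, hav⟩ := hact A
      have hN : ∀ (g : G) (s : Additive F), ∃ j : ℕ, g * (s.toMul : G) * g⁻¹ = (((T ^ j) s).toMul : G) := by
        intro g s
        obtain ⟨f, hf, j, hfj⟩ : ∃ f ∈ F, ∃ j : ℕ, g = x ^ j * f := by
          have hsup : zpowers x ⊔ F = ⊤ := by
            refine index_eq_one.1 ?_
            have hd1 := index_dvd_of_le (le_sup_right : F ≤ zpowers x ⊔ F)
            have hd2 := index_dvd_of_le (le_sup_left : zpowers x ≤ zpowers x ⊔ F)
            have e1 := F.card_mul_index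
            rw [hnF, hcard] at e1
            rw [Nat.eq_of_mul_eq_mul_left (pow_pos hp'.pos _) e1] at hd1
            have e2 := (zpowers x).card_mul_index
            rw [Nat.card_zpowers, hxq, hcard, mul_comm] at e2
            rw [Nat.eq_of_mul_eq_mul_right hq'.pos e2] at hd2
            exact Nat.eq_one_of_dvd_coprimes
              (Nat.Coprime.pow_right nF ((Nat.coprime_primes hq' hp').2 (Ne.symm hpq))) hd1 hd2
          have hg : g ∈ zpowers x ⊔ F := hsup ▸ mem_top g
          rw [mem_sup_of_normal_right] at hg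
          obtain ⟨y, hy, f, hf, rfl⟩ := hg
          rw [← mem_powers_iff_mem_zpowers] at hy
          obtain ⟨j, rfl⟩ := hy
          exact ⟨f, hf, j, rfl⟩
        refine ⟨j, ?_⟩
        rw [hTG, hfj]
        have hc : f * (s.toMul : G) * f⁻¹ = (s.toMul : G) :=
          mul_inv_eq_iff_eq_mul.2 (congrArg Subtype.val (mul_comm' (⟨f, hf⟩ : F) s.toMul))
        conv_rhs => rw [← hc]
        group
      have hmap : ∀ s, s ∈ cyclicSub T w → a s ∈ cyclicSub T w' := by
        intro s hs
        obtain ⟨g, rfl⟩ := mem_cyclicSub.1 hs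
        induction g using Polynomial.induction_on with
        | C c =>
          rw [Polynomial.aeval_C, Module.algebraMap_end_apply, ZMod.map_smul]
          refine Submodule.smul_mem _ c ?_
          have : a w = w' := Additive.toMul.injective (Subtype.ext ((hav w).trans hA))
          rw [this]; exact self_mem_cyclicSub T w'
        | add g k hg hk =>
          rw [map_add, LinearMap.add_apply, map_add]
          exact Submodule.add_mem _ (hg (mem_cyclicSub.2 ⟨g, rfl⟩)) (hk (mem_cyclicSub.2 ⟨k, rfl⟩))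
        | monomial m c ih =>
          have h1 := ih (mem_cyclicSub.2 ⟨_, rfl⟩)
          rw [pow_succ', ← mul_assoc, mul_comm (Polynomial.C c) Polynomial.X, mul_assoc, map_mul,
            Module.End.mul_apply, Polynomial.aeval_X]
          set s := Polynomial.aeval T (Polynomial.C c * Polynomial.X ^ m) w
          obtain ⟨j, hj⟩ := hN (A x) (a s)
          have h2 : a (T s) = (T ^ j) (a s) := by
            refine Additive.toMul.injective (Subtype.ext ?_)
            rw [hav, ← hj, hav]
            have := hTG 1 s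
            rw [pow_one, pow_one] at this
            rw [this, map_mul, map_mul, map_inv]
          rw [h2]
          obtain ⟨g', hg'⟩ := mem_cyclicSub.1 h1
          exact mem_cyclicSub.2 ⟨Polynomial.X ^ j * g', by
            rw [map_mul, Module.End.mul_apply, hg', map_pow, Polynomial.aeval_X]⟩
      refine Nat.card_le_card_of_injective (fun s => ⟨a s.1, hmap s.1 s.2⟩) fun s t h => Subtype.ext (ha.1 (congrArg Subtype.val h))
    obtain ⟨A, hA⟩ := htrans _ _ ((hordF u hu).trans (hordF v hv).symm)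
    exact le_antisymm (key A u v hA) (key A.symm v u (by rw [← hA]; exact A.symm_apply_apply _))
  · intro i hi
    rw [Finset.mem_Ico] at hi
    have hxi : orderOf (x ^ i) = q := by
      rw [Nat.Coprime.orderOf_pow ?_, hxq]
      rw [hxq]
      exact hq'.coprime_iff_not_dvd.2 (Nat.not_dvd_of_pos_of_lt hi.1 hi.2)
    obtain ⟨A, hA⟩ := htrans x (x ^ i) (hxq.trans hxi.symm)
    obtain ⟨a, ha, hav⟩ := hact A
    refine ⟨a, ha.2, fun v => Additive.toMul.injective (Subtype.ext ?_)⟩
    rw [hav, hTG, hav]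
    have := hTG 1 v
    rw [pow_one, pow_one] at this
    rw [this, map_mul, map_mul, map_inv, hA]

end CfsgLib.PGroup
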