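import Cfsg.Agent.Lib.Char.SameCounts.Basic
import Cfsg.Agent.Lib.Char.Burnside
import Cfsg.Agent.Lib.Char.FrobeniusQuotient
import Cfsg.Agent.Lib.PGroup.PrimeGraphFrobenius
import Cfsg.Agent.Lib.PGroup.Basic

/-!
# Finite groups with three values for the numbers of elements of a given order

An elementary proof that such a group is solvable, and the structure when the order is odd:
Frobenius' theorem on `#{x | x ^ n = 1}` and fixed points of Sylow subgroups on `{x | o(x) = d}`.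
-/

set_option autoImplicit false
set_option linter.style.haveILetI false

namespace CfsgLib.PGroup.ThreeCounts

open Subgroup CfsgLib.Char.SameCounts
open scoped Pointwise

universe u

variable {G : Type u} [Group G] [Finite G]

theorem sum_mul_prime {M : Type*} [AddCommMonoid M] {n q : ℕ} (hn : n ≠ 0) (hq : q.Prime)
    (h : ¬ q ∣ n) (f : ℕ → M) :
    ∑ d ∈ (n * q).divisors, f d = ∑ d ∈ n.divisors, (f d + f (d * q)) := by
  classical
  have e : (n * q).divisors = n.divisors ∪ n.divisors.image (· * q) := by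
    ext d
    simp only [Nat.mem_divisors, Finset.mem_union, Finset.mem_image]
    constructor
    · rintro ⟨hd, -⟩
      obtain ⟨a, b, ha, hb, rfl⟩ := Nat.dvd_mul.1 hd
      rcases (Nat.dvd_prime hq).1 hb with rfl | rfl
      · exact Or.inl ⟨by simpa using ha, hn⟩
      · exact Or.inr ⟨a, ⟨ha, hn⟩, rfl⟩
    · rintro (⟨hd, -⟩ | ⟨a, ⟨ha, -⟩, rfl⟩)
      · exact ⟨hd.trans (dvd_mul_right n q), mul_ne_zero hn hq.ne_zero⟩
      · exact ⟨mul_dvd_mul_right ha q, mul_ne_zero hn hq.ne_zero⟩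
  have hdis : Disjoint n.divisors (n.divisors.image (· * q)) := by
    rw [Finset.disjoint_left]
    intro d hd hd'
    obtain ⟨a, -, rfl⟩ := Finset.mem_image.1 hd'
    exact h ((dvd_mul_left q a).trans (Nat.mem_divisors.1 hd).1)
  rw [e, Finset.sum_union hdis, Finset.sum_image (fun a _ b _ hab =>
    Nat.eq_of_mul_eq_mul_right hq.pos hab), Finset.sum_add_distrib]

/-- If `p` does not divide the number of elements of order `d`, each element of order `p`
commutes with one of them. -/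
theorem totient_mul_le {p d : ℕ} [Fact p.Prime] (hpd : p.Coprime d) (hd : 0 < d)
    (h : ¬ p ∣ ocnt G d) : d.totient * ocnt G p ≤ ocnt G (p * d) := by
  classical
  obtain ⟨P⟩ : Nonempty (Sylow p G) := inferInstance
  let X := {g : G // orderOf g = d}
  letI : MulAction (P : Subgroup G) X :=
    { smul := fun a y => ⟨(a : G) * y.1 * (a : G)⁻¹, by
        rw [← MulAut.conj_apply, MulEquiv.orderOf_eq]; exact y.2⟩
      one_smul := fun y => Subtype.ext (by
        show ((1 : (P : Subgroup G)) : G) * y.1 * ((1 : (P : Subgroup G)) : G)⁻¹ = y.1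
        simp)
      mul_smul := fun a b y => Subtype.ext (by
        show ((a * b : (P : Subgroup G)) : G) * y.1 * ((a * b : (P : Subgroup G)) : G)⁻¹ =
          (a : G) * ((b : G) * y.1 * (b : G)⁻¹) * (a : G)⁻¹
        simp [mul_assoc]) }
  obtain ⟨⟨y, hy⟩, hfix⟩ := P.2.nonempty_fixed_point_of_prime_not_dvd_card X h
  have hcomm : ∀ a ∈ (P : Subgroup G), Commute a y := by
    intro a ha
    have e : a * y * a⁻¹ = y :=
      congrArg Subtype.val (hfix ⟨a, ha⟩ : (⟨a, ha⟩ : (P : Subgroup G)) • (⟨y, hy⟩ : X) = ⟨y, hy⟩)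
    exact mul_inv_eq_iff_eq_mul.1 e
  have key : ∀ x : {x : G // orderOf x = p}, ∃ w : G, orderOf w = d ∧ Commute x.1 w := by
    intro x
    obtain ⟨Q, hQ⟩ := (IsPGroup.of_card (by rw [Nat.card_zpowers, x.2, pow_one] :
      Nat.card (zpowers x.1) = p ^ 1)).exists_le_sylow
    obtain ⟨g, rfl⟩ := MulAction.exists_smul_eq G P Q
    have hx : x.1 ∈ MulAut.conj g • (P : Subgroup G) := hQ (mem_zpowers x.1)
    obtain ⟨a, ha, hax⟩ := hx
    refine ⟨g * y * g⁻¹, ?_, ?_⟩
    · rw [← MulAut.conj_apply, MulEquiv.orderOf_eq, hy]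
    · rw [← hax]
      exact (hcomm a ha).map (MulAut.conj g).toMonoidHom
  choose w hwo hwc using key
  let T := {i : Fin d // d.Coprime (i : ℕ)}
  have hT : Nat.card T = d.totient := by
    rw [Nat.card_eq_fintype_card, Fintype.card_subtype, Nat.totient_eq_card_coprime]
    refine Finset.card_bij (fun i _ => (i : ℕ)) (fun i hi => ?_) (fun i _ j _ e => Fin.ext e)
      (fun j hj => ?_)
    · simp only [Finset.mem_filter, Finset.mem_univ, true_and] at hi
      exact Finset.mem_filter.2 ⟨Finset.mem_range.2 i.isLt, hi⟩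
    · simp only [Finset.mem_filter, Finset.mem_range] at hj
      exact ⟨⟨j, hj.1⟩, by simpa using hj.2, rfl⟩
  have hord : ∀ (x : {x : G // orderOf x = p}) (i : T),
      orderOf (x.1 * w x ^ (i.1 : ℕ)) = p * d := by
    intro x i
    have h1 : orderOf (w x ^ (i.1 : ℕ)) = d := by
      have := Nat.Coprime.orderOf_pow (y := w x) (m := (i.1 : ℕ)) (by rw [hwo]; exact i.2)
      rw [this, hwo]
    rw [Commute.orderOf_mul_eq_mul_orderOf_of_coprime ((hwc x).pow_right _)
      (by rw [x.2, h1]; exact hpd), x.2, h1]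
  let F : {x : G // orderOf x = p} × T → {g : G // orderOf g = p * d} :=
    fun a => ⟨a.1.1 * w a.1 ^ (a.2.1 : ℕ), hord a.1 a.2⟩
  have hF : Function.Injective F := by
    rintro ⟨x, i⟩ ⟨x', i'⟩ e
    have e1 : x.1 * w x ^ (i.1 : ℕ) = x'.1 * w x' ^ (i'.1 : ℕ) := congrArg Subtype.val e
    have e2 := congrArg (· ^ d) e1
    have hd1 : ∀ (z : {x : G // orderOf x = p}) (k : ℕ), (w z ^ k) ^ d = 1 := fun z k => by
      rw [← pow_mul, mul_comm, pow_mul, ← hwo z, pow_orderOf_eq_one, one_pow]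
    simp only [((hwc x).pow_right _).mul_pow, ((hwc x').pow_right _).mul_pow, hd1, mul_one] at e2
    obtain ⟨k, hk⟩ := Nat.exists_mul_mod_eq_one_of_coprime (n := d) (k := p) hpd.symm
      (Fact.out : p.Prime).one_lt
    have hrec : ∀ z : {x : G // orderOf x = p}, (z.1 ^ d) ^ k = z.1 := fun z => by
      rw [← pow_mul, ← pow_mod_orderOf, z.2, hk.2, pow_one]
    have hxx : x = x' := Subtype.ext (by rw [← hrec x, e2, hrec x'])
    subst hxx
    have e3 := mul_left_cancel e1
    have e4 := pow_injOn_Iio_orderOf (x := w x) (by rw [Set.mem_Iio, hwo]; exact i.1.2)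
      (by rw [Set.mem_Iio, hwo]; exact i'.1.2) e3
    rw [Subtype.ext (Fin.ext e4) (a2 := i')]
  have := Nat.card_le_card_of_injective F hF
  rwa [Nat.card_prod, hT, mul_comm] at this

section

variable {a b : ℕ}

/-- All counts at orders `d > 2` take one of the values `a`, `b`. -/
def Two (G : Type*) [Group G] (a b : ℕ) : Prop :=
  ∀ d : ℕ, 2 < d → ocnt G d = 0 ∨ ocnt G d = a ∨ ocnt G d = b

theorem Two.symm (h : Two G a b) : Two G b a := fun d hd => (h d hd).imp_right Or.symm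

theorem frob_zmod (p : ℕ) [Fact p.Prime] {n : ℕ} (hn : n ∣ Nat.card G) (hp : p ∣ n) :
    ∑ d ∈ n.divisors, (ocnt G d : ZMod p) = 0 := by
  rw [← Nat.cast_sum, ZMod.natCast_eq_zero_iff]
  exact hp.trans (dvd_sum_divisors hn)

theorem cast_ocnt_prime (p : ℕ) [Fact p.Prime] (hp : p ∣ Nat.card G) :
    (ocnt G p : ZMod p) = -1 := by
  have h := (ZMod.natCast_eq_zero_iff (1 + ocnt G p) p).2 (prime_dvd_succ Fact.out hp)
  push_cast at h
  linear_combination h

theorem ocnt_pos_iff {d : ℕ} : ocnt G d ≠ 0 ↔ ∃ g : G, orderOf g = d :=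
  ⟨exists_of_ocnt_ne_zero, fun ⟨_, hg⟩ => (ocnt_pos hg).ne'⟩

/-- The basic congruence: `N(d * p) ≡ - N(d)` modulo `p`. -/
theorem cast_ocnt_mul {p : ℕ} [Fact p.Prime] (hp : p ∣ Nat.card G) (d : ℕ) (hd : ¬ p ∣ d) :
    (ocnt G (d * p) : ZMod p) = -(ocnt G d : ZMod p) := by
  induction d using Nat.strong_induction_on with
  | _ d ih =>
  by_cases hdG : d ∣ Nat.card G
  · have hd0 : d ≠ 0 := fun e => hd (e ▸ dvd_zero p)
    have h := frob_zmod (G := G) p
      (Nat.Coprime.mul_dvd_of_dvd_of_dvd (((Fact.out : p.Prime).coprime_iff_not_dvd.2 hd).symm) hdG hp)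
      (dvd_mul_left p d)
    rw [sum_mul_prime hd0 Fact.out hd, Finset.sum_eq_single d] at h
    · linear_combination h
    · intro e he hne
      rw [Nat.mem_divisors] at he
      rw [ih e (lt_of_le_of_ne (Nat.le_of_dvd (Nat.pos_of_ne_zero hd0) he.1) hne)
        (fun h' => hd (h'.trans he.1)), add_neg_cancel]
    · exact fun h' => absurd (Nat.mem_divisors.2 ⟨dvd_rfl, hd0⟩) h'
  · have h1 : ocnt G d = 0 := by_contra fun h => hdG (dvd_card_of_ocnt h)
    have h2 : ocnt G (d * p) = 0 := ocnt_eq_zero_of_dvd (dvd_mul_right d p) h1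
    rw [h1, h2, Nat.cast_zero, neg_zero]

theorem neg_one_ne_one {p : ℕ} [Fact p.Prime] (hp2 : p ≠ 2) : (-1 : ZMod p) ≠ 1 := by
  intro h
  have h2 : ((2 : ℕ) : ZMod p) = 0 := by push_cast; linear_combination -h
  rw [ZMod.natCast_eq_zero_iff] at h2
  exact hp2 ((Nat.prime_dvd_prime_iff_eq Fact.out Nat.prime_two).1 h2)

/-- An element of order `d` in the centralizer forces a large count at `p * d`. -/
theorem lt_ocnt_mul {p d : ℕ} [Fact p.Prime] (hpd : ¬ p ∣ d) (hd : 2 < d)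
    (hp : p ∣ Nat.card G) (h : (ocnt G d : ZMod p) ≠ 0) : ocnt G p < ocnt G (d * p) := by
  have h1 := totient_mul_le (G := G) ((Fact.out : p.Prime).coprime_iff_not_dvd.2 hpd) (by omega)
    (fun h' => h ((ZMod.natCast_eq_zero_iff _ _).2 h'))
  have h2 : 2 ≤ d.totient :=
    Nat.le_of_dvd (Nat.totient_pos.2 (by omega)) (Nat.totient_even hd).two_dvd
  have h3 := Nat.pos_of_ne_zero (ocnt_ne_zero_of_prime (G := G) Fact.out hp)
  rw [mul_comm d p]
  nlinarith

theorem odd_prime_gt {p : ℕ} (hp : p.Prime) (hp2 : p ≠ 2) : 2 < p :=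
  lt_of_le_of_ne hp.two_le (Ne.symm hp2)

theorem two_lt_prime_mul {p q : ℕ} (hp : p.Prime) (hq : q.Prime) : 2 < p * q := by
  nlinarith [hp.two_le, hq.two_le]

/-- Two odd primes with the same count. -/
theorem same_pair (h : Two G a b) {p q : ℕ} [Fact p.Prime] [Fact q.Prime] (hp2 : p ≠ 2)
    (hpq : p ≠ q) (hp : p ∣ Nat.card G) (ha : ocnt G p = a) (haq : ocnt G q = a) :
    ocnt G (q * p) = b ∧ (b : ZMod p) = 1 := by
  have hP : p.Prime := Fact.out
  have hQ : q.Prime := Fact.out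
  have hc := cast_ocnt_mul (G := G) hp q (fun h' => hpq ((Nat.prime_dvd_prime_iff_eq hP hQ).1 h'))
  have h1 : (a : ZMod p) = -1 := by rw [← ha]; exact cast_ocnt_prime p hp
  rw [haq, h1, neg_neg] at hc
  rcases h _ (two_lt_prime_mul hQ hP) with e | e | e
  · rw [e, Nat.cast_zero] at hc; exact absurd hc zero_ne_one
  · rw [e, h1] at hc; exact absurd hc (neg_one_ne_one hp2)
  · exact ⟨e, by rw [← e]; exact hc⟩

/-- Two odd primes with different counts. -/
theorem mixed_pair (h : Two G a b) {p q : ℕ} [Fact p.Prime] [Fact q.Prime] (hp2 : p ≠ 2)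
    (hq2 : q ≠ 2) (hpq : p ≠ q) (hp : p ∣ Nat.card G) (hq : q ∣ Nat.card G) (ha : ocnt G p = a)
    (hb : ocnt G q = b) :
    ocnt G (q * p) = 0 ∧ (b : ZMod p) = 0 ∧ (a : ZMod q) = 0 := by
  have hP : p.Prime := Fact.out
  have hQ : q.Prime := Fact.out
  have hqp : ¬ p ∣ q := fun h' => hpq ((Nat.prime_dvd_prime_iff_eq hP hQ).1 h')
  have hpq' : ¬ q ∣ p := fun h' => hpq ((Nat.prime_dvd_prime_iff_eq hQ hP).1 h').symm
  have hcp := cast_ocnt_mul (G := G) hp q hqp
  have hcq := cast_ocnt_mul (G := G) hq p hpq'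
  rw [hb] at hcp
  rw [ha, mul_comm p q] at hcq
  rcases h _ (two_lt_prime_mul hQ hP) with e | e | e
  · rw [e, Nat.cast_zero, eq_comm, neg_eq_zero] at hcp hcq
    exact ⟨e, hcp, hcq⟩
  · have hne : (ocnt G q : ZMod p) ≠ 0 := by
      intro h0
      rw [hb] at h0
      rw [h0, neg_zero, e, ← ha, cast_ocnt_prime p hp] at hcp
      exact neg_ne_zero.2 one_ne_zero hcp
    have := lt_ocnt_mul hqp (odd_prime_gt hQ hq2) hp hne
    omega
  · have hne : (ocnt G p : ZMod q) ≠ 0 := by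
      intro h0
      rw [ha] at h0
      rw [h0, neg_zero, e, ← hb, cast_ocnt_prime q hq] at hcq
      exact neg_ne_zero.2 one_ne_zero hcq
    have := lt_ocnt_mul hpq' (odd_prime_gt hP hp2) hq hne
    rw [mul_comm p q] at this
    omega

theorem no_three_same (h : Two G a b) {p q w : ℕ} [Fact p.Prime] [Fact q.Prime] [Fact w.Prime]
    (hp2 : p ≠ 2) (hq2 : q ≠ 2) (hpq : p ≠ q) (hpw : p ≠ w) (hqw : q ≠ w)
    (hp : p ∣ Nat.card G) (hq : q ∣ Nat.card G)
    (ha : ocnt G p = a) (haq : ocnt G q = a) (haw : ocnt G w = a) : False := by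
  have hP : p.Prime := Fact.out
  have hQ : q.Prime := Fact.out
  have hW : w.Prime := Fact.out
  obtain ⟨h1, -⟩ := same_pair h hq2 hqw hq haq haw
  obtain ⟨-, hb1⟩ := same_pair h hp2 hpq hp ha haq
  have hd : ¬ p ∣ w * q := fun h' => (hP.dvd_mul.1 h').elim
    (fun e => hpw ((Nat.prime_dvd_prime_iff_eq hP hW).1 e))
    (fun e => hpq ((Nat.prime_dvd_prime_iff_eq hP hQ).1 e))
  have hc := cast_ocnt_mul (G := G) hp (w * q) hd
  rw [h1, hb1] at hc
  have hlt := lt_ocnt_mul hd (two_lt_prime_mul hW hQ) hp (by rw [h1, hb1]; exact one_ne_zero)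
  rcases h (w * q * p) (by nlinarith [hP.two_le, two_lt_prime_mul hW hQ]) with e | e | e
  · omega
  · omega
  · rw [e, hb1] at hc
    exact neg_one_ne_one hp2 hc.symm

theorem at_most_two (h : Two G a b) (h1 : ∀ r : ℕ, r.Prime → r ≠ 2 → r ∣ Nat.card G →
      ocnt G r = a ∨ ocnt G r = b) {p q w : ℕ} (hP : p.Prime) (hQ : q.Prime) (hW : w.Prime)
    (hp2 : p ≠ 2) (hq2 : q ≠ 2) (hw2 : w ≠ 2) (hpq : p ≠ q) (hpw : p ≠ w) (hqw : q ≠ w)
    (hp : p ∣ Nat.card G) (hq : q ∣ Nat.card G) (hw : w ∣ Nat.card G) : False := by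
  have key : ∀ {a b p q w : ℕ}, Two G a b → p.Prime → q.Prime → w.Prime → p ≠ 2 → q ≠ 2 → w ≠ 2 →
      p ≠ q → p ≠ w → q ≠ w → p ∣ Nat.card G → q ∣ Nat.card G → w ∣ Nat.card G →
      ocnt G p = a → ocnt G q = a → (ocnt G w = a ∨ ocnt G w = b) → False := by
    intro a b p q w h hP hQ hW hp2 hq2 hw2 hpq hpw hqw hp hq hw ha haq hwv
    haveI := Fact.mk hP
    haveI := Fact.mk hQ
    haveI := Fact.mk hW
    rcases hwv with hwv | hwv
    · exact no_three_same h hp2 hq2 hpq hpw hqw hp hq ha haq hwv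
    · have h0 := (mixed_pair h hp2 hw2 hpw hp hw ha hwv).2.1
      rw [(same_pair h hp2 hpq hp ha haq).2] at h0
      exact one_ne_zero h0
  rcases h1 p hP hp2 hp with e1 | e1 <;> rcases h1 q hQ hq2 hq with e2 | e2 <;>
    rcases h1 w hW hw2 hw with e3 | e3
  · exact key h hP hQ hW hp2 hq2 hw2 hpq hpw hqw hp hq hw e1 e2 (Or.inl e3)
  · exact key h hP hQ hW hp2 hq2 hw2 hpq hpw hqw hp hq hw e1 e2 (Or.inr e3)
  · exact key h hP hW hQ hp2 hw2 hq2 hpw hpq hqw.symm hp hw hq e1 e3 (Or.inr e2)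
  · exact key h.symm hQ hW hP hq2 hw2 hp2 hqw hpq.symm hpw.symm hq hw hp e2 e3 (Or.inr e1)
  · exact key h hQ hW hP hq2 hw2 hp2 hqw hpq.symm hpw.symm hq hw hp e2 e3 (Or.inr e1)
  · exact key h.symm hP hW hQ hp2 hw2 hq2 hpw hpq hqw.symm hp hw hq e1 e3 (Or.inr e2)
  · exact key h.symm hP hQ hW hp2 hq2 hw2 hpq hpw hqw hp hq hw e1 e2 (Or.inr e3)
  · exact key h.symm hP hQ hW hp2 hq2 hw2 hpq hpw hqw hp hq hw e1 e2 (Or.inl e3)

/-- With two odd primes there is no element of order `4`. -/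
theorem ocnt_four (h : Two G a b) {p q : ℕ} [Fact p.Prime] [Fact q.Prime] (hp2 : p ≠ 2)
    (hq2 : q ≠ 2) (hpq : p ≠ q) (hp : p ∣ Nat.card G) (hq : q ∣ Nat.card G) (ha : ocnt G p = a)
    (hqv : ocnt G q = a ∨ ocnt G q = b) : ocnt G 4 = 0 := by
  have hP : p.Prime := Fact.out
  have hQ : q.Prime := Fact.out
  have h4p : ∀ r : ℕ, r.Prime → r ≠ 2 → ¬ r ∣ 4 := fun r hr hr2 h' =>
    hr2 ((Nat.prime_dvd_prime_iff_eq hr Nat.prime_two).1 (hr.dvd_of_dvd_pow (n := 2) h'))
  have hap : (a : ZMod p) = -1 := by rw [← ha]; exact cast_ocnt_prime p hp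
  rcases hqv with hqv | hqv
  · obtain ⟨-, hbp⟩ := same_pair h hp2 hpq hp ha hqv
    obtain ⟨-, hbq⟩ := same_pair h hq2 hpq.symm hq hqv ha
    have haq' : (a : ZMod q) = -1 := by rw [← hqv]; exact cast_ocnt_prime q hq
    rcases h 4 (by norm_num) with e | e | e
    · exact e
    · exfalso
      have hc := cast_ocnt_mul (G := G) hq 4 (h4p q hQ hq2)
      rw [e, haq', neg_neg] at hc
      have e' : ocnt G (4 * q) = b := by
        rcases h (4 * q) (by linarith [hQ.two_le]) with f | f | f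
        · rw [f, Nat.cast_zero] at hc; exact absurd hc zero_ne_one
        · rw [f, haq'] at hc; exact absurd hc (neg_one_ne_one hq2)
        · exact f
      have hd : ¬ p ∣ 4 * q := fun h' => (hP.dvd_mul.1 h').elim (h4p p hP hp2)
        (fun e => hpq ((Nat.prime_dvd_prime_iff_eq hP hQ).1 e))
      have hc' := cast_ocnt_mul (G := G) hp (4 * q) hd
      have hlt := lt_ocnt_mul hd (by linarith [hQ.two_le]) hp
        (by rw [e', hbp]; exact one_ne_zero)
      rw [e', hbp] at hc'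
      rcases h (4 * q * p) (by nlinarith [hP.two_le, hQ.two_le]) with f | f | f
      · omega
      · omega
      · rw [f, hbp] at hc'; exact neg_one_ne_one hp2 hc'.symm
    · exfalso
      have hd := h4p p hP hp2
      have hc := cast_ocnt_mul (G := G) hp 4 hd
      have hlt := lt_ocnt_mul hd (by norm_num) hp (by rw [e, hbp]; exact one_ne_zero)
      rw [e, hbp] at hc
      rcases h (4 * p) (by linarith [hP.two_le]) with f | f | f
      · omega
      · omega
      · rw [f, hbp] at hc; exact neg_one_ne_one hp2 hc.symm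
  · obtain ⟨-, hbp, haq'⟩ := mixed_pair h hp2 hq2 hpq hp hq ha hqv
    have hbq : (b : ZMod q) = -1 := by rw [← hqv]; exact cast_ocnt_prime q hq
    rcases h 4 (by norm_num) with e | e | e
    · exact e
    · exfalso
      have hc := cast_ocnt_mul (G := G) hp 4 (h4p p hP hp2)
      rw [e, hap, neg_neg] at hc
      rcases h (4 * p) (by linarith [hP.two_le]) with f | f | f
      · rw [f, Nat.cast_zero] at hc; exact zero_ne_one hc
      · rw [f, hap] at hc; exact neg_one_ne_one hp2 hc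
      · rw [f, hbp] at hc; exact zero_ne_one hc
    · exfalso
      have hc := cast_ocnt_mul (G := G) hq 4 (h4p q hQ hq2)
      rw [e, hbq, neg_neg] at hc
      rcases h (4 * q) (by linarith [hQ.two_le]) with f | f | f
      · rw [f, Nat.cast_zero] at hc; exact zero_ne_one hc
      · rw [f, haq'] at hc; exact zero_ne_one hc
      · rw [f, hbq] at hc; exact neg_one_ne_one hq2 hc

theorem card_two_primes {p q n : ℕ} (hn : n ≠ 0) (hp : p.Prime)
    (h : ∀ r : ℕ, r.Prime → r ∣ n → r = p ∨ r = q) : ∃ i j : ℕ, n = p ^ i * q ^ j := by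
  refine ⟨n.factorization p, (n / p ^ n.factorization p).primeFactorsList.length, ?_⟩
  have h1 := Nat.ordProj_mul_ordCompl_eq_self n p
  have h2 := Nat.eq_prime_pow_of_unique_prime_dvd (n := n / p ^ n.factorization p) (p := q)
    (Nat.ordCompl_pos p hn).ne' fun {r} hr hrd =>
      (h r hr (hrd.trans (Nat.ordCompl_dvd n p))).resolve_left fun e =>
        Nat.not_dvd_ordCompl hp hn (e ▸ hrd)
  rw [← h2, h1]

theorem isSolvable_two_primes {X : Type u} [Group X] [Finite X] {p q : ℕ} (hp : p.Prime)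
    (hq : q.Prime) (h : ∀ r : ℕ, r.Prime → r ∣ Nat.card X → r = p ∨ r = q) :
    Group.IsSolvable X := by
  obtain ⟨i, j, e⟩ := card_two_primes Nat.card_pos.ne' hp h
  exact CfsgLib.Char.isSolvable_of_card_two_primes hp hq X i j e

theorem exists_values (h : (((fun m : ℕ => Nat.card {g : G // orderOf g = m}) ''
      Set.range (orderOf : G → ℕ))).ncard = 3) :
    ∃ a b : ℕ, a ≠ 1 ∧ b ≠ 1 ∧ a ≠ b ∧ Two G a b ∧
      (ocnt G 2 = 0 ∨ ocnt G 2 = 1 ∨ ocnt G 2 = a ∨ ocnt G 2 = b) ∧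
      ∀ r : ℕ, r.Prime → r ≠ 2 → r ∣ Nat.card G → ocnt G r = a ∨ ocnt G r = b := by
  set V := (fun m : ℕ => Nat.card {g : G // orderOf g = m}) '' Set.range (orderOf : G → ℕ) with hV
  have h1 : 1 ∈ V := ⟨1, ⟨1, orderOf_one⟩, ocnt_one⟩
  have h2 : (V \ {1}).ncard = 2 := by rw [Set.ncard_sdiff_singleton_of_mem h1, h]
  obtain ⟨a, b, hab, he⟩ := Set.ncard_eq_two.1 h2
  have ha : a ∈ V \ {1} := he ▸ Set.mem_insert _ _
  have hb : b ∈ V \ {1} := he ▸ Set.mem_insert_of_mem _ rfl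
  have hall : ∀ d, ocnt G d = 0 ∨ ocnt G d = 1 ∨ ocnt G d = a ∨ ocnt G d = b := by
    intro d
    refine or_iff_not_imp_left.2 fun hd => or_iff_not_imp_left.2 fun hd1 => ?_
    have : ocnt G d ∈ V \ {1} := ⟨⟨d, exists_of_ocnt_ne_zero hd, rfl⟩, hd1⟩
    rw [he] at this
    exact this
  have htwo : Two G a b := by
    intro d hd
    rcases hall d with e | e | e
    · exact Or.inl e
    · exfalso
      have := (Nat.totient_even hd).two_dvd.trans (totient_dvd_ocnt (G := G) d)
      omega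
    · exact Or.inr e
  exact ⟨a, b, ha.2, hb.2, hab, htwo, hall 2, fun r hr hr2 hrd =>
    (htwo r (odd_prime_gt hr hr2)).resolve_left (ocnt_ne_zero_of_prime hr hrd)⟩

/-- S3996: three values of the counts force solvability. -/
theorem isSolvable (h : (((fun m : ℕ => Nat.card {g : G // orderOf g = m}) ''
      Set.range (orderOf : G → ℕ))).ncard = 3) : Group.IsSolvable G := by
  obtain ⟨a, b, ha1, hb1, hab, htwo, h2, hodd⟩ := exists_values h
  by_cases hone : ∀ p q : ℕ, p.Prime → q.Prime → p ≠ 2 → q ≠ 2 → p ∣ Nat.card G →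
      q ∣ Nat.card G → p = q
  · by_cases hex : ∃ p, p.Prime ∧ p ≠ 2 ∧ p ∣ Nat.card G
    · obtain ⟨p, hp, hp2, hpd⟩ := hex
      exact isSolvable_two_primes Nat.prime_two hp fun r hr hrd =>
        or_iff_not_imp_left.2 fun hr2 => hone r p hr hp hr2 hp2 hrd hpd
    · exact isSolvable_two_primes Nat.prime_two Nat.prime_two fun r hr hrd =>
        Or.inl (by_contra fun hr2 => hex ⟨r, hr, hr2, hrd⟩)
  push Not at hone
  obtain ⟨p, q, hP, hQ, hp2, hq2, hp, hq, hpq⟩ := hone
  haveI := Fact.mk hP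
  haveI := Fact.mk hQ
  have heven : ∀ d : ℕ, 2 < d → 2 ∣ ocnt G d := fun d hd =>
    (Nat.totient_even hd).two_dvd.trans (totient_dvd_ocnt d)
  have hN2 : ocnt G 2 = 0 ∨ ocnt G 2 = 1 := by
    by_contra hne
    push Not at hne
    have h2G : 2 ∣ Nat.card G := dvd_card_of_ocnt hne.1
    have hod : ¬ 2 ∣ ocnt G 2 := by
      have := prime_dvd_succ (G := G) Nat.prime_two h2G
      omega
    obtain ⟨a', b', ht, hv⟩ : ∃ a' b', Two G a' b' ∧ ocnt G 2 = a' := by
      rcases h2 with e | e | e | e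
      · exact absurd e hne.1
      · exact absurd e hne.2
      · exact ⟨a, b, htwo, e⟩
      · exact ⟨b, a, htwo.symm, e⟩
    have hb' : ∀ r : ℕ, r.Prime → r ≠ 2 → r ∣ Nat.card G → ocnt G r = b' := by
      intro r hr hr2 hrd
      have := heven r (odd_prime_gt hr hr2)
      rcases ht r (odd_prime_gt hr hr2) with e | e | e
      · exact absurd e (ocnt_ne_zero_of_prime hr hrd)
      · rw [e, ← hv] at this; exact absurd this hod
      · exact e
    obtain ⟨e, -⟩ := same_pair ht.symm hp2 hpq hp (hb' p hP hp2 hp) (hb' q hQ hq2 hq)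
    have := heven (q * p) (two_lt_prime_mul hQ hP)
    rw [e, ← hv] at this
    exact hod this
  have hpr : ∀ r : ℕ, r.Prime → r ∣ Nat.card G → r = 2 ∨ r = p ∨ r = q := by
    intro r hr hrd
    by_contra hne
    push Not at hne
    exact at_most_two htwo hodd hP hQ hr hp2 hq2 hne.1 hpq (Ne.symm hne.2.1) (Ne.symm hne.2.2)
      hp hq hrd
  rcases hN2 with h20 | h21
  · refine isSolvable_two_primes hP hQ fun r hr hrd => (hpr r hr hrd).resolve_left ?_
    rintro rfl
    exact ocnt_ne_zero_of_prime hr hrd h20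
  · have h4 : ocnt G 4 = 0 := by
      rcases hodd p hP hp2 hp with e | e
      · exact ocnt_four htwo hp2 hq2 hpq hp hq e (hodd q hQ hq2 hq)
      · exact ocnt_four htwo.symm hp2 hq2 hpq hp hq e (hodd q hQ hq2 hq).symm
    have h4G : ¬ 4 ∣ Nat.card G := by
      intro h4G
      have := dvd_sum_pow (G := G) (p := 2) (k := 2) Nat.prime_two (by simpa using h4G)
      simp [Finset.sum_range_succ, ocnt_one, h21, h4] at this
    obtain ⟨z, hz⟩ := exists_of_ocnt_ne_zero (G := G) (m := 2) (by omega)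
    have huniq : ∀ g : G, orderOf g = 2 → g = z := by
      intro g hg
      obtain ⟨hs, -⟩ := Nat.card_eq_one_iff_unique.1 h21
      exact congrArg Subtype.val (hs.elim ⟨g, hg⟩ ⟨z, hz⟩)
    haveI hN : (zpowers z).Normal := by
      refine ⟨fun n hn g => ?_⟩
      obtain ⟨i, rfl⟩ := mem_zpowers_iff.1 hn
      rw [← conj_zpow, huniq (g * z * g⁻¹) (by rw [← MulAut.conj_apply, MulEquiv.orderOf_eq, hz])]
      exact zpow_mem (mem_zpowers z) i
    have hcard : Nat.card G = Nat.card (G ⧸ zpowers z) * 2 := by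
      rw [card_eq_card_quotient_mul_card_subgroup (zpowers z), Nat.card_zpowers, hz]
    haveI hs1 : Group.IsSolvable (G ⧸ zpowers z) := isSolvable_two_primes hP hQ fun r hr hrd => by
      refine (hpr r hr (hrd.trans (Dvd.intro 2 hcard.symm))).resolve_left ?_
      rintro rfl
      exact h4G (hcard ▸ Nat.mul_dvd_mul hrd dvd_rfl)
    haveI hs2 : Group.IsSolvable (zpowers z) := isSolvable_two_primes Nat.prime_two Nat.prime_two
      fun r hr hrd => Or.inl ((Nat.prime_dvd_prime_iff_eq hr Nat.prime_two).1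
        (by rwa [Nat.card_zpowers, hz] at hrd))
    exact (Group.isSolvable_iff_subgroup_quotient (zpowers z)).2 ⟨hs2, hs1⟩

theorem ocnt_prime_pow_mod (p : ℕ) [Fact p.Prime] {j : ℕ} (hj : 2 ≤ j) :
    (ocnt G (p ^ j) : ZMod p) = 0 := by
  rw [ZMod.natCast_eq_zero_iff]
  refine dvd_trans ?_ (totient_dvd_ocnt (G := G) (p ^ j))
  rw [Nat.totient_prime_pow Fact.out (by omega)]
  exact Dvd.dvd.mul_right (dvd_pow_self p (by omega)) _

theorem two_lt_pow {p j : ℕ} (hp : p.Prime) (hp2 : p ≠ 2) (hj : 1 ≤ j) : 2 < p ^ j :=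
  (odd_prime_gt hp hp2).trans_le (Nat.le_self_pow (by omega) p)

theorem sum_range_pow_eq (p e : ℕ) (he : 1 ≤ e) :
    ∑ i ∈ Finset.range (e + 1), ocnt G (p ^ i) =
      1 + ocnt G p + ∑ i ∈ Finset.Icc 2 e, ocnt G (p ^ i) := by
  induction e, he using Nat.le_induction with
  | base => simp [Finset.sum_range_succ, ocnt_one]
  | succ n hn ih => rw [Finset.sum_range_succ, ih, Finset.sum_Icc_succ_top (by omega)]; omega

/-- No two odd primes share their count, in a group of odd order. -/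
theorem mixed_of_odd (h : Two G a b) {p q : ℕ} [Fact p.Prime] [Fact q.Prime] (hp2 : p ≠ 2)
    (hq2 : q ≠ 2) (hpq : p ≠ q) (hp : p ∣ Nat.card G) (hq : q ∣ Nat.card G)
    (hall : ∀ r : ℕ, r.Prime → r ∣ Nat.card G → r = p ∨ r = q)
    (ha : ocnt G p = a) : ocnt G q ≠ a := by
  intro haq
  have hP : p.Prime := Fact.out
  have hQ : q.Prime := Fact.out
  obtain ⟨hb, hbp⟩ := same_pair h hp2 hpq hp ha haq
  have key : ∀ r : ℕ, r.Prime → r ≠ 2 → r ∣ Nat.card G → ocnt G r = a → (b : ZMod r) = 1 →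
      r ^ (Nat.card G).factorization r ∣ 1 + a := by
    intro r hr hr2 hrd hra hrb
    haveI := Fact.mk hr
    have hz : ∀ j, 2 ≤ j → ocnt G (r ^ j) = 0 := by
      intro j hj
      have hm := ocnt_prime_pow_mod (G := G) r hj
      rcases h (r ^ j) (two_lt_pow hr hr2 (by omega)) with e | e | e
      · exact e
      · rw [e, ← hra, cast_ocnt_prime r hrd] at hm; exact absurd hm (neg_ne_zero.2 one_ne_zero)
      · rw [e, hrb] at hm; exact absurd hm one_ne_zero
    have hd := dvd_sum_pow (G := G) hr (Nat.ordProj_dvd (Nat.card G) r)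
    rw [sum_range_pow_eq r _ (hr.factorization_pos_of_dvd Nat.card_pos.ne' hrd), hra,
      Finset.sum_eq_zero (s := Finset.Icc 2 _) fun i hi => hz i (Finset.mem_Icc.1 hi).1] at hd
    exact hd
  obtain ⟨hb', hbq⟩ := same_pair h hq2 hpq.symm hq haq ha
  have h1 := key p hP hp2 hp ha hbp
  have h2 := key q hQ hq2 hq haq hbq
  have hG : Nat.card G ∣ 1 + a := by
    refine (Nat.dvd_iff_prime_pow_dvd_dvd _ _).2 fun r k hr hrk => ?_
    rcases Nat.eq_zero_or_pos k with rfl | hk
    · simp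
    have hle := (hr.pow_dvd_iff_le_factorization Nat.card_pos.ne').1 hrk
    rcases hall r hr ((dvd_pow_self r (by omega)).trans hrk) with rfl | rfl
    · exact (pow_dvd_pow _ hle).trans h1
    · exact (pow_dvd_pow _ hle).trans h2
  have hle := Nat.le_of_dvd (by omega) hG
  have hs := sum_le_card (G := G) {1, p, q}
  rw [Finset.sum_insert (by simp [Ne.symm hP.ne_one, Ne.symm hQ.ne_one]),
    Finset.sum_insert (by simpa using hpq), Finset.sum_singleton, ocnt_one, ha, haq] at hs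
  have := ocnt_ne_zero_of_prime (G := G) hP hp
  omega

theorem pow_dvd_count (h : Two G a b) {p q : ℕ} [Fact p.Prime] [Fact q.Prime] (hp2 : p ≠ 2)
    (hq2 : q ≠ 2) (hpq : p ≠ q) (hp : p ∣ Nat.card G) (hq : q ∣ Nat.card G) (ha : ocnt G p = a)
    (hb : ocnt G q = b) : q ^ (Nat.card G).factorization q ∣ a := by
  have hP : p.Prime := Fact.out
  have hQ : q.Prime := Fact.out
  set f := (Nat.card G).factorization q with hf
  have h0 : ocnt G (q * p) = 0 := (mixed_pair h hp2 hq2 hpq hp hq ha hb).1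
  have hQd : q ^ f ∣ Nat.card G := Nat.ordProj_dvd _ _
  have hnp : ¬ p ∣ q ^ f := fun h' =>
    hpq ((Nat.prime_dvd_prime_iff_eq hP hQ).1 (hP.dvd_of_dvd_pow h'))
  have h1 := (dvd_mul_right (q ^ f) p).trans (dvd_sum_divisors (G := G)
    (Nat.Coprime.mul_dvd_of_dvd_of_dvd ((hP.coprime_iff_not_dvd.2 hnp).symm) hQd hp))
  rw [sum_mul_prime (pow_ne_zero f hQ.ne_zero) hP hnp, Finset.sum_add_distrib,
    Nat.dvd_add_right (dvd_sum_divisors hQd), Finset.sum_eq_single 1] at h1
  · rwa [one_mul, ha] at h1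
  · intro d hd hd1
    obtain ⟨j, -, rfl⟩ := (Nat.dvd_prime_pow hQ).1 (Nat.mem_divisors.1 hd).1
    refine ocnt_eq_zero_of_dvd ?_ h0
    exact mul_dvd_mul_right (dvd_pow_self q (fun e => hd1 (by rw [e, pow_zero]))) p
  · exact fun h' => absurd (Nat.mem_divisors.2 ⟨one_dvd _, pow_ne_zero f hQ.ne_zero⟩) h'

theorem card_sum_pows {p q : ℕ} [Fact p.Prime] [Fact q.Prime] (hpq : p ≠ q)
    (hall : ∀ r : ℕ, r.Prime → r ∣ Nat.card G → r = p ∨ r = q) (h0 : ocnt G (q * p) = 0) :
    Nat.card G + 1 = ∑ i ∈ Finset.range ((Nat.card G).factorization p + 1), ocnt G (p ^ i) +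
      ∑ i ∈ Finset.range ((Nat.card G).factorization q + 1), ocnt G (q ^ i) := by
  classical
  have hP : p.Prime := Fact.out
  have hQ : q.Prime := Fact.out
  set e := (Nat.card G).factorization p
  set f := (Nat.card G).factorization q
  let A := (Finset.range (e + 1)).image (p ^ ·)
  let B := (Finset.range (f + 1)).image (q ^ ·)
  have hD : ∀ g : G, orderOf g ∈ A ∪ B := by
    intro g
    have hg := orderOf_dvd_natCard g
    obtain ⟨i, j, hij⟩ := card_two_primes (orderOf_pos g).ne' hP fun r hr hrd =>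
      hall r hr (hrd.trans hg)
    rcases Nat.eq_zero_or_pos i with rfl | hi
    · rw [pow_zero, one_mul] at hij
      refine Finset.mem_union_right _ (Finset.mem_image.2 ⟨j, Finset.mem_range.2 ?_, hij.symm⟩)
      exact Nat.lt_succ_of_le ((hQ.pow_dvd_iff_le_factorization Nat.card_pos.ne').1 (hij ▸ hg))
    rcases Nat.eq_zero_or_pos j with rfl | hj
    · rw [pow_zero, mul_one] at hij
      refine Finset.mem_union_left _ (Finset.mem_image.2 ⟨i, Finset.mem_range.2 ?_, hij.symm⟩)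
      exact Nat.lt_succ_of_le ((hP.pow_dvd_iff_le_factorization Nat.card_pos.ne').1 (hij ▸ hg))
    exfalso
    have : q * p ∣ orderOf g := by
      rw [hij, mul_comm q p]
      exact Nat.mul_dvd_mul (dvd_pow_self p (by omega)) (dvd_pow_self q (by omega))
    obtain ⟨x, hx⟩ := exists_of_dvd g this
    exact (ocnt_pos hx).ne' h0
  have hi : A ∩ B = {1} := by
    ext d
    simp only [A, B, Finset.mem_inter, Finset.mem_image, Finset.mem_range, Finset.mem_singleton]
    constructor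
    · rintro ⟨⟨i, -, rfl⟩, j, -, hj⟩
      exact ((Nat.coprime_primes hP hQ).2 hpq).pow i j |>.eq_one_of_dvd (hj ▸ dvd_rfl)
    · rintro rfl
      exact ⟨⟨0, by omega, pow_zero p⟩, 0, by omega, pow_zero q⟩
  have := Finset.sum_union_inter (s₁ := A) (s₂ := B) (f := fun d => ocnt G d)
  rw [← card_eq_sum hD, hi, Finset.sum_singleton, ocnt_one] at this
  rw [this, Finset.sum_image fun i _ j _ e' => Nat.pow_right_injective hP.two_le e',
    Finset.sum_image fun i _ j _ e' => Nat.pow_right_injective hQ.two_le e']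

/-- In odd order with two primes every element has prime order. -/
theorem ocnt_sq_eq_zero (h : Two G a b) {p q : ℕ} [Fact p.Prime] [Fact q.Prime] (hp2 : p ≠ 2)
    (hq2 : q ≠ 2) (hpq : p ≠ q) (hp : p ∣ Nat.card G) (hq : q ∣ Nat.card G)
    (hall : ∀ r : ℕ, r.Prime → r ∣ Nat.card G → r = p ∨ r = q) (ha : ocnt G p = a)
    (hb : ocnt G q = b) : ocnt G (q ^ 2) = 0 := by
  classical
  have hP : p.Prime := Fact.out
  have hQ : q.Prime := Fact.out
  obtain ⟨h0, hbp, haq⟩ := mixed_pair h hp2 hq2 hpq hp hq ha hb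
  have hap : (a : ZMod p) = -1 := by rw [← ha]; exact cast_ocnt_prime p hp
  have hbq : (b : ZMod q) = -1 := by rw [← hb]; exact cast_ocnt_prime q hq
  set e := (Nat.card G).factorization p with he
  set f := (Nat.card G).factorization q with hf
  have he1 : 1 ≤ e := hP.factorization_pos_of_dvd Nat.card_pos.ne' hp
  have hf1 : 1 ≤ f := hQ.factorization_pos_of_dvd Nat.card_pos.ne' hq
  have hQa : q ^ f ∣ a := pow_dvd_count h hp2 hq2 hpq hp hq ha hb
  have hPb : p ^ e ∣ b := pow_dvd_count h.symm hq2 hp2 hpq.symm hq hp hb ha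
  have hpb : ∀ j, 2 ≤ j → p ^ e ∣ ocnt G (p ^ j) := by
    intro j hj
    have hm := ocnt_prime_pow_mod (G := G) p hj
    rcases h (p ^ j) (two_lt_pow hP hp2 (by omega)) with e' | e' | e'
    · rw [e']; exact dvd_zero _
    · rw [e', hap] at hm; exact absurd hm (neg_ne_zero.2 one_ne_zero)
    · rw [e']; exact hPb
  have hqa : ∀ j, 2 ≤ j → ocnt G (q ^ j) = 0 ∨ ocnt G (q ^ j) = a := by
    intro j hj
    have hm := ocnt_prime_pow_mod (G := G) q hj
    rcases h (q ^ j) (two_lt_pow hQ hq2 (by omega)) with e' | e' | e'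
    · exact Or.inl e'
    · exact Or.inr e'
    · rw [e', hbq] at hm; exact absurd hm (neg_ne_zero.2 one_ne_zero)
  have hPd : p ^ e ∣ Nat.card G := Nat.ordProj_dvd _ _
  have hP1a : p ^ e ∣ 1 + a := by
    have hd := dvd_sum_pow (G := G) hP hPd
    rw [sum_range_pow_eq p e he1, ha] at hd
    exact (Nat.dvd_add_left (Finset.dvd_sum fun i hi => hpb i (Finset.mem_Icc.1 hi).1)).1 hd
  set S := (Finset.Icc 2 f).filter fun j => ocnt G (q ^ j) ≠ 0 with hS
  have hSsum : ∑ j ∈ Finset.Icc 2 f, ocnt G (q ^ j) = S.card * a := by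
    rw [hS, ← Finset.sum_filter_ne_zero]
    rw [Finset.sum_congr rfl fun j hj => (hqa j (Finset.mem_Icc.1 (Finset.mem_filter.1 hj).1).1
      ).resolve_left (Finset.mem_filter.1 hj).2, Finset.sum_const, smul_eq_mul]
  have hsum := card_sum_pows hpq hall h0
  rw [← he, ← hf, sum_range_pow_eq q f hf1, hb, hSsum] at hsum
  have hPm : p ^ e ∣ S.card * a := by
    have h1 : p ^ e ∣ b + S.card * a := by
      have h2 : p ^ e ∣ ∑ i ∈ Finset.range (e + 1), ocnt G (p ^ i) + (b + S.card * a) := by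
        rw [show ∑ i ∈ Finset.range (e + 1), ocnt G (p ^ i) + (b + S.card * a) = Nat.card G by omega]
        exact hPd
      exact (Nat.dvd_add_right (dvd_sum_pow hP hPd)).1 h2
    exact (Nat.dvd_add_right hPb).1 h1
  have hcop : (p ^ e).Coprime a := by
    refine Nat.Coprime.pow_left e (hP.coprime_iff_not_dvd.2 fun hd => ?_)
    have := (Nat.dvd_add_left hd).1 ((dvd_pow_self p (show e ≠ 0 by omega)).trans hP1a)
    exact hP.ne_one (Nat.dvd_one.1 this)
  have hPm' : p ^ e ∣ S.card := hcop.dvd_of_dvd_mul_right hPm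
  by_contra hne
  have h2f : 2 ≤ f := by
    by_contra hlt
    have := dvd_card_of_ocnt hne
    have := (hQ.pow_dvd_iff_le_factorization Nat.card_pos.ne').1 this
    omega
  have hS0 : 0 < S.card := Finset.card_pos.2
    ⟨2, Finset.mem_filter.2 ⟨Finset.mem_Icc.2 ⟨le_rfl, h2f⟩, hne⟩⟩
  have ha0 : 0 < a := ha ▸ Nat.pos_of_ne_zero (ocnt_ne_zero_of_prime hP hp)
  have hG : Nat.card G = p ^ e * q ^ f := by
    refine Nat.dvd_antisymm ?_ (Nat.Coprime.mul_dvd_of_dvd_of_dvd
      (((Nat.coprime_primes hP hQ).2 hpq).pow e f) hPd (Nat.ordProj_dvd _ _))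
    refine (Nat.dvd_iff_prime_pow_dvd_dvd _ _).2 fun r k hr hrk => ?_
    rcases Nat.eq_zero_or_pos k with rfl | hk
    · simp
    have hle := (hr.pow_dvd_iff_le_factorization Nat.card_pos.ne').1 hrk
    rcases hall r hr ((dvd_pow_self r (by omega)).trans hrk) with rfl | rfl
    · exact (pow_dvd_pow _ hle).trans (dvd_mul_right _ _)
    · exact (pow_dvd_pow _ hle).trans (dvd_mul_left _ _)
  have := Nat.mul_le_mul (Nat.le_of_dvd hS0 hPm') (Nat.le_of_dvd ha0 hQa)
  have hpos : 0 < ∑ i ∈ Finset.range (e + 1), ocnt G (p ^ i) := by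
    rw [sum_range_pow_eq p e he1]; omega
  have hb0 : 0 < b := hb ▸ Nat.pos_of_ne_zero (ocnt_ne_zero_of_prime hQ hq)
  omega

theorem pow_eq_one_of_mem {p : ℕ} [Fact p.Prime] (h2 : ocnt G (p ^ 2) = 0) {x : G} {H : Subgroup G}
    (hH : IsPGroup p H) (hx : x ∈ H) : x ^ p = 1 := by
  obtain ⟨k, hk⟩ := IsPGroup.iff_orderOf.1 hH ⟨x, hx⟩
  rw [orderOf_mk] at hk
  have hk1 : k ≤ 1 := by
    by_contra hk2
    obtain ⟨y, hy⟩ := exists_of_dvd x (hk ▸ pow_dvd_pow p (show 2 ≤ k by omega))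
    exact (ocnt_pos hy).ne' h2
  exact orderOf_dvd_iff_pow_eq_one.1 (hk ▸ (pow_dvd_pow p hk1).trans (pow_one p).dvd)

/-- The Frobenius structure, once every element has prime order. -/
theorem frobenius_of_minimal {p q : ℕ} [Fact p.Prime] [Fact q.Prime] (hpq : p ≠ q)
    (hp : p ∣ Nat.card G) (hq : q ∣ Nat.card G)
    (hall : ∀ r : ℕ, r.Prime → r ∣ Nat.card G → r = p ∨ r = q)
    (h0 : ocnt G (q * p) = 0) (hp2 : ocnt G (p ^ 2) = 0) (hq2 : ocnt G (q ^ 2) = 0)
    (hL : Cfsg.pCore p G ≠ ⊥) :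
    ∃ C : Subgroup G, Cfsg.IsFrobeniusComplement C ∧ (Nat.card C).Prime := by
  have hP : p.Prime := Fact.out
  have hQ : q.Prime := Fact.out
  haveI hsolv : Group.IsSolvable G := isSolvable_two_primes hP hQ hall
  have hsep : PrimeSep ({p} : Set ℕ) G := by
    intro x y hx hy hxp hyp g hg
    simp only [Set.mem_singleton_iff] at hxp hyp
    have hyq : y = q := (hall y hy ((dvd_mul_left y x).trans (hg ▸ orderOf_dvd_natCard g))).resolve_left hyp
    exact (ocnt_pos hg).ne' (by rw [hxp, hyq, mul_comm]; exact h0)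
  have hfix : ∀ u y : G, u ^ p = 1 → y ^ q = 1 → Commute u y → u = 1 ∨ y = 1 := by
    intro u y hu hy hc
    by_contra hne
    push Not at hne
    exact hsep.commute_false hc (by rw [orderOf_eq_prime hu hne.1]; exact hP)
      (by rw [orderOf_eq_prime hy hne.2]; exact hQ)
      (by rw [orderOf_eq_prime hu hne.1]; rfl)
      (by rw [orderOf_eq_prime hy hne.2]; exact fun e => hpq (Set.mem_singleton_iff.1 e).symm)
  set L := Cfsg.pCore p G with hLdef
  haveI hLn : L.Normal := CfsgLib.Coprime.pCore_normal' p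
  have hLp : IsPGroup p L := CfsgLib.PGroup.isPGroup_pCore p G
  obtain ⟨Q⟩ : Nonempty (Sylow q G) := inferInstance
  have hQ0 : (Q : Subgroup G) ≠ ⊥ := Q.ne_bot_of_dvd_card hq
  have hQL : (Q : Subgroup G) ≤ normalizer (L : Set G) := by
    rw [normalizer_eq_top]; exact le_top
  have hqe : ∀ y ∈ (Q : Subgroup G), y ^ q = 1 := fun y hy => pow_eq_one_of_mem hq2 Q.2 hy
  have hpe : ∀ u ∈ L, u ^ p = 1 := fun u hu => pow_eq_one_of_mem hp2 hLp hu
  have hfpf : CfsgLib.Coprime.IsFpfOn (Q : Subgroup G) L := by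
    intro y hy hy1
    refine (eq_bot_iff_forall _).2 fun u ⟨hu, huy⟩ => ?_
    exact (hfix u y (hpe u hu) (hqe y hy) (mem_centralizer_singleton_iff.1 huy)).resolve_right hy1
  have hQcard : Nat.card (Q : Subgroup G) = q := by
    let T : Subgroup (Q : Subgroup G) := ⊤
    have hu := CfsgLib.Coprime.isCyclic_of_uniqueOrderP_fpf hQL hfpf hL (p := q) T
      (Q.2.to_subgroup T)
    obtain ⟨⟨x, hx⟩, hx1⟩ := (Q : Subgroup G).ne_bot_iff_exists_ne_one.1 hQ0
    have hx1' : x ≠ 1 := fun e => hx1 (Subtype.ext e)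
    have hle : (Q : Subgroup G) ≤ zpowers x := by
      intro y hy
      obtain ⟨i, hi⟩ := hu ⟨⟨x, hx⟩, mem_top _⟩ ⟨⟨y, hy⟩, mem_top _⟩
        (Subtype.ext (Subtype.ext (hqe x hx))) (Subtype.ext (Subtype.ext (hqe y hy)))
        (fun e => hx1' (congrArg (fun t : T => ((t : (Q : Subgroup G)) : G)) e))
      exact ⟨i, congrArg (fun t : T => ((t : (Q : Subgroup G)) : G)) hi⟩
    rw [le_antisymm hle (zpowers_le.2 hx), Nat.card_zpowers, orderOf_eq_prime (hqe x hx) hx1']
  obtain ⟨P⟩ : Nonempty (Sylow p G) := inferInstance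
  have hLP : L ≤ (P : Subgroup G) := pCore_le_sylow P
  have hPQ : Nat.card G = Nat.card P * q := by
    rw [← hQcard, P.card_eq_multiplicity, Q.card_eq_multiplicity]
    refine Nat.dvd_antisymm ((Nat.dvd_iff_prime_pow_dvd_dvd _ _).2 fun r k hr hrk => ?_)
      (Nat.Coprime.mul_dvd_of_dvd_of_dvd (((Nat.coprime_primes hP hQ).2 hpq).pow _ _)
        (Nat.ordProj_dvd _ _) (Nat.ordProj_dvd _ _))
    rcases Nat.eq_zero_or_pos k with rfl | hk
    · simp
    have hle := (hr.pow_dvd_iff_le_factorization Nat.card_pos.ne').1 hrk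
    rcases hall r hr ((dvd_pow_self r (by omega)).trans hrk) with rfl | rfl
    · exact (pow_dvd_pow _ hle).trans (dvd_mul_right _ _)
    · exact (pow_dvd_pow _ hle).trans (dvd_mul_left _ _)
  have hPidx : (P : Subgroup G).index = q := by
    have h1 := (P : Subgroup G).card_mul_index
    exact Nat.eq_of_mul_eq_mul_left Nat.card_pos (h1.trans hPQ)
  by_cases hLP' : L = (P : Subgroup G)
  · have hL1 : L ≠ ⊤ := by
      intro e
      rw [← hLP', e, index_top] at hPidx
      exact hQ.ne_one hPidx.symm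
    have hpi1 : CfsgLib.Coprime.IsPiNum ({p} : Set ℕ) (Nat.card L) := by
      obtain ⟨k, hk⟩ := IsPGroup.iff_card.1 hLp
      rw [hk]
      exact (CfsgLib.Coprime.isPiNum_singleton_of_pow hP).mono (by simp)
    have hpi2 : CfsgLib.Coprime.IsPiNum ({p} : Set ℕ)ᶜ L.index := by
      rw [hLP', hPidx, ← pow_one q]
      exact (CfsgLib.Coprime.isPiNum_singleton_of_pow hQ).mono (by simpa using fun e => hpq e)
    obtain ⟨C, hC, hCk⟩ := hsep.frobenius L hL hL1 (Or.inl ⟨hpi1, hpi2⟩)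
    refine ⟨C, hC, ?_⟩
    have h1 : C.index = Nat.card P := by
      rw [← CfsgLib.Coprime.frob_card_kernel hC, hCk, hLP']
      rfl
    have h2 := C.card_mul_index
    rw [h1, hPQ, mul_comm (Nat.card P) q] at h2
    rw [Nat.eq_of_mul_eq_mul_right Nat.card_pos h2]
    exact hQ
  exfalso
  -- the image of `Q` is normal in `G / L`
  let π := QuotientGroup.mk' L
  have hcard : Nat.card (G ⧸ L) = L.index := rfl
  haveI hnt : Nontrivial (G ⧸ L) := by
    refine Finite.one_lt_card_iff_nontrivial.1 (L.one_lt_index_of_ne_top fun e => ?_)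
    exact hLP' (le_antisymm hLP (le_top.trans e.ge))
  obtain ⟨V, hVn, hV0, -, hVmin⟩ :=
    CfsgLib.Coprime.exists_minimal_normal_le (N := (⊤ : Subgroup (G ⧸ L))) top_ne_bot
  haveI := hVn
  obtain ⟨r, d, hr, hd, hVcard, hVp, -⟩ := CfsgLib.Coprime.exists_minimal_abelian V hV0 hVmin
  haveI := Fact.mk hr
  set M := V.comap π with hM
  haveI hMn : M.Normal := hVn.comap π
  have hLM : L ≤ M := fun u hu => by
    show π u ∈ V
    rw [show π u = 1 from (QuotientGroup.eq_one_iff u).2 hu]; exact one_mem V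
  have hMcard : Nat.card M = Nat.card V * Nat.card L := by
    have h1 : M.index = V.index := index_comap_of_surjective V (QuotientGroup.mk'_surjective L)
    have h2 := M.card_mul_index
    have h3 := V.card_mul_index
    rw [h1, L.card_eq_card_quotient_mul_card_subgroup, ← h3] at h2
    refine Nat.eq_of_mul_eq_mul_right (Nat.pos_of_ne_zero V.index_ne_zero_of_finite) ?_
    rw [h2]; ring
  have hrq : r = q := by
    have hrG : r ∣ Nat.card G := by
      refine (dvd_pow_self r (show d ≠ 0 by omega)).trans (hVcard ▸ ?_)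
      exact (card_subgroup_dvd_card V).trans (card_quotient_dvd_card L)
    refine (hall r hr hrG).resolve_left fun e => ?_
    subst e
    obtain ⟨k, hk⟩ := IsPGroup.iff_card.1 hLp
    have hMp : IsPGroup r M := IsPGroup.of_card (n := d + k) (by rw [hMcard, hVcard, hk, pow_add])
    have hle : M ≤ L := CfsgLib.Coprime.le_pCore hMp
    exact hV0 (le_bot_iff.1 (fun v hv => by
      obtain ⟨g, rfl⟩ := QuotientGroup.mk'_surjective L v
      exact (QuotientGroup.eq_one_iff g).2 (hle hv)))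
  subst hrq
  -- so `L ⊔ Q` is normal; push an element of `P \ L` into `N(Q)`
  have hQM : (Q : Subgroup G) ≤ M := by
    obtain ⟨y, hyM, hy⟩ : ∃ y ∈ M, orderOf y = r := by
      obtain ⟨⟨y, hyM⟩, hy⟩ := exists_prime_orderOf_dvd_card' (G := M) r
        (hMcard ▸ (hVcard ▸ dvd_pow_self r (show d ≠ 0 by omega)).mul_right _)
      exact ⟨y, hyM, by rwa [orderOf_mk] at hy⟩
    obtain ⟨Q', hQ'⟩ := (IsPGroup.of_card (by rw [Nat.card_zpowers, hy, pow_one] :
      Nat.card (zpowers y) = r ^ 1)).exists_le_sylow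
    obtain ⟨g, rfl⟩ := MulAction.exists_smul_eq G Q' Q
    have hQ'c : Nat.card (Q' : Subgroup G) = r := by
      refine Eq.trans ?_ hQcard
      rw [(g • Q').card_eq_multiplicity, Q'.card_eq_multiplicity]
    have hQ'M : (Q' : Subgroup G) ≤ M := by
      rw [← eq_of_le_of_card_ge hQ' (by rw [Nat.card_zpowers, hy, hQ'c])]
      exact zpowers_le.2 hyM
    intro u hu
    obtain ⟨v, hv, rfl⟩ := hu
    exact hMn.conj_mem v (hQ'M hv) g
  obtain ⟨u, huP, huL⟩ := SetLike.exists_of_lt (lt_of_le_of_ne hLP hLP')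
  haveI : Fact r.Prime := ⟨hr⟩
  let QM : Sylow r M := Q.subtype hQM
  have hFr := Sylow.normalizer_sup_eq_top QM
  have hQmap : (QM : Subgroup M).map M.subtype = (Q : Subgroup G) := by
    rw [Sylow.coe_subtype, subgroupOf_map_subtype, inf_eq_left.2 hQM]
  rw [hQmap] at hFr
  have hMLQ : M = L ⊔ (Q : Subgroup G) := by
    refine (eq_of_le_of_card_ge (sup_le hLM hQM) ?_).symm
    have hcop : (Nat.card L).Coprime (Nat.card (Q : Subgroup G)) := by
      obtain ⟨k, hk⟩ := IsPGroup.iff_card.1 hLp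
      rw [hk, hQcard]
      exact ((Nat.coprime_primes hP hr).2 hpq).pow_left k
    have h1 : Nat.card L * Nat.card (Q : Subgroup G) ∣ Nat.card (L ⊔ (Q : Subgroup G) : Subgroup G) :=
      hcop.mul_dvd_of_dvd_of_dvd (card_dvd_of_le le_sup_left) (card_dvd_of_le le_sup_right)
    refine le_trans ?_ (Nat.le_of_dvd Nat.card_pos h1)
    rw [hMcard, hQcard, mul_comm]
    refine Nat.mul_le_mul_left _ (Nat.le_of_dvd hr.pos ?_)
    have h2 : Nat.card V ∣ Nat.card G := (card_subgroup_dvd_card V).trans (card_quotient_dvd_card L)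
    rw [hPQ] at h2
    obtain ⟨k, hk⟩ := IsPGroup.iff_card.1 P.2
    rw [hVcard] at h2 ⊢
    exact (((Nat.coprime_primes hr hP).2 hpq.symm).pow d k).dvd_of_dvd_mul_left (hk ▸ h2)
  have hNL : normalizer ((Q : Subgroup G) : Set G) ⊔ L = ⊤ := by
    rw [eq_top_iff, ← hFr]
    refine sup_le le_sup_left (hMLQ.le.trans (sup_le le_sup_right ?_))
    exact le_normalizer.trans le_sup_left
  obtain ⟨x, hxN, l, hl, hxl⟩ := mem_sup_of_normal_right.1 (hNL ▸ mem_top u : u ∈ _)
  have hxP : x ∈ (P : Subgroup G) := by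
    rw [show x = u * l⁻¹ by rw [← hxl]; group]
    exact mul_mem huP (inv_mem (hLP hl))
  have hxL : x ∉ L := fun h' => huL (hxl ▸ mul_mem h' hl)
  have hx1 : x ≠ 1 := fun e => hxL (e ▸ one_mem L)
  have hxp : x ^ p = 1 := pow_eq_one_of_mem hp2 P.2 hxP
  have hcent := CfsgLib.Char.FrobeniusQuotient.centralizes_of_norm_trivial (P := L)
    (F := (Q : Subgroup G)) hLp hQL
    (fun hd => hpq ((Nat.prime_dvd_prime_iff_eq hP hr).1 (hQcard ▸ hd))) (x := x) (n := p) hP.pos
    (by rw [normalizer_eq_top]; exact mem_top x) hxN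
    (fun i hi hip f hf hc => by
      refine (hfix (x ^ i) f (by rw [← pow_mul, mul_comm, pow_mul, hxp, one_pow]) (hqe f hf)
        hc.symm).resolve_left fun e => ?_
      have := orderOf_dvd_of_pow_eq_one e
      rw [orderOf_eq_prime hxp hx1] at this
      exact absurd (Nat.le_of_dvd hi this) (by omega))
    (fun v hv => pow_eq_one_of_mem hp2 P.2 (mul_mem hxP (hLP hv))) hxp
  obtain ⟨⟨y, hy⟩, hy1⟩ := (Q : Subgroup G).ne_bot_iff_exists_ne_one.1 hQ0
  have hy1' : y ≠ 1 := fun e => hy1 (Subtype.ext e)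
  refine hL (le_bot_iff.1 fun v hv => ?_)
  exact (hfix v y (hpe v hv) (hqe y hy) (mem_centralizer_iff.1 (hcent hy) v hv)).resolve_right hy1'

/-- S4004. -/
theorem odd_structure (hG : Odd (Nat.card G))
    (h : (((fun m : ℕ => Nat.card {g : G // orderOf g = m}) ''
      Set.range (orderOf : G → ℕ))).ncard = 3) :
    (Nat.card G).primeFactors.card ≤ 2 ∧ ((Nat.card G).primeFactors.card = 2 →
      (∀ (p : ℕ) [Fact p.Prime] (P : Sylow p G), p ∣ Nat.card G →
        Monoid.exponent ↥(P : Subgroup G) = p) ∧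
      ∃ C : Subgroup G, Cfsg.IsFrobeniusComplement C ∧ (Nat.card ↥C).Prime) := by
  classical
  obtain ⟨a, b, -, -, hab, htwo, -, hodd⟩ := exists_values h
  have hne2 : ∀ r, r ∣ Nat.card G → r ≠ 2 := fun r hr e =>
    Nat.not_even_iff_odd.2 hG (even_iff_two_dvd.2 (e ▸ hr))
  refine ⟨?_, fun h2 => ?_⟩
  · by_contra hlt
    obtain ⟨p, q, w, hp, hq, hw, hpq, hpw, hqw⟩ := Finset.two_lt_card_iff.1 (not_le.1 hlt)
    obtain ⟨hP, hpd, -⟩ := Nat.mem_primeFactors.1 hp
    obtain ⟨hQ, hqd, -⟩ := Nat.mem_primeFactors.1 hq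
    obtain ⟨hW, hwd, -⟩ := Nat.mem_primeFactors.1 hw
    exact at_most_two htwo hodd hP hQ hW (hne2 p hpd) (hne2 q hqd) (hne2 w hwd) hpq hpw hqw
      hpd hqd hwd
  obtain ⟨p, q, hpq, he⟩ := Finset.card_eq_two.1 h2
  have hmem : ∀ r, r ∈ (Nat.card G).primeFactors ↔ r = p ∨ r = q := fun r => by rw [he]; simp
  obtain ⟨hP, hpd, -⟩ := Nat.mem_primeFactors.1 ((hmem p).2 (Or.inl rfl))
  obtain ⟨hQ, hqd, -⟩ := Nat.mem_primeFactors.1 ((hmem q).2 (Or.inr rfl))
  haveI := Fact.mk hP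
  haveI := Fact.mk hQ
  have hall : ∀ r : ℕ, r.Prime → r ∣ Nat.card G → r = p ∨ r = q := fun r hr hrd =>
    (hmem r).1 (Nat.mem_primeFactors.2 ⟨hr, hrd, Nat.card_pos.ne'⟩)
  have hp2 := hne2 p hpd
  have hq2 := hne2 q hqd
  obtain ⟨a', b', ht, ha', hb'⟩ : ∃ a' b', Two G a' b' ∧ ocnt G p = a' ∧ ocnt G q = b' := by
    rcases hodd p hP hp2 hpd with e | e
    · refine ⟨a, b, htwo, e, (hodd q hQ hq2 hqd).resolve_left ?_⟩
      exact mixed_of_odd htwo hp2 hq2 hpq hpd hqd hall e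
    · refine ⟨b, a, htwo.symm, e, (hodd q hQ hq2 hqd).resolve_right ?_⟩
      exact mixed_of_odd htwo.symm hp2 hq2 hpq hpd hqd hall e
  have h0 : ocnt G (q * p) = 0 := (mixed_pair ht hp2 hq2 hpq hpd hqd ha' hb').1
  have hq22 := ocnt_sq_eq_zero ht hp2 hq2 hpq hpd hqd hall ha' hb'
  have hall' : ∀ r : ℕ, r.Prime → r ∣ Nat.card G → r = q ∨ r = p := fun r hr hrd => (hall r hr hrd).symm
  have hp22 := ocnt_sq_eq_zero ht.symm hq2 hp2 hpq.symm hqd hpd hall' hb' ha'
  refine ⟨fun r hr R hrd => ?_, ?_⟩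
  · have hr22 : ocnt G (r ^ 2) = 0 := by
      rcases hall r hr.out hrd with rfl | rfl
      · exact hp22
      · exact hq22
    refine (Nat.dvd_prime hr.out).1 (Monoid.exponent_dvd_of_forall_pow_eq_one fun x => ?_) |>.resolve_left ?_
    · exact Subtype.ext (pow_eq_one_of_mem hr22 R.2 x.2)
    · intro e
      refine R.ne_bot_of_dvd_card hrd ((eq_bot_iff_forall _).2 fun x hx => ?_)
      haveI := Monoid.exp_eq_one_iff.1 e
      exact congrArg Subtype.val (Subsingleton.elim (⟨x, hx⟩ : R) 1)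
  haveI : Group.IsSolvable G := isSolvable_two_primes hP hQ hall
  haveI : Nontrivial G := Finite.one_lt_card_iff_nontrivial.1
    (hP.one_lt.trans_le (Nat.le_of_dvd Nat.card_pos hpd))
  obtain ⟨V, hVn, hV0, -, hVmin⟩ :=
    CfsgLib.Coprime.exists_minimal_normal_le (N := (⊤ : Subgroup G)) top_ne_bot
  haveI := hVn
  obtain ⟨r, d, hr, hd, hVcard, hVp, -⟩ := CfsgLib.Coprime.exists_minimal_abelian V hV0 hVmin
  haveI := Fact.mk hr
  have hrG : r ∣ Nat.card G := ((dvd_pow_self r (show d ≠ 0 by omega)).trans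
    (hVcard ▸ card_subgroup_dvd_card V))
  have hcore : Cfsg.pCore r G ≠ ⊥ := fun e => hV0 (le_bot_iff.1 (e ▸
    CfsgLib.Coprime.le_pCore (IsPGroup.of_card hVcard)))
  rcases hall r hr hrG with rfl | rfl
  · exact frobenius_of_minimal hpq hpd hqd hall h0 hp22 hq22 hcore
  · exact frobenius_of_minimal hpq.symm hqd hpd hall' (by rwa [mul_comm]) hq22 hp22 hcore

end

end CfsgLib.PGroup.ThreeCounts
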