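import Cfsg.Agent.Lib.PGroup.PiClasses
import Cfsg.Agent.Lib.PGroup.ClassSize

/-!
Counting classes of 2-elements: more than `|P|/2` forces a normal 2-complement.
-/

set_option linter.style.haveILetI false

namespace CfsgLib.PGroup

open Subgroup
open scoped Classical

universe u

variable {G : Type u} [Group G] [Finite G] {p : ℕ} [hp : Fact p.Prime]

/-- `x` is the only element of its class in `S`. -/
def IsWeaklyClosedIn (x : G) (S : Subgroup G) : Prop :=
  x ∈ S ∧ ∀ g : G, g * x * g⁻¹ ∈ S → g * x * g⁻¹ = x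

/-- The centralizer of a weakly closed element controls fusion. -/
theorem exists_centralizing_conj (P : Sylow p G) {x : G} (hx : IsWeaklyClosedIn x (P : Subgroup G))
    {y g : G} (hy : y ∈ (P : Subgroup G)) (hgy : g * y * g⁻¹ ∈ (P : Subgroup G)) :
    ∃ h : G, h * x * h⁻¹ = x ∧ h * y * h⁻¹ = g * y * g⁻¹ := by
  have hcen : ∀ u ∈ (P : Subgroup G), Commute x u := fun u hu =>
    (mul_inv_eq_iff_eq_mul.1 (hx.2 u (mul_mem (mul_mem hu hx.1) (inv_mem hu)))).symm
  have hzx : IsPGroup p (zpowers x) := P.2.to_le (zpowers_le.2 hx.1)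
  set C := centralizer ({g * y * g⁻¹} : Set G)
  have hxC : zpowers x ≤ C := zpowers_le.2 (mem_centralizer_singleton_iff.2 (hcen _ hgy))
  have hxgC : zpowers (g * x * g⁻¹) ≤ C := zpowers_le.2 (mem_centralizer_singleton_iff.2 (by
    calc g * x * g⁻¹ * (g * y * g⁻¹) = g * (x * y) * g⁻¹ := by group
      _ = g * (y * x) * g⁻¹ := by rw [(hcen y hy).eq]
      _ = g * y * g⁻¹ * (g * x * g⁻¹) := by group))
  obtain ⟨T, hxT, hTC, hT, hTi⟩ := CfsgLib.Fusion.exists_le_not_dvd_relIndex hzx hxC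
  have hxg : IsPGroup p (zpowers (g * x * g⁻¹)) := by
    have := hzx.map (MulAut.conj g : G →* G)
    rw [MonoidHom.map_zpowers] at this
    exact this
  obtain ⟨c, hc, hcT⟩ :=
    CfsgLib.Fusion.exists_conj_le_of_not_dvd_relIndex hT hTC hTi hxg hxgC
  have hc1 : c * (g * x * g⁻¹) * c⁻¹ ∈ T := hcT ⟨_, mem_zpowers _, rfl⟩
  obtain ⟨Q, hQ⟩ := hT.exists_le_sylow
  obtain ⟨a, rfl⟩ := MulAction.exists_smul_eq G P Q
  have hmem : ∀ z ∈ T, a⁻¹ * z * a ∈ (P : Subgroup G) := by
    intro z hz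
    have := hQ hz
    rw [Sylow.coe_subgroup_smul, mem_pointwise_smul_iff_inv_smul_mem] at this
    simpa [MulAut.smul_def] using this
  have hxa : a⁻¹ * x * a = x := by
    have := hx.2 a⁻¹ (by rw [inv_inv]; exact hmem x (hxT (mem_zpowers x)))
    rwa [inv_inv] at this
  have h2 : a⁻¹ * (c * (g * x * g⁻¹) * c⁻¹) * a = x := by
    have e : a⁻¹ * (c * (g * x * g⁻¹) * c⁻¹) * a = a⁻¹ * c * g * x * (a⁻¹ * c * g)⁻¹ := by group
    rw [e]
    exact hx.2 _ (e ▸ hmem _ hc1)
  refine ⟨c * g, ?_, ?_⟩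
  · calc c * g * x * (c * g)⁻¹ = c * (g * x * g⁻¹) * c⁻¹ := by group
      _ = a * (a⁻¹ * (c * (g * x * g⁻¹) * c⁻¹) * a) * a⁻¹ := by group
      _ = a * (a⁻¹ * x * a) * a⁻¹ := by rw [h2, hxa]
      _ = x := by group
  · calc c * g * y * (c * g)⁻¹ = c * (g * y * g⁻¹) * c⁻¹ := by group
      _ = g * y * g⁻¹ := mul_inv_eq_iff_eq_mul.2 (mem_centralizer_singleton_iff.1 hc)

/-- The weakly closed elements of a Sylow subgroup. -/
def weaklyClosedPart (P : Sylow p G) : Subgroup (P : Subgroup G) where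
  carrier := {x | IsWeaklyClosedIn (x : G) (P : Subgroup G)}
  one_mem' := ⟨one_mem _, fun g _ => by simp⟩
  mul_mem' := by
    intro x z hx hz
    refine ⟨(x * z).2, fun g hg => ?_⟩
    obtain ⟨h, h1, h2⟩ := exists_centralizing_conj P hx (x * z).2 hg
    simp only [coe_mul] at h2 hg ⊢
    have h3 : (x : G) * (h * (z : G) * h⁻¹) = g * ((x : G) * z) * g⁻¹ := by
      rw [← h2]
      nth_rewrite 1 [← h1]
      group
    have h4 : h * (z : G) * h⁻¹ ∈ (P : Subgroup G) :=
      (Subgroup.mul_mem_cancel_left _ x.2).1 (h3 ▸ hg)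
    rw [← h3, hz.2 h h4]
  inv_mem' := by
    intro x hx
    refine ⟨(x⁻¹).2, fun g hg => ?_⟩
    simp only [coe_inv] at hg ⊢
    rw [← conj_inv] at hg ⊢
    rw [hx.2 g ((P : Subgroup G).inv_mem_iff.1 hg)]

theorem piClassCount_le_image (P : Sylow p G) [Fintype (P : Subgroup G)] :
    piClassCount {p} G ≤
      ((Finset.univ : Finset (P : Subgroup G)).image fun x : ↥(P : Subgroup G) => ConjClasses.mk (x : G)).card := by
  rw [← Nat.card_eq_finsetCard]
  refine Nat.card_le_card_of_injective (fun c => ⟨c.1, ?_⟩) fun c d h =>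
    Subtype.ext (Subtype.mk.inj h)
  obtain ⟨x, hx⟩ := exists_mem_sylow_class P c
  exact Finset.mem_image.2 ⟨x, Finset.mem_univ _, hx⟩

omit hp in
theorem eq_of_conj_div_mem (P : Sylow p G) {Q : Subgroup G} (hQ : Q ≤ P) {m a : G}
    (hm : m ∈ normalizer (Q : Set G)) (hco : (orderOf m).Coprime p) (ha : a ∈ Q) [Fact p.Prime]
    (hx : IsWeaklyClosedIn (m * a * m⁻¹ * a⁻¹) (P : Subgroup G)) : m * a * m⁻¹ = a := by
  set x := m * a * m⁻¹ * a⁻¹ with hxdef
  have hxQ : x ∈ Q := mul_mem ((mem_normalizer_iff.1 hm a).1 ha) (inv_mem ha)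
  have hfix : m * x * m⁻¹ = x := hx.2 m (hQ ((mem_normalizer_iff.1 hm x).1 hxQ))
  have hj : ∀ j : ℕ, m ^ j * a * (m ^ j)⁻¹ = x ^ j * a := by
    intro j
    induction j with
    | zero => simp
    | succ j ih =>
      calc m ^ (j + 1) * a * (m ^ (j + 1))⁻¹ = m * (m ^ j * a * (m ^ j)⁻¹) * m⁻¹ := by
            rw [pow_succ']; group
        _ = (m * x * m⁻¹) ^ j * (m * a * m⁻¹) := by rw [ih, conj_pow]; group
        _ = x ^ (j + 1) * a := by rw [hfix, pow_succ, hxdef]; group
  have h1 := hj (orderOf m)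
  rw [pow_orderOf_eq_one, one_mul, inv_one, mul_one] at h1
  have h2 : x ^ orderOf m = 1 := mul_right_cancel (h1.symm.trans (one_mul a).symm)
  obtain ⟨k, hk⟩ := IsPGroup.iff_orderOf.1 (P.2.to_le hQ) ⟨x, hxQ⟩
  rw [Subgroup.orderOf_mk] at hk
  have h3 : x = 1 := orderOf_eq_one_iff.1 (Nat.eq_one_of_dvd_coprimes (hco.pow_right k)
    (orderOf_dvd_of_pow_eq_one h2) (hk ▸ dvd_rfl))
  exact mul_inv_eq_one.1 h3

/-- More than `|P|/2` classes of 2-elements force a normal 2-complement. -/
theorem two_complement_of_many_classes (h : piPart {2} G < 2 * piClassCount {2} G) :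
    Cfsg.HasNormalPComplement 2 G := by
  haveI : Fact (Nat.Prime 2) := ⟨Nat.prime_two⟩
  let P : Sylow 2 G := Classical.arbitrary _
  refine CfsgLib.Fusion.hasNormalPComplement_of_locallyPNilpotentAction P fun Q hQ n hn hco => ?_
  rw [CfsgLib.Fusion.mem_centralizer_iff']
  by_contra hnc
  push Not at hnc
  obtain ⟨a, ha, hna⟩ := hnc
  haveI := Fintype.ofFinite G
  haveI : Fintype (P : Subgroup G) := Fintype.ofFinite _
  let J := weaklyClosedPart P
  have hn2 : n ^ 2 ∈ normalizer (Q : Set G) := pow_mem hn 2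
  have hco2 : (orderOf (n ^ 2)).Coprime 2 := hco.coprime_dvd_left (orderOf_pow_dvd 2)
  have hna2 : n ^ 2 * a * (n ^ 2)⁻¹ ≠ a := by
    intro e
    obtain ⟨j, hj⟩ := exists_pow_eq_self_of_coprime (Nat.coprime_comm.1 hco)
    have hc : Commute (n ^ 2) a := mul_inv_eq_iff_eq_mul.1 e
    exact hna (mul_inv_eq_iff_eq_mul.2 (hj ▸ hc.pow_left j).eq)
  set a1 := n * a * n⁻¹ with ha1def
  set a2 := n ^ 2 * a * (n ^ 2)⁻¹ with ha2def
  have ha1 : a1 ∈ Q := (mem_normalizer_iff.1 hn a).1 ha
  have ha2 : a2 ∈ Q := (mem_normalizer_iff.1 hn2 a).1 ha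
  let y : Fin 3 → (P : Subgroup G) := ![⟨a, hQ ha⟩, ⟨a1, hQ ha1⟩, ⟨a2, hQ ha2⟩]
  have hd10 : ¬ (y 1 * (y 0)⁻¹ ∈ J) := fun hJ => hna (eq_of_conj_div_mem P hQ hn hco ha hJ)
  have hd20 : ¬ (y 2 * (y 0)⁻¹ ∈ J) := fun hJ => hna2 (eq_of_conj_div_mem P hQ hn2 hco2 ha hJ)
  have hd21 : ¬ (y 2 * (y 1)⁻¹ ∈ J) := by
    intro hJ
    have e : a2 = n * a1 * n⁻¹ := by rw [ha1def, ha2def, pow_two]; group
    have hJ' : IsWeaklyClosedIn (n * a1 * n⁻¹ * a1⁻¹) (P : Subgroup G) := e ▸ hJ
    have h1 := eq_of_conj_div_mem P hQ hn hco ha1 hJ'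
    exact hna (mul_left_cancel (mul_right_cancel h1))
  have hinj : Function.Injective fun q : J × Fin 3 => (q.1 : (P : Subgroup G)) * y q.2 := by
    rintro ⟨u, i⟩ ⟨v, j⟩ e
    replace e : (u : (P : Subgroup G)) * y i = (v : (P : Subgroup G)) * y j := e
    have hij : y j * (y i)⁻¹ ∈ J := by
      have : y j * (y i)⁻¹ = (v : (P : Subgroup G))⁻¹ * u := by
        rw [eq_inv_mul_iff_mul_eq, ← mul_assoc, ← e]; group
      rw [this]
      exact mul_mem (inv_mem v.2) u.2
    have hji : y i * (y j)⁻¹ ∈ J := by simpa using inv_mem hij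
    have : i = j := by
      fin_cases i <;> fin_cases j <;> first
        | rfl
        | exact absurd hij hd10
        | exact absurd hji hd10
        | exact absurd hij hd20
        | exact absurd hji hd20
        | exact absurd hij hd21
        | exact absurd hji hd21
    subst this
    exact Prod.ext (Subtype.ext (mul_right_cancel e)) rfl
  let f : ↥(P : Subgroup G) → ConjClasses G := fun x => ConjClasses.mk (x : G)
  set I := (Finset.univ : Finset (P : Subgroup G)).image f with hI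
  let A := (Finset.univ : Finset J).image fun u : J => f ((u : (P : Subgroup G)) * y 0)
  let s : ConjClasses G → ℕ := fun c =>
    ((Finset.univ : Finset (P : Subgroup G)).filter fun x => f x = c).card
  have hA : A ⊆ I := fun c hc => by
    obtain ⟨u, -, rfl⟩ := Finset.mem_image.1 hc
    exact Finset.mem_image_of_mem f (Finset.mem_univ _)
  have hAcard : A.card ≤ Nat.card J :=
    Finset.card_image_le.trans (by rw [Finset.card_univ, Nat.card_eq_fintype_card])
  have hAsum : 3 * Nat.card J ≤ ∑ c ∈ A, s c := by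
    calc 3 * Nat.card J = ((Finset.univ : Finset (J × Fin 3)).image
          fun q => (q.1 : (P : Subgroup G)) * y q.2).card := by
          rw [Finset.card_image_of_injective _ hinj, Finset.card_univ, Fintype.card_prod,
            Fintype.card_fin, Nat.card_eq_fintype_card, mul_comm]
      _ ≤ ((Finset.univ : Finset (P : Subgroup G)).filter fun x => f x ∈ A).card := by
          refine Finset.card_le_card fun z hz => ?_
          obtain ⟨⟨u, i⟩, -, rfl⟩ := Finset.mem_image.1 hz
          refine Finset.mem_filter.2 ⟨Finset.mem_univ _, Finset.mem_image.2 ⟨u, Finset.mem_univ _, ?_⟩⟩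
          refine ConjClasses.mk_eq_mk_iff_isConj.2 (isConj_iff.2 ?_)
          obtain ⟨g, hg⟩ : ∃ g : G, g * (y 0 : G) * g⁻¹ = (y i : G) := by
            fin_cases i
            · exact ⟨1, by simp⟩
            · exact ⟨n, rfl⟩
            · exact ⟨n ^ 2, rfl⟩
          obtain ⟨h, h1, h2⟩ := exists_centralizing_conj P u.2 (y 0).2 (hg ▸ (y i).2)
          refine ⟨h, ?_⟩
          simp only [coe_mul]
          rw [← hg, ← h2]
          nth_rewrite 2 [← h1]
          group
      _ = ∑ c ∈ A, s c := by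
          rw [Finset.card_eq_sum_card_fiberwise (s := Finset.univ.filter fun x => f x ∈ A) (f := f) (t := A)
            fun x hx => Finset.mem_coe.2 (Finset.mem_filter.1 (Finset.mem_coe.1 hx)).2]
          refine Finset.sum_congr rfl fun c hc => ?_
          rw [Finset.filter_filter]
          refine congrArg Finset.card (Finset.filter_congr fun x _ => ?_)
          exact ⟨fun h => h.2, fun h => ⟨h ▸ hc, h⟩⟩
  have htot : ∑ c ∈ I, s c = Nat.card (P : Subgroup G) := by
    rw [Nat.card_eq_fintype_card, ← Finset.card_univ,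
      Finset.card_eq_sum_card_fiberwise (f := f) (t := I)
        fun x _ => Finset.mem_image_of_mem f (Finset.mem_univ x)]
  have hone : ((I \ A).filter fun c => s c = 1).card ≤ Nat.card J := by
    rw [Nat.card_eq_fintype_card, ← Finset.card_univ]
    refine le_trans (Finset.card_le_card (t := (Finset.univ : Finset J).image fun u : J => f u) ?_)
      Finset.card_image_le
    intro c hc
    obtain ⟨hcI, hc1⟩ := Finset.mem_filter.1 hc
    obtain ⟨x, -, rfl⟩ := Finset.mem_image.1 (Finset.mem_sdiff.1 hcI).1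
    refine Finset.mem_image.2 ⟨⟨x, x.2, fun g hg => ?_⟩, Finset.mem_univ _, rfl⟩
    obtain ⟨z, hz⟩ := Finset.card_eq_one.1 hc1
    have e1 : x = z := Finset.mem_singleton.1 (hz ▸ Finset.mem_filter.2 ⟨Finset.mem_univ _, rfl⟩)
    have e2 : (⟨_, hg⟩ : (P : Subgroup G)) = z := Finset.mem_singleton.1 (hz ▸ Finset.mem_filter.2
      ⟨Finset.mem_univ _, ConjClasses.mk_eq_mk_iff_isConj.2 (IsConj.symm (isConj_iff.2 ⟨g, rfl⟩))⟩)
    exact congrArg Subtype.val (e2.trans e1.symm)
  have hrest : 2 * (I \ A).card ≤ ∑ c ∈ I \ A, s c + Nat.card J := by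
    refine le_trans ?_ (Nat.add_le_add_left hone _)
    rw [Finset.card_filter, ← Finset.sum_add_distrib, mul_comm, ← smul_eq_mul, ← Finset.sum_const]
    refine Finset.sum_le_sum fun c hc => ?_
    obtain ⟨x, -, rfl⟩ := Finset.mem_image.1 (Finset.mem_sdiff.1 hc).1
    have hpos : 0 < s (f x) :=
      Finset.card_pos.2 ⟨x, Finset.mem_filter.2 ⟨Finset.mem_univ _, rfl⟩⟩
    split_ifs <;> omega
  have hsplit := Finset.sum_sdiff hA (f := s)
  have hcard := Finset.card_sdiff_add_card_eq_card hA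
  have hk : piClassCount {2} G ≤ I.card := by convert piClassCount_le_image P
  rw [← piPart_singleton P] at h
  omega

/-- With a normal `p`-complement, classes of the Sylow subgroup inject into classes of `p`-elements. -/
theorem classCount_sylow_le_piClassCount (h : Cfsg.HasNormalPComplement p G) (P : Sylow p G) :
    Nat.card (ConjClasses (P : Subgroup G)) ≤ piClassCount {p} G := by
  obtain ⟨P0, N, hN, hc⟩ := h
  haveI := hN
  have e : Nat.card (ConjClasses (P : Subgroup G)) = Nat.card (ConjClasses (P0 : Subgroup G)) :=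
    Nat.card_congr
      { toFun := ConjClasses.map (P.equiv P0).toMonoidHom
        invFun := ConjClasses.map (P.equiv P0).symm.toMonoidHom
        left_inv := fun c => by
          obtain ⟨g, rfl⟩ := ConjClasses.mk_surjective c
          exact congrArg ConjClasses.mk ((P.equiv P0).symm_apply_apply g)
        right_inv := fun c => by
          obtain ⟨g, rfl⟩ := ConjClasses.mk_surjective c
          exact congrArg ConjClasses.mk ((P.equiv P0).apply_symm_apply g) }
  rw [e]
  have hpi : ∀ x : (P0 : Subgroup G), IsPiElem {p} (x : G) := by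
    intro x q hq hd
    obtain ⟨k, hk⟩ := IsPGroup.iff_orderOf.1 P0.2 x
    rw [orderOf_coe, hk] at hd
    exact Finset.mem_singleton.2 ((Nat.prime_dvd_prime_iff_eq hq hp.1).1 (hq.dvd_of_dvd_pow hd))
  have hout : ∀ c : ConjClasses (P0 : Subgroup G), ∀ x ∈ (ConjClasses.mk ((Quotient.out c : (P0 : Subgroup G)) : G)).carrier,
      ∀ r : ℕ, r.Prime → r ∣ orderOf x → r ∈ ({p} : Finset ℕ) := fun c =>
    (carrier_isPiElem_iff _ _).2 (hpi _)
  refine Nat.card_le_card_of_injective (fun c => ⟨_, hout c⟩) fun c d h => ?_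
  obtain ⟨g, hg⟩ := isConj_iff.1 (ConjClasses.mk_eq_mk_iff_isConj.1 (congrArg Subtype.val h))
  set x : (P0 : Subgroup G) := Quotient.out c with hx
  set z : (P0 : Subgroup G) := Quotient.out d with hz
  have hsup : (g : G) ∈ N ⊔ (P0 : Subgroup G) := hc.sup_eq_top ▸ mem_top g
  rw [mem_sup_of_normal_left] at hsup
  obtain ⟨a, ha, b, hb, rfl⟩ := hsup
  set w : (P0 : Subgroup G) := ⟨b, hb⟩ * x * (⟨b, hb⟩)⁻¹ with hw
  have h1 : (z : G) * (w : G)⁻¹ ∈ N := by
    rw [← hg, show (w : G) = b * (x : G) * b⁻¹ from rfl,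
      show a * b * (x : G) * (a * b)⁻¹ * (b * (x : G) * b⁻¹)⁻¹ =
        a * ((b * (x : G) * b⁻¹) * a⁻¹ * (b * (x : G) * b⁻¹)⁻¹) by group]
    exact N.mul_mem ha (hN.conj_mem _ (N.inv_mem ha) _)
  have h2 : z = w := Subtype.ext (mul_inv_eq_one.1
    (Subgroup.disjoint_def.1 hc.disjoint h1 (z * w⁻¹).2))
  rw [show c = ConjClasses.mk x from (Quotient.out_eq c).symm,
    show d = ConjClasses.mk z from (Quotient.out_eq d).symm]
  exact ConjClasses.mk_eq_mk_iff_isConj.2 (isConj_iff.2 ⟨⟨b, hb⟩, h2.symm⟩)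

/-- A nonabelian `p`-group, `p` odd, has at most half as many classes as elements. -/
theorem two_mul_classCount_le_of_nonabelian {P : Type*} [Group P] [Finite P] (hP : IsPGroup p P)
    (h2 : p ≠ 2) (hna : ¬ IsMulCommutative P) : 2 * Nat.card (ConjClasses P) ≤ Nat.card P := by
  have h := classCount_mul_le_of_isPGroup hP
  have hp3 : 3 ≤ p := by have := hp.1.two_le; omega
  have hi : p ^ 2 * Nat.card (center P) ≤ Nat.card P := by
    rw [← (center P).card_mul_index, mul_comm]
    refine Nat.mul_le_mul_left _ ?_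
    obtain ⟨k, hk⟩ := hP.index (center P)
    rw [hk]
    refine Nat.pow_le_pow_right hp.1.pos ?_
    by_contra hk2
    haveI : IsCyclic (P ⧸ center P) := by
      have hc : Nat.card (P ⧸ center P) = p ^ k := hk
      interval_cases k
      · haveI := (Nat.card_eq_one_iff_unique.1 (hc.trans (pow_zero p))).1
        infer_instance
      · exact isCyclic_of_prime_card (hc.trans (pow_one p))
    exact hna (isMulCommutative_of_isCyclic_quotient_center_self P)
  set k := Nat.card (ConjClasses P)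
  set Z := Nat.card (center P)
  set R := Nat.card P
  have h3 : 2 * p ^ 2 + 2 * p ≤ p ^ 3 + 2 := by nlinarith [Nat.mul_le_mul_left (p * p) hp3]
  refine Nat.le_of_mul_le_mul_left ?_ (pow_pos hp.1.pos 3)
  have h4 := Nat.mul_le_mul_left (2 * p) hi
  have h5 := Nat.mul_le_mul_left (2 * p ^ 2) h
  have h6 := Nat.mul_le_mul_right R h3
  nlinarith [h4, h5, h6]

/-- In a group of odd order more than `|R|/2` classes of `p`-elements force a normal
`p`-complement and an abelian Sylow subgroup. -/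
theorem odd_complement_of_many_classes (hodd : Odd (Nat.card G)) (h2 : p ≠ 2)
    (h : piPart {p} G < 2 * piClassCount {p} G) :
    Cfsg.HasNormalPComplement p G ∧ ∀ P : Sylow p G, IsMulCommutative (P : Subgroup G) := by
  have hab : ∀ P : Sylow p G, IsMulCommutative (P : Subgroup G) := by
    intro P
    by_contra hna
    have h1 := two_mul_classCount_le_of_nonabelian P.2 h2 hna
    have h3 := piClassCount_singleton_le_sylow P
    rw [piPart_singleton P] at h1
    omega
  refine ⟨?_, hab⟩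
  let P : Sylow p G := Classical.arbitrary _
  refine CfsgLib.Fusion.hasNormalPComplement_of_normalizer_le_centralizer P fun n hn => ?_
  by_contra hnc
  rw [CfsgLib.Fusion.mem_centralizer_iff'] at hnc
  push Not at hnc
  obtain ⟨a, haP, ha⟩ := hnc
  haveI := Fintype.ofFinite G
  haveI : Fintype (P : Subgroup G) := Fintype.ofFinite _
  haveI := hab P
  let f : ↥(P : Subgroup G) → ConjClasses G := fun x => ConjClasses.mk (x : G)
  let F : Subgroup (P : Subgroup G) := (centralizer ({n} : Set G)).subgroupOf P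
  set I := (Finset.univ : Finset (P : Subgroup G)).image f
  let s : ConjClasses G → ℕ := fun c =>
    ((Finset.univ : Finset (P : Subgroup G)).filter fun x => f x = c).card
  set N := normalizer ((P : Subgroup G) : Set G)
  have hPN : (P : Subgroup G) ≤ N := le_normalizer
  have hcentral : ∀ u : (P : Subgroup G), (P : Subgroup G) ≤ centralizer ({(u : G)} : Set G) :=
    fun u v hv => mem_centralizer_singleton_iff.2
      (congrArg Subtype.val (mul_comm' (⟨v, hv⟩ : (P : Subgroup G)) u))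
  have hfib : ∀ x : (P : Subgroup G), Odd (s (f x)) ∧ ¬ p ∣ s (f x) := by
    intro x
    have hxN : (x : G) ∈ N := hPN x.2
    have e : s (f x) = (ConjClasses.mk (⟨x, hxN⟩ : N)).carrier.ncard := by
      show (Finset.filter _ _).card = _
      rw [← Set.ncard_coe_finset]
      refine Set.ncard_congr (fun z _ => (⟨(z : G), hPN z.2⟩ : N)) ?_ ?_ ?_
      · intro z hz
        have hz' := (Finset.mem_filter.1 (Finset.mem_coe.1 hz)).2
        obtain ⟨g, hg⟩ := isConj_iff.1 (ConjClasses.mk_eq_mk_iff_isConj.1 hz'.symm)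
        obtain ⟨m, hm, hmx⟩ := CfsgLib.Fusion.exists_normalizer_conj_eq_of_central P (hcentral x) g
          (hg ▸ hcentral z)
        rw [ConjClasses.mem_carrier_iff_mk_eq, ConjClasses.mk_eq_mk_iff_isConj]
        exact (isConj_iff.2 ⟨⟨m, hm⟩, Subtype.ext (hmx.trans hg)⟩ :
          IsConj (⟨x, hxN⟩ : N) ⟨z, hPN z.2⟩).symm
      · intro z w _ _ e
        exact Subtype.ext (congrArg (fun t : N => (t : G)) e)
      · intro w hw
        rw [ConjClasses.mem_carrier_iff_mk_eq, ConjClasses.mk_eq_mk_iff_isConj] at hw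
        obtain ⟨m, hm⟩ := isConj_iff.1 hw.symm
        have hm' : (m : G) * (x : G) * (m : G)⁻¹ = (w : G) := congrArg Subtype.val hm
        have hwP : (w : G) ∈ (P : Subgroup G) := hm' ▸ (mem_normalizer_iff.1 m.2 _).1 x.2
        exact ⟨⟨w, hwP⟩, Finset.mem_coe.2 (Finset.mem_filter.2 ⟨Finset.mem_univ _,
          ConjClasses.mk_eq_mk_iff_isConj.2 (isConj_iff.2 ⟨(m : G), hm'⟩ : IsConj (x : G) (w : G)).symm⟩),
          Subtype.ext rfl⟩
    rw [e, ncard_carrier_eq_index]
    set C := centralizer ({(⟨x, hxN⟩ : N)} : Set N)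
    have hPC : (P : Subgroup G).subgroupOf N ≤ C := fun v hv =>
      mem_centralizer_singleton_iff.2 (Subtype.ext (mem_centralizer_singleton_iff.1 (hcentral x hv)))
    have hdvd : C.index ∣ (P : Subgroup G).relIndex N := index_dvd_of_le hPC
    refine ⟨(hodd.of_dvd_nat (C.index_dvd_card.trans (card_subgroup_dvd_card N))), fun hd => ?_⟩
    exact P.not_dvd_index ((hd.trans hdvd).trans (relIndex_dvd_index_of_le hPN))
  have hone : (I.filter fun c => s c = 1).card ≤ Nat.card F := by
    rw [Nat.card_eq_fintype_card, ← Finset.card_univ]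
    refine le_trans (Finset.card_le_card (t := (Finset.univ : Finset F).image fun u : F => f u) ?_)
      Finset.card_image_le
    intro c hc
    obtain ⟨hcI, hc1⟩ := Finset.mem_filter.1 hc
    obtain ⟨x, -, rfl⟩ := Finset.mem_image.1 hcI
    refine Finset.mem_image.2 ⟨⟨x, ?_⟩, Finset.mem_univ _, rfl⟩
    have hy : n * (x : G) * n⁻¹ ∈ (P : Subgroup G) := (mem_normalizer_iff.1 hn _).1 x.2
    obtain ⟨z, hz⟩ := Finset.card_eq_one.1 hc1
    have e1 : x = z := Finset.mem_singleton.1 (hz ▸ Finset.mem_filter.2 ⟨Finset.mem_univ _, rfl⟩)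
    have e2 : (⟨_, hy⟩ : (P : Subgroup G)) = z := Finset.mem_singleton.1 (hz ▸ Finset.mem_filter.2
      ⟨Finset.mem_univ _, ConjClasses.mk_eq_mk_iff_isConj.2 (IsConj.symm (isConj_iff.2 ⟨n, rfl⟩))⟩)
    have e3 : n * (x : G) * n⁻¹ = (x : G) := congrArg Subtype.val (e2.trans e1.symm)
    show (x : G) ∈ centralizer ({n} : Set G)
    exact mem_centralizer_singleton_iff.2 (mul_inv_eq_iff_eq_mul.1 e3).symm
  have hFtop : F ≠ ⊤ := fun h0 => ha (by
    have : (⟨a, haP⟩ : (P : Subgroup G)) ∈ F := h0 ▸ mem_top _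
    have := mem_centralizer_singleton_iff.1 (show a ∈ centralizer ({n} : Set G) from this)
    exact mul_inv_eq_iff_eq_mul.2 this.symm)
  have hF : p * Nat.card F ≤ Nat.card (P : Subgroup G) := by
    rw [← F.card_mul_index, mul_comm]
    refine Nat.mul_le_mul_left _ ?_
    obtain ⟨k, hk'⟩ := P.2.index F
    rcases k with _ | k
    · exact absurd (index_eq_one.1 (by simpa using hk')) hFtop
    · rw [hk']; exact Nat.le_self_pow (Nat.succ_ne_zero k) p
  have htot : ∑ c ∈ I, s c = Nat.card (P : Subgroup G) := by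
    rw [Nat.card_eq_fintype_card, ← Finset.card_univ,
      Finset.card_eq_sum_card_fiberwise (f := f) (t := I)
        fun x _ => Finset.mem_image_of_mem f (Finset.mem_univ x)]
  have hk : piClassCount {p} G ≤ I.card := by convert piClassCount_le_image P
  have key : ∀ k : ℕ, (∀ c ∈ I, s c = 1 ∨ k + 1 ≤ s c) →
      (k + 1) * I.card ≤ Nat.card (P : Subgroup G) + k * Nat.card F := by
    intro k hk1
    rw [← htot]
    refine le_trans ?_ (Nat.add_le_add_left (Nat.mul_le_mul_left k hone) _)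
    rw [Finset.card_filter, Finset.mul_sum, ← Finset.sum_add_distrib, mul_comm, ← smul_eq_mul,
      ← Finset.sum_const]
    refine Finset.sum_le_sum fun c hc => ?_
    rcases hk1 c hc with h1 | h1
    · simp [h1, add_comm]
    · omega
  rw [← piPart_singleton P] at h
  by_cases h3 : p = 3
  · subst h3
    have := key 4 fun c hc => by
      obtain ⟨x, -, rfl⟩ := Finset.mem_image.1 hc
      obtain ⟨⟨j, hj⟩, hd⟩ := hfib x
      rcases j with _ | _ | j
      · exact Or.inl (by omega)
      · exact absurd ⟨1, by omega⟩ hd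
      · exact Or.inr (by omega)
    omega
  · have hp5 : 5 ≤ p := hp.1.five_le_of_ne_two_of_ne_three h2 h3
    have := key 2 fun c hc => by
      obtain ⟨x, -, rfl⟩ := Finset.mem_image.1 hc
      obtain ⟨⟨j, hj⟩, -⟩ := hfib x
      omega
    have := (Nat.mul_le_mul_right (Nat.card F) hp5).trans hF
    omega

end CfsgLib.PGroup

namespace CfsgLib.PGroup

open Subgroup

universe v

/-- More than `|G|_π / 2` classes of π-elements, `2 ∈ π`. -/
theorem piComplement_of_many_classes_two {G : Type v} [Group G] [Finite G] (π : Finset ℕ)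
    (hπ : ∀ r ∈ π, r.Prime) (h2 : 2 ∈ π) (hk : piPart π G < 2 * piClassCount π G) :
    (∃ N : Subgroup G, N.Normal ∧ (∀ r : ℕ, r.Prime → r ∣ Nat.card ↥N → r ∉ π) ∧
      ∀ r : ℕ, r.Prime → r ∣ N.index → r ∈ π) ∧
    ∃ H : Subgroup G, Cfsg.IsPiHall ((↑π : Set ℕ) \ {2}) H ∧ IsMulCommutative ↥H := by
  classical
  have hmany : ∀ r ∈ π, piPart {r} G < 2 * piClassCount {r} G := by
    intro r hr
    have h1 := piClassCount_le_prime_mul (G := G) hπ hr
    have h3 := piPart_eq_mul (G := G) hr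
    refine Nat.lt_of_mul_lt_mul_right (a := piPart (π.erase r) G) ?_
    rw [← h3, mul_assoc]
    exact lt_of_lt_of_le hk (Nat.mul_le_mul_left 2 h1)
  haveI : Fact (Nat.Prime 2) := ⟨Nat.prime_two⟩
  obtain ⟨P, O, hOn, hc⟩ := two_complement_of_many_classes (hmany 2 h2)
  haveI := hOn
  have hOi : O.index = Nat.card (P : Subgroup G) := hc.symm.index_eq_card
  have hP2 : ∀ r : ℕ, r.Prime → r ∣ O.index → r = 2 := by
    intro r hr hd
    obtain ⟨k, hk'⟩ := P.2.exists_card_eq
    rw [hOi, hk'] at hd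
    exact (Nat.prime_dvd_prime_iff_eq hr Nat.prime_two).1 (hr.dvd_of_dvd_pow hd)
  have hOodd : Odd (Nat.card O) := by
    rw [Nat.odd_iff, ← Nat.two_dvd_ne_zero, ← hc.index_eq_card]
    exact P.not_dvd_index
  set π0 := π.erase 2
  have hπ0 : ∀ r ∈ π0, r.Prime := fun r hr => hπ r (Finset.mem_of_mem_erase hr)
  have hO : ∀ r ∈ π0, Cfsg.HasNormalPComplement r O ∧
      ∀ R : Sylow r O, IsMulCommutative (R : Subgroup O) := by
    intro r hr
    obtain ⟨hr2, hrπ⟩ := Finset.mem_erase.1 hr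
    haveI := Fact.mk (hπ r hrπ)
    refine odd_complement_of_many_classes hOodd hr2 ?_
    refine lt_of_le_of_lt (piPart_subgroup_le (π := {r})
      (fun q hq => Finset.mem_singleton.1 hq ▸ hπ r hrπ) O) ((hmany r hrπ).trans_le ?_)
    refine Nat.mul_le_mul_left 2 ?_
    have hmem : ∀ g : G, IsPiElem {r} g → g ∈ O := by
      intro g hg
      rw [← QuotientGroup.eq_one_iff, ← orderOf_eq_one_iff]
      by_contra hne
      obtain ⟨q, hq, hqd⟩ := Nat.exists_prime_and_dvd hne
      have hq1 : q = r :=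
        Finset.mem_singleton.1 (hg q hq (hqd.trans (orderOf_map_dvd (QuotientGroup.mk' O) g)))
      have hq2 : q = 2 := hP2 q hq (hqd.trans (orderOf_dvd_natCard _))
      exact hr2 (hq1.symm.trans hq2)
    have hsurj : ∀ c : {c : ConjClasses G // ∀ x ∈ c.carrier, ∀ q : ℕ, q.Prime → q ∣ orderOf x → q ∈ ({r} : Finset ℕ)},
        ∃ d : {c : ConjClasses O // ∀ x ∈ c.carrier, ∀ q : ℕ, q.Prime → q ∣ orderOf x → q ∈ ({r} : Finset ℕ)},
          ConjClasses.map O.subtype d.1 = c.1 := by
      rintro ⟨c, hc'⟩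
      obtain ⟨g, rfl⟩ := ConjClasses.mk_surjective c
      have hg := (carrier_isPiElem_iff _ g).1 hc'
      refine ⟨⟨ConjClasses.mk ⟨g, hmem g hg⟩, (carrier_isPiElem_iff _ _).2 fun q hq hd => ?_⟩, rfl⟩
      exact hg q hq (by rwa [Subgroup.orderOf_mk] at hd)
    refine Nat.card_le_card_of_injective (fun c => (hsurj c).choose) fun c d h => Subtype.ext ?_
    rw [← (hsurj c).choose_spec, ← (hsurj d).choose_spec]
    exact congrArg (fun z : {c : ConjClasses O // _} => ConjClasses.map O.subtype z.1) h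
  obtain ⟨⟨K, hKn, hK1, hK2⟩, H, ⟨hH1, hH2⟩, hHab⟩ := exists_piComplement_abelian_hall π0 hπ0 hO
  haveI := hKn
  have hKmem : ∀ x : O, (∀ q : ℕ, q.Prime → q ∣ orderOf x → q ∉ π0) → x ∈ K := by
    intro x hx
    rw [← QuotientGroup.eq_one_iff, ← orderOf_eq_one_iff]
    by_contra hne
    obtain ⟨q, hq, hqd⟩ := Nat.exists_prime_and_dvd hne
    exact hx q hq (hqd.trans (orderOf_map_dvd (QuotientGroup.mk' K) x))
      (hK2 q hq (hqd.trans (orderOf_dvd_natCard _)))
  refine ⟨⟨K.map O.subtype, ⟨?_⟩, ?_, ?_⟩, H.map O.subtype, ⟨?_, ?_⟩, ?_⟩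
  · rintro _ ⟨x, hx, rfl⟩ g
    refine ⟨⟨g * (x : G) * g⁻¹, hOn.conj_mem _ x.2 g⟩, hKmem _ fun q hq hd => ?_, rfl⟩
    rw [Subgroup.orderOf_mk, ← MulAut.conj_apply, MulEquiv.orderOf_eq, orderOf_coe] at hd
    exact hK1 q hq (hd.trans (orderOf_dvd_natCard (⟨x, hx⟩ : K) |> fun h => by rwa [Subgroup.orderOf_mk] at h))
  · intro r hr hd hrπ
    rw [card_subtype] at hd
    refine hK1 r hr hd (Finset.mem_erase.2 ⟨?_, hrπ⟩)
    rintro rfl
    exact Nat.not_even_iff_odd.2 hOodd (even_iff_two_dvd.2 (hd.trans (card_subgroup_dvd_card K)))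
  · intro r hr hd
    rw [index_map_subtype] at hd
    rcases hr.dvd_mul.1 hd with h | h
    · exact Finset.mem_of_mem_erase (hK2 r hr h)
    · rw [hP2 r hr h]; exact h2
  · intro r hr hd
    rw [card_subtype] at hd
    have h := Finset.mem_erase.1 (Finset.mem_coe.1 (hH1 r hr hd))
    exact ⟨Finset.mem_coe.2 h.2, h.1⟩
  · rintro r hr ⟨hrπ, hr2⟩ hd
    rw [index_map_subtype] at hd
    rcases hr.dvd_mul.1 hd with h | h
    · exact hH2 r hr (Finset.mem_coe.2 (Finset.mem_erase.2 ⟨hr2, Finset.mem_coe.1 hrπ⟩)) h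
    · exact hr2 (hP2 r hr h)
  · exact map_isMulCommutative H O.subtype

end CfsgLib.PGroup
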