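import Cfsg.Agent.Lib.PGroup.FixedHalf.Main
import Cfsg.Agent.Lib.Coprime.Action
import Cfsg.Agent.Lib.Coprime.Fitting
import Cfsg.Agent.Lib.PGroup.ElementaryBasic

/-!
# Maximal solvable subgroups generated by two conjugates of an element of prime order `p > 3`
-/

set_option autoImplicit false
set_option linter.style.haveILetI false
set_option linter.unusedSectionVars false

open Subgroup
open scoped commutatorElement

namespace CfsgLib.PGroup.TwoConjugateMaximal

universe u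

variable {G : Type u} [Group G] [Finite G]

theorem char_map_normalized (Y X : Subgroup G) (K : Subgroup Y) [K.Characteristic]
    (hX : X ≤ normalizer (Y : Set G)) : X ≤ normalizer ((K.map Y.subtype : Subgroup G) : Set G) := by
  intro g hg
  refine mem_normalizer_fintype ?_
  rintro _ ⟨y, hy, rfl⟩
  refine ⟨Y.normalizerMonoidHom ⟨g, hX hg⟩ y, ?_, rfl⟩
  exact characteristic_iff_map_le.1 inferInstance (Y.normalizerMonoidHom ⟨g, hX hg⟩)
    (mem_map_of_mem _ hy)

theorem sup_solvable {A V : Subgroup G} (hA : Group.IsSolvable A) (hV : Group.IsSolvable V)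
    (h : A ≤ normalizer (V : Set G)) : Group.IsSolvable ↥(A ⊔ V) := by
  set L := A ⊔ V
  set V' := V.subgroupOf L
  haveI : V'.Normal := (normal_subgroupOf_iff_le_normalizer le_sup_right).2 (sup_le h le_normalizer)
  haveI := hA
  haveI := hV
  haveI : Group.IsSolvable V' :=
    Group.isSolvable_of_isSolvable_injective (f := (subgroupOfEquivOfLe (le_sup_right : V ≤ L)).toMonoidHom)
      (subgroupOfEquivOfLe (le_sup_right : V ≤ L)).injective
  have hs : Function.Surjective ((QuotientGroup.mk' V').comp (inclusion (le_sup_left : A ≤ L))) := by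
    intro z
    obtain ⟨⟨g, hg⟩, rfl⟩ := QuotientGroup.mk'_surjective V' z
    have hg' : g ∈ ((A ⊔ V : Subgroup G) : Set G) := hg
    rw [Subgroup.coe_mul_of_left_le_normalizer_right A V h] at hg'
    obtain ⟨a, ha, v, hv, rfl⟩ := hg'
    refine ⟨⟨a, ha⟩, ?_⟩
    show QuotientGroup.mk' V' _ = QuotientGroup.mk' V' _
    rw [QuotientGroup.mk'_apply, QuotientGroup.mk'_apply, QuotientGroup.eq, mem_subgroupOf]
    simpa using hv
  haveI : Group.IsSolvable (L ⧸ V') := Group.isSolvable_of_surjective hs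
  exact (Group.isSolvable_iff_subgroup_quotient V').2 ⟨inferInstance, inferInstance⟩

/-- Pairwise centralizing nilpotent subgroups generate a nilpotent subgroup. -/
theorem isNilpotent_iSup {ι : Type*} (X : ι → Subgroup G) (hnil : ∀ i, Group.IsNilpotent (X i))
    (hc : ∀ i j, i ≠ j → X i ≤ centralizer (X j : Set G)) : Group.IsNilpotent ↥(⨆ i, X i) := by
  set H := ⨆ i, X i
  have hle : ∀ i, X i ≤ H := le_iSup X
  have hnorm : ∀ i, H ≤ normalizer (X i : Set G) := fun i => iSup_le fun j => by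
    rcases eq_or_ne j i with rfl | hne
    · exact le_normalizer
    · exact (hc j i hne).trans (Subgroup.centralizer_le_normalizer _)
  have hfit : Cfsg.fittingSubgroup H = ⊤ := by
    rw [eq_top_iff]
    have h1 : H ≤ (Cfsg.fittingSubgroup H).map H.subtype := iSup_le fun i => by
      haveI : ((X i).subgroupOf H).Normal := (normal_subgroupOf_iff_le_normalizer (hle i)).2 (hnorm i)
      haveI := hnil i
      have hn : Group.IsNilpotent ((X i).subgroupOf H) :=
        Group.nilpotent_of_mulEquiv (subgroupOfEquivOfLe (hle i)).symm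
      intro g hg
      exact ⟨⟨g, hle i hg⟩, CfsgLib.Coprime.le_fitting hn hg, rfl⟩
    intro g _
    obtain ⟨g', hg', e⟩ := h1 g.2
    have : g' = g := Subtype.ext e
    exact this ▸ hg'
  haveI : Group.IsNilpotent (Cfsg.fittingSubgroup H) := CfsgLib.Coprime.fitting_isNilpotent
  exact Group.nilpotent_of_mulEquiv ((MulEquiv.subgroupCongr hfit).trans Subgroup.topEquiv)

theorem three_subgroup {X Y Z : Subgroup G} (h1 : ⁅⁅X, Y⁆, Z⁆ = ⊥) (h2 : ⁅⁅Y, Z⁆, X⁆ = ⊥) :
    ⁅⁅Z, X⁆, Y⁆ = ⊥ :=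
  Subgroup.commutator_commutator_eq_bot_of_rotate h1 h2

/-- The key step. -/
theorem core_step {p : ℕ} [hp : Fact p.Prime] (hp3 : 3 < p) (P A : Subgroup G) (hP : Nat.card P = p)
    (hAs : Group.IsSolvable A) (a : G) (haA : a ∈ A)
    (hA : A = P ⊔ P.map (MulAut.conj a).toMonoidHom)
    (hmax : ∀ B : Subgroup G, A ≤ B → Group.IsSolvable ↥B →
      (∃ b ∈ B, B = P ⊔ P.map (MulAut.conj b).toMonoidHom) → B = A)
    {q r : ℕ} [hq : Fact q.Prime] [hr : Fact r.Prime] (hqr : q ≠ r) (R W : Subgroup G) (hRA : R ≤ A)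
    (hRn : A ≤ normalizer (R : Set G)) (hR : IsPGroup r R) (hW : IsPGroup q W)
    (hWn : A ≤ normalizer (W : Set G)) : ⁅W, R⁆ = ⊥ := by
  classical
  by_contra hne
  obtain ⟨W₀, hW₀min⟩ := exists_minimal_of_wellFoundedLT
    (fun U : Subgroup G => U ≤ W ∧ A ≤ normalizer (U : Set G) ∧ ⁅U, R⁆ ≠ ⊥) ⟨W, le_rfl, hWn, hne⟩
  obtain ⟨hW₀W, hW₀n, hW₀R⟩ := hW₀min.prop
  have hmin : ∀ U : Subgroup G, U ≤ W₀ → A ≤ normalizer (U : Set G) → U ≠ W₀ → ⁅U, R⁆ = ⊥ := by
    intro U hU hn hne'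
    by_contra h
    exact hne' (hW₀min.eq_of_le ⟨hU.trans hW₀W, hn, h⟩ hU)
  have hW₀q : IsPGroup q W₀ := hW.to_le hW₀W
  have hRnW : R ≤ normalizer (W₀ : Set G) := hRA.trans hW₀n
  have hcopR : (Nat.card R).Coprime (Nat.card W₀) := by
    obtain ⟨i, hi⟩ := IsPGroup.iff_card.1 hR
    obtain ⟨j, hj⟩ := IsPGroup.iff_card.1 hW₀q
    rw [hi, hj]
    exact Nat.Coprime.pow i j ((Nat.coprime_primes hr.out hq.out).2 hqr.symm)
  have hRsol : Group.IsSolvable R := CfsgLib.Coprime.isSolvable_of_isNilpotent hR.isNilpotent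
  have hWsol : Group.IsSolvable W₀ := CfsgLib.Coprime.isSolvable_of_isNilpotent hW₀q.isNilpotent
  have hWR : ⁅W₀, R⁆ = W₀ := by
    have hle : ⁅W₀, R⁆ ≤ W₀ := by
      conv_rhs => rw [← CfsgLib.Coprime.commutator_sup_centralizer hRnW hcopR (Or.inl hRsol)]
      exact le_sup_left
    by_contra h
    refine hW₀R ?_
    rw [← CfsgLib.Coprime.commutator_commutator_eq hRnW hcopR (Or.inl hRsol)]
    refine hmin _ hle (fun g hg => mem_normalizer_fintype fun z hz => ?_) h
    have h1 := mem_map_of_mem (MulAut.conj g).toMonoidHom hz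
    rw [map_commutator] at h1
    refine commutator_mono ?_ ?_ h1
    · rintro _ ⟨w, hw, rfl⟩
      exact (mem_normalizer_iff.1 (hW₀n hg) w).1 hw
    · rintro _ ⟨w, hw, rfl⟩
      exact (mem_normalizer_iff.1 (hRn hg) w).1 hw
  have hW₀1 : W₀ ≠ ⊥ := fun e => hW₀R (by rw [e, commutator_bot_left])
  -- a maximal invariant subgroup containing the derived subgroup and the `q`-th powers
  set Φ := closure ((⁅W₀, W₀⁆ : Subgroup G) ∪ {z | ∃ w ∈ W₀, z = w ^ q}) with hΦ
  have hΦle : Φ ≤ W₀ := by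
    rw [hΦ, closure_le]
    rintro z (hz | ⟨w, hw, rfl⟩)
    · exact Subgroup.commutator_le_self W₀ hz
    · exact pow_mem hw q
  have hΦn : A ≤ normalizer (Φ : Set G) := by
    intro g hg
    refine mem_normalizer_fintype fun z hz => ?_
    have h1 := mem_map_of_mem (MulAut.conj g).toMonoidHom (show z ∈ Φ from hz)
    rw [hΦ, MonoidHom.map_closure] at h1
    refine (Subgroup.closure_mono ?_) h1
    rintro _ ⟨w, hw | ⟨v, hv, rfl⟩, rfl⟩
    · left
      have h2 := mem_map_of_mem (MulAut.conj g).toMonoidHom hw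
      rw [map_commutator] at h2
      refine commutator_mono ?_ ?_ h2 <;>
      · rintro _ ⟨v, hv, rfl⟩
        exact (mem_normalizer_iff.1 (hW₀n hg) v).1 hv
    · exact Or.inr ⟨g * v * g⁻¹, (mem_normalizer_iff.1 (hW₀n hg) v).1 hv, by simp⟩
  have hΦne : Φ ≠ W₀ := by
    haveI : Nontrivial W₀ := (Subgroup.nontrivial_iff_ne_bot W₀).2 hW₀1
    haveI := hW₀q.isNilpotent
    obtain ⟨M, hM, -⟩ := (eq_top_or_exists_le_coatom (⊥ : Subgroup W₀)).resolve_left bot_ne_top
    haveI := NormalizerCondition.normal_of_coatom M Group.normalizerCondition_of_isNilpotent hM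
    obtain ⟨k, hk⟩ := hW₀q.index M
    have hk1 : M.index = q := by
      have hQ : IsPGroup q (W₀ ⧸ M) := hW₀q.to_quotient M
      haveI : Nontrivial (W₀ ⧸ M) := QuotientGroup.nontrivial_iff.2 hM.1
      obtain ⟨z, hz⟩ := exists_prime_orderOf_dvd_card' (G := W₀ ⧸ M) q (by
        rw [← index_eq_card, hk]
        exact dvd_pow_self q fun e => hM.1 (index_eq_one.1 (by rw [hk, e, pow_zero])))
      haveI := hQ.isNilpotent
      have htop : (zpowers z).comap (QuotientGroup.mk' M) = ⊤ := by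
        rcases hM.le_iff.1 (QuotientGroup.le_comap_mk' M (zpowers z)) with e | e
        · exact e
        · exfalso
          have h1 := congrArg (Subgroup.map (QuotientGroup.mk' M)) e
          rw [map_comap_eq_self_of_surjective (QuotientGroup.mk'_surjective M), QuotientGroup.map_mk'_self,
            zpowers_eq_bot] at h1
          rw [h1, orderOf_one] at hz
          exact hq.out.ne_one hz.symm
      have h2 := congrArg (Subgroup.map (QuotientGroup.mk' M)) htop
      rw [map_comap_eq_self_of_surjective (QuotientGroup.mk'_surjective M),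
        map_top_of_surjective _ (QuotientGroup.mk'_surjective M)] at h2
      rw [index_eq_card, ← card_top, ← h2, Nat.card_zpowers, hz]
    intro e
    have hMW : W₀ ≤ M.map W₀.subtype := by
      conv_lhs => rw [← e]
      rw [hΦ, closure_le]
      haveI : IsCyclic (W₀ ⧸ M) := isCyclic_of_prime_card (p := q) (by rw [← index_eq_card, hk1])
      rintro z (hz | ⟨w, hw, rfl⟩)
      · revert hz z
        show ⁅W₀, W₀⁆ ≤ M.map W₀.subtype
        rw [commutator_le]
        intro u hu v hv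
        refine ⟨⁅(⟨u, hu⟩ : W₀), (⟨v, hv⟩ : W₀)⁆, ?_, by simp [commutatorElement_def]⟩
        rw [SetLike.mem_coe, ← QuotientGroup.eq_one_iff]
        simp only [commutatorElement_def, QuotientGroup.mk_mul, QuotientGroup.mk_inv]
        rw [IsCyclic.commGroup.mul_comm (((⟨u, hu⟩ : W₀)) : W₀ ⧸ M)]
        group
      · exact ⟨⟨w, hw⟩ ^ q, by rw [SetLike.mem_coe, ← hk1]; exact Subgroup.pow_index_mem M _, rfl⟩
    refine hM.1 (eq_top_iff.2 fun w _ => ?_)
    obtain ⟨w', hw', e'⟩ := hMW w.2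
    exact (Subtype.ext e' : w' = w) ▸ hw'
  obtain ⟨K, hKmax⟩ := exists_maximal_of_wellFoundedGT
    (fun U : Subgroup G => Φ ≤ U ∧ U ≤ W₀ ∧ A ≤ normalizer (U : Set G) ∧ U ≠ W₀)
    ⟨Φ, le_rfl, hΦle, hΦn, hΦne⟩
  obtain ⟨hΦK, hKW, hKn, hKne⟩ := hKmax.prop
  have hKR : ⁅K, R⁆ = ⊥ := hmin K hKW hKn hKne
  have hder : ⁅W₀, W₀⁆ ≤ K := fun z hz => hΦK (subset_closure (Or.inl hz))
  have hKnW : W₀ ≤ normalizer (K : Set G) := fun w hw => mem_normalizer_fintype fun z hz => by
    have h1 : w * z * w⁻¹ * z⁻¹ ∈ K := hder (commutator_mem_commutator hw (hKW hz))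
    have h2 := mul_mem h1 hz
    rwa [inv_mul_cancel_right] at h2
  have hKc : ⁅W₀, K⁆ = ⊥ := by
    conv_lhs => rw [← hWR]
    refine three_subgroup (X := R) (Y := K) (Z := W₀) ?_ ?_
    · rw [commutator_comm R K, hKR, commutator_bot_left]
    · rw [eq_bot_iff, ← hKR]
      refine commutator_mono ?_ le_rfl
      rw [commutator_comm]
      exact le_trans (commutator_mono le_rfl hKW) hder
  -- the module
  set K' := K.subgroupOf W₀ with hK'
  haveI : K'.Normal := (normal_subgroupOf_iff_le_normalizer hKW).2 hKnW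
  have hcomm : ∀ u v : W₀ ⧸ K', u * v = v * u := by
    intro u v
    obtain ⟨u, rfl⟩ := QuotientGroup.mk_surjective u
    obtain ⟨v, rfl⟩ := QuotientGroup.mk_surjective v
    rw [← QuotientGroup.mk_mul, ← QuotientGroup.mk_mul, QuotientGroup.eq, mem_subgroupOf]
    refine hder ?_
    have h1 := commutator_mem_commutator (inv_mem v.2) (inv_mem u.2)
    rw [commutatorElement_def, inv_inv, inv_inv] at h1
    simpa [mul_assoc] using h1
  letI : CommGroup (W₀ ⧸ K') := { (inferInstance : Group (W₀ ⧸ K')) with mul_comm := hcomm }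
  have hexp : ∀ u : W₀ ⧸ K', u ^ q = 1 := by
    intro u
    obtain ⟨u, rfl⟩ := QuotientGroup.mk_surjective u
    rw [← QuotientGroup.mk_pow, QuotientGroup.eq_one_iff, mem_subgroupOf, SubgroupClass.coe_pow]
    exact hΦK (subset_closure (Or.inr ⟨u, u.2, rfl⟩))
  haveI : Module (ZMod q) (Additive (W₀ ⧸ K')) := AddCommGroup.zmodModule fun u : Additive (W₀ ⧸ K') => by
    show Additive.ofMul (u.toMul ^ q) = 0
    rw [hexp]; rfl
  haveI : Finite (Additive (W₀ ⧸ K')) := Finite.of_equiv _ Additive.ofMul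
  haveI : Module.Finite (ZMod q) (Additive (W₀ ⧸ K')) := Module.Finite.of_finite
  -- the action
  let c : A →* MulAut W₀ := W₀.normalizerMonoidHom.comp (inclusion hW₀n)
  have hc : ∀ (g : A) (w : W₀), (c g w : G) = g * w * (g : G)⁻¹ := fun g w => rfl
  have hcK : ∀ g : A, K'.map (c g).toMonoidHom = K' := by
    intro g
    refine eq_of_le_of_card_ge ?_ (card_map_of_injective (c g).injective).ge
    rintro _ ⟨w, hw, rfl⟩
    show (c g w : G) ∈ K
    rw [hc]
    exact (mem_normalizer_iff.1 (hKn g.2) _).1 hw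
  let act : A →* Module.End (ZMod q) (Additive (W₀ ⧸ K')) :=
    { toFun := fun g =>
        ((QuotientGroup.congr K' K' (c g) (hcK g)).toMonoidHom.toAdditive).toZModLinearMap q
      map_one' := LinearMap.ext fun u => by
        obtain ⟨w, hw⟩ := QuotientGroup.mk_surjective u.toMul
        obtain rfl : u = Additive.ofMul (w : W₀ ⧸ K') := by rw [hw]; rfl
        show Additive.ofMul ((c 1 w : W₀) : W₀ ⧸ K') = _
        rw [map_one]; rfl
      map_mul' := fun g g' => LinearMap.ext fun u => by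
        obtain ⟨w, hw⟩ := QuotientGroup.mk_surjective u.toMul
        obtain rfl : u = Additive.ofMul (w : W₀ ⧸ K') := by rw [hw]; rfl
        show Additive.ofMul ((c (g * g') w : W₀) : W₀ ⧸ K') = Additive.ofMul ((c g (c g' w) : W₀) : W₀ ⧸ K')
        rw [map_mul]; rfl }
  have hactw : ∀ (g : A) (w : W₀),
      act g (Additive.ofMul (w : W₀ ⧸ K')) = Additive.ofMul ((c g w : W₀) : W₀ ⧸ K') := fun g w => rfl
  -- fixed vectors
  have hfix : ∀ (g : A) (w : W₀), act g (Additive.ofMul (w : W₀ ⧸ K')) = Additive.ofMul (w : W₀ ⧸ K') ↔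
      (w : G)⁻¹ * (g * w * (g : G)⁻¹) ∈ K := by
    intro g w
    rw [hactw, Additive.ofMul.injective.eq_iff, eq_comm, QuotientGroup.eq, mem_subgroupOf,
      Subgroup.coe_mul, Subgroup.coe_inv, hc]
  set ρ := QuotientGroup.lift act.ker act (fun _ h => h) with hρ
  have hρinj : Function.Injective ρ := by
    intro x y e
    obtain ⟨g, rfl⟩ := QuotientGroup.mk_surjective x
    obtain ⟨g', rfl⟩ := QuotientGroup.mk_surjective y
    rw [QuotientGroup.eq, MonoidHom.mem_ker, map_mul]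
    have e' : act g = act g' := e
    rw [← e', ← map_mul, inv_mul_cancel, map_one]
  have hρmk : ∀ g : A, ρ (g : A ⧸ act.ker) = act g := fun g => rfl
  haveI : Group.IsSolvable (A ⧸ act.ker) := by
    haveI := hAs
    exact Group.isSolvable_of_surjective (QuotientGroup.mk'_surjective act.ker)
  haveI hnt : Nontrivial (Additive (W₀ ⧸ K')) := by
    haveI : Nontrivial (W₀ ⧸ K') := QuotientGroup.nontrivial_iff.2 fun e =>
      hKne (le_antisymm hKW (subgroupOf_eq_top.1 e))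
    exact Additive.ofMul.symm.nontrivial
  have hirr : ∀ S : Submodule (ZMod q) (Additive (W₀ ⧸ K')),
      (∀ g, ∀ v ∈ S, ρ g v ∈ S) → S = ⊥ ∨ S = ⊤ := by
    intro S hS
    let U : Subgroup G :=
      { carrier := {z | ∃ hz : z ∈ W₀, Additive.ofMul ((⟨z, hz⟩ : W₀) : W₀ ⧸ K') ∈ S}
        one_mem' := ⟨W₀.one_mem, S.zero_mem⟩
        mul_mem' := fun {y z} ⟨hy, hy'⟩ ⟨hz, hz'⟩ => ⟨W₀.mul_mem hy hz, S.add_mem hy' hz'⟩
        inv_mem' := fun {z} ⟨hz, hz'⟩ => ⟨W₀.inv_mem hz, S.neg_mem hz'⟩ }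
    have hKU : K ≤ U := fun z hz => ⟨hKW hz, by
      rw [show ((⟨z, hKW hz⟩ : W₀) : W₀ ⧸ K') = 1 from (QuotientGroup.eq_one_iff _).2 hz]
      exact S.zero_mem⟩
    have hUn : A ≤ normalizer (U : Set G) := fun g hg => mem_normalizer_fintype fun z ⟨hz, hz'⟩ => by
      refine ⟨(mem_normalizer_iff.1 (hW₀n hg) z).1 hz, ?_⟩
      have h1 := hS ((⟨g, hg⟩ : A) : A ⧸ act.ker) _ hz'
      rw [hρmk, hactw] at h1
      exact h1
    by_cases hUW : U = W₀
    · right
      rw [eq_top_iff]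
      intro u _
      obtain ⟨w, hw⟩ := QuotientGroup.mk_surjective u.toMul
      obtain rfl : u = Additive.ofMul (w : W₀ ⧸ K') := by rw [hw]; rfl
      obtain ⟨hz, hz'⟩ := hUW.ge w.2
      exact hz'
    · left
      have hUK : U = K := hKmax.eq_of_ge ⟨hΦK.trans hKU, fun z hz => hz.1, hUn, hUW⟩ hKU
      rw [eq_bot_iff]
      intro u hu
      obtain ⟨w, hw⟩ := QuotientGroup.mk_surjective u.toMul
      obtain rfl : u = Additive.ofMul (w : W₀ ⧸ K') := by rw [hw]; rfl
      have hwU : (w : G) ∈ K := hUK ▸ (⟨w.2, hu⟩ : (w : G) ∈ U)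
      rw [Submodule.mem_bot, show (w : W₀ ⧸ K') = 1 from (QuotientGroup.eq_one_iff _).2 hwU]
      rfl
  -- the generator
  have hPA : P ≤ A := hA ▸ le_sup_left
  haveI : Fact (Nat.card P).Prime := ⟨by rw [hP]; exact hp.out⟩
  obtain ⟨x, hxz⟩ := (isCyclic_of_prime_card (p := p) hP).exists_generator
  have hxo : orderOf x = p := by rw [orderOf_eq_card_of_forall_mem_zpowers hxz, hP]
  have hPx : P = zpowers (x : G) := by
    refine le_antisymm (fun z hz => ?_) (zpowers_le.2 x.2)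
    obtain ⟨i, hi⟩ := hxz ⟨z, hz⟩
    exact ⟨i, congrArg Subtype.val hi⟩
  set xA : A := ⟨x, hPA x.2⟩ with hxA
  have hgenA : ∀ S : Subgroup A, xA ∈ S → (⟨a, haA⟩ * xA * (⟨a, haA⟩ : A)⁻¹) ∈ S → S = ⊤ := by
    intro S h1 h2
    refine eq_top_iff.2 fun g _ => ?_
    have hle : P ⊔ P.map (MulAut.conj a).toMonoidHom ≤ S.map A.subtype := by
      refine sup_le ?_ ?_
      · rw [hPx, zpowers_le]; exact ⟨xA, h1, rfl⟩
      · rw [hPx, MonoidHom.map_zpowers, zpowers_le]; exact ⟨_, h2, rfl⟩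
    obtain ⟨g', hg', e⟩ := hle (hA.le g.2)
    exact (Subtype.ext e : g' = g) ▸ hg'
  have hact1 : act xA ≠ 1 := by
    intro e
    have htop : act.ker = ⊤ := hgenA _ e (by
      rw [MonoidHom.mem_ker, map_mul, map_mul, e, mul_one, ← map_mul, mul_inv_cancel, map_one])
    apply hKne
    refine le_antisymm hKW ?_
    rw [← hWR, commutator_le]
    intro w hw z hz
    have h1 : act (⟨z, hRA hz⟩ : A) = 1 := by rw [← MonoidHom.mem_ker, htop]; exact mem_top _
    have h2 : act (⟨z, hRA hz⟩ : A)⁻¹ (Additive.ofMul ((⟨w, hw⟩ : W₀) : W₀ ⧸ K')) =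
        Additive.ofMul ((⟨w, hw⟩ : W₀) : W₀ ⧸ K') := by
      rw [show act (⟨z, hRA hz⟩ : A)⁻¹ = 1 from by rw [← MonoidHom.mem_ker, htop]; exact mem_top _]
      rfl
    have h3 := (hfix (⟨z, hRA hz⟩ : A) ⟨w, hw⟩).1 (by rw [h1]; rfl)
    rw [commutatorElement_def]
    have h4 := (mem_normalizer_iff.1 (hKnW hw) _).1 (inv_mem h3)
    rwa [show w * (w⁻¹ * (z * w * z⁻¹))⁻¹ * w⁻¹ = w * z * w⁻¹ * z⁻¹ by group] at h4
  set y : A ⧸ act.ker := (xA : A ⧸ act.ker) with hy
  have hyo : orderOf y = p := by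
    refine orderOf_eq_prime ?_ fun e => hact1 (by rw [← hρmk, ← hy, e, map_one])
    rw [hy, ← QuotientGroup.mk_pow, show xA ^ p = 1 from Subtype.ext (by
      show (x : G) ^ p = 1
      rw [← SubgroupClass.coe_pow, ← hxo, pow_orderOf_eq_one, OneMemClass.coe_one]), QuotientGroup.mk_one]
  have hygen : normalClosure {y} = ⊤ := by
    obtain ⟨f, hf⟩ : ∃ f : A →* A ⧸ act.ker, f = QuotientGroup.mk' act.ker := ⟨_, rfl⟩
    have hfy : f xA = y := by rw [hf, QuotientGroup.mk'_apply]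
    have hfs : Function.Surjective f := by rw [hf]; exact QuotientGroup.mk'_surjective _
    have h0 : y ∈ normalClosure {y} := subset_normalClosure (Set.mem_singleton y)
    have h1 : (normalClosure {y}).comap f = ⊤ := by
      refine hgenA _ ?_ ?_
      · rw [mem_comap, hfy]; exact h0
      · rw [mem_comap, map_mul, map_mul, map_inv, hfy]
        exact (normalClosure_normal (s := ({y} : Set (A ⧸ act.ker)))).conj_mem y h0 _
    rw [← map_comap_eq_self_of_surjective hfs (normalClosure {y}), h1, map_top_of_surjective _ hfs]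
  have hhalf := FixedHalf.half ρ hρinj hirr hyo hygen hp3
  set Cx := Module.End.eigenspace (ρ y) 1 with hCx
  set α : A := ⟨a, haA⟩
  set Ca := Cx.map (ρ (α : A ⧸ act.ker)) with hCa
  obtain ⟨v', hv'⟩ : ∃ v', v' ∉ Cx ⊔ Ca := by
    by_contra hcon
    push Not at hcon
    have h1 : Module.finrank (ZMod q) ↥(Cx ⊔ Ca) = Module.finrank (ZMod q) (Additive (W₀ ⧸ K')) := by
      rw [show Cx ⊔ Ca = ⊤ from eq_top_iff.2 fun z _ => hcon z, finrank_top]
    have h2 := Submodule.finrank_sup_add_finrank_inf_eq Cx Ca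
    have h3 : Module.finrank (ZMod q) Ca ≤ Module.finrank (ZMod q) Cx := Submodule.finrank_map_le _ _
    omega
  obtain ⟨v, hv⟩ := QuotientGroup.mk_surjective v'.toMul
  obtain rfl : v' = Additive.ofMul (v : W₀ ⧸ K') := by rw [hv]; rfl
  -- the new pair
  set b := (v : G) * a with hb
  set B := P ⊔ P.map (MulAut.conj b).toMonoidHom with hB
  set Γ := A ⊔ W₀ with hΓ
  have hΓsol : Group.IsSolvable Γ := sup_solvable hAs hWsol hW₀n
  have hBΓ : B ≤ Γ := by
    refine sup_le (hPA.trans le_sup_left) ?_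
    rintro _ ⟨z, hz, rfl⟩
    show b * z * b⁻¹ ∈ Γ
    have hbΓ : b ∈ Γ := mul_mem (mem_sup_right v.2) (mem_sup_left haA)
    exact mul_mem (mul_mem hbΓ (mem_sup_left (hPA hz))) (inv_mem hbΓ)
  have hAB : A ≤ B ⊔ W₀ := by
    conv_lhs => rw [hA]
    refine sup_le (le_sup_of_le_left le_sup_left) ?_
    rintro _ ⟨z, hz, rfl⟩
    show a * z * a⁻¹ ∈ B ⊔ W₀
    rw [show a * z * a⁻¹ = (v : G)⁻¹ * (b * z * b⁻¹) * v by rw [hb]; group]
    exact mul_mem (mul_mem (mem_sup_right (inv_mem v.2))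
      (mem_sup_left (mem_sup_right ⟨z, hz, rfl⟩))) (mem_sup_right v.2)
  have hBn : B ≤ normalizer (W₀ : Set G) := hBΓ.trans (sup_le hW₀n le_normalizer)
  -- a conjugate of `R` inside `B`
  obtain ⟨w, hw, hRw⟩ : ∃ w ∈ W₀, ∀ z ∈ R, w * z * w⁻¹ ∈ B := by
    set D := B ⊓ (R ⊔ W₀) with hD
    have hDW : D ⊔ W₀ = R ⊔ W₀ := by
      refine le_antisymm (sup_le inf_le_right le_sup_right) (sup_le ?_ le_sup_right)
      intro z hz
      have hz' : z ∈ ((B ⊔ W₀ : Subgroup G) : Set G) := hAB (hRA hz)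
      rw [Subgroup.coe_mul_of_left_le_normalizer_right B W₀ hBn] at hz'
      obtain ⟨d, hd, w, hw, rfl⟩ := hz'
      refine mul_mem (mem_sup_left ⟨hd, ?_⟩) (mem_sup_right hw)
      have := mul_mem (mem_sup_left hz : d * w ∈ R ⊔ W₀) (inv_mem (mem_sup_right hw : w ∈ R ⊔ W₀))
      rwa [mul_inv_cancel_right] at this
    have h1 := CfsgLib.EABasic.card_sup_mul_card_inf_of_le_normalizer
      (inf_le_left.trans hBn : D ≤ normalizer (W₀ : Set G))
    rw [hDW] at h1
    have h2 := CfsgLib.EABasic.card_sup_mul_card_inf_of_le_normalizer hRnW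
    rw [show R ⊓ W₀ = ⊥ from CfsgLib.Coprime.disjoint_of_coprime_card hcopR, card_bot, mul_one] at h2
    have hDc : Nat.card D = Nat.card R * Nat.card ↥(D ⊓ W₀) := by
      rw [h2] at h1
      have h3 : Nat.card R * Nat.card ↥(D ⊓ W₀) * Nat.card W₀ = Nat.card D * Nat.card W₀ := by
        rw [← h1]; ring
      exact (Nat.eq_of_mul_eq_mul_right Nat.card_pos h3).symm
    obtain ⟨i, hi⟩ := IsPGroup.iff_card.1 hR
    obtain ⟨j, hj⟩ := IsPGroup.iff_card.1 (hW₀q.to_le (inf_le_right : D ⊓ W₀ ≤ W₀))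
    let S : Sylow r D := default
    have hS : Nat.card ↥((S : Subgroup D).map D.subtype) = Nat.card R := by
      rw [card_map_of_injective D.subtype_injective, S.card_eq_multiplicity, hDc, hi, hj,
        Nat.factorization_mul (pow_ne_zero _ hr.out.ne_zero) (pow_ne_zero _ hq.out.ne_zero),
        Nat.Prime.factorization_pow hr.out, Nat.Prime.factorization_pow hq.out]
      simp [hqr.symm]
    obtain ⟨w, hw, e⟩ := CfsgLib.Coprime.sz_conj_in (A := R) (N := W₀)
      (B := (S : Subgroup D).map D.subtype) hRnW hcopR.symm ((map_subtype_le _).trans inf_le_right) hS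
      (Or.inl hRsol)
    refine ⟨w⁻¹, inv_mem hw, fun z hz => ?_⟩
    rw [← e, CfsgLib.Coprime.mem_conjBy] at hz
    rw [inv_inv]
    exact (map_subtype_le _ hz).1
  have hRWle : ⁅W₀, R⁆ ≤ W₀ := hWR.le
  by_cases hT : ∀ u ∈ W₀, u ∈ B ⊔ K
  · -- `B` swallows `W₀`
    have hsub : ⁅W₀, R⁆ ≤ B.comap (MulAut.conj w).toMonoidHom := by
      rw [commutator_le]
      intro u hu z hz
      have hwu : w * u * w⁻¹ ∈ W₀ := mul_mem (mul_mem hw hu) (inv_mem hw)
      have hu' : w * u * w⁻¹ ∈ ((B ⊔ K : Subgroup G) : Set G) := hT _ hwu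
      rw [Subgroup.coe_mul_of_left_le_normalizer_right B K (hBΓ.trans (sup_le hKn hKnW))] at hu'
      obtain ⟨t, ht, k, hk, e⟩ := hu'
      have e' : t * k = w * u * w⁻¹ := e
      have hkw : ∀ {y}, y ∈ W₀ → k * y = y * k := fun {y} hy => by
        have h1 := commutator_eq_bot_iff_le_centralizer.1 hKc hy
        exact mem_centralizer_iff.1 h1 k hk
      have hkz : k * z = z * k := by
        have h1 := commutator_eq_bot_iff_le_centralizer.1 hKR hk
        exact (mem_centralizer_iff.1 h1 z hz).symm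
      have hkz' : k * (w * z * w⁻¹) = w * z * w⁻¹ * k := by
        calc k * (w * z * w⁻¹) = (k * w) * z * w⁻¹ := by group
          _ = w * (k * z) * w⁻¹ := by rw [hkw hw]; group
          _ = w * z * (k * w⁻¹) := by rw [hkz]; group
          _ = _ := by rw [hkw (inv_mem hw)]; group
      have hBcomm : t * (w * z * w⁻¹) * t⁻¹ * (w * z * w⁻¹)⁻¹ ∈ B :=
        mul_mem (mul_mem (mul_mem ht (hRw z hz)) (inv_mem ht)) (inv_mem (hRw z hz))
      rw [show t = t * k * k⁻¹ by group, e'] at hBcomm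
      have hce : w * u * w⁻¹ * k⁻¹ * (w * z * w⁻¹) * (w * u * w⁻¹ * k⁻¹)⁻¹ * (w * z * w⁻¹)⁻¹ =
          w * (u * z * u⁻¹ * z⁻¹) * w⁻¹ := by
        calc w * u * w⁻¹ * k⁻¹ * (w * z * w⁻¹) * (w * u * w⁻¹ * k⁻¹)⁻¹ * (w * z * w⁻¹)⁻¹
            = w * u * w⁻¹ * k⁻¹ * ((w * z * w⁻¹) * k) * (w * u * w⁻¹)⁻¹ * (w * z * w⁻¹)⁻¹ := by group
          _ = w * u * w⁻¹ * k⁻¹ * (k * (w * z * w⁻¹)) * (w * u * w⁻¹)⁻¹ * (w * z * w⁻¹)⁻¹ := by rw [hkz']
          _ = _ := by group
      rw [hce] at hBcomm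
      rw [mem_comap, commutatorElement_def]
      exact hBcomm
    rw [hWR] at hsub
    have hWB : W₀ ≤ B := fun y hy => by
      have h1 := hsub (mul_mem (mul_mem (inv_mem hw) hy) hw)
      rw [mem_comap] at h1
      simpa [mul_assoc] using h1
    have hAB' : A ≤ B := hAB.trans (sup_le le_rfl hWB)
    have hBsol : Group.IsSolvable ↥B := by
      haveI := hΓsol
      exact Group.isSolvable_of_isSolvable_injective (f := inclusion hBΓ) (inclusion_injective hBΓ)
    have hbB : b ∈ B := mul_mem (hWB v.2) (hAB' haA)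
    have hBA : B = A := hmax B hAB' hBsol ⟨b, hbB, hB⟩
    refine hW₀1 (eq_bot_iff.2 ?_)
    rw [← show R ⊓ W₀ = ⊥ from CfsgLib.Coprime.disjoint_of_coprime_card hcopR]
    refine le_inf ?_ le_rfl
    conv_lhs => rw [← hWR]
    exact Subgroup.le_normalizer_iff_commutator_le_right.1 ((hWB.trans hBA.le).trans hRn)
  · -- `B ⊔ K` meets `W₀` in `K`
    set B1 := B ⊔ K with hB1
    have hB1W : B1 ≤ normalizer (W₀ : Set G) := sup_le hBn (hKW.trans le_normalizer)
    have hB1T : B1 ≤ normalizer ((B1 ⊓ W₀ : Subgroup G) : Set G) := fun g hg =>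
      mem_normalizer_fintype fun z hz => Subgroup.mem_inf.2
        ⟨mul_mem (mul_mem hg (Subgroup.mem_inf.1 hz).1) (inv_mem hg),
          (mem_normalizer_iff.1 (hB1W hg) z).1 (Subgroup.mem_inf.1 hz).2⟩
    have hKT : K ≤ B1 ⊓ W₀ := le_inf le_sup_right hKW
    have hWT : W₀ ≤ normalizer ((B1 ⊓ W₀ : Subgroup G) : Set G) := fun g hg =>
      mem_normalizer_fintype fun z hz => by
        have h1 : g * z * g⁻¹ * z⁻¹ ∈ B1 ⊓ W₀ :=
          hKT (hder (commutator_mem_commutator hg (Subgroup.mem_inf.1 hz).2))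
        have h2 := mul_mem h1 hz
        rwa [inv_mul_cancel_right] at h2
    have hTK : B1 ⊓ W₀ = K := by
      refine hKmax.eq_of_ge ⟨hΦK.trans hKT, inf_le_right,
        hAB.trans (sup_le ((le_sup_left : B ≤ B1).trans hB1T) hWT), ?_⟩ hKT
      intro e
      exact hT fun u hu => (Subgroup.mem_inf.1 (e.ge hu)).1
    -- the conjugate of `B1` containing `R`
    obtain ⟨B2, hB2⟩ : ∃ B2 : Subgroup G, B2 = B1.comap (MulAut.conj w).toMonoidHom := ⟨_, rfl⟩
    have hmem : ∀ z, z ∈ B2 ↔ w * z * w⁻¹ ∈ B1 := fun z => by rw [hB2, mem_comap]; rfl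
    have hB2W : ∀ z ∈ B2, z ∈ W₀ → z ∈ K := fun z hz hz' => by
      have h1 : w * z * w⁻¹ ∈ K :=
        hTK.le (Subgroup.mem_inf.2 ⟨(hmem z).1 hz, mul_mem (mul_mem hw hz') (inv_mem hw)⟩)
      have h2 := (mem_normalizer_iff.1 (hKnW (inv_mem hw)) _).1 h1
      simpa [mul_assoc] using h2
    have hKB2 : K ≤ B2 := fun z hz =>
      (hmem z).2 (mem_sup_right ((mem_normalizer_iff.1 (hKnW hw) z).1 hz))
    have hRB2 : R ≤ B2 := fun z hz => (hmem z).2 (mem_sup_left (hRw z hz))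
    -- the part of `W₀` fixed by `R` modulo `K`
    let U : Subgroup G :=
      { carrier := {u | u ∈ W₀ ∧ ∀ z ∈ R, u * z * u⁻¹ * z⁻¹ ∈ K}
        one_mem' := ⟨W₀.one_mem, fun z _ => by simp [K.one_mem]⟩
        mul_mem' := fun {y y'} ⟨hy, hy'⟩ ⟨hy1, hy1'⟩ => ⟨W₀.mul_mem hy hy1, fun z hz => by
          have h1 := (mem_normalizer_iff.1 (hKnW hy) _).1 (hy1' z hz)
          have h2 := K.mul_mem h1 (hy' z hz)
          rwa [show y * (y' * z * y'⁻¹ * z⁻¹) * y⁻¹ * (y * z * y⁻¹ * z⁻¹) =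
            y * y' * z * (y * y')⁻¹ * z⁻¹ by group] at h2⟩
        inv_mem' := fun {y} ⟨hy, hy'⟩ => ⟨W₀.inv_mem hy, fun z hz => by
          have h1 := (mem_normalizer_iff.1 (hKnW (inv_mem hy)) _).1 (K.inv_mem (hy' z hz))
          rwa [show y⁻¹ * (y * z * y⁻¹ * z⁻¹)⁻¹ * y⁻¹⁻¹ = y⁻¹ * z * y⁻¹⁻¹ * z⁻¹ by group] at h1⟩ }
    have hUK : U = K := by
      refine hKmax.eq_of_ge ⟨?_, fun u hu => hu.1, fun g hg => ?_, fun e => ?_⟩ ?_
      rotate_left 3
      · intro u hu
        refine ⟨hKW hu, fun z hz => ?_⟩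
        rw [← mem_centralizer_iff.1 (commutator_eq_bot_iff_le_centralizer.1 hKR hu) z hz]
        simp [K.one_mem]
      · intro u hu
        refine ⟨hΦle hu, fun z hz => ?_⟩
        rw [← mem_centralizer_iff.1 (commutator_eq_bot_iff_le_centralizer.1 hKR (hΦK hu)) z hz]
        simp [K.one_mem]
      · refine mem_normalizer_fintype fun u ⟨hu, hu'⟩ => ⟨(mem_normalizer_iff.1 (hW₀n hg) u).1 hu, fun z hz => ?_⟩
        have h0 := (mem_normalizer_iff.1 (hRn (inv_mem hg)) z).1 hz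
        rw [inv_inv] at h0
        have h1 := (mem_normalizer_iff.1 (hKn hg) _).1 (hu' _ h0)
        rwa [show g * (u * (g⁻¹ * z * g) * u⁻¹ * (g⁻¹ * z * g)⁻¹) * g⁻¹ =
          g * u * g⁻¹ * z * (g * u * g⁻¹)⁻¹ * z⁻¹ by group] at h1
      · refine hKne (le_antisymm hKW ?_)
        conv_lhs => rw [← hWR]
        rw [commutator_le]
        intro u hu z hz
        rw [commutatorElement_def]
        exact (e.ge hu).2 z hz
    have hAB2 : A ≤ B2 := by
      intro g hg
      have hgΓ : w * g * w⁻¹ ∈ ((B ⊔ W₀ : Subgroup G) : Set G) :=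
        mul_mem (mul_mem (mem_sup_right hw) (hAB hg)) (inv_mem (mem_sup_right hw))
      rw [Subgroup.coe_mul_of_left_le_normalizer_right B W₀ hBn] at hgΓ
      obtain ⟨d, hd, u, hu, e⟩ := hgΓ
      have e' : d * u = w * g * w⁻¹ := e
      obtain ⟨w', hw'⟩ : ∃ w', w' = g * (w⁻¹ * u⁻¹ * w) * g⁻¹ := ⟨_, rfl⟩
      have hw'W : w' ∈ W₀ := hw' ▸ (mem_normalizer_iff.1 (hW₀n hg) _).1
        (mul_mem (mul_mem (inv_mem hw) (inv_mem hu)) hw)
      have hh : w' * g ∈ B2 := by
        rw [hmem, show w * (w' * g) * w⁻¹ = d by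
          rw [hw', show d = w * g * w⁻¹ * u⁻¹ by rw [← e']; group]; group]
        exact mem_sup_left hd
      have hw'U : w' ∈ U := by
        refine ⟨hw'W, fun z hz => hB2W _ ?_ ?_⟩
        · have h0 : g⁻¹ * z * g ∈ R := by
            have := (mem_normalizer_iff.1 (hRn (inv_mem hg)) z).1 hz
            rwa [inv_inv] at this
          have h1 := mul_mem (mul_mem (mul_mem hh (hRB2 h0)) (inv_mem hh)) (inv_mem (hRB2 hz))
          rwa [show w' * g * (g⁻¹ * z * g) * (w' * g)⁻¹ * z⁻¹ = w' * z * w'⁻¹ * z⁻¹ by group] at h1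
        · rw [← commutatorElement_def]
          exact hRWle (commutator_mem_commutator hw'W hz)
      have h2 := mul_mem (inv_mem (hKB2 (hUK.le hw'U))) hh
      rwa [inv_mul_cancel_left] at h2
    -- two fixed points
    have hxB2 : (xA : G) ∈ B2 := hAB2 xA.2
    have hwx : w⁻¹ * (xA : G) * w ∈ B2 := (hmem _).2 (by
      rw [show w * (w⁻¹ * (xA : G) * w) * w⁻¹ = (xA : G) by group]
      exact mem_sup_left (mem_sup_left x.2))
    have hwC : Additive.ofMul (((⟨w, hw⟩ : W₀)) : W₀ ⧸ K') ∈ Cx := by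
      rw [hCx, Module.End.mem_eigenspace_iff, one_smul, hy, hρmk, hfix]
      refine hB2W _ ?_ (mul_mem (inv_mem hw) ((mem_normalizer_iff.1 (hW₀n xA.2) w).1 hw))
      show w⁻¹ * ((xA : G) * w * (xA : G)⁻¹) ∈ B2
      rw [show w⁻¹ * ((xA : G) * w * (xA : G)⁻¹) = w⁻¹ * (xA : G) * w * (xA : G)⁻¹ by group]
      exact mul_mem hwx (inv_mem hxB2)
    obtain ⟨s, hs⟩ : ∃ s : W₀, s = v⁻¹ * ⟨w, hw⟩ := ⟨_, rfl⟩
    have hsx : (s : G)⁻¹ * (((α * xA * α⁻¹ : A) : G) * s * ((α * xA * α⁻¹ : A) : G)⁻¹) ∈ K := by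
      refine hB2W _ ?_ (mul_mem (inv_mem s.2) ((mem_normalizer_iff.1 (hW₀n (α * xA * α⁻¹).2) _).1 s.2))
      have h2 : (s : G)⁻¹ * ((α * xA * α⁻¹ : A) : G) * s ∈ B2 := by
        rw [hmem]
        have he : w * ((s : G)⁻¹ * ((α * xA * α⁻¹ : A) : G) * s) * w⁻¹ = b * (xA : G) * b⁻¹ := by
          rw [hs, hb]
          show w * (((v : G)⁻¹ * w)⁻¹ * (a * (xA : G) * a⁻¹) * ((v : G)⁻¹ * w)) * w⁻¹ = _
          group
        rw [he]
        exact mem_sup_left (mem_sup_right ⟨(xA : G), x.2, rfl⟩)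
      rw [show (s : G)⁻¹ * (((α * xA * α⁻¹ : A) : G) * s * ((α * xA * α⁻¹ : A) : G)⁻¹) =
        (s : G)⁻¹ * ((α * xA * α⁻¹ : A) : G) * s * ((α * xA * α⁻¹ : A) : G)⁻¹ by group]
      exact mul_mem h2 (inv_mem (hAB2 (α * xA * α⁻¹).2))
    have hsC : Additive.ofMul (s : W₀ ⧸ K') ∈ Ca := by
      have h1 := (hfix _ _).2 hsx
      rw [map_mul, map_mul] at h1
      rw [hCa]
      refine ⟨act α⁻¹ (Additive.ofMul (s : W₀ ⧸ K')), ?_, ?_⟩
      · rw [SetLike.mem_coe, hCx, Module.End.mem_eigenspace_iff, one_smul, hy, hρmk]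
        have h3 := congrArg (act α⁻¹) h1
        simp only [Module.End.mul_apply] at h3
        rwa [← Module.End.mul_apply, ← map_mul, inv_mul_cancel, map_one, Module.End.one_apply] at h3
      · rw [hρmk, ← Module.End.mul_apply, ← map_mul, mul_inv_cancel, map_one, Module.End.one_apply]
    apply hv'
    have hvd : Additive.ofMul (v : W₀ ⧸ K') =
        Additive.ofMul (((⟨w, hw⟩ : W₀)) : W₀ ⧸ K') - Additive.ofMul (s : W₀ ⧸ K') := by
      rw [hs, ← ofMul_div, QuotientGroup.mk_mul, QuotientGroup.mk_inv]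
      congr 1
      rw [div_eq_mul_inv, mul_inv_rev, inv_inv, mul_inv_cancel_left]
    rw [hvd]
    exact sub_mem (Submodule.mem_sup_left hwC) (Submodule.mem_sup_right hsC)

theorem pCore_map_normalized (V : Subgroup G) (A : Subgroup G) (r : ℕ)
    (h : A ≤ normalizer (V : Set G)) :
    A ≤ normalizer (((Cfsg.pCore r V).map V.subtype : Subgroup G) : Set G) :=
  haveI := CfsgLib.Coprime.pCore_characteristic (G := V) r
  char_map_normalized V A _ h

theorem pCore_map_centralize (V : Subgroup G) (q r : Nat.Primes) (hqr : q ≠ r) :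
    (Cfsg.pCore (q : ℕ) V).map V.subtype ≤
      centralizer (((Cfsg.pCore (r : ℕ) V).map V.subtype : Subgroup G) : Set G) := by
  haveI : Fact (q : ℕ).Prime := ⟨q.2⟩
  haveI : Fact (r : ℕ).Prime := ⟨r.2⟩
  have hq := CfsgLib.Coprime.pCore_normal' (G := V) (q : ℕ)
  have hr := CfsgLib.Coprime.pCore_normal' (G := V) (r : ℕ)
  have hd := (CfsgLib.Coprime.pCore_isPGroup (G := V) (q : ℕ)).disjoint_of_ne _ _
    (fun e => hqr (Subtype.ext e)) _ _ (CfsgLib.Coprime.pCore_isPGroup (G := V) (r : ℕ))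
  rintro _ ⟨y, hy, rfl⟩
  rw [mem_centralizer_iff]
  rintro _ ⟨z, hz, rfl⟩
  rw [← map_mul, ← map_mul]
  exact congrArg V.subtype (Subgroup.commute_of_normal_of_disjoint _ _ hq hr hd y z hy hz).symm

/-- `F(A) V` is nilpotent. -/
theorem fitting_sup_nilpotent {p : ℕ} [hp : Fact p.Prime] (hp3 : 3 < p) (P A : Subgroup G)
    (hP : Nat.card P = p) (hAs : Group.IsSolvable A) (a : G) (haA : a ∈ A)
    (hA : A = P ⊔ P.map (MulAut.conj a).toMonoidHom)
    (hmax : ∀ B : Subgroup G, A ≤ B → Group.IsSolvable ↥B →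
      (∃ b ∈ B, B = P ⊔ P.map (MulAut.conj b).toMonoidHom) → B = A)
    (V : Subgroup G) (hV : Group.IsNilpotent V) (hAV : A ≤ normalizer (V : Set G)) :
    Group.IsNilpotent ↥((Cfsg.fittingSubgroup A).map A.subtype ⊔ V) := by
  let XA : Nat.Primes → Subgroup G := fun r => (Cfsg.pCore (r : ℕ) A).map A.subtype
  let XV : Nat.Primes → Subgroup G := fun r => (Cfsg.pCore (r : ℕ) V).map V.subtype
  have hXA : ∀ r, XA r ≤ A := fun r => map_subtype_le _
  have hXVn : ∀ r, A ≤ normalizer (XV r : Set G) := fun r => pCore_map_normalized V A r hAV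
  have hVeq : V = ⨆ r, XV r := by
    refine le_antisymm ?_ (iSup_le fun r => map_subtype_le _)
    intro z hz
    haveI := hV
    haveI : Group.IsNilpotent (⊤ : Subgroup V) := Group.nilpotent_of_mulEquiv Subgroup.topEquiv.symm
    have h1 := CfsgLib.Coprime.le_iSup_pCore (G := V) (N := ⊤) inferInstance (mem_top ⟨z, hz⟩)
    have h2 := mem_map_of_mem V.subtype h1
    rw [Subgroup.map_iSup] at h2
    exact h2
  have heq : (Cfsg.fittingSubgroup A).map A.subtype ⊔ V = ⨆ r, XA r ⊔ XV r := by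
    rw [CfsgLib.Coprime.fitting_eq_iSup_pCore, Subgroup.map_iSup, iSup_sup_eq, ← hVeq]
  rw [heq]
  refine isNilpotent_iSup _ (fun r => ?_) (fun q r hqr => ?_)
  · haveI : Fact (r : ℕ).Prime := ⟨r.2⟩
    exact (((CfsgLib.Coprime.pCore_isPGroup (G := A) (r : ℕ)).map A.subtype).to_sup_of_normal_right'
      ((CfsgLib.Coprime.pCore_isPGroup (G := V) (r : ℕ)).map V.subtype)
      ((hXA r).trans (hXVn r))).isNilpotent
  · haveI : Fact (q : ℕ).Prime := ⟨q.2⟩
    haveI : Fact (r : ℕ).Prime := ⟨r.2⟩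
    have hne : (q : ℕ) ≠ r := fun e => hqr (Subtype.ext e)
    have k1 : ∀ s t : Nat.Primes, s ≠ t → XV s ≤ centralizer (XA t : Set G) := by
      intro s t hst
      haveI : Fact (s : ℕ).Prime := ⟨s.2⟩
      haveI : Fact (t : ℕ).Prime := ⟨t.2⟩
      exact commutator_eq_bot_iff_le_centralizer.1 (core_step hp3 P A hP hAs a haA hA hmax
        (fun e => hst (Subtype.ext e)) _ _ (hXA t) (pCore_map_normalized A A t le_normalizer)
        ((CfsgLib.Coprime.pCore_isPGroup (G := A) (t : ℕ)).map A.subtype)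
        ((CfsgLib.Coprime.pCore_isPGroup (G := V) (s : ℕ)).map V.subtype) (hXVn s))
    refine le_centralizer_iff.1 (sup_le ?_ ?_)
    · exact le_centralizer_iff.1 (sup_le (pCore_map_centralize A q r hqr) (k1 q r hqr))
    · exact le_centralizer_iff.1 (sup_le (le_centralizer_iff.1 (k1 r q hqr.symm))
        (pCore_map_centralize V q r hqr))

end CfsgLib.PGroup.TwoConjugateMaximal
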