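import Cfsg.Agent.Lib.Classical.SL2Sylow
import Cfsg.Agent.Lib.Coprime.Action
import Cfsg.Agent.Lib.Coprime.UniqueOrderP
import Cfsg.Agent.Lib.Invol.QuaternionSection
import Cfsg.Agent.Lib.Char.TransLinear.SL23
import Cfsg.Agent.Lib.PGroup.CharPLocal
import Cfsg.Agent.Lib.PGroup.ElementaryBasic
import Mathlib.LinearAlgebra.Matrix.Charpoly.Basic

/-!
# Unipotent elements of `SL₂` normalizing subgroups of order prime to the characteristic
-/

set_option autoImplicit false
set_option linter.style.haveILetI false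

open Matrix

namespace CfsgLib.UnipotentNormalizing

variable {F : Type*} [Field F]

local notation "SL2" => Matrix.SpecialLinearGroup (Fin 2) F

/-- The discriminant of the characteristic polynomial. -/
def disc (A : Matrix (Fin 2) (Fin 2) F) : F := (A 0 0 - A 1 1) ^ 2 + 4 * A 0 1 * A 1 0

theorem disc_eq (x : SL2) : disc x.1 = (x.1 0 0 + x.1 1 1) ^ 2 - 4 := by
  have hd := x.2
  rw [Matrix.det_fin_two] at hd
  simp only [disc]
  linear_combination -4 * hd

theorem comm_relations {A B : Matrix (Fin 2) (Fin 2) F} (h : A * B = B * A) :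
    A 0 1 * B 1 0 = A 1 0 * B 0 1 ∧
      (A 0 0 - A 1 1) * B 0 1 = (B 0 0 - B 1 1) * A 0 1 ∧
      (A 0 0 - A 1 1) * B 1 0 = (B 0 0 - B 1 1) * A 1 0 := by
  have e00 := congrFun (congrFun h 0) 0
  have e01 := congrFun (congrFun h 0) 1
  have e10 := congrFun (congrFun h 1) 0
  simp [Matrix.mul_apply, Fin.sum_univ_two] at e00 e01 e10
  refine ⟨?_, ?_, ?_⟩
  · linear_combination e00
  · linear_combination e01
  · linear_combination -e10

theorem pow_p_eq_add {p : ℕ} [Fact p.Prime] [CharP F p] {N : Matrix (Fin 2) (Fin 2) F} (σ : F)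
    (hN : N * N = 0) (hσ : σ ^ p = σ) :
    (Matrix.scalar (Fin 2) σ + N) ^ p = Matrix.scalar (Fin 2) σ := by
  haveI : CharP (Matrix (Fin 2) (Fin 2) F) p := Matrix.charP _
  have hc : Commute (Matrix.scalar (Fin 2) σ) N := Matrix.scalar_commute σ (fun r => Commute.all σ r) N
  rw [add_pow_char_of_commute (p := p) hc, ← map_pow, hσ]
  obtain ⟨k, hk⟩ := Nat.exists_eq_add_of_le (Fact.out : p.Prime).two_le
  rw [hk, pow_add, pow_two, hN, zero_mul, add_zero]

variable [Fintype F] {p : ℕ} [hp : Fact p.Prime] [CharP F p]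

omit [Fintype F] in
theorem two_ne (hp2 : p ≠ 2) : (2 : F) ≠ 0 := by
  intro h
  have : ((2 : ℕ) : F) = 0 := by exact_mod_cast h
  rw [CharP.cast_eq_zero_iff F p] at this
  exact hp2 ((Nat.prime_dvd_prime_iff_eq hp.out Nat.prime_two).1 this)

omit [Fintype F] in
/-- An element with a repeated eigenvalue is a sign times an element of order `p`. -/
theorem pow_two_p (hp2 : p ≠ 2) (x : SL2) (hx : disc x.1 = 0) :
    x ^ (2 * p) = 1 ∧ (x.1 0 0 + x.1 1 1 = 2 → x ^ p = 1) := by
  have h2 := two_ne (F := F) hp2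
  rw [disc_eq] at hx
  have hσ2 : ((x.1 0 0 + x.1 1 1) / 2) ^ 2 = 1 := by
    field_simp
    linear_combination hx
  set σ := (x.1 0 0 + x.1 1 1) / 2 with hσ
  have hσp : σ ^ p = σ := by
    obtain ⟨k, hk⟩ := hp.out.odd_of_ne_two hp2
    rw [hk, pow_succ, pow_mul, hσ2, one_pow, one_mul]
  set N := x.1 - Matrix.scalar (Fin 2) σ with hNdef
  have hN : N * N = 0 := by
    have hd := x.2
    rw [Matrix.det_fin_two] at hd
    have hs : 2 * σ = x.1 0 0 + x.1 1 1 := by rw [hσ]; field_simp
    ext i j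
    fin_cases i <;> fin_cases j <;>
      simp [hNdef, Matrix.mul_apply, Fin.sum_univ_two, Matrix.scalar_apply]
    · linear_combination hσ2 - hd - x.1 0 0 * hs
    · linear_combination -x.1 0 1 * hs
    · linear_combination -x.1 1 0 * hs
    · linear_combination hσ2 - hd - x.1 1 1 * hs
  have hxp : x.1 ^ p = Matrix.scalar (Fin 2) σ := by
    conv_lhs => rw [← add_sub_cancel (Matrix.scalar (Fin 2) σ) x.1]
    exact pow_p_eq_add σ hN hσp
  refine ⟨Subtype.ext ?_, fun h => Subtype.ext ?_⟩
  · rw [Matrix.SpecialLinearGroup.coe_pow, mul_comm, pow_mul, hxp, ← map_pow, hσ2, map_one,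
      Matrix.SpecialLinearGroup.coe_one]
  · rw [Matrix.SpecialLinearGroup.coe_pow, hxp, show σ = 1 by rw [hσ, h]; field_simp, map_one,
      Matrix.SpecialLinearGroup.coe_one]

/-- A `p`-element is unipotent of order dividing `p`. -/
theorem unipotent_facts (hp2 : p ≠ 2) (a : SL2) (ha : IsPGroup p ↥(Subgroup.zpowers a)) :
    disc a.1 = 0 ∧ a ^ p = 1 := by
  obtain ⟨k, hk⟩ := ha ⟨a, Subgroup.mem_zpowers a⟩
  have hk' : a.1 ^ p ^ k = 1 := by
    rw [← Matrix.SpecialLinearGroup.coe_pow]
    have := congrArg Subtype.val hk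
    simp only [SubgroupClass.coe_pow, OneMemClass.coe_one] at this
    rw [this, Matrix.SpecialLinearGroup.coe_one]
  haveI : CharP (Matrix (Fin 2) (Fin 2) F) p := Matrix.charP _
  have hnil : IsNilpotent (a.1 - 1) := ⟨p ^ k, by
    rw [sub_pow_char_pow_of_commute (p := p) _ (Commute.one_right a.1), hk', one_pow, sub_self]⟩
  have htr : Matrix.trace (a.1 - 1) = 0 :=
    (Matrix.isNilpotent_trace_of_isNilpotent hnil).eq_zero
  have htr' : a.1 0 0 + a.1 1 1 = 2 := by
    rw [Matrix.trace_sub, Matrix.trace_one, Matrix.trace_fin_two] at htr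
    simp at htr
    linear_combination htr
  have hd : disc a.1 = 0 := by rw [disc_eq, htr']; ring
  exact ⟨hd, (pow_two_p hp2 a hd).2 htr'⟩

/-- The `p'`-part of the centralizer of a nontrivial unipotent element is `±1`. -/
theorem sq_eq_one_of_commute (hp2 : p ≠ 2) (a x : SL2) (ha : disc a.1 = 0)
    (hane : ¬ (a.1 0 1 = 0 ∧ a.1 1 0 = 0 ∧ a.1 0 0 = a.1 1 1)) (hx : Nat.Coprime (orderOf x) p)
    (hc : Commute x a) : x * x = 1 := by
  have h : x.1 * a.1 = a.1 * x.1 := by
    rw [← Matrix.SpecialLinearGroup.coe_mul, ← Matrix.SpecialLinearGroup.coe_mul, hc.eq]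
  obtain ⟨r1, r2, r3⟩ := comm_relations h
  simp only [disc] at ha
  set u := x.1 0 0 - x.1 1 1
  set b := x.1 0 1
  set c := x.1 1 0
  set v := a.1 0 0 - a.1 1 1 with hv
  set b' := a.1 0 1
  set c' := a.1 1 0
  have e1 : b' ^ 2 * (u ^ 2 + 4 * b * c) = 0 := by
    linear_combination b ^ 2 * ha + (u * b' + v * b) * r2 - 4 * b * b' * r1
  have e2 : c' ^ 2 * (u ^ 2 + 4 * b * c) = 0 := by
    linear_combination c ^ 2 * ha + (u * c' + v * c) * r3 + 4 * c * c' * r1
  have e3 : v ^ 2 * (u ^ 2 + 4 * b * c) = 0 := by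
    linear_combination u ^ 2 * ha - 4 * v * c * r2 - 4 * u * b' * r3
  have hdisc : disc x.1 = 0 := by
    simp only [disc]
    by_contra hne
    apply hane
    rcases mul_eq_zero.1 e1 with h1 | h1
    · rcases mul_eq_zero.1 e2 with h2 | h2
      · rcases mul_eq_zero.1 e3 with h3 | h3
        · refine ⟨pow_eq_zero_iff two_ne_zero |>.1 h1, pow_eq_zero_iff two_ne_zero |>.1 h2, ?_⟩
          exact sub_eq_zero.1 (pow_eq_zero_iff two_ne_zero |>.1 h3)
        · exact absurd h3 hne
      · exact absurd h2 hne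
    · exact absurd h1 hne
  have h2p := orderOf_dvd_of_pow_eq_one (pow_two_p hp2 x hdisc).1
  have := hx.dvd_of_dvd_mul_right h2p
  rw [← pow_two]
  exact orderOf_dvd_iff_pow_eq_one.1 this

/-- An element commuting with its image under conjugation by a unipotent element is fixed. -/
theorem fixed_of_commute_conj (hp2 : p ≠ 2) (a x : SL2) (hap : a ^ p = 1)
    (hx : Nat.Coprime (orderOf x) p) (hc : Commute x (a * x * a⁻¹)) : a * x * a⁻¹ = x := by
  set y := a * x * a⁻¹ with hy
  have h : x.1 * y.1 = y.1 * x.1 := by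
    rw [← Matrix.SpecialLinearGroup.coe_mul, ← Matrix.SpecialLinearGroup.coe_mul, hc.eq]
  obtain ⟨r1, r2, r3⟩ := comm_relations h
  have htr : y.1 0 0 + y.1 1 1 = x.1 0 0 + x.1 1 1 := by
    have e : Matrix.trace y.1 = Matrix.trace x.1 := by
      rw [hy, Matrix.SpecialLinearGroup.coe_mul, Matrix.trace_mul_comm,
        ← Matrix.SpecialLinearGroup.coe_mul, ← mul_assoc, inv_mul_cancel, one_mul]
    rwa [Matrix.trace_fin_two, Matrix.trace_fin_two] at e
  by_cases hd : disc x.1 = 0
  · -- `x` is central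
    have h2p := orderOf_dvd_of_pow_eq_one (pow_two_p hp2 x hd).1
    have hx2 : x * x = 1 := by
      rw [← pow_two]
      exact orderOf_dvd_iff_pow_eq_one.1 (hx.dvd_of_dvd_mul_right h2p)
    by_cases hx1 : x = 1
    · rw [hy, hx1, mul_one, mul_inv_cancel]
    have hy1 : y ≠ 1 := fun e => hx1 (by rwa [hy, conj_eq_one_iff] at e)
    have hy2 : y * y = 1 := by
      rw [hy, show a * x * a⁻¹ * (a * x * a⁻¹) = a * (x * x) * a⁻¹ by group, hx2, mul_one,
        mul_inv_cancel]
    exact Subtype.ext ((CfsgLib.Classical.involution_eq_neg_one (two_ne hp2) hy1 hy2).trans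
      (CfsgLib.Classical.involution_eq_neg_one (two_ne hp2) hx1 hx2).symm)
  have hD : disc y.1 = disc x.1 := by rw [disc_eq, disc_eq, htr]
  simp only [disc] at hd hD
  set u := x.1 0 0 - x.1 1 1 with hu
  set b := x.1 0 1
  set c := x.1 1 0
  set v := y.1 0 0 - y.1 1 1 with hv
  set b' := y.1 0 1
  set c' := y.1 1 0
  set P := u * v + 2 * (b * c' + c * b') with hP
  have k1 : v * (u ^ 2 + 4 * b * c) = P * u := by
    rw [hP]; linear_combination -2 * c * r2 - 2 * b * r3
  have k2 : b' * (u ^ 2 + 4 * b * c) = P * b := by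
    rw [hP]; linear_combination u * r2 - 2 * b * r1
  have k3 : c' * (u ^ 2 + 4 * b * c) = P * c := by
    rw [hP]; linear_combination u * r3 + 2 * c * r1
  have hPP : P * P = (u ^ 2 + 4 * b * c) * (u ^ 2 + 4 * b * c) := by
    refine mul_left_cancel₀ hd ?_
    linear_combination (u ^ 2 + 4 * b * c) ^ 2 * hD -
      (v * (u ^ 2 + 4 * b * c) + P * u) * k1 -
      4 * (c' * (u ^ 2 + 4 * b * c)) * k2 - 4 * (P * b) * k3
  have hne2 := two_ne (F := F) hp2
  have hyx : y = x ∨ y = x⁻¹ := by
    rcases mul_self_eq_mul_self_iff.1 hPP with hp' | hp'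
    · left
      rw [hp'] at k1 k2 k3
      have ev : v = u := mul_right_cancel₀ hd (k1.trans (mul_comm _ _))
      have eb : b' = b := mul_right_cancel₀ hd (k2.trans (mul_comm _ _))
      have ec : c' = c := mul_right_cancel₀ hd (k3.trans (mul_comm _ _))
      refine Subtype.ext ?_
      ext i j
      fin_cases i <;> fin_cases j <;> simp
      · refine mul_left_cancel₀ hne2 ?_
        linear_combination ev + htr
      · exact eb
      · exact ec
      · refine mul_left_cancel₀ hne2 ?_
        linear_combination -ev + htr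
    · right
      rw [hp'] at k1 k2 k3
      have ev : v = -u := mul_right_cancel₀ hd (by rw [k1]; ring)
      have eb : b' = -b := mul_right_cancel₀ hd (by rw [k2]; ring)
      have ec : c' = -c := mul_right_cancel₀ hd (by rw [k3]; ring)
      refine Subtype.ext ?_
      rw [Matrix.SpecialLinearGroup.coe_inv, Matrix.adjugate_fin_two]
      ext i j
      fin_cases i <;> fin_cases j <;> simp
      · refine mul_left_cancel₀ hne2 ?_
        linear_combination ev + htr
      · exact eb
      · exact ec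
      · refine mul_left_cancel₀ hne2 ?_
        linear_combination -ev + htr
  rcases hyx with e | e
  · exact e
  · -- conjugation by an element of odd order cannot invert
    obtain ⟨k, hk⟩ := hp.out.odd_of_ne_two hp2
    have h2 : Commute (a ^ 2) x := by
      show a ^ 2 * x = x * a ^ 2
      rw [← mul_inv_eq_iff_eq_mul, pow_two,
        show a * a * x * (a * a)⁻¹ = a * (a * x * a⁻¹) * a⁻¹ by group, ← hy, e,
        show a * x⁻¹ * a⁻¹ = (a * x * a⁻¹)⁻¹ by group, ← hy, e, inv_inv]
    have h3 : Commute a⁻¹ x := by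
      have : a ^ (2 * k) = a⁻¹ := eq_inv_of_mul_eq_one_left (by rw [← pow_succ, ← hk, hap])
      rw [← this, pow_mul]
      exact h2.pow_left k
    have h4 : Commute a x := by simpa using h3.inv_left
    rw [hy, h4.eq, mul_inv_cancel_right]

open Subgroup in
theorem main (hp2 : p ≠ 2) (a : SL2) (ha : IsPGroup p ↥(Subgroup.zpowers a)) (R : Subgroup SL2)
    (hR : (Nat.card R).Coprime p) (haR : a ∈ Subgroup.normalizer (R : Set SL2))
    (hnt : ⁅R, Subgroup.zpowers a⁆ ≠ ⊥) :
    p = 3 ∧ Nonempty (↥R ≃* QuaternionGroup 2) ∧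
      Nonempty (↥(R ⊔ Subgroup.zpowers a) ≃* Matrix.SpecialLinearGroup (Fin 2) (ZMod 3)) := by
  classical
  haveI : Fact (Nat.Prime 2) := ⟨Nat.prime_two⟩
  obtain ⟨hdisc, hap⟩ := unipotent_facts hp2 a ha
  have ha1 : a ≠ 1 := by
    rintro rfl
    exact hnt (by rw [zpowers_one_eq_bot, commutator_bot_right])
  have hordA : orderOf a = p := orderOf_eq_prime hap ha1
  have hane : ¬ (a.1 0 1 = 0 ∧ a.1 1 0 = 0 ∧ a.1 0 0 = a.1 1 1) := by
    rintro ⟨h1, h2, h3⟩
    have hd := a.2
    rw [Matrix.det_fin_two, h1, h2, h3] at hd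
    simp only [mul_zero, sub_zero] at hd
    -- then `a` squares to `1`
    have : a * a = 1 := by
      refine Subtype.ext ?_
      rw [Matrix.SpecialLinearGroup.coe_mul]
      ext i j
      fin_cases i <;> fin_cases j <;> simp [Matrix.mul_apply, Fin.sum_univ_two, h1, h2, h3, hd]
    have := orderOf_dvd_of_pow_eq_one (show a ^ 2 = 1 by rw [pow_two]; exact this)
    rw [hordA] at this
    exact hp2 ((Nat.prime_dvd_prime_iff_eq hp.out Nat.prime_two).1 this)
  have hcopx : ∀ x ∈ R, Nat.Coprime (orderOf x) p := fun x hx =>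
    hR.coprime_dvd_left (Subgroup.orderOf_dvd_natCard R hx)
  have hAn : zpowers a ≤ normalizer (R : Set SL2) := zpowers_le.2 haR
  have hcA : (Nat.card (zpowers a)).Coprime (Nat.card R) := by
    rw [Nat.card_zpowers, hordA]; exact hR.symm
  have hsA : Group.IsSolvable (zpowers a) :=
    CfsgLib.Coprime.isSolvable_of_isMulCommutative inferInstance
  -- `R` is a `2`-group
  have hR2 : IsPGroup 2 R := by
    have hdiv : ∀ r : ℕ, r.Prime → r ∣ Nat.card R → r = 2 := by
      intro r hr hrd
      by_contra hr2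
      haveI := Fact.mk hr
      obtain ⟨S, hS, hSn⟩ := CfsgLib.Coprime.exists_invariant_sylow hAn hcA (Or.inl hsA) r
      have hS1 : S ≠ ⊥ := by
        intro h
        have h1 := hS.2
        rw [h, card_bot] at h1
        have h2 : 0 < (Nat.card R).factorization r :=
          hr.factorization_pos_of_dvd Nat.card_pos.ne' hrd
        have h3 := Nat.one_lt_pow h2.ne' hr.one_lt
        omega
      obtain ⟨z, hz, hzo, hzc⟩ := CfsgLib.CharPLoc.exists_central_order (p := r) hS.isPGroup le_rfl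
        le_normalizer hS1
      have hy : a * z * a⁻¹ ∈ S := (mem_normalizer_iff.1 (hSn (mem_zpowers a)) z).1 hz
      have hfix := fixed_of_commute_conj hp2 a z hap (hcopx z (hS.1 hz))
        (hzc _ hy).symm
      have h2 := sq_eq_one_of_commute hp2 a z hdisc hane (hcopx z (hS.1 hz))
        (show Commute z a from (mul_inv_eq_iff_eq_mul.1 hfix).symm)
      have hd := orderOf_dvd_of_pow_eq_one (show z ^ 2 = 1 by rw [pow_two]; exact h2)
      rw [hzo] at hd
      exact hr2 ((Nat.prime_dvd_prime_iff_eq hr Nat.prime_two).1 hd)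
    refine IsPGroup.of_card (n := (Nat.card R).primeFactorsList.length) ?_
    exact Nat.eq_prime_pow_of_unique_prime_dvd Nat.card_pos.ne' fun {r} hr hd => hdiv r hr hd
  -- the automorphism
  have hF : Odd (Fintype.card F) := by
    obtain ⟨n, -, hn⟩ := FiniteField.card F p
    rw [hn]
    exact (hp.out.odd_of_ne_two hp2).pow
  obtain ⟨P, hRP⟩ := hR2.exists_le_sylow
  obtain ⟨k, -, ⟨e⟩⟩ := CfsgLib.Classical.sylow_two_quaternion hF P
  set σ : MulAut R := R.normalizerMonoidHom ⟨a, haR⟩ with hσ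
  have hσp : σ ^ p = 1 := by
    rw [hσ, ← map_pow, show (⟨a, haR⟩ : normalizer (R : Set SL2)) ^ p = 1 from Subtype.ext hap,
      map_one]
  have hσ1 : σ ≠ 1 := by
    intro h
    apply hnt
    rw [commutator_comm, commutator_eq_bot_iff_le_centralizer, zpowers_le, mem_centralizer_iff]
    intro x hx
    have h' : ((σ ⟨x, hx⟩ : R) : SL2) = x := by rw [h]; rfl
    have h'' : a * x * a⁻¹ = x := h'
    exact (mul_inv_eq_iff_eq_mul.1 h'').symm
  obtain ⟨h8, ⟨u, v, huv⟩, hσ3⟩ := CfsgLib.Invol.quaternion_subgroup_of_aut hR2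
    (e.toMonoidHom.comp (inclusion hRP)) (e.injective.comp (inclusion_injective hRP)) σ
    (hp.out.odd_of_ne_two hp2) hσp hσ1
  have hp3 : p = 3 :=
    (Nat.prime_dvd_prime_iff_eq hp.out Nat.prime_three).1
      (orderOf_eq_prime hσp hσ1 ▸ orderOf_dvd_of_pow_eq_one hσ3)
  have huniq := CfsgLib.Classical.uniqueOrderP_sl2 (F := F) (two_ne hp2)
  obtain ⟨eR⟩ : Nonempty (↥R ≃* QuaternionGroup 2) := by
    rcases CfsgLib.Coprime.cyclic_or_quaternion_of_unique_two hR2 (huniq.subgroup R) with hc | ⟨j, ⟨ej⟩⟩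
    · exact absurd (IsCyclic.commGroup.mul_comm u v) huv
    · have hj : 4 * 2 ^ j = 8 := by
        have hc := Nat.card_congr ej.toEquiv
        rw [h8, Nat.card_eq_fintype_card, QuaternionGroup.card] at hc
        exact hc.symm
      have : 2 ^ j = 2 := by omega
      rw [this] at ej
      exact ⟨ej⟩
  refine ⟨hp3, ⟨eR⟩, ?_⟩
  subst hp3
  set H := R ⊔ zpowers a with hH
  have hcardH : Nat.card H = 24 := by
    have hn' : zpowers a ≤ normalizer (R : Set SL2) := hAn
    have h := CfsgLib.EABasic.card_sup_mul_card_inf_of_le_normalizer hn'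
    have hinf : zpowers a ⊓ R = ⊥ := by
      rw [eq_bot_iff]
      intro x hx
      obtain ⟨hx1, hx2⟩ := Subgroup.mem_inf.1 hx
      exact mem_bot.2 (orderOf_eq_one_iff.1 (Nat.eq_one_of_dvd_coprimes hcA
        (Subgroup.orderOf_dvd_natCard _ hx1) (Subgroup.orderOf_dvd_natCard _ hx2)))
    rw [hinf, card_bot, mul_one, sup_comm, Nat.card_zpowers, hordA, h8] at h
    rw [h]
  haveI : (R.subgroupOf H).Normal := (normal_subgroupOf_iff_le_normalizer le_sup_left).2
    (sup_le le_normalizer hAn)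
  refine CfsgLib.Char.mulEquiv_SL23_of_order_24 hcardH ?_ (R.subgroupOf H) ?_ ?_
    (t := ⟨a, mem_sup_right (mem_zpowers a)⟩) ?_ ?_
  · intro x y hx hy
    have h2 : ∀ z : H, orderOf z = 2 → (z : SL2).1 = -1 := fun z hz => by
      rw [← orderOf_coe] at hz
      refine CfsgLib.Classical.involution_eq_neg_one (two_ne hp2)
        (fun e => by rw [e, orderOf_one] at hz; omega) ?_
      rw [← pow_two]
      exact orderOf_dvd_iff_pow_eq_one.1 hz.dvd
    exact Subtype.ext (Subtype.ext ((h2 x hx).trans (h2 y hy).symm))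
  · rw [Nat.card_congr (subgroupOfEquivOfLe le_sup_left).toEquiv, h8]
  · refine ⟨⟨u, mem_sup_left u.2⟩, u.2, ⟨v, mem_sup_left v.2⟩, v.2, fun e => huv (Subtype.ext ?_)⟩
    have h := congrArg Subtype.val e
    exact h
  · rw [← orderOf_coe]; exact hordA
  · by_contra h
    push Not at h
    apply hσ1
    ext ⟨x, hx⟩ : 1
    refine Subtype.ext ?_
    show a * x * a⁻¹ = x
    exact mul_inv_eq_iff_eq_mul.2 (congrArg Subtype.val (h ⟨x, mem_sup_left hx⟩ hx))

end CfsgLib.UnipotentNormalizing
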