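import Cfsg.Agent.Lib.PGroup.FpfWeights
import Cfsg.Agent.Lib.PGroup.FpfSections
import Cfsg.Agent.Lib.PGroup.FixedPointFree
import Mathlib.GroupTheory.PGroup

/-!
The irreducible case for an elementary abelian operator group of order `p ^ 2` (Ward).
-/

set_option autoImplicit false
set_option linter.style.haveILetI false
set_option linter.unusedSectionVars false

namespace CfsgLib.PGroup

open Subgroup
open scoped IsMulCommutative

universe u

theorem val_pow_mem {A₀ : Type u} [Group A₀] {p : ℕ} (hp : p.Prime) (hexp : ∀ a : A₀, a ^ p = 1)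
    {a b : A₀} (ha : a ∈ zpowers b) (ha1 : a ≠ 1) : b ∈ zpowers a := by
  haveI : Fact p.Prime := ⟨hp⟩
  obtain ⟨m, hm⟩ := mem_zpowers_iff.1 ha
  have hb1 : b ≠ 1 := fun h => ha1 (by rw [← hm, h, one_zpow])
  have hb : orderOf b = p := orderOf_eq_prime (hexp b) hb1
  have ha' : orderOf a = p := orderOf_eq_prime (hexp a) ha1
  have hle : zpowers a ≤ zpowers b := zpowers_le.2 ha
  haveI : Finite (zpowers b) := Nat.finite_of_card_ne_zero (by rw [Nat.card_zpowers, hb]; exact hp.ne_zero)
  rw [eq_of_le_of_card_ge hle (by rw [Nat.card_zpowers, Nat.card_zpowers, ha', hb])]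
  exact mem_zpowers b

/-- Two elements not in a common cyclic subgroup generate a group of order `p ^ 2`. -/
theorem closure_pair_eq_top {A₀ : Type u} [Group A₀] [Finite A₀] {p : ℕ} (hp : p.Prime)
    (hA : Nat.card A₀ = p ^ 2) (hexp : ∀ a : A₀, a ^ p = 1) {d e : A₀} (hd : d ≠ 1)
    (he : e ∉ zpowers d) : Subgroup.closure ({d, e} : Set A₀) = ⊤ := by
  haveI : Fact p.Prime := ⟨hp⟩
  set S := Subgroup.closure ({d, e} : Set A₀)
  have h1 : Nat.card S ∣ p ^ 2 := hA ▸ S.card_subgroup_dvd_card
  obtain ⟨i, hi, hS⟩ := (Nat.dvd_prime_pow hp).1 h1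
  have hlt : p < Nat.card S := by
    have hsub : zpowers d < S := by
      refine lt_of_le_of_ne (zpowers_le.2 (subset_closure (Set.mem_insert _ _))) fun h => he ?_
      rw [h]
      exact subset_closure (Set.mem_insert_of_mem _ rfl)
    have hc : Nat.card (zpowers d) = p := by rw [Nat.card_zpowers, orderOf_eq_prime (hexp d) hd]
    rw [← hc]
    by_contra hle
    exact hsub.ne (eq_of_le_of_card_ge hsub.le (le_of_not_gt hle))
  refine Subgroup.eq_top_of_card_eq S ?_
  rw [hA, hS]
  rcases (show i = 0 ∨ i = 1 ∨ i = 2 by omega) with rfl | rfl | rfl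
  · rw [hS] at hlt; simp at hlt; have := hp.two_le; omega
  · rw [hS] at hlt; simp at hlt
  · rfl

theorem pow_fin_succ {A₀ : Type u} [Monoid A₀] {p : ℕ} [NeZero p] {d : A₀} (hd : d ^ p = 1) (i : Fin p) :
    d ^ ((i + 1 : Fin p) : ℕ) = d ^ (i : ℕ) * d := by
  rw [← pow_succ, Fin.val_add, Fin.val_one', Nat.add_mod_mod]
  conv_rhs => rw [← Nat.mod_add_div ((i : ℕ) + 1) p, pow_add, pow_mul, hd, one_pow, mul_one]

section Linear

variable {N : Type u} [Group N] [Finite N] {V : Type u} [CommGroup V] [Finite V]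
  (c : N →* MulAut V) {A₀ : Type u} [CommGroup A₀] [Finite A₀] {p r l : ℕ}

/-- The main argument on the dual module. -/
theorem ward_linear [Fact p.Prime] [Fact r.Prime] [Fact l.Prime] (hA : Nat.card A₀ = p ^ 2)
    (hexp : ∀ a : A₀, a ^ p = 1) (hV : ∀ v : V, v ^ l = 1) (ι : A₀ →* N) (hι : Function.Injective ι) (hrp : r ≠ p) (hrl : r ≠ l)
    (hpl : p ≠ l) (R T : Subgroup N) (hRp : IsPGroup r R) (hTp : ¬ p ∣ Nat.card T)
    (hAR : ι.range ≤ normalizer (R : Set N)) (hTR : T ≤ normalizer (R : Set N))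
    (hAT : ι.range ≤ normalizer (T : Set N)) (hfaith : ∀ x ∈ R, c x = 1 → x = 1)
    (hVA : ∀ v : V, (∀ a, c (ι a) v = v) → v = 1)
    (hRA : ∀ x ∈ R, (∀ a, Commute (ι a) x) → x = 1)
    (hTA : ∀ x ∈ T, (∀ a, Commute (ι a) x) → x = 1)
    (hRV : ∀ d : A₀, d ≠ 1 → ∀ x ∈ R, Commute (ι d) x → ∀ v, c (ι d) v = v → c x v = v)
    (c₀ : A₀) (hc₀ : c₀ ≠ 1) (hTc : ∀ y ∈ T, Commute (ι c₀) y)
    (hRT : ∀ x ∈ R, Commute (ι c₀) x → ∀ y ∈ T, Commute x y)
    (hZfix : ∀ v : V, (∀ z ∈ R, (∀ x ∈ R, Commute z x) → c z v = v) → v = 1) :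
    ∀ x ∈ R, ∀ y ∈ T, Commute x y := by
  classical
  have hp : p.Prime := Fact.out
  have hr : r.Prime := Fact.out
  have hl : l.Prime := Fact.out
  haveI : CharP (ZMod l) l := ZMod.charP l
  set k := AlgebraicClosure (ZMod l)
  haveI : CharP k l := charP_of_injective_algebraMap (algebraMap (ZMod l) k).injective l
  have hk : ∀ n : ℕ, ¬ l ∣ n → (n : k) ≠ 0 := fun n hn => by
    rw [Ne, CharP.cast_eq_zero_iff k l]; exact hn
  have hp0 : (p : k) ≠ 0 := hk p fun h => hpl ((Nat.prime_dvd_prime_iff_eq hl hp).1 h).symm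
  -- the centre of `R`
  set Z : Subgroup N :=
    { carrier := {z | z ∈ R ∧ ∀ x ∈ R, Commute z x}
      one_mem' := ⟨one_mem R, fun x _ => Commute.one_left x⟩
      mul_mem' := fun {a b} ha hb => ⟨mul_mem ha.1 hb.1, fun x hx => (ha.2 x hx).mul_left (hb.2 x hx)⟩
      inv_mem' := fun {a} ha => ⟨inv_mem ha.1, fun x hx => (ha.2 x hx).inv_left⟩ } with hZ
  have hZR : Z ≤ R := fun z hz => hz.1
  haveI : IsMulCommutative Z := ⟨⟨fun a b => Subtype.ext (a.2.2 b b.2.1)⟩⟩
  haveI := Fintype.ofFinite Z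
  have hnZ : ∀ n ∈ normalizer (R : Set N), n ∈ normalizer (Z : Set N) := by
    have key : ∀ n ∈ normalizer (R : Set N), ∀ z ∈ Z, n * z * n⁻¹ ∈ Z := fun n hn z hz =>
      ⟨(mem_normalizer_iff.1 hn z).1 hz.1, fun x hx => by
        have h1 := hz.2 _ ((mem_normalizer_iff''.1 hn x).1 hx)
        have h2 := h1.map (MulAut.conj n)
        simpa [mul_assoc] using h2⟩
    intro n hn
    rw [mem_normalizer_iff]
    refine fun z => ⟨key n hn z, fun h => ?_⟩
    have := key n⁻¹ (inv_mem hn) _ h
    simpa [mul_assoc] using this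
  have hnA : ∀ a : A₀, ι a ∈ normalizer (Z : Set N) := fun a => hnZ _ (hAR ⟨a, rfl⟩)
  have hnT : ∀ y ∈ T, y ∈ normalizer (Z : Set N) := fun y hy => hnZ _ (hTR hy)
  obtain ⟨b, hb⟩ := IsPGroup.iff_card.1 (hRp.to_le hZR)
  have hZk : (Fintype.card Z : k) ≠ 0 := by
    refine hk _ fun h => hrl ((Nat.prime_dvd_prime_iff_eq hl hr).1 (hl.dvd_of_dvd_pow (n := b) ?_)).symm
    rwa [← hb, Nat.card_eq_fintype_card]
  haveI hroots : HasEnoughRootsOfUnity k (Monoid.exponent Z) := by
    haveI : NeZero ((Monoid.exponent Z : ℕ) : ZMod l) := ⟨by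
      rw [Ne, CharP.cast_eq_zero_iff (ZMod l) l]
      intro h
      refine hrl ((Nat.prime_dvd_prime_iff_eq hl hr).1 (hl.dvd_of_dvd_pow (n := b) ?_)).symm
      rw [← hb]
      exact h.trans Group.exponent_dvd_nat_card⟩
    exact AlgebraicClosure.hasEnoughRootsOfUnity _ _
  -- a unit which is killed by a `p`-power and by `|Z|` is trivial
  have hcopZ : ∀ (u : kˣ) (n : ℕ), u ^ p ^ n = 1 → u ^ Nat.card Z = 1 → u = 1 := by
    intro u n h1 h2
    rw [← orderOf_eq_one_iff]
    exact Nat.eq_one_of_dvd_coprimes (((Nat.coprime_primes hp hr).2 hrp.symm).pow n b)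
      (orderOf_dvd_of_pow_eq_one h1) (hb ▸ orderOf_dvd_of_pow_eq_one h2)
  -- fixed by all operators means zero
  have hWA : ∀ f : Additive V →+ k, (∀ a, dAct c (ι a) f = f) → f = 0 := by
    intro f hf
    haveI := Fintype.ofFinite A₀
    refine addHom_ext fun v => ?_
    have hs := sum_dAct_apply c (fun a : A₀ => ι a) f v
    rw [Finset.sum_congr rfl fun a _ => hf a] at hs
    have hfix : ∏ a : A₀, c (ι a)⁻¹ v = 1 := by
      refine hVA _ fun a => ?_
      rw [map_prod]
      refine Fintype.prod_equiv (Equiv.mulLeft a⁻¹) _ _ fun x => ?_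
      rw [Equiv.coe_mulLeft, map_mul, mul_inv_rev, ← MulAut.mul_apply, ← map_mul, map_inv, inv_inv]
      congr 2
      rw [← map_inv, ← map_mul, ← map_mul, mul_comm]
    rw [hfix, ofMul_one, map_zero, Finset.sum_const, Finset.card_univ, ← Nat.card_eq_fintype_card, hA,
      AddMonoidHom.nsmul_apply, nsmul_eq_mul, mul_eq_zero] at hs
    refine hs.resolve_left ?_
    rw [Nat.cast_pow]
    exact pow_ne_zero _ hp0
  have hW1 : ∀ f : Additive V →+ k, (∀ z : Z, dAct c (z : N) f = f) → f = 0 := by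
    intro f hf
    refine addHom_ext fun v => ?_
    have hs := sum_dAct_apply c (fun z : Z => (z : N)) f v
    rw [Finset.sum_congr rfl fun a _ => hf a] at hs
    have hfix : ∏ z : Z, c (z : N)⁻¹ v = 1 := by
      refine hZfix _ fun z hz hzc => ?_
      rw [map_prod]
      refine Fintype.prod_equiv (Equiv.mulLeft (⟨z, hz, hzc⟩⁻¹ : Z)) _ _ fun x => ?_
      rw [Equiv.coe_mulLeft, Subgroup.coe_mul, mul_inv_rev, ← MulAut.mul_apply, ← map_mul,
        Subgroup.coe_inv, inv_inv]
      congr 2
      exact hzc _ (inv_mem x.2.1)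
    rw [hfix, ofMul_one, map_zero, Finset.sum_const, Finset.card_univ, AddMonoidHom.nsmul_apply,
      nsmul_eq_mul, mul_eq_zero] at hs
    exact hs.resolve_left hZk
  -- stabilisers
  let Fix : A₀ → (Z →* kˣ) → Prop := fun d μ => twist Z (hnA d) μ = μ
  have hFix_mul : ∀ {d e : A₀} {μ : Z →* kˣ}, Fix d μ → Fix e μ → Fix (d * e) μ := by
    intro d e μ hd he
    show twist Z (hnA (d * e)) μ = μ
    rw [twist_congr (map_mul ι d e) _ (mul_mem (hnA d) (hnA e)), ← twist_twist]
    exact (congrArg (twist Z (hnA d)) he).trans hd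
  have hFix_one : ∀ μ : Z →* kˣ, Fix 1 μ := fun μ =>
    twist_of_commute _ (fun z => by rw [map_one]; exact Commute.one_left _) μ
  have hFix_inv : ∀ {d : A₀} {μ : Z →* kˣ}, Fix d μ → Fix d⁻¹ μ := by
    intro d μ hd
    apply twist_injective (hnA d)
    rw [twist_twist, twist_congr (by rw [← map_mul, mul_inv_cancel]) _ (hnA 1)]
    exact (hFix_one μ).trans hd.symm
  have hFix_of_eq : ∀ {a a' : A₀} {μ : Z →* kˣ},
      twist Z (hnA a) μ = twist Z (hnA a') μ → Fix (a⁻¹ * a') μ := by
    intro a a' μ h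
    apply twist_injective (hnA a)
    rw [twist_twist,
      twist_congr (show ι a * ι (a⁻¹ * a') = ι a' by rw [← map_mul, mul_inv_cancel_left]) _ (hnA a')]
    exact h.symm
  let S : (Z →* kˣ) → Subgroup A₀ := fun μ =>
    { carrier := {d | Fix d μ}
      one_mem' := hFix_one μ
      mul_mem' := hFix_mul
      inv_mem' := hFix_inv }
  -- the products over the operators are fixed
  have hfixA : ∀ μ : Z →* kˣ, IsWeight c Z μ → ∀ d e : A₀, d ≠ 1 → e ∉ zpowers d → Fix d μ → ¬ Fix e μ := by
    intro μ hμ d e hd he hfd hfe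
    have hall : ∀ a, Fix a μ := fun a => by
      have : a ∈ S μ := by
        have hle : Subgroup.closure ({d, e} : Set A₀) ≤ S μ := by
          rw [Subgroup.closure_le]
          rintro x (rfl | rfl)
          · exact hfd
          · exact hfe
        exact hle (closure_pair_eq_top hp hA hexp hd he ▸ mem_top a)
      exact this
    haveI := Fintype.ofFinite A₀
    have hμ1 : μ = 1 := by
      refine MonoidHom.ext fun z => hcopZ _ 2 ?_ (by rw [← map_pow, pow_card_eq_one', map_one])
      set P : Z := ∏ a : A₀, ⟨(ι a)⁻¹ * z * ι a, (mem_normalizer_iff''.1 (hnA a) _).1 z.2⟩ with hP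
      have hP1 : P = 1 := by
        refine Subtype.ext (hRA _ (hZR P.2) fun a => ?_)
        let σ : Z →* Z :=
          { toFun := fun w => ⟨ι a * w * (ι a)⁻¹, (mem_normalizer_iff.1 (hnA a) _).1 w.2⟩
            map_one' := Subtype.ext (by simp)
            map_mul' := fun x y => Subtype.ext (by simp [mul_assoc]) }
        have e1 : σ P = P := by
          rw [hP, map_prod]
          refine Fintype.prod_equiv (Equiv.mulLeft a⁻¹) _ _ fun x => Subtype.ext ?_
          show ι a * ((ι x)⁻¹ * z * ι x) * (ι a)⁻¹ = (ι (a⁻¹ * x))⁻¹ * z * ι (a⁻¹ * x)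
          have hc2 : ι x * (ι a)⁻¹ = (ι a)⁻¹ * ι x := by rw [← map_inv, ← map_mul, ← map_mul, mul_comm]
          calc ι a * ((ι x)⁻¹ * z * ι x) * (ι a)⁻¹ = (ι x * (ι a)⁻¹)⁻¹ * z * (ι x * (ι a)⁻¹) := by group
            _ = ((ι a)⁻¹ * ι x)⁻¹ * z * ((ι a)⁻¹ * ι x) := by rw [hc2]
            _ = _ := by rw [map_mul, map_inv]
        exact mul_inv_eq_iff_eq_mul.1 (congrArg Subtype.val e1)
      have e2 : μ P = ∏ a : A₀, μ z := by
        rw [hP, map_prod]
        exact Finset.prod_congr rfl fun a _ =>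
          ((twist_apply (hnA a) μ z).symm.trans (DFunLike.congr_fun (hall a) z))
      rw [hP1, map_one, Finset.prod_const, Finset.card_univ, ← Nat.card_eq_fintype_card, hA] at e2
      exact e2.symm
    obtain ⟨f, hf, hfμ⟩ := hμ
    refine hf (hW1 f fun z => ?_)
    rw [hfμ z, hμ1, MonoidHom.one_apply, Units.val_one, one_smul]
  have hstab : ∀ μ : Z →* kˣ, IsWeight c Z μ → ∃ d : A₀, d ≠ 1 ∧ Fix d μ := by
    intro μ hμ
    by_contra hno
    push Not at hno
    obtain ⟨f, hf, hfμ⟩ := hμ
    haveI := Fintype.ofFinite A₀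
    have hinj : Function.Injective fun a : A₀ => twist Z (hnA a) μ := by
      intro a a' h
      by_contra hne
      exact hno (a⁻¹ * a') (fun h1 => hne (inv_mul_eq_one.1 h1)) (hFix_of_eq h)
    have hsum : ∑ a : A₀, dAct c (ι a) f = 0 := hWA _ fun a => by
      rw [map_sum]
      exact Fintype.sum_equiv (Equiv.mulLeft a) _ _ fun x => by rw [Equiv.coe_mulLeft, map_mul, dAct_mul]
    have := weightVec_sum_eq_zero hZk (fun a : A₀ => twist Z (hnA a) μ) hinj (fun a => dAct c (ι a) f)
      (fun a => hfμ.dAct (hnA a)) hsum 1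
    rw [map_one, dAct_one] at this
    exact hf this
  have hRcomm : ∀ x ∈ R, ∀ z : Z, Commute (z : N) x := fun x hx z => z.2.2 x hx
  -- `C_R(d)` is trivial on the weight spaces not fixed by `d`
  have hkill : ∀ (μ : Z →* kˣ) (d : A₀), d ≠ 1 → ¬ Fix d μ → ∀ x ∈ R, Commute (ι d) x →
      ∀ f : Additive V →+ k, IsWeightVec c Z μ f → dAct c x f = f := by
    intro μ d hd hnd x hx hdx f hf
    set w : Fin p → N := fun i => ι (d ^ (i : ℕ))
    have hwp : ι d ^ p = 1 := by rw [← map_pow, hexp, map_one]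
    set s : Additive V →+ k := ∑ i, dAct c (w i) f with hs
    have hds : dAct c (ι d) s = s := by
      rw [hs, map_sum]
      haveI : NeZero p := ⟨hp.ne_zero⟩
      refine Fintype.sum_equiv (Equiv.addRight (1 : Fin p)) _ _ fun i => ?_
      rw [← dAct_mul]
      congr 2
      show ι d * ι (d ^ (i : ℕ)) = ι (d ^ ((i + 1 : Fin p) : ℕ))
      rw [pow_fin_succ (hexp d) i, ← map_mul, mul_comm]
    have hxs : dAct c x s = s := by
      refine addHom_ext fun v => ?_
      -- average over `⟨d⟩`
      have key : ∀ g : Additive V →+ k, dAct c (ι d) g = g → ∀ v : V,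
          (p : k) * g (Additive.ofMul v) = g (Additive.ofMul (∏ i, c (w i)⁻¹ v)) := by
        intro g hg v
        rw [← sum_dAct_apply c w g v]
        have : ∀ n : ℕ, dAct c (ι (d ^ n)) g = g := by
          intro n
          induction n with
          | zero => rw [pow_zero, map_one, dAct_one]
          | succ n ih => rw [pow_succ, map_mul, dAct_mul, hg, ih]
        simp only [w, this, Finset.sum_const, Finset.card_univ, Fintype.card_fin,
          AddMonoidHom.nsmul_apply, nsmul_eq_mul]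
      have hfix : c (ι d) (∏ i, c (w i)⁻¹ v) = ∏ i, c (w i)⁻¹ v := by
        haveI : NeZero p := ⟨hp.ne_zero⟩
        rw [map_prod]
        refine Fintype.prod_equiv (Equiv.subRight (1 : Fin p)) _ _ fun i => ?_
        rw [← MulAut.mul_apply, ← map_mul]
        congr 2
        show ι d * (ι (d ^ (i : ℕ)))⁻¹ = (ι (d ^ ((i - 1 : Fin p) : ℕ)))⁻¹
        have e := pow_fin_succ (hexp d) (i - 1 : Fin p)
        rw [sub_add_cancel] at e
        rw [e, map_mul, mul_inv_rev, mul_inv_cancel_left]
      refine mul_left_cancel₀ hp0 ?_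
      rw [dAct_apply, key s hds, key s hds v]
      congr 2
      have hcx : ∀ i, c (w i)⁻¹ (c x⁻¹ v) = c x⁻¹ (c (w i)⁻¹ v) := fun i => by
        rw [← MulAut.mul_apply, ← map_mul, ← MulAut.mul_apply, ← map_mul]
        congr 2
        have : Commute (w i) x := by
          show Commute (ι (d ^ (i : ℕ))) x
          rw [map_pow]; exact hdx.pow_left _
        exact this.inv_inv.eq
      simp only [hcx, ← map_prod]
      exact hRV d hd x⁻¹ (inv_mem hx) hdx.inv_right _ hfix
    have hcomm : ∀ z : Z, ∀ g : Additive V →+ k, dAct c (z : N) (dAct c x g) = dAct c x (dAct c (z : N) g) :=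
      fun z g => by rw [← dAct_mul, ← dAct_mul, (hRcomm x hx z).eq]
    have hinj : Function.Injective fun i : Fin p => twist Z (hnA (d ^ (i : ℕ))) μ := by
      intro i j hij
      by_contra hne
      apply hnd
      have hmem : (d ^ (i : ℕ))⁻¹ * d ^ (j : ℕ) ∈ S μ := hFix_of_eq hij
      have hne1 : (d ^ (i : ℕ))⁻¹ * d ^ (j : ℕ) ≠ 1 := by
        intro h
        apply hne
        have h2 := pow_inj_mod.1 (inv_mul_eq_one.1 h)
        rw [orderOf_eq_prime (hexp d) hd, Nat.mod_eq_of_lt i.2, Nat.mod_eq_of_lt j.2] at h2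
        exact Fin.ext h2
      have hle : zpowers ((d ^ (i : ℕ))⁻¹ * d ^ (j : ℕ)) ≤ S μ := zpowers_le.2 hmem
      exact hle (val_pow_mem hp hexp
        (mul_mem (inv_mem (pow_mem (mem_zpowers d) _)) (pow_mem (mem_zpowers d) _)) hne1)
    have hsum : ∑ i, (dAct c x (dAct c (w i) f) - dAct c (w i) f) = 0 := by
      rw [Finset.sum_sub_distrib, ← map_sum, hxs, sub_self]
    have := weightVec_sum_eq_zero hZk (fun i : Fin p => twist Z (hnA (d ^ (i : ℕ))) μ) hinj
      (fun i => dAct c x (dAct c (w i) f) - dAct c (w i) f) (fun i z => by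
        rw [map_sub, hcomm, (hf.dAct (hnA _)) z, map_smul, ← smul_sub]) hsum ⟨0, hp.pos⟩
    simpa [w, dAct_one, sub_eq_zero] using this
  haveI hTfin := Fintype.ofFinite T
  -- `T` fixes every weight
  have hTfix : ∀ (μ : Z →* kˣ), IsWeight c Z μ → ∀ y (hy : y ∈ T), twist Z (hnT y hy) μ = μ := by
    intro μ hμ
    obtain ⟨d, hd, hdμ⟩ := hstab μ hμ
    have hct : ∀ y (hy : y ∈ T), Fix c₀ (twist Z (hnT y hy) μ) → Fix c₀ μ := by
      intro y hy h
      apply twist_injective (hnT y hy)
      refine Eq.trans ?_ h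
      rw [twist_twist, twist_twist]
      exact twist_congr (hTc y hy).eq.symm _ _ μ
    by_cases hdc : d ∈ zpowers c₀
    · -- stabilised by `c₀`
      have hcfix : Fix c₀ μ := (zpowers_le.2 (show d ∈ S μ from hdμ)) (val_pow_mem hp hexp hdc hd)
      intro y hy
      refine MonoidHom.ext fun z => ?_
      have hN : ∀ ν : Z →* kˣ, Fix c₀ ν → ∀ i : ℕ, Fix (c₀ ^ i) ν := fun ν hν i => (S ν).pow_mem hν i
      set P : Z := ∏ i : Fin p, ⟨(ι (c₀ ^ (i : ℕ)))⁻¹ * z * ι (c₀ ^ (i : ℕ)),
        (mem_normalizer_iff''.1 (hnA _) _).1 z.2⟩ with hP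
      have hPc : Commute (ι c₀) (P : N) := by
        let σ : Z →* Z :=
          { toFun := fun w => ⟨(ι c₀)⁻¹ * w * ι c₀, (mem_normalizer_iff''.1 (hnA c₀) _).1 w.2⟩
            map_one' := Subtype.ext (by simp)
            map_mul' := fun x y => Subtype.ext (by simp [mul_assoc]) }
        have e1 : σ P = P := by
          rw [hP, map_prod]
          haveI : NeZero p := ⟨hp.ne_zero⟩
          refine Fintype.prod_equiv (Equiv.addRight (1 : Fin p)) _ _ fun i => Subtype.ext ?_
          show (ι c₀)⁻¹ * ((ι (c₀ ^ (i : ℕ)))⁻¹ * z * ι (c₀ ^ (i : ℕ))) * ι c₀ =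
            (ι (c₀ ^ ((i + 1 : Fin p) : ℕ)))⁻¹ * z * ι (c₀ ^ ((i + 1 : Fin p) : ℕ))
          have : c₀ ^ ((i + 1 : Fin p) : ℕ) = c₀ ^ (i : ℕ) * c₀ := pow_fin_succ (hexp c₀) i
          rw [this, map_mul]
          group
        have e2 : (ι c₀)⁻¹ * P * ι c₀ = P := congrArg Subtype.val e1
        show ι c₀ * P = P * ι c₀
        calc ι c₀ * P = ι c₀ * ((ι c₀)⁻¹ * P * ι c₀) := by rw [e2]
          _ = P * ι c₀ := by group
      have hμP : ∀ ν : Z →* kˣ, Fix c₀ ν → ν P = ν z ^ p := by
        intro ν hν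
        rw [hP, map_prod]
        refine (Finset.prod_congr rfl (g := fun _ => ν z) fun (i : Fin p) _ => ?_).trans
          (by rw [Finset.prod_const, Finset.card_univ, Fintype.card_fin])
        exact DFunLike.congr_fun (hN ν hν (i : ℕ)) z
      have hcy : Fix c₀ (twist Z (hnT y hy) μ) := by
        show twist Z (hnA c₀) (twist Z (hnT y hy) μ) = _
        rw [twist_twist, twist_congr (hTc y hy).eq _ (mul_mem (hnT y hy) (hnA c₀)),
          ← twist_twist (hnT y hy) (hnA c₀)]
        exact congrArg _ hcfix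
      have h1 : twist Z (hnT y hy) μ P = μ P := by
        rw [twist_apply]
        refine congrArg μ (Subtype.ext ?_)
        show y⁻¹ * (P : N) * y = P
        rw [mul_assoc, (hRT _ (hZR P.2) hPc y hy).eq, inv_mul_cancel_left]
      rw [hμP _ hcy, hμP _ hcfix] at h1
      refine mul_inv_eq_one.1 (hcopZ _ 1 ?_ ?_)
      · rw [pow_one, mul_pow, inv_pow, h1, mul_inv_cancel]
      · rw [mul_pow, inv_pow, ← map_pow, ← map_pow, pow_card_eq_one', map_one, map_one, inv_one, mul_one]
    · -- the `T`-orbit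
      have hnfc : ¬ Fix c₀ μ := hfixA μ hμ d c₀ hd (fun h => hdc (val_pow_mem hp hexp h hc₀)) hdμ
      let O : Finset (Z →* kˣ) := (Finset.univ : Finset T).image fun y : T => twist Z (hnT y y.2) μ
      have hOW : ∀ ν ∈ O, IsWeight c Z ν := by
        intro ν hν
        obtain ⟨y, -, rfl⟩ := Finset.mem_image.1 hν
        exact hμ.twist _
      have hOnc : ∀ ν ∈ O, ¬ Fix c₀ ν := by
        intro ν hν h
        obtain ⟨y, -, rfl⟩ := Finset.mem_image.1 hν
        exact hnfc (hct y y.2 h)
      -- each subgroup of order `p` fixes at most one point of the orbit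
      have huniq : ∀ e : A₀, e ≠ 1 → e ∉ zpowers c₀ → ∀ ν : Z →* kˣ, IsWeight c Z ν → Fix e ν →
          ∀ y (hy : y ∈ T), Fix e (twist Z (hnT y hy) ν) → twist Z (hnT y hy) ν = ν := by
        intro e he hec ν hν hν' y hy hy'
        let cs : Set T := {u | twist Z (hnT u u.2) ν = twist Z (hnT y hy) ν}
        have hconjT : ∀ a : A₀, ∀ u ∈ T, ι a * u * (ι a)⁻¹ ∈ T := fun a u hu =>
          (mem_normalizer_iff.1 (hAT ⟨a, rfl⟩) u).1 hu
        letI : MulAction (zpowers e) T :=
          { smul := fun a u => ⟨ι a * u * (ι a)⁻¹, hconjT a u u.2⟩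
            one_smul := fun u => Subtype.ext (by show ι ((1 : zpowers e) : A₀) * u * (ι ((1 : zpowers e) : A₀))⁻¹ = (u : N); simp)
            mul_smul := fun a a' u => Subtype.ext (by
              show ι ((a * a' : zpowers e) : A₀) * u * (ι ((a * a' : zpowers e) : A₀))⁻¹ =
                ι a * (ι a' * u * (ι a')⁻¹) * (ι a)⁻¹
              rw [Subgroup.coe_mul, map_mul]; group) }
        have hinv : ∀ (a : zpowers e) (u : T), u ∈ cs → a • u ∈ cs := by
          intro a u hu
          have ha : Fix (a : A₀) ν := (zpowers_le.2 (show e ∈ S ν from hν')) a.2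
          have ha' : Fix (a : A₀) (twist Z (hnT y hy) ν) :=
            (zpowers_le.2 (show e ∈ S (twist Z (hnT y hy) ν) from hy')) a.2
          show twist Z (hnT _ (a • u).2) ν = twist Z (hnT y hy) ν
          rw [twist_congr (show ((a • u : T) : N) = ι a * u * (ι a)⁻¹ from rfl) _
            (mul_mem (mul_mem (hnA a) (hnT u u.2)) (inv_mem (hnA a))),
            ← twist_twist (mul_mem (hnA a) (hnT u u.2)) (inv_mem (hnA a)), ← twist_twist (hnA a) (hnT u u.2)]
          have hainv : twist Z (inv_mem (hnA a)) ν = ν := by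
            apply twist_injective (hnA (a : A₀))
            rw [twist_twist, twist_congr (mul_inv_cancel _) _ (one_mem _), twist_one]
            exact ha.symm
          rw [hainv, show twist Z (hnT u u.2) ν = twist Z (hnT y hy) ν from hu]
          exact ha'
        letI csA : MulAction (zpowers e) cs :=
          { smul := fun a u => ⟨a • (u : T), hinv a u u.2⟩
            one_smul := fun u => Subtype.ext (one_smul _ (u : T))
            mul_smul := fun a a' u => Subtype.ext (mul_smul a a' (u : T)) }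
        -- the fibre is a coset of the stabiliser
        let H : Subgroup T :=
          { carrier := {h | twist Z (hnT h h.2) ν = ν}
            one_mem' := twist_of_commute _ (fun z => by rw [OneMemClass.coe_one]; exact Commute.one_left _) ν
            mul_mem' := fun {a b} (ha : twist Z (hnT a a.2) ν = ν) (hb : twist Z (hnT b b.2) ν = ν) => by
              show twist Z _ ν = ν
              rw [twist_congr (Subgroup.coe_mul _ a b) _ (mul_mem (hnT a a.2) (hnT b b.2)),
                ← twist_twist (hnT a a.2) (hnT b b.2), hb, ha]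
            inv_mem' := fun {a} (ha : twist Z (hnT a a.2) ν = ν) => by
              show twist Z _ ν = ν
              apply twist_injective (hnT a a.2)
              rw [twist_twist, twist_congr (show (a : N) * (a⁻¹ : T) = 1 by simp) _ (one_mem _), twist_one, ha] }
        have hcard : Nat.card cs = Nat.card H := Nat.card_congr
          { toFun := fun u => ⟨(⟨y, hy⟩ : T)⁻¹ * (u : T), by
              show twist Z _ ν = ν
              apply twist_injective (hnT y hy)
              rw [twist_twist, twist_congr (show y * (((⟨y, hy⟩ : T)⁻¹ * (u : T) : T) : N) = (u : T) by simp) _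
                (hnT _ (u : T).2)]
              exact u.2⟩
            invFun := fun h => ⟨(⟨y, hy⟩ : T) * (h : T), by
              show twist Z _ ν = _
              rw [twist_congr (show (((⟨y, hy⟩ : T) * (h : T) : T) : N) = y * (h : T) by simp) _
                (mul_mem (hnT y hy) (hnT _ (h : T).2)), ← twist_twist (hnT y hy) (hnT _ (h : T).2), show twist Z (hnT _ (h : T).2) ν = ν from h.2]⟩
            left_inv := fun u => Subtype.ext (mul_inv_cancel_left _ _)
            right_inv := fun h => Subtype.ext (inv_mul_cancel_left _ _) }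
        have hpz : IsPGroup p (zpowers e) :=
          IsPGroup.of_card (n := 1) (by rw [Nat.card_zpowers, orderOf_eq_prime (hexp e) he, pow_one])
        obtain ⟨u, hu⟩ := hpz.nonempty_fixed_point_of_prime_not_dvd_card cs
          (by rw [hcard]; exact fun h => hTp (h.trans H.card_subgroup_dvd_card))
        have hcomm : Commute (ι e) ((u : T) : N) := by
          have h := congrArg (fun w : cs => ((w : T) : N)) (hu ⟨e, mem_zpowers e⟩)
          exact mul_inv_eq_iff_eq_mul.1 h
        have hu1 : ((u : T) : N) = 1 := by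
          refine hTA _ (u : T).2 fun a => ?_
          let Sc : Subgroup A₀ := (centralizer ({((u : T) : N)} : Set N)).comap ι
          have hle : Subgroup.closure ({c₀, e} : Set A₀) ≤ Sc := by
            rw [Subgroup.closure_le]
            rintro x (rfl | rfl)
            · exact mem_centralizer_singleton_iff.2 (hTc _ (u : T).2).eq
            · exact mem_centralizer_singleton_iff.2 hcomm.eq
          exact mem_centralizer_singleton_iff.1 (hle (closure_pair_eq_top hp hA hexp hc₀ hec ▸ mem_top a))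
        have := (show twist Z (hnT _ (u : T).2) ν = twist Z (hnT y hy) ν from u.2)
        rw [twist_congr hu1 _ (one_mem _), twist_one] at this
        exact this.symm
      have hne0 : O.Nonempty := ⟨_, Finset.mem_image_of_mem _ (Finset.mem_univ 1)⟩
      -- an orbit point is fixed by some `d * c₀ ^ j`
      have hidx : ∀ ν ∈ O, ∃ j : Fin p, Fix (d * c₀ ^ (j : ℕ)) ν := by
        intro ν hν
        obtain ⟨e, he, heν⟩ := hstab ν (hOW ν hν)
        have hec : e ∉ zpowers c₀ := fun h =>
          hOnc ν hν ((zpowers_le.2 (show e ∈ S ν from heν)) (val_pow_mem hp hexp h he))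
        -- `zpowers e` meets the coset `d ⟨c₀⟩`
        have hmem : d ∈ Subgroup.closure ({e, c₀} : Set A₀) :=
          (closure_pair_eq_top hp hA hexp he (fun h => hec (val_pow_mem hp hexp h hc₀))) ▸ mem_top d
        obtain ⟨i, j, hij⟩ := Subgroup.mem_closure_pair.1 hmem
        obtain ⟨j', hj'⟩ : ∃ j' : Fin p, c₀ ^ (j' : ℕ) = c₀ ^ (-j) := by
          refine ⟨⟨((-j) % (p : ℤ)).toNat, by
            have := Int.emod_lt_of_pos (-j) (show (0 : ℤ) < p by exact_mod_cast hp.pos)
            have := hp.pos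
            omega⟩, ?_⟩
          rw [← zpow_natCast]
          show c₀ ^ ((((-j) % (p : ℤ)).toNat : ℕ) : ℤ) = _
          rw [Int.toNat_of_nonneg (Int.emod_nonneg _ (by exact_mod_cast hp.ne_zero)),
            ← zpow_mod_orderOf c₀ (-j), orderOf_eq_prime (hexp c₀) hc₀]
        refine ⟨j', ?_⟩
        have : d * c₀ ^ (j' : ℕ) = e ^ i := by rw [hj', ← hij, zpow_neg, mul_inv_cancel_right]
        exact show d * c₀ ^ (j' : ℕ) ∈ S ν from this ▸ zpow_mem (show e ∈ S ν from heν) i
      choose J hJ using hidx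
      have hJinj : ∀ ν ν' (h : ν ∈ O) (h' : ν' ∈ O), J ν h = J ν' h' → ν = ν' := by
        intro ν ν' h h' hj
        obtain ⟨y, -, rfl⟩ := Finset.mem_image.1 h
        obtain ⟨y', -, rfl⟩ := Finset.mem_image.1 h'
        have hf := hJ _ h
        have hf' := hJ _ h'
        rw [← hj] at hf'
        set e := d * c₀ ^ ((J _ h : Fin p) : ℕ)
        have hec : e ∉ zpowers c₀ := fun hh => hdc (by
          have := mul_mem hh (inv_mem (pow_mem (mem_zpowers c₀) ((J _ h : Fin p) : ℕ)))
          simpa [e] using this)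
        have he1 : e ≠ 1 := fun hh => hec (hh ▸ one_mem _)
        have hy : (y' : N) * (y : N)⁻¹ ∈ T := mul_mem y'.2 (inv_mem y.2)
        have e1 : twist Z (hnT _ hy) (twist Z (hnT y y.2) μ) = twist Z (hnT y' y'.2) μ := by
          rw [twist_twist]
          exact twist_congr (inv_mul_cancel_right _ _) _ _ μ
        have := huniq e he1 hec _ (hOW _ h) hf _ hy (by rw [e1]; exact hf')
        rw [e1] at this
        exact this.symm
      have hOle : O.card ≤ p := by
        refine le_trans (Finset.card_le_card_of_injOn (fun ν => if h : ν ∈ O then J ν h else ⟨0, hp.pos⟩)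
          (t := Finset.univ) (fun _ _ => Finset.mem_univ _) ?_) (by simp)
        intro ν hν ν' hν' h
        simp only [Finset.mem_coe] at hν hν'
        simp only [hν, hν', dite_true] at h
        exact hJinj ν ν' hν hν' h
      -- `d` has one fixed point on the orbit
      have hμO : μ ∈ O := Finset.mem_image.2 ⟨1, Finset.mem_univ _,
        twist_of_commute _ (fun z => by rw [OneMemClass.coe_one]; exact Commute.one_left _) μ⟩
      letI : MulAction (zpowers d) O :=
        { smul := fun a ν => ⟨twist Z (hnA a) ν, by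
            obtain ⟨y, -, hy⟩ := Finset.mem_image.1 ν.2
            refine Finset.mem_image.2 ⟨⟨ι a * y * (ι a)⁻¹, (mem_normalizer_iff.1 (hAT ⟨a, rfl⟩) _).1 y.2⟩,
              Finset.mem_univ _, ?_⟩
            rw [← hy, twist_twist]
            show twist Z _ μ = _
            have ha : Fix ((a : A₀)⁻¹) μ := (zpowers_le.2 (show d ∈ S μ from hdμ)) (inv_mem a.2)
            rw [twist_congr (show ι (a : A₀) * (y : N) * (ι (a : A₀))⁻¹ = ι (a : A₀) * y * ι ((a : A₀)⁻¹) by rw [map_inv]) _
              (mul_mem (mul_mem (hnA a) (hnT y y.2)) (hnA _)),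
              ← twist_twist (mul_mem (hnA a) (hnT y y.2)) (hnA _)]
            exact congrArg _ ha⟩
          one_smul := fun ν => Subtype.ext (hFix_one _)
          mul_smul := fun a a' ν => Subtype.ext (by
            show twist Z (hnA ((a * a' : zpowers d) : A₀)) (ν : Z →* kˣ) = twist Z (hnA a) (twist Z (hnA a') ν)
            rw [twist_twist]
            exact twist_congr (by rw [Subgroup.coe_mul, map_mul]) _ _ _) }
      have hpd : IsPGroup p (zpowers d) :=
        IsPGroup.of_card (n := 1) (by rw [Nat.card_zpowers, orderOf_eq_prime (hexp d) hd, pow_one])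
      have hmod := hpd.card_modEq_card_fixedPoints (α := O)
      have hfp : Nat.card (MulAction.fixedPoints (zpowers d) O) = 1 := by
        rw [Nat.card_eq_one_iff_unique]
        refine ⟨⟨fun a a' => ?_⟩, ⟨⟨⟨μ, hμO⟩, fun a => Subtype.ext
          ((zpowers_le.2 (show d ∈ S μ from hdμ)) a.2)⟩⟩⟩
        have key : ∀ a : MulAction.fixedPoints (zpowers d) O, ((a : O) : Z →* kˣ) = μ := by
          intro a
          have hfix : Fix d ((a : O) : Z →* kˣ) := congrArg Subtype.val (a.2 ⟨d, mem_zpowers d⟩)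
          obtain ⟨y, -, hy⟩ := Finset.mem_image.1 (a : O).2
          rw [← hy] at hfix ⊢
          exact huniq d hd hdc μ hμ hdμ y y.2 hfix
        exact Subtype.ext (Subtype.ext ((key a).trans (key a').symm))
      rw [hfp, Nat.card_eq_fintype_card, Fintype.card_coe] at hmod
      have hO1 : O.card = 1 := by
        have := hne0.card_pos
        rcases hOle.lt_or_eq with h | h
        · rwa [Nat.ModEq, Nat.mod_eq_of_lt h, Nat.mod_eq_of_lt hp.one_lt] at hmod
        · rw [h, Nat.ModEq, Nat.mod_self, Nat.mod_eq_of_lt hp.one_lt] at hmod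
          omega
      intro y hy
      exact Finset.card_le_one.1 hO1.le _ (Finset.mem_image_of_mem _ (Finset.mem_univ (⟨y, hy⟩ : T))) _ hμO
  -- `[R, T]` is trivial on every weight space
  have hRT' : ∀ μ : Z →* kˣ, IsWeight c Z μ → ∀ x ∈ R, ∀ y ∈ T, ∀ f : Additive V →+ k,
      IsWeightVec c Z μ f → dAct c (x * y * x⁻¹ * y⁻¹) f = f := by
    intro μ hμ
    obtain ⟨d, hd, hdμ⟩ := hstab μ hμ
    -- the kernel on the weight space
    let K : Subgroup N :=
      { carrier := {x | x ∈ R ∧ ∀ f, IsWeightVec c Z μ f → dAct c x f = f}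
        one_mem' := ⟨one_mem R, fun f _ => dAct_one c f⟩
        mul_mem' := fun {a b} ha hb => ⟨mul_mem ha.1 hb.1, fun f hf => by rw [dAct_mul, hb.2 f hf, ha.2 f hf]⟩
        inv_mem' := fun {a} ha => ⟨inv_mem ha.1, fun f hf => by
          apply dAct_injective c a
          rw [← dAct_mul, mul_inv_cancel, dAct_one, ha.2 f hf]⟩ }
    have hKn : ∀ n ∈ normalizer (R : Set N), ∀ (hn : n ∈ normalizer (Z : Set N)),
        twist Z hn μ = μ → n ∈ normalizer (K : Set N) := by
      have key : ∀ n ∈ normalizer (R : Set N), ∀ (hn : n ∈ normalizer (Z : Set N)),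
          twist Z hn μ = μ → ∀ x ∈ K, n * x * n⁻¹ ∈ K := by
        intro n hnR hn htw x hx
        refine ⟨(mem_normalizer_iff.1 hnR x).1 hx.1, fun f hf => ?_⟩
        have htw' : twist Z (inv_mem hn) μ = μ := by
          apply twist_injective hn
          rw [twist_twist, twist_congr (mul_inv_cancel n) _ (one_mem _), twist_one, htw]
        have hf' : IsWeightVec c Z μ (dAct c n⁻¹ f) := htw' ▸ hf.dAct (inv_mem hn)
        rw [dAct_mul, dAct_mul, hx.2 _ hf', ← dAct_mul, mul_inv_cancel, dAct_one]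
      intro n hnR hn htw
      have htw' : twist Z (inv_mem hn) μ = μ := by
        apply twist_injective hn
        rw [twist_twist, twist_congr (mul_inv_cancel n) _ (one_mem _), twist_one, htw]
      rw [mem_normalizer_iff]
      refine fun x => ⟨key n hnR hn htw x, fun hx => ?_⟩
      have := key n⁻¹ (inv_mem hnR) (inv_mem hn) htw' _ hx
      simpa [mul_assoc] using this
    have hRK : R ≤ normalizer (K : Set N) := fun x hx => hKn x (le_normalizer hx) (hnZ x (le_normalizer hx))
      (twist_of_commute _ (fun z => (hRcomm x hx z).symm) μ)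
    -- `R = K C_R(d)`
    let Cd : Subgroup N := R ⊓ centralizer ({ι d} : Set N)
    have hdn : ι d ∈ normalizer (K : Set N) := hKn _ (hAR ⟨d, rfl⟩) (hnA d) hdμ
    have hTn : ∀ y ∈ T, y ∈ normalizer (K : Set N) := fun y hy =>
      hKn y (hTR hy) (hnT y hy) (hTfix μ hμ y hy)
    haveI : IsMulCommutative ι.range := ⟨⟨fun a b => by
      obtain ⟨_, a, rfl⟩ := a
      obtain ⟨_, b, rfl⟩ := b
      exact Subtype.ext (by show ι a * ι b = ι b * ι a; rw [← map_mul, ← map_mul, mul_comm])⟩⟩
    have hrc : Nat.card ι.range = p ^ 2 := by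
      rw [← hA]; exact Nat.card_congr (MonoidHom.ofInjective hι).toEquiv.symm
    have hncyc : ¬ IsCyclic ι.range := by
      intro hc
      obtain ⟨g, hg⟩ := hc.exists_generator
      have h1 : orderOf g ∣ p := by
        refine orderOf_dvd_of_pow_eq_one (Subtype.ext ?_)
        obtain ⟨a, ha⟩ := g.2
        rw [SubmonoidClass.coe_pow, ← ha, ← map_pow, hexp, map_one]
        rfl
      rw [orderOf_eq_card_of_forall_mem_zpowers hg, hrc] at h1
      have h2 := Nat.le_of_dvd hp.pos h1
      nlinarith [hp.two_le]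
    have hRW : R ≤ K ⊔ Cd := by
      obtain ⟨i, hi⟩ := IsPGroup.iff_card.1 hRp
      refine Coprime.le_of_centralizers_le hncyc hAR ?_ ?_
      · rw [hrc, hi]
        exact ((Nat.coprime_primes hp hr).2 hrp.symm).pow 2 i
      · rintro _ ⟨e, rfl⟩ he x hx
        have he1 : e ≠ 1 := fun h => he (by rw [h, map_one])
        obtain ⟨hxR, hxe⟩ := mem_inf.1 hx
        have hxe' : Commute (ι e) x := (mem_centralizer_singleton_iff.1 hxe).symm
        by_cases hed : e ∈ zpowers d
        · obtain ⟨m, hm⟩ := mem_zpowers_iff.1 (val_pow_mem hp hexp hed he1)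
          refine mem_sup_right (mem_inf.2 ⟨hxR, mem_centralizer_singleton_iff.2 ?_⟩)
          rw [← hm, map_zpow]
          exact (hxe'.zpow_left m).eq.symm
        · exact mem_sup_left ⟨hxR, fun f hf =>
            hkill μ e he1 (hfixA μ hμ d e hd hed hdμ) x hxR hxe' f hf⟩
    have hdec : ∀ x ∈ R, ∃ k ∈ K, ∃ x0 ∈ Cd, k * x0 = x := fun x hx =>
      Coprime.mem_sup_exists (inf_le_left.trans hRK) (hRW hx)
    have hconj : ∀ n ∈ normalizer (K : Set N), ∀ k ∈ K, n * k * n⁻¹ ∈ K := fun n hn k hk =>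
      (mem_normalizer_iff.1 hn k).1 hk
    have h0 : ∀ x0 ∈ Cd, ∀ y ∈ T, x0 * y * x0⁻¹ * y⁻¹ ∈ K := by
      intro x0 hx0 y hy
      obtain ⟨hx0R, hx0d⟩ := mem_inf.1 hx0
      have hx0d' : Commute (ι d) x0 := (mem_centralizer_singleton_iff.1 hx0d).symm
      by_cases hdc : d ∈ zpowers c₀
      · obtain ⟨m, hm⟩ := mem_zpowers_iff.1 (val_pow_mem hp hexp hdc hd)
        have := hRT x0 hx0R (by rw [← hm, map_zpow]; exact hx0d'.zpow_left m) y hy
        rw [this.eq, mul_inv_cancel_right, mul_inv_cancel]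
        exact one_mem K
      · let φ : T → T := fun z => ⟨(z : N)⁻¹ * (ι d * z * (ι d)⁻¹),
          mul_mem (inv_mem z.2) ((mem_normalizer_iff.1 (hAT ⟨d, rfl⟩) _).1 z.2)⟩
        have hφ : Function.Injective φ := by
          intro a b hab
          have e : (a : N)⁻¹ * (ι d * a * (ι d)⁻¹) = (b : N)⁻¹ * (ι d * b * (ι d)⁻¹) :=
            congrArg Subtype.val hab
          have e2 : ι d * ((b : N) * (a : N)⁻¹) = ((b : N) * (a : N)⁻¹) * ι d := by
            calc ι d * ((b : N) * (a : N)⁻¹) =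
                  (b : N) * ((b : N)⁻¹ * (ι d * b * (ι d)⁻¹)) * ((a : N)⁻¹ * (ι d * a * (ι d)⁻¹))⁻¹ *
                    (a : N)⁻¹ * ι d := by group
              _ = _ := by rw [← e]; group
          have h1 : (b : N) * (a : N)⁻¹ = 1 := by
            refine hTA _ (mul_mem b.2 (inv_mem a.2)) fun x => ?_
            let Sc : Subgroup A₀ := (centralizer ({(b : N) * (a : N)⁻¹} : Set N)).comap ι
            have hle : Subgroup.closure ({d, c₀} : Set A₀) ≤ Sc := by
              rw [Subgroup.closure_le]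
              rintro z (rfl | rfl)
              · exact mem_centralizer_singleton_iff.2 e2
              · exact mem_centralizer_singleton_iff.2 (hTc _ (mul_mem b.2 (inv_mem a.2))).eq
            exact mem_centralizer_singleton_iff.1
              (hle (closure_pair_eq_top hp hA hexp hd
                (fun hh => hdc (val_pow_mem hp hexp hh hc₀)) ▸ mem_top x))
          exact Subtype.ext (mul_inv_eq_one.1 h1).symm
        obtain ⟨z, hz⟩ := (Finite.injective_iff_surjective.1 hφ) ⟨y, hy⟩
        have hz' : (z : N)⁻¹ * (ι d * z * (ι d)⁻¹) = y := congrArg Subtype.val hz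
        obtain ⟨k1, hk1, x1, hx1, e1⟩ :=
          hdec _ ((mem_normalizer_iff.1 (hTR z.2) x0).1 hx0R)
        have hx1d : ι d * x1 * (ι d)⁻¹ = x1 := by
          rw [(mem_centralizer_singleton_iff.1 (mem_inf.1 hx1).2).symm, mul_inv_cancel_right]
        have hx0c : ι d * x0 * (ι d)⁻¹ = x0 := by rw [hx0d'.eq, mul_inv_cancel_right]
        have e2 : (z : N) * (y * x0 * y⁻¹) * (z : N)⁻¹ = ι d * k1 * (ι d)⁻¹ * x1 := by
          calc (z : N) * (y * x0 * y⁻¹) * (z : N)⁻¹
              = ι d * z * (ι d)⁻¹ * x0 * (ι d * z * (ι d)⁻¹)⁻¹ := by rw [← hz']; group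
            _ = ι d * z * (ι d)⁻¹ * (ι d * x0 * (ι d)⁻¹) * (ι d * z * (ι d)⁻¹)⁻¹ := by rw [hx0c]
            _ = ι d * (z * x0 * (z : N)⁻¹) * (ι d)⁻¹ := by group
            _ = ι d * k1 * (ι d)⁻¹ * (ι d * x1 * (ι d)⁻¹) := by rw [← e1]; group
            _ = _ := by rw [hx1d]
        have e3 : (z : N)⁻¹ * (ι d * k1 * (ι d)⁻¹ * k1⁻¹) * (z : N) = y * x0 * y⁻¹ * x0⁻¹ := by
          calc (z : N)⁻¹ * (ι d * k1 * (ι d)⁻¹ * k1⁻¹) * (z : N)
              = (z : N)⁻¹ * ((ι d * k1 * (ι d)⁻¹ * x1) * (k1 * x1)⁻¹) * (z : N) := by group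
            _ = (z : N)⁻¹ * ((z : N) * (y * x0 * y⁻¹) * (z : N)⁻¹ * ((z : N) * x0 * (z : N)⁻¹)⁻¹) *
                  (z : N) := by rw [← e2, e1]
            _ = _ := by group
        have hmem : y * x0 * y⁻¹ * x0⁻¹ ∈ K := by
          rw [← e3]
          exact (mem_normalizer_iff''.1 (hTn _ z.2) _).1 (mul_mem (hconj _ hdn _ hk1) (inv_mem hk1))
        rw [show x0 * y * x0⁻¹ * y⁻¹ = (y * x0 * y⁻¹ * x0⁻¹)⁻¹ by group]
        exact inv_mem hmem
    intro x hx y hy f hf
    obtain ⟨k, hk, x0, hx0, rfl⟩ := hdec x hx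
    have : k * x0 * y * (k * x0)⁻¹ * y⁻¹ = k * (x0 * y * x0⁻¹ * y⁻¹) * (y * k⁻¹ * y⁻¹) := by group
    rw [this]
    exact (mul_mem (mul_mem hk (h0 x0 hx0 y hy)) (hconj _ (hTn y hy) _ (inv_mem hk))).2 f hf
  intro x hx y hy
  have hgR : x * y * x⁻¹ * y⁻¹ ∈ R := commutator_mem_of_mem_normalizer hTR hx hy
  have hg : ∀ f : Additive V →+ k, dAct c (x * y * x⁻¹ * y⁻¹) f = f := by
    intro f
    refine sub_eq_zero.1 (eq_zero_of_forall_wProj (c := c) (Z := Z) hZk fun μ => ?_)
    have hc : ∀ g : Additive V →+ k, wProj c μ (dAct c (x * y * x⁻¹ * y⁻¹) g) =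
        dAct c (x * y * x⁻¹ * y⁻¹) (wProj c μ g) := by
      intro g
      rw [wProj_apply, wProj_apply, map_sum]
      refine Finset.sum_congr rfl fun z _ => ?_
      rw [map_smul, ← dAct_mul, ← dAct_mul, (hRcomm _ hgR z).eq]
    rw [map_sub, hc, sub_eq_zero]
    by_cases hw : wProj c μ f = 0
    · rw [hw, map_zero]
    · exact hRT' μ ⟨_, hw, isWeightVec_wProj μ f⟩ x hx y hy _ (isWeightVec_wProj μ f)
  have h1 : c (x * y * x⁻¹ * y⁻¹)⁻¹ = 1 := by
    refine MulEquiv.ext fun v => ?_
    by_contra hne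
    obtain ⟨f, hf⟩ := exists_addHom_ne_zero hV k (v := c (x * y * x⁻¹ * y⁻¹)⁻¹ v / v)
      (fun hh => hne (div_eq_one.1 hh))
    apply hf
    rw [ofMul_div, map_sub, ← dAct_apply, hg, sub_self]
  have h2 := hfaith _ (inv_mem hgR) h1
  exact mul_inv_eq_iff_eq_mul.1 (mul_inv_eq_one.1 (inv_eq_one.1 h2))

end Linear

theorem mem_normalizer_subgroupOf {Γ : Type u} [Group Γ] {H K : Subgroup Γ} {n : H}
    (hn : (n : Γ) ∈ normalizer (K : Set Γ)) :
    n ∈ normalizer ((K.subgroupOf H : Subgroup H) : Set H) := by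
  rw [mem_normalizer_iff]
  intro x
  simpa [mem_subgroupOf] using mem_normalizer_iff.1 hn (x : Γ)

/-- The base case for elementary abelian operator groups of order `p ^ 2`. -/
theorem ward_base {A₀ : Type u} [CommGroup A₀] [Finite A₀] {p : ℕ} [hpF : Fact p.Prime]
    (hA : Nat.card A₀ = p ^ 2) (hexp : ∀ a : A₀, a ^ p = 1) : FpfBase.{u} A₀ := by
  classical
  intro Γ _ _ C r t l _ _ _ R T V hrt hrl h hcomm hexp' hfaith hirr _
  have hp : p.Prime := hpF.out
  suffices key : ∀ x ∈ R, ∀ y ∈ T, Commute x y by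
    intro x hx y hy v _
    rw [(key x hx y hy).eq, mul_inv_cancel_right, mul_inv_cancel]
    exact Commute.one_left v
  by_cases hR : R = ⊥
  · intro x hx y _
    rw [hR, mem_bot] at hx
    rw [hx]
    exact Commute.one_left y
  by_cases hT : T = ⊥
  · intro x _ y hy
    rw [hT, mem_bot] at hy
    rw [hy]
    exact Commute.one_right x
  by_cases hV0 : V = ⊥
  · intro x hx y _
    rw [hfaith x hx fun v hv => by rw [hV0, mem_bot] at hv; rw [hv]; exact Commute.one_right x]
    exact Commute.one_left y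
  have hcop : (p ^ 2).Coprime (Nat.card C.G) := hA ▸ C.cop
  have hrp : r ≠ p := ne_of_isPGroup_coprime h.pR h.R_le hR hcop two_ne_zero dvd_rfl
  have htp : t ≠ p := ne_of_isPGroup_coprime h.pT h.T_le hT hcop two_ne_zero dvd_rfl
  have hlp : l ≠ p := ne_of_isPGroup_coprime h.pV h.V_le hV0 hcop two_ne_zero dvd_rfl
  -- centralizers in `G` are nilpotent
  have hnilC : ∀ d : A₀, d ≠ 1 →
      Group.IsNilpotent ↥(C.G ⊓ centralizer ({C.ι d} : Set Γ)) := by
    intro d hd
    obtain ⟨e, he⟩ : ∃ e, e ∉ zpowers d := by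
      by_contra hc
      push Not at hc
      have h1 := Nat.card_congr (Subgroup.topEquiv (G := A₀)).toEquiv
      rw [← (eq_top_iff' (zpowers d)).2 hc, Nat.card_zpowers, orderOf_eq_prime (hexp d) hd, hA] at h1
      nlinarith [hp.two_le]
    set H := C.G ⊓ centralizer ({C.ι d} : Set Γ) with hH
    have hcm : ∀ a : A₀, C.ι a * C.ι d = C.ι d * C.ι a := fun a => by
      rw [← map_mul, ← map_mul, mul_comm]
    have hnorm : ∀ a : A₀, C.ι a ∈ normalizer (H : Set Γ) := fun a =>
      Coprime.inf_le_normalizer (A := C.ι.range) C.norm (fun z hz => by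
        obtain ⟨b, rfl⟩ := hz
        exact Coprime.normalizer_le_normalizer_centralizer (zpowers (C.ι d)) |>.trans
          (le_of_eq (by rw [zpowers_eq_closure, centralizer_closure]))
          (centralizer_le_normalizer _ (mem_centralizer_iff.2 fun w hw => by
            obtain ⟨m, rfl⟩ := mem_zpowers_iff.1 hw
            exact ((Commute.symm (hcm b)).zpow_left m).eq))) ⟨a, rfl⟩
    let φ : H ≃* H :=
      { toFun := fun g => ⟨C.ι e * g * (C.ι e)⁻¹, (mem_normalizer_iff.1 (hnorm e) _).1 g.2⟩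
        invFun := fun g => ⟨(C.ι e)⁻¹ * g * C.ι e, (mem_normalizer_iff''.1 (hnorm e) _).1 g.2⟩
        left_inv := fun g => Subtype.ext (by simp [mul_assoc])
        right_inv := fun g => Subtype.ext (by simp [mul_assoc])
        map_mul' := fun a b => Subtype.ext (by simp [mul_assoc]) }
    refine isNilpotent_of_fixedPointFree hp H φ ?_ ?_
    · intro g hg
      have hce : Commute (C.ι e) (g : Γ) := mul_inv_eq_iff_eq_mul.1 (congrArg Subtype.val hg)
      have hcd : Commute (C.ι d) (g : Γ) := (mem_centralizer_singleton_iff.1 (mem_inf.1 g.2).2).symm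
      refine Subtype.ext (C.fpf _ (mem_inf.1 g.2).1 fun a => ?_)
      let Sc : Subgroup A₀ := (centralizer ({(g : Γ)} : Set Γ)).comap C.ι
      have hle : Subgroup.closure ({d, e} : Set A₀) ≤ Sc := by
        rw [Subgroup.closure_le]
        rintro x (rfl | rfl)
        · exact mem_centralizer_singleton_iff.2 hcd.eq
        · exact mem_centralizer_singleton_iff.2 hce.eq
      exact mem_centralizer_singleton_iff.1 (hle (closure_pair_eq_top hp hA hexp hd he ▸ mem_top a))
    · intro g
      have hit : ∀ n, ((φ^[n] g : H) : Γ) = C.ι (e ^ n) * g * (C.ι (e ^ n))⁻¹ := by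
        intro n
        induction n with
        | zero => simp
        | succ n ih =>
          rw [Function.iterate_succ_apply']
          show C.ι e * (φ^[n] g : H) * (C.ι e)⁻¹ = _
          rw [ih, pow_succ', map_mul]
          group
      refine Subtype.ext ((hit p).trans ?_)
      rw [hexp, map_one, inv_one, one_mul, mul_one]
  -- elements of coprime prime power order in such a centralizer commute
  have hnilcomm : ∀ (d : A₀), d ≠ 1 → ∀ {a b : ℕ} [Fact a.Prime] [Fact b.Prime], a ≠ b →
      ∀ {X Y : Subgroup Γ}, IsPGroup a X → IsPGroup b Y → X ≤ C.G → Y ≤ C.G → ∀ {x y : Γ}, x ∈ X →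
      y ∈ Y → Commute (C.ι d) x → Commute (C.ι d) y → Commute x y := by
    intro d hd a b _ _ hab X Y hX hY hXG hYG x y hx hy hdx hdy
    haveI := hnilC d hd
    have hcl : ∀ {X : Subgroup Γ} {q : ℕ}, IsPGroup q X → ∀ {x : Γ} (hx : x ∈ X)
        (hxH : x ∈ C.G ⊓ centralizer ({C.ι d} : Set Γ)),
        IsPGroup q (zpowers (⟨x, hxH⟩ : ↥(C.G ⊓ centralizer ({C.ι d} : Set Γ)))) := by
      intro X q hX x hx hxH z
      obtain ⟨m, hm⟩ := mem_zpowers_iff.1 z.2
      obtain ⟨k, hk⟩ := hX ⟨x ^ m, zpow_mem hx m⟩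
      refine ⟨k, Subtype.ext (Subtype.ext ?_)⟩
      have := congrArg Subtype.val hk
      simp only [SubmonoidClass.coe_pow, OneMemClass.coe_one] at this ⊢
      rw [← hm, SubgroupClass.coe_zpow]
      exact this
    exact congrArg Subtype.val (commute_of_nilpotent_of_ne hab
      (hcl hX hx ⟨hXG hx, mem_centralizer_singleton_iff.2 hdx.eq.symm⟩)
      (hcl hY hy ⟨hYG hy, mem_centralizer_singleton_iff.2 hdy.eq.symm⟩)).eq
  haveI : IsMulCommutative C.ι.range := ⟨⟨fun a b => by
    obtain ⟨_, a, rfl⟩ := a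
    obtain ⟨_, b, rfl⟩ := b
    exact Subtype.ext (by show C.ι a * C.ι b = C.ι b * C.ι a; rw [← map_mul, ← map_mul, mul_comm])⟩⟩
  have hrc : Nat.card C.ι.range = p ^ 2 := by
    rw [← hA]; exact Nat.card_congr (MonoidHom.ofInjective C.inj).toEquiv.symm
  have hncyc : ¬ IsCyclic C.ι.range := by
    intro hc
    obtain ⟨g, hg⟩ := hc.exists_generator
    have h1 : orderOf g ∣ p := by
      refine orderOf_dvd_of_pow_eq_one (Subtype.ext ?_)
      obtain ⟨a, ha⟩ := g.2
      rw [SubmonoidClass.coe_pow, ← ha, ← map_pow, hexp, map_one]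
      rfl
    rw [orderOf_eq_card_of_forall_mem_zpowers hg, hrc] at h1
    have h2 := Nat.le_of_dvd hp.pos h1
    nlinarith [hp.two_le]
  have hTW : T ≤ centralizer (R : Set Γ) := by
    refine Coprime.le_of_centralizers_le hncyc h.aT
      (hrc ▸ hcop.coprime_dvd_right (card_dvd_of_le h.T_le)) ?_
    rintro _ ⟨c₀, rfl⟩ hc y hy
    have hc₀ : c₀ ≠ 1 := fun e => hc (by rw [e, map_one])
    haveI := hcomm
    set N : Subgroup Γ := normalizer (V : Set Γ)
    let ι' : A₀ →* N := C.ι.codRestrict N fun a => h.aV ⟨a, rfl⟩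
    set T' : Subgroup Γ := T ⊓ centralizer ({C.ι c₀} : Set Γ)
    have hmN : ∀ {n : N} {K : Subgroup Γ}, (n : Γ) ∈ normalizer (K : Set Γ) →
        n ∈ normalizer ((K.subgroupOf N : Subgroup N) : Set N) := fun hn => mem_normalizer_subgroupOf hn
    have hcommN : ∀ (a : A₀) (x : N), Commute (ι' a) x ↔ Commute (C.ι a) (x : Γ) := fun a x =>
      ⟨fun hh => congrArg Subtype.val hh.eq, fun hh => Subtype.ext hh.eq⟩
    have hfix : ∀ (a : A₀) (v : V), V.normalizerMonoidHom (ι' a) v = v → Commute (C.ι a) (v : Γ) :=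
      fun a v hv => mul_inv_eq_iff_eq_mul.1 (congrArg Subtype.val hv)
    have hlin := ward_linear (N := N) (V := V) V.normalizerMonoidHom (p := p) (r := r) (l := l) hA hexp
      (fun v => Subtype.ext (hexp' v v.2)) ι'
      (fun a b hab => C.inj (congrArg Subtype.val hab)) hrp hrl hlp.symm
      (R.subgroupOf N) (T'.subgroupOf N) h.pR.comap_subtype ?_ ?_ ?_ ?_ ?_ ?_ ?_ ?_ ?_ c₀ hc₀ ?_ ?_ ?_
    · refine mem_centralizer_iff.2 fun x hx => ?_
      exact congrArg Subtype.val (hlin ⟨x, h.rV hx⟩ hx ⟨y, h.tV (mem_inf.1 hy).1⟩ hy).eq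
    · intro hd
      have h1 : Nat.card (T'.subgroupOf N) = Nat.card T' :=
        Nat.card_congr (subgroupOfEquivOfLe (inf_le_left.trans h.tV)).toEquiv
      rw [h1] at hd
      exact hp.ne_one (Nat.eq_one_of_dvd_coprimes hcop (dvd_pow_self p two_ne_zero)
        ((hd.trans (card_dvd_of_le inf_le_left)).trans (card_dvd_of_le h.T_le)))
    · rintro _ ⟨a, rfl⟩
      exact hmN (h.aR ⟨a, rfl⟩)
    · intro z hz
      exact hmN (h.tR (mem_inf.1 hz).1)
    · rintro _ ⟨a, rfl⟩
      refine hmN (Coprime.inf_le_normalizer (A := C.ι.range) h.aT ?_ ⟨a, rfl⟩)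
      rintro _ ⟨b, rfl⟩
      rw [mem_normalizer_iff]
      intro z
      have hcb : C.ι c₀ * C.ι b = C.ι b * C.ι c₀ := by rw [← map_mul, ← map_mul, mul_comm]
      rw [mem_centralizer_singleton_iff, mem_centralizer_singleton_iff]
      have hcb' : Commute (C.ι b) (C.ι c₀) := hcb.symm
      exact ⟨fun hz => (((hcb'.mul_left hz).mul_left hcb'.inv_left)).eq, fun hz => by
        have := ((hcb'.inv_left.mul_left hz).mul_left hcb').eq
        simpa [mul_assoc] using this⟩
    · intro x hx hc1
      refine Subtype.ext (hfaith _ hx fun v hv => ?_)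
      exact mul_inv_eq_iff_eq_mul.1
        (congrArg Subtype.val (DFunLike.congr_fun hc1 (⟨v, hv⟩ : V)))
    · intro v hv
      exact Subtype.ext (C.fpf _ (h.V_le v.2) fun a => hfix a v (hv a))
    · intro x hx hxa
      exact Subtype.ext (C.fpf _ (h.R_le hx) fun a => (hcommN a x).1 (hxa a))
    · intro x hx hxa
      exact Subtype.ext (C.fpf _ (h.T_le (mem_inf.1 hx).1) fun a => (hcommN a x).1 (hxa a))
    · intro d hd x hx hdx v hv
      have := hnilcomm d hd hrl h.pR h.pV h.R_le h.V_le hx v.2 ((hcommN d x).1 hdx) (hfix d v hv)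
      exact Subtype.ext (mul_inv_eq_iff_eq_mul.2 this.eq)
    · intro z hz
      exact (hcommN c₀ z).2 (mem_centralizer_singleton_iff.1 (mem_inf.1 hz).2).symm
    · intro x hx hcx z hz
      exact Subtype.ext (hnilcomm c₀ hc₀ hrt h.pR h.pT h.R_le h.T_le hx (mem_inf.1 hz).1
        ((hcommN c₀ x).1 hcx) (mem_centralizer_singleton_iff.1 (mem_inf.1 hz).2).symm).eq
    · intro v hv
      set ZR : Subgroup Γ := R ⊓ centralizer (R : Set Γ)
      set W : Subgroup Γ := V ⊓ centralizer (ZR : Set Γ)
      have hnW : ∀ S : Subgroup Γ, S ≤ normalizer (R : Set Γ) → S ≤ normalizer (V : Set Γ) →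
          S ≤ normalizer (W : Set Γ) := fun S h1 h2 =>
        Coprime.inf_le_normalizer h2 ((Coprime.inf_le_normalizer h1
          (h1.trans (Coprime.normalizer_le_normalizer_centralizer R))).trans
          (Coprime.normalizer_le_normalizer_centralizer ZR))
      rcases hirr W inf_le_left (hnW _ h.aR h.aV) (hnW _ le_normalizer h.rV) (hnW _ h.tR h.tV) with hW | hW
      · refine Subtype.ext (mem_bot.1 (hW ▸ mem_inf.2 ⟨v.2, mem_centralizer_iff.2 fun z hz => ?_⟩))
        obtain ⟨hzR, hzC⟩ := mem_inf.1 hz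
        have := hv ⟨z, h.rV hzR⟩ hzR fun w hw => Subtype.ext (mem_centralizer_iff.1 hzC w hw).symm
        exact mul_inv_eq_iff_eq_mul.1 (congrArg Subtype.val this)
      · exfalso
        apply hR
        haveI : Subsingleton (Subgroup.center R) := ⟨fun a b => by
          have hall : ∀ z : Subgroup.center R, ((z : R) : Γ) = 1 := fun z => by
            refine hfaith _ (z : R).2 fun w hw => ?_
            refine mem_centralizer_iff.1 (mem_inf.1 (hW ▸ hw : w ∈ W)).2 _ (mem_inf.2 ⟨(z : R).2, ?_⟩)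
            exact mem_centralizer_iff.2 fun u hu =>
              congrArg Subtype.val (Subgroup.mem_center_iff.1 z.2 ⟨u, hu⟩)
          exact Subtype.ext (Subtype.ext ((hall a).trans (hall b).symm))⟩
        by_contra hne
        haveI := R.nontrivial_iff_ne_bot.2 hne
        haveI := h.pR.center_nontrivial
        exact not_nontrivial (Subgroup.center R) inferInstance
  intro x hx y hy
  exact mem_centralizer_iff.1 (hTW hy) x hx

end CfsgLib.PGroup
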