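import Cfsg.Agent.Lib.PGroup.ZJFailureSection
import Cfsg.Agent.Lib.Fusion.ZJFamilies
import Cfsg.Agent.Lib.Qd.Unstable
import Cfsg.Agent.Lib.PGroup.Subnormalizer
import Cfsg.Prelude.Def_EvenType

/-!
# `Z(J(S))`: elementary facts, and failure of control at a subgroup not containing `Z(J(S))`
-/

set_option autoImplicit false
set_option linter.style.haveILetI false

open Matrix
open scoped commutatorElement

namespace CfsgLib.PGroup.ZJFailure

open CfsgLib.Fusion (conjBy mem_conjBy conjBy_le_iff conjBy_eq_iff conjBy_eq_of_le isPGroup_conjBy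
  card_conjBy conj_mem_conjBy conjBy_mono exists_conj_le_of_not_dvd_relIndex)
open CfsgLib.Qd (up up_coe)

universe u

variable {G : Type u} [Group G] [Finite G] {p : ℕ} [Fact p.Prime]

/-- `Z(J(S))`. -/
abbrev zj (S : Sylow p G) : Subgroup G := Cfsg.centerThompsonAOf (S : Subgroup G)

/-- The normalizer of `Z(J(S))`. -/
abbrev hzj (S : Sylow p G) : Subgroup G := Subgroup.normalizer ((zj S : Subgroup G) : Set G)

/-- The conclusion: `F(p)` is involved in `N(Z(J(S)))`, and some subgroup of order `p` of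
`Z(J(S))` has all its automorphisms induced there. -/
def Concl (S : Sylow p G) : Prop :=
  Cfsg.Involves ↥(Cfsg.fOver (ZMod p)) ↥(hzj S) ∧
    ∃ C : Subgroup G, C ≤ zj S ∧ Nat.card C = p ∧
      (hzj S ⊓ Subgroup.centralizer (C : Set G)).relIndex
        (hzj S ⊓ Subgroup.normalizer (C : Set G)) = p - 1

/-- In the proper subgroups over `J(S)` two conjugates of `Z(J(S))` in a common `p`-subgroup
coincide. -/
def Local (S : Sylow p G) : Prop :=
  ∀ G₁ : Subgroup G, G₁ ≠ ⊤ → Cfsg.thompsonSubgroupAOf (S : Subgroup G) ≤ G₁ → ∀ g ∈ G₁,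
    ∀ P : Subgroup G, P ≤ G₁ → IsPGroup p P → zj S ≤ P → conjBy g (zj S) ≤ P → g ∈ hzj S

/-- The map given by `g` on `A` is given by an element of the normalizer of `Z(J(S))`. -/
def Realised (S : Sylow p G) (A : Subgroup G) (g : G) : Prop :=
  ∃ h ∈ hzj S, ∀ a ∈ A, g * a * g⁻¹ = h * a * h⁻¹

section basic

variable (S : Sylow p G)

theorem thompson_le : Cfsg.thompsonSubgroupAOf (S : Subgroup G) ≤ (S : Subgroup G) := by
  rw [CfsgLib.Fusion.thompsonSubgroupAOf_eq]
  exact sSup_le fun A hA => hA.1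

theorem zj_le_thompson : zj S ≤ Cfsg.thompsonSubgroupAOf (S : Subgroup G) := fun _ hx => hx.1

theorem zj_le : zj S ≤ (S : Subgroup G) := (zj_le_thompson S).trans (thompson_le S)

theorem isPGroup_zj : IsPGroup p (zj S) := S.2.to_le (zj_le S)

theorem zj_commute {z w : G} (hz : z ∈ zj S)
    (hw : w ∈ Cfsg.thompsonSubgroupAOf (S : Subgroup G)) : w * z = z * w :=
  Subgroup.mem_centralizer_iff.1 hz.2 w hw

theorem isMulCommutative_zj : IsMulCommutative (zj S) :=
  ⟨⟨fun a b => Subtype.ext (zj_commute S b.2 a.2.1)⟩⟩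

theorem conjBy_zj (g : G) (D : Subgroup G) :
    conjBy g (Cfsg.centerThompsonAOf D) = Cfsg.centerThompsonAOf (conjBy g D) :=
  CfsgLib.Fusion.map_centerThompsonAOf (MulAut.conj g) D

theorem mem_nz_of_mem_normalizer {g : G}
    (hg : g ∈ Subgroup.normalizer ((S : Subgroup G) : Set G)) : g ∈ hzj S := by
  refine conjBy_eq_iff.1 ?_
  rw [conjBy_zj, conjBy_eq_iff.2 hg]

theorem sylow_le_nz : (S : Subgroup G) ≤ hzj S :=
  fun _ hg => mem_nz_of_mem_normalizer S (Subgroup.le_normalizer hg)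

theorem Realised.mono {A B : Subgroup G} {g : G} (h : Realised S B g) (hAB : A ≤ B) :
    Realised S A g :=
  let ⟨x, hx, hxa⟩ := h
  ⟨x, hx, fun a ha => hxa a (hAB ha)⟩

end basic

/-- `[a, u]` for `a` in `Z(J(S))` and `u` in `S` lies in `Z(J(S))`. -/
theorem commutator_mem_zj (S : Sylow p G) {a u : G} (ha : a ∈ zj S) (hu : u ∈ (S : Subgroup G)) :
    ⁅a, u⁆ ∈ zj S := by
  rw [commutatorElement_def, mul_assoc, mul_assoc]
  refine mul_mem ha ?_
  rw [← mul_assoc]
  exact (Subgroup.mem_normalizer_iff.1 (sylow_le_nz S hu) _).1 (inv_mem ha)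

theorem normalizer_section {U₀ U : Subgroup G} {θ : G → Fin 2 → ZMod p} (hc : Coord p U₀ U θ)
    {n : G} {A : Matrix.SpecialLinearGroup (Fin 2) (ZMod p)} (hA : Acts U θ n A) :
    n ∈ Subgroup.normalizer (U₀ : Set G) := by
  refine conjBy_eq_iff.1 (conjBy_eq_of_le (conjBy_le_iff.2 fun x hx => ?_))
  rw [← hc.ker _ ((Subgroup.mem_normalizer_iff.1 hA.1 x).1 (hc.le hx)), hA.2 x (hc.le hx),
    (hc.ker x (hc.le hx)).2 hx, Matrix.mulVec_zero]

/-- Acting on a `p`-section through a matrix, transferred to an element agreeing on it. -/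
theorem Acts.congr {U A : Subgroup G} {θ : G → Fin 2 → ZMod p} {n m : G}
    {M : Matrix.SpecialLinearGroup (Fin 2) (ZMod p)} (h : Acts U θ n M) (hUA : U ≤ A)
    (he : ∀ v ∈ A, m * v * m⁻¹ = n * v * n⁻¹) : Acts U θ m M := by
  refine ⟨conjBy_eq_iff.1 (conjBy_eq_of_le (conjBy_le_iff.2 fun x hx => ?_)), fun x hx => ?_⟩
  · rw [he x (hUA hx)]
    exact (Subgroup.mem_normalizer_iff.1 h.1 x).1 hx
  · rw [he x (hUA hx), h.2 x hx]

/-- An unrealised conjugation at a subgroup that does not contain `Z(J(S))`. -/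
theorem concl_of_not_le (hp : p ≠ 2) (S : Sylow p G) {A : Subgroup G} (hAS : A ≤ (S : Subgroup G))
    (hT : ¬ p ∣ ((S : Subgroup G) ⊓ Subgroup.normalizer (A : Set G)).relIndex
      (Subgroup.normalizer (A : Set G)))
    {n : G} (hn : n ∈ Subgroup.normalizer (A : Set G)) (hnot : ¬ Realised S A n)
    (hmax : ∀ R ≤ (S : Subgroup G), Nat.card A < Nat.card R → ∀ g : G,
      conjBy g R ≤ (S : Subgroup G) → Realised S R g)
    (hZA : ¬ zj S ≤ A) : Concl S := by
  classical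
  set Z := zj S with hZdef
  set M := Subgroup.normalizer (A : Set G) with hM
  set T := (S : Subgroup G) ⊓ M with hTdef
  have hAp : IsPGroup p A := S.2.to_le hAS
  have hAM : A ≤ M := Subgroup.le_normalizer
  have hAT : A ≤ T := le_inf hAS hAM
  have hbig : ∀ R : Subgroup G, A ≤ R → ¬ R ≤ A → Nat.card A < Nat.card R := fun R h1 h2 =>
    CfsgLib.Fusion.card_lt_card_of_lt (lt_of_le_not_ge h1 h2)
  -- an element of `Z` normalizing `A` outside it
  obtain ⟨a, haZ, haM, haA⟩ : ∃ a ∈ Z, a ∈ M ∧ a ∉ A := by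
    by_contra hno
    push Not at hno
    have hAN : A ≤ Subgroup.normalizer (Z : Set G) := hAS.trans (sylow_le_nz S)
    have hlt : A < A ⊔ Z := lt_of_le_not_ge le_sup_left fun h => hZA (le_sup_right.trans h)
    have h1 := CfsgLib.Subnormalizer.lt_inf_normalizer
      (S.2.to_le (sup_le hAS (zj_le S))) hlt
    obtain ⟨x, hx, hxA⟩ := SetLike.exists_of_lt h1
    have hx1 : x ∈ ((A ⊔ Z : Subgroup G) : Set G) := hx.1
    rw [Subgroup.coe_mul_of_left_le_normalizer_right A Z hAN] at hx1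
    obtain ⟨u, hu, z, hz, rfl⟩ := hx1
    refine hxA (mul_mem hu (hno z hz ?_))
    have h2 := mul_mem (inv_mem (hAM hu)) hx.2
    rwa [inv_mul_cancel_left] at h2
  have haS : a ∈ (S : Subgroup G) := zj_le S haZ
  -- a conjugate generating more than a `p`-group of operators on `A`
  set C := (Subgroup.centralizer (A : Set G)).subgroupOf M with hC
  haveI : C.Normal := by
    rw [hC, ← Subgroup.normalizerMonoidHom_ker]; infer_instance
  set f := QuotientGroup.mk' C with hf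
  set a' : M := ⟨a, haM⟩ with ha'
  have hnmem : f a' ∉ Cfsg.pCore p (M ⧸ C) := by
    intro hmem
    haveI : (Cfsg.pCore p (M ⧸ C)).Normal :=
      Subgroup.normal_of_characteristic (h := CfsgLib.Coprime.pCore_characteristic p) _
    let Tm : Sylow p M := (((S.2.to_le inf_le_left : IsPGroup p T)).of_equiv
      (Subgroup.subgroupOfEquivOfLe inf_le_right).symm).toSylow hT
    set K₀ := (Cfsg.pCore p (M ⧸ C)).comap f with hK₀
    haveI : K₀.Normal := Subgroup.Normal.comap inferInstance f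
    set P₀ := (Tm : Subgroup M) ⊓ K₀ with hP₀
    have hPK : ∀ k ∈ K₀, ∃ r ∈ P₀, f r = f k := by
      intro k hk
      have h1 : Cfsg.pCore p (M ⧸ C) ≤
          ((Tm.mapSurjective (f := f) (QuotientGroup.mk'_surjective C) : Sylow p (M ⧸ C)) :
            Subgroup (M ⧸ C)) :=
        (CfsgLib.Coprime.pCore_isPGroup p).le_sylow_of_normal _
      obtain ⟨r, hr, hrk⟩ := (Sylow.coe_mapSurjective (QuotientGroup.mk'_surjective C) Tm).le (h1 hk)
      exact ⟨r, ⟨hr, show f r ∈ Cfsg.pCore p (M ⧸ C) from hrk ▸ hk⟩, hrk⟩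
    let P₁ : Sylow p K₀ := ((Tm.2.to_le inf_le_left : IsPGroup p P₀).of_equiv
      (Subgroup.subgroupOfEquivOfLe inf_le_right).symm).toSylow
        (CfsgLib.Fusion.not_dvd_relIndex_inf_of_normal Tm K₀)
    have hP₁ : ((P₁ : Subgroup K₀)).map K₀.subtype = P₀ :=
      Subgroup.map_subgroupOf_eq_of_le inf_le_right
    have hfr : Subgroup.normalizer (P₀ : Set M) ⊔ K₀ = ⊤ := by
      rw [← hP₁]; exact Sylow.normalizer_sup_eq_top P₁
    have hn' : (⟨n, hn⟩ : M) ∈ ((Subgroup.normalizer (P₀ : Set M) ⊔ K₀ : Subgroup M) : Set M) := by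
      rw [hfr]; exact Subgroup.mem_top _
    rw [Subgroup.mul_normal] at hn'
    obtain ⟨x, hx, k, hk, hxk⟩ := hn'
    obtain ⟨r, hr, hrk⟩ := hPK k hk
    set P := P₀.map M.subtype with hP
    have hcent : ∀ v ∈ A, ((r : G)⁻¹ * (k : G)) * v = v * ((r : G)⁻¹ * (k : G)) := fun v hv =>
      (Subgroup.mem_centralizer_iff.1 (show (r : G)⁻¹ * (k : G) ∈ _ from
        Subgroup.mem_subgroupOf.1 ((QuotientGroup.eq).1 hrk : r⁻¹ * k ∈ C)) v hv).symm
    have hxr : (x : G) * r ∈ Subgroup.normalizer (P : Set G) := by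
      have h1 : x * r ∈ Subgroup.normalizer (P₀ : Set M) :=
        mul_mem hx (Subgroup.le_normalizer hr)
      exact Subgroup.le_normalizer_map M.subtype ⟨x * r, h1, rfl⟩
    have hPS : P ≤ (S : Subgroup G) := by
      rintro _ ⟨z, hz, rfl⟩; exact (hz.1 : (z : G) ∈ T).1
    have hAP : A ≤ P := by
      intro v hv
      refine ⟨⟨v, hAM hv⟩, ⟨hAT hv, ?_⟩, rfl⟩
      have hn' : (A.subgroupOf M).Normal := Subgroup.normal_in_normalizer
      haveI : ((A.subgroupOf M).map f).Normal := hn'.map f (QuotientGroup.mk'_surjective C)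
      exact CfsgLib.Coprime.le_pCore
        ((hAp.of_equiv (Subgroup.subgroupOfEquivOfLe hAM).symm).map f) ⟨⟨v, hAM hv⟩, hv, rfl⟩
    have hPA : ¬ P ≤ A := fun h => haA (h ⟨a', ⟨⟨haS, haM⟩, hmem⟩, rfl⟩)
    obtain ⟨h, hh, hha⟩ := hmax P hPS (hbig P hAP hPA) ((x : G) * r)
      (by rw [conjBy_eq_iff.2 hxr]; exact hPS)
    refine hnot ⟨h, hh, fun v hv => ?_⟩
    rw [← hha v (hAP hv)]
    have hnk : n = (x : G) * r * ((r : G)⁻¹ * k) := by
      rw [show n = ((⟨n, hn⟩ : M) : G) from rfl, ← hxk, Subgroup.coe_mul]; group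
    rw [hnk, show (x : G) * r * ((r : G)⁻¹ * k) * v * ((x : G) * r * ((r : G)⁻¹ * k))⁻¹ =
      (x : G) * r * (((r : G)⁻¹ * k) * v * ((r : G)⁻¹ * k)⁻¹) * ((x : G) * r)⁻¹ by group,
      hcent v hv, mul_inv_cancel_right]
  obtain ⟨m, y₀, hy₀, hy₀e⟩ := CfsgLib.Qd.exists_pair_of_not_mem f
    (QuotientGroup.mk'_surjective C) hnmem
  set b : G := (m : G) * a * (m : G)⁻¹ with hb
  have hbM : b ∈ M := mul_mem (mul_mem m.2 haM) (inv_mem m.2)
  -- the Frattini section
  set Φ := (frattini A).map A.subtype with hΦdef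
  have hΦA : Φ ≤ A := Subgroup.map_subtype_le _
  have hMΦ : M ≤ Subgroup.normalizer (Φ : Set G) :=
    CfsgLib.PGroup.normalizer_le_normalizer_frattini A
  have hquad : ∀ z ∈ M, ∀ u ∈ A, (∀ w ∈ A, Commute z ⁅z, w⁆) → ⁅z, ⁅z, u⁆⁆ ∈ Φ := by
    intro z _ u hu hz
    rw [commutatorElement_eq_one_iff_commute.2 (hz u hu)]
    exact one_mem _
  have haq : ∀ u ∈ A, Commute a ⁅a, u⁆ := fun u hu =>
    (zj_commute S (commutator_mem_zj S haZ (hAS hu)) haZ.1 : a * ⁅a, u⁆ = ⁅a, u⁆ * a)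
  have hbq : ∀ u ∈ A, Commute b ⁅b, u⁆ := by
    intro u hu
    have hu' : (m : G)⁻¹ * u * m ∈ A := (Subgroup.mem_normalizer_iff''.1 m.2 u).1 hu
    have h1 := (haq _ hu').map (MulAut.conj (m : G)).toMonoidHom
    rw [map_commutatorElement] at h1
    simp only [MulEquiv.coe_toMonoidHom, MulAut.conj_apply] at h1
    rwa [show (m : G) * ((m : G)⁻¹ * u * m) * (m : G)⁻¹ = u by group] at h1
  have hyG : (y₀ : G) ∈ Subgroup.closure {a, b} := by
    have h1 := Subgroup.mem_map_of_mem M.subtype hy₀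
    rw [MonoidHom.map_closure, Set.image_pair] at h1
    exact h1
  obtain ⟨g, hg, U, θ, ψ, hc, hUA, hψ, hact, c, hc0, hac⟩ := exists_pair_section hp hΦA hAM hMΦ
    le_rfl
    (fun x hx y hy => ⟨⁅(⟨x, hx⟩ : A), ⟨y, hy⟩⁆, CfsgLib.Coprime.commutator_le_frattini hAp
      (Subgroup.commutator_mem_commutator (Subgroup.mem_top _) (Subgroup.mem_top _)), rfl⟩)
    (fun x hx => ⟨(⟨x, hx⟩ : A) ^ p, CfsgLib.Coprime.pow_mem_frattini hAp _, rfl⟩)
    haM hbM (fun u hu => hquad a haM u hu haq) (fun u hu => hquad b hbM u hu hbq)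
    ⟨(y₀ : G), hyG, by
      intro e
      by_contra hno
      push Not at hno
      obtain ⟨k, l, hl, hkl⟩ := Nat.exists_eq_pow_mul_and_not_dvd
        (orderOf_pos (y₀ : G)).ne' p (Fact.out : p.Prime).ne_one
      set y₁ := (y₀ : G) ^ p ^ (k + e) with hy₁
      have hcop : (orderOf y₁).Coprime p := by
        refine Nat.Coprime.coprime_dvd_left (orderOf_dvd_of_pow_eq_one (n := l) ?_)
          ((Fact.out : p.Prime).coprime_iff_not_dvd.2 hl).symm
        rw [hy₁, ← pow_mul, pow_add, mul_right_comm, ← hkl, pow_mul, pow_orderOf_eq_one, one_pow]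
      obtain ⟨j, hj⟩ := IsPGroup.iff_card.1 (hAp.to_subgroup (frattini A))
      have hfix : (y₀ : G) ^ p ^ e ∈ Subgroup.normalizer (A : Set G) := pow_mem y₀.2 _
      let W : Subgroup G :=
        { carrier := {w | w ∈ M ∧ ∀ v ∈ A, ⁅w, v⁆ ∈ Φ}
          one_mem' := ⟨one_mem M, fun v _ => by simp [one_mem]⟩
          mul_mem' := fun {w z} hw hz => ⟨mul_mem hw.1 hz.1, fun v hv => by
            rw [show ⁅w * z, v⁆ = (w * ⁅z, v⁆ * w⁻¹) * ⁅w, v⁆ by
              rw [commutatorElement_def, commutatorElement_def, commutatorElement_def]; group]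
            exact mul_mem ((Subgroup.mem_normalizer_iff.1 (hMΦ hw.1) _).1 (hz.2 v hv)) (hw.2 v hv)⟩
          inv_mem' := fun {w} hw => ⟨inv_mem hw.1, fun v hv => by
            rw [show ⁅w⁻¹, v⁆ = (w⁻¹ * ⁅w, v⁆ * w⁻¹⁻¹)⁻¹ by
              rw [commutatorElement_def, commutatorElement_def]; group]
            exact inv_mem ((Subgroup.mem_normalizer_iff.1 (hMΦ (inv_mem hw.1)) _).1 (hw.2 v hv))⟩ }
      have hy₁W : y₁ ∈ W := by
        rw [hy₁, add_comm k e, pow_add, pow_mul]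
        exact pow_mem (show (y₀ : G) ^ p ^ e ∈ W from ⟨hfix, hno⟩) _
      have hc := CfsgLib.Coprime.le_centralizer_of_trivial_on_frattini_quotient
        (A := Subgroup.zpowers y₁) (K := A) (Subgroup.zpowers_le.2 (pow_mem y₀.2 _))
        (by rw [Nat.card_zpowers, hj]; exact hcop.pow_right j)
        (fun w hw v hv => by
          have h1 := (Subgroup.zpowers_le.2 hy₁W hw).2 v hv
          rwa [commutatorElement_def] at h1)
      refine hy₀e (k + e) ((QuotientGroup.eq_one_iff _).2 ?_)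
      exact Subgroup.mem_subgroupOf.2 (hc (Subgroup.mem_zpowers y₁))⟩
  -- a Borel group
  have hgM : g ∈ M := ((Subgroup.closure_le _).2 (by
    rintro z (rfl | hz)
    · exact haM
    · rw [Set.mem_singleton_iff.1 hz]; exact hbM) : Subgroup.closure {a, b} ≤ M) hg
  have hKM : Subgroup.closure {a, g * a * g⁻¹} ≤ M := (Subgroup.closure_le _).2 (by
    rintro z (rfl | hz)
    · exact haM
    · rw [Set.mem_singleton_iff.1 hz]; exact mul_mem (mul_mem hgM haM) (inv_mem hgM))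
  obtain ⟨j, hj⟩ := S.2 ⟨a, haS⟩
  obtain ⟨P, hPK, hPp, haP, hborel⟩ := exists_borel_lift ψ hψ
    ⟨a, Subgroup.subset_closure (Or.inl rfl)⟩ ⟨j, congrArg Subtype.val hj⟩ hc0 hac
  have hPAp : IsPGroup p (P ⊔ A : Subgroup G) := hPp.to_sup_of_normal_right' hAp (hPK.trans hKM)
  obtain ⟨y, hyM, hyT⟩ := exists_conj_le_of_not_dvd_relIndex (S.2.to_le inf_le_left) inf_le_right
    hT hPAp (sup_le (hPK.trans hKM) hAM)
  set R := conjBy y (P ⊔ A) with hR
  have hyA : conjBy y A = A := conjBy_eq_iff.2 hyM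
  have hAR : A ≤ R := hyA.ge.trans (conjBy_mono le_sup_right)
  have hRA : ¬ R ≤ A := fun h => haA (by
    have h1 := h (conj_mem_conjBy (Subgroup.mem_sup_left haP))
    exact (Subgroup.mem_normalizer_iff.1 hyM a).2 h1)
  have hR₁S : A ⊔ Subgroup.zpowers a ≤ (S : Subgroup G) :=
    sup_le hAS (Subgroup.zpowers_le.2 haS)
  obtain ⟨hy, hyH, hya⟩ := hmax _ hR₁S
    (hbig _ le_sup_left fun h => haA (h (Subgroup.mem_sup_right (Subgroup.mem_zpowers a)))) y
    ((conjBy_mono (sup_le le_sup_right (Subgroup.zpowers_le.2 (Subgroup.mem_sup_left haP)))).trans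
      (hyT.trans inf_le_left))
  have hagree : ∀ x : ↥(Subgroup.closure {a, g * a * g⁻¹}), (x : G) ∈ Subgroup.normalizer (P : Set G) →
      ∃ h ∈ hzj S, ∀ v ∈ A, h * v * h⁻¹ = (x : G) * v * (x : G)⁻¹ := by
    intro x hxP
    have hxA : (x : G) ∈ Subgroup.normalizer (A : Set G) := hKM x.2
    have hxR : conjBy (y * x * y⁻¹) R = R := by
      rw [hR, CfsgLib.Fusion.conjBy_conjBy, inv_mul_cancel_right, ← CfsgLib.Fusion.conjBy_conjBy]
      congr 1
      unfold conjBy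
      rw [Subgroup.map_sup, show P.map (MulAut.conj (x : G)).toMonoidHom = P from conjBy_eq_iff.2 hxP,
        show A.map (MulAut.conj (x : G)).toMonoidHom = A from conjBy_eq_iff.2 hxA]
    obtain ⟨h, hh, hha⟩ := hmax R (hyT.trans inf_le_left) (hbig R hAR hRA) (y * x * y⁻¹)
      (by rw [hxR]; exact hyT.trans inf_le_left)
    refine ⟨hy⁻¹ * h * hy, mul_mem (mul_mem (inv_mem hyH) hh) hyH, fun v hv => ?_⟩
    have e1 := hya v (Subgroup.mem_sup_left hv)
    have e2 := hha (y * v * y⁻¹) (hAR ((Subgroup.mem_normalizer_iff.1 hyM v).1 hv))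
    have e3 := hya ((x : G) * v * (x : G)⁻¹)
      (Subgroup.mem_sup_left ((Subgroup.mem_normalizer_iff.1 hxA v).1 hv))
    rw [e1, show y * (x : G) * y⁻¹ * (hy * v * hy⁻¹) * (y * (x : G) * y⁻¹)⁻¹ =
      y * ((x : G) * (y⁻¹ * (hy * v * hy⁻¹) * y) * (x : G)⁻¹) * y⁻¹ by group, ← e1,
      show y⁻¹ * (y * v * y⁻¹) * y = v by group, e3, e1] at e2
    calc hy⁻¹ * h * hy * v * (hy⁻¹ * h * hy)⁻¹
        = hy⁻¹ * (h * (hy * v * hy⁻¹) * h⁻¹) * hy := by group
      _ = hy⁻¹ * (hy * ((x : G) * v * (x : G)⁻¹) * hy⁻¹) * hy := by rw [e2]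
      _ = (x : G) * v * (x : G)⁻¹ := by group
  have hlift : ∀ D : Matrix.SpecialLinearGroup (Fin 2) (ZMod p), D.1 1 0 = 0 →
      ∃ h ∈ hzj S, Acts U θ h D := by
    intro D hD
    obtain ⟨x, hxP, hxD⟩ := hborel D hD
    obtain ⟨h, hh, hhv⟩ := hagree x hxP
    exact ⟨h, hh, (hxD ▸ hact x).congr hUA hhv⟩
  refine ⟨involves_fOver_of_borel hp _ hc (hUA.trans (hAS.trans (sylow_le_nz S)))
    (hAp.to_le hUA) hlift, ?_⟩
  obtain ⟨k, hk⟩ := exists_primitive_root (p := p)
  have hk0 : (k : ZMod p) ≠ 0 := fun h0 => by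
    rw [h0, orderOf_zero] at hk
    have := (Fact.out : p.Prime).two_le
    omega
  obtain ⟨h, hh, hhD⟩ := hlift ⟨!![(k : ZMod p), 0; 0, (k : ZMod p)⁻¹], by
    simp [Matrix.det_fin_two, mul_inv_cancel₀ hk0]⟩ (by simp)
  obtain ⟨u, hu, hue⟩ := hc.surj ![0, 1]
  have haU := hac ▸ hact ⟨a, Subgroup.subset_closure (Or.inl rfl)⟩
  have hau : a * u * a⁻¹ ∈ U := (Subgroup.mem_normalizer_iff.1 haU.1 u).1 hu
  set z := ⁅a, u⁆ with hz
  have hzU : z ∈ U := mul_mem hau (inv_mem hu)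
  have hθz : θ z = ![c, 0] := by
    rw [hz, commutatorElement_def, hc.add _ hau _ (inv_mem hu), hc.map_inv hu, haU.2 u hu, hue]
    ext i; fin_cases i <;> simp [Matrix.mulVec, dotProduct, Fin.sum_univ_two]
  refine exists_full_aut (hzj S) Z (isMulCommutative_zj S) (isPGroup_zj S) hh hh Φ
    (normalizer_section hc hhD) (z := z) (commutator_mem_zj S haZ (hAS (hUA hu)))
    (fun h0 => hc0 (by simpa using congrFun (hθz.symm.trans ((hc.ker z hzU).2 h0)) 0)) ?_ hk ?_
  · rw [← hc.ker _ (pow_mem hzU p), hc.map_pow hzU]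
    simp
  · have hhz : h * z * h⁻¹ ∈ U := (Subgroup.mem_normalizer_iff.1 hhD.1 z).1 hzU
    rw [← hc.ker _ (mul_mem (inv_mem (pow_mem hzU k)) hhz),
      hc.add _ (inv_mem (pow_mem hzU k)) _ hhz, hc.map_inv (pow_mem hzU k), hc.map_pow hzU,
      hhD.2 z hzU, hθz]
    ext i; fin_cases i <;> simp [Matrix.mulVec, dotProduct, Fin.sum_univ_two]
    ring

end CfsgLib.PGroup.ZJFailure
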