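import Cfsg.Agent.Lib.PGroup.ZJFailureLinear
import Cfsg.Agent.Lib.Fusion.Sylow
import Cfsg.Agent.Lib.Qd.Section

/-!
# A fixed point of a Sylow subgroup in a module for two quadratic elements
-/

set_option autoImplicit false
set_option linter.style.haveILetI false

open scoped commutatorElement

namespace CfsgLib.PGroup.ZJFailure

open CfsgLib.Fusion (conjBy conjBy_le_iff conjBy_eq_iff conjBy_eq_of_le conjBy_one conjBy_conjBy)

universe u v

variable {p : ℕ} [Fact p.Prime]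

/-- A `p`-group normalizing a nontrivial abelian `p`-group fixes an element of order `p` in it. -/
theorem exists_fixed_order_p {Γ : Type u} [Group Γ] [Finite Γ] {R W : Subgroup Γ}
    (hR : IsPGroup p R) (hW : IsPGroup p W) (hW1 : W ≠ ⊥)
    (hRW : R ≤ Subgroup.normalizer (W : Set Γ)) :
    ∃ w ∈ W, w ≠ 1 ∧ w ^ p = 1 ∧ ∀ r ∈ R, r * w * r⁻¹ = w := by
  classical
  letI : MulAction R W :=
    MulAction.compHom W (W.normalizerMonoidHom.comp (Subgroup.inclusion hRW))
  have hsm : ∀ (r : R) (w : W), (((r • w : W)) : Γ) = (r : Γ) * w * (r : Γ)⁻¹ := fun _ _ => rfl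
  obtain ⟨n, hn⟩ := IsPGroup.iff_card.1 hW
  have hd : p ∣ Nat.card W := by
    rcases n with _ | n
    · exact absurd (Subgroup.card_eq_one.1 (by rw [hn, pow_zero])) hW1
    · exact ⟨p ^ n, by rw [hn, pow_succ']⟩
  obtain ⟨w, hw, hw1⟩ := hR.exists_fixed_point_of_prime_dvd_card_of_fixed_point W hd
    (a := 1) (fun r => Subtype.ext (by rw [hsm]; simp))
  have hfix : ∀ r ∈ R, r * (w : Γ) * r⁻¹ = w := fun r hr =>
    congrArg Subtype.val (hw ⟨r, hr⟩)
  obtain ⟨j, hj⟩ := hW w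
  have hex : ∃ i, (w : Γ) ^ p ^ i = 1 := ⟨j, congrArg Subtype.val hj⟩
  obtain ⟨i, hi⟩ : ∃ i, Nat.find hex = i + 1 := by
    refine Nat.exists_eq_succ_of_ne_zero fun h0 => hw1 (Subtype.ext ?_)
    have := Nat.find_spec hex
    rw [h0, pow_zero, pow_one] at this
    exact this.symm
  refine ⟨(w : Γ) ^ p ^ i, pow_mem w.2 _, Nat.find_min hex (by omega), ?_, fun r hr => ?_⟩
  · rw [← pow_mul, ← pow_succ, ← hi]
    exact Nat.find_spec hex
  · rw [← conj_pow, hfix r hr]

variable {Γ : Type u} [Group Γ] [Finite Γ] {Δ : Type v} [Group Δ] [Finite Δ]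

/-- Two quadratic elements `a, b` act on an elementary group `V`; a point of `Y` fixed by a Sylow
subgroup of `⟨a, b⟩` and by none of the larger conditions gives a section with eigenvectors. -/
theorem exists_eigen_section (hp : p ≠ 2) (π : Γ →* Δ) (V Y : Subgroup Δ)
    (hV : Cfsg.IsElementaryAbelian p V) (hYV : Y ≤ V) (hY : Y ≠ ⊥) {a b : Γ}
    (ha : π a ∈ Subgroup.normalizer (V : Set Δ)) (hb : π b ∈ Subgroup.normalizer (V : Set Δ))
    (hqa : ∀ v ∈ V, ⁅π a, ⁅π a, v⁆⁆ = 1) (hqb : ∀ v ∈ V, ⁅π b, ⁅π b, v⁆⁆ = 1)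
    (P : Subgroup Γ) (hPL : P ≤ Subgroup.closure {a, b}) (haP : a ∈ P) (hPp : IsPGroup p P)
    (hPi : ¬ p ∣ P.relIndex (Subgroup.closure {a, b}))
    (hPY : ∀ r ∈ P, π r ∈ Subgroup.normalizer (Y : Set Δ))
    (hfixed : ∀ l ∈ Subgroup.closure {a, b}, l⁻¹ * a * l ∈ P →
      π l ∈ Subgroup.normalizer (Y : Set Δ))
    (hne : ∀ y ∈ Y, y ≠ 1 → ¬ (π a * y * (π a)⁻¹ = y ∧ π b * y * (π b)⁻¹ = y)) :
    ∃ V₀ M₁ : Subgroup Δ, M₁ ≤ V₀ ∧ V₀ ≤ V ∧
      (∀ l ∈ Subgroup.closure {a, b}, π l ∈ Subgroup.normalizer (V₀ : Set Δ)) ∧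
      (∀ l ∈ Subgroup.closure {a, b}, π l ∈ Subgroup.normalizer (M₁ : Set Δ)) ∧
      (∃ y ∈ Subgroup.closure {a, b}, ∀ e : ℕ, ∃ u ∈ V₀, ⁅π y ^ p ^ e, u⁆ ∉ M₁) ∧
      ∃ y ∈ Y, y ∈ V₀ ∧ y ∉ M₁ ∧ ∀ l ∈ Subgroup.closure {a, b}, ∀ k : ℕ, ∀ e₀ ∈ V₀, e₀ ∉ M₁ →
        ⁅π a, e₀⁆ ∈ M₁ → (e₀ ^ k)⁻¹ * (π l * e₀ * (π l)⁻¹) ∈ M₁ →
          (y ^ k)⁻¹ * (π l * y * (π l)⁻¹) ∈ M₁ := by
  classical
  set L := Subgroup.closure {a, b} with hL
  have haL : a ∈ L := Subgroup.subset_closure (Or.inl rfl)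
  have hbL : b ∈ L := Subgroup.subset_closure (Or.inr rfl)
  have hLV : ∀ l ∈ L, π l ∈ Subgroup.normalizer (V : Set Δ) := fun l hl =>
    ((Subgroup.closure_le _).2 (by
      rintro x (rfl | hx)
      · exact ha
      · rw [Set.mem_singleton_iff.1 hx]; exact hb) :
        L ≤ (Subgroup.normalizer (V : Set Δ)).comap π) hl
  -- the point
  have hVp : IsPGroup p V := fun v => ⟨1, Subtype.ext (by
    rw [SubgroupClass.coe_pow, pow_one]; exact hV.2 _ v.2)⟩
  obtain ⟨y, hyY, hy1, -, hyP'⟩ := exists_fixed_order_p (R := P.map π) (hPp.map π) (hVp.to_le hYV) hY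
    (by rintro _ ⟨r, hr, rfl⟩; exact hPY r hr)
  have hyP : ∀ r ∈ P, π r * y * (π r)⁻¹ = y := fun r hr => hyP' _ ⟨r, hr, rfl⟩
  -- its submodule and a maximal submodule
  set V₀ := Subgroup.closure {x : Δ | ∃ l ∈ L, π l * y * (π l)⁻¹ = x} with hV₀
  have hyV₀ : y ∈ V₀ := Subgroup.subset_closure ⟨1, one_mem L, by simp⟩
  have hV₀V : V₀ ≤ V := (Subgroup.closure_le _).2 (by
    rintro _ ⟨l, hl, rfl⟩
    exact (Subgroup.mem_normalizer_iff.1 (hLV l hl) y).1 (hYV hyY))
  have hV₀n : ∀ l ∈ L, π l ∈ Subgroup.normalizer (V₀ : Set Δ) := by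
    intro l hl
    refine conjBy_eq_iff.1 (conjBy_eq_of_le ?_)
    rw [conjBy, hV₀, MonoidHom.map_closure]
    refine Subgroup.closure_mono ?_
    rintro _ ⟨_, ⟨m, hm, rfl⟩, rfl⟩
    exact ⟨l * m, mul_mem hl hm, by simp [mul_assoc]⟩
  haveI : Finite (Subgroup Δ) := inferInstance
  set 𝓜 := {M : Subgroup Δ | M ≤ V₀ ∧ M ≠ V₀ ∧ ∀ l ∈ L, π l ∈ Subgroup.normalizer (M : Set Δ)}
    with h𝓜
  obtain ⟨M₁, hM₁⟩ := (Set.toFinite 𝓜).exists_maximal ⟨⊥, bot_le,
    fun h => hy1 (Subgroup.mem_bot.1 (h ▸ hyV₀)), fun l _ => by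
      rw [Subgroup.normalizer_eq_top]; exact Subgroup.mem_top _⟩
  obtain ⟨hM₁V, hM₁ne, hM₁n⟩ := hM₁.prop
  have hyM₁ : y ∉ M₁ := fun h => hM₁ne (le_antisymm hM₁V ((Subgroup.closure_le _).2 (by
    rintro _ ⟨l, hl, rfl⟩
    exact (Subgroup.mem_normalizer_iff.1 (hM₁n l hl) y).1 h)))
  -- the irreducible module
  letI : CommGroup V₀ :=
    { mul_comm := fun u w => Subtype.ext (congrArg Subtype.val
        (hV.1.is_comm.comm (⟨u, hV₀V u.2⟩ : V) ⟨w, hV₀V w.2⟩) :) }
  set M' := M₁.subgroupOf V₀ with hM'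
  set q := QuotientGroup.mk' M' with hq
  have hq1 : ∀ v : V₀, q v = 1 ↔ (v : Δ) ∈ M₁ := fun v => QuotientGroup.eq_one_iff v
  let T : L → (V₀ →* V₀) := fun l =>
    (MulEquiv.toMonoidHom (V₀.normalizerMonoidHom ⟨π l, hV₀n l l.2⟩))
  have hT : ∀ (l : L) (v : V₀), ((T l v : V₀) : Δ) = π l * v * (π l)⁻¹ := fun _ _ => rfl
  have hTM : ∀ l : L, M' ≤ M'.comap (T l) := fun l v hv =>
    (Subgroup.mem_normalizer_iff.1 (hM₁n l l.2) _).1 hv
  let ρ : L → (Additive (V₀ ⧸ M') →+ Additive (V₀ ⧸ M')) := fun l =>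
    MonoidHom.toAdditive (QuotientGroup.map M' M' (T l) (hTM l))
  let m : V₀ → Additive (V₀ ⧸ M') := fun v => Additive.ofMul (q v)
  have hρ : ∀ (l : L) (v : V₀), ρ l (m v) = m (T l v) := fun _ _ => rfl
  have hmsurj : ∀ w, ∃ v, m v = w := fun w => QuotientGroup.mk'_surjective M' w.toMul
  have hm0 : ∀ v : V₀, m v = 0 ↔ (v : Δ) ∈ M₁ := hq1
  have hmmul : ∀ u w : V₀, m (u * w) = m u + m w := fun u w => map_mul q u w
  have hmpow : ∀ (u : V₀) (i : ℕ), m (u ^ i) = i • m u := fun u i => map_pow q u i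
  have hminv : ∀ u : V₀, m u⁻¹ = -m u := fun u => map_inv q u
  have hρmul : ∀ (l l' : L) w, ρ (l * l') w = ρ l (ρ l' w) := by
    intro l l' w
    obtain ⟨v, rfl⟩ := hmsurj w
    rw [hρ, hρ, hρ]
    congr 1
    refine Subtype.ext ?_
    simp only [hT, Subgroup.coe_mul, map_mul]
    group
  have hρ1 : ∀ w, ρ 1 w = w := by
    intro w
    obtain ⟨v, rfl⟩ := hmsurj w
    rw [hρ]; congr 1; refine Subtype.ext ?_; simp [hT]
  set aL : L := ⟨a, haL⟩ with haLdef
  set bL : L := ⟨b, hbL⟩ with hbLdef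
  set α := ρ aL - AddMonoidHom.id _ with hα
  set β := ρ bL - AddMonoidHom.id _ with hβ
  have hcomm : ∀ (l : L) (v : V₀), ρ l (m v) - m v =
      m ⟨⁅π l, (v : Δ)⁆, mul_mem ((Subgroup.mem_normalizer_iff.1 (hV₀n l l.2) _).1 v.2) (inv_mem v.2)⟩ := by
    intro l v
    rw [hρ, sub_eq_add_neg, ← hminv, ← hmmul]
    rfl
  have hsq : ∀ l : L, (∀ v ∈ V, ⁅π l, ⁅π l, v⁆⁆ = 1) → ∀ w,
      (ρ l - AddMonoidHom.id (Additive (V₀ ⧸ M')))
        ((ρ l - AddMonoidHom.id (Additive (V₀ ⧸ M'))) w) = 0 := by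
    intro l hl w
    obtain ⟨v, rfl⟩ := hmsurj w
    simp only [AddMonoidHom.sub_apply, AddMonoidHom.id_apply]
    rw [hcomm, hcomm, hm0]
    simp [hl _ (hV₀V v.2), one_mem]
  have hαα : ∀ w, α (α w) = 0 := hsq aL hqa
  have hββ : ∀ w, β (β w) = 0 := hsq bL hqb
  have hρab : ∀ w, ρ aL w = w + α w ∧ ρ bL w = w + β w := fun w => by simp [hα, hβ]
  -- extend from the two generators
  have hgen : ∀ φ : Additive (V₀ ⧸ M') →+ Additive (V₀ ⧸ M'),
      (∀ w, φ (ρ aL w) = ρ aL (φ w)) → (∀ w, φ (ρ bL w) = ρ bL (φ w)) →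
      ∀ (l : L) w, φ (ρ l w) = ρ l (φ w) := by
    rintro φ h1 h2 ⟨l, hl⟩
    induction hl using Subgroup.closure_induction with
    | mem x hx =>
      rcases hx with rfl | hx
      · exact h1
      · rw [Set.mem_singleton_iff] at hx; subst hx; exact h2
    | one => intro w; rw [show (⟨1, _⟩ : L) = 1 from rfl, hρ1, hρ1]
    | mul x z hx hz i1 i2 =>
      intro w
      rw [show (⟨x * z, _⟩ : L) = ⟨x, hx⟩ * ⟨z, hz⟩ from rfl, hρmul, hρmul, i1, i2]
    | inv x hx i1 =>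
      intro w
      have h3 := i1 (ρ (⟨x, hx⟩⁻¹ : L) w)
      rw [← hρmul, mul_inv_cancel, hρ1] at h3
      rw [show (⟨x⁻¹, _⟩ : L) = (⟨x, hx⟩ : L)⁻¹ from rfl, h3, ← hρmul, inv_mul_cancel, hρ1]
  have irr : ∀ J : AddSubgroup (Additive (V₀ ⧸ M')),
      (∀ w ∈ J, α w ∈ J ∧ β w ∈ J) → J = ⊥ ∨ J = ⊤ := by
    intro J hJ
    have hJL : ∀ l (hl : l ∈ L), ∀ w ∈ J, ρ ⟨l, hl⟩ w ∈ J := by
      intro l hl
      induction hl using Subgroup.closure_induction with
      | mem x hx =>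
        intro w hw
        rcases hx with rfl | hx
        · exact (hρab w).1 ▸ J.add_mem hw (hJ w hw).1
        · rw [Set.mem_singleton_iff] at hx; subst hx
          exact (hρab w).2 ▸ J.add_mem hw (hJ w hw).2
      | one => intro w hw; rw [show (⟨1, _⟩ : L) = 1 from rfl, hρ1]; exact hw
      | mul x z hx hz i1 i2 =>
        intro w hw
        rw [show (⟨x * z, _⟩ : L) = ⟨x, hx⟩ * ⟨z, hz⟩ from rfl, hρmul]
        exact i1 _ (i2 _ hw)
      | inv x hx i1 =>
        intro w hw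
        rw [show (⟨x⁻¹, _⟩ : L) = (⟨x, hx⟩ : L)⁻¹ from rfl]
        obtain ⟨⟨w', hw'⟩, hw'e⟩ := Finite.injective_iff_surjective.1
          (show Function.Injective fun w : J => (⟨ρ ⟨x, hx⟩ w, i1 _ w.2⟩ : J) from fun u u' h => by
            have h1 := congrArg (fun z : J => ρ (⟨x, hx⟩⁻¹ : L) (z : Additive (V₀ ⧸ M'))) h
            simp only [← hρmul, inv_mul_cancel, hρ1] at h1
            exact Subtype.ext h1) ⟨w, hw⟩
        have h2 : ρ ⟨x, hx⟩ w' = w := congrArg Subtype.val hw'e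
        rw [← h2, ← hρmul, inv_mul_cancel, hρ1]
        exact hw'
    let J' : Subgroup Δ :=
      (Subgroup.comap q (AddSubgroup.toSubgroup' J)).map V₀.subtype
    have hJ' : ∀ v : V₀, (v : Δ) ∈ J' ↔ m v ∈ J := by
      intro v
      constructor
      · rintro ⟨w, hw, hwv⟩; rw [← Subtype.ext hwv]; exact hw
      · exact fun h => ⟨v, h, rfl⟩
    have hM₁J : M₁ ≤ J' := fun x hx =>
      (hJ' ⟨x, hM₁V hx⟩).2 (by rw [(hm0 _).2 hx]; exact J.zero_mem)
    by_cases hJ'V : J' = V₀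
    · right
      refine (AddSubgroup.eq_top_iff' J).2 fun w => ?_
      obtain ⟨v, rfl⟩ := hmsurj w
      exact (hJ' v).1 (hJ'V.ge v.2)
    · left
      have hJ'mem : J' ∈ 𝓜 := ⟨Subgroup.map_subtype_le _, hJ'V, fun l hl => by
        refine conjBy_eq_iff.1 (conjBy_eq_of_le (conjBy_le_iff.2 fun x hx => ?_))
        obtain ⟨v, hv, rfl⟩ := hx
        exact (hJ' (T ⟨l, hl⟩ v)).2 (by rw [← hρ]; exact hJL l hl _ hv)⟩
      have hJe : J' = M₁ := le_antisymm (hM₁.le_of_ge hJ'mem hM₁J) hM₁J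
      refine (AddSubgroup.eq_bot_iff_forall J).2 fun w hw => ?_
      obtain ⟨v, rfl⟩ := hmsurj w
      exact (hm0 v).2 (hJe ▸ (hJ' v).2 hw)
  have hexp : ∀ w : Additive (V₀ ⧸ M'), p • w = 0 := by
    intro w
    obtain ⟨v, rfl⟩ := hmsurj w
    rw [← hmpow, hm0, SubgroupClass.coe_pow, hV.2 _ (hV₀V v.2)]
    exact one_mem _
  have hy0 : m ⟨y, hyV₀⟩ ≠ 0 := fun h => hyM₁ ((hm0 _).1 h)
  -- the action is not trivial
  have hmoves : ∃ w, α w ≠ 0 ∨ β w ≠ 0 := by
    by_contra hno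
    push Not at hno
    have htriv : ∀ (l : L) (v : V₀), m (T l v) = m v := by
      have hact : ∀ l (hl : l ∈ L), ∀ w, ρ ⟨l, hl⟩ w = w := by
        intro l hl
        induction hl using Subgroup.closure_induction with
        | mem x hx =>
          intro w
          rcases hx with rfl | hx
          · exact (hρab w).1.trans (by rw [(hno w).1, add_zero])
          · rw [Set.mem_singleton_iff] at hx; subst hx
            exact (hρab w).2.trans (by rw [(hno w).2, add_zero])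
        | one => exact hρ1
        | mul x z hx hz i1 i2 =>
          intro w
          rw [show (⟨x * z, _⟩ : L) = ⟨x, hx⟩ * ⟨z, hz⟩ from rfl, hρmul, i2, i1]
        | inv x hx i1 =>
          intro w
          rw [show (⟨x⁻¹, _⟩ : L) = (⟨x, hx⟩ : L)⁻¹ from rfl]
          conv_lhs => rw [← i1 w]
          rw [← hρmul, inv_mul_cancel, hρ1]
      exact fun l v => (hρ l v).symm.trans (hact l l.2 _)
    -- the trace of the fixed point
    letI : CommGroup V := { mul_comm := fun u w => hV.1.is_comm.comm u w }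
    letI : Fintype (L ⧸ P.subgroupOf L) := Fintype.ofFinite _
    have hmemV : ∀ l : L, π l * y * (π l)⁻¹ ∈ V := fun l =>
      (Subgroup.mem_normalizer_iff.1 (hLV l l.2) y).1 (hYV hyY)
    let f : L ⧸ P.subgroupOf L → Additive V := Quotient.lift
      (fun l : L => Additive.ofMul (⟨π l * y * (π l)⁻¹, hmemV l⟩ : V)) fun l l' hll => by
        replace hll := QuotientGroup.leftRel_apply.1 hll
        refine congrArg Additive.ofMul (Subtype.ext ?_)
        have h1 := hyP _ (Subgroup.mem_subgroupOf.1 hll)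
        simp only [Subgroup.coe_mul, Subgroup.coe_inv, map_mul, map_inv] at h1 ⊢
        rw [show π (l' : Γ) * y * (π (l' : Γ))⁻¹ = π (l : Γ) *
          ((π (l : Γ))⁻¹ * π (l' : Γ) * y * ((π (l : Γ))⁻¹ * π (l' : Γ))⁻¹) * (π (l : Γ))⁻¹ by group,
          h1]
    have hf : ∀ l : L, (((f (QuotientGroup.mk l)).toMul : V) : Δ) = π l * y * (π l)⁻¹ :=
      fun _ => rfl
    let A : L → (Additive V →+ Additive V) := fun l => MonoidHom.toAdditive
      (MulEquiv.toMonoidHom (V.normalizerMonoidHom ⟨π l, hLV l l.2⟩))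
    have hA : ∀ (l : L) (v : Additive V),
        (((A l v).toMul : V) : Δ) = π l * ((v.toMul : V) : Δ) * (π l)⁻¹ := fun _ _ => rfl
    have hext : ∀ u w : Additive V, ((u.toMul : V) : Δ) = ((w.toMul : V) : Δ) → u = w :=
      fun u w h => Subtype.ext h
    have hfl : ∀ (l : L) c, f (l • c) = A l (f c) := by
      intro l c
      induction c using QuotientGroup.induction_on with
      | _ l' =>
        refine hext _ _ ?_
        rw [hA, MulAction.Quotient.smul_mk, hf, hf, smul_eq_mul, Subgroup.coe_mul, map_mul]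
        group
    set τ := ∑ c, f c with hτ
    have hτfix : ∀ l : L, A l τ = τ := by
      intro l
      rw [hτ, map_sum]
      simp only [← hfl]
      exact Equiv.sum_comp (MulAction.toPerm l) f
    have hτY : ((τ.toMul : V) : Δ) ∈ Y := by
      obtain ⟨n, hn⟩ := hPp ⟨a, haP⟩
      have hn' : aL ^ p ^ n = 1 := Subtype.ext (congrArg (fun z : P => (z : Γ)) hn :)
      have hsum := sum_eq_sum_fixed (p := p) hp (ι := L ⧸ P.subgroupOf L) (I := Additive V)
        (fun v => hext _ _ (by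
          rw [toMul_nsmul, SubgroupClass.coe_pow]; exact hV.2 _ v.toMul.2))
        (A aL - AddMonoidHom.id _) (fun v => hext _ _ (by
          have h := hqa _ v.toMul.2
          simp only [AddMonoidHom.sub_apply, AddMonoidHom.id_apply, map_sub, toMul_sub, toMul_zero,
            Subgroup.coe_div, Subgroup.coe_one, hA]
          rw [commutatorElement_def, commutatorElement_def] at h
          rw [← h, haLdef]
          simp only [div_eq_mul_inv]
          group))
        (MulAction.toPermHom L (L ⧸ P.subgroupOf L) aL) (n := n)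
        (by rw [← map_pow, hn', map_one]) f
        (fun c => by
          rw [MulAction.toPermHom_apply, MulAction.toPerm_apply, hfl, AddMonoidHom.sub_apply,
            AddMonoidHom.id_apply, add_sub_cancel])
        Finset.univ (fun c => by simp)
      let Y' : AddSubgroup (Additive V) := (Y.subgroupOf V).toAddSubgroup
      show τ ∈ Y'
      rw [hτ, hsum]
      refine sum_mem fun c hc => ?_
      have hc' : aL • c = c := (Finset.mem_filter.1 hc).2
      induction c using QuotientGroup.induction_on with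
      | _ l =>
        rw [MulAction.Quotient.smul_mk, smul_eq_mul, eq_comm, QuotientGroup.eq,
          Subgroup.mem_subgroupOf, Subgroup.coe_mul, Subgroup.coe_inv, Subgroup.coe_mul,
          ← mul_assoc] at hc'
        show π l * y * (π l)⁻¹ ∈ Y
        exact (Subgroup.mem_normalizer_iff.1 (hfixed l l.2 hc') y).1 hyY
    by_cases hτ1 : ((τ.toMul : V) : Δ) = 1
    · -- every summand is congruent to `y`
      let D : AddSubgroup (Additive V) := (M₁.subgroupOf V).toAddSubgroup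
      set Y₁ : Additive V := Additive.ofMul ⟨y, hYV hyY⟩ with hY₁
      have hcong : ∀ c, f c - Y₁ ∈ D := by
        intro c
        induction c using QuotientGroup.induction_on with
        | _ l =>
          show (((f (QuotientGroup.mk l) - Y₁).toMul : V) : Δ) ∈ M₁
          rw [toMul_sub, Subgroup.coe_div, hf, div_eq_mul_inv, hY₁, toMul_ofMul]
          have h := htriv l ⟨y, hyV₀⟩
          rw [← sub_eq_zero, sub_eq_add_neg, ← hminv, ← hmmul, hm0] at h
          exact h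
      have hcard : (∑ c, (f c - Y₁)) ∈ D := sum_mem fun c _ => hcong c
      rw [Finset.sum_sub_distrib, ← hτ, Finset.sum_const, Finset.card_univ,
        hext τ 0 hτ1, zero_sub, neg_mem_iff, ← Nat.card_eq_fintype_card, ← Subgroup.index,
        ← Subgroup.relIndex] at hcard
      have h1 : y ^ P.relIndex L ∈ M₁ := hcard
      have h2 : y ^ Nat.gcd (P.relIndex L) p ∈ M₁ := by
        rw [← zpow_natCast, Nat.gcd_eq_gcd_ab, _root_.zpow_add, _root_.zpow_mul, _root_.zpow_mul,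
          zpow_natCast, zpow_natCast, hV.2 y (hYV hyY), one_zpow, mul_one]
        exact zpow_mem h1 _
      rw [Nat.Coprime.gcd_eq_one ((Fact.out : p.Prime).coprime_iff_not_dvd.2 hPi).symm, pow_one] at h2
      exact hyM₁ h2
    · refine hne _ hτY hτ1 ⟨?_, ?_⟩
      · exact congrArg (fun v : Additive V => ((v.toMul : V) : Δ)) (hτfix aL)
      · exact congrArg (fun v : Additive V => ((v.toMul : V) : Δ)) (hτfix bL)
  -- no nonzero common fixed vector
  have hfix0 : ∀ w, α w = 0 → β w = 0 → w = 0 := by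
    intro w h1 h2
    have hJ := irr (α.ker ⊓ β.ker) fun x hx => by
      rw [AddMonoidHom.mem_ker.1 hx.1, AddMonoidHom.mem_ker.1 hx.2]
      exact ⟨zero_mem _, zero_mem _⟩
    rcases hJ with hJ | hJ
    · exact (AddSubgroup.eq_bot_iff_forall _).1 hJ w ⟨h1, h2⟩
    · obtain ⟨z, hz⟩ := hmoves
      have hz' : z ∈ α.ker ⊓ β.ker := hJ ▸ AddSubgroup.mem_top z
      exact absurd hz (by
        rw [AddMonoidHom.mem_ker.1 hz'.1, AddMonoidHom.mem_ker.1 hz'.2]; simp)
  have hα0 : ∃ w, α w ≠ 0 := by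
    by_contra hno
    push Not at hno
    obtain ⟨z, hz⟩ := hmoves
    exact (hz.resolve_left fun h => h (hno z)) (hfix0 _ (hno _) (hββ z))
  refine ⟨V₀, M₁, hM₁V, hV₀V, hV₀n, hM₁n, ?_, y, hyY, hyV₀, hyM₁, ?_⟩
  · by_contra hno
    push Not at hno
    let Φ : L →* MulAut (V₀ ⧸ M') := MonoidHom.mk' (fun l =>
      { toFun := fun w => ((ρ l (Additive.ofMul w)).toMul)
        invFun := fun w => ((ρ l⁻¹ (Additive.ofMul w)).toMul)
        left_inv := fun w => by simp [← hρmul, hρ1]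
        right_inv := fun w => by simp [← hρmul, hρ1]
        map_mul' := fun u w => by simp [map_add] })
      fun l l' => MulEquiv.ext fun w => by simp [hρmul]
    have hΦ : IsPGroup p Φ.range := by
      rintro ⟨_, l, rfl⟩
      obtain ⟨e, he⟩ := hno l l.2
      refine ⟨e, Subtype.ext (MulEquiv.ext fun w => ?_)⟩
      rw [SubgroupClass.coe_pow, ← map_pow]
      obtain ⟨v, rfl⟩ := QuotientGroup.mk'_surjective M' w
      show (ρ (l ^ p ^ e) (m v)).toMul = q v
      have h := hcomm (l ^ p ^ e) v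
      have h0 : ⁅π ((l ^ p ^ e : L) : Γ), (v : Δ)⁆ ∈ M₁ := by
        rw [SubgroupClass.coe_pow, map_pow]; exact he v v.2
      have h1 := h.trans ((hm0 _).2 h0)
      rw [sub_eq_zero] at h1
      rw [h1]; rfl
    obtain ⟨n, hn⟩ := IsPGroup.iff_card.1 ((hVp.to_le hV₀V).to_quotient M')
    have hd : p ∣ Nat.card (V₀ ⧸ M') := by
      rcases n with _ | n
      · exfalso
        haveI := (Nat.card_eq_one_iff_unique.1 (hn.trans (pow_zero p))).1
        exact hy0 (Subsingleton.elim (α := V₀ ⧸ M') (q ⟨y, hyV₀⟩) 1)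
      · exact ⟨p ^ n, by rw [hn, pow_succ']⟩
    letI : MulAction Φ.range (V₀ ⧸ M') := MulAction.compHom _ Φ.range.subtype
    obtain ⟨w, hw, hw1⟩ := hΦ.exists_fixed_point_of_prime_dvd_card_of_fixed_point (V₀ ⧸ M') hd
      (a := 1) (fun g => map_one (g : MulAut (V₀ ⧸ M')))
    refine hw1 (congrArg Additive.toMul (hfix0 (Additive.ofMul w) ?_ ?_)).symm
    · exact sub_eq_zero.2 (congrArg Additive.ofMul (hw ⟨Φ aL, aL, rfl⟩))
    · exact sub_eq_zero.2 (congrArg Additive.ofMul (hw ⟨Φ bL, bL, rfl⟩))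
  · intro l hl k e₀ he₀ he₀M hae hle
    have hy' : α (m ⟨y, hyV₀⟩) = 0 := by
      rw [hα, AddMonoidHom.sub_apply, AddMonoidHom.id_apply, hcomm, hm0]
      show ⁅π a, y⁆ ∈ M₁
      rw [commutatorElement_def, hyP a haP, mul_inv_cancel]
      exact one_mem _
    have hkey := eigen_on_fixed α β (ρ ⟨l, hl⟩) hαα hββ irr hα0
      (fun φ h1 h2 => hgen φ (fun w => by rw [(hρab w).1, map_add, h1, ← (hρab _).1])
        (fun w => by rw [(hρab w).2, map_add, h2, ← (hρab _).2]) ⟨l, hl⟩)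
      (e₀ := m ⟨e₀, he₀⟩)
      (by rw [hα, AddMonoidHom.sub_apply, AddMonoidHom.id_apply, hcomm, hm0]; exact hae)
      (fun h => he₀M ((hm0 _).1 h)) (k := k)
      (by
        rw [hρ, ← hmpow, eq_comm, ← neg_add_eq_zero, ← hminv, ← hmmul, hm0]
        exact hle) hy'
    rw [hρ, ← hmpow, eq_comm, ← neg_add_eq_zero, ← hminv, ← hmmul, hm0] at hkey
    exact hkey

end CfsgLib.PGroup.ZJFailure
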