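import Cfsg.Agent.Lib.PGroup.ZJFailureBasic
import Cfsg.Agent.Lib.PGroup.ZJFailureModule

/-!
# A `p`-subgroup over `Z(J(S))` with normalizer outside `N(Z(J(S)))`

Such a subgroup, chosen as large as possible, produces a natural `SL₂(p)`-section and an eigenvector
in `Z(J(S))`.
-/

set_option autoImplicit false
set_option linter.style.haveILetI false

open Matrix
open scoped commutatorElement

namespace CfsgLib.PGroup.ZJFailure

open CfsgLib.Fusion (conjBy mem_conjBy conjBy_le_iff conjBy_eq_iff conjBy_eq_of_le isPGroup_conjBy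
  card_conjBy conj_mem_conjBy conjBy_mono conjBy_conjBy conjBy_inv_conjBy conjBy_one
  exists_conj_le_of_not_dvd_relIndex exists_le_not_dvd_relIndex card_lt_card_of_lt
  not_dvd_relIndex_conjBy eq_of_le_of_isPGroup_of_not_dvd_relIndex)
open CfsgLib.Qd (up up_coe)

universe u

variable {G : Type u} [Group G] [Finite G] {p : ℕ} [Fact p.Prime]

/-! ### General helpers -/

theorem not_dvd_sylow_relIndex (S : Sylow p G) (Y : Subgroup G) (hY : (S : Subgroup G) ≤ Y) :
    ¬ p ∣ (S : Subgroup G).relIndex Y := fun h =>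
  S.not_dvd_index (h.trans (Subgroup.relIndex_dvd_index_of_le hY))

theorem card_le_sylow (S : Sylow p G) {P : Subgroup G} (hP : IsPGroup p P) :
    Nat.card P ≤ Nat.card (S : Subgroup G) := by
  obtain ⟨R, hR⟩ := hP.exists_le_sylow
  exact (Subgroup.card_le_of_le hR).trans (Sylow.card_eq_multiplicity R ▸
    (Sylow.card_eq_multiplicity S).ge)

theorem isPGroup_zpowers {a : G} {j : ℕ} (h : a ^ p ^ j = 1) :
    IsPGroup p (Subgroup.zpowers a) := by
  obtain ⟨i, -, hi⟩ := (Nat.dvd_prime_pow Fact.out).1 (orderOf_dvd_of_pow_eq_one h)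
  exact IsPGroup.of_card (n := i) (by rw [Nat.card_zpowers, hi])

theorem mem_normalizer_closure {s : Set G} {g : G}
    (h : ∀ x ∈ s, g * x * g⁻¹ ∈ Subgroup.closure s) :
    g ∈ Subgroup.normalizer (Subgroup.closure s : Set G) := by
  refine conjBy_eq_iff.1 (conjBy_eq_of_le ?_)
  rw [conjBy, MonoidHom.map_closure, Subgroup.closure_le]
  rintro _ ⟨x, hx, rfl⟩
  simpa using h x hx

/-- Commutators central on generators are central. -/
theorem commutator_closure_central {s : Set G} (h : ∀ x ∈ s, ∀ y ∈ s, ⁅x, y⁆ ∈ Subgroup.center G) :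
    ∀ x ∈ Subgroup.closure s, ∀ y ∈ Subgroup.closure s, ⁅x, y⁆ ∈ Subgroup.center G := by
  set π := QuotientGroup.mk' (Subgroup.center G) with hπ
  have hc : IsMulCommutative (Subgroup.closure (π '' s)) := by
    refine Subgroup.isMulCommutative_closure ?_
    rintro _ ⟨x, hx, rfl⟩ _ ⟨y, hy, rfl⟩
    rw [← commutatorElement_eq_one_iff_mul_comm, ← map_commutatorElement]
    exact (QuotientGroup.eq_one_iff _).2 (h x hx y hy)
  intro x hx y hy
  rw [← MonoidHom.map_closure] at hc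
  refine (QuotientGroup.eq_one_iff (N := Subgroup.center G) _).1 ?_
  show π ⁅x, y⁆ = 1
  rw [map_commutatorElement, commutatorElement_eq_one_iff_mul_comm]
  exact congrArg Subtype.val (hc.is_comm.comm (⟨π x, ⟨x, hx, rfl⟩⟩ : (Subgroup.closure s).map π)
    ⟨π y, ⟨y, hy, rfl⟩⟩)

theorem conj_mem_center {c : G} (g : G) (h : c ∈ Subgroup.center G) :
    g * c * g⁻¹ ∈ Subgroup.center G :=
  (inferInstance : (Subgroup.center G).Normal).conj_mem c h g

theorem mem_center_of_conj {c : G} (g : G) (h : g * c * g⁻¹ ∈ Subgroup.center G) :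
    c ∈ Subgroup.center G := by
  have := conj_mem_center g⁻¹ h
  rwa [show g⁻¹ * (g * c * g⁻¹) * g⁻¹⁻¹ = c by group] at this

/-- `σ` is a `p`-element acting quadratically on `B` modulo the centre. -/
def Quad (p : ℕ) (B : Subgroup G) (σ : G) : Prop :=
  (∃ j : ℕ, σ ^ p ^ j = 1) ∧ ∀ b ∈ B, ⁅σ, ⁅σ, b⁆⁆ ∈ Subgroup.center G

theorem Quad.conj {B : Subgroup G} {σ g : G} (h : Quad p B σ)
    (hg : g ∈ Subgroup.normalizer (B : Set G)) : Quad p B (g * σ * g⁻¹) := by
  obtain ⟨⟨j, hj⟩, hq⟩ := h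
  refine ⟨⟨j, by rw [conj_pow, hj]; group⟩, fun b hb => ?_⟩
  have hb' : g⁻¹ * b * g ∈ B := (Subgroup.mem_normalizer_iff''.1 hg b).1 hb
  have := conj_mem_center g (hq _ hb')
  rwa [show g * ⁅σ, ⁅σ, g⁻¹ * b * g⁆⁆ * g⁻¹ = ⁅g * σ * g⁻¹, ⁅g * σ * g⁻¹, b⁆⁆ by
    simp only [commutatorElement_def]; group] at this

/-- An element of a subgroup that is abelian modulo the centre and normalized by `B` acts
quadratically on `B`. -/
theorem quad_of_mem {B W : Subgroup G} {f : G} (hfW : f ∈ W)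
    (hBW : B ≤ Subgroup.normalizer (W : Set G))
    (hW : ∀ u ∈ W, ∀ v ∈ W, ⁅u, v⁆ ∈ Subgroup.center G) (b : G) (hb : b ∈ B) :
    ⁅f, ⁅f, b⁆⁆ ∈ Subgroup.center G := by
  refine hW f hfW _ ?_
  rw [commutatorElement_def, mul_assoc, mul_assoc]
  refine mul_mem hfW ?_
  rw [← mul_assoc]
  exact (Subgroup.mem_normalizer_iff.1 (hBW hb) _).1 (inv_mem hfW)

theorem exists_max_pair (P : Subgroup G × Subgroup G → Prop) (h : ∃ a, P a)
    (μ : Subgroup G × Subgroup G → ℕ) : ∃ a, P a ∧ ∀ b, P b → μ b ≤ μ a := by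
  obtain ⟨a, ha⟩ := h
  haveI : Nonempty {a // P a} := ⟨⟨a, ha⟩⟩
  obtain ⟨m, hm⟩ := Finite.exists_max fun a : {a // P a} => μ a.1
  exact ⟨m.1, m.2, fun b hb => hm ⟨b, hb⟩⟩

theorem lex_le {N a b c d : ℕ} (hd : d < N) (h : a * N + b ≤ c * N + d) : a ≤ c := by
  by_contra hlt
  have := Nat.mul_le_mul_right N (Nat.succ_le_of_lt (not_le.1 hlt))
  rw [Nat.succ_mul] at this
  omega

theorem zj_eq_of_all (S : Sylow p G) {Q : Subgroup G} (hQS : Q ≤ (S : Subgroup G))
    (hall : ∀ U ∈ CfsgLib.Fusion.maxAb (S : Subgroup G), U ≤ Q) :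
    zj S = Cfsg.centerThompsonAOf Q := by
  obtain ⟨U₀, hU₀⟩ := CfsgLib.Fusion.maxAb_nonempty (S : Subgroup G)
  have h := CfsgLib.Fusion.maxAb_inter hU₀ (hall U₀ hU₀)
  rw [inf_eq_right.2 hQS] at h
  have h' : CfsgLib.Fusion.maxAb (S : Subgroup G) = CfsgLib.Fusion.maxAb Q := by
    rw [← h]
    ext A
    exact ⟨fun hA => ⟨hA, hall A hA⟩, fun hA => hA.1⟩
  rw [zj, ← CfsgLib.Fusion.iInf_maxAb, ← CfsgLib.Fusion.iInf_maxAb, h']

/-! ### The configuration -/

/-- A subgroup `Q` chosen as large as possible among the `p`-subgroups of `N(Z(J(S)))` over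
`Z(J(S))` with normalizer outside it, and an element of `Z(J(S))`. -/
structure Setup (S : Sylow p G) where
  /-- The subgroup. -/
  Q : Subgroup G
  /-- The element. -/
  x : G
  le_S : Q ≤ (S : Subgroup G)
  zj_le_Q : zj S ≤ Q
  sylowN : ¬ p ∣ ((S : Subgroup G) ⊓ Subgroup.normalizer (Q : Set G)).relIndex
    (Subgroup.normalizer (Q : Set G))
  notle : ¬ Subgroup.normalizer (Q : Set G) ≤ hzj S
  better : ∀ D P : Subgroup G, IsPGroup p P → zj S ≤ D → IsPGroup p D → D ≤ hzj S → P ≤ hzj S →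
    P ≤ Subgroup.normalizer (D : Set G) →
    (Nat.card ↥((S : Subgroup G) ⊓ Subgroup.normalizer (Q : Set G)) < Nat.card P ∨
      (Nat.card ↥((S : Subgroup G) ⊓ Subgroup.normalizer (Q : Set G)) ≤ Nat.card P ∧
        Nat.card Q < Nat.card D)) →
    Subgroup.normalizer (D : Set G) ≤ hzj S
  x_mem : x ∈ zj S
  x_notcentral : x ∉ Subgroup.center G
  x_comm : ∀ s ∈ (S : Subgroup G), ⁅x, s⁆ ∈ Subgroup.center G
  x_pow : x ^ p ∈ Subgroup.center G

theorem exists_setup (S : Sylow p G) {Q₀ : Subgroup G} (hQ₀ : IsPGroup p Q₀) (hZ₀ : zj S ≤ Q₀)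
    (hH₀ : Q₀ ≤ hzj S) (hnot₀ : ¬ Subgroup.normalizer (Q₀ : Set G) ≤ hzj S) :
    Nonempty (Setup S) := by
  classical
  set N := Nat.card G + 1 with hN
  have hcard : ∀ D : Subgroup G, Nat.card D < N := fun D => Nat.lt_succ_of_le D.card_le_card_group
  let Conf : Subgroup G × Subgroup G → Prop := fun a =>
    IsPGroup p a.1 ∧ zj S ≤ a.1 ∧ a.1 ≤ hzj S ∧ ¬ Subgroup.normalizer (a.1 : Set G) ≤ hzj S ∧
      IsPGroup p a.2 ∧ a.2 ≤ hzj S ∧ a.2 ≤ Subgroup.normalizer (a.1 : Set G)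
  let μ : Subgroup G × Subgroup G → ℕ := fun a => Nat.card a.2 * N + Nat.card a.1
  obtain ⟨⟨Q, T⟩, ⟨hQ, hZQ, hQH, hnot, hT, hTH, hTQ⟩, hmax⟩ :=
    exists_max_pair Conf ⟨⟨Q₀, ⊥⟩, hQ₀, hZ₀, hH₀, hnot₀, IsPGroup.of_bot, bot_le, bot_le⟩ μ
  have hmaxT : ∀ P : Subgroup G, IsPGroup p P → P ≤ hzj S → P ≤ Subgroup.normalizer (Q : Set G) →
      Nat.card P ≤ Nat.card T := fun P hP h1 h2 =>
    lex_le (hcard Q) (hmax (Q, P) ⟨hQ, hZQ, hQH, hnot, hP, h1, h2⟩)
  have hQT : Q ≤ T := by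
    have h := hmaxT (T ⊔ Q) (hT.to_sup_of_normal_right' hQ hTQ) (sup_le hTH hQH)
      (sup_le hTQ Subgroup.le_normalizer)
    exact le_sup_right.trans (Subgroup.eq_of_le_of_card_ge le_sup_left h).ge
  -- `T` is a Sylow subgroup of `N(Q)`
  have hTSyl : ¬ p ∣ T.relIndex (Subgroup.normalizer (Q : Set G)) := by
    intro hd
    obtain ⟨P', hTP', hP'N, hP'p, hP'i⟩ := exists_le_not_dvd_relIndex hT hTQ
    have hlt : T < P' := lt_of_le_of_ne hTP' fun h => hP'i (h ▸ hd)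
    obtain ⟨g, hg, hgT⟩ := SetLike.exists_of_lt
      (CfsgLib.Subnormalizer.lt_inf_normalizer hP'p hlt)
    have hgH : g ∉ hzj S := fun hgH => by
      have h2 : IsPGroup p (T ⊔ Subgroup.zpowers g : Subgroup G) :=
        hP'p.to_le (sup_le hTP' (Subgroup.zpowers_le.2 hg.1))
      have h3 := hmaxT _ h2 (sup_le hTH (Subgroup.zpowers_le.2 hgH))
        (sup_le hTQ (Subgroup.zpowers_le.2 (hP'N hg.1)))
      exact hgT ((Subgroup.eq_of_le_of_card_ge le_sup_left h3).ge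
        (Subgroup.mem_sup_right (Subgroup.mem_zpowers g)))
    obtain ⟨R, hTR, hRH, hRp, hRi⟩ := exists_le_not_dvd_relIndex hT hTH
    have hTR' : T < R := by
      refine lt_of_le_of_ne hTR fun he => ?_
      obtain ⟨h, -, hh⟩ := exists_conj_le_of_not_dvd_relIndex hRp hRH hRi S.2 (sylow_le_nz S)
      have h1 := (card_conjBy h (S : Subgroup G)).ge.trans (Subgroup.card_le_of_le hh)
      have h2 : Nat.card P' ≤ Nat.card T := (card_le_sylow S hP'p).trans (he ▸ h1)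
      exact absurd (card_lt_card_of_lt hlt) (not_lt.2 h2)
    have h4 := CfsgLib.Subnormalizer.lt_inf_normalizer hRp hTR'
    have h5 := lex_le (hcard Q) (hmax (T, R ⊓ Subgroup.normalizer (T : Set G))
      ⟨hT, hZQ.trans hQT, hTH, fun h => hgH (h hg.2), hRp.to_le inf_le_left,
        inf_le_left.trans hRH, inf_le_right⟩)
    exact absurd (card_lt_card_of_lt h4) (not_lt.2 h5)
  -- move `T` into `S`
  obtain ⟨h, hh, hhT⟩ := exists_conj_le_of_not_dvd_relIndex S.2 (sylow_le_nz S)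
    (not_dvd_sylow_relIndex S _ (sylow_le_nz S)) hT hTH
  have hhH : conjBy h (hzj S) = hzj S := conjBy_eq_iff.2 (Subgroup.le_normalizer hh)
  have hhZ : conjBy h (zj S) = zj S := conjBy_eq_iff.2 hh
  set Q' := conjBy h Q with hQ'
  have hQ'S : Q' ≤ (S : Subgroup G) := (conjBy_mono hQT).trans hhT
  have hT' : conjBy h T ≤ (S : Subgroup G) ⊓ Subgroup.normalizer (Q' : Set G) := by
    refine le_inf hhT ?_
    rw [← CfsgLib.Fusion.conjBy_normalizer]
    exact conjBy_mono hTQ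
  have hi := not_dvd_relIndex_conjBy h hTSyl
  rw [CfsgLib.Fusion.conjBy_normalizer] at hi
  have hTeq : (S : Subgroup G) ⊓ Subgroup.normalizer (Q' : Set G) = conjBy h T :=
    eq_of_le_of_isPGroup_of_not_dvd_relIndex (S.2.to_le inf_le_left) hT' inf_le_right hi
  have hnot' : ¬ Subgroup.normalizer (Q' : Set G) ≤ hzj S := fun hle => hnot fun g hg => by
    rw [← CfsgLib.Fusion.conjBy_normalizer] at hle
    have h1 : h * g * h⁻¹ ∈ hzj S := hle (conj_mem_conjBy hg)
    have h2 := mul_mem (mul_mem (inv_mem hh) h1) hh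
    rwa [show h⁻¹ * (h * g * h⁻¹) * h = g by group] at h2
  -- the element of `Z(J(S))`
  have hZc : ¬ zj S ≤ Subgroup.center G := fun hle => hnot fun g _ => by
    refine Subgroup.mem_normalizer_iff.2 fun z => ⟨fun hz => ?_, fun hz => ?_⟩
    · rwa [Subgroup.mem_center_iff.1 (hle hz) g, mul_inv_cancel_right]
    · have h1 := Subgroup.mem_center_iff.1 (hle hz) g⁻¹
      rw [show g⁻¹ * (g * z * g⁻¹) = z * g⁻¹ by group] at h1
      have h2 : z = g * z * g⁻¹ := mul_right_cancel h1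
      rw [h2]
      exact hz
  set π := QuotientGroup.mk' (Subgroup.center G) with hπ
  obtain ⟨w, ⟨x, hx, rfl⟩, hw1, hwp, hwfix⟩ := exists_fixed_order_p (R := (S : Subgroup G).map π)
    (W := (zj S).map π) (S.2.map π) ((isPGroup_zj S).map π) (fun h1 => hZc fun z hz => by
      refine (QuotientGroup.eq_one_iff (N := Subgroup.center G) z).1 (Subgroup.mem_bot.1 ?_)
      rw [← h1]
      exact ⟨z, hz, rfl⟩)
    ((Subgroup.map_mono (sylow_le_nz S)).trans (Subgroup.le_normalizer_map π))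
  refine ⟨
    { Q := Q', x := x, le_S := hQ'S
      zj_le_Q := hhZ.ge.trans (conjBy_mono hZQ)
      sylowN := hTeq ▸ hi
      notle := hnot'
      better := fun D P hP hZD hD hDH hPH hPD hlt => ?_
      x_mem := hx
      x_notcentral := fun hc => hw1 ((QuotientGroup.eq_one_iff x).2 hc)
      x_comm := fun s hs => ?_
      x_pow := (QuotientGroup.eq_one_iff _).1 (by rw [← hwp, ← map_pow]; rfl) }⟩
  · by_contra hno
    have h1 := hmax (D, P) ⟨hD, hZD, hDH, hno, hP, hPH, hPD⟩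
    rw [hTeq, card_conjBy, card_conjBy] at hlt
    rcases hlt with hlt | ⟨h2, h3⟩
    · exact absurd (lex_le (hcard Q) h1) (not_le.2 hlt)
    · have := Nat.mul_le_mul_right N h2
      simp only [μ] at h1
      omega
  · refine (QuotientGroup.eq_one_iff (N := Subgroup.center G) _).1 ?_
    show π ⁅x, s⁆ = 1
    rw [map_commutatorElement, commutatorElement_eq_one_iff_mul_comm]
    have := hwfix (π s) ⟨s, hs, rfl⟩
    conv_lhs => rw [← this]
    group

namespace Setup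

variable {S : Sylow p G} (c : Setup S)

/-- The normal closure of the element. -/
def B : Subgroup G :=
  Subgroup.closure {y | ∃ g ∈ Subgroup.normalizer (c.Q : Set G), g * c.x * g⁻¹ = y}

/-- The Sylow subgroup of `N(Q)`. -/
def T : Subgroup G := (S : Subgroup G) ⊓ Subgroup.normalizer (c.Q : Set G)

theorem x_mem_B : c.x ∈ c.B := Subgroup.subset_closure ⟨1, one_mem _, by simp⟩

theorem B_le : c.B ≤ c.Q := by
  refine (Subgroup.closure_le _).2 ?_
  rintro _ ⟨g, hg, rfl⟩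
  exact (Subgroup.mem_normalizer_iff.1 hg _).1 (c.zj_le_Q c.x_mem)

theorem norm_B : Subgroup.normalizer (c.Q : Set G) ≤ Subgroup.normalizer (c.B : Set G) := by
  refine fun n hn => mem_normalizer_closure ?_
  rintro _ ⟨g, hg, rfl⟩
  exact Subgroup.subset_closure ⟨n * g, mul_mem hn hg, by group⟩

theorem T_p : IsPGroup p c.T := S.2.to_le inf_le_left

theorem T_le_S : c.T ≤ (S : Subgroup G) := inf_le_left

theorem T_le_N : c.T ≤ Subgroup.normalizer (c.Q : Set G) := inf_le_right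

theorem T_le_H : c.T ≤ hzj S := c.T_le_S.trans (sylow_le_nz S)

theorem Q_le_T : c.Q ≤ c.T := le_inf c.le_S Subgroup.le_normalizer

theorem comm_BQ : ∀ b ∈ c.B, ∀ q ∈ c.Q, ⁅b, q⁆ ∈ Subgroup.center G := by
  intro b hb q hq
  set π := QuotientGroup.mk' (Subgroup.center G)
  have key : c.B ≤ (Subgroup.centralizer ({π q} : Set (G ⧸ Subgroup.center G))).comap π := by
    refine (Subgroup.closure_le _).2 ?_
    rintro _ ⟨g, hg, rfl⟩
    show π (g * c.x * g⁻¹) ∈ Subgroup.centralizer ({π q} : Set (G ⧸ Subgroup.center G))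
    rw [Subgroup.mem_centralizer_singleton_iff, ← commutatorElement_eq_one_iff_mul_comm,
      ← map_commutatorElement]
    refine (QuotientGroup.eq_one_iff _).2 ?_
    have h1 := conj_mem_center g (c.x_comm (g⁻¹ * q * g)
      (c.le_S ((Subgroup.mem_normalizer_iff''.1 hg q).1 hq)))
    rwa [show g * ⁅c.x, g⁻¹ * q * g⁆ * g⁻¹ = ⁅g * c.x * g⁻¹, q⁆ by
      simp only [commutatorElement_def]; group] at h1
  have h2 := key hb
  rw [Subgroup.mem_comap, Subgroup.mem_centralizer_singleton_iff,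
    ← commutatorElement_eq_one_iff_mul_comm, ← map_commutatorElement] at h2
  exact (QuotientGroup.eq_one_iff _).1 h2

theorem comm_BB : ∀ b ∈ c.B, ∀ b' ∈ c.B, ⁅b, b'⁆ ∈ Subgroup.center G :=
  fun b hb b' hb' => c.comm_BQ b hb b' (c.B_le hb')

theorem pow_B : ∀ b ∈ c.B, b ^ p ∈ Subgroup.center G := by
  intro b hb
  set π := QuotientGroup.mk' (Subgroup.center G)
  induction hb using Subgroup.closure_induction with
  | mem y hy =>
    obtain ⟨g, hg, rfl⟩ := hy
    rw [conj_pow]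
    exact conj_mem_center g c.x_pow
  | one => rw [one_pow]; exact one_mem _
  | mul u v hu hv i1 i2 =>
    refine (QuotientGroup.eq_one_iff (N := Subgroup.center G) _).1 ?_
    have hc : Commute (π u) (π v) := by
      rw [← commutatorElement_eq_one_iff_commute, ← map_commutatorElement]
      exact (QuotientGroup.eq_one_iff _).2 (c.comm_BB u hu v hv)
    show π ((u * v) ^ p) = 1
    rw [map_pow, map_mul, hc.mul_pow, ← map_pow, ← map_pow,
      show π (u ^ p) = 1 from (QuotientGroup.eq_one_iff _).2 i1,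
      show π (v ^ p) = 1 from (QuotientGroup.eq_one_iff _).2 i2, one_mul]
  | inv u hu i1 => rw [inv_pow]; exact inv_mem i1

variable (hLoc : Local S)
include c hLoc

/-- An element of `N(Q)` centralizing a suitable element of `Z(J(S))` modulo the centre normalizes
`Z(J(S))`. -/
theorem stab_mem {z : G} (hz : z ∈ zj S) (hzc : z ∉ Subgroup.center G)
    (hzQ : ∀ q ∈ c.Q, ⁅z, q⁆ ∈ Subgroup.center G) {g : G}
    (hg : g ∈ Subgroup.normalizer (c.Q : Set G)) (hgz : ⁅g, z⁆ ∈ Subgroup.center G) :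
    g ∈ hzj S := by
  classical
  set π := QuotientGroup.mk' (Subgroup.center G) with hπ
  have hπ1 : ∀ u v : G, ⁅u, v⁆ ∈ Subgroup.center G → π u * π v = π v * π u := fun u v h => by
    rw [← commutatorElement_eq_one_iff_mul_comm, ← map_commutatorElement]
    exact (QuotientGroup.eq_one_iff _).2 h
  set G₁ := (Subgroup.centralizer ({π z} : Set (G ⧸ Subgroup.center G))).comap π with hG₁
  have hmem : ∀ u : G, u ∈ G₁ ↔ ⁅u, z⁆ ∈ Subgroup.center G := fun u => by
    rw [hG₁, Subgroup.mem_comap, Subgroup.mem_centralizer_singleton_iff,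
      ← commutatorElement_eq_one_iff_mul_comm, ← map_commutatorElement]
    exact QuotientGroup.eq_one_iff _
  have hJ : Cfsg.thompsonSubgroupAOf (S : Subgroup G) ≤ G₁ := fun w hw => (hmem w).2 (by
    rw [commutatorElement_eq_one_iff_mul_comm.2 (zj_commute S hz hw)]; exact one_mem _)
  have hgQ : conjBy g (zj S) ≤ c.Q := by
    refine (conjBy_mono c.zj_le_Q).trans ?_
    rw [conjBy_eq_iff.2 hg]
  by_cases htop : G₁ = ⊤
  swap
  · refine hLoc G₁ htop hJ g ((hmem g).2 hgz) c.Q (fun q hq => (hmem q).2 ?_)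
      (S.2.to_le c.le_S) c.zj_le_Q hgQ
    rw [← commutatorElement_inv z q]
    exact inv_mem (hzQ q hq)
  -- now `z` is central modulo the centre
  set X := Subgroup.normalizer (c.Q : Set G) with hX
  have hcm : ∀ u : G, ⁅u, z⁆ ∈ Subgroup.center G := fun u => (hmem u).1 (htop ▸ Subgroup.mem_top u)
  have hZmem : ∀ u : X, ⁅(u : G), z⁆ ∈ Subgroup.center G := fun u => hcm u
  let φ : G →* Subgroup.center G := MonoidHom.mk' (fun u => ⟨⁅u, z⁆, hcm u⟩) fun u v => Subtype.ext (by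
    show ⁅u * v, z⁆ = ⁅u, z⁆ * ⁅v, z⁆
    rw [show ⁅u * v, z⁆ = u * ⁅v, z⁆ * u⁻¹ * ⁅u, z⁆ by simp only [commutatorElement_def]; group,
      Subgroup.mem_center_iff.1 (hcm v) u, mul_inv_cancel_right,
      ← Subgroup.mem_center_iff.1 (hcm v) ⁅u, z⁆])
  have hφ : ∀ u : G, u ∈ φ.ker ↔ u * z = z * u := fun u => by
    rw [MonoidHom.mem_ker, ← commutatorElement_eq_one_iff_mul_comm, Subtype.ext_iff]; rfl
  -- `g` splits as a centralizing element times an element of `T`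
  set φX := φ.comp X.subtype with hφX
  have hrange : IsPGroup p φX.range := by
    rintro ⟨_, u, rfl⟩
    obtain ⟨j, hj⟩ := isPGroup_zj S ⟨z, hz⟩
    refine ⟨j, Subtype.ext (Subtype.ext ?_)⟩
    have hzj' : z ^ p ^ j = 1 := congrArg Subtype.val hj
    have hpow : ∀ i : ℕ, ⁅(u : G), z ^ i⁆ = ⁅(u : G), z⁆ ^ i := fun i => by
      induction i with
      | zero => simp [commutatorElement_def]
      | succ i ih =>
        rw [pow_succ' z, pow_succ' ⁅(u : G), z⁆, ← ih,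
          show ⁅(u : G), z * z ^ i⁆ = ⁅(u : G), z⁆ * (z * ⁅(u : G), z ^ i⁆ * z⁻¹) by
            simp only [commutatorElement_def]; group]
        rw [ih, Subgroup.mem_center_iff.1 (pow_mem (hcm u) i) z, mul_inv_cancel_right]
    show ⁅(u : G), z⁆ ^ p ^ j = 1
    rw [← hpow, hzj']
    simp [commutatorElement_def]
  set T' := c.T.subgroupOf X with hT'
  have hsup : φX.ker ⊔ T' = ⊤ := by
    refine Subgroup.index_eq_one.1 ?_
    obtain ⟨n, hn⟩ := IsPGroup.iff_card.1 hrange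
    have h1 : (φX.ker ⊔ T').index ∣ p ^ n :=
      (Subgroup.index_dvd_of_le le_sup_left).trans (by rw [Subgroup.index_ker, hn])
    have h2 : (φX.ker ⊔ T').index ∣ T'.index := Subgroup.index_dvd_of_le le_sup_right
    obtain ⟨i, -, hi⟩ := (Nat.dvd_prime_pow Fact.out).1 h1
    rcases i with _ | i
    · rw [hi, pow_zero]
    · exact absurd ((dvd_pow_self p (Nat.succ_ne_zero i)).trans (hi ▸ h2)) c.sylowN
  have hgmem : (⟨g, hg⟩ : X) ∈ ((φX.ker ⊔ T' : Subgroup X) : Set X) := by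
    rw [hsup]; exact Subgroup.mem_top _
  rw [Subgroup.normal_mul] at hgmem
  obtain ⟨k, hk, t, ht, hkt⟩ := hgmem
  have hk' : (k : G) * z = z * k := (hφ k).1 hk
  set G₂ := Subgroup.centralizer ({z} : Set G) with hG₂
  have hG₂t : G₂ ≠ ⊤ := fun h => hzc (Subgroup.mem_center_iff.2 fun u =>
    Subgroup.mem_centralizer_singleton_iff.1 ((Subgroup.eq_top_iff' _).1 h u))
  have hkH : (k : G) ∈ hzj S := by
    refine hLoc G₂ hG₂t (fun w hw => Subgroup.mem_centralizer_singleton_iff.2 (zj_commute S hz hw))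
      k (Subgroup.mem_centralizer_singleton_iff.2 hk') (c.Q ⊓ G₂) inf_le_right
      ((S.2.to_le c.le_S).to_le inf_le_left)
      (le_inf c.zj_le_Q fun w hw => Subgroup.mem_centralizer_singleton_iff.2
        (zj_commute S hz hw.1)) (le_inf ?_ ?_)
    · refine (conjBy_mono c.zj_le_Q).trans ?_
      rw [conjBy_eq_iff.2 k.2]
    · refine conjBy_le_iff.2 fun w hw => ?_
      have hwz : w ∈ G₂ := Subgroup.mem_centralizer_singleton_iff.2 (zj_commute S hz hw.1)
      have hkz : (k : G) ∈ G₂ := Subgroup.mem_centralizer_singleton_iff.2 hk'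
      exact mul_mem (mul_mem hkz hwz) (inv_mem hkz)
  rw [show g = (k : G) * (t : G) from (congrArg Subtype.val hkt).symm]
  exact mul_mem hkH (c.T_le_H ht)

theorem centralizer_mem {g : G} (hg : g ∈ Subgroup.normalizer (c.Q : Set G))
    (hgB : ∀ b ∈ c.B, ⁅g, b⁆ ∈ Subgroup.center G) : g ∈ hzj S :=
  c.stab_mem hLoc c.x_mem c.x_notcentral (fun q hq => c.x_comm q (c.le_S hq)) hg
    (hgB _ c.x_mem_B)

/-- An element of `T` centralizing `B` modulo the centre lies in `Q`. -/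
theorem mem_Q {t : G} (ht : t ∈ c.T) (htB : ∀ b ∈ c.B, ⁅t, b⁆ ∈ Subgroup.center G) : t ∈ c.Q := by
  classical
  set X := Subgroup.normalizer (c.Q : Set G) with hX
  let Cv : Subgroup G :=
    { carrier := {g | g ∈ X ∧ ∀ b ∈ c.B, ⁅g, b⁆ ∈ Subgroup.center G}
      one_mem' := ⟨one_mem X, fun b _ => by simp [one_mem]⟩
      mul_mem' := fun {g k} hg hk => ⟨mul_mem hg.1 hk.1, fun b hb => by
        rw [show ⁅g * k, b⁆ = g * ⁅k, b⁆ * g⁻¹ * ⁅g, b⁆ by simp only [commutatorElement_def]; group]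
        exact mul_mem (conj_mem_center g (hk.2 b hb)) (hg.2 b hb)⟩
      inv_mem' := fun {g} hg => ⟨inv_mem hg.1, fun b hb => by
        rw [show ⁅g⁻¹, b⁆ = g⁻¹ * (⁅g, b⁆)⁻¹ * g⁻¹⁻¹ by simp only [commutatorElement_def]; group]
        exact conj_mem_center g⁻¹ (inv_mem (hg.2 b hb))⟩ }
  have hCvX : Cv ≤ X := fun _ hg => hg.1
  have hCvn : ∀ g ∈ X, ∀ k ∈ Cv, g * k * g⁻¹ ∈ Cv := fun g hg k hk =>
    ⟨mul_mem (mul_mem hg hk.1) (inv_mem hg), fun b hb => by
      have hb' : g⁻¹ * b * g ∈ c.B := (Subgroup.mem_normalizer_iff''.1 (c.norm_B hg) b).1 hb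
      rw [show ⁅g * k * g⁻¹, b⁆ = g * ⁅k, g⁻¹ * b * g⁆ * g⁻¹ by
        simp only [commutatorElement_def]; group]
      exact conj_mem_center g (hk.2 _ hb')⟩
  have hXCv : X ≤ Subgroup.normalizer (Cv : Set G) := fun g hg =>
    conjBy_eq_iff.1 (conjBy_eq_of_le (conjBy_le_iff.2 (hCvn g hg)))
  set D := c.T ⊓ Cv with hD
  have hQD : c.Q ≤ D := le_inf c.Q_le_T fun q hq => ⟨Subgroup.le_normalizer hq, fun b hb => by
    rw [← commutatorElement_inv b q]; exact inv_mem (c.comm_BQ b hb q hq)⟩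
  by_contra htQ
  have hlt : c.Q < D := lt_of_le_not_ge hQD fun h =>
    htQ (h ⟨ht, c.T_le_N ht, htB⟩)
  have hTD : c.T ≤ Subgroup.normalizer (D : Set G) := fun g hg =>
    conjBy_eq_iff.1 (conjBy_eq_of_le (conjBy_le_iff.2 fun k hk =>
      ⟨c.T.mul_mem (c.T.mul_mem hg hk.1) (c.T.inv_mem hg), hCvn g (c.T_le_N hg) k hk.2⟩))
  have hND := c.better D c.T c.T_p (c.zj_le_Q.trans hQD) (c.T_p.to_le inf_le_left)
    (inf_le_left.trans c.T_le_H) c.T_le_H hTD (Or.inr ⟨le_rfl, card_lt_card_of_lt hlt⟩)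
  refine c.notle fun g hg => ?_
  haveI : (Cv.subgroupOf X).Normal := (Subgroup.normal_subgroupOf_iff_le_normalizer hCvX).2 hXCv
  let Tm : Sylow p X := (c.T_p.of_equiv (Subgroup.subgroupOfEquivOfLe c.T_le_N).symm).toSylow c.sylowN
  have hi : ¬ p ∣ D.relIndex Cv := by
    have h1 := CfsgLib.Fusion.not_dvd_relIndex_inf_of_normal Tm (Cv.subgroupOf X)
    rwa [← Subgroup.relIndex_map_map_of_injective _ _ X.subtype_injective,
      Subgroup.map_inf _ _ _ X.subtype_injective, Subgroup.map_subgroupOf_eq_of_le hCvX,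
      show ((Tm : Subgroup X)).map X.subtype = c.T from
        Subgroup.map_subgroupOf_eq_of_le c.T_le_N] at h1
  obtain ⟨k, hk, hle⟩ := exists_conj_le_of_not_dvd_relIndex (c.T_p.to_le inf_le_left) inf_le_right hi
    (isPGroup_conjBy g (c.T_p.to_le inf_le_left : IsPGroup p D))
    ((conjBy_mono inf_le_right).trans (conjBy_eq_iff.2 (hXCv hg)).le)
  have h3 : k * g ∈ hzj S := hND (conjBy_eq_iff.1 (conjBy_eq_of_le (by rwa [← conjBy_conjBy])))
  have h4 : k ∈ hzj S := c.centralizer_mem hLoc hk.1 hk.2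
  have := mul_mem (inv_mem h4) h3
  rwa [inv_mul_cancel_left] at this

/-- Some element of `T` outside `Q` is quadratic on `B`. -/
theorem exists_quad (hp : p ≠ 2) : ∃ f ∈ c.T, f ∉ c.Q ∧ Quad p c.B f := by
  classical
  by_contra hno
  push Not at hno
  have hpel : ∀ f ∈ c.T, ∃ j : ℕ, f ^ p ^ j = 1 := fun f hf => by
    obtain ⟨j, hj⟩ := c.T_p ⟨f, hf⟩
    exact ⟨j, congrArg Subtype.val hj⟩
  have hW : ∀ W : Subgroup G, W ≤ c.T → c.B ≤ Subgroup.normalizer (W : Set G) →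
      (∀ u ∈ W, ∀ v ∈ W, ⁅u, v⁆ ∈ Subgroup.center G) → W ≤ c.Q := fun W hWT hBW hWc f hf => by
    by_contra hfQ
    exact hno f (hWT hf) hfQ ⟨hpel f (hWT hf), fun b hb => quad_of_mem hf hBW hWc b hb⟩
  set X := Subgroup.normalizer (c.Q : Set G) with hX
  rcases eq_or_lt_of_le c.T_le_S with hTS | hTS
  · -- `T = S`
    have hXtop : X = ⊤ := by
      by_contra hne
      refine c.notle fun g hg => hLoc X hne
        ((thompson_le S).trans (hTS.ge.trans c.T_le_N)) g hg c.Q Subgroup.le_normalizer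
        (S.2.to_le c.le_S) c.zj_le_Q ?_
      refine (conjBy_mono c.zj_le_Q).trans ?_
      rw [conjBy_eq_iff.2 hg]
    haveI hQn : c.Q.Normal := Subgroup.normalizer_eq_top_iff.1 hXtop
    have hBn : c.B.Normal := Subgroup.normalizer_eq_top_iff.1 (top_le_iff.1 (hXtop ▸ c.norm_B))
    have hcen : ∀ U ∈ CfsgLib.Fusion.maxAb (S : Subgroup G),
        (⁅c.B, c.B⁆ : Subgroup G) ≤ U := by
      intro U hU
      rw [Subgroup.commutator_le]
      intro u hu v hv
      refine CfsgLib.Fusion.mem_of_commute_maxAb hU ?_ fun a _ =>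
        Subgroup.mem_center_iff.1 (c.comm_BB u hu v hv) a
      have hS : c.B ≤ (S : Subgroup G) := c.B_le.trans c.le_S
      rw [commutatorElement_def]
      exact mul_mem (mul_mem (mul_mem (hS hu) (hS hv)) (inv_mem (hS hu))) (inv_mem (hS hv))
    by_cases hall : ∀ U ∈ CfsgLib.Fusion.maxAb (S : Subgroup G), c.B ≤ U
    · have h1 : ∀ U ∈ CfsgLib.Fusion.maxAb (S : Subgroup G), U ≤ c.Q := fun U hU u hu => by
        refine c.mem_Q hLoc (hTS.ge (hU.1 hu)) fun b hb => ?_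
        rw [commutatorElement_eq_one_iff_mul_comm.2 (congrArg Subtype.val
          (hU.2.1.is_comm.comm (⟨u, hu⟩ : U) ⟨b, hall U hU hb⟩) : u * b = b * u)]
        exact one_mem _
      refine c.notle fun g _ => conjBy_eq_iff.1 ?_
      rw [zj_eq_of_all S c.le_S h1, conjBy_zj, conjBy_eq_iff.2 ((Subgroup.eq_top_iff' _).1 hXtop g)]
    push Not at hall
    obtain ⟨U₀, hU₀, hBU₀⟩ := hall
    obtain ⟨U, hU, -, hBU, hBnU⟩ := CfsgLib.Fusion.maxAb_replacement_sylow hp S le_rfl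
      Subgroup.le_normalizer hBn (c.B_le.trans c.le_S) ⟨U₀, hU₀, hcen U₀ hU₀, hBU₀⟩
    have hUQ : U ≤ c.Q := hW U (hU.1.trans hTS.ge) hBnU fun u hu v hv => by
      rw [commutatorElement_eq_one_iff_mul_comm.2 (congrArg Subtype.val
        (hU.2.1.is_comm.comm (⟨u, hu⟩ : U) ⟨v, hv⟩) : u * v = v * u)]
      exact one_mem _
    refine hBU ((Subgroup.closure_le _).2 ?_)
    rintro _ ⟨g, -, rfl⟩
    have hUQ' : U ∈ CfsgLib.Fusion.maxAb c.Q :=
      ⟨hUQ, hU.2.1, fun A hA hAc => hU.2.2 A (hA.trans c.le_S) hAc⟩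
    have h2 := CfsgLib.Fusion.map_mem_maxAb (MulAut.conj g⁻¹) hUQ'
    rw [show c.Q.map (MulAut.conj g⁻¹).toMonoidHom = c.Q from
      conjBy_eq_iff.2 ((Subgroup.eq_top_iff' _).1 hXtop g⁻¹)] at h2
    have h3 : U.map (MulAut.conj g⁻¹).toMonoidHom ∈ CfsgLib.Fusion.maxAb (S : Subgroup G) :=
      ⟨h2.1.trans c.le_S, h2.2.1, fun A hA hAc => (hU.2.2 A hA hAc).trans
        (card_conjBy g⁻¹ U).ge⟩
    have h4 : c.x ∈ conjBy g⁻¹ U := by
      have h5 : zj S ≤ U.map (MulAut.conj g⁻¹).toMonoidHom := by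
        rw [zj, ← CfsgLib.Fusion.iInf_maxAb]; exact iInf₂_le _ h3
      exact h5 c.x_mem
    have h6 := mem_conjBy.1 h4
    simpa using h6
  · -- `T < S`
    set T₂ := (S : Subgroup G) ⊓ Subgroup.normalizer (c.T : Set G) with hT₂
    have hlt : c.T < T₂ := CfsgLib.Subnormalizer.lt_inf_normalizer S.2 hTS
    have hT₂T : ∀ s ∈ T₂, ∀ u ∈ c.T, s * u * s⁻¹ ∈ c.T := fun s hs u hu =>
      (Subgroup.mem_normalizer_iff.1 hs.2 u).1 hu
    have hTB : c.T ≤ Subgroup.normalizer (c.B : Set G) := c.T_le_N.trans c.norm_B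
    have hBs : ∀ s ∈ T₂, ∀ b ∈ c.B, s * b * s⁻¹ ∈ c.Q := by
      intro s hs
      refine conjBy_le_iff.1 (hW _ ?_ ?_ ?_)
      · exact conjBy_le_iff.2 fun b hb => hT₂T s hs b (c.Q_le_T (c.B_le hb))
      · intro b hb
        have h1 : s⁻¹ * b * s ∈ c.T := (Subgroup.mem_normalizer_iff''.1 hs.2 b).1
          (c.Q_le_T (c.B_le hb))
        rw [← CfsgLib.Fusion.conjBy_normalizer]
        exact mem_conjBy.2 (hTB h1)
      · intro u hu v hv
        have h1 := c.comm_BB _ (mem_conjBy.1 hu) _ (mem_conjBy.1 hv)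
        refine mem_center_of_conj s⁻¹ ?_
        rwa [show s⁻¹ * ⁅u, v⁆ * s⁻¹⁻¹ = ⁅s⁻¹ * u * s, s⁻¹ * v * s⁆ by
          simp only [commutatorElement_def]; group]
    set gen := {y | ∃ s ∈ T₂, ∃ b ∈ c.B, s * b * s⁻¹ = y} ∪ ((zj S : Subgroup G) : Set G) with hgen
    set O := Subgroup.closure gen with hO
    have hBO : c.B ≤ O := fun b hb =>
      Subgroup.subset_closure (Or.inl ⟨1, one_mem _, b, hb, by simp⟩)
    have hOQ : O ≤ c.Q := (Subgroup.closure_le _).2 (by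
      rintro y (⟨s, hs, b, hb, rfl⟩ | hy)
      · exact hBs s hs b hb
      · exact c.zj_le_Q hy)
    have hT₂O : T₂ ≤ Subgroup.normalizer (O : Set G) := fun t ht => mem_normalizer_closure (by
      rintro y (⟨s, hs, b, hb, rfl⟩ | hy)
      · exact Subgroup.subset_closure (Or.inl ⟨t * s, mul_mem ht hs, b, hb, by group⟩)
      · exact Subgroup.subset_closure (Or.inr
          ((Subgroup.mem_normalizer_iff.1 (sylow_le_nz S ht.1) y).1 hy)))
    have hkey : ∀ s ∈ T₂, ∀ b ∈ c.B, ∀ y ∈ gen, ⁅s * b * s⁻¹, y⁆ ∈ Subgroup.center G := by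
      intro s hs b hb y hy
      have h1 : s⁻¹ * y * s ∈ c.Q := by
        rcases hy with ⟨t, ht, b', hb', rfl⟩ | hy
        · have := hBs (s⁻¹ * t) (mul_mem (inv_mem hs) ht) b' hb'
          rwa [show s⁻¹ * t * b' * (s⁻¹ * t)⁻¹ = s⁻¹ * (t * b' * t⁻¹) * s by group] at this
        · exact c.zj_le_Q ((Subgroup.mem_normalizer_iff''.1 (sylow_le_nz S hs.1) y).1 hy)
      have h2 := conj_mem_center s (c.comm_BQ b hb _ h1)
      rwa [show s * ⁅b, s⁻¹ * y * s⁆ * s⁻¹ = ⁅s * b * s⁻¹, y⁆ by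
        simp only [commutatorElement_def]; group] at h2
    have hOc : ∀ u ∈ O, ∀ v ∈ O, ⁅u, v⁆ ∈ Subgroup.center G := by
      refine commutator_closure_central ?_
      rintro u (⟨s, hs, b, hb, rfl⟩ | hu) v hv
      · exact hkey s hs b hb v hv
      · rcases hv with ⟨s, hs, b, hb, rfl⟩ | hv
        · rw [← commutatorElement_inv]
          exact inv_mem (hkey s hs b hb u (Or.inr hu))
        · rw [commutatorElement_eq_one_iff_mul_comm.2 (zj_commute S hv hu.1)]
          exact one_mem _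
    -- words in `X` and `T₂`
    have hwords : ∀ l : List G, (∀ w ∈ l, w ∈ X ∨ w ∈ T₂) → conjBy l.prod O ≤ c.Q := by
      intro l
      induction hn : l.length using Nat.strong_induction_on generalizing l with
      | _ n ih =>
      intro hl
      rcases l.eq_nil_or_concat with rfl | ⟨l', w, rfl⟩
      · rw [List.prod_nil, conjBy_one]; exact hOQ
      rw [List.concat_eq_append] at hl hn ⊢
      rw [List.length_append, List.length_singleton] at hn
      rw [List.prod_append, List.prod_singleton]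
      rcases hl w (by simp) with hwX | hwT
      swap
      · rw [← conjBy_conjBy, conjBy_eq_iff.2 (hT₂O hwT)]
        exact ih _ (by omega) l' rfl fun z hz => hl z (by simp [hz])
      rcases l' with _ | ⟨t, l''⟩
      · rw [List.prod_nil, one_mul]
        refine (conjBy_mono hOQ).trans ?_
        rw [conjBy_eq_iff.2 hwX]
      rw [List.length_cons] at hn
      set l₁ := l'' ++ [w] with hl₁
      have hl₁' : ∀ z ∈ l₁, z ∈ X ∨ z ∈ T₂ := fun z hz => hl z (by
        rw [List.cons_append]; exact List.mem_cons_of_mem _ hz)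
      have h1 := ih l₁.length (by rw [hl₁, List.length_append, List.length_singleton]; omega) l₁ rfl hl₁'
      rw [List.prod_cons, show t * l''.prod * w = t * l₁.prod by
        rw [hl₁, List.prod_append, List.prod_singleton, mul_assoc]]
      rcases hl t (by simp) with htX | htT
      · rw [← conjBy_conjBy]
        refine (conjBy_mono h1).trans ?_
        rw [conjBy_eq_iff.2 htX]
      refine hW _ ?_ ?_ ?_
      · rw [← conjBy_conjBy]
        refine (conjBy_mono (h1.trans c.Q_le_T)).trans ?_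
        rw [conjBy_eq_iff.2 htT.2]
      · set g := t * l₁.prod with hg
        have h2 : conjBy g⁻¹ O ≤ c.Q := by
          rw [hg, _root_.mul_inv_rev, List.prod_inv_reverse, ← conjBy_conjBy,
            conjBy_eq_iff.2 (inv_mem (hT₂O htT))]
          refine ih _ ?_ _ rfl fun z hz => ?_
          · rw [List.length_reverse, List.length_map, hl₁, List.length_append, List.length_singleton]
            omega
          · rw [List.mem_reverse, List.mem_map] at hz
            obtain ⟨z', hz', rfl⟩ := hz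
            exact (hl₁' z' hz').imp inv_mem inv_mem
        intro b hb
        rw [← CfsgLib.Fusion.conjBy_normalizer]
        refine mem_conjBy.2 (hT₂O ?_)
        have h3 := h2 (conj_mem_conjBy (hBO hb))
        rw [inv_inv] at h3
        exact hlt.le (c.Q_le_T h3)
      · intro u hu v hv
        refine mem_center_of_conj (t * l₁.prod)⁻¹ ?_
        have := hOc _ (mem_conjBy.1 hu) _ (mem_conjBy.1 hv)
        rwa [show (t * l₁.prod)⁻¹ * ⁅u, v⁆ * (t * l₁.prod)⁻¹⁻¹ =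
          ⁅(t * l₁.prod)⁻¹ * u * (t * l₁.prod), (t * l₁.prod)⁻¹ * v * (t * l₁.prod)⁆ by
          simp only [commutatorElement_def]; group]
    set Φ := Subgroup.closure
      {y | ∃ l : List G, (∀ w ∈ l, w ∈ X ∨ w ∈ T₂) ∧ y ∈ conjBy l.prod O} with hΦ
    have hΦQ : Φ ≤ c.Q := (Subgroup.closure_le _).2 (by
      rintro y ⟨l, hl, hy⟩; exact hwords l hl hy)
    have hΦn : ∀ w, w ∈ X ∨ w ∈ T₂ → w ∈ Subgroup.normalizer (Φ : Set G) := fun w hw =>
      mem_normalizer_closure (by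
        rintro y ⟨l, hl, hy⟩
        refine Subgroup.subset_closure ⟨w :: l, List.forall_mem_cons.2 ⟨hw, hl⟩, ?_⟩
        rw [List.prod_cons, ← conjBy_conjBy]
        exact conj_mem_conjBy hy)
    have hZΦ : zj S ≤ Φ := fun z hz => Subgroup.subset_closure ⟨[], by simp, by
      rw [List.prod_nil, conjBy_one]; exact Subgroup.subset_closure (Or.inr hz)⟩
    have hN := c.better Φ T₂ (S.2.to_le inf_le_left) hZΦ ((S.2.to_le c.le_S).to_le hΦQ)
      (hΦQ.trans (c.Q_le_T.trans c.T_le_H)) (inf_le_left.trans (sylow_le_nz S))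
      (fun w hw => hΦn w (Or.inr hw)) (Or.inl (card_lt_card_of_lt hlt))
    exact c.notle fun g hg => hN (hΦn g (Or.inl hg))

/-- The conclusion in this configuration. -/
theorem concl (hp : p ≠ 2) : Concl S := by
  classical
  set X := Subgroup.normalizer (c.Q : Set G) with hX
  set B := c.B with hBdef
  set H := hzj S with hH
  have hBX : X ≤ Subgroup.normalizer (B : Set G) := c.norm_B
  -- the best subgroup generated by `Q` and quadratic elements
  set N := Nat.card G + 1 with hN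
  have hcard : ∀ D : Subgroup G, Nat.card D < N := fun D => Nat.lt_succ_of_le D.card_le_card_group
  let gen : Subgroup G → Subgroup G := fun R =>
    Subgroup.closure ((c.Q : Set G) ∪ {σ | σ ∈ R ∧ σ ∈ X ∧ Quad p B σ})
  have hgenQ : ∀ R, c.Q ≤ gen R := fun R q hq => Subgroup.subset_closure (Or.inl hq)
  have hgenσ : ∀ R σ, σ ∈ R → σ ∈ X → Quad p B σ → σ ∈ gen R := fun R σ h1 h2 h3 =>
    Subgroup.subset_closure (Or.inr ⟨h1, h2, h3⟩)
  have hgenle : ∀ R, c.Q ≤ R → gen R ≤ R := fun R hR =>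
    (Subgroup.closure_le _).2 (Set.union_subset hR fun σ hσ => hσ.1)
  have hgenmono : ∀ R R', R ≤ R' → gen R ≤ gen R' := fun R R' h =>
    Subgroup.closure_mono (Set.union_subset_union_right _ fun σ hσ => ⟨h hσ.1, hσ.2⟩)
  have hgenX : ∀ R, gen R ≤ X := fun R =>
    (Subgroup.closure_le _).2 (Set.union_subset Subgroup.le_normalizer fun σ hσ => hσ.2.1)
  have hgennorm : ∀ (R : Subgroup G) g, g ∈ X → g ∈ Subgroup.normalizer (R : Set G) →
      g ∈ Subgroup.normalizer ((gen R : Subgroup G) : Set G) := fun R g hgX hgR => mem_normalizer_closure (by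
    rintro σ (hσ | ⟨h1, h2, h3⟩)
    · exact Subgroup.subset_closure (Or.inl ((Subgroup.mem_normalizer_iff.1 hgX σ).1 hσ))
    · exact Subgroup.subset_closure (Or.inr ⟨(Subgroup.mem_normalizer_iff.1 hgR σ).1 h1,
        mul_mem (mul_mem hgX h2) (inv_mem hgX), h3.conj (hBX hgX)⟩))
  let Fam : Subgroup G × Subgroup G → Prop := fun a =>
    a.1 ≤ c.T ∧ c.Q ≤ a.1 ∧ a.1 ≤ gen a.1 ∧ ¬ X ⊓ Subgroup.normalizer (a.1 : Set G) ≤ H ∧
      IsPGroup p a.2 ∧ a.2 ≤ H ⊓ X ∧ a.2 ≤ Subgroup.normalizer (a.1 : Set G)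
  let μ : Subgroup G × Subgroup G → ℕ := fun a => Nat.card a.1 * N + Nat.card a.2
  obtain ⟨⟨A₁, P₁⟩, ⟨hA₁T, hQA₁, hA₁gen, hA₁not, hP₁, hP₁H, hP₁N⟩, hmax⟩ :=
    exists_max_pair Fam ⟨⟨c.Q, ⊥⟩, c.Q_le_T, le_rfl, hgenQ _,
      fun h => c.notle fun g hg => h ⟨hg, hg⟩, IsPGroup.of_bot, bot_le, bot_le⟩ μ
  -- conjugate so that a Sylow subgroup of the normalizer lies in `T`
  have hTi : ¬ p ∣ c.T.relIndex (H ⊓ X) := fun h =>
    c.sylowN (h.trans (Dvd.intro _ (Subgroup.relIndex_mul_relIndex _ _ _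
      (le_inf c.T_le_H c.T_le_N) inf_le_right)))
  obtain ⟨γ, hγ, hγT⟩ := exists_conj_le_of_not_dvd_relIndex c.T_p (le_inf c.T_le_H c.T_le_N) hTi
    (hP₁.to_sup_of_normal_right' (c.T_p.to_le hA₁T) hP₁N)
    (sup_le hP₁H (hA₁T.trans (le_inf c.T_le_H c.T_le_N)))
  have hγX : γ ∈ X := hγ.2
  set A := conjBy γ A₁ with hA
  have hAT : A ≤ c.T := (conjBy_mono le_sup_right).trans hγT
  have hQA : c.Q ≤ A := (conjBy_eq_iff.2 hγX).ge.trans (conjBy_mono hQA₁)
  have hAgen : A ≤ gen A := by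
    refine (conjBy_mono hA₁gen).trans ?_
    rw [conjBy, MonoidHom.map_closure]
    refine Subgroup.closure_mono ?_
    rintro _ ⟨σ, hσ | ⟨h1, h2, h3⟩, rfl⟩
    · exact Or.inl ((Subgroup.mem_normalizer_iff.1 hγX σ).1 hσ)
    · exact Or.inr ⟨conj_mem_conjBy h1, mul_mem (mul_mem hγX h2) (inv_mem hγX),
        h3.conj (hBX hγX)⟩
  set Y := X ⊓ Subgroup.normalizer (A : Set G) with hY
  have hYnot : ¬ Y ≤ H := fun h => hA₁not fun g hg => by
    have h1 : γ * g * γ⁻¹ ∈ Y := ⟨X.mul_mem (X.mul_mem hγX hg.1) (X.inv_mem hγX), by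
      rw [hA, ← CfsgLib.Fusion.conjBy_normalizer]; exact conj_mem_conjBy hg.2⟩
    have h2 := H.mul_mem (H.mul_mem (H.inv_mem hγ.1) (h h1)) hγ.1
    rwa [show γ⁻¹ * (γ * g * γ⁻¹) * γ = g by group] at h2
  set T₁ := c.T ⊓ Subgroup.normalizer (A : Set G) with hT₁
  have hP₁T₁ : conjBy γ P₁ ≤ T₁ := by
    refine le_inf ((conjBy_mono le_sup_left).trans hγT) ?_
    rw [hA, ← CfsgLib.Fusion.conjBy_normalizer]
    exact conjBy_mono hP₁N
  have hbig : ∀ R : Subgroup G, R ≤ c.T → c.Q ≤ R → R ≤ gen R → A < R →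
      X ⊓ Subgroup.normalizer (R : Set G) ≤ H := by
    intro R hR1 hR2 hR3 hlt
    by_contra hno
    have h1 := hmax (R, ⊥) ⟨hR1, hR2, hR3, hno, IsPGroup.of_bot, bot_le, bot_le⟩
    have h2 := lex_le (hcard P₁) h1
    have h3 := card_lt_card_of_lt hlt
    rw [hA, card_conjBy] at h3
    exact absurd h3 (not_lt.2 h2)
  have hP₁max : ∀ P : Subgroup G, IsPGroup p P → P ≤ H ⊓ Y → Nat.card P ≤ Nat.card T₁ := by
    intro P hP hPY
    have h1 := hmax (A, P) ⟨hAT, hQA, hAgen, hYnot, hP, le_inf (hPY.trans inf_le_left)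
      ((hPY.trans inf_le_right).trans inf_le_left), (hPY.trans inf_le_right).trans inf_le_right⟩
    simp only [μ, hA, card_conjBy] at h1
    have h2 : Nat.card P ≤ Nat.card P₁ := by omega
    exact h2.trans ((card_conjBy γ P₁).ge.trans (Subgroup.card_le_of_le hP₁T₁))
  have hT₁HY : T₁ ≤ H ⊓ Y := le_inf (inf_le_left.trans c.T_le_H)
    (le_inf (inf_le_left.trans c.T_le_N) inf_le_right)
  have hT₁p : IsPGroup p T₁ := c.T_p.to_le inf_le_left
  have hAT₁ : A ≤ T₁ := le_inf hAT Subgroup.le_normalizer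
  -- an element of `Σ` normalizing `A` outside it
  obtain ⟨σ, hσ₁, hσA, hσq⟩ : ∃ σ ∈ T₁, σ ∉ A ∧ Quad p B σ := by
    by_contra hno
    push Not at hno
    have hin : ∀ σ ∈ T₁, Quad p B σ → σ ∈ A := fun σ h1 h2 => by
      by_contra h3; exact hno σ h1 h3 h2
    set E := gen c.T with hE
    have hET : E ≤ c.T := hgenle _ c.Q_le_T
    obtain ⟨f, hfT, hfQ, hfq⟩ := c.exists_quad hLoc hp
    have hQE : c.Q < E := lt_of_le_not_ge (hgenQ _) fun h =>
      hfQ (h (hgenσ _ f hfT (c.T_le_N hfT) hfq))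
    have hTE : c.T ≤ Subgroup.normalizer (E : Set G) := fun g hg =>
      hgennorm _ g (c.T_le_N hg) (Subgroup.le_normalizer hg)
    have hNE := c.better E c.T c.T_p (c.zj_le_Q.trans (hgenQ _)) (c.T_p.to_le hET)
      (hET.trans c.T_le_H) c.T_le_H hTE (Or.inr ⟨le_rfl, card_lt_card_of_lt hQE⟩)
    have hAE : A < E := by
      refine lt_of_le_not_ge (hAgen.trans (hgenmono _ _ hAT)) fun h => ?_
      have hEA : E = A := le_antisymm h (hAgen.trans (hgenmono _ _ hAT))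
      exact hYnot (inf_le_right.trans (hEA ▸ hNE))
    rcases eq_or_lt_of_le (inf_le_left : T₁ ≤ c.T) with he | hlt
    · refine hAE.not_ge ((Subgroup.closure_le _).2 (Set.union_subset hQA ?_))
      rintro σ ⟨h1, -, h3⟩
      exact hin σ (he.ge h1) h3
    · obtain ⟨s, hs, hsT₁⟩ := SetLike.exists_of_lt
        (CfsgLib.Subnormalizer.lt_inf_normalizer c.T_p hlt)
      refine hsT₁ ⟨hs.1, conjBy_eq_iff.1 (conjBy_eq_of_le ?_)⟩
      refine le_trans (conjBy_mono hAgen) ?_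
      rw [conjBy, MonoidHom.map_closure, Subgroup.closure_le]
      rintro _ ⟨σ, hσ | ⟨h1, -, h3⟩, rfl⟩
      · exact hQA ((Subgroup.mem_normalizer_iff.1 (c.T_le_N hs.1) σ).1 hσ)
      · exact hin _ ((Subgroup.mem_normalizer_iff.1 hs.2 σ).1 (hAT₁ h1))
          (h3.conj (hBX (c.T_le_N hs.1)))
  have hσX : σ ∈ X := c.T_le_N hσ₁.1
  have hR₁ : A < gen T₁ := lt_of_le_not_ge (hAgen.trans (hgenmono _ _ hAT₁)) fun h =>
    hσA (h (hgenσ _ σ hσ₁ hσX hσq))
  have hgenT₁ : ∀ D, D ≤ T₁ → c.Q ≤ D → gen D ≤ gen (gen D) := fun D _ _ => by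
    refine Subgroup.closure_mono ?_
    rintro τ (h | ⟨h1, h2, h3⟩)
    · exact Or.inl h
    · exact Or.inr ⟨hgenσ _ τ h1 h2 h3, h2, h3⟩
  -- `T₁` is a Sylow subgroup of `Y`
  have hT₁Y : ¬ p ∣ T₁.relIndex Y := by
    intro hd
    obtain ⟨P', hle, hP'Y, hP'p, hP'i⟩ := exists_le_not_dvd_relIndex hT₁p (hT₁HY.trans inf_le_right)
    have hlt : T₁ < P' := lt_of_le_of_ne hle fun h => hP'i (h ▸ hd)
    obtain ⟨g, hg, hgT⟩ := SetLike.exists_of_lt (CfsgLib.Subnormalizer.lt_inf_normalizer hP'p hlt)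
    have hR := hbig (gen T₁) ((hgenle _ (hQA.trans hAT₁)).trans inf_le_left) (hgenQ _)
      (hgenT₁ T₁ le_rfl (hQA.trans hAT₁)) hR₁
    have hgH : g ∈ H := hR ⟨(hP'Y hg.1).1, hgennorm _ g (hP'Y hg.1).1 hg.2⟩
    have h2 := hP₁max (T₁ ⊔ Subgroup.zpowers g)
      (hP'p.to_le (sup_le hle (Subgroup.zpowers_le.2 hg.1)))
      (sup_le hT₁HY (Subgroup.zpowers_le.2 ⟨hgH, hP'Y hg.1⟩))
    exact hgT ((Subgroup.eq_of_le_of_card_ge le_sup_left h2).ge
      (Subgroup.mem_sup_right (Subgroup.mem_zpowers g)))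
  have hT₁HYi : ¬ p ∣ T₁.relIndex (H ⊓ Y) := fun h =>
    hT₁Y (h.trans (Dvd.intro _ (Subgroup.relIndex_mul_relIndex _ _ _ hT₁HY inf_le_right)))
  -- normalizers of `p`-subgroups through `σ` lie in `H`
  have SE : ∀ D : Subgroup G, IsPGroup p D → D ≤ H ⊓ Y → A ≤ D → σ ∈ D →
      ∀ g ∈ Y, g ∈ Subgroup.normalizer (D : Set G) → g ∈ H := by
    intro D hDp hDY hAD hσD g hgY hgD
    obtain ⟨d, hd, hdT⟩ := exists_conj_le_of_not_dvd_relIndex hT₁p hT₁HY hT₁HYi hDp hDY
    set D' := conjBy d D with hD'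
    have hAD' : A ≤ D' := (conjBy_eq_iff.2 hd.2.2).ge.trans (conjBy_mono hAD)
    have hσ'A : d * σ * d⁻¹ ∉ A := fun h => hσA ((Subgroup.mem_normalizer_iff.1 hd.2.2 σ).2 h)
    have hlt : A < gen D' := lt_of_le_not_ge (hAgen.trans (hgenmono _ _ hAD')) fun h =>
      hσ'A (h (hgenσ _ _ (conj_mem_conjBy hσD) (mul_mem (mul_mem hd.2.1 hσX) (inv_mem hd.2.1))
        (hσq.conj (hBX hd.2.1))))
    have hR := hbig (gen D') ((hgenle _ (hQA.trans hAD')).trans (hdT.trans inf_le_left)) (hgenQ _)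
      (hgenT₁ D' hdT (hQA.trans hAD')) hlt
    have h1 : d * g * d⁻¹ ∈ X := mul_mem (mul_mem hd.2.1 hgY.1) (inv_mem hd.2.1)
    have h2 : d * g * d⁻¹ ∈ Subgroup.normalizer (D' : Set G) := by
      rw [hD', ← CfsgLib.Fusion.conjBy_normalizer]; exact conj_mem_conjBy hgD
    have h3 := H.mul_mem (H.mul_mem (H.inv_mem hd.1) (hR ⟨h1, hgennorm _ _ h1 h2⟩)) hd.1
    rwa [show d⁻¹ * (d * g * d⁻¹) * d = g by group] at h3
  have SEle : ∀ P : Subgroup G, IsPGroup p P → P ≤ Y → A ≤ P → σ ∈ P → P ≤ H := by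
    intro P hP hPY hAP hσP
    by_contra hno
    have hlt : P ⊓ H < P := lt_of_le_not_ge inf_le_left fun h => hno (h.trans inf_le_right)
    obtain ⟨g, hg, hgD⟩ := SetLike.exists_of_lt (CfsgLib.Subnormalizer.lt_inf_normalizer hP hlt)
    exact hgD ⟨hg.1, SE _ (hP.to_le inf_le_left) (le_inf inf_le_right (inf_le_left.trans hPY))
      (le_inf hAP (hAT.trans c.T_le_H)) ⟨hσP, c.T_le_H hσ₁.1⟩ g (hPY hg.1) hg.2⟩
  -- a conjugate of `σ` outside `H`
  have hσY : σ ∈ Y := (hT₁HY hσ₁).2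
  obtain ⟨m, hm, hmH⟩ : ∃ m ∈ Y, m * σ * m⁻¹ ∉ H := by
    by_contra hno
    push Not at hno
    set K := Subgroup.closure ({y | ∃ m ∈ Y, m * σ * m⁻¹ = y} ∪ (A : Set G)) with hK
    have hKH : K ≤ H := (Subgroup.closure_le _).2 (by
      rintro y (⟨m, hm, rfl⟩ | hy)
      · exact hno m hm
      · exact c.T_le_H (hAT hy))
    have hKY : K ≤ Y := (Subgroup.closure_le _).2 (by
      rintro y (⟨m, hm, rfl⟩ | hy)
      · exact mul_mem (mul_mem hm hσY) (inv_mem hm)
      · exact ⟨c.T_le_N (hAT hy), Subgroup.le_normalizer hy⟩)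
    have hYK : Y ≤ Subgroup.normalizer (K : Set G) := fun g hg => mem_normalizer_closure (by
      rintro y (⟨m, hm, rfl⟩ | hy)
      · exact Subgroup.subset_closure (Or.inl ⟨g * m, mul_mem hg hm, by group⟩)
      · exact Subgroup.subset_closure (Or.inr ((Subgroup.mem_normalizer_iff.1 hg.2 y).1 hy)))
    have hσK : σ ∈ K := Subgroup.subset_closure (Or.inl ⟨1, one_mem Y, by simp⟩)
    obtain ⟨j, hj⟩ := hσq.1
    have hσp : IsPGroup p (Subgroup.zpowers σ) := isPGroup_zpowers hj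
    have hR0 : IsPGroup p (Subgroup.zpowers σ ⊔ A : Subgroup G) :=
      hσp.to_sup_of_normal_right' (c.T_p.to_le hAT) (Subgroup.zpowers_le.2 hσY.2)
    obtain ⟨R, hR0R, hRK, hRp, hRi⟩ := exists_le_not_dvd_relIndex hR0
      (sup_le (Subgroup.zpowers_le.2 hσK) fun y hy => Subgroup.subset_closure (Or.inr hy))
    refine hYnot fun g hg => ?_
    obtain ⟨k, hk, hle⟩ := exists_conj_le_of_not_dvd_relIndex hRp hRK hRi (isPGroup_conjBy g hRp)
      ((conjBy_mono hRK).trans (conjBy_eq_iff.2 (hYK hg)).le)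
    have h1 : k * g ∈ H := SE R hRp (le_inf (hRK.trans hKH) (hRK.trans hKY))
      (le_sup_right.trans hR0R) (hR0R (Subgroup.mem_sup_left (Subgroup.mem_zpowers σ))) _
      (mul_mem (hKY hk) hg) (conjBy_eq_iff.1 (conjBy_eq_of_le (by rwa [← conjBy_conjBy])))
    have := mul_mem (inv_mem (hKH hk)) h1
    rwa [inv_mul_cancel_left] at this
  set b := m * σ * m⁻¹ with hb
  have hbY : b ∈ Y := mul_mem (mul_mem hm hσY) (inv_mem hm)
  have hbq : Quad p B b := hσq.conj (hBX hm.1)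
  set L := Subgroup.closure {σ, b} with hL
  have hLY : L ≤ Y := (Subgroup.closure_le _).2 (by
    rintro y (rfl | hy)
    · exact hσY
    · rw [Set.mem_singleton_iff.1 hy]; exact hbY)
  obtain ⟨j, hj⟩ := hσq.1
  obtain ⟨P, hσP, hPL, hPp, hPi⟩ := exists_le_not_dvd_relIndex (isPGroup_zpowers hj)
    (Subgroup.zpowers_le.2 (Subgroup.subset_closure (Or.inl rfl)) : Subgroup.zpowers σ ≤ L)
  have hσP' : σ ∈ P := hσP (Subgroup.mem_zpowers σ)
  have hPY : P ≤ Y := hPL.trans hLY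
  have hAY : A ≤ Y := hAT₁.trans (hT₁HY.trans inf_le_right)
  have hAp : IsPGroup p A := c.T_p.to_le hAT
  have hover : ∀ P' : Subgroup G, IsPGroup p P' → P' ≤ Y → σ ∈ P' →
      P' ≤ H ∧ ∀ g ∈ Y, g ∈ Subgroup.normalizer (P' : Set G) → g ∈ H := by
    intro P' hP' hP'Y hσ'
    have hR := hP'.to_sup_of_normal_right' hAp (hP'Y.trans inf_le_right)
    have hRH := SEle _ hR (sup_le hP'Y hAY) le_sup_right (Subgroup.mem_sup_left hσ')
    refine ⟨le_sup_left.trans hRH, fun g hg hgP => ?_⟩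
    refine SE _ hR (le_inf hRH (sup_le hP'Y hAY)) le_sup_right (Subgroup.mem_sup_left hσ') g hg ?_
    refine conjBy_eq_iff.1 ?_
    unfold conjBy
    rw [Subgroup.map_sup, show P'.map (MulAut.conj g).toMonoidHom = P' from conjBy_eq_iff.2 hgP,
      show A.map (MulAut.conj g).toMonoidHom = A from conjBy_eq_iff.2 hg.2]
  have hPH : P ≤ H := (hover P hPp hPY hσP').1
  -- the module
  set π := QuotientGroup.mk' (Subgroup.center G) with hπ
  have hπ1 : ∀ u : G, π u = 1 ↔ u ∈ Subgroup.center G := fun u => QuotientGroup.eq_one_iff u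
  set Y₀ := (zj S ⊓ B).map π with hY₀
  have hHY₀ : ∀ g ∈ H, g ∈ X → π g ∈ Subgroup.normalizer (Y₀ : Set (G ⧸ Subgroup.center G)) := by
    intro g hgH hgX
    refine Subgroup.le_normalizer_map π (Subgroup.mem_map_of_mem π ?_)
    refine conjBy_eq_iff.1 ?_
    unfold conjBy
    rw [Subgroup.map_inf _ _ _ (MulAut.conj g).injective,
      show (zj S).map (MulAut.conj g).toMonoidHom = zj S from conjBy_eq_iff.2 hgH,
      show B.map (MulAut.conj g).toMonoidHom = B from conjBy_eq_iff.2 (hBX hgX)]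
  have hnV : ∀ g ∈ X, π g ∈ Subgroup.normalizer ((B.map π : Subgroup _) : Set (G ⧸ Subgroup.center G)) :=
    fun g hg => Subgroup.le_normalizer_map π (Subgroup.mem_map_of_mem π (hBX hg))
  obtain ⟨V₀, M₁, hMV, hV₀, hLV, hLM, hnp, y, hyY, hyV, hyM, heig⟩ :=
    exists_eigen_section hp π (B.map π) Y₀
      ⟨⟨⟨fun u v => by
        obtain ⟨u', hu, hue⟩ := u.2
        obtain ⟨v', hv, hve⟩ := v.2
        refine Subtype.ext ?_
        show (u : G ⧸ Subgroup.center G) * v = v * u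
        rw [← hue, ← hve, ← commutatorElement_eq_one_iff_mul_comm, ← map_commutatorElement, hπ1]
        exact c.comm_BB u' hu v' hv⟩⟩, by
        rintro _ ⟨u, hu, rfl⟩
        rw [← map_pow, hπ1]
        exact c.pow_B u hu⟩
      (Subgroup.map_mono inf_le_right)
      (fun h => c.x_notcentral ((hπ1 _).1 (Subgroup.mem_bot.1
        (h ▸ (⟨c.x, ⟨c.x_mem, c.x_mem_B⟩, rfl⟩ : π c.x ∈ Y₀)))))
      (a := σ) (b := b) (hnV σ hσX) (hnV b hbY.1)
      (by
        rintro _ ⟨u, hu, rfl⟩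
        rw [← map_commutatorElement, ← map_commutatorElement, hπ1]
        exact hσq.2 u hu)
      (by
        rintro _ ⟨u, hu, rfl⟩
        rw [← map_commutatorElement, ← map_commutatorElement, hπ1]
        exact hbq.2 u hu)
      P hPL hσP' hPp hPi (fun r hr => hHY₀ r (hPH hr) (hPY hr).1)
      (fun l hl hlP => by
        have hlY := hLY hl
        refine hHY₀ l ?_ hlY.1
        set P' := conjBy l P with hP'
        have hP'L : P' ≤ L := (conjBy_mono hPL).trans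
          (conjBy_eq_iff.2 (Subgroup.le_normalizer hl)).le
        have hσP'' : σ ∈ P' := mem_conjBy.2 hlP
        have hP'H := (hover P' (isPGroup_conjBy l hPp) (hP'L.trans hLY) hσP'').1
        have hi : ¬ p ∣ P.relIndex (L ⊓ H) := fun h => hPi (h.trans
          (Dvd.intro _ (Subgroup.relIndex_mul_relIndex _ _ _ (le_inf hPL hPH) inf_le_left)))
        obtain ⟨k, hk, hle⟩ := exists_conj_le_of_not_dvd_relIndex hPp (le_inf hPL hPH) hi
          (isPGroup_conjBy l hPp) (le_inf hP'L hP'H)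
        have h1 : k * l ∈ H := (hover P hPp hPY hσP').2 _ (mul_mem (hLY hk.1) hlY)
          (conjBy_eq_iff.1 (conjBy_eq_of_le (by rwa [← conjBy_conjBy])))
        have := H.mul_mem (H.inv_mem hk.2) h1
        rwa [inv_mul_cancel_left] at this)
      (by
        rintro _ ⟨z, hz, rfl⟩ hz1 ⟨-, h2⟩
        refine hmH (c.stab_mem hLoc hz.1 (fun h => hz1 ((hπ1 z).2 h))
          (fun q hq => c.comm_BQ z hz.2 q hq) hbY.1 ?_)
        rw [← hπ1, map_commutatorElement, commutatorElement_def]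
        rw [h2, mul_inv_cancel])
  -- back in `G`
  set U₁ := B ⊓ V₀.comap π with hU₁
  set U₀ := B ⊓ M₁.comap π with hU₀
  have hnorm : ∀ W : Subgroup (G ⧸ Subgroup.center G),
      (∀ l ∈ L, π l ∈ Subgroup.normalizer (W : Set _)) →
      L ≤ Subgroup.normalizer ((B ⊓ W.comap π : Subgroup G) : Set G) := by
    intro W hW l hl
    refine conjBy_eq_iff.1 (conjBy_eq_of_le (conjBy_le_iff.2 fun u hu => ?_))
    refine ⟨(Subgroup.mem_normalizer_iff.1 (hBX (hLY hl).1) u).1 hu.1, ?_⟩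
    show π (l * u * l⁻¹) ∈ W
    rw [map_mul, map_mul, map_inv]
    exact (Subgroup.mem_normalizer_iff.1 (hW l hl) _).1 hu.2
  have hU₁Q : U₁ ≤ c.Q := inf_le_left.trans c.B_le
  set L' := L ⊔ U₁ with hL'
  have hU₁n : U₁ ≤ Subgroup.normalizer (U₀ : Set G) := fun u hu =>
    conjBy_eq_iff.1 (conjBy_eq_of_le (conjBy_le_iff.2 fun v hv => by
      refine ⟨B.mul_mem (B.mul_mem hu.1 hv.1) (B.inv_mem hu.1), ?_⟩
      show π (u * v * u⁻¹) ∈ M₁
      have hc : π u * π v = π v * π u := by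
        rw [← commutatorElement_eq_one_iff_mul_comm, ← map_commutatorElement, hπ1]
        exact c.comm_BB u hu.1 v hv.1
      rw [map_mul, map_mul, map_inv, hc, mul_inv_cancel_right]
      exact hv.2))
  have hqs : ∀ s, Quad p B s → s ∈ X → s ∈ L → ∀ u ∈ U₁, ⁅s, ⁅s, u⁆⁆ ∈ U₀ := by
    intro s hs hsX hsL u hu
    have h1 : ∀ w ∈ B, ⁅s, w⁆ ∈ B := fun w hw =>
      mul_mem ((Subgroup.mem_normalizer_iff.1 (hBX hsX) w).1 hw) (inv_mem hw)
    refine ⟨h1 _ (h1 u hu.1), ?_⟩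
    show π ⁅s, ⁅s, u⁆⁆ ∈ M₁
    rw [(hπ1 _).2 (hs.2 u hu.1)]
    exact one_mem _
  obtain ⟨y₀, hy₀, hy₀e⟩ := hnp
  obtain ⟨g, hg, U, θ, ψ, hc, hUU₁, hψ, hact, e, he0, hae⟩ := exists_pair_section hp
    (X := L') (U₀ := U₀) (U₁ := U₁) (inf_le_inf_left _ (Subgroup.comap_mono hMV)) le_sup_right
    (sup_le (hnorm M₁ hLM) hU₁n)
    (sup_le (hnorm V₀ hLV) Subgroup.le_normalizer)
    (fun u hu v hv => ⟨by
      rw [commutatorElement_def]
      exact B.mul_mem (B.mul_mem (B.mul_mem hu.1 hv.1) (B.inv_mem hu.1)) (B.inv_mem hv.1), by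
      show π ⁅u, v⁆ ∈ M₁
      rw [(hπ1 _).2 (c.comm_BB u hu.1 v hv.1)]; exact one_mem _⟩)
    (fun u hu => ⟨pow_mem hu.1 p, by
      show π (u ^ p) ∈ M₁
      rw [(hπ1 _).2 (c.pow_B u hu.1)]; exact one_mem _⟩)
    (a := σ) (b := b) (Subgroup.mem_sup_left (Subgroup.subset_closure (Or.inl rfl)))
    (Subgroup.mem_sup_left (Subgroup.subset_closure (Or.inr rfl)))
    (hqs σ hσq hσX (Subgroup.subset_closure (Or.inl rfl)))
    (hqs b hbq hbY.1 (Subgroup.subset_closure (Or.inr rfl)))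
    ⟨y₀, hy₀, fun n => by
      obtain ⟨v, hv, hv'⟩ := hy₀e n
      obtain ⟨u, hu, rfl⟩ := hV₀ hv
      refine ⟨u, ⟨hu, hv⟩, fun h => hv' ?_⟩
      have h1 : π ⁅y₀ ^ p ^ n, u⁆ ∈ M₁ := h.2
      rwa [map_commutatorElement, map_pow] at h1⟩
  have hgL : g ∈ L := hg
  have hKL : Subgroup.closure {σ, g * σ * g⁻¹} ≤ L := (Subgroup.closure_le _).2 (by
    rintro z (rfl | hz)
    · exact Subgroup.subset_closure (Or.inl rfl)
    · rw [Set.mem_singleton_iff.1 hz]
      exact mul_mem (mul_mem hgL (Subgroup.subset_closure (Or.inl rfl))) (inv_mem hgL))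
  obtain ⟨P', hP'K, hP'p, hσP', hborel⟩ := exists_borel_lift ψ hψ
    ⟨σ, Subgroup.subset_closure (Or.inl rfl)⟩ ⟨j, hj⟩ he0 hae
  have hlift : ∀ D : Matrix.SpecialLinearGroup (Fin 2) (ZMod p), D.1 1 0 = 0 →
      ∃ h, h ∈ H ∧ h ∈ L ∧ Acts U θ h D := by
    intro D hD
    obtain ⟨z, hzP, hzD⟩ := hborel D hD
    exact ⟨z, (hover P' hP'p (hP'K.trans (hKL.trans hLY)) hσP').2 z (hLY (hKL z.2)) hzP, hKL z.2,
      hzD ▸ hact z⟩
  have hUB : U ≤ B := hUU₁.trans inf_le_left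
  refine ⟨involves_fOver_of_borel hp _ hc ((hUB.trans c.B_le).trans (c.Q_le_T.trans c.T_le_H))
    ((S.2.to_le c.le_S).to_le (hUB.trans c.B_le)) fun D hD => by
      obtain ⟨h, h1, -, h3⟩ := hlift D hD; exact ⟨h, h1, h3⟩, ?_⟩
  obtain ⟨k, hk⟩ := exists_primitive_root (p := p)
  have hk0 : (k : ZMod p) ≠ 0 := fun h0 => by
    rw [h0, orderOf_zero] at hk
    have := (Fact.out : p.Prime).two_le
    omega
  obtain ⟨h, hh, hhL, hhD⟩ := hlift ⟨!![(k : ZMod p), 0; 0, (k : ZMod p)⁻¹], by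
    simp [Matrix.det_fin_two, mul_inv_cancel₀ hk0]⟩ (by simp)
  obtain ⟨u, hu, hue⟩ := hc.surj ![1, 0]
  have hu₁ := hUU₁ hu
  have hσU := hae ▸ hact ⟨σ, Subgroup.subset_closure (Or.inl rfl)⟩
  have huM : π u ∉ M₁ := fun hM => by
    have := (hc.ker u hu).2 ⟨hu₁.1, hM⟩
    rw [hue] at this
    simpa using congrFun this 0
  have hσu : ⁅π σ, π u⁆ ∈ M₁ := by
    rw [← map_commutatorElement]
    have hmem : σ * u * σ⁻¹ ∈ U := (Subgroup.mem_normalizer_iff.1 hσU.1 u).1 hu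
    refine ((hc.ker _ (mul_mem hmem (inv_mem hu))).1 ?_).2
    rw [hc.add _ hmem _ (inv_mem hu), hc.map_inv hu, hσU.2 u hu, hue]
    ext i; fin_cases i <;> simp [Matrix.mulVec, dotProduct, Fin.sum_univ_two]
  have hhu : (π u ^ k)⁻¹ * (π h * π u * (π h)⁻¹) ∈ M₁ := by
    rw [← map_pow, ← map_inv, ← map_inv, ← map_mul, ← map_mul, ← map_mul]
    have hmem : h * u * h⁻¹ ∈ U := (Subgroup.mem_normalizer_iff.1 hhD.1 u).1 hu
    refine ((hc.ker _ (mul_mem (inv_mem (pow_mem hu k)) hmem)).1 ?_).2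
    rw [hc.add _ (inv_mem (pow_mem hu k)) _ hmem, hc.map_inv (pow_mem hu k), hc.map_pow hu,
      hhD.2 u hu, hue]
    ext i; fin_cases i <;> simp [Matrix.mulVec, dotProduct, Fin.sum_univ_two]
  have hkey := heig h hhL k (π u) hu₁.2 huM hσu hhu
  obtain ⟨z, hz, rfl⟩ := hyY
  refine exists_full_aut H (zj S) (isMulCommutative_zj S) (isPGroup_zj S) hh hh U₀
    (hnorm M₁ hLM hhL) (z := z) hz.1 (fun h0 => hyM h0.2) ?_ hk ?_
  · refine ⟨pow_mem hz.2 p, ?_⟩
    show π (z ^ p) ∈ M₁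
    rw [(hπ1 _).2 (c.pow_B z hz.2)]; exact one_mem _
  · refine ⟨B.mul_mem (B.inv_mem (B.pow_mem hz.2 k))
      ((Subgroup.mem_normalizer_iff.1 (hBX (hLY hhL).1) z).1 hz.2), ?_⟩
    show π ((z ^ k)⁻¹ * (h * z * h⁻¹)) ∈ M₁
    rw [map_mul, map_inv, map_pow, map_mul, map_mul, map_inv]
    exact hkey

end Setup

/-- A `p`-subgroup of `N(Z(J(S)))` over `Z(J(S))` whose normalizer is not in it. -/
theorem concl_of_conf (hp : p ≠ 2) (S : Sylow p G) (hLoc : Local S) {Q : Subgroup G}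
    (hQ : IsPGroup p Q) (hZ : zj S ≤ Q) (hH : Q ≤ hzj S)
    (hnot : ¬ Subgroup.normalizer (Q : Set G) ≤ hzj S) : Concl S :=
  let ⟨c⟩ := exists_setup S hQ hZ hH hnot
  c.concl hLoc hp

end CfsgLib.PGroup.ZJFailure
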