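import Mathlib.Algebra.Group.Subgroup.Basic
import Mathlib.Algebra.BigOperators.Group.Finset.Basic
import Mathlib.Algebra.Ring.Basic
import Mathlib.Dynamics.PeriodicPts.Defs
import Mathlib.GroupTheory.PGroup
import Mathlib.Tactic

/-!
# Two square-zero operators, and sums over orbits of a quadratic operator
-/

set_option autoImplicit false

namespace CfsgLib.PGroup.ZJFailure

/-- For an irreducible pair of square-zero operators, an operator commuting with all commuting maps
that has an eigenvector killed by the first one is scalar on its whole kernel. -/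
theorem eigen_on_fixed {I : Type*} [AddCommGroup I] (α β h : I →+ I)
    (hα : ∀ v, α (α v) = 0) (hβ : ∀ v, β (β v) = 0)
    (irr : ∀ J : AddSubgroup I, (∀ v ∈ J, α v ∈ J ∧ β v ∈ J) → J = ⊥ ∨ J = ⊤)
    (hα0 : ∃ v, α v ≠ 0)
    (hcomm : ∀ φ : I →+ I, (∀ v, φ (α v) = α (φ v)) → (∀ v, φ (β v) = β (φ v)) →
      ∀ v, φ (h v) = h (φ v))
    {e₀ : I} (he : α e₀ = 0) (he0 : e₀ ≠ 0) {k : ℕ} (hk : h e₀ = k • e₀) {u : I} (hu : α u = 0) :
    h u = k • u := by
  let Cm : AddSubgroup (I →+ I) :=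
    { carrier := {φ | (∀ v, φ (α v) = α (φ v)) ∧ ∀ v, φ (β v) = β (φ v)}
      zero_mem' := ⟨fun v => by simp, fun v => by simp⟩
      add_mem' := fun {φ χ} hφ hχ => ⟨fun v => by simp [hφ.1, hχ.1], fun v => by simp [hφ.2, hχ.2]⟩
      neg_mem' := fun {φ} hφ => ⟨fun v => by simp [hφ.1], fun v => by simp [hφ.2]⟩ }
  set γ := α.comp β + β.comp α with hγ
  have hγm : γ ∈ Cm := ⟨fun v => by simp [hγ, hα], fun v => by simp [hγ, hβ]⟩
  have hcompm : ∀ φ ∈ Cm, γ.comp φ ∈ Cm := fun φ hφ =>
    ⟨fun v => by simp [hφ.1, hγm.1], fun v => by simp [hφ.2, hγm.2]⟩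
  set U' := Cm.map (AddMonoidHom.eval e₀) with hU'
  have hU'α : ∀ v ∈ U', α v = 0 := by
    rintro _ ⟨φ, hφ, rfl⟩
    show α (φ e₀) = 0
    rw [← hφ.1, he, map_zero]
  have hU'γ : ∀ v ∈ U', γ v ∈ U' ∧ γ v = α (β v) := by
    intro v hv
    refine ⟨?_, by simp [hγ, hU'α v hv]⟩
    obtain ⟨φ, hφ, rfl⟩ := hv
    exact ⟨γ.comp φ, hcompm φ hφ, rfl⟩
  set J := U' ⊔ U'.map β with hJ
  have hJmem : ∀ v, v ∈ J ↔ ∃ x ∈ U', ∃ y ∈ U', x + β y = v := by
    intro v
    rw [hJ, AddSubgroup.mem_sup]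
    constructor
    · rintro ⟨x, hx, _, ⟨y, hy, rfl⟩, rfl⟩
      exact ⟨x, hx, y, hy, rfl⟩
    · rintro ⟨x, hx, y, hy, rfl⟩
      exact ⟨x, hx, _, ⟨y, hy, rfl⟩, rfl⟩
  have hJinv : ∀ v ∈ J, α v ∈ J ∧ β v ∈ J := by
    intro v hv
    obtain ⟨x, hx, y, hy, rfl⟩ := (hJmem v).1 hv
    constructor
    · rw [map_add, hU'α x hx, zero_add, ← (hU'γ y hy).2]
      exact (hJmem _).2 ⟨_, (hU'γ y hy).1, 0, zero_mem _, by simp⟩
    · rw [map_add, hβ, add_zero]
      exact (hJmem _).2 ⟨0, zero_mem _, x, hx, by simp⟩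
  have hJtop : J = ⊤ := by
    refine (irr J hJinv).resolve_left fun h0 => he0 ?_
    have h1 : e₀ ∈ J := AddSubgroup.mem_sup_left ⟨AddMonoidHom.id I, ⟨fun _ => rfl, fun _ => rfl⟩, rfl⟩
    rw [h0] at h1
    exact h1
  have hker : γ.ker = ⊥ := by
    refine (irr γ.ker fun v hv => ?_).resolve_right fun htop => ?_
    · rw [AddMonoidHom.mem_ker] at hv
      simp only [AddMonoidHom.mem_ker]
      exact ⟨by rw [hγm.1, hv, map_zero], by rw [hγm.2, hv, map_zero]⟩
    · obtain ⟨v, hv⟩ := hα0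
      refine hv ?_
      obtain ⟨x, hx, y, hy, rfl⟩ := (hJmem v).1 (hJtop ▸ AddSubgroup.mem_top v)
      have h1 : γ y = 0 := AddMonoidHom.mem_ker.1 (htop ▸ AddSubgroup.mem_top y)
      rw [map_add, hU'α x hx, zero_add, ← (hU'γ y hy).2, h1]
  obtain ⟨x, hx, y, hy, rfl⟩ := (hJmem u).1 (hJtop ▸ AddSubgroup.mem_top u)
  rw [map_add, hU'α x hx, zero_add, ← (hU'γ y hy).2, ← AddMonoidHom.mem_ker, hker,
    AddSubgroup.mem_bot] at hu
  subst hu
  obtain ⟨φ, hφ, rfl⟩ := hx
  rw [map_zero, add_zero]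
  show h (φ e₀) = k • φ e₀
  rw [← hcomm φ hφ.1 hφ.2, hk, map_nsmul]

/-- Along the nontrivial orbits of a permutation of `p`-power order, an equivariant function into a
module with quadratic operator sums to zero. -/
theorem sum_eq_sum_fixed {p : ℕ} [Fact p.Prime] (hp : p ≠ 2) {ι : Type*} [DecidableEq ι]
    {I : Type*} [AddCommGroup I] (hI : ∀ v : I, p • v = 0) (α : I →+ I) (hα : ∀ v, α (α v) = 0)
    (σ : Equiv.Perm ι) {n : ℕ} (hσ : σ ^ p ^ n = 1) (f : ι → I)
    (hf : ∀ c, f (σ c) = f c + α (f c)) (s : Finset ι) (hs : ∀ c, σ c ∈ s ↔ c ∈ s) :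
    ∑ c ∈ s, f c = ∑ c ∈ s with σ c = c, f c := by
  induction hk : s.card using Nat.strong_induction_on generalizing s with
  | _ m ih =>
    by_cases hall : ∀ c ∈ s, σ c = c
    · rw [Finset.filter_true_of_mem hall]
    push Not at hall
    obtain ⟨c, hc, hcne⟩ := hall
    set q := Function.minimalPeriod σ c with hq
    have hper : Function.IsPeriodicPt σ (p ^ n) c := by
      show σ^[p ^ n] c = c
      rw [← Equiv.Perm.coe_pow, hσ]; rfl
    have hqd : q ∣ p ^ n := hper.minimalPeriod_dvd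
    obtain ⟨j, -, hj⟩ := (Nat.dvd_prime_pow Fact.out).1 hqd
    have hpq : p ∣ q := by
      rcases j with _ | j
      · exfalso
        rw [pow_zero] at hj
        exact hcne (Function.minimalPeriod_eq_one_iff_isFixedPt.1 hj)
      · exact ⟨p ^ j, by rw [hj, pow_succ']⟩
    set O := (Finset.range q).image (fun i => σ^[i] c) with hO
    have hinj : Set.InjOn (fun i => σ^[i] c) (Finset.range q : Set ℕ) := by
      intro i hi i' hi' hii
      exact (Function.iterate_eq_iterate_iff_of_lt_minimalPeriod (by simpa using hi)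
        (by simpa using hi')).1 hii
    have hfi : ∀ i : ℕ, f (σ^[i] c) = f c + i • α (f c) := by
      intro i
      induction i with
      | zero => simp
      | succ i ih =>
        rw [Function.iterate_succ_apply', hf, ih, map_add, map_nsmul, hα, nsmul_zero, add_zero,
          add_assoc, succ_nsmul]
    have hOsum : ∑ x ∈ O, f x = 0 := by
      rw [hO, Finset.sum_image hinj]
      simp only [hfi, Finset.sum_add_distrib, Finset.sum_const, Finset.card_range,
        ← Finset.sum_smul]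
      have h2 : p ∣ ∑ i ∈ Finset.range q, i := by
        have h := Finset.sum_range_id_mul_two q
        have h' : p ∣ (∑ i ∈ Finset.range q, i) * 2 := h ▸ hpq.mul_right _
        refine ((Fact.out : p.Prime).dvd_mul.1 h').resolve_right fun h => hp ?_
        exact (Nat.prime_dvd_prime_iff_eq Fact.out Nat.prime_two).1 h
      obtain ⟨a, ha⟩ := hpq
      obtain ⟨b, hb⟩ := h2
      rw [hb, ha, mul_nsmul, mul_nsmul, hI, hI, smul_zero, smul_zero, add_zero]
    have hOs : O ⊆ s := by
      intro x hx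
      obtain ⟨i, -, rfl⟩ := Finset.mem_image.1 hx
      clear hx
      induction i with
      | zero => exact hc
      | succ i ih => rw [Function.iterate_succ_apply']; exact (hs _).2 ih
    have hOinv : ∀ x, σ x ∈ O ↔ x ∈ O := by
      intro x
      simp only [hO, Finset.mem_image, Finset.mem_range]
      have hq0 : 0 < q := Nat.pos_of_ne_zero fun h => by
        rw [h] at hqd; exact pow_ne_zero n (Fact.out : p.Prime).ne_zero (zero_dvd_iff.1 hqd)
      constructor
      · rintro ⟨i, hi, hix⟩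
        refine ⟨(i + (q - 1)) % q, Nat.mod_lt _ hq0, σ.injective ?_⟩
        rw [← hix, ← Function.iterate_succ_apply' σ, hq, Function.iterate_succ_apply',
          Function.iterate_mod_minimalPeriod_eq, ← Function.iterate_succ_apply' σ]
        rw [show (i + (Function.minimalPeriod σ c - 1)).succ = i + Function.minimalPeriod σ c by
          omega]
        exact Function.iterate_add_minimalPeriod_eq
      · rintro ⟨i, hi, rfl⟩
        refine ⟨(i + 1) % q, Nat.mod_lt _ hq0, ?_⟩
        rw [hq, Function.iterate_mod_minimalPeriod_eq, Function.iterate_succ_apply']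
    have hfix : ∀ x ∈ O, σ x ≠ x := by
      intro x hx hxx
      obtain ⟨i, -, rfl⟩ := Finset.mem_image.1 hx
      refine hcne ((σ.injective.iterate i) ?_)
      show σ^[i] (σ c) = σ^[i] c
      rw [← Function.iterate_succ_apply, Function.iterate_succ_apply', hxx]
    have hlt : (s \ O).card < m := by
      rw [← hk]
      exact Finset.card_lt_card (Finset.sdiff_ssubset hOs ⟨c, Finset.mem_image.2
        ⟨0, Finset.mem_range.2 (Nat.pos_of_ne_zero fun h => hcne (by
          have := hper.minimalPeriod_dvd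
          rw [← hq, h] at this
          exact absurd (zero_dvd_iff.1 this) (pow_ne_zero n (Fact.out : p.Prime).ne_zero))), rfl⟩⟩)
    have := ih _ hlt (s \ O) (fun x => by simp [hs, hOinv]) rfl
    rw [← Finset.sum_sdiff hOs, hOsum, add_zero, this]
    refine Finset.sum_congr ?_ fun _ _ => rfl
    ext x
    simp only [Finset.mem_filter, Finset.mem_sdiff]
    exact ⟨fun h => ⟨h.1.1, h.2⟩, fun h => ⟨⟨h.1, fun hx => hfix x hx h.2⟩, h.2⟩⟩

end CfsgLib.PGroup.ZJFailure
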