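import Cfsg.Agent.Lib.Qd.Section
import Cfsg.Agent.Lib.Fusion.Sylow
import Cfsg.Agent.Lib.Fusion.ThompsonComplement
import Mathlib.GroupTheory.SpecificGroups.Cyclic
import Mathlib.GroupTheory.Subgroup.Centralizer
import Mathlib.NumberTheory.Basic

/-!
# Tools for the failure of control by `Z(J(S))`

A section of order `p²` acted on by the Borel group of `SL₂(p)` gives the group `F(p)`; an eigenvector
in a section of an abelian `p`-group gives a subgroup of order `p` with a full group of automorphisms.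
-/

set_option autoImplicit false
set_option linter.style.haveILetI false

open Matrix
open scoped commutatorElement

namespace CfsgLib.PGroup.ZJFailure

open CfsgLib.Fusion (conjBy mem_conjBy conjBy_le_iff conjBy_eq_iff conjBy_eq_of_le isPGroup_conjBy
  card_conjBy exists_conj_le_of_not_dvd_relIndex exists_le_not_dvd_relIndex)
open CfsgLib.Qd (affine affine_coe affine_mul det2 ext2 up up_pow up_coe)

universe u

variable {G : Type u} [Group G] {p : ℕ}

/-- `θ` identifies `U/U₀` with the natural module. -/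
structure Coord (p : ℕ) (U₀ U : Subgroup G) (θ : G → Fin 2 → ZMod p) : Prop where
  le : U₀ ≤ U
  add : ∀ x ∈ U, ∀ y ∈ U, θ (x * y) = θ x + θ y
  ker : ∀ x ∈ U, θ x = 0 ↔ x ∈ U₀
  surj : ∀ w : Fin 2 → ZMod p, ∃ x ∈ U, θ x = w

/-- `n` normalizes `U` and acts on the section through the matrix `A`. -/
def Acts (U : Subgroup G) (θ : G → Fin 2 → ZMod p) (n : G)
    (A : Matrix.SpecialLinearGroup (Fin 2) (ZMod p)) : Prop :=
  n ∈ Subgroup.normalizer (U : Set G) ∧ ∀ u ∈ U, θ (n * u * n⁻¹) = A.1 *ᵥ θ u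

namespace Coord

variable {U₀ U : Subgroup G} {θ : G → Fin 2 → ZMod p} (hc : Coord p U₀ U θ)
include hc

theorem map_one : θ 1 = 0 := (hc.ker 1 (one_mem U)).2 (one_mem U₀)

theorem map_inv {x : G} (hx : x ∈ U) : θ x⁻¹ = -θ x := by
  refine eq_neg_of_add_eq_zero_left ?_
  rw [← hc.add _ (inv_mem hx) x hx, inv_mul_cancel, hc.map_one]

theorem map_pow {x : G} (hx : x ∈ U) (k : ℕ) : θ (x ^ k) = (k : ZMod p) • θ x := by
  induction k with
  | zero => simp [hc.map_one]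
  | succ k ih =>
    rw [pow_succ, hc.add _ (pow_mem hx k) x hx, ih, Nat.cast_succ, add_smul, one_smul]

theorem eq_of_acts {n : G} {A B : Matrix.SpecialLinearGroup (Fin 2) (ZMod p)}
    (hA : Acts U θ n A) (hB : Acts U θ n B) : A = B := by
  refine Subtype.ext (Matrix.ext_of_mulVec_single fun i => ?_)
  obtain ⟨u, hu, hθ⟩ := hc.surj (Pi.single i 1)
  rw [← hθ, ← hA.2 u hu, hB.2 u hu]

omit hc in
theorem acts_one : Acts U θ (1 : G) 1 := ⟨one_mem _, fun u _ => by simp⟩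

omit hc in
theorem acts_mul {m n : G} {A B : Matrix.SpecialLinearGroup (Fin 2) (ZMod p)}
    (hA : Acts U θ m A) (hB : Acts U θ n B) : Acts U θ (m * n) (A * B) := by
  refine ⟨mul_mem hA.1 hB.1, fun u hu => ?_⟩
  rw [show m * n * u * (m * n)⁻¹ = m * (n * u * n⁻¹) * m⁻¹ by group,
    hA.2 _ ((Subgroup.mem_normalizer_iff.1 hB.1 u).1 hu), hB.2 u hu,
    Matrix.SpecialLinearGroup.coe_mul, Matrix.mulVec_mulVec]

omit hc in
theorem acts_inv {n : G} {A : Matrix.SpecialLinearGroup (Fin 2) (ZMod p)} (hA : Acts U θ n A) :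
    Acts U θ n⁻¹ A⁻¹ := by
  refine ⟨inv_mem hA.1, fun u hu => ?_⟩
  have h1 : n⁻¹ * u * n⁻¹⁻¹ ∈ U := (Subgroup.mem_normalizer_iff.1 (inv_mem hA.1) u).1 hu
  have h2 := hA.2 _ h1
  rw [show n * (n⁻¹ * u * n⁻¹⁻¹) * n⁻¹ = u by group] at h2
  rw [h2, Matrix.mulVec_mulVec, ← Matrix.SpecialLinearGroup.coe_mul, inv_mul_cancel,
    Matrix.SpecialLinearGroup.coe_one, Matrix.one_mulVec]

end Coord

variable [Finite G] [Fact p.Prime]

theorem two_ne_zero_zmod (hp : p ≠ 2) : (2 : ZMod p) ≠ 0 := by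
  rw [show (2 : ZMod p) = ((2 : ℕ) : ZMod p) by norm_num, Ne, ZMod.natCast_eq_zero_iff]
  exact fun h => hp ((Nat.prime_dvd_prime_iff_eq Fact.out Nat.prime_two).1 h)

/-- The Borel group of `SL₂(p)` on a section inside `H` gives a section `F(p)` of `H`. -/
theorem involves_fOver_of_borel (hp : p ≠ 2) (H : Subgroup G) {U₀ U : Subgroup G}
    {θ : G → Fin 2 → ZMod p} (hc : Coord p U₀ U θ) (hUH : U ≤ H) (hUp : IsPGroup p U)
    (hψ : ∀ A : Matrix.SpecialLinearGroup (Fin 2) (ZMod p), A.1 1 0 = 0 →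
      ∃ n ∈ H, Acts U θ n A) :
    Cfsg.Involves ↥(Cfsg.fOver (ZMod p)) ↥H := by
  classical
  haveI : Fact (Nat.Prime 2) := ⟨Nat.prime_two⟩
  -- the operators
  let NB : Subgroup G :=
    { carrier := {n | n ∈ H ∧ ∃ A : Matrix.SpecialLinearGroup (Fin 2) (ZMod p),
        A.1 1 0 = 0 ∧ Acts U θ n A}
      one_mem' := ⟨one_mem H, 1, by simp, Coord.acts_one⟩
      mul_mem' := by
        rintro m n ⟨hm, A, hA0, hA⟩ ⟨hn, B, hB0, hB⟩
        exact ⟨mul_mem hm hn, A * B, by rw [CfsgLib.Qd.mul10, hA0, hB0]; ring, Coord.acts_mul hA hB⟩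
      inv_mem' := by
        rintro n ⟨hn, A, hA0, hA⟩
        exact ⟨inv_mem hn, A⁻¹, by rw [(CfsgLib.Qd.inv_entries A).2.2.1, hA0, neg_zero],
          Coord.acts_inv hA⟩ }
  have hNB : ∀ n : NB, ∃ A : Matrix.SpecialLinearGroup (Fin 2) (ZMod p),
      A.1 1 0 = 0 ∧ Acts U θ (n : G) A := fun n => n.2.2
  choose ψ₀ hψ0 hψa using hNB
  let ψ : NB →* Matrix.SpecialLinearGroup (Fin 2) (ZMod p) := MonoidHom.mk' ψ₀ fun m n =>
    hc.eq_of_acts (hψa (m * n)) (Coord.acts_mul (hψa m) (hψa n))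
  have hsurj : ∀ A : Matrix.SpecialLinearGroup (Fin 2) (ZMod p), A.1 1 0 = 0 →
      ∃ x : NB, ψ x = A := by
    intro A hA
    obtain ⟨n, hn, hna⟩ := hψ A hA
    exact ⟨⟨n, hn, A, hA, hna⟩, hc.eq_of_acts (hψa _) hna⟩
  -- a `2`-element over `-1`
  obtain ⟨t₀, ht₀⟩ := hsurj (-1) (by simp)
  obtain ⟨k, l, hl, hkl⟩ :=
    Nat.exists_eq_pow_mul_and_not_dvd (orderOf_pos t₀).ne' 2 (by norm_num)
  have hneg : ((-1 : Matrix.SpecialLinearGroup (Fin 2) (ZMod p))) ^ l = -1 :=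
    (Nat.odd_iff.2 (by omega)).neg_one_pow
  set M := (Subgroup.zpowers (-1 : Matrix.SpecialLinearGroup (Fin 2) (ZMod p))).comap ψ with hM
  haveI : (Subgroup.zpowers (-1 : Matrix.SpecialLinearGroup (Fin 2) (ZMod p))).Normal :=
    ⟨fun x hx A => by
      obtain ⟨i, rfl⟩ := Subgroup.mem_zpowers_iff.1 hx
      rw [← conj_zpow, show A * -1 * A⁻¹ = -1 by simp]
      exact zpow_mem (Subgroup.mem_zpowers _) i⟩
  set t : M := ⟨t₀ ^ l, by
    rw [hM, Subgroup.mem_comap, map_pow, ht₀, hneg]; exact Subgroup.mem_zpowers _⟩ with ht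
  have htp : IsPGroup 2 (Subgroup.zpowers t) := by
    obtain ⟨i, -, hi⟩ := (Nat.dvd_prime_pow Nat.prime_two).1
      (orderOf_dvd_of_pow_eq_one (x := t) (n := 2 ^ k) (Subtype.ext (by
        rw [SubgroupClass.coe_pow, ← pow_mul, mul_comm, ← hkl, pow_orderOf_eq_one]; rfl)))
    exact IsPGroup.of_card (n := i) (by rw [Nat.card_zpowers, hi])
  obtain ⟨T, hT⟩ := htp.exists_le_sylow
  set T' := (T : Subgroup M).map M.subtype with hT'
  set N := Subgroup.normalizer (T' : Set NB) with hN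
  have hfr : N ⊔ M = ⊤ := Sylow.normalizer_sup_eq_top T
  have htT : t₀ ^ l ∈ T' := ⟨t, hT (Subgroup.mem_zpowers t), rfl⟩
  have hψt : ψ (t₀ ^ l) = -1 := by rw [map_pow, ht₀, hneg]
  have hmN : (-1 : Matrix.SpecialLinearGroup (Fin 2) (ZMod p)) ∈ N.map ψ :=
    ⟨_, Subgroup.le_normalizer htT, hψt⟩
  have hNsurj : ∀ A : Matrix.SpecialLinearGroup (Fin 2) (ZMod p), A.1 1 0 = 0 →
      ∃ x ∈ N, ψ x = A := by
    intro A hA
    obtain ⟨x, rfl⟩ := hsurj A hA
    have h := Subgroup.mem_map_of_mem ψ (hfr ▸ Subgroup.mem_top x : x ∈ N ⊔ M)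
    rw [Subgroup.map_sup] at h
    have h' := sup_le_sup_left (Subgroup.map_comap_le ψ _) _ h
    rw [sup_of_le_left (Subgroup.zpowers_le.2 hmN)] at h'
    exact h'
  have hint : ∀ x ∈ N, ((x : NB) : G) ∈ U → ((x : NB) : G) ∈ U₀ := by
    intro x hx hxU
    have hmem : t₀ ^ l * x * (t₀ ^ l)⁻¹ * x⁻¹ ∈ T' := by
      rw [mul_assoc, mul_assoc]
      refine mul_mem htT ?_
      rw [← mul_assoc]
      exact (Subgroup.mem_normalizer_iff.1 hx _).1 (inv_mem htT)
    have ht2 : IsPGroup 2 T' := T.2.map _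
    obtain ⟨i, hi⟩ := ht2 ⟨_, hmem⟩
    have hact := hψa (t₀ ^ l)
    rw [show ψ₀ (t₀ ^ l) = ψ (t₀ ^ l) from rfl, hψt] at hact
    set z : G := ((t₀ ^ l : NB) : G) * (x : G) * ((t₀ ^ l : NB) : G)⁻¹ * (x : G)⁻¹ with hz
    have hxc : ((t₀ ^ l : NB) : G) * (x : G) * ((t₀ ^ l : NB) : G)⁻¹ ∈ U :=
      (Subgroup.mem_normalizer_iff.1 hact.1 _).1 hxU
    have hzU : z ∈ U := mul_mem hxc (inv_mem hxU)
    obtain ⟨j, hj⟩ := hUp ⟨z, hzU⟩
    have h1 : z ^ 2 ^ i = 1 := by
      have := congrArg (fun y : T' => (((y : NB)) : G)) hi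
      simpa [hz] using this
    have h2 : z ^ p ^ j = 1 := congrArg Subtype.val hj
    have hcop : Nat.Coprime (2 ^ i) (p ^ j) := by
      refine Nat.Coprime.pow _ _ ((Nat.coprime_primes Nat.prime_two Fact.out).2 ?_)
      exact fun h => hp h.symm
    have hz1 : z = 1 := by
      have := Nat.dvd_gcd (orderOf_dvd_of_pow_eq_one h1) (orderOf_dvd_of_pow_eq_one h2)
      rw [hcop.gcd_eq_one, Nat.dvd_one] at this
      exact orderOf_eq_one_iff.1 this
    have h3 : θ z = (-1 : Matrix (Fin 2) (Fin 2) (ZMod p)) *ᵥ θ x + -θ x := by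
      rw [hz, hc.add _ hxc _ (inv_mem hxU), hc.map_inv hxU, hact.2 _ hxU]
      simp
    rw [hz1, hc.map_one, Matrix.neg_mulVec, Matrix.one_mulVec] at h3
    refine (hc.ker _ hxU).1 ?_
    have h4 : (2 : ZMod p) • θ (x : G) = 0 := by
      rw [two_smul, ← neg_eq_zero, neg_add]; exact h3.symm
    exact (smul_eq_zero.1 h4).resolve_left (two_ne_zero_zmod hp)
  let act : N →* MulAut U := U.normalizerMonoidHom.comp
    ((NB.subtype.comp N.subtype).codRestrict _ fun x => (hψa x).1)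
  have hact : ∀ (x : N) (u : U), ((act x u : U) : G) = ((x : NB) : G) * u * ((x : NB) : G)⁻¹ :=
    fun _ _ => rfl
  let f1 : U ⋊[act] N →* ↥H := SemidirectProduct.lift (Subgroup.inclusion hUH)
    (((NB.subtype.comp N.subtype)).codRestrict H fun x => (x : NB).2.1) fun x =>
    MonoidHom.ext fun u => Subtype.ext (hact x u)
  let f2 : U ⋊[act] N →* Matrix.SpecialLinearGroup (Fin 3) (ZMod p) :=
    MonoidHom.mk' (fun y => affine (ψ y.right) (θ (y.left : G))) fun y z => by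
      rw [affine_mul, SemidirectProduct.mul_left, SemidirectProduct.mul_right, Subgroup.coe_mul,
        Subgroup.coe_mul, map_mul, hc.add _ y.left.2 _ (act y.right z.left).2, hact,
        (hψa (y.right : NB)).2 _ z.left.2]
      rfl
  have hker : f1.ker ≤ f2.ker := by
    intro y hy
    have h1 : (y.left : G) * ((y.right : NB) : G) = 1 :=
      congrArg Subtype.val (MonoidHom.mem_ker.1 hy)
    have h2 : ((y.right : NB) : G) = (y.left : G)⁻¹ := eq_inv_of_mul_eq_one_right h1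
    have h4 : (y.left : G) ∈ U₀ := by
      have h3 := hint _ y.right.2 (by rw [h2]; exact inv_mem y.left.2)
      rw [h2] at h3
      exact inv_mem_iff.1 h3
    have h5 : ψ (y.right : NB) = 1 := by
      refine hc.eq_of_acts (hψa _) ⟨(hψa _).1, fun u hu => ?_⟩
      rw [h2, inv_inv, hc.add _ (mul_mem (inv_mem y.left.2) hu) _ y.left.2,
        hc.add _ (inv_mem y.left.2) _ hu, hc.map_inv y.left.2,
        (hc.ker _ y.left.2).2 h4, Matrix.SpecialLinearGroup.coe_one, Matrix.one_mulVec]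
      simp
    refine MonoidHom.mem_ker.2 (Subtype.ext ?_)
    show (affine (ψ (y.right : NB)) (θ (y.left : G))).1 = 1
    rw [affine_coe, h5, (hc.ker _ y.left.2).2 h4]
    ext i j
    fin_cases i <;> fin_cases j <;> simp
  have hrange : f2.range = Cfsg.fOver (ZMod p) := by
    refine le_antisymm ?_ ((Subgroup.closure_le _).2 ?_)
    · rintro _ ⟨y, rfl⟩
      refine Subgroup.subset_closure ?_
      show _ ∧ _ ∧ _ ∧ _
      simp [f2, affine_coe, show (ψ (y.right : NB)).1 1 0 = 0 from hψ0 _]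
    · rintro A ⟨h0, h1, h2, h3⟩
      have hd : A.1 0 0 * A.1 1 1 - A.1 0 1 * 0 = 1 := by
        have h := A.2
        rw [Matrix.det_fin_three, h0, h1, h2, h3] at h
        linear_combination h
      obtain ⟨x, hx, hxA⟩ := hNsurj ⟨!![A.1 0 0, A.1 0 1; 0, A.1 1 1], by
        simpa [Matrix.det_fin_two] using hd⟩ (by simp)
      obtain ⟨u, hu, huA⟩ := hc.surj ![A.1 0 2, A.1 1 2]
      refine ⟨⟨⟨u, hu⟩, ⟨x, hx⟩⟩, Subtype.ext ?_⟩
      show (affine (ψ x) (θ u)).1 = A.1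
      rw [affine_coe, hxA, huA]
      ext i j
      fin_cases i <;> fin_cases j <;> simp [h0, h1, h2, h3]
  let f1' := f1.rangeRestrict
  let g : f1.range →* Cfsg.fOver (ZMod p) := (MulEquiv.subgroupCongr hrange).toMonoidHom.comp
    (f1'.liftOfSurjective f1.rangeRestrict_surjective
      ⟨f2.rangeRestrict, by rwa [MonoidHom.ker_rangeRestrict, MonoidHom.ker_rangeRestrict]⟩)
  have hg : Function.Surjective g := by
    refine (MulEquiv.subgroupCongr hrange).surjective.comp fun b => ?_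
    obtain ⟨y, rfl⟩ := f2.rangeRestrict_surjective b
    exact ⟨f1' y, MonoidHom.liftOfRightInverse_comp_apply _ _ _ _ y⟩
  have hk : (g.ker.map f1.range.subtype).subgroupOf f1.range = g.ker :=
    Subgroup.comap_map_eq_self_of_injective f1.range.subtype_injective _
  haveI hn : ((g.ker.map f1.range.subtype).subgroupOf f1.range).Normal := hk.symm ▸ inferInstance
  exact ⟨f1.range, g.ker.map f1.range.subtype, hn,
    ⟨(QuotientGroup.quotientMulEquivOfEq hk).trans
      (QuotientGroup.quotientKerEquivOfSurjective g hg)⟩⟩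

/-- An eigenvector in a section lifts to an element of order `p`. -/
theorem exists_eigen_order_p {M : Type*} [AddCommGroup M] (n : ℕ) (hM : ∀ v : M, p ^ n • v = 0)
    (σ : M →+ M) {m : ℕ} (hm : ¬ p ∣ m) (hσ : ∀ v, σ^[m] v = v) (M₀ : AddSubgroup M)
    (h₀ : ∀ v ∈ M₀, σ v ∈ M₀) {z : M} (hz : z ∉ M₀) (hzp : p • z ∈ M₀) {k : ℕ}
    (hk : (k : ZMod p) ≠ 0) (hσz : σ z - k • z ∈ M₀) :
    ∃ (K : ℕ) (w : M), (K : ZMod p) = k ∧ w ≠ 0 ∧ p • w = 0 ∧ σ w = K • w := by
  classical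
  set K := k ^ p ^ n with hK
  have hKk : (K : ZMod p) = k := by rw [hK, Nat.cast_pow, ZMod.pow_card_pow]
  have hdz : ∀ a b : ℕ, (a : ZMod p) = b → a • z - b • z ∈ M₀ := by
    intro a b hab
    have h := (ZMod.intCast_eq_intCast_iff_dvd_sub (b : ℤ) (a : ℤ) p).1 (by push_cast; exact hab.symm)
    obtain ⟨c, hc⟩ := h
    rw [← natCast_zsmul z a, ← natCast_zsmul z b, ← sub_smul, hc, mul_comm, mul_zsmul,
      natCast_zsmul]
    exact zsmul_mem hzp c
  have hit : ∀ i : ℕ, σ^[i] z - k ^ i • z ∈ M₀ := by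
    intro i
    induction i with
    | zero => simp
    | succ i ih =>
      rw [Function.iterate_succ_apply', pow_succ', mul_comm k, mul_nsmul']
      have h1 : σ (σ^[i] z - k ^ i • z) ∈ M₀ := h₀ _ ih
      have h2 : k ^ i • (σ z - k • z) ∈ M₀ := nsmul_mem hσz _
      rw [map_sub, map_nsmul] at h1
      rw [nsmul_sub] at h2
      simpa using add_mem h1 h2
  have hkm : (k : ZMod p) ^ m = 1 := by
    have h := hit m
    rw [hσ] at h
    by_contra hne
    have hne' : (1 : ZMod p) - (k : ZMod p) ^ m ≠ 0 := sub_ne_zero.2 (Ne.symm hne)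
    set d : ZMod p := (1 - (k : ZMod p) ^ m)⁻¹ with hd
    have h' : d.val • (z - k ^ m • z) ∈ M₀ := nsmul_mem h _
    have he := hdz (d.val + 0) (1 + d.val * k ^ m) (by
      push_cast
      rw [add_zero, ZMod.natCast_zmod_val]
      have := inv_mul_cancel₀ hne'
      rw [← hd] at this
      linear_combination this)
    rw [add_zero, add_nsmul, one_nsmul, mul_nsmul'] at he
    rw [nsmul_sub] at h'
    have := sub_mem h' he
    refine hz ?_
    rwa [sub_sub_sub_cancel_left, add_sub_cancel_right] at this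
  have hKm : ∀ v : M, K ^ m • v = v := by
    intro v
    have h1 : (p : ℤ) ∣ (k : ℤ) ^ m - 1 := by
      rw [← ZMod.intCast_eq_intCast_iff_dvd_sub]; push_cast; exact hkm.symm
    have h2 := dvd_sub_pow_of_dvd_sub h1 n
    rw [one_pow] at h2
    obtain ⟨c, hc⟩ := h2
    have hKz : ((K ^ m : ℕ) : ℤ) = (c * p) * (p ^ n : ℕ) + 1 := by
      push_cast
      rw [hK, Nat.cast_pow, ← pow_mul, mul_comm, pow_mul]
      linear_combination hc
    rw [← natCast_zsmul v, hKz, add_zsmul, mul_zsmul, natCast_zsmul, hM, zsmul_zero,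
      one_zsmul, zero_add]
  set e := ∑ i ∈ Finset.range m, K ^ (m - 1 - i) • σ^[i] z with he
  have heσ : σ e = K • e := by
    have hs : σ e - K • e = ∑ i ∈ Finset.range m,
        (K ^ (m - (i + 1)) • σ^[i + 1] z - K ^ (m - i) • σ^[i] z) := by
      rw [Finset.sum_sub_distrib, he, map_sum, Finset.smul_sum]
      congr 1
      · refine Finset.sum_congr rfl fun i hi => ?_
        rw [map_nsmul, Function.iterate_succ_apply']
        congr 2
        have := Finset.mem_range.1 hi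
        omega
      · refine Finset.sum_congr rfl fun i hi => ?_
        have := Finset.mem_range.1 hi
        rw [← mul_nsmul', ← pow_succ', show m - 1 - i + 1 = m - i by omega]
    rw [Finset.sum_range_sub (fun i => K ^ (m - i) • σ^[i] z) m] at hs
    simp only [Nat.sub_self, pow_zero, one_nsmul, Nat.sub_zero, Function.iterate_zero, id_eq,
      hσ, hKm, sub_self] at hs
    exact sub_eq_zero.1 hs
  have he0 : e ∉ M₀ := by
    intro h
    have h1 : e - (m * K ^ (m - 1)) • z ∈ M₀ := by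
      rw [he, mul_nsmul', ← Finset.card_range m, ← Finset.sum_const, Finset.card_range,
        ← Finset.sum_sub_distrib]
      refine sum_mem fun i hi => ?_
      have h2 : K ^ (m - 1 - i) • (σ^[i] z - k ^ i • z) ∈ M₀ := nsmul_mem (hit i) _
      have h3 := hdz (K ^ (m - 1 - i) * k ^ i) (K ^ (m - 1)) (by
        push_cast
        rw [hKk, ← pow_add]
        congr 1
        have := Finset.mem_range.1 hi
        omega)
      rw [mul_nsmul'] at h3
      rw [nsmul_sub] at h2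
      simpa using add_mem h2 h3
    have h4 : (m * K ^ (m - 1)) • z ∈ M₀ := by simpa using sub_mem h h1
    have hne : ((m * K ^ (m - 1) : ℕ) : ZMod p) ≠ 0 := by
      push_cast
      rw [hKk]
      exact mul_ne_zero (fun h => hm ((ZMod.natCast_eq_zero_iff m p).1 h)) (pow_ne_zero _ hk)
    set d : ZMod p := ((m * K ^ (m - 1) : ℕ) : ZMod p)⁻¹ with hd
    have h5 := hdz (d.val * (m * K ^ (m - 1))) 1 (by
      rw [Nat.cast_mul, ZMod.natCast_zmod_val, hd, inv_mul_cancel₀ hne, Nat.cast_one])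
    rw [one_nsmul, mul_nsmul'] at h5
    exact hz (by simpa using sub_mem (nsmul_mem h4 d.val) h5)
  have hene : e ≠ 0 := fun h => he0 (h ▸ zero_mem M₀)
  have hex : ∃ j, p ^ j • e = 0 := ⟨n, hM e⟩
  obtain ⟨j, hj⟩ : ∃ j, Nat.find hex = j + 1 := by
    refine Nat.exists_eq_succ_of_ne_zero fun h0 => hene ?_
    have := Nat.find_spec hex
    rwa [h0, pow_zero, one_nsmul] at this
  refine ⟨K, p ^ j • e, hKk, Nat.find_min hex (by omega), ?_, ?_⟩
  · rw [← mul_nsmul', ← pow_succ', ← hj]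
    exact Nat.find_spec hex
  · rw [map_nsmul, heσ, ← mul_nsmul', ← mul_nsmul', mul_comm]

/-- An eigenvector in a section of an abelian `p`-group with a primitive eigenvalue gives a
subgroup of order `p` with all automorphisms induced. -/
theorem exists_full_aut (H Z : Subgroup G) (hZc : IsMulCommutative Z) (hZp : IsPGroup p Z)
    {h : G} (hh : h ∈ H) (hhZ : h ∈ Subgroup.normalizer (Z : Set G)) (Z₀ : Subgroup G)
    (hhZ₀ : h ∈ Subgroup.normalizer (Z₀ : Set G)) {z : G} (hz : z ∈ Z) (hz₀ : z ∉ Z₀)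
    (hzp : z ^ p ∈ Z₀) {k : ℕ} (hk : orderOf (k : ZMod p) = p - 1)
    (hhz : (z ^ k)⁻¹ * (h * z * h⁻¹) ∈ Z₀) :
    ∃ C : Subgroup G, C ≤ Z ∧ Nat.card C = p ∧
      (H ⊓ Subgroup.centralizer (C : Set G)).relIndex (H ⊓ Subgroup.normalizer (C : Set G)) =
        p - 1 := by
  classical
  have hp1 : 0 < p - 1 := Nat.sub_pos_of_lt (Fact.out : p.Prime).one_lt
  have hk0 : (k : ZMod p) ≠ 0 := fun h0 => by
    rw [h0, orderOf_zero] at hk; omega
  letI : CommGroup Z := { mul_comm := fun x y => hZc.is_comm.comm x y }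
  obtain ⟨n, hn⟩ := IsPGroup.iff_card.1 hZp
  -- a `p'`-element with the same eigenvalue
  obtain ⟨e, m, hm, hem⟩ :=
    Nat.exists_eq_pow_mul_and_not_dvd (orderOf_pos h).ne' p (Fact.out : p.Prime).ne_one
  set h' := h ^ p ^ e with hh'
  have hh'Z : h' ∈ Subgroup.normalizer (Z : Set G) := pow_mem hhZ _
  have hpowsec : ∀ i : ℕ, (z ^ k ^ i)⁻¹ * (h ^ i * z * (h ^ i)⁻¹) ∈ Z₀ := by
    intro i
    induction i with
    | zero => simp
    | succ i ih =>
      have hZmem : ∀ j : ℕ, h ^ j * z * (h ^ j)⁻¹ ∈ Z := fun j =>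
        (Subgroup.mem_normalizer_iff.1 (pow_mem hhZ j) z).1 hz
      have hz1 : h * z * h⁻¹ ∈ Z := (Subgroup.mem_normalizer_iff.1 hhZ z).1 hz
      have a1 : h * ((z ^ k ^ i)⁻¹ * (h ^ i * z * (h ^ i)⁻¹)) * h⁻¹ ∈ Z₀ :=
        (Subgroup.mem_normalizer_iff.1 hhZ₀ _).1 ih
      have a2 : ((z ^ k)⁻¹ * (h * z * h⁻¹)) ^ k ^ i ∈ Z₀ := pow_mem hhz _
      have hcomm : Commute (z ^ k)⁻¹ (h * z * h⁻¹) := congrArg Subtype.val
        (hZc.is_comm.comm (⟨_, inv_mem (pow_mem hz k)⟩ : Z) ⟨_, hz1⟩)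
      have a3 : ((z ^ k)⁻¹ * (h * z * h⁻¹)) ^ k ^ i =
          (z ^ k ^ (i + 1))⁻¹ * (h * z ^ k ^ i * h⁻¹) := by
        rw [hcomm.mul_pow, inv_pow, ← pow_mul, ← pow_succ', conj_pow]
      have := mul_mem (a3 ▸ a2) a1
      rw [show h ^ (i + 1) * z * (h ^ (i + 1))⁻¹ = h * (h ^ i * z * (h ^ i)⁻¹) * h⁻¹ by
        rw [pow_succ']; group]
      convert this using 1
      group
  let σ : Additive Z →+ Additive Z :=
    MonoidHom.toAdditive (MulEquiv.toMonoidHom (Z.normalizerMonoidHom ⟨h', hh'Z⟩))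
  have hσ : ∀ (v : Additive Z), (((σ v).toMul : Z) : G) = h' * ((v.toMul : Z) : G) * h'⁻¹ :=
    fun _ => rfl
  have hit : ∀ (i : ℕ) (v : Additive Z),
      (((σ^[i] v).toMul : Z) : G) = h' ^ i * ((v.toMul : Z) : G) * (h' ^ i)⁻¹ := by
    intro i v
    induction i with
    | zero => simp
    | succ i ih => rw [Function.iterate_succ_apply', hσ, ih, pow_succ']; group
  have hext : ∀ v w : Additive Z, ((v.toMul : Z) : G) = ((w.toMul : Z) : G) → v = w :=
    fun v w h => Subtype.ext h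
  have hexp : ∀ v : Additive Z, p ^ n • v = 0 := fun v => by
    rw [← hn]; exact (congrArg Additive.ofMul (pow_card_eq_one' (x := v.toMul)))
  let M₀ : AddSubgroup (Additive Z) := (Z₀.subgroupOf Z).toAddSubgroup
  have hM₀ : ∀ v : Additive Z, v ∈ M₀ ↔ ((v.toMul : Z) : G) ∈ Z₀ := fun _ => Iff.rfl
  obtain ⟨K, w, hKk, hw0, hwp, hw⟩ := exists_eigen_order_p n hexp σ hm
    (fun v => hext _ _ (by
      rw [hit, hh', ← pow_mul, ← hem, pow_orderOf_eq_one]; simp)) M₀
    (fun v hv => by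
      rw [hM₀, hσ]
      exact (Subgroup.mem_normalizer_iff.1 (pow_mem hhZ₀ _) _).1 ((hM₀ v).1 hv))
    (z := Additive.ofMul ⟨z, hz⟩) (by rw [hM₀]; exact hz₀)
    (by rw [hM₀]; simpa using hzp) (k := k ^ p ^ e)
    (by rw [Nat.cast_pow, ZMod.pow_card_pow]; exact hk0)
    (by
      rw [hM₀, sub_eq_neg_add, toMul_add, Subgroup.coe_mul, toMul_neg, Subgroup.coe_inv, hσ, toMul_nsmul,
        SubgroupClass.coe_pow]
      exact hpowsec _)
  rw [Nat.cast_pow, ZMod.pow_card_pow] at hKk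
  set c : G := ((w.toMul : Z) : G) with hc
  have hc1 : c ≠ 1 := fun h1 => hw0 (hext _ _ h1)
  have hcp : c ^ p = 1 := by
    have := congrArg (fun v : Additive Z => ((v.toMul : Z) : G)) hwp
    simpa [hc] using this
  have hcc : h' * c * h'⁻¹ = c ^ K := by
    have := congrArg (fun v : Additive Z => ((v.toMul : Z) : G)) hw
    simpa [hσ, hc] using this
  have hord : orderOf c = p := orderOf_eq_prime hcp hc1
  set C := Subgroup.zpowers c with hC
  have hcard : Nat.card C = p := by rw [hC, Nat.card_zpowers, hord]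
  refine ⟨C, Subgroup.zpowers_le.2 w.toMul.2, hcard, ?_⟩
  have hh'C : h' ∈ Subgroup.normalizer (C : Set G) := by
    refine conjBy_eq_iff.1 (conjBy_eq_of_le (conjBy_le_iff.2 fun x hx => ?_))
    obtain ⟨i, rfl⟩ := Subgroup.mem_zpowers_iff.1 hx
    rw [← conj_zpow, hcc]
    exact zpow_mem (pow_mem (Subgroup.mem_zpowers c) K) i
  set Y := H ⊓ Subgroup.normalizer (C : Set G) with hY
  let φ : Y →* MulAut C :=
    C.normalizerMonoidHom.comp (Subgroup.inclusion (inf_le_right : Y ≤ _))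
  have hker : φ.ker = (H ⊓ Subgroup.centralizer (C : Set G)).subgroupOf Y := by
    rw [← MonoidHom.comap_ker, Subgroup.normalizerMonoidHom_ker]
    ext x
    simp only [Subgroup.mem_comap, Subgroup.mem_subgroupOf, Subgroup.coe_inclusion,
      Subgroup.mem_inf]
    exact ⟨fun hx => ⟨x.2.1, hx⟩, fun hx => hx.2⟩
  rw [Subgroup.relIndex, ← hker, Subgroup.index_ker]
  refine le_antisymm ?_ ?_
  · refine (Subgroup.card_le_card_group _).trans (le_of_eq ?_)
    rw [IsCyclic.card_mulAut, hcard, Nat.totient_prime Fact.out]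
  · set y : Y := ⟨h', pow_mem hh _, hh'C⟩ with hy
    refine le_trans (le_of_eq ?_) ((Nat.card_zpowers (φ y)).ge.trans
      (Subgroup.card_le_of_le (Subgroup.zpowers_le.2 ⟨y, rfl⟩)))
    have hpw : ∀ i : ℕ, h' ^ i * c * (h' ^ i)⁻¹ = c ^ K ^ i := by
      intro i
      induction i with
      | zero => simp
      | succ i ih =>
        rw [show h' ^ (i + 1) * c * (h' ^ (i + 1))⁻¹ = h' * (h' ^ i * c * (h' ^ i)⁻¹) * h'⁻¹ by
          rw [pow_succ']; group, ih, ← conj_pow, hcc, ← pow_mul, pow_succ']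
    refine Nat.dvd_antisymm ?_ ?_
    · have h1 : orderOf (φ y) ∣ Nat.card (MulAut C) := orderOf_dvd_natCard _
      have h2 : (K : ZMod p) ^ orderOf (φ y) = 1 := by
        have h3 := DFunLike.congr_fun (pow_orderOf_eq_one (φ y)) ⟨c, Subgroup.mem_zpowers c⟩
        rw [← map_pow] at h3
        have h4 : h' ^ orderOf (φ y) * c * (h' ^ orderOf (φ y))⁻¹ = c :=
          congrArg Subtype.val h3
        rw [hpw] at h4
        have h5 : K ^ orderOf (φ y) ≡ 1 [MOD p] := by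
          rw [← hord]
          exact pow_eq_pow_iff_modEq.1 (h4.trans (pow_one c).symm)
        have := (ZMod.natCast_eq_natCast_iff _ _ p).2 h5
        simpa using this
      rw [← hk, ← hKk]
      exact orderOf_dvd_of_pow_eq_one h2
    · have h1 : orderOf (φ y) ∣ Nat.card (MulAut C) := orderOf_dvd_natCard _
      rwa [IsCyclic.card_mulAut, hcard, Nat.totient_prime Fact.out] at h1

/-- A primitive root modulo `p`. -/
theorem exists_primitive_root : ∃ k : ℕ, orderOf (k : ZMod p) = p - 1 := by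
  obtain ⟨g, hg⟩ := IsCyclic.exists_generator (α := (ZMod p)ˣ)
  refine ⟨(g : ZMod p).val, ?_⟩
  rw [ZMod.natCast_zmod_val, orderOf_units, orderOf_eq_card_of_forall_mem_zpowers hg,
    Nat.card_eq_fintype_card, ZMod.card_units]

/-- A unipotent matrix in suitable coordinates. -/
theorem exists_conj_eq_up (A : Matrix.SpecialLinearGroup (Fin 2) (ZMod p))
    (hA : (A.1 - 1) * (A.1 - 1) = 0) (hA1 : A ≠ 1) :
    ∃ (B : Matrix.SpecialLinearGroup (Fin 2) (ZMod p)) (c : ZMod p),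
      c ≠ 0 ∧ B * A * B⁻¹ = up c := by
  set M := A.1 - 1 with hM
  obtain ⟨w, hw⟩ : ∃ w, M *ᵥ w ≠ 0 := by
    by_contra hno
    push Not at hno
    refine hA1 (Subtype.ext (sub_eq_zero.1 (Matrix.ext_of_mulVec_single (N := 0) fun i => ?_)))
    rw [Matrix.zero_mulVec]
    exact hno _
  set v := M *ᵥ w with hv
  have hMv : M *ᵥ v = 0 := by rw [hv, Matrix.mulVec_mulVec, hA, Matrix.zero_mulVec]
  set d := v 0 * w 1 - w 0 * v 1 with hd
  have hd0 : d ≠ 0 := by
    intro h0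
    have key : v 1 • v = 0 ∧ v 0 • v = 0 := by
      constructor
      · have e : M *ᵥ (w 1 • v - v 1 • w) = 0 := by
          have : w 1 • v - v 1 • w = 0 := by
            ext i; fin_cases i
            · simp [Pi.sub_apply]; rw [hd] at h0; linear_combination h0
            · simp [Pi.sub_apply]; ring
          rw [this, Matrix.mulVec_zero]
        rw [Matrix.mulVec_sub, Matrix.mulVec_smul, Matrix.mulVec_smul, hMv, smul_zero, zero_sub,
          neg_eq_zero, ← hv] at e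
        exact e
      · have e : M *ᵥ (w 0 • v - v 0 • w) = 0 := by
          have : w 0 • v - v 0 • w = 0 := by
            ext i; fin_cases i
            · simp [Pi.sub_apply]; ring
            · simp [Pi.sub_apply]; rw [hd] at h0; linear_combination -h0
          rw [this, Matrix.mulVec_zero]
        rw [Matrix.mulVec_sub, Matrix.mulVec_smul, Matrix.mulVec_smul, hMv, smul_zero, zero_sub,
          neg_eq_zero, ← hv] at e
        exact e
    refine hw (funext fun i => ?_)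
    fin_cases i
    · simpa using congrFun key.2 0
    · simpa using congrFun key.1 1
  let C : Matrix.SpecialLinearGroup (Fin 2) (ZMod p) :=
    ⟨!![v 0 / d, w 0; v 1 / d, w 1], by
      rw [Matrix.det_fin_two]
      simp only [Matrix.of_apply, Matrix.cons_val', Matrix.cons_val_zero, Matrix.cons_val_one,
        Matrix.empty_val', Matrix.cons_val_fin_one]
      field_simp
      rw [hd]⟩
  refine ⟨C⁻¹, d, hd0, ?_⟩
  have e : A * C = C * up d := by
    have h1 : ∀ x, A.1 *ᵥ x = x + M *ᵥ x := fun x => by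
      rw [hM, Matrix.sub_mulVec, Matrix.one_mulVec]; abel
    have a0 := congrFun (h1 v) 0
    have a1 := congrFun (h1 v) 1
    have b0 := congrFun (h1 w) 0
    have b1 := congrFun (h1 w) 1
    rw [hMv] at a0 a1
    rw [← hv] at b0 b1
    simp [Matrix.mulVec, dotProduct, Fin.sum_univ_two] at a0 a1 b0 b1
    refine Subtype.ext ?_
    show A.1 * !![v 0 / d, w 0; v 1 / d, w 1] = !![v 0 / d, w 0; v 1 / d, w 1] * !![1, d; 0, 1]
    ext i j
    fin_cases i <;> fin_cases j <;> simp [Matrix.mul_apply, Fin.sum_univ_two] <;> field_simp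
    · linear_combination a0
    · linear_combination b0
    · linear_combination a1
    · linear_combination b1
  rw [inv_inv, mul_assoc, e, inv_mul_cancel_left]

/-- Two quadratic elements on an elementary section that generate more than a `p`-group of
operators yield a section of order `p²` on which `SL₂(p)` acts naturally, the first element upper
unitriangular. -/
theorem exists_pair_section (hp : p ≠ 2) {X U₀ U₁ : Subgroup G} (h01 : U₀ ≤ U₁) (h1X : U₁ ≤ X)
    (hX₀ : X ≤ Subgroup.normalizer (U₀ : Set G)) (hX₁ : X ≤ Subgroup.normalizer (U₁ : Set G))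
    (hcomm : ∀ x ∈ U₁, ∀ y ∈ U₁, ⁅x, y⁆ ∈ U₀) (hpow : ∀ x ∈ U₁, x ^ p ∈ U₀)
    {a b : G} (ha : a ∈ X) (hb : b ∈ X)
    (hqa : ∀ u ∈ U₁, ⁅a, ⁅a, u⁆⁆ ∈ U₀) (hqb : ∀ u ∈ U₁, ⁅b, ⁅b, u⁆⁆ ∈ U₀)
    (hy : ∃ y ∈ Subgroup.closure {a, b}, ∀ e : ℕ, ∃ u ∈ U₁, ⁅y ^ p ^ e, u⁆ ∉ U₀) :
    ∃ g ∈ Subgroup.closure {a, b}, ∃ (U : Subgroup G) (θ : G → Fin 2 → ZMod p)
      (ψ : ↥(Subgroup.closure {a, g * a * g⁻¹}) →* Matrix.SpecialLinearGroup (Fin 2) (ZMod p)),
      Coord p U₀ U θ ∧ U ≤ U₁ ∧ Function.Surjective ψ ∧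
        (∀ x : ↥(Subgroup.closure {a, g * a * g⁻¹}), Acts U θ (x : G) (ψ x)) ∧
        ∃ c : ZMod p, c ≠ 0 ∧ ψ ⟨a, Subgroup.subset_closure (Or.inl rfl)⟩ = up c := by
  classical
  haveI hn₀ : (U₀.subgroupOf X).Normal :=
    (Subgroup.normal_subgroupOf_iff_le_normalizer (h01.trans h1X)).2 hX₀
  haveI hn₁ : (U₁.subgroupOf X).Normal :=
    (Subgroup.normal_subgroupOf_iff_le_normalizer h1X).2 hX₁
  set π := QuotientGroup.mk' (U₀.subgroupOf X) with hπ
  have hone : ∀ x : X, π x = 1 ↔ (x : G) ∈ U₀ := fun x => QuotientGroup.eq_one_iff x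
  set V := (U₁.subgroupOf X).map π with hV
  haveI : V.Normal := hn₁.map _ (QuotientGroup.mk'_surjective _)
  have hVea : Cfsg.IsElementaryAbelian p V := by
    refine ⟨⟨⟨fun u v => Subtype.ext ?_⟩⟩, ?_⟩
    · obtain ⟨x, hx, hxu⟩ := u.2
      obtain ⟨y, hy, hyv⟩ := v.2
      show (u : X ⧸ U₀.subgroupOf X) * v = v * u
      rw [← hxu, ← hyv, ← commutatorElement_eq_one_iff_mul_comm, ← map_commutatorElement, hone]
      exact hcomm _ hx _ hy
    · rintro _ ⟨x, hx, rfl⟩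
      rw [← map_pow, hone]
      exact hpow _ hx
  have hnorm : ∀ q : X ⧸ U₀.subgroupOf X, q ∈ Subgroup.normalizer (V : Set (X ⧸ U₀.subgroupOf X)) :=
    fun q => by rw [Subgroup.normalizer_eq_top]; exact Subgroup.mem_top q
  have hquad : ∀ z : X, (∀ u ∈ U₁, ⁅(z : G), ⁅(z : G), u⁆⁆ ∈ U₀) →
      ⁅⁅V, Subgroup.zpowers (π z)⁆, Subgroup.zpowers (π z)⁆ = ⊥ := by
    intro z hz
    set α := π z with hα
    have hfix : ∀ v ∈ V, Commute α (α * v * α⁻¹ * v⁻¹) := by
      rintro _ ⟨x, hx, rfl⟩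
      rw [hα, ← map_inv, ← map_inv, ← map_mul, ← map_mul, ← map_mul]
      refine commutatorElement_eq_one_iff_commute.1 ?_
      rw [← map_commutatorElement, hone]
      exact hz _ hx
    have hVc : ∀ v ∈ V, ∀ i : ℕ, Commute α (α ^ i * v * (α ^ i)⁻¹ * v⁻¹) := by
      intro v hv i
      induction i with
      | zero => simp
      | succ i ih =>
        have hw : α ^ i * v * (α ^ i)⁻¹ ∈ V := (inferInstance : V.Normal).conj_mem v hv _
        have := (hfix _ hw).mul_right ih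
        rw [show α ^ (i + 1) * v * (α ^ (i + 1))⁻¹ * v⁻¹ =
          α * (α ^ i * v * (α ^ i)⁻¹) * α⁻¹ * (α ^ i * v * (α ^ i)⁻¹)⁻¹ *
            (α ^ i * v * (α ^ i)⁻¹ * v⁻¹) by rw [pow_succ']; group]
        exact this
    rw [Subgroup.commutator_eq_bot_iff_le_centralizer, Subgroup.commutator_le]
    intro v hv y hy
    obtain ⟨i, rfl⟩ := (isOfFinOrder_of_finite α).mem_powers_iff_mem_zpowers.2 hy
    refine Subgroup.mem_centralizer_iff.2 fun w hw => ?_
    obtain ⟨j, rfl⟩ := Subgroup.mem_zpowers_iff.1 hw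
    have h1 : Commute α ⁅v, α ^ i⁆ := by
      have := (hVc v hv i).inv_right
      rw [commutatorElement_def]
      simpa [mul_assoc] using this
    exact (h1.zpow_left j).eq
  obtain ⟨y, hy, hye⟩ := hy
  set a' : X := ⟨a, ha⟩
  set b' : X := ⟨b, hb⟩
  have hmap : (Subgroup.closure {a', b'}).map X.subtype = Subgroup.closure {a, b} := by
    rw [MonoidHom.map_closure, Set.image_pair]; rfl
  rw [← hmap] at hy
  obtain ⟨y', hy', rfl⟩ := hy
  obtain ⟨d, g₁, hg₁, hdK⟩ := CfsgLib.Qd.exists_naturalPair_closure hp V hVea (hnorm (π a'))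
    (hnorm (π b')) (hquad a' hqa) (hquad b' hqb)
    ⟨π y', by rw [← Set.image_pair, ← MonoidHom.map_closure]; exact ⟨y', hy', rfl⟩, fun e he => by
      obtain ⟨u, hu, hu'⟩ := hye e
      refine hu' ?_
      have h := Subgroup.mem_centralizer_iff.1 he (π ⟨u, h1X hu⟩) ⟨_, hu, rfl⟩
      rw [← map_pow] at h
      have h' := commutatorElement_eq_one_iff_mul_comm.2 h.symm
      rw [← map_commutatorElement, hone] at h'
      exact h'⟩
  rw [← Set.image_pair, ← MonoidHom.map_closure] at hg₁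
  obtain ⟨g', hg', rfl⟩ := hg₁
  set K := Subgroup.closure {a, (g' : G) * a * (g' : G)⁻¹} with hK
  have hgK : ∀ x ∈ K, x ∈ X := fun x hx =>
    ((Subgroup.closure_le _).2 (by
      rintro z (rfl | hz)
      · exact ha
      · rw [Set.mem_singleton_iff.1 hz]; exact mul_mem (mul_mem g'.2 ha) (inv_mem g'.2)) : K ≤ X) hx
  have hKim : (K.subgroupOf X).map π = d.K := by
    have hKeq : K.subgroupOf X = Subgroup.closure {a', g' * a' * g'⁻¹} := by
      refine Subgroup.map_injective X.subtype_injective ?_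
      rw [Subgroup.map_subgroupOf_eq_of_le hgK, MonoidHom.map_closure, Set.image_pair]
      rfl
    rw [hKeq, hdK, MonoidHom.map_closure, Set.image_pair, map_mul, map_mul, map_inv]
  let χ : K →* d.K := (π.comp (Subgroup.inclusion hgK)).codRestrict d.K fun x => by
    rw [← hKim]; exact ⟨⟨(x : G), hgK x x.2⟩, x.2, rfl⟩
  have hχ : Function.Surjective χ := by
    rintro ⟨q, hq⟩
    have hq' := hq
    rw [← hKim] at hq'
    obtain ⟨x, hx, rfl⟩ := hq'
    exact ⟨⟨(x : G), hx⟩, rfl⟩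
  set ψ₀ := d.ψ.comp χ with hψ₀
  -- quadratic in the coordinates
  set aK : K := ⟨a, Subgroup.subset_closure (Or.inl rfl)⟩ with haK
  have hact₀ : ∀ (x : K) (w : Fin 2 → ZMod p),
      d.ι (Multiplicative.ofAdd ((ψ₀ x).1 *ᵥ w)) =
        π ⟨x, hgK x x.2⟩ * d.ι (Multiplicative.ofAdd w) * (π ⟨x, hgK x x.2⟩)⁻¹ := fun x w =>
    (d.ι_conj (χ x) (Multiplicative.ofAdd w)).symm
  have hquadA : ((ψ₀ aK).1 - 1) * ((ψ₀ aK).1 - 1) = 0 := by
    refine Matrix.ext_of_mulVec_single fun i => ?_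
    set w : Fin 2 → ZMod p := Pi.single i 1
    have h := hquad a' hqa
    set A := (ψ₀ aK).1
    set v := d.ι (Multiplicative.ofAdd w)
    have hv : v ∈ V := d.ι_mem _
    have hfix : Commute (π a') ⁅π a', v⁆ := by
      obtain ⟨x, hx, hxv⟩ := hv
      rw [← hxv, ← map_commutatorElement]
      refine commutatorElement_eq_one_iff_commute.1 ?_
      rw [← map_commutatorElement, hone]
      exact hqa _ hx
    have e1 : d.ι (Multiplicative.ofAdd (A *ᵥ w - w)) = ⁅π a', v⁆ := by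
      rw [sub_eq_add_neg, ofAdd_add, map_mul, ofAdd_neg, map_inv, hact₀, commutatorElement_def]
    have e2 : d.ι (Multiplicative.ofAdd (A *ᵥ (A *ᵥ w - w))) =
        d.ι (Multiplicative.ofAdd (A *ᵥ w - w)) := by
      rw [hact₀, e1]
      exact hfix.mul_inv_cancel
    have e3 := Multiplicative.ofAdd.injective (d.ι_inj e2)
    rw [Matrix.zero_mulVec, ← Matrix.mulVec_mulVec, Matrix.sub_mulVec, Matrix.sub_mulVec,
      Matrix.one_mulVec, Matrix.one_mulVec, Matrix.mulVec_sub]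
    rw [Matrix.mulVec_sub] at e3
    rw [e3, sub_self]
  have hne : ψ₀ aK ≠ 1 := by
    intro h1
    have hsub : ∀ A : Matrix.SpecialLinearGroup (Fin 2) (ZMod p),
        A ∈ Subgroup.zpowers (ψ₀ ⟨_, Subgroup.subset_closure (Or.inr rfl)⟩) := by
      intro A
      obtain ⟨⟨x, hx⟩, rfl⟩ := (d.ψ_surj.comp hχ) A
      induction hx using Subgroup.closure_induction with
      | mem x hx =>
        rcases hx with rfl | hx
        · rw [show (d.ψ ∘ χ) ⟨x, _⟩ = ψ₀ aK from rfl, h1]; exact one_mem _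
        · rw [Set.mem_singleton_iff] at hx; subst hx; exact Subgroup.mem_zpowers _
      | one => show ψ₀ 1 ∈ _; rw [map_one]; exact one_mem _
      | mul x y hx hy h1 h2 => show ψ₀ (⟨x, hx⟩ * ⟨y, hy⟩) ∈ _; rw [map_mul]; exact mul_mem h1 h2
      | inv x hx h1 => show ψ₀ (⟨x, hx⟩⁻¹) ∈ _; rw [map_inv]; exact inv_mem h1
    obtain ⟨i, hi⟩ := Subgroup.mem_zpowers_iff.1 (hsub (up 1))
    obtain ⟨j, hj⟩ := Subgroup.mem_zpowers_iff.1 (hsub (CfsgLib.Qd.lo 1))
    have hcomm : up (1 : ZMod p) * CfsgLib.Qd.lo 1 = CfsgLib.Qd.lo 1 * up 1 := by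
      rw [← hi, ← hj, ← _root_.zpow_add, ← _root_.zpow_add, add_comm]
    have := congrArg (fun A : Matrix.SpecialLinearGroup (Fin 2) (ZMod p) => A.1 0 0) hcomm
    simp [CfsgLib.Qd.mul00] at this
  obtain ⟨B, c, hc0, hBc⟩ := exists_conj_eq_up _ hquadA hne
  -- the new coordinates
  let U : Subgroup G := ((d.ι.range).comap π).map X.subtype
  have hUmem : ∀ x ∈ U, ∃ hx : x ∈ X, ∃ w : Fin 2 → ZMod p,
      π ⟨x, hx⟩ = d.ι (Multiplicative.ofAdd w) := by
    rintro _ ⟨x, ⟨w, hw⟩, rfl⟩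
    exact ⟨x.2, Multiplicative.toAdd w, hw.symm⟩
  have hUmk : ∀ (x : X) (w : Fin 2 → ZMod p), π x = d.ι (Multiplicative.ofAdd w) → (x : G) ∈ U :=
    fun x w hw => ⟨x, ⟨_, hw.symm⟩, rfl⟩
  have hU₁ : U ≤ U₁ := by
    intro x hx
    obtain ⟨hxX, w, hw⟩ := hUmem x hx
    obtain ⟨y, hy, hyx⟩ := d.ι_mem (Multiplicative.ofAdd w)
    have h2 : π (y⁻¹ * ⟨x, hxX⟩) = 1 := by rw [map_mul, map_inv, hw, hyx, inv_mul_cancel]
    rw [hone] at h2
    have h3 := mul_mem (show (y : G) ∈ U₁ from hy) (h01 h2)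
    simpa using h3
  let θ₀ : G → Fin 2 → ZMod p := fun x =>
    if hx : x ∈ U then (hUmem x hx).choose_spec.choose else 0
  have hθ₀ : ∀ (x : X) (w : Fin 2 → ZMod p), π x = d.ι (Multiplicative.ofAdd w) →
      θ₀ (x : G) = w := by
    intro x w hw
    have hxU := hUmk x w hw
    simp only [θ₀, dif_pos hxU]
    exact Multiplicative.ofAdd.injective
      (d.ι_inj ((hUmem _ hxU).choose_spec.choose_spec.symm.trans hw))
  refine ⟨(g' : G), hmap ▸ Subgroup.mem_map_of_mem X.subtype hg', U, fun x => B.1 *ᵥ θ₀ x,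
    (MulAut.conj B).toMonoidHom.comp ψ₀, ⟨?_, ?_, ?_, ?_⟩, hU₁,
    (MulAut.conj B).surjective.comp (d.ψ_surj.comp hχ), fun x => ⟨?_, ?_⟩, c, hc0, hBc⟩
  · intro x hx
    exact hUmk ⟨x, h1X (h01 hx)⟩ 0 (by rw [(hone _).2 hx]; exact (map_one d.ι).symm)
  · intro x hx y hy
    obtain ⟨hxX, w, hw⟩ := hUmem x hx
    obtain ⟨hyX, v, hv⟩ := hUmem y hy
    have e : θ₀ (x * y) = w + v :=
      hθ₀ (⟨x, hxX⟩ * ⟨y, hyX⟩) (w + v) (by rw [map_mul, hw, hv, ← map_mul]; rfl)
    show B.1 *ᵥ θ₀ (x * y) = _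
    rw [hθ₀ ⟨x, hxX⟩ w hw, hθ₀ ⟨y, hyX⟩ v hv, e, Matrix.mulVec_add]
  · intro x hx
    obtain ⟨hxX, w, hw⟩ := hUmem x hx
    show B.1 *ᵥ θ₀ x = 0 ↔ _
    rw [hθ₀ ⟨x, hxX⟩ w hw, ← hone ⟨x, hxX⟩, hw]
    constructor
    · intro h
      have h' := congrArg (fun u => (B⁻¹).1 *ᵥ u) h
      simp only [Matrix.mulVec_zero, Matrix.mulVec_mulVec, ← Matrix.SpecialLinearGroup.coe_mul,
        inv_mul_cancel, Matrix.SpecialLinearGroup.coe_one, Matrix.one_mulVec] at h'
      rw [h', ofAdd_zero, map_one]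
    · intro h
      rw [show w = 0 from Multiplicative.ofAdd.injective (d.ι_inj (h.trans (map_one d.ι).symm)),
        Matrix.mulVec_zero]
  · intro w
    obtain ⟨x, hx⟩ := QuotientGroup.mk'_surjective (U₀.subgroupOf X)
      (d.ι (Multiplicative.ofAdd ((B⁻¹).1 *ᵥ w)))
    refine ⟨(x : G), hUmk x _ hx, ?_⟩
    show B.1 *ᵥ θ₀ (x : G) = w
    rw [hθ₀ x _ hx, Matrix.mulVec_mulVec, ← Matrix.SpecialLinearGroup.coe_mul, mul_inv_cancel,
      Matrix.SpecialLinearGroup.coe_one, Matrix.one_mulVec]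
  · refine conjBy_eq_iff.1 (conjBy_eq_of_le (conjBy_le_iff.2 fun u hu => ?_))
    obtain ⟨huX, w, hw⟩ := hUmem u hu
    exact hUmk (⟨x, hgK x x.2⟩ * ⟨u, huX⟩ * ⟨x, hgK x x.2⟩⁻¹) _
      (by rw [map_mul, map_mul, map_inv, hw, ← hact₀])
  · intro u hu
    obtain ⟨huX, w, hw⟩ := hUmem u hu
    show B.1 *ᵥ θ₀ ((x : G) * u * (x : G)⁻¹) = (B * ψ₀ x * B⁻¹).1 *ᵥ (B.1 *ᵥ θ₀ u)
    have e : θ₀ ((x : G) * u * (x : G)⁻¹) = (ψ₀ x).1 *ᵥ w :=
      hθ₀ (⟨x, hgK x x.2⟩ * ⟨u, huX⟩ * ⟨x, hgK x x.2⟩⁻¹) _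
      (by rw [map_mul, map_mul, map_inv, hw, ← hact₀])
    rw [hθ₀ ⟨u, huX⟩ w hw, e, Matrix.mulVec_mulVec, Matrix.mulVec_mulVec,
      ← Matrix.SpecialLinearGroup.coe_mul, ← Matrix.SpecialLinearGroup.coe_mul, inv_mul_cancel_right]

/-- A `p`-subgroup whose normalizer covers the Borel group. -/
theorem exists_borel_lift {K : Subgroup G}
    (ψ : K →* Matrix.SpecialLinearGroup (Fin 2) (ZMod p)) (hψ : Function.Surjective ψ) (a : K)
    (ha : ∃ j : ℕ, (a : G) ^ p ^ j = 1) {c : ZMod p} (hc : c ≠ 0) (hac : ψ a = up c) :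
    ∃ P : Subgroup G, P ≤ K ∧ IsPGroup p P ∧ (a : G) ∈ P ∧
      ∀ A : Matrix.SpecialLinearGroup (Fin 2) (ZMod p), A.1 1 0 = 0 →
        ∃ x : K, (x : G) ∈ Subgroup.normalizer (P : Set G) ∧ ψ x = A := by
  let Up : Subgroup (Matrix.SpecialLinearGroup (Fin 2) (ZMod p)) := Subgroup.zpowers (up 1)
  have hUp : ∀ A, A ∈ Up ↔ ∃ t, A = up t := by
    intro A
    constructor
    · intro h
      obtain ⟨i, rfl⟩ := (isOfFinOrder_of_finite (up (1 : ZMod p))).mem_powers_iff_mem_zpowers.2 h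
      exact ⟨_, up_pow 1 i⟩
    · rintro ⟨t, rfl⟩
      have h : up t = up (1 : ZMod p) ^ t.val := by rw [up_pow, mul_one, ZMod.natCast_zmod_val]
      rw [h]
      exact pow_mem (Subgroup.mem_zpowers _) _
  set U' := (Up.comap ψ).map K.subtype with hU'
  have haU' : (a : G) ∈ U' := ⟨a, (hUp _).2 ⟨c, hac⟩, rfl⟩
  have hap : IsPGroup p (Subgroup.zpowers (a : G)) := by
    obtain ⟨j, hj⟩ := ha
    obtain ⟨i, -, hi⟩ := (Nat.dvd_prime_pow Fact.out).1 (orderOf_dvd_of_pow_eq_one hj)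
    exact IsPGroup.of_card (n := i) (by rw [Nat.card_zpowers, hi])
  obtain ⟨P, haP, hPU, hP, hPi⟩ := exists_le_not_dvd_relIndex hap (Subgroup.zpowers_le.2 haU')
  have hPK : P ≤ K := hPU.trans (Subgroup.map_subtype_le _)
  have haP' : (a : G) ∈ P := haP (Subgroup.mem_zpowers _)
  have hup : ∀ t : ZMod p, ∃ x : K, (x : G) ∈ P ∧ ψ x = up t := fun t => by
    refine ⟨a ^ (t / c).val, pow_mem haP' _, ?_⟩
    rw [map_pow, hac, up_pow, ZMod.natCast_zmod_val, div_mul_cancel₀ _ hc]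
  refine ⟨P, hPK, hP, haP', fun A hA => ?_⟩
  obtain ⟨x, rfl⟩ := hψ A
  have hconj : conjBy (x : G) P ≤ U' := by
    refine conjBy_le_iff.2 fun z hz => ?_
    obtain ⟨z', hz', hzz⟩ := hPU hz
    refine ⟨x * z' * x⁻¹, ?_, by rw [← hzz]; rfl⟩
    obtain ⟨t, ht⟩ := (hUp _).1 hz'
    show ψ (x * z' * x⁻¹) ∈ Up
    rw [map_mul, map_mul, map_inv, ht]
    obtain ⟨e00, e01, e10, e11⟩ := CfsgLib.Qd.conj_up (ψ x) t
    refine (hUp _).2 ⟨(ψ x).1 0 0 ^ 2 * t, ?_⟩
    apply ext2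
    · rw [e00, hA]; simp
    · rw [e01]; simp
    · rw [e10, hA]; simp
    · rw [e11, hA]; simp
  obtain ⟨u, hu, hle⟩ := exists_conj_le_of_not_dvd_relIndex hP hPU hPi (isPGroup_conjBy _ hP) hconj
  obtain ⟨u', hu', rfl⟩ := hu
  obtain ⟨t, ht⟩ := (hUp _).1 hu'
  obtain ⟨v, hvP, hv⟩ := hup (-t)
  refine ⟨v * (u' * x), mul_mem (Subgroup.le_normalizer hvP) ?_, ?_⟩
  · refine conjBy_eq_iff.1 (conjBy_eq_of_le ?_)
    rw [Subgroup.coe_mul, ← CfsgLib.Fusion.conjBy_conjBy]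
    exact hle
  · rw [map_mul, map_mul, hv, ht, ← mul_assoc, CfsgLib.Qd.up_mul, neg_add_cancel,
      CfsgLib.Qd.up_zero, one_mul]

end CfsgLib.PGroup.ZJFailure
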