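import Cfsg.Agent.Lib.Coprime.Component
import Cfsg.Agent.Lib.Coprime.Core
import Cfsg.Agent.Lib.Coprime.Action
import Cfsg.Agent.Lib.PGroup.Isolated
import Cfsg.Agent.Lib.PGroup.Basic
import Cfsg.Agent.Lib.Invol.ExtremelyClosedTwo

/-!
# A minimal counterexample to the Z*-theorem for an odd or even prime
-/

set_option autoImplicit false

open Subgroup

namespace CfsgLib.ZpStarMinimal

universe u

variable {G : Type u} [Group G] [Finite G] {p : ℕ} [hp : Fact p.Prime] {x : G}

/-- the hypotheses on a minimal counterexample -/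
structure Setup (p : ℕ) (x : G) : Prop where
  hx : orderOf x = p
  hiso : Cfsg.IsIsolated x
  hnz : ¬ Cfsg.InZStar p x
  hmin : ∀ (H : Subgroup G) (hxH : x ∈ H), H ≠ ⊤ → Cfsg.InZStar p (⟨x, hxH⟩ : ↥H)
  hquot : ∀ (N : Subgroup G) [N.Normal], N ≠ ⊥ → Cfsg.InZStar p (QuotientGroup.mk x : G ⧸ N)

namespace Setup

variable (h : Setup p x)
include h

theorem isPGroup_zpowers : IsPGroup p (zpowers x) :=
  IsPGroup.of_card (n := 1) (by rw [Nat.card_zpowers, h.hx, pow_one])

theorem pPrimeCore_eq_bot : Cfsg.pPrimeCore p G = ⊥ := by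
  by_contra hne
  haveI := Coprime.pPrimeCore_characteristic (G := G) p
  refine h.hnz fun g => (QuotientGroup.eq_one_iff _).1 ?_
  have h1 := h.hquot _ hne (g : G ⧸ Cfsg.pPrimeCore p G)
  rw [Coprime.pPrimeCore_quotient_eq_bot hp.out, Subgroup.mem_bot] at h1
  simpa using h1

theorem not_central : ∃ g : G, g * x * g⁻¹ ≠ x := by
  by_contra hcon
  push Not at hcon
  refine h.hnz fun g => ?_
  rw [hcon g, mul_inv_cancel]
  exact one_mem _

theorem pCore_eq_bot : Cfsg.pCore p G = ⊥ := by
  by_contra hne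
  haveI := Coprime.pCore_normal' (G := G) p
  set P := Cfsg.pCore p G with hPd
  obtain ⟨T, hT⟩ := h.isPGroup_zpowers.exists_le_sylow
  have hxT : x ∈ (T : Subgroup G) := hT (mem_zpowers x)
  set H := centralizer (P : Set G) with hH
  have hxH : x ∈ H := mem_centralizer_iff.2 fun u hu => mem_centralizer_singleton_iff.1
    (Isolated.le_centralizer h.hiso T.2 hxT (PGroup.pCore_le_sylow T hu))
  haveI : H.Normal := inferInstance
  haveI := Coprime.pPrimeCore_characteristic (G := G ⧸ P) p
  set K₁ := (Cfsg.pPrimeCore p (G ⧸ P)).comap (QuotientGroup.mk' P) with hK₁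
  set Z := P.subgroupOf H with hZ
  have hcoreH : Cfsg.pPrimeCore p H = ⊥ := by
    have h4 := Coprime.pPrimeCore_map_subtype_eq (G := G) hp.out H
    rw [h.pPrimeCore_eq_bot, bot_inf_eq, map_eq_bot_iff_of_injective _ H.subtype_injective] at h4
    exact h4
  have hZp : IsPGroup p Z := (Coprime.pCore_isPGroup (G := G) p).comap_of_injective H.subtype H.subtype_injective
  have hq := ExtClosed.pPrimeCore_quotient_central hcoreH hZp fun z hz => mem_center_iff.2 fun w =>
    Subtype.ext (mem_centralizer_iff.1 w.2 z hz).symm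
  haveI : K₁.Normal := Subgroup.Normal.comap inferInstance _
  set M := (K₁ ⊓ H).subgroupOf H with hM
  haveI : M.Normal := inferInstance
  haveI : (M.map (QuotientGroup.mk' Z)).Normal := Subgroup.Normal.map inferInstance _ (QuotientGroup.mk'_surjective Z)
  have hMbot : M.map (QuotientGroup.mk' Z) ≤ ⊥ := by
    rw [← hq]
    refine Coprime.le_pPrimeCore (Nat.Coprime.coprime_dvd_left ?_ (Coprime.pPrimeCore_coprime (G := G ⧸ P) hp.out))
    rw [← relIndex_bot_left, ← relIndex_comap, MonoidHom.comap_bot, QuotientGroup.ker_mk', hZ, hM,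
      relIndex_subgroupOf inf_le_right, show P.relIndex (K₁ ⊓ H) = Nat.card ((K₁ ⊓ H).map (QuotientGroup.mk' P)) by
        conv_lhs => rw [← QuotientGroup.ker_mk' P, ← MonoidHom.comap_bot]
        rw [relIndex_comap, relIndex_bot_left]]
    exact card_dvd_of_le (map_le_iff_le_comap.2 inf_le_left)
  obtain ⟨g, hg⟩ := h.not_central
  have hc : g * x * g⁻¹ * x⁻¹ ∈ K₁ ⊓ H := by
    refine ⟨?_, H.mul_mem (Subgroup.Normal.conj_mem inferInstance x hxH g) (H.inv_mem hxH)⟩
    show ((g * x * g⁻¹ * x⁻¹ : G) : G ⧸ P) ∈ Cfsg.pPrimeCore p (G ⧸ P)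
    simpa using h.hquot P hne (g : G ⧸ P)
  have h1 := hMbot (mem_map_of_mem _ (show (⟨_, hc.2⟩ : H) ∈ M from hc))
  rw [Subgroup.mem_bot, QuotientGroup.mk'_apply, QuotientGroup.eq_one_iff, hZ, mem_subgroupOf] at h1
  have h2 : g * x * g⁻¹ ∈ (T : Subgroup G) := by
    simpa using (T : Subgroup G).mul_mem (PGroup.pCore_le_sylow T h1) hxT
  exact hg (Isolated.conj_eq h.hiso T.2 hxT h2)

theorem pCore_any_eq_bot (q : ℕ) [Fact q.Prime] : Cfsg.pCore q G = ⊥ := by
  by_cases hq : q = p
  · subst hq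
    exact h.pCore_eq_bot
  haveI := Coprime.pCore_normal' (G := G) q
  rw [← le_bot_iff, ← h.pPrimeCore_eq_bot]
  obtain ⟨k, hk⟩ := (Coprime.pCore_isPGroup (G := G) q).exists_card_eq
  refine Coprime.le_pPrimeCore ?_
  rw [hk]
  exact Nat.Coprime.pow_left k ((Nat.coprime_primes Fact.out hp.out).2 hq)

theorem fitting_eq_bot : Cfsg.fittingSubgroup G = ⊥ := by
  rw [Coprime.fitting_eq_iSup_pCore, ← le_bot_iff]
  exact iSup_le fun q => haveI : Fact (q : ℕ).Prime := ⟨q.2⟩; (h.pCore_any_eq_bot (q : ℕ)).le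

theorem commutator_mem {H : Subgroup G} (hxH : x ∈ H) (hH : H ≠ ⊤) {g : G} (hg : g ∈ H) :
    g * x * g⁻¹ * x⁻¹ ∈ (Cfsg.pPrimeCore p H).map H.subtype :=
  ⟨_, h.hmin H hxH hH ⟨g, hg⟩, rfl⟩

theorem eq_top_of_normal (M : Subgroup G) [M.Normal] (hxM : x ∈ M) : M = ⊤ := by
  by_contra hM
  have hc : ∀ m ∈ M, m * x * m⁻¹ = x := fun m hm => by
    have h1 := h.commutator_mem hxM hM hm
    rw [Coprime.pPrimeCore_map_subtype_eq hp.out, h.pPrimeCore_eq_bot, bot_inf_eq, Subgroup.mem_bot,
      mul_inv_eq_one] at h1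
    exact h1
  have hle : (center M).map M.subtype ≤ Cfsg.fittingSubgroup G := by
    haveI : ((center M).map M.subtype).Normal := Coprime.map_subtype_normal_of_characteristic M (center M)
    refine Coprime.le_fitting ?_
    have hab : ∀ a b : ↥((center M).map M.subtype), a * b = b * a := fun a b => by
      obtain ⟨_, a, ha, rfl⟩ := a
      obtain ⟨_, b, hb, rfl⟩ := b
      exact Subtype.ext (congrArg Subtype.val (mem_center_iff.1 hb a) :)
    letI : CommGroup ↥((center M).map M.subtype) :=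
      { (inferInstance : Group ↥((center M).map M.subtype)) with mul_comm := hab }
    exact CommGroup.isNilpotent
  have h2 := hle ⟨⟨x, hxM⟩, mem_center_iff.2 fun m => Subtype.ext (mul_inv_eq_iff_eq_mul.1 (hc m m.2)), rfl⟩
  rw [h.fitting_eq_bot, Subgroup.mem_bot] at h2
  have h3 := h.hx
  rw [show x = 1 from h2, orderOf_one] at h3
  exact hp.out.ne_one h3.symm

theorem sup_zpowers_eq_top (N : Subgroup G) [N.Normal] (hN : N ≠ ⊥) : N ⊔ zpowers x = ⊤ := by
  by_contra hH
  have hxH : x ∈ N ⊔ zpowers x := mem_sup_right (mem_zpowers x)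
  have hc : x ∈ centralizer (N : Set G) := mem_centralizer_iff.2 fun n hn => by
    set H := N ⊔ zpowers x
    have h1 := h.commutator_mem hxH hH (mem_sup_left hn : n ∈ H)
    obtain ⟨c, hc, hcv⟩ := h1
    have hcN : c ∈ N.subgroupOf H := mem_subgroupOf.2 (by
      rw [show (c : G) = n * x * n⁻¹ * x⁻¹ from hcv, show n * x * n⁻¹ * x⁻¹ = n * (x * n⁻¹ * x⁻¹) by group]
      exact N.mul_mem hn (Subgroup.Normal.conj_mem inferInstance _ (N.inv_mem hn) x))
    -- the commutator lies in a normal subgroup of order prime to `p` of `N`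
    set D := ((Cfsg.pPrimeCore p H).map H.subtype).subgroupOf N with hD
    haveI := Coprime.pPrimeCore_characteristic (G := H) p
    haveI : D.Normal := ⟨fun d hd m => by
      obtain ⟨e, he, hev⟩ := hd
      exact ⟨⟨(m : G), mem_sup_left m.2⟩ * e * ⟨(m : G), mem_sup_left m.2⟩⁻¹,
        Subgroup.Normal.conj_mem inferInstance e he _, by
          show (m : G) * (e : G) * (m : G)⁻¹ = _
          rw [show (e : G) = (d : G) from hev]; rfl⟩⟩
    have hDco : (Nat.card D).Coprime p := by
      refine Nat.Coprime.coprime_dvd_left ?_ (Coprime.pPrimeCore_coprime (G := H) hp.out)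
      rw [← card_map_of_injective (K := Cfsg.pPrimeCore p H) H.subtype_injective, hD]
      exact card_comap_dvd_of_injective _ _ N.subtype_injective
    have hDbot : Cfsg.pPrimeCore p N = ⊥ := by
      have h4 := Coprime.pPrimeCore_map_subtype_eq (G := G) hp.out N
      rw [h.pPrimeCore_eq_bot, bot_inf_eq, map_eq_bot_iff_of_injective _ N.subtype_injective] at h4
      exact h4
    have h5 : (⟨(c : G), hcN⟩ : N) ∈ D := mem_subgroupOf.2 ⟨c, hc, rfl⟩
    have h6 := hDbot.le (Coprime.le_pPrimeCore hDco h5)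
    rw [Subgroup.mem_bot] at h6
    have h7 : n * x * n⁻¹ * x⁻¹ = 1 := by rw [← hcv]; exact congrArg Subtype.val h6
    exact mul_inv_eq_iff_eq_mul.1 (mul_inv_eq_one.1 h7)
  have htop := h.eq_top_of_normal (centralizer (N : Set G)) hc
  refine hN (le_bot_iff.1 (h.fitting_eq_bot ▸ Coprime.le_fitting ?_))
  have hab : ∀ a b : N, a * b = b * a := fun a b =>
    Subtype.ext (mem_centralizer_iff.1 (htop.ge (mem_top (b : G))) a a.2)
  letI : CommGroup N := { (inferInstance : Group N) with mul_comm := hab }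
  exact CommGroup.isNilpotent

theorem commutator_le_of_normal (N : Subgroup G) [N.Normal] (hN : N ≠ ⊥) : commutator G ≤ N := by
  rw [commutator_def, commutator_le]
  have hgen : ∀ g : G, ∃ i : ℤ, (g : G ⧸ N) = (x : G ⧸ N) ^ i := by
    intro g
    have hg : g ∈ N ⊔ zpowers x := (h.sup_zpowers_eq_top N hN).ge (mem_top g)
    rw [← SetLike.mem_coe, normal_mul, Set.mem_mul] at hg
    obtain ⟨n, hn, _, ⟨i, rfl⟩, rfl⟩ := hg
    refine ⟨i, ?_⟩
    rw [QuotientGroup.mk_mul, (QuotientGroup.eq_one_iff n).2 hn, one_mul]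
    exact QuotientGroup.mk_zpow N x i
  intro a _ b _
  obtain ⟨i, hi⟩ := hgen a
  obtain ⟨j, hj⟩ := hgen b
  rw [← QuotientGroup.eq_one_iff, commutatorElement_def, QuotientGroup.mk_mul, QuotientGroup.mk_mul,
    QuotientGroup.mk_mul, QuotientGroup.mk_inv, QuotientGroup.mk_inv, hi, hj]
  group

theorem exists_component : ∃ L : Subgroup G, Cfsg.IsComponent L := by
  by_contra hcon
  push Not at hcon
  have hlay : Cfsg.layer G = ⊥ := le_bot_iff.1 (sSup_le fun M hM => absurd hM (hcon M))
  have hC := Coprime.centralizer_fitting_le_of_layer_eq_bot hlay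
  rw [h.fitting_eq_bot] at hC
  have h1 : x ∈ (⊥ : Subgroup G) := hC (mem_centralizer_iff.2 fun u hu => by
    rw [SetLike.mem_coe, Subgroup.mem_bot] at hu
    rw [hu, one_mul, mul_one])
  have h3 := h.hx
  rw [show x = 1 from h1, orderOf_one] at h3
  exact hp.out.ne_one h3.symm

theorem dvd_card_component {L : Subgroup G} (hL : Cfsg.IsComponent L) : p ∣ Nat.card L := by
  by_contra hd
  have hb := le_bot_iff.1 (h.pPrimeCore_eq_bot ▸ Coprime.le_pPrimeCore_of_isSubnormal hp.out hL.1
    (hp.out.coprime_iff_not_dvd.2 hd).symm)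
  refine Coprime.not_isSolvable_of_isComponent hL ?_
  subst hb
  infer_instance

theorem center_component {L : Subgroup G} (hL : Cfsg.IsComponent L) : center L = ⊥ := by
  apply Subgroup.map_injective L.subtype_injective
  rw [Subgroup.map_bot, ← le_bot_iff, ← h.fitting_eq_bot]
  refine Coprime.le_fitting_of_isSubnormal ((inferInstance : (center L).Normal).isSubnormal.trans' hL.1) ?_
  have hab : ∀ u v : ↥((center L).map L.subtype), u * v = v * u := fun u v => by
    obtain ⟨_, u, hu, rfl⟩ := u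
    obtain ⟨_, v, hv, rfl⟩ := v
    exact Subtype.ext (congrArg Subtype.val (mem_center_iff.1 hv u) :)
  letI : CommGroup ↥((center L).map L.subtype) :=
    { (inferInstance : Group ↥((center L).map L.subtype)) with mul_comm := hab }
  exact CommGroup.isNilpotent

theorem normalizes_component {L : Subgroup G} (hL : Cfsg.IsComponent L) : x ∈ normalizer (L : Set G) := by
  by_contra hxN
  obtain ⟨⟨a₀, ha₀⟩, hao⟩ := exists_prime_orderOf_dvd_card' (G := L) p (h.dvd_card_component hL)
  rw [orderOf_mk] at hao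
  have hap : a₀ ^ p = 1 := by rw [← hao, pow_orderOf_eq_one]
  have hxp : x ^ p = 1 := by rw [← h.hx, pow_orderOf_eq_one]
  set σ : G ≃* G := MulAut.conj x with hσ
  let Lk : ℕ → Subgroup G := fun k => L.map (MulAut.conj (x ^ k)).toMonoidHom
  let a : ℕ → G := fun k => x ^ k * a₀ * (x ^ k)⁻¹
  have ha : ∀ k, a k ∈ Lk k := fun k => ⟨a₀, ha₀, rfl⟩
  have hLk : ∀ k, Cfsg.IsComponent (Lk k) := fun k => Coprime.isComponent_map_equiv (MulAut.conj (x ^ k)) hL
  have hxk : ∀ k, x ^ k = x ^ (k % p) := fun k => by rw [← h.hx, pow_mod_orderOf]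
  have hne : ∀ k, ¬ p ∣ k → Lk k ≠ L := by
    intro k hk he
    refine hxN ?_
    have h1 : x ^ k ∈ normalizer (L : Set G) := Fusion.conjBy_eq_iff.1 he
    obtain ⟨m, hm⟩ := exists_pow_eq_self_of_coprime (x := x) (n := k) (by
      rw [h.hx]; exact (hp.out.coprime_iff_not_dvd.2 hk).symm)
    rw [← hm]
    exact pow_mem h1 m
  have hne2 : ∀ i j, i ≤ j → ¬ p ∣ (j - i) → Lk i ≠ Lk j := by
    intro i j hij hd he
    refine hne (j - i) hd ?_
    have h1 : Lk j = Fusion.conjBy (x ^ i) (Lk (j - i)) := by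
      show Fusion.conjBy (x ^ j) L = Fusion.conjBy (x ^ i) (Fusion.conjBy (x ^ (j - i)) L)
      rw [Fusion.conjBy_conjBy, ← pow_add, Nat.add_sub_cancel' hij]
    have h2 : Fusion.conjBy (x ^ i) L = Fusion.conjBy (x ^ i) (Lk (j - i)) := he.trans h1
    have h3 := congrArg (Fusion.conjBy (x ^ i)⁻¹) h2
    rw [Fusion.conjBy_inv_conjBy, Fusion.conjBy_inv_conjBy] at h3
    exact h3.symm
  have hcomm : ∀ i j, Commute (a i) (a j) := by
    suffices hs : ∀ i j, i ≤ j → Commute (a i) (a j) from fun i j => (le_total i j).elim (hs i j) fun h' => (hs j i h').symm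
    intro i j hij
    by_cases hd : p ∣ j - i
    · have : a j = a i := by
        show x ^ j * a₀ * (x ^ j)⁻¹ = x ^ i * a₀ * (x ^ i)⁻¹
        obtain ⟨m, hm⟩ := hd
        rw [show j = i + p * m by omega, pow_add, pow_mul, hxp, one_pow, mul_one]
      rw [this]
    · exact commutatorElement_eq_one_iff_mul_comm.1 ((eq_bot_iff_forall _).1
        (Coprime.components_commute (hLk i) (hLk j) (hne2 i j hij hd)) _ (commutator_mem_commutator (ha i) (ha j)))
  have hσa : ∀ k, σ (a k) = a (k + 1) := fun k => by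
    show x * (x ^ k * a₀ * (x ^ k)⁻¹) * x⁻¹ = x ^ (k + 1) * a₀ * (x ^ (k + 1))⁻¹
    rw [pow_succ']
    group
  have hper : ∀ k, a (k + p) = a k := fun k => by
    show x ^ (k + p) * a₀ * (x ^ (k + p))⁻¹ = _
    rw [pow_add, hxp, mul_one]
  -- `n k = ∏ i < k, a i ^ i` and `f k = ∏ 1 ≤ i ≤ k, a i`
  let n : ℕ → G := fun k => Nat.rec 1 (fun i r => r * a i ^ i) k
  let f : ℕ → G := fun k => Nat.rec 1 (fun i r => r * a (i + 1)) k
  have hn0 : n 0 = 1 := rfl
  have hns : ∀ k, n (k + 1) = n k * a k ^ k := fun k => rfl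
  have hf0 : f 0 = 1 := rfl
  have hfs : ∀ k, f (k + 1) = f k * a (k + 1) := fun k => rfl
  have hfc : ∀ k j, Commute (f k) (a j) := by
    intro k
    induction k with
    | zero => exact fun j => Commute.one_left _
    | succ k ih => exact fun j => by rw [hfs]; exact (ih j).mul_left (hcomm _ _)
  have key : ∀ k, n (k + 1) = σ (n k) * f k := by
    intro k
    induction k with
    | zero => simp [hns, hn0, hf0]
    | succ k ih =>
      rw [hns (k + 1)]
      conv_lhs => rw [ih]
      rw [hns k, map_mul, map_pow, hσa, hfs, pow_succ, mul_assoc (σ (n k)) (f k), ← mul_assoc (f k),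
        ((hfc k (k + 1)).pow_right k).eq]
      simp only [mul_assoc]
  have hkey : n p = σ (n p) * f p := by
    rw [← key p, hns, show a p ^ p = 1 by
      show (x ^ p * a₀ * (x ^ p)⁻¹) ^ p = 1
      rw [conj_pow, hap, mul_one, mul_inv_cancel], mul_one]
  have hfix : σ (f p) = f p := by
    have h1 : ∀ k, σ (f k) * a 1 = f k * a (k + 1) := by
      intro k
      induction k with
      | zero => simp [hf0]
      | succ k ih =>
        rw [hfs, map_mul, hσa, mul_assoc (σ (f k)), (hcomm (k + 1 + 1) 1).eq, ← mul_assoc, ih]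
    have h2 := h1 p
    rw [show p + 1 = 1 + p from add_comm _ _, hper] at h2
    exact mul_right_cancel h2
  have hf1 : f p = 1 := by
    set m := σ (n p) with hm
    have e1 : n p * x * (n p)⁻¹ = (m * f p * m⁻¹) * x := by
      calc n p * x * (n p)⁻¹ = n p * (x * (n p)⁻¹ * x⁻¹) * x := by group
        _ = n p * m⁻¹ * x := by
          rw [show x * (n p)⁻¹ * x⁻¹ = σ ((n p)⁻¹) from rfl, map_inv]
        _ = (m * f p * m⁻¹) * x := by rw [← hkey]
    have hnc : ∀ k j, Commute (n k) (a j) := by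
      intro k
      induction k with
      | zero => exact fun j => Commute.one_left _
      | succ k ih => exact fun j => by rw [hns]; exact (ih j).mul_left ((hcomm _ _).pow_left k)
    have hnf : ∀ k, Commute (n p) (f k) := by
      intro k
      induction k with
      | zero => exact Commute.one_right _
      | succ k ih => rw [hfs]; exact ih.mul_right (hnc p (k + 1))
    have hmf : Commute m (f p) := by
      have := (hnf p).map σ.toMonoidHom
      rwa [show σ.toMonoidHom (f p) = f p from hfix] at this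
    rw [hmf.eq, mul_inv_cancel_right] at e1
    have h2 : n p * x * (n p)⁻¹ = x := h.hiso (n p) (by
      rw [e1]
      refine Commute.mul_right ?_ (Commute.refl x)
      exact mul_inv_eq_iff_eq_mul.1 hfix)
    rw [e1] at h2
    exact mul_eq_right.1 h2
  -- all but the last factor centralize `L`
  obtain ⟨p₀, hp₀⟩ : ∃ p₀, p = p₀ + 1 := ⟨p - 1, by have := hp.out.pos; omega⟩
  have hrest : ∀ k ≤ p₀, f k ∈ centralizer (L : Set G) := by
    intro k
    induction k with
    | zero => exact fun _ => one_mem _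
    | succ k ih =>
      intro hk
      rw [hfs]
      refine mul_mem (ih (by omega)) ?_
      have hd : ¬ p ∣ k + 1 := fun hd => by have := Nat.le_of_dvd (by omega) hd; omega
      have hc := Coprime.components_commute (hLk (k + 1)) hL (hne _ hd)
      exact commutator_eq_bot_iff_le_centralizer.1 hc (ha (k + 1))
  rw [hp₀, hfs, ← hp₀, show a p = a₀ by
    show x ^ p * a₀ * (x ^ p)⁻¹ = a₀
    rw [hxp]; group, mul_eq_one_iff_inv_eq] at hf1
  have h9 : a₀ ∈ centralizer (L : Set G) := hf1 ▸ inv_mem (hrest p₀ le_rfl)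
  have h10 : (⟨a₀, ha₀⟩ : L) ∈ center L := mem_center_iff.2 fun w => Subtype.ext (mem_centralizer_iff.1 h9 w w.2)
  rw [h.center_component hL, Subgroup.mem_bot] at h10
  rw [show a₀ = 1 from congrArg Subtype.val h10, orderOf_one] at hao
  exact hp.out.ne_one hao.symm

theorem commutator_isSimple : IsSimpleGroup ↥(commutator G) ∧ ¬ IsMulCommutative ↥(commutator G) ∧
    commutator G ⊔ zpowers x = ⊤ := by
  obtain ⟨L, hL⟩ := h.exists_component
  haveI := Coprime.layer_normal (G := G)
  have hLne : L ≠ ⊥ := fun e => Coprime.not_isSolvable_of_isComponent hL (by subst e; infer_instance)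
  have hlay : Cfsg.layer G ≠ ⊥ := fun e => hLne (le_bot_iff.1 (e ▸ Coprime.component_le_layer hL))
  have hLn : L.Normal := normalizer_eq_top_iff.1 (top_le_iff.1 ((h.sup_zpowers_eq_top _ hlay).ge.trans
    (sup_le (Coprime.layer_le_normalizer_component hL) (zpowers_le.2 (h.normalizes_component hL)))))
  have he : commutator G = L := by
    refine le_antisymm (h.commutator_le_of_normal L hLne) ?_
    rw [← Coprime.commutator_self_of_isComponent hL, commutator_def]
    exact commutator_mono le_top le_top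
  rw [he]
  haveI := hL.2.2
  exact ⟨((QuotientGroup.quotientMulEquivOfEq (h.center_component hL)).trans QuotientGroup.quotientBot).symm.isSimpleGroup,
    fun hcomm => Coprime.not_isSolvable_of_isComponent hL (Coprime.isSolvable_of_isMulCommutative hcomm),
    h.sup_zpowers_eq_top L hLne⟩

/-- An element `x` together with a normal subgroup of order prime to `p` can be moved to the centralizer. -/
theorem exists_fix {H : Subgroup G} {g : G} (hxH : x ∈ H) (hg : g * x * g⁻¹ ∈ H) :
    ∃ r ∈ H, r * g ∈ centralizer ({x} : Set G) := by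
  obtain ⟨r, hr, he⟩ := Isolated.exists_conj_fix ⟨1, by rw [h.hx, pow_one]⟩ h.hiso hxH hg
  exact ⟨r, hr, mem_centralizer_singleton_iff.2 he⟩

theorem conj_sylow {q : ℕ} [Fact q.Prime] (S₁ S₂ : Sylow q G) (h₁ : x ∈ normalizer ((S₁ : Subgroup G) : Set G))
    (h₂ : x ∈ normalizer ((S₂ : Subgroup G) : Set G)) :
    ∃ c ∈ centralizer ({x} : Set G), (S₁ : Subgroup G).map (MulAut.conj c).toMonoidHom = (S₂ : Subgroup G) := by
  obtain ⟨g, rfl⟩ := MulAction.exists_smul_eq G S₁ S₂
  have hx2 : g⁻¹ * x * g⁻¹⁻¹ ∈ normalizer ((S₁ : Subgroup G) : Set G) := by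
    rw [inv_inv]
    refine mem_normalizer_iff.2 fun s => ?_
    have h3 := mem_normalizer_iff.1 h₂ (g * s * g⁻¹)
    have e : ∀ t : G, t ∈ ((g • S₁ : Sylow q G) : Subgroup G) ↔ g⁻¹ * t * g ∈ (S₁ : Subgroup G) := fun t =>
      Fusion.mem_conjBy
    rw [e, e, show g⁻¹ * (g * s * g⁻¹) * g = s by group] at h3
    rw [h3]
    exact iff_of_eq (congrArg (· ∈ (S₁ : Subgroup G)) (by group))
  obtain ⟨r, hr, hc⟩ := h.exists_fix h₁ hx2
  refine ⟨(r * g⁻¹)⁻¹, inv_mem hc, ?_⟩
  show Fusion.conjBy (r * g⁻¹)⁻¹ (S₁ : Subgroup G) = Fusion.conjBy g (S₁ : Subgroup G)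
  rw [show (r * g⁻¹)⁻¹ = g * r⁻¹ by group, ← Fusion.conjBy_conjBy, Fusion.conjBy_eq_iff.2 (inv_mem hr)]

end Setup

end CfsgLib.ZpStarMinimal
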